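import Mathlib
import Groth.Prelude.Def_EtRam
import Groth.Agent.Helper3.DvrEF
import Groth.Agent.Helper8.PiA

/-!
# PiC: the core computation of the third alternative of the purely inseparable trichotomy

Inside a DVR `W ⊇ B` (fraction fields `F ⊇ L`, `[F : L] ≤ p²`) containing `ϖ` with
`ϖ ^ p = u π`, `u = ∑_{i<m} f_i^p π^i + b π^m` with `b̄` not a `p`-th power, and an approximate
`p`-th root `ρ` of `π` (`ρ ^ p = π + ρ ^ ((m+2) p) β'`): then `ρ` is a uniformizer of `W` and
`[F : L] = p²`.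
-/

set_option autoImplicit false
universe u

namespace Groth.Agent.Helper8.Pi

open IsLocalRing Polynomial

section Core

variable {B W L F : Type u} [CommRing B] [IsDomain B] [IsDiscreteValuationRing B]
  [CommRing W] [IsDomain W] [IsDiscreteValuationRing W] [Algebra B W]
  [IsLocalHom (algebraMap B W)]
  [Field L] [Field F] [Algebra B L] [IsFractionRing B L] [Algebra W F] [IsFractionRing W F]
  [Algebra L F] [Algebra B F] [IsScalarTower B L F] [IsScalarTower B W F] [FiniteDimensional L F]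

omit [IsDomain B] [IsDiscreteValuationRing B] [IsLocalHom (algebraMap B W)]
  [IsDiscreteValuationRing W] in
/-- the `p`-th power computation -/
theorem pow_identity (p : ℕ) [Fact p.Prime] [CharP W p]
    (b₀ u b : B) (m : ℕ) (f : ℕ → B)
    (hu : u = ∑ i ∈ Finset.range m, f i ^ p * b₀ ^ i + b * b₀ ^ m)
    (ϖ ρ β' : W) (hϖ : ϖ ^ p = algebraMap B W (u * b₀))
    (hρ : ρ ^ p = algebraMap B W b₀ + ρ ^ ((m + 2) * p) * β') :
    ∃ g : W, (ϖ - ∑ i ∈ Finset.range m, algebraMap B W (f i) * ρ ^ (i + 1)) ^ p =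
      ρ ^ ((m + 1) * p) * (algebraMap B W b + ρ ^ p * g) := by
  classical
  set π : W := algebraMap B W b₀ with hπ
  set δ : W := ρ ^ ((m + 2) * p) * β' with hδ
  have hπρ : π - ρ ^ p = -δ := by rw [hρ]; ring
  have hh : ∀ j : ℕ, ∃ h : W, π ^ j - (ρ ^ p) ^ j = (π - ρ ^ p) * h := fun j =>
    sub_dvd_pow_sub_pow π (ρ ^ p) j
  choose h hh using hh
  have hsum : (∑ i ∈ Finset.range m, algebraMap B W (f i) * ρ ^ (i + 1)) ^ p =
      ∑ i ∈ Finset.range m, algebraMap B W (f i) ^ p * (ρ ^ p) ^ (i + 1) := by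
    rw [sum_pow_char]
    apply Finset.sum_congr rfl
    intro i _
    rw [mul_pow, ← pow_mul, ← pow_mul, mul_comm (i + 1) p]
  have hϖ' : ϖ ^ p = ∑ i ∈ Finset.range m, algebraMap B W (f i) ^ p * π ^ (i + 1) +
      algebraMap B W b * π ^ (m + 1) := by
    rw [hϖ, hu, map_mul, map_add, map_sum, add_mul, Finset.sum_mul, map_mul, map_pow]
    congr 1
    · apply Finset.sum_congr rfl
      intro i _
      rw [map_mul, map_pow, map_pow, pow_succ]
      ring
    · rw [pow_succ]; ring
  refine ⟨-(β' * (∑ i ∈ Finset.range m, algebraMap B W (f i) ^ p * h (i + 1) +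
    algebraMap B W b * h (m + 1))), ?_⟩
  rw [sub_pow_char, hsum, hϖ']
  have h1 : ∑ i ∈ Finset.range m, algebraMap B W (f i) ^ p * π ^ (i + 1) -
      ∑ i ∈ Finset.range m, algebraMap B W (f i) ^ p * (ρ ^ p) ^ (i + 1) =
      (π - ρ ^ p) * ∑ i ∈ Finset.range m, algebraMap B W (f i) ^ p * h (i + 1) := by
    rw [← Finset.sum_sub_distrib, Finset.mul_sum]
    apply Finset.sum_congr rfl
    intro i _
    rw [← mul_sub, hh (i + 1)]
    ring
  have h2 : π ^ (m + 1) = (ρ ^ p) ^ (m + 1) + (π - ρ ^ p) * h (m + 1) := by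
    rw [← hh (m + 1)]; ring
  have h3 : ρ ^ ((m + 2) * p) = ρ ^ ((m + 1) * p) * ρ ^ p := by
    rw [← pow_add]; congr 1; ring
  have h4 : (ρ ^ p) ^ (m + 1) = ρ ^ ((m + 1) * p) := by
    rw [← pow_mul, mul_comm]
  calc ∑ i ∈ Finset.range m, algebraMap B W (f i) ^ p * π ^ (i + 1) +
        algebraMap B W b * π ^ (m + 1) -
        ∑ i ∈ Finset.range m, algebraMap B W (f i) ^ p * (ρ ^ p) ^ (i + 1)
      = (∑ i ∈ Finset.range m, algebraMap B W (f i) ^ p * π ^ (i + 1) -
        ∑ i ∈ Finset.range m, algebraMap B W (f i) ^ p * (ρ ^ p) ^ (i + 1)) +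
        algebraMap B W b * π ^ (m + 1) := by ring
    _ = (π - ρ ^ p) * ∑ i ∈ Finset.range m, algebraMap B W (f i) ^ p * h (i + 1) +
        algebraMap B W b * ((ρ ^ p) ^ (m + 1) + (π - ρ ^ p) * h (m + 1)) := by rw [h1, ← h2]
    _ = ρ ^ ((m + 1) * p) * (algebraMap B W b + ρ ^ p *
        -(β' * (∑ i ∈ Finset.range m, algebraMap B W (f i) ^ p * h (i + 1) +
          algebraMap B W b * h (m + 1)))) := by
      rw [hπρ, hδ, h3, h4]
      ring

include L F in
/-- the core statement -/
theorem core (p : ℕ) (hp : p.Prime) [CharP W p] (hinj : Function.Injective (algebraMap B W))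
    (hle : Module.finrank L F ≤ p * p)
    (b₀ : B) (hb₀ : Irreducible b₀) (u b : B) (m : ℕ) (f : ℕ → B)
    (hu : u = ∑ i ∈ Finset.range m, f i ^ p * b₀ ^ i + b * b₀ ^ m)
    (hb : ∀ y : B, residue B b ≠ residue B y ^ p)
    (ϖ ρ β' : W) (hϖ : ϖ ^ p = algebraMap B W (u * b₀))
    (hρ : ρ ^ p = algebraMap B W b₀ + ρ ^ ((m + 2) * p) * β')
    (hρm : ρ ∈ maximalIdeal W) :
    Irreducible ρ ∧ Module.finrank L F = p * p := by
  classical
  haveI : Fact p.Prime := ⟨hp⟩
  have hπ0 : algebraMap B W b₀ ≠ 0 := (map_ne_zero_iff _ hinj).2 hb₀.ne_zero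
  have hρ0 : ρ ≠ 0 := by
    rintro rfl
    rw [zero_pow hp.ne_zero, zero_pow (Nat.mul_ne_zero (by omega) hp.ne_zero), zero_mul,
      add_zero] at hρ
    exact hπ0 hρ.symm
  -- the element `θ`
  obtain ⟨g, hg⟩ := pow_identity p b₀ u b m f hu ϖ ρ β' hϖ hρ
  have hdvd : ρ ^ (m + 1) ∣ ϖ - ∑ i ∈ Finset.range m, algebraMap B W (f i) * ρ ^ (i + 1) := by
    rw [← IsIntegrallyClosed.pow_dvd_pow_iff hp.ne_zero, hg, ← pow_mul]
    exact Dvd.intro _ rfl
  obtain ⟨θ, hθ⟩ := hdvd
  have hθp : θ ^ p = algebraMap B W b + ρ ^ p * g := by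
    have h1 : ρ ^ ((m + 1) * p) * θ ^ p = ρ ^ ((m + 1) * p) * (algebraMap B W b + ρ ^ p * g) := by
      rw [← hg, hθ, mul_pow, ← pow_mul]
    exact mul_left_cancel₀ (pow_ne_zero _ hρ0) h1
  -- residues
  have hres : residue W θ ^ p = algebraMap (ResidueField B) (ResidueField W) (residue B b) := by
    rw [← map_pow, hθp, map_add, map_mul, map_pow]
    have : residue W ρ = 0 := (residue_eq_zero_iff ρ).2 hρm
    rw [this, zero_pow hp.ne_zero, zero_mul, add_zero]
    rfl
  obtain ⟨hfin, hef⟩ := Groth.Agent.Helper3.DvrEF.main B W L F hinj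
  haveI := hfin
  have hf : p ≤ Module.finrank (ResidueField B) (ResidueField W) := by
    have hnp : ∀ y : ResidueField B, y ^ p ≠ residue B b := by
      intro y
      obtain ⟨y', rfl⟩ := residue_surjective y
      exact fun h => hb y' h.symm
    have hirr : Irreducible (X ^ p - C (residue B b) : (ResidueField B)[X]) :=
      X_pow_sub_C_irreducible_of_prime hp hnp
    have hroot : aeval (residue W θ) (X ^ p - C (residue B b) : (ResidueField B)[X]) = 0 := by
      rw [map_sub, map_pow, aeval_X, aeval_C, hres, sub_self]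
    have hmin := minpoly.eq_of_irreducible_of_monic hirr hroot
      (monic_X_pow_sub_C _ hp.ne_zero)
    have := minpoly.natDegree_le (A := ResidueField B) (residue W θ)
    rwa [← hmin, natDegree_X_pow_sub_C] at this
  -- the ramification index
  obtain ⟨he0, hmap⟩ := Groth.Agent.Helper3.DvrEF.map_eq_pow B W hinj
  set e' := Ideal.ramificationIdx' (maximalIdeal B) (maximalIdeal W) with he'
  obtain ⟨ϖW, hϖW⟩ := IsDiscreteValuationRing.exists_irreducible W
  obtain ⟨a, ha⟩ := IsDiscreteValuationRing.associated_pow_irreducible hρ0 hϖW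
  -- `π = ρ ^ p * unit`
  have hunit : IsUnit (1 - ρ ^ ((m + 1) * p) * β') := by
    have hmem : ρ ^ ((m + 1) * p) * β' ∈ maximalIdeal W :=
      Ideal.mul_mem_right _ _
        (Ideal.pow_mem_of_mem _ hρm _ (Nat.mul_pos (Nat.succ_pos m) hp.pos))
    by_contra hnu
    have h1 : (1 - ρ ^ ((m + 1) * p) * β') ∈ maximalIdeal W := hnu
    have h2 : (1 : W) ∈ maximalIdeal W := by
      have := Ideal.add_mem _ h1 hmem
      rwa [sub_add_cancel] at this
    exact (maximalIdeal.isMaximal W).ne_top ((Ideal.eq_top_iff_one _).2 h2)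
  have hπρ : algebraMap B W b₀ = ρ ^ p * (1 - ρ ^ ((m + 1) * p) * β') := by
    have h3 : ρ ^ ((m + 2) * p) = ρ ^ p * ρ ^ ((m + 1) * p) := by
      rw [← pow_add]; congr 1; ring
    have : algebraMap B W b₀ = ρ ^ p - ρ ^ ((m + 2) * p) * β' := by rw [hρ]; ring
    rw [this, h3]; ring
  have hassoc : Associated (algebraMap B W b₀) (ϖW ^ (a * p)) := by
    rw [hπρ]
    refine (associated_mul_unit_left _ _ hunit).trans ?_
    rw [pow_mul]
    exact ha.pow_pow
  -- `m_W ^ e' = m_W ^ (a p)`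
  have he'eq : e' = a * p := by
    have h1 : (maximalIdeal B).map (algebraMap B W) = Ideal.span {algebraMap B W b₀} := by
      rw [hb₀.maximalIdeal_eq, Ideal.map_span, Set.image_singleton]
    have h2 : Ideal.span {algebraMap B W b₀} = Ideal.span {ϖW ^ (a * p)} :=
      Ideal.span_singleton_eq_span_singleton.2 hassoc
    have h3 : Ideal.span {ϖW ^ e'} = Ideal.span {ϖW ^ (a * p)} := by
      rw [← h2, ← h1, hmap, hϖW.maximalIdeal_eq, Ideal.span_singleton_pow]
    obtain ⟨v, hv⟩ := Ideal.span_singleton_eq_span_singleton.1 h3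
    refine IsDiscreteValuationRing.unit_mul_pow_congr_pow hϖW hϖW v 1 e' (a * p) ?_
    rw [Units.val_one, one_mul, ← hv, mul_comm]
  have ha0 : a ≠ 0 := by
    rintro rfl
    rw [pow_zero] at ha
    have : IsUnit ρ := ha.symm.isUnit isUnit_one
    exact (mem_maximalIdeal ρ).1 hρm this
  have hppos := hp.pos
  have hchain : a * p * p ≤ p * p := by
    calc a * p * p ≤ a * p * Module.finrank (ResidueField B) (ResidueField W) :=
          Nat.mul_le_mul_left _ hf
      _ = e' * Module.finrank (ResidueField B) (ResidueField W) := by rw [he'eq]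
      _ ≤ Module.finrank L F := hef
      _ ≤ p * p := hle
  have ha1 : a = 1 := by
    have hpp : 0 < p * p := Nat.mul_pos hppos hppos
    have : a ≤ 1 := by
      by_contra h
      push_neg at h
      have : 2 * (p * p) ≤ a * (p * p) := Nat.mul_le_mul_right _ h
      nlinarith
    omega
  refine ⟨?_, ?_⟩
  · rw [ha1, pow_one] at ha
    exact ha.symm.irreducible hϖW
  · apply le_antisymm hle
    calc p * p = a * p * p := by rw [ha1, one_mul]
      _ ≤ a * p * Module.finrank (ResidueField B) (ResidueField W) :=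
          Nat.mul_le_mul_left _ hf
      _ = e' * Module.finrank (ResidueField B) (ResidueField W) := by rw [he'eq]
      _ ≤ Module.finrank L F := hef

end Core

end Groth.Agent.Helper8.Pi
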