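import Mathlib
import Groth.Prelude.Def_EtRam
import Groth.Prelude.Def_Found
import Groth.Agent.Helper7.TotRamH
import Groth.Agent.Helper8.PiA
import Groth.Agent.Helper8.PiB
import Groth.Agent.Helper8.PiC
import Groth.Agent.S7157

/-!
# PiD: the third alternative of the purely inseparable trichotomy, and the trichotomy itself
-/

set_option autoImplicit false
universe u

namespace Groth.Agent.Helper8.Pi

open IsLocalRing Polynomial TensorProduct
open Groth.Agent.Helper7

section Tensor

variable (K M K₁ : Type u) [Field K] [Field M] [Field K₁] [Algebra K M] [Algebra K K₁]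
  [FiniteDimensional K K₁]

/-- `M ⊗_K K₁` is a field as soon as every compositum has full degree -/
theorem isField_tensor_of_forall
    (h : ∀ (F : Type u) [Field F] [Algebra K F] [Algebra M F] [Algebra K₁ F]
      [IsScalarTower K M F] [IsScalarTower K K₁ F],
      Algebra.adjoin M (Set.range (algebraMap K₁ F)) = ⊤ →
        Module.finrank M F = Module.finrank K K₁) :
    IsField (M ⊗[K] K₁) := by
  classical
  have hfr : Module.finrank M (M ⊗[K] K₁) = Module.finrank K K₁ := Module.finrank_baseChange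
  haveI : Nontrivial (M ⊗[K] K₁) := by
    have hpos : 0 < Module.finrank M (M ⊗[K] K₁) := by
      rw [hfr]
      exact Module.finrank_pos
    exact Module.nontrivial_of_finrank_pos (R := M) hpos
  obtain ⟨𝔪, h𝔪⟩ := Ideal.exists_maximal (M ⊗[K] K₁)
  letI : Field ((M ⊗[K] K₁) ⧸ 𝔪) := Ideal.Quotient.field 𝔪
  letI algK₁ : Algebra K₁ ((M ⊗[K] K₁) ⧸ 𝔪) :=
    ((Ideal.Quotient.mk 𝔪).comp
      (Algebra.TensorProduct.includeRight : K₁ →ₐ[K] M ⊗[K] K₁).toRingHom).toAlgebra
  haveI : IsScalarTower K K₁ ((M ⊗[K] K₁) ⧸ 𝔪) := by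
    refine IsScalarTower.of_algebraMap_eq' ?_
    ext c
    show algebraMap K ((M ⊗[K] K₁) ⧸ 𝔪) c = Ideal.Quotient.mk 𝔪
      ((Algebra.TensorProduct.includeRight : K₁ →ₐ[K] M ⊗[K] K₁) (algebraMap K K₁ c))
    rw [AlgHom.commutes]
    rfl
  have hadj : Algebra.adjoin M (Set.range (algebraMap K₁ ((M ⊗[K] K₁) ⧸ 𝔪))) = ⊤ := by
    rw [eq_top_iff]
    rintro y -
    obtain ⟨t, rfl⟩ := Ideal.Quotient.mk_surjective y
    induction t using TensorProduct.induction_on with
    | zero => rw [map_zero]; exact Subalgebra.zero_mem _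
    | tmul l x =>
      have : Ideal.Quotient.mk 𝔪 (l ⊗ₜ[K] x) =
          l • algebraMap K₁ ((M ⊗[K] K₁) ⧸ 𝔪) x := by
        show Ideal.Quotient.mkₐ M 𝔪 (l ⊗ₜ[K] x) = l • Ideal.Quotient.mkₐ M 𝔪 ((1 : M) ⊗ₜ[K] x)
        rw [← map_smul, TensorProduct.smul_tmul', smul_eq_mul, mul_one]
      rw [this]
      exact Subalgebra.smul_mem _ (Algebra.subset_adjoin (Set.mem_range_self x)) l
    | add a b ha hb => rw [map_add]; exact Subalgebra.add_mem _ ha hb
  have hcore := h ((M ⊗[K] K₁) ⧸ 𝔪) hadj
  haveI : FiniteDimensional M ((M ⊗[K] K₁) ⧸ 𝔪) := TotRam.finite_of_adjoin (K := K) hadj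
  have hsurj : Function.Surjective (Ideal.Quotient.mkₐ M 𝔪).toLinearMap :=
    Ideal.Quotient.mk_surjective
  have hinj : Function.Injective (Ideal.Quotient.mkₐ M 𝔪).toLinearMap :=
    (LinearMap.injective_iff_surjective_of_finrank_eq_finrank (hfr.trans hcore.symm)).2 hsurj
  have e : (M ⊗[K] K₁) ≃+* ((M ⊗[K] K₁) ⧸ 𝔪) :=
    RingEquiv.ofBijective (Ideal.Quotient.mk 𝔪) ⟨hinj, Ideal.Quotient.mk_surjective⟩
  exact e.toMulEquiv.isField (Field.toIsField _)

end Tensor

section Local

variable (p : ℕ) (hp : p.Prime) (A B C K L M : Type u)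
  [CommRing A] [IsDomain A] [IsDiscreteValuationRing A] [CommRing B] [IsDomain B]
  [IsDiscreteValuationRing B] [CommRing C] [IsDomain C] [IsDiscreteValuationRing C]
  [Algebra A B] [Algebra B C] [Algebra A C] [IsScalarTower A B C]
  [IsLocalHom (algebraMap A B)] [IsLocalHom (algebraMap B C)]
  [Field K] [Field L] [Field M] [Algebra A K] [IsFractionRing A K] [Algebra B L]
  [IsFractionRing B L] [Algebra C M] [IsFractionRing C M] [Algebra K L] [Algebra L M]
  [Algebra K M] [IsScalarTower K L M] [Algebra A L] [IsScalarTower A K L] [IsScalarTower A B L]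
  [Algebra B M] [IsScalarTower B L M] [IsScalarTower B C M]
  [Algebra A M] [IsScalarTower A K M] [IsScalarTower A C M]
  (K₁ : Type u) [Field K₁] [Algebra K K₁] [Algebra A K₁] [IsScalarTower A K K₁]
  [FiniteDimensional K K₁] [Algebra.IsSeparable K K₁]

include hp in
theorem local_core [CharP L p] (hBC : Function.Injective (algebraMap B C))
    (hdeg : Module.finrank L M = p) (hK₁ : Module.finrank K K₁ = p)
    (π : A) (hb₀ : Irreducible (algebraMap A B π))
    (w b : B) (m : ℕ) (f : ℕ → B)
    (hw : w = ∑ i ∈ Finset.range m, f i ^ p * (algebraMap A B π) ^ i +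
      b * (algebraMap A B π) ^ m)
    (hb : ∀ y : B, residue B b ≠ residue B y ^ p)
    (ϖ : C) (hϖ : ϖ ^ p = algebraMap B C (w * algebraMap A B π))
    (ρ β β' : K₁) (hρi : IsIntegral A ρ) (hβi : IsIntegral A β) (hβ'i : IsIntegral A β')
    (hρ1 : ρ ^ p = algebraMap A K₁ π + algebraMap A K₁ π ^ (m + 2) * β)
    (hρ2 : ρ ^ p = algebraMap A K₁ π + ρ ^ ((m + 2) * p) * β')
    (F : Type u) [Field F] [Algebra K F] [Algebra M F] [Algebra K₁ F] [IsScalarTower K M F]
    [IsScalarTower K K₁ F]
    (hadj : Algebra.adjoin M (Set.range (algebraMap K₁ F)) = ⊤)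
    (W : ValuationSubring F)
    (hW : EtRam.Dominates C ((algebraMap M F).comp (algebraMap C M)) W) :
    DomVal.WU' W (algebraMap K₁ F) ∧ Module.finrank M F = p := by
  classical
  haveI : FiniteDimensional L M := Module.finite_of_finrank_pos (by rw [hdeg]; exact hp.pos)
  haveI : FiniteDimensional M F := TotRam.finite_of_adjoin (K := K) hadj
  haveI : Algebra.IsSeparable M F := TotRam.isSeparable_of_adjoin (K := K) hadj
  have hMF : Module.finrank M F ≤ p := by
    rw [← hK₁]
    exact TotRam.finrank_le_of_adjoin (K := K) (L := M) (K₁ := K₁) (M := F) hadj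
  letI algCF : Algebra C F := ((algebraMap M F).comp (algebraMap C M)).toAlgebra
  haveI : IsScalarTower C M F := IsScalarTower.of_algebraMap_eq' rfl
  have hW' : EtRam.Dominates C (algebraMap C F) W := hW
  haveI : IsDiscreteValuationRing W := DomVal.isDVR_of_dominates (K := M) W hW'
  letI algCW : Algebra C W := (RingHom.codRestrict (algebraMap C F) W hW'.1).toAlgebra
  haveI : IsScalarTower C W F := IsScalarTower.of_algebraMap_eq' rfl
  haveI hlocCW : IsLocalHom (algebraMap C W) :=
    DomVal.isLocalHom_codRestrict (algebraMap C F) W hW'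
  have hCWinj : Function.Injective (algebraMap C W) := by
    intro x y hxy
    have h1 := congrArg Subtype.val hxy
    exact ((algebraMap M F).injective.comp (IsFractionRing.injective C M)) h1
  letI algBW : Algebra B W := ((algebraMap C W).comp (algebraMap B C)).toAlgebra
  haveI : IsScalarTower B C W := IsScalarTower.of_algebraMap_eq' rfl
  haveI : IsLocalHom (algebraMap B W) := by
    show IsLocalHom ((algebraMap C W).comp (algebraMap B C))
    infer_instance
  have hBWinj : Function.Injective (algebraMap B W) := hCWinj.comp hBC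
  letI algLF : Algebra L F := ((algebraMap M F).comp (algebraMap L M)).toAlgebra
  haveI : IsScalarTower L M F := IsScalarTower.of_algebraMap_eq' rfl
  letI algBF : Algebra B F := ((algebraMap L F).comp (algebraMap B L)).toAlgebra
  haveI : IsScalarTower B L F := IsScalarTower.of_algebraMap_eq' rfl
  have hBWF : ∀ x : B, ((algebraMap B W x : W) : F) = algebraMap B F x := by
    intro x
    show algebraMap M F (algebraMap C M (algebraMap B C x)) =
      algebraMap M F (algebraMap L M (algebraMap B L x))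
    rw [← IsScalarTower.algebraMap_apply B L M, ← IsScalarTower.algebraMap_apply B C M]
  haveI : IsScalarTower B W F := IsScalarTower.of_algebraMap_eq (fun x => (hBWF x).symm)
  haveI : FiniteDimensional L F := Module.Finite.trans M F
  have hLF : Module.finrank L F ≤ p * p := by
    rw [← Module.finrank_mul_finrank L M F, hdeg]
    exact Nat.mul_le_mul_left p hMF
  haveI : CharP F p := charP_of_injective_algebraMap (algebraMap L F).injective p
  haveI : CharP W p := RingHom.charP (algebraMap W F) (IsFractionRing.injective W F) p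
  -- compatibility of the images of `A`
  have hkey : ∀ a : A, algebraMap K₁ F (algebraMap A K₁ a) = algebraMap B F (algebraMap A B a) := by
    intro a
    show _ = algebraMap M F (algebraMap L M (algebraMap B L (algebraMap A B a)))
    rw [IsScalarTower.algebraMap_apply A K K₁, ← IsScalarTower.algebraMap_apply K K₁ F,
      IsScalarTower.algebraMap_apply K M F, ← IsScalarTower.algebraMap_apply A B L,
      IsScalarTower.algebraMap_apply A K L, ← IsScalarTower.algebraMap_apply K L M]
  have hA : ∀ a : A, algebraMap A K₁ a ∈ W.comap (algebraMap K₁ F) := by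
    intro a
    show algebraMap K₁ F (algebraMap A K₁ a) ∈ W
    rw [hkey, ← hBWF]
    exact (algebraMap B W (algebraMap A B a)).2
  have hρW : algebraMap K₁ F ρ ∈ W :=
    TotRam.mem_of_isIntegral (A := A) (W.comap (algebraMap K₁ F)) hA ρ hρi
  have hβW : algebraMap K₁ F β ∈ W :=
    TotRam.mem_of_isIntegral (A := A) (W.comap (algebraMap K₁ F)) hA β hβi
  have hβ'W : algebraMap K₁ F β' ∈ W :=
    TotRam.mem_of_isIntegral (A := A) (W.comap (algebraMap K₁ F)) hA β' hβ'i
  let ρW : W := ⟨algebraMap K₁ F ρ, hρW⟩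
  let βW : W := ⟨algebraMap K₁ F β, hβW⟩
  let β'W : W := ⟨algebraMap K₁ F β', hβ'W⟩
  have hρ2W : ρW ^ p = algebraMap B W (algebraMap A B π) + ρW ^ ((m + 2) * p) * β'W := by
    apply Subtype.ext
    show (algebraMap K₁ F ρ) ^ p = ((algebraMap B W (algebraMap A B π) : W) : F) +
      (algebraMap K₁ F ρ) ^ ((m + 2) * p) * algebraMap K₁ F β'
    rw [hBWF, ← hkey, ← map_pow, ← map_pow, ← map_mul, ← map_add, hρ2]
  have hρ1W : ρW ^ p = algebraMap B W (algebraMap A B π) +
      algebraMap B W (algebraMap A B π) ^ (m + 2) * βW := by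
    apply Subtype.ext
    show (algebraMap K₁ F ρ) ^ p = ((algebraMap B W (algebraMap A B π) : W) : F) +
      ((algebraMap B W (algebraMap A B π) : W) : F) ^ (m + 2) * algebraMap K₁ F β
    rw [hBWF, ← hkey, ← map_pow, ← map_pow, ← map_mul, ← map_add, hρ1]
  have hϖW : (algebraMap C W ϖ) ^ p = algebraMap B W (w * algebraMap A B π) := by
    rw [← map_pow, hϖ]
    rfl
  have hπm : algebraMap B W (algebraMap A B π) ∈ maximalIdeal W := by
    rw [mem_maximalIdeal, mem_nonunits_iff]
    intro hu
    exact hb₀.not_isUnit (isUnit_of_map_unit (algebraMap B W) _ hu)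
  have hρm : ρW ∈ maximalIdeal W := by
    have h1 : ρW ^ p ∈ maximalIdeal W := by
      rw [hρ1W]
      exact Ideal.add_mem _ hπm
        (Ideal.mul_mem_right _ _ (Ideal.pow_mem_of_mem _ hπm _ (by omega)))
    exact (maximalIdeal.isMaximal W).isPrime.mem_of_pow_mem p h1
  obtain ⟨hirr, hfr⟩ := core (L := L) (F := F) p hp hBWinj hLF (algebraMap A B π) hb₀ w b m f hw hb
    (algebraMap C W ϖ) ρW β'W hϖW hρ2W hρm
  refine ⟨?_, ?_⟩
  · intro x hx
    obtain ⟨hxW, hxm⟩ := ValuationSubring.mem_nonunits_iff_exists_mem_maximalIdeal.1 hx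
    rw [hirr.maximalIdeal_eq, Ideal.mem_span_singleton] at hxm
    obtain ⟨w', hw'⟩ := hxm
    refine ⟨ρ, ValuationSubring.mem_nonunits_iff_exists_mem_maximalIdeal.2 ⟨hρW, hρm⟩,
      (w' : F), w'.2, ?_⟩
    exact congrArg Subtype.val hw'
  · have h1 : Module.finrank L M * Module.finrank M F = p * p := by
      rw [Module.finrank_mul_finrank L M F, hfr]
    rw [hdeg] at h1
    exact Nat.eq_of_mul_eq_mul_left hp.pos h1

end Local

section Main

variable (p : ℕ) (hp : p.Prime) (A B C K L M : Type u)
  [CommRing A] [IsDomain A] [IsDiscreteValuationRing A] [CommRing B] [IsDomain B]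
  [IsDiscreteValuationRing B] [CommRing C] [IsDomain C] [IsDiscreteValuationRing C]
  [Algebra A B] [Algebra B C] [Algebra A C] [IsScalarTower A B C]
  [IsLocalHom (algebraMap A B)] [IsLocalHom (algebraMap B C)]
  [Field K] [Field L] [Field M] [Algebra A K] [IsFractionRing A K] [Algebra B L]
  [IsFractionRing B L] [Algebra C M] [IsFractionRing C M] [Algebra K L] [Algebra L M]
  [Algebra K M] [IsScalarTower K L M] [Algebra A L] [IsScalarTower A K L] [IsScalarTower A B L]
  [Algebra B M] [IsScalarTower B L M] [IsScalarTower B C M]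
  [Algebra A M] [IsScalarTower A K M] [IsScalarTower A C M]

include hp in
/-- the third alternative -/
theorem case_c [CharP L p] (hAB : Function.Injective (algebraMap A B))
    (hBC : Function.Injective (algebraMap B C))
    (hdeg : Module.finrank L M = p)
    (π : A) (hπ : maximalIdeal A = Ideal.span {π}) (hwu : EtRam.IsWeaklyUnramified A B)
    (w b : B) (m : ℕ) (f : ℕ → B)
    (hw : w = ∑ i ∈ Finset.range m, f i ^ p * (algebraMap A B π) ^ i +
      b * (algebraMap A B π) ^ m)
    (hb : ∀ y : B, residue B b ≠ residue B y ^ p)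
    (ϖ : C) (hϖ : ϖ ^ p = algebraMap B C (w * algebraMap A B π)) :
    ∃ (K₁ : Type u) (_ : Field K₁) (_ : Algebra K K₁),
      Module.finrank K K₁ = p ∧ Algebra.IsSeparable K K₁ ∧
        EtRam.IsTotallyRamified A ((algebraMap K K₁).comp (algebraMap A K)) ∧
        IsField (L ⊗[K] K₁) ∧ IsField (M ⊗[K] K₁) ∧
        EtRam.IsWeakSolution B K L K₁ ∧ EtRam.IsWeakSolution C K M K₁ := by
  classical
  haveI : CharP K p := RingHom.charP (algebraMap K L) (algebraMap K L).injective p
  haveI : CharP A p := RingHom.charP (algebraMap A K) (IsFractionRing.injective A K) p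
  haveI : CharP (ResidueField A) p := by
    refine (CharP.charP_iff_prime_eq_zero hp).2 ?_
    rw [← map_natCast (residue A), CharP.cast_eq_zero, map_zero]
  have hb₀ : Irreducible (algebraMap A B π) := by
    rw [IsDiscreteValuationRing.irreducible_iff_uniformizer, ← hwu, hπ, Ideal.map_span,
      Set.image_singleton]
  obtain ⟨K₁, iF, iAlg, iAlgA, iTower, hfr, hsep, htr, ρ, β, β', hρi, hβi, hβ'i, hρ1, hρ2⟩ :=
    Groth.Agent.S7157.result p hp A K π hπ (m + 2) (by omega) 1
  rw [pow_one] at hfr hρ1 hρ2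
  haveI : FiniteDimensional K K₁ := Module.finite_of_finrank_pos (by rw [hfr]; exact hp.pos)
  have htr' : EtRam.IsTotallyRamified A ((algebraMap K K₁).comp (algebraMap A K)) := by
    rw [← IsScalarTower.algebraMap_eq A K K₁]
    exact htr
  have hlocal := fun (F : Type u) [Field F] [Algebra K F] [Algebra M F] [Algebra K₁ F]
      [IsScalarTower K M F] [IsScalarTower K K₁ F]
      (hadj : Algebra.adjoin M (Set.range (algebraMap K₁ F)) = ⊤)
      (W : ValuationSubring F)
      (hW : EtRam.Dominates C ((algebraMap M F).comp (algebraMap C M)) W) =>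
    local_core p hp A B C K L M K₁ hBC hdeg hfr π hb₀ w b m f hw hb ϖ hϖ ρ β β' hρi hβi hβ'i
      hρ1 hρ2 F hadj W hW
  refine ⟨K₁, iF, iAlg, hfr, hsep, htr', TotRam.isField_tensor A B K L K₁ hwu htr', ?_,
    TotRam.isWeakSolution A B K L K₁ hwu htr', ?_⟩
  · apply isField_tensor_of_forall K M K₁
    intro F _ _ _ _ _ _ hadj
    obtain ⟨W, hW⟩ := TotRam.exists_dominates (B := C) ((algebraMap M F).comp (algebraMap C M))
    rw [hfr]
    exact (hlocal F hadj W hW).2
  · intro F _ _ _ _ _ _ hadj W hW
    show DomVal.WU W (algebraMap K₁ F)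
    rw [DomVal.wu_iff]
    exact (hlocal F hadj W hW).1

include hp in
/-- the trichotomy -/
theorem trichotomy (hAB : Function.Injective (algebraMap A B))
    (hBC : Function.Injective (algebraMap B C))
    (π : A) (hπ : maximalIdeal A = Ideal.span {π}) (hB : CAlg.IsNagata B)
    (hwu : EtRam.IsWeaklyUnramified A B) [IsPurelyInseparable L M]
    (hdeg : Module.finrank L M = p) :
    EtRam.IsWeaklyUnramified A C ∨
      (∃ c : C, c ^ p = algebraMap A C π ∧ Algebra.adjoin B {c} = ⊤) ∨
      ∃ (K₁ : Type u) (_ : Field K₁) (_ : Algebra K K₁),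
        Module.finrank K K₁ = p ∧ Algebra.IsSeparable K K₁ ∧
          EtRam.IsTotallyRamified A ((algebraMap K K₁).comp (algebraMap A K)) ∧
          IsField (L ⊗[K] K₁) ∧ IsField (M ⊗[K] K₁) ∧
          EtRam.IsWeakSolution B K L K₁ ∧ EtRam.IsWeakSolution C K M K₁ := by
  classical
  haveI : CharP L p := charP_of_finrank_eq (L := L) (M := M) p hp hdeg
  have hpow := pow_mem_range (L := L) (M := M) p hp hdeg
  have hb₀ : Irreducible (algebraMap A B π) := by
    rw [IsDiscreteValuationRing.irreducible_iff_uniformizer, ← hwu, hπ, Ideal.map_span,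
      Set.image_singleton]
  rcases ram_dichotomy (L := L) (M := M) p hp hpow hBC (algebraMap A B π) hb₀ with
    h1 | ⟨ϖ, w, hϖ, hϖp⟩
  · left
    unfold EtRam.IsWeaklyUnramified
    rw [hπ, Ideal.map_span, Set.image_singleton, IsScalarTower.algebraMap_apply A B C]
    exact ((IsDiscreteValuationRing.irreducible_iff_uniformizer _).1 h1).symm
  · rcases expansion_dichotomy p (algebraMap A B π) (w : B) hb₀ with hall | ⟨m, f, r, hfr, hr⟩
    · right; left
      obtain ⟨c, hc, hadj⟩ := case_b (L := L) (M := M) p hp hdeg hB (algebraMap A B π) hb₀ w ϖ hϖ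
        hϖp hall
      exact ⟨c, by rw [hc, ← IsScalarTower.algebraMap_apply A B C], hadj⟩
    · right; right
      exact case_c p hp A B C K L M hAB hBC hdeg π hπ hwu (w : B) r m f hfr hr ϖ hϖp

end Main

end Groth.Agent.Helper8.Pi
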