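import Mathlib
import Groth.Agent.Helper8.PiVal1

set_option autoImplicit false
universe u
open TensorProduct

namespace Groth.Agent.Helper8.PiVal

section general
variable {P : Type u} [CommRing P]

theorem projective_span_idempotent (e : P) (he : e * e = e) :
    Module.Projective P (Ideal.span {e}) := by
  let r : P →ₗ[P] (Ideal.span {e}) :=
    LinearMap.codRestrict (Ideal.span {e}) (LinearMap.toSpanSingleton P P e)
      (fun x => Ideal.mem_span_singleton'.mpr ⟨x, rfl⟩)
  refine Module.Projective.of_split (Submodule.subtype _) r ?_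
  ext ⟨y, hy⟩
  obtain ⟨c, rfl⟩ := Ideal.mem_span_singleton'.mp hy
  change (c * e) * e = c * e
  rw [mul_assoc, he]

theorem span_equiv_of_ker_eq (d e : P)
    (h : LinearMap.ker (LinearMap.toSpanSingleton P P d) =
      LinearMap.ker (LinearMap.toSpanSingleton P P e)) :
    Nonempty ((Ideal.span {d}) ≃ₗ[P] (Ideal.span {e})) := by
  have hd : (Ideal.span {d} : Submodule P P) = LinearMap.range (LinearMap.toSpanSingleton P P d) :=
    LinearMap.span_singleton_eq_range P P d
  have he : (Ideal.span {e} : Submodule P P) = LinearMap.range (LinearMap.toSpanSingleton P P e) :=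
    LinearMap.span_singleton_eq_range P P e
  exact ⟨(LinearEquiv.ofEq _ _ hd) ≪≫ₗ (LinearMap.quotKerEquivRange _).symm ≪≫ₗ
    (Submodule.quotEquivOfEq _ _ h) ≪≫ₗ (LinearMap.quotKerEquivRange _) ≪≫ₗ
    (LinearEquiv.ofEq _ _ he.symm)⟩

/-- if all f.g. ideals are flat then all ideals are flat -/
theorem flat_ideal_of_fg (h : ∀ K : Ideal P, K.FG → Module.Flat P K) (I : Ideal P) :
    Module.Flat P I := by
  rw [Module.Flat.iff_rTensor_injective]
  intro K hK
  have hKflat := h K hK
  have h1 : Function.Injective (I.subtype.lTensor K) :=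
    Module.Flat.lTensor_preserves_injective_linearMap _ I.injective_subtype
  let m₁ : K ⊗[P] I →ₗ[P] P :=
    K.subtype ∘ₗ (TensorProduct.rid P K).toLinearMap ∘ₗ (I.subtype.lTensor K)
  let m₂ : K ⊗[P] I →ₗ[P] P :=
    I.subtype ∘ₗ (TensorProduct.lid P I).toLinearMap ∘ₗ (K.subtype.rTensor I)
  have hm : m₁ = m₂ := by
    ext k i
    simp [m₁, m₂, mul_comm]
  have hm₁ : Function.Injective m₁ :=
    (K.injective_subtype.comp (TensorProduct.rid P K).injective).comp h1
  have hm₂ : Function.Injective m₂ := hm ▸ hm₁
  exact Function.Injective.of_comp (f := I.subtype ∘ₗ (TensorProduct.lid P I).toLinearMap) hm₂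

end general

variable {J : Type u} (A : J → Type u) [∀ j, CommRing (A j)] [∀ j, IsDomain (A j)]

theorem flat_span_singleton (d : ∀ j, A j) : Module.Flat (∀ j, A j) (Ideal.span {d}) := by
  classical
  let e : ∀ j, A j := fun j => if d j = 0 then 0 else 1
  have he : e * e = e := by
    funext j
    by_cases hj : d j = 0 <;> simp [e, hj]
  have hker : LinearMap.ker (LinearMap.toSpanSingleton (∀ j, A j) (∀ j, A j) d) =
      LinearMap.ker (LinearMap.toSpanSingleton (∀ j, A j) (∀ j, A j) e) := by
    ext x
    simp only [LinearMap.mem_ker, LinearMap.toSpanSingleton_apply, smul_eq_mul]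
    constructor
    · intro h
      funext j
      have hj := congr_fun h j
      by_cases hdj : d j = 0
      · simp [e, hdj]
      · have : x j = 0 := by
          rcases mul_eq_zero.mp hj with h' | h'
          · exact h'
          · exact absurd h' hdj
        simp [this]
    · intro h
      funext j
      have hj := congr_fun h j
      by_cases hdj : d j = 0
      · simp [hdj]
      · have : x j = 0 := by simpa [e, hdj] using hj
        simp [this]
  obtain ⟨eq⟩ := span_equiv_of_ker_eq d e hker
  have := projective_span_idempotent e he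
  exact Module.Flat.of_linearEquiv eq

variable [∀ j, ValuationRing (A j)]

theorem s1968 (K : J → Type u) [∀ j, Field (K j)] [∀ j, Algebra (A j) (K j)]
    [∀ j, IsFractionRing (A j) (K j)] :
    (∀ I : Ideal (∀ j, A j), Module.Flat (∀ j, A j) I) ∧
      IsLocalization (nonZeroDivisors (∀ j, A j)) (∀ j, K j) := by
  refine ⟨flat_ideal_of_fg fun K hK => ?_, isLocalization_pi A K⟩
  have hpr : K.IsPrincipal := IsBezout.isPrincipal_of_FG K hK
  obtain ⟨d, rfl⟩ := hpr
  exact flat_span_singleton A d

end Groth.Agent.Helper8.PiVal
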