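import Mathlib
import Groth.Agent.Helper8.PiVal2

set_option autoImplicit false
universe u
open TensorProduct

namespace Groth.Agent.Helper8.PiVal

section general
variable {P : Type u} [CommRing P]

/-- if all ideals are flat, then submodules of flat modules are flat -/
theorem flat_submodule_of_flat_ideals (h : ∀ K : Ideal P, Module.Flat P K)
    (M : Type u) [AddCommGroup M] [Module P M] [Module.Flat P M] (N : Submodule P M) :
    Module.Flat P N := by
  rw [Module.Flat.iff_rTensor_injective']
  intro K
  have hKflat := h K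
  have h1 : Function.Injective (N.subtype.lTensor K) :=
    Module.Flat.lTensor_preserves_injective_linearMap _ N.injective_subtype
  have h2 : Function.Injective (K.subtype.rTensor M) :=
    Module.Flat.rTensor_preserves_injective_linearMap _ K.injective_subtype
  have hm : (N.subtype.lTensor P) ∘ₗ (K.subtype.rTensor N) =
      (K.subtype.rTensor M) ∘ₗ (N.subtype.lTensor K) := by
    ext k n
    simp
  have h3 : Function.Injective ((N.subtype.lTensor P) ∘ₗ (K.subtype.rTensor N)) := by
    rw [hm]; exact h2.comp h1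
  exact Function.Injective.of_comp h3

/-- in a local ring where `(x)` is flat, `x * y = 0` and `x ≠ 0` imply `y = 0` -/
theorem eq_zero_of_flat_span [IsLocalRing P] (x y : P) (hfl : Module.Flat P (Ideal.span {x}))
    (hx : x ≠ 0) (hxy : y * x = 0) : y = 0 := by
  have hxmem : x ∈ Ideal.span {x} := Ideal.subset_span rfl
  have hrel : ∑ i : Fin 1, (fun _ => y) i • (fun _ => (⟨x, hxmem⟩ : Ideal.span {x})) i = 0 := by
    simp only [Finset.univ_unique, Fin.default_eq_zero, Finset.sum_singleton]
    exact Subtype.ext hxy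
  obtain ⟨k, a, z, hz, ha⟩ := Module.Flat.isTrivialRelation_of_sum_smul_eq_zero hrel
  have hz0 := hz 0
  have ha' : ∀ j, y * a 0 j = 0 := fun j => by simpa using ha j
  choose c hc using fun j => Ideal.mem_span_singleton'.mp (z j).2
  have hx' : x = (∑ j, a 0 j * c j) * x := by
    have := congr_arg Subtype.val hz0
    simp only [Submodule.coe_sum, Submodule.coe_smul, smul_eq_mul] at this
    rw [Finset.sum_mul]
    conv_lhs => rw [this]
    refine Finset.sum_congr rfl fun j _ => ?_
    rw [← hc j, mul_assoc]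
  by_cases hu : IsUnit (∑ j, a 0 j * c j)
  · -- some a 0 j is a unit
    have : ∃ j, IsUnit (a 0 j * c j) := by
      by_contra hcon
      push Not at hcon
      have : ∑ j, a 0 j * c j ∈ IsLocalRing.maximalIdeal P :=
        Ideal.sum_mem _ fun j _ => (IsLocalRing.mem_maximalIdeal _).mpr (hcon j)
      exact (IsLocalRing.mem_maximalIdeal _).mp this hu
    obtain ⟨j, hj⟩ := this
    have hj' : IsUnit (a 0 j) := isUnit_of_mul_isUnit_left hj
    exact hj'.mul_left_eq_zero.mp (ha' j)
  · have hu' : IsUnit (1 - ∑ j, a 0 j * c j) := IsLocalRing.isUnit_one_sub_self_of_mem_nonunits _ hu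
    have : (1 - ∑ j, a 0 j * c j) * x = 0 := by rw [sub_mul, one_mul, ← hx', sub_self]
    exact absurd (hu'.mul_right_eq_zero.mp this) hx

theorem dvd_total_of_flat_span_pair [IsLocalRing P] (x y : P)
    (hfl : Module.Flat P (Ideal.span {x, y})) : x ∣ y ∨ y ∣ x := by
  have hxmem : x ∈ Ideal.span {x, y} := Ideal.subset_span (by simp)
  have hymem : y ∈ Ideal.span {x, y} := Ideal.subset_span (by simp)
  have hrel : ∑ i : Fin 2, (![y, -x]) i • (![(⟨x, hxmem⟩ : Ideal.span {x, y}), ⟨y, hymem⟩]) i
      = 0 := by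
    rw [Fin.sum_univ_two]
    apply Subtype.ext
    simp only [Matrix.cons_val_zero, Matrix.cons_val_one, Submodule.coe_add, Submodule.coe_smul,
      smul_eq_mul, Submodule.coe_zero]
    ring
  obtain ⟨k, a, z, hz, ha⟩ := Module.Flat.isTrivialRelation_of_sum_smul_eq_zero hrel
  have hz0 := hz 0
  have ha' : ∀ j, y * a 0 j = x * a 1 j := fun j => by
    have := ha j
    rw [Fin.sum_univ_two] at this
    simp only [Matrix.cons_val_zero, Matrix.cons_val_one] at this
    linear_combination this
  choose p q hpq using fun j => Ideal.mem_span_pair.mp (z j).2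
  have hx' : x = (∑ j, a 0 j * p j) * x + (∑ j, a 0 j * q j) * y := by
    have := congr_arg Subtype.val hz0
    simp only [Matrix.cons_val_zero, Submodule.coe_sum, Submodule.coe_smul, smul_eq_mul] at this
    rw [Finset.sum_mul, Finset.sum_mul, ← Finset.sum_add_distrib]
    conv_lhs => rw [this]
    refine Finset.sum_congr rfl fun j _ => ?_
    rw [← hpq j]; ring
  by_cases hu : IsUnit (∑ j, a 0 j * p j)
  · left
    have : ∃ j, IsUnit (a 0 j * p j) := by
      by_contra hcon
      push Not at hcon
      have : ∑ j, a 0 j * p j ∈ IsLocalRing.maximalIdeal P :=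
        Ideal.sum_mem _ fun j _ => (IsLocalRing.mem_maximalIdeal _).mpr (hcon j)
      exact (IsLocalRing.mem_maximalIdeal _).mp this hu
    obtain ⟨j, hj⟩ := this
    have hj' : IsUnit (a 0 j) := isUnit_of_mul_isUnit_left hj
    obtain ⟨v, hv⟩ := hj'
    refine ⟨a 1 j * ↑v⁻¹, ?_⟩
    have h1 := ha' j
    rw [← hv] at h1
    calc y = y * ↑v * ↑v⁻¹ := by rw [mul_assoc, Units.mul_inv, mul_one]
      _ = x * (a 1 j * ↑v⁻¹) := by rw [h1]; ring
  · right
    have hu' : IsUnit (1 - ∑ j, a 0 j * p j) :=
      IsLocalRing.isUnit_one_sub_self_of_mem_nonunits _ hu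
    obtain ⟨v, hv⟩ := hu'
    have h2 : ↑v * x = (∑ j, a 0 j * q j) * y := by
      rw [hv]; linear_combination hx'
    refine ⟨↑v⁻¹ * (∑ j, a 0 j * q j), ?_⟩
    calc x = ↑v⁻¹ * (↑v * x) := by rw [← mul_assoc, Units.inv_mul, one_mul]
      _ = y * (↑v⁻¹ * (∑ j, a 0 j * q j)) := by rw [h2]; ring

end general

end Groth.Agent.Helper8.PiVal
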