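import Mathlib
import Groth.Agent.Helper8.PiVal3

set_option autoImplicit false
universe u
open TensorProduct

namespace Groth.Agent.Helper8.PiVal

/-- over a valuation domain all ideals are flat -/
theorem flat_ideal_of_valuationRing (V : Type u) [CommRing V] [IsDomain V] [ValuationRing V]
    (K : Ideal V) : Module.Flat V K := by
  refine flat_ideal_of_fg (fun K hK => ?_) K
  have hpr : K.IsPrincipal := IsBezout.isPrincipal_of_FG K hK
  obtain ⟨d, rfl⟩ := hpr
  by_cases hd : d = 0
  · subst hd
    have : Subsingleton (Submodule.span V ({0} : Set V)) := by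
      rw [Submodule.span_zero_singleton]; infer_instance
    infer_instance
  · exact Module.Flat.of_linearEquiv (LinearEquiv.toSpanNonzeroSingleton V V d hd).symm

variable (A : Type u) [CommRing A]

/-- (a) ⇒ (d) -/
theorem valuation_of_flat_ideals (h : ∀ I : Ideal A, Module.Flat A I) (p : Ideal A) [p.IsPrime] :
    ∃ _ : IsDomain (Localization.AtPrime p), ValuationRing (Localization.AtPrime p) := by
  have hloc : ∀ K' : Ideal (Localization.AtPrime p), Module.Flat (Localization.AtPrime p) K' := by
    intro K'
    let K : Ideal A := Submodule.comap (Algebra.linearMap A (Localization.AtPrime p))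
      (K'.restrictScalars A)
    have hK : K.localized' (Localization.AtPrime p) p.primeCompl
        (Algebra.linearMap A (Localization.AtPrime p)) = K' :=
      (Submodule.localized'gi (Localization.AtPrime p) p.primeCompl
        (Algebra.linearMap A (Localization.AtPrime p))).l_u_eq K'
    have := h K
    have hfl := Module.Flat.of_isLocalizedModule (Rp := Localization.AtPrime p) p.primeCompl
      (K.toLocalized' (Localization.AtPrime p) p.primeCompl
        (Algebra.linearMap A (Localization.AtPrime p)))
    rwa [hK] at hfl
  have hnzd : NoZeroDivisors (Localization.AtPrime p) := ⟨fun {a b} hab => by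
    by_cases hb : b = 0
    · exact Or.inr hb
    · exact Or.inl (eq_zero_of_flat_span b a (hloc _) hb hab)⟩
  have hdom : IsDomain (Localization.AtPrime p) := NoZeroDivisors.to_isDomain _
  refine ⟨hdom, ?_⟩
  rw [ValuationRing.iff_dvd_total]
  exact ⟨fun x y => dvd_total_of_flat_span_pair x y (hloc _)⟩

/-- (d) ⇒ (a) -/
theorem flat_ideals_of_valuation
    (h : ∀ (p : Ideal A) [p.IsPrime],
      ∃ _ : IsDomain (Localization.AtPrime p), ValuationRing (Localization.AtPrime p))
    (I : Ideal A) : Module.Flat A I := by
  refine Module.flat_of_localized_maximal (R := A) I fun P hP => ?_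
  obtain ⟨hdom, hval⟩ := h P
  have h1 : Module.Flat (Localization.AtPrime P)
      (I.localized' (Localization.AtPrime P) P.primeCompl
        (Algebra.linearMap A (Localization.AtPrime P))) :=
    flat_ideal_of_valuationRing (Localization.AtPrime P) _
  have h2 : Module.Flat A (I.localized' (Localization.AtPrime P) P.primeCompl
        (Algebra.linearMap A (Localization.AtPrime P))) :=
    (Module.flat_iff_of_isLocalization (Localization.AtPrime P) P.primeCompl _).mp h1
  exact Module.Flat.of_linearEquiv (IsLocalizedModule.iso P.primeCompl
    (I.toLocalized' (Localization.AtPrime P) P.primeCompl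
      (Algebra.linearMap A (Localization.AtPrime P))))

theorem s1969 :
    List.TFAE [∀ I : Ideal A, Module.Flat A I,
      ∀ I : Ideal A, I.FG → Module.Flat A I,
      ∀ (M : Type u) [AddCommGroup M] [Module A M], Module.Flat A M →
        ∀ N : Submodule A M, Module.Flat A N,
      ∀ (p : Ideal A) [p.IsPrime], ∃ _ : IsDomain (Localization.AtPrime p),
        ValuationRing (Localization.AtPrime p)] := by
  tfae_have 1 → 2 := fun h I _ => h I
  tfae_have 2 → 1 := fun h I => flat_ideal_of_fg h I
  tfae_have 1 → 3 := fun h M _ _ hM N => flat_submodule_of_flat_ideals h M N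
  tfae_have 3 → 1 := fun h I => h A inferInstance I
  tfae_have 1 → 4 := fun h p _ => valuation_of_flat_ideals A h p
  tfae_have 4 → 1 := fun h I => flat_ideals_of_valuation A h I
  tfae_finish

end Groth.Agent.Helper8.PiVal
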