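import Mathlib

set_option autoImplicit false

namespace Groth.Agent.Helper8.PicEq

open CategoryTheory MonoidalCategory Functor.LaxMonoidal

universe v v' u u'

section One

variable {C : Type u} [Category.{v} C] [MonoidalCategory C]

/-- The action of endomorphisms of the unit on endomorphisms of `X`. -/
def act (X : C) (φ : 𝟙_ C ⟶ 𝟙_ C) : X ⟶ X := (λ_ X).inv ≫ (φ ▷ X) ≫ (λ_ X).hom

lemma act_bijective (X : C) (hX : (tensorRight X).IsEquivalence) :
    Function.Bijective (act X) := by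
  haveI := hX
  constructor
  · intro φ φ' h
    have h1 : φ ▷ X = φ' ▷ X := by
      have := congrArg (fun f => (λ_ X).hom ≫ f ≫ (λ_ X).inv) h
      simpa [act] using this
    exact (tensorRight X).map_injective h1
  · intro ψ
    obtain ⟨φ, hφ⟩ := (tensorRight X).map_surjective ((λ_ X).hom ≫ ψ ≫ (λ_ X).inv)
    refine ⟨φ, ?_⟩
    have hφ' : φ ▷ X = (λ_ X).hom ≫ ψ ≫ (λ_ X).inv := hφ
    simp [act, hφ']

end One

variable {C : Type u} [Category.{v} C] [MonoidalCategory C] [IsGroupoid C]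
  {D : Type u'} [Category.{v'} D] [MonoidalCategory D] [IsGroupoid D]
  (F : C ⥤ D) [F.LaxMonoidal]

lemma map_act (X : C) (φ : 𝟙_ C ⟶ 𝟙_ C) :
    F.map (act X φ) = act (F.obj X) (ε F ≫ F.map φ ≫ inv (ε F)) := by
  rw [← cancel_epi (λ_ (F.obj X)).hom]
  have lhs : (λ_ (F.obj X)).hom ≫ F.map (act X φ) =
      ε F ▷ F.obj X ≫ F.map φ ▷ F.obj X ≫ μ F (𝟙_ C) X ≫ F.map (λ_ X).hom := by
    rw [left_unitality, act, F.map_comp, F.map_comp]
    simp only [Category.assoc]
    rw [← F.map_comp_assoc (λ_ X).hom, Iso.hom_inv_id, F.map_id, Category.id_comp,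
      μ_natural_left_assoc]
  have rhs : (λ_ (F.obj X)).hom ≫ act (F.obj X) (ε F ≫ F.map φ ≫ inv (ε F)) =
      ε F ▷ F.obj X ≫ F.map φ ▷ F.obj X ≫ μ F (𝟙_ C) X ≫ F.map (λ_ X).hom := by
    rw [act, Iso.hom_inv_id_assoc, left_unitality]
    simp only [comp_whiskerRight, Category.assoc]
    rw [← comp_whiskerRight_assoc (inv (ε F)), IsIso.inv_hom_id, id_whiskerRight,
      Category.id_comp]
  rw [lhs, rhs]

variable (hC : ∀ X : C, (tensorLeft X).IsEquivalence ∧ (tensorRight X).IsEquivalence)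
  (hD : ∀ X : D, (tensorLeft X).IsEquivalence ∧ (tensorRight X).IsEquivalence)
  (h1 : Function.Bijective (fun φ : 𝟙_ C ⟶ 𝟙_ C => F.map φ))

include hC hD h1 in
lemma map_end_bijective (X : C) : Function.Bijective (fun a : X ⟶ X => F.map a) := by
  constructor
  · intro a b hab
    obtain ⟨φ, rfl⟩ := (act_bijective X (hC X).2).2 a
    obtain ⟨φ', rfl⟩ := (act_bijective X (hC X).2).2 b
    have h := hab
    simp only [map_act] at h
    have h2 := (act_bijective (F.obj X) (hD _).2).1 h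
    have h3 : F.map φ = F.map φ' := by
      have := congrArg (fun f => inv (ε F) ≫ f ≫ ε F) h2
      simpa using this
    rw [h1.1 h3]
  · intro ψ
    obtain ⟨χ, rfl⟩ := (act_bijective (F.obj X) (hD _).2).2 ψ
    obtain ⟨φ, hφ⟩ := h1.2 (inv (ε F) ≫ χ ≫ ε F)
    refine ⟨act X φ, ?_⟩
    have hφ' : F.map φ = inv (ε F) ≫ χ ≫ ε F := hφ
    show F.map (act X φ) = _
    rw [map_act, hφ']
    simp

include hC hD h1 in
theorem main [F.EssSurj]
    (h0 : ∀ X Y : C, Nonempty (F.obj X ≅ F.obj Y) → Nonempty (X ≅ Y)) :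
    F.IsEquivalence := by
  have hF : F.Faithful := by
    constructor
    intro X Y f g hfg
    have h : F.map (f ≫ inv g) = F.map (𝟙 X) := by
      rw [F.map_comp, hfg, ← F.map_comp, IsIso.hom_inv_id]
    have := (map_end_bijective F hC hD h1 X).1 h
    rw [← cancel_mono (inv g), this, IsIso.hom_inv_id]
  have hF' : F.Full := by
    constructor
    intro X Y h
    obtain ⟨a⟩ := h0 X Y ⟨asIso h⟩
    obtain ⟨b, hb⟩ := (map_end_bijective F hC hD h1 X).2 (h ≫ inv (F.map a.hom))
    refine ⟨b ≫ a.hom, ?_⟩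
    have hb' : F.map b = h ≫ inv (F.map a.hom) := hb
    rw [F.map_comp, hb', Category.assoc, IsIso.inv_hom_id, Category.comp_id]
  exact { faithful := hF, full := hF', essSurj := inferInstance }

end Groth.Agent.Helper8.PicEq
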