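import Mathlib
import Groth.Agent.Helper8.PicEq

set_option autoImplicit false

namespace Groth.Agent.Helper8.PicTorsor

open CategoryTheory MonoidalCategory Functor.LaxMonoidal
open Groth.Agent.Helper8.PicEq (act act_bijective)

universe v v' u u'

section Act

variable {D : Type u'} [Category.{v'} D] [MonoidalCategory D]

lemma act_id (Z : D) : act Z (𝟙 _) = 𝟙 Z := by simp [act]

lemma act_comp (Z : D) (a b : 𝟙_ D ⟶ 𝟙_ D) : act Z (a ≫ b) = act Z a ≫ act Z b := by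
  simp [act]

lemma act_naturality {Z Z' : D} (h : Z ⟶ Z') (φ : 𝟙_ D ⟶ 𝟙_ D) :
    act Z φ ≫ h = h ≫ act Z' φ := by
  simp only [act, Category.assoc]
  rw [← leftUnitor_naturality, ← whisker_exchange_assoc, leftUnitor_inv_naturality_assoc]

lemma end_unit_comm (a b : 𝟙_ D ⟶ 𝟙_ D) : a ≫ b = b ≫ a := by
  have h := whisker_exchange a b
  simp only [id_whiskerLeft, whiskerRight_id, ← unitors_equal, ← unitors_inv_equal,
    Category.assoc, Iso.inv_hom_id_assoc] at h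
  have h2 := (cancel_epi _).1 h
  simp only [← Category.assoc] at h2
  exact ((cancel_mono _).1 h2).symm

lemma act_whiskerRight (Z W : D) (a : 𝟙_ D ⟶ 𝟙_ D) : act Z a ▷ W = act (Z ⊗ W) a := by
  simp [act]

variable [BraidedCategory D]

lemma whiskerLeft_act (Z W : D) (b : 𝟙_ D ⟶ 𝟙_ D) : Z ◁ act W b = act (Z ⊗ W) b := by
  rw [← cancel_mono (β_ Z W).hom, BraidedCategory.braiding_naturality_right, act_whiskerRight,
    act_naturality]

lemma act_tensor (Z W : D) (a b : 𝟙_ D ⟶ 𝟙_ D) :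
    act Z a ⊗ₘ act W b = act (Z ⊗ W) (a ≫ b) := by
  rw [MonoidalCategory.tensorHom_def, act_whiskerRight, whiskerLeft_act, act_comp]

end Act

section Main

variable {C : Type u} [Category.{v} C] [MonoidalCategory C] [IsGroupoid C]
  {D : Type u'} [Category.{v'} D] [MonoidalCategory D] [BraidedCategory D] [IsGroupoid D]
  (hD : ∀ X : D, (tensorRight X).IsEquivalence)
  (F G : C ⥤ D) [F.LaxMonoidal] [G.LaxMonoidal] (θ₀ : F ⟶ G) [NatTrans.IsMonoidal θ₀]

/-- The twist of `θ₀` by a character. -/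
noncomputable def twist (χ : Skeleton C →* End (𝟙_ D)) : F ⟶ G where
  app X := θ₀.app X ≫ act (G.obj X) (χ (toSkeleton X))
  naturality X Y f := by
    have hXY : toSkeleton X = toSkeleton Y := congr_toSkeleton_of_iso (asIso f)
    rw [← Category.assoc, θ₀.naturality, Category.assoc, Category.assoc, hXY, act_naturality]

lemma twist_isMonoidal (χ : Skeleton C →* End (𝟙_ D)) :
    NatTrans.IsMonoidal (twist F G θ₀ χ) where
  unit := by
    show ε F ≫ θ₀.app (𝟙_ C) ≫ act (G.obj (𝟙_ C)) (χ (toSkeleton (𝟙_ C))) = ε G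
    have h1 : χ (toSkeleton (𝟙_ C)) = 1 := by rw [← Skeleton.one_eq, map_one]
    have h2 : (1 : End (𝟙_ D)) = 𝟙 (𝟙_ D) := rfl
    rw [h1, h2, act_id, Category.comp_id, NatTrans.IsMonoidal.unit]
  tensor X Y := by
    show μ F X Y ≫ θ₀.app (X ⊗ Y) ≫ act (G.obj (X ⊗ Y)) (χ (toSkeleton (X ⊗ Y))) =
      ((θ₀.app X ≫ act (G.obj X) (χ (toSkeleton X))) ⊗ₘ
        (θ₀.app Y ≫ act (G.obj Y) (χ (toSkeleton Y)))) ≫ μ G X Y
    have hmul : χ (toSkeleton (X ⊗ Y)) =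
        (χ (toSkeleton X) : 𝟙_ D ⟶ 𝟙_ D) ≫ (χ (toSkeleton Y) : 𝟙_ D ⟶ 𝟙_ D) := by
      rw [Skeleton.toSkeleton_tensorObj, map_mul]
      exact end_unit_comm _ _
    rw [hmul, ← tensorHom_comp_tensorHom, act_tensor, Category.assoc, act_naturality,
      NatTrans.IsMonoidal.tensor_assoc]

variable (θ : F ⟶ G) [NatTrans.IsMonoidal θ]

/-- The class of `θ` relative to `θ₀` at `X`. -/
noncomputable def c (X : C) : 𝟙_ D ⟶ 𝟙_ D :=
  Classical.choose ((act_bijective (G.obj X) (hD _)).2 (inv (θ₀.app X) ≫ θ.app X))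

lemma hc (X : C) : act (G.obj X) (c hD F G θ₀ θ X) = inv (θ₀.app X) ≫ θ.app X :=
  Classical.choose_spec ((act_bijective (G.obj X) (hD _)).2 (inv (θ₀.app X) ≫ θ.app X))

lemma c_congr {X Y : C} (f : X ⟶ Y) : c hD F G θ₀ θ X = c hD F G θ₀ θ Y := by
  apply (act_bijective (G.obj Y) (hD _)).1
  rw [← cancel_epi (G.map f), ← act_naturality, hc, hc]
  have h : inv (θ₀.app X) ≫ F.map f = G.map f ≫ inv (θ₀.app Y) := by
    rw [IsIso.inv_comp_eq, ← Category.assoc, ← θ₀.naturality, Category.assoc, IsIso.hom_inv_id,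
      Category.comp_id]
  rw [Category.assoc, ← θ.naturality, ← Category.assoc, h, Category.assoc]

lemma c_toSkeleton (X : C) :
    c hD F G θ₀ θ ((fromSkeleton C).obj (toSkeleton X)) = c hD F G θ₀ θ X :=
  c_congr hD F G θ₀ θ (fromSkeletonToSkeletonIso X).hom

lemma c_one : c hD F G θ₀ θ (𝟙_ C) = 𝟙 _ := by
  apply (act_bijective (G.obj (𝟙_ C)) (hD _)).1
  rw [hc, act_id, IsIso.inv_comp_eq, Category.comp_id, ← cancel_epi (ε F),
    NatTrans.IsMonoidal.unit, NatTrans.IsMonoidal.unit]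

lemma c_tensor (X Y : C) :
    c hD F G θ₀ θ (X ⊗ Y) = c hD F G θ₀ θ X ≫ c hD F G θ₀ θ Y := by
  apply (act_bijective (G.obj (X ⊗ Y)) (hD _)).1
  rw [hc, IsIso.inv_comp_eq, ← cancel_epi (μ F X Y), NatTrans.IsMonoidal.tensor,
    NatTrans.IsMonoidal.tensor_assoc, ← act_naturality, ← act_tensor, hc, hc,
    tensorHom_comp_tensorHom_assoc, IsIso.hom_inv_id_assoc, IsIso.hom_inv_id_assoc]

/-- The character attached to `θ`. -/
noncomputable def chi : Skeleton C →* End (𝟙_ D) where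
  toFun s := c hD F G θ₀ θ ((fromSkeleton C).obj s)
  map_one' := by
    rw [Skeleton.one_eq, c_toSkeleton, c_one]; rfl
  map_mul' s t := by
    obtain ⟨X, rfl⟩ : ∃ X, toSkeleton X = s := ⟨_, toSkeleton_fromSkeleton_obj s⟩
    obtain ⟨Y, rfl⟩ : ∃ Y, toSkeleton Y = t := ⟨_, toSkeleton_fromSkeleton_obj t⟩
    rw [← Skeleton.toSkeleton_tensorObj, c_toSkeleton, c_toSkeleton, c_toSkeleton, c_tensor]
    exact end_unit_comm _ _

lemma chi_apply (X : C) :
    (chi hD F G θ₀ θ (toSkeleton X) : 𝟙_ D ⟶ 𝟙_ D) = c hD F G θ₀ θ X :=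
  c_toSkeleton hD F G θ₀ θ X

end Main

open CategoryTheory MonoidalCategory in
theorem main
    {C : Type u} [Category.{v} C] [MonoidalCategory C] [IsGroupoid C]
    {D : Type u'} [Category.{v'} D] [MonoidalCategory D] [BraidedCategory D] [IsGroupoid D]
    (hC : ∀ X : C, (tensorLeft X).IsEquivalence ∧ (tensorRight X).IsEquivalence)
    (hD : ∀ X : D, (tensorLeft X).IsEquivalence ∧ (tensorRight X).IsEquivalence)
    (F G : C ⥤ D) [F.LaxMonoidal] [G.LaxMonoidal] (θ₀ : F ⟶ G) [NatTrans.IsMonoidal θ₀] :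
    (∀ θ : F ⟶ G, NatTrans.IsMonoidal θ →
      ∃! χ : Skeleton C →* End (𝟙_ D), ∀ X : C,
        θ.app X = θ₀.app X ≫ (λ_ (G.obj X)).inv ≫
          ((χ (toSkeleton X) : 𝟙_ D ⟶ 𝟙_ D) ▷ G.obj X) ≫ (λ_ (G.obj X)).hom) ∧
    (∀ χ : Skeleton C →* End (𝟙_ D), ∃ θ : F ⟶ G, NatTrans.IsMonoidal θ ∧ ∀ X : C,
        θ.app X = θ₀.app X ≫ (λ_ (G.obj X)).inv ≫
          ((χ (toSkeleton X) : 𝟙_ D ⟶ 𝟙_ D) ▷ G.obj X) ≫ (λ_ (G.obj X)).hom) := by
  have hD' : ∀ X : D, (tensorRight X).IsEquivalence := fun X => (hD X).2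
  refine ⟨fun θ hθ => ?_, fun χ => ⟨twist F G θ₀ χ, twist_isMonoidal F G θ₀ χ, fun X => rfl⟩⟩
  haveI := hθ
  refine ⟨chi hD' F G θ₀ θ, fun X => ?_, fun χ' hχ' => ?_⟩
  · show θ.app X = θ₀.app X ≫ act (G.obj X) (chi hD' F G θ₀ θ (toSkeleton X))
    rw [chi_apply, hc, IsIso.hom_inv_id_assoc]
  · refine MonoidHom.ext fun s => ?_
    obtain ⟨X, rfl⟩ : ∃ X, toSkeleton X = s := ⟨_, toSkeleton_fromSkeleton_obj s⟩
    apply (act_bijective (G.obj X) (hD' _)).1
    show act (G.obj X) (χ' (toSkeleton X)) = act (G.obj X) (chi hD' F G θ₀ θ (toSkeleton X))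
    rw [chi_apply, hc, IsIso.eq_inv_comp]
    exact (hχ' X).symm

end Groth.Agent.Helper8.PicTorsor
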