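import Mathlib
import Groth.Agent.Helper8.FlatKer

set_option autoImplicit false
universe u

open CategoryTheory CategoryTheory.Limits AlgebraicGeometry Opposite TopologicalSpace

namespace Groth.Agent.Helper8.PinchFlat

/-- pure algebra: a "pullback" ring of flat algebras along a surjection is flat. -/
theorem flat_of_pullback {R A' B C D : Type u} [CommRing R] [CommRing A'] [CommRing B]
    [CommRing C] [CommRing D]
    (φ : R →+* A') (α : A' →+* B) (β : A' →+* D) (γ : B →+* C) (δ : D →+* C)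
    (hcomm : γ.comp α = δ.comp β)
    (hinj : ∀ s s', α s = α s' → β s = β s' → s = s')
    (hglue : ∀ a b, γ a = δ b → ∃ s, α s = a ∧ β s = b)
    (hγ : Function.Surjective γ)
    (hB : (α.comp φ).Flat) (hD : (β.comp φ).Flat) (hC : (γ.comp (α.comp φ)).Flat) : φ.Flat := by
  letI := φ.toAlgebra
  letI := (α.comp φ).toAlgebra
  letI := (β.comp φ).toAlgebra
  letI := (γ.comp (α.comp φ)).toAlgebra
  haveI : Module.Flat R B := hB
  haveI : Module.Flat R D := hD
  haveI : Module.Flat R C := hC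
  haveI : Module.Flat R (B × D) := FlatKer.flat_prod
  have hcomm' : ∀ s, γ (α s) = δ (β s) := fun s => RingHom.congr_fun hcomm s
  let i : A' →ₗ[R] B × D :=
    { toFun := fun s => (α s, β s)
      map_add' := fun s t => by simp
      map_smul' := fun r s => by
        refine Prod.ext ?_ ?_
        · show α (r • s) = r • α s
          rw [Algebra.smul_def, Algebra.smul_def, map_mul]; rfl
        · show β (r • s) = r • β s
          rw [Algebra.smul_def, Algebra.smul_def, map_mul]; rfl }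
  let g : B × D →ₗ[R] C :=
    { toFun := fun p => γ p.1 - δ p.2
      map_add' := fun p p' => by simp only [Prod.fst_add, Prod.snd_add, map_add]; ring
      map_smul' := fun r p => by
        show γ (r • p.1) - δ (r • p.2) = r • (γ p.1 - δ p.2)
        rw [Algebra.smul_def, Algebra.smul_def, Algebra.smul_def, map_mul, map_mul]
        have e1 : algebraMap R B r = α (φ r) := rfl
        have e2 : algebraMap R D r = β (φ r) := rfl
        have e3 : algebraMap R C r = γ (α (φ r)) := rfl
        rw [e1, e2, e3, ← hcomm' (φ r)]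
        ring }
  have hi : Function.Injective i := by
    intro s s' h
    have h1 : α s = α s' := congrArg Prod.fst h
    have h2 : β s = β s' := congrArg Prod.snd h
    exact hinj s s' h1 h2
  have hg : Function.Surjective g := by
    intro c
    obtain ⟨b, rfl⟩ := hγ c
    exact ⟨(b, 0), by simp [g]⟩
  have hex : Function.Exact i g := by
    intro p
    constructor
    · intro hp
      have : γ p.1 = δ p.2 := sub_eq_zero.mp hp
      obtain ⟨s, hs1, hs2⟩ := hglue p.1 p.2 this
      exact ⟨s, Prod.ext hs1 hs2⟩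
    · rintro ⟨s, rfl⟩
      show γ (α s) - δ (β s) = 0
      rw [hcomm' s, sub_self]
  exact FlatKer.flat_ker i g hi hg hex

/-- elements of a limit in `CommRingCat` with prescribed compatible components -/
theorem exists_of_compatible (D : WalkingSpanᵒᵖ ⥤ CommRingCat.{u}) {c : Cone D}
    (hc : IsLimit c) (x : ∀ j, D.obj j)
    (hx : ∀ {j j' : WalkingSpanᵒᵖ} (f : j ⟶ j'), D.map f (x j) = x j') :
    ∃ l : c.pt, ∀ j, c.π.app j l = x j := by
  let E := (forget CommRingCat).mapCone c
  have hE : IsLimit E := isLimitOfPreserves _ hc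
  let y : (D ⋙ forget CommRingCat).sections := ⟨x, fun f => hx f⟩
  refine ⟨(Types.isLimitEquivSections hE).symm y, fun j => ?_⟩
  exact Types.isLimitEquivSections_symm_apply hE y j

section LemmaP

/-- presheafed spaces of commutative rings, all in one universe -/
abbrev PSp := PresheafedSpace.{_, _, u} CommRingCat.{u}

theorem map_map_apply {T : TopCat.{u}} (F : (Opens T)ᵒᵖ ⥤ CommRingCat.{u}) {A B C : (Opens T)ᵒᵖ}
    (f : A ⟶ B) (g : B ⟶ C) (h : A ⟶ C) (x : F.obj A) : F.map g (F.map f x) = F.map h x := by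
  have : f ≫ g = h := Subsingleton.elim _ _
  rw [← this, F.map_comp]
  rfl

theorem map_self_apply {T : TopCat.{u}} (F : (Opens T)ᵒᵖ ⥤ CommRingCat.{u}) {A : (Opens T)ᵒᵖ}
    (f : A ⟶ A) (x : F.obj A) : F.map f x = x := by
  have : f = 𝟙 A := Subsingleton.elim _ _
  rw [this, F.map_id]
  rfl

theorem map_comp_apply {T : TopCat.{u}} (F : (Opens T)ᵒᵖ ⥤ CommRingCat.{u}) {A B C : (Opens T)ᵒᵖ}
    (f : A ⟶ B) (g : B ⟶ C) (x : F.obj A) : F.map g (F.map f x) = F.map (f ≫ g) x := by
  rw [F.map_comp]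
  rfl

theorem map_congr_apply {T : TopCat.{u}} (F : (Opens T)ᵒᵖ ⥤ CommRingCat.{u}) {A B : (Opens T)ᵒᵖ}
    (f g : A ⟶ B) (x : F.obj A) : F.map f x = F.map g x := by
  rw [Subsingleton.elim f g]

theorem map_injective {T : TopCat.{u}} (F : (Opens T)ᵒᵖ ⥤ CommRingCat.{u}) {A B : (Opens T)ᵒᵖ}
    (f : A ⟶ B) (g : B ⟶ A) : Function.Injective (F.map f) := by
  intro x y h
  have := congrArg (F.map g) h
  rwa [map_map_apply F f g (𝟙 A), map_map_apply F f g (𝟙 A), map_self_apply, map_self_apply] at this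

theorem c_app_of_comp_eq {A B C : PSp.{u}} (f : A ⟶ B) (g : B ⟶ C)
    (h : A ⟶ C) (hh : f ≫ g = h) (W : Opens C) (s : C.presheaf.obj (op W)) :
    h.c.app (op W) s = A.presheaf.map (eqToHom (show (Opens.map h.base).obj W =
        (Opens.map f.base).obj ((Opens.map g.base).obj W) by subst hh; rfl)).op
      (f.c.app (op ((Opens.map g.base).obj W)) (g.c.app (op W) s)) := by
  subst hh
  exact (map_self_apply (T := A.carrier) A.presheaf
    (A := op ((Opens.map (f ≫ g).base).obj W)) (eqToHom rfl).op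
    (f.c.app (op ((Opens.map g.base).obj W)) (g.c.app (op W) s))).symm

variable {X Z Z' X' : PSp.{u}} {ι : Z ⟶ X} {q : Z ⟶ Z'} {π : X ⟶ X'} {ι' : Z' ⟶ X'}

theorem sections_inj (hpo : IsPushout ι q π ι') (W : Opens X') (s s' : X'.presheaf.obj (op W))
    (h1 : π.c.app (op W) s = π.c.app (op W) s')
    (h2 : ι'.c.app (op W) s = ι'.c.app (op W) s') : s = s' := by
  let t : ColimitCocone (span ι q) := ⟨hpo.cocone, hpo.isColimit⟩
  let e := colimit.isoColimitCocone t
  have hL : colimit.ι (span ι q) WalkingSpan.left ≫ e.hom = π :=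
    colimit.isoColimitCocone_ι_hom t WalkingSpan.left
  have hR : colimit.ι (span ι q) WalkingSpan.right ≫ e.hom = ι' :=
    colimit.isoColimitCocone_ι_hom t WalkingSpan.right
  let U : Opens (colimit (span ι q)).carrier := (Opens.map e.hom.base).obj W
  haveI : IsIso e.hom.c := PresheafedSpace.c_isIso_of_iso e.hom
  let L := PresheafedSpace.colimitPresheafObjIsoComponentwiseLimit (span ι q) U
  let D := PresheafedSpace.componentwiseDiagram (span ι q) U
  let t₁ := e.hom.c.app (op W) s
  let t₂ := e.hom.c.app (op W) s'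
  have hπL : ∀ z, (colimit.ι (span ι q) WalkingSpan.left).c.app (op U) z =
      limit.π D (op WalkingSpan.left) (L.hom z) := fun z => by
    rw [← PresheafedSpace.colimitPresheafObjIsoComponentwiseLimit_hom_π]; rfl
  have hπR : ∀ z, (colimit.ι (span ι q) WalkingSpan.right).c.app (op U) z =
      limit.π D (op WalkingSpan.right) (L.hom z) := fun z => by
    rw [← PresheafedSpace.colimitPresheafObjIsoComponentwiseLimit_hom_π]; rfl
  have e1 : limit.π D (op WalkingSpan.left) (L.hom t₁) = limit.π D (op WalkingSpan.left) (L.hom t₂) := by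
    rw [← hπL, ← hπL]
    have a1 := c_app_of_comp_eq _ _ _ hL W s
    have a2 := c_app_of_comp_eq _ _ _ hL W s'
    have h1' := a1.symm.trans (h1.trans a2)
    exact map_injective (T := X.carrier) X.presheaf _ (eqToHom (by rw [← hL]; rfl)).op h1'
  have e2 : limit.π D (op WalkingSpan.right) (L.hom t₁) = limit.π D (op WalkingSpan.right) (L.hom t₂) := by
    rw [← hπR, ← hπR]
    have a1 := c_app_of_comp_eq _ _ _ hR W s
    have a2 := c_app_of_comp_eq _ _ _ hR W s'
    have h2' := a1.symm.trans (h2.trans a2)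
    exact map_injective (T := Z'.carrier) Z'.presheaf _ (eqToHom (by rw [← hR]; rfl)).op h2'
  have e0 : limit.π D (op WalkingSpan.zero) (L.hom t₁) = limit.π D (op WalkingSpan.zero) (L.hom t₂) := by
    have hw := limit.w D (WalkingSpan.Hom.fst : WalkingSpan.zero ⟶ WalkingSpan.left).op
    rw [← hw]
    show D.map _ (limit.π D (op WalkingSpan.left) (L.hom t₁)) =
      D.map _ (limit.π D (op WalkingSpan.left) (L.hom t₂))
    rw [e1]
  have hLL : L.hom t₁ = L.hom t₂ := by
    apply Concrete.limit_ext D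
    rintro ⟨(_ | _ | _)⟩
    · exact e0
    · exact e1
    · exact e2
  have ht : t₁ = t₂ := (ConcreteCategory.bijective_of_isIso L.hom).1 hLL
  exact (ConcreteCategory.bijective_of_isIso (e.hom.c.app (op W))).1 ht

theorem sections_glue (hpo : IsPushout ι q π ι') (W : Opens X')
    (a : X.presheaf.obj (op ((Opens.map π.base).obj W)))
    (b : Z'.presheaf.obj (op ((Opens.map ι'.base).obj W)))
    (hZ : (Opens.map ι.base).obj ((Opens.map π.base).obj W) =
      (Opens.map q.base).obj ((Opens.map ι'.base).obj W))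
    (hab : ι.c.app (op ((Opens.map π.base).obj W)) a =
      Z.presheaf.map (eqToHom hZ).op (q.c.app (op ((Opens.map ι'.base).obj W)) b)) :
    ∃ s : X'.presheaf.obj (op W), π.c.app (op W) s = a ∧ ι'.c.app (op W) s = b := by
  let t : ColimitCocone (span ι q) := ⟨hpo.cocone, hpo.isColimit⟩
  let e := colimit.isoColimitCocone t
  have hL : colimit.ι (span ι q) WalkingSpan.left ≫ e.hom = π :=
    colimit.isoColimitCocone_ι_hom t WalkingSpan.left
  have hR : colimit.ι (span ι q) WalkingSpan.right ≫ e.hom = ι' :=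
    colimit.isoColimitCocone_ι_hom t WalkingSpan.right
  let U : Opens (colimit (span ι q)).carrier := (Opens.map e.hom.base).obj W
  haveI : IsIso e.hom.c := PresheafedSpace.c_isIso_of_iso e.hom
  let L := PresheafedSpace.colimitPresheafObjIsoComponentwiseLimit (span ι q) U
  let D := PresheafedSpace.componentwiseDiagram (span ι q) U
  have hUL : (Opens.map (colimit.ι (span ι q) WalkingSpan.left).base).obj U =
      (Opens.map π.base).obj W := by rw [← hL]; rfl
  have hUR : (Opens.map (colimit.ι (span ι q) WalkingSpan.right).base).obj U =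
      (Opens.map ι'.base).obj W := by rw [← hR]; rfl
  let a' : D.obj (op WalkingSpan.left) := X.presheaf.map (eqToHom hUL).op a
  let b' : D.obj (op WalkingSpan.right) := Z'.presheaf.map (eqToHom hUR).op b
  let x : ∀ j : WalkingSpanᵒᵖ, D.obj j := fun j => match j with
    | ⟨none⟩ => D.map (WalkingSpan.Hom.fst : WalkingSpan.zero ⟶ WalkingSpan.left).op a'
    | ⟨some WalkingPair.left⟩ => a'
    | ⟨some WalkingPair.right⟩ => b'
  have hkey : D.map (WalkingSpan.Hom.snd : WalkingSpan.zero ⟶ WalkingSpan.right).op b' =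
      D.map (WalkingSpan.Hom.fst : WalkingSpan.zero ⟶ WalkingSpan.left).op a' := by
    simp only [D, PresheafedSpace.componentwiseDiagram_map]
    have n1 : ι.c.app (op ((Opens.map (colimit.ι (span ι q) WalkingSpan.left).base).obj U)) a' =
        Z.presheaf.map ((Opens.map ι.base).map (eqToHom hUL)).op
          (ι.c.app (op ((Opens.map π.base).obj W)) a) :=
      NatTrans.naturality_apply ι.c (eqToHom hUL).op a
    have n2 : q.c.app (op ((Opens.map (colimit.ι (span ι q) WalkingSpan.right).base).obj U)) b' =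
        Z.presheaf.map ((Opens.map q.base).map (eqToHom hUR)).op
          (q.c.app (op ((Opens.map ι'.base).obj W)) b) :=
      NatTrans.naturality_apply q.c (eqToHom hUR).op b
    show Z.presheaf.map _ (q.c.app
        (op ((Opens.map (colimit.ι (span ι q) WalkingSpan.right).base).obj U)) b') =
      Z.presheaf.map _ (ι.c.app
        (op ((Opens.map (colimit.ι (span ι q) WalkingSpan.left).base).obj U)) a')
    rw [n1, n2, hab, map_comp_apply (T := Z.carrier) Z.presheaf,
      map_comp_apply (T := Z.carrier) Z.presheaf, map_comp_apply (T := Z.carrier) Z.presheaf]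
    exact map_congr_apply (T := Z.carrier) Z.presheaf _ _ _
  have hx : ∀ {j j' : WalkingSpanᵒᵖ} (f : j ⟶ j'), D.map f (x j) = x j' := by
    rintro ⟨j⟩ ⟨j'⟩ f
    obtain ⟨f, rfl⟩ : ∃ f' : j' ⟶ j, f = f'.op := ⟨f.unop, rfl⟩
    rcases f with _ | i
    · show D.map (𝟙 (op j)) (x (op j)) = x (op j)
      rw [D.map_id]; rfl
    · rcases i with _ | _
      · rfl
      · exact hkey
  obtain ⟨l, hl⟩ := exists_of_compatible D (limit.isLimit D) x hx
  have hlL : limit.π D (op WalkingSpan.left) l = a' := hl (op WalkingSpan.left)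
  have hlR : limit.π D (op WalkingSpan.right) l = b' := hl (op WalkingSpan.right)
  have hinvL : ∀ z, (colimit.ι (span ι q) WalkingSpan.left).c.app (op U) (L.inv z) =
      limit.π D (op WalkingSpan.left) z := fun z => by
    rw [← PresheafedSpace.colimitPresheafObjIsoComponentwiseLimit_inv_ι_app]; rfl
  have hinvR : ∀ z, (colimit.ι (span ι q) WalkingSpan.right).c.app (op U) (L.inv z) =
      limit.π D (op WalkingSpan.right) z := fun z => by
    rw [← PresheafedSpace.colimitPresheafObjIsoComponentwiseLimit_inv_ι_app]; rfl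
  obtain ⟨s, hs⟩ := (ConcreteCategory.bijective_of_isIso (e.hom.c.app (op W))).2 (L.inv l)
  refine ⟨s, ?_, ?_⟩
  · have a1 := c_app_of_comp_eq _ _ _ hL W s
    refine a1.trans ?_
    rw [hs]
    refine (congrArg _ ((hinvL l).trans hlL)).trans ?_
    show X.presheaf.map _ (X.presheaf.map _ a) = a
    rw [map_comp_apply (T := X.carrier) X.presheaf]
    exact map_self_apply (T := X.carrier) X.presheaf _ a
  · have a1 := c_app_of_comp_eq _ _ _ hR W s
    refine a1.trans ?_
    rw [hs]
    refine (congrArg _ ((hinvR l).trans hlR)).trans ?_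
    show Z'.presheaf.map _ (Z'.presheaf.map _ b) = b
    rw [map_comp_apply (T := Z'.carrier) Z'.presheaf]
    exact map_self_apply (T := Z'.carrier) Z'.presheaf _ b

end LemmaP

section Main

theorem main {S X Z Z' X' : Scheme.{u}}
    (fX : X ⟶ S) (fZ' : Z' ⟶ S) (fX' : X' ⟶ S) (ι : Z ⟶ X) (q : Z ⟶ Z') (π : X ⟶ X') (ι' : Z' ⟶ X')
    [IsClosedImmersion ι] [IsClosedImmersion ι'] [IsAffineHom q] [IsAffineHom π]
    (hq : q ≫ fZ' = ι ≫ fX) (hπ : π ≫ fX' = fX) (hι' : ι' ≫ fX' = fZ')
    (hpo : IsPushout ((Scheme.forgetToLocallyRingedSpace ⋙ LocallyRingedSpace.forgetToSheafedSpace).map ι) ((Scheme.forgetToLocallyRingedSpace ⋙ LocallyRingedSpace.forgetToSheafedSpace).map q)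
      ((Scheme.forgetToLocallyRingedSpace ⋙ LocallyRingedSpace.forgetToSheafedSpace).map π) ((Scheme.forgetToLocallyRingedSpace ⋙ LocallyRingedSpace.forgetToSheafedSpace).map ι'))
    [Flat fX] [Flat (ι ≫ fX)] [Flat fZ'] :
    Flat fX' := by
  subst hπ hι'
  have hw : ι ≫ π = q ≫ ι' := by
    apply (Scheme.forgetToLocallyRingedSpace ⋙ LocallyRingedSpace.forgetToSheafedSpace).map_injective
    simpa only [Functor.map_comp] using hpo.w
  have hpo' := hpo.map SheafedSpace.forgetToPresheafedSpace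
  rw [HasRingHomProperty.iff_appLE (P := @Flat)]
  rintro ⟨U, hU⟩ ⟨V, hV⟩ e
  have hVX : IsAffineOpen (π ⁻¹ᵁ V) := hV.preimage π
  have hVZ' : IsAffineOpen (ι' ⁻¹ᵁ V) := hV.preimage ι'
  have hVZ : IsAffineOpen (ι ⁻¹ᵁ π ⁻¹ᵁ V) := hVX.preimage ι
  have hZ : ι ⁻¹ᵁ π ⁻¹ᵁ V = q ⁻¹ᵁ ι' ⁻¹ᵁ V := congrArg (fun f : Z ⟶ X' => f ⁻¹ᵁ V) hw
  have eX : π ⁻¹ᵁ V ≤ (π ≫ fX') ⁻¹ᵁ U := fun x hx => e hx
  have eZ' : ι' ⁻¹ᵁ V ≤ (ι' ≫ fX') ⁻¹ᵁ U := fun x hx => e hx
  have eZ : ι ⁻¹ᵁ π ⁻¹ᵁ V ≤ (ι ≫ π ≫ fX') ⁻¹ᵁ U := fun x hx => e hx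
  have hB := HasRingHomProperty.appLE @Flat (π ≫ fX') inferInstance ⟨U, hU⟩ ⟨_, hVX⟩ eX
  have hD := HasRingHomProperty.appLE @Flat (ι' ≫ fX') inferInstance ⟨U, hU⟩ ⟨_, hVZ'⟩ eZ'
  have hC := HasRingHomProperty.appLE @Flat (ι ≫ π ≫ fX') inferInstance ⟨U, hU⟩ ⟨_, hVZ⟩ eZ
  refine flat_of_pullback (fX'.appLE U V e).hom (π.app V).hom (ι'.app V).hom
    (ι.app (π ⁻¹ᵁ V)).hom (q.app (ι' ⁻¹ᵁ V) ≫ Z.presheaf.map (eqToHom hZ).op).hom ?_ ?_ ?_ ?_ ?_ ?_ ?_
  · -- commutativity
    have := Scheme.Hom.congr_app hw V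
    rw [Scheme.Hom.comp_app, Scheme.Hom.comp_app] at this
    rw [← CommRingCat.hom_comp, ← CommRingCat.hom_comp, this]
    exact congrArg CommRingCat.Hom.hom (Category.assoc _ _ _)
  · intro s s' h1 h2
    exact sections_inj hpo' V s s' h1 h2
  · intro a b hab
    exact sections_glue hpo' V a b hZ hab
  · exact ι.app_surjective _ hVX
  · rw [← CommRingCat.hom_comp]
    have h := Scheme.Hom.appLE_comp_appLE π fX' U V (π ⁻¹ᵁ V) e le_rfl
    rw [Scheme.Hom.appLE_eq_app] at h
    rw [h]
    exact hB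
  · rw [← CommRingCat.hom_comp]
    have h := Scheme.Hom.appLE_comp_appLE ι' fX' U V (ι' ⁻¹ᵁ V) e le_rfl
    rw [Scheme.Hom.appLE_eq_app] at h
    rw [h]
    exact hD
  · rw [← CommRingCat.hom_comp, ← CommRingCat.hom_comp]
    have h := Scheme.Hom.appLE_comp_appLE π fX' U V (π ⁻¹ᵁ V) e le_rfl
    rw [Scheme.Hom.appLE_eq_app] at h
    have h2 := Scheme.Hom.appLE_comp_appLE ι (π ≫ fX') U (π ⁻¹ᵁ V) (ι ⁻¹ᵁ π ⁻¹ᵁ V) eX le_rfl
    rw [Scheme.Hom.appLE_eq_app] at h2
    rw [h, h2]
    exact hC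

end Main

end Groth.Agent.Helper8.PinchFlat
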