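import Mathlib
import Groth.Prelude.Def_W4bk4grassmannianPl
import Groth.Agent.Helper8.PluckerQ
import Groth.Agent.Helper8.SemiStab

namespace Groth.Agent.Helper8.PluckerInj

open W4bk4grassmannian

universe u

variable {K : Type u} [Field K]

theorem cramer_row {d : ℕ} (M : Matrix (Fin d) (Fin d) K) (u : Fin d → K) (j : Fin d) :
    ∑ k, (M.updateRow k u).det * M k j = M.det * u j := by
  have h := congrFun (Matrix.mulVec_cramer M.transpose u) j
  rw [Matrix.det_transpose] at h
  simp only [Matrix.mulVec, dotProduct, Matrix.transpose_apply, Matrix.cramer_transpose_apply,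
    Pi.smul_apply, smul_eq_mul] at h
  rw [← h]
  exact Finset.sum_congr rfl (fun k _ => mul_comm _ _)

theorem updateRow_submatrix {d n : ℕ} (A : Matrix (Fin n) (Fin d) K) (θ : Fin d → Fin n)
    (k : Fin d) (ρ : Fin n) :
    (A.submatrix θ id).updateRow k (A ρ) = A.submatrix (Function.update θ k ρ) id := by
  ext t j
  rw [Matrix.updateRow_apply]
  show (if t = k then A ρ j else A (θ t) j) = A (Function.update θ k ρ t) j
  by_cases htk : t = k
  · rw [if_pos htk, htk, Function.update_self]
  · rw [if_neg htk, Function.update_of_ne htk]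

theorem exists_mul_eq {d n : ℕ} (A A' : Matrix (Fin n) (Fin d) K) (c : K) (hc : c ≠ 0)
    (h : ∀ a : Fin d → Fin n, (A.submatrix a id).det = c * (A'.submatrix a id).det)
    (θ : Fin d → Fin n) (hθ : (A'.submatrix θ id).det ≠ 0) :
    ∃ G : Matrix (Fin d) (Fin d) K, A = A' * G := by
  obtain ⟨B, hB⟩ : ∃ B : Matrix (Fin n) (Fin d) K, ∀ ρ k, B ρ k =
      ((A'.submatrix θ id).det)⁻¹ * (A'.submatrix (Function.update θ k ρ) id).det :=
    ⟨Matrix.of fun ρ k =>
      ((A'.submatrix θ id).det)⁻¹ * (A'.submatrix (Function.update θ k ρ) id).det,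
      fun ρ k => rfl⟩
  have hA' : A' = B * A'.submatrix θ id := by
    ext ρ j
    rw [Matrix.mul_apply]
    have hcr := cramer_row (A'.submatrix θ id) (A' ρ) j
    simp only [updateRow_submatrix] at hcr
    have : A' ρ j = ((A'.submatrix θ id).det)⁻¹ *
        ∑ k, (A'.submatrix (Function.update θ k ρ) id).det * (A'.submatrix θ id) k j := by
      rw [hcr, ← mul_assoc, inv_mul_cancel₀ hθ, one_mul]
    rw [this, Finset.mul_sum]
    refine Finset.sum_congr rfl (fun k _ => ?_)
    rw [hB, mul_assoc]
  have hθA : (A.submatrix θ id).det ≠ 0 := by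
    rw [h θ]
    exact mul_ne_zero hc hθ
  have hA : A = B * A.submatrix θ id := by
    ext ρ j
    rw [Matrix.mul_apply]
    have hcr := cramer_row (A.submatrix θ id) (A ρ) j
    simp only [updateRow_submatrix] at hcr
    have : A ρ j = ((A.submatrix θ id).det)⁻¹ *
        ∑ k, (A.submatrix (Function.update θ k ρ) id).det * (A.submatrix θ id) k j := by
      rw [hcr, ← mul_assoc, inv_mul_cancel₀ hθA, one_mul]
    rw [this, Finset.mul_sum]
    refine Finset.sum_congr rfl (fun k _ => ?_)
    rw [hB, h θ, h (Function.update θ k ρ), mul_inv]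
    have hcc : c⁻¹ * c = 1 := inv_mul_cancel₀ hc
    linear_combination (((A'.submatrix θ id).det)⁻¹ *
      (A'.submatrix (Function.update θ k ρ) id).det * (A.submatrix θ id) k j) * hcc
  refine ⟨(A'.submatrix θ id)⁻¹ * A.submatrix θ id, ?_⟩
  have hunit : IsUnit (A'.submatrix θ id).det := isUnit_iff_ne_zero.mpr hθ
  calc A = B * A.submatrix θ id := hA
    _ = B * (A'.submatrix θ id * (A'.submatrix θ id)⁻¹) * A.submatrix θ id := by
        rw [Matrix.mul_nonsing_inv _ hunit, Matrix.mul_one]
    _ = (B * A'.submatrix θ id) * ((A'.submatrix θ id)⁻¹ * A.submatrix θ id) := by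
        simp only [Matrix.mul_assoc]
    _ = A' * ((A'.submatrix θ id)⁻¹ * A.submatrix θ id) := by rw [← hA']

theorem span_le_of_mul {d n : ℕ} (A A' : Matrix (Fin n) (Fin d) K)
    (G : Matrix (Fin d) (Fin d) K) (hG : A = A' * G) :
    Submodule.span K (Set.range A.transpose) ≤ Submodule.span K (Set.range A'.transpose) := by
  rw [Submodule.span_le]
  rintro _ ⟨j, rfl⟩
  have : A.transpose j = ∑ k, G k j • A'.transpose k := by
    funext ρ
    rw [hG, Matrix.transpose_apply, Matrix.mul_apply, Finset.sum_apply]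
    refine Finset.sum_congr rfl (fun k _ => ?_)
    rw [Pi.smul_apply, Matrix.transpose_apply, smul_eq_mul, mul_comm]
  rw [this]
  exact Submodule.sum_mem _ (fun k _ => Submodule.smul_mem _ _ (Submodule.subset_span ⟨k, rfl⟩))

theorem main (K : Type u) [Field K] (d n : ℕ)
    (A A' : Matrix (Fin n) (Fin d) K) (hA : LinearIndependent K A.transpose)
    (hA' : LinearIndependent K A'.transpose) (c : K) (hc : c ≠ 0)
    (h : ∀ θ : Idx d n, (A.submatrix θ.1 id).det = c * (A'.submatrix θ.1 id).det) :
    Submodule.span K (Set.range A.transpose) = Submodule.span K (Set.range A'.transpose) := by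
  have hall : ∀ a : Fin d → Fin n, (A.submatrix a id).det = c * (A'.submatrix a id).det := by
    intro a
    rw [← PluckerQ.eval_coord_minors A a, ← PluckerQ.eval_coord_minors A' a,
      PluckerQ.eval_coord, PluckerQ.eval_coord]
    split_ifs with hcard
    · show _ * (A.submatrix (sortIdx d n a hcard).1 id).det =
        c * (_ * (A'.submatrix (sortIdx d n a hcard).1 id).det)
      rw [h (sortIdx d n a hcard)]
      ring
    · rw [mul_zero]
  obtain ⟨θ, hθ⟩ := SemiStab.exists_minor_ne_zero A hA
  have hθ2 : (A'.submatrix θ id).det ≠ 0 := by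
    intro h0
    apply hθ
    rw [hall θ, h0, mul_zero]
  obtain ⟨G, hG⟩ := exists_mul_eq A A' c hc hall θ hθ2
  have hall' : ∀ a : Fin d → Fin n,
      (A'.submatrix a id).det = c⁻¹ * (A.submatrix a id).det := by
    intro a
    rw [hall a, ← mul_assoc, inv_mul_cancel₀ hc, one_mul]
  obtain ⟨G', hG'⟩ := exists_mul_eq A' A c⁻¹ (inv_ne_zero hc) hall' θ hθ
  exact le_antisymm (span_le_of_mul A A' G hG) (span_le_of_mul A' A G' hG')

end Groth.Agent.Helper8.PluckerInj
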