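import Mathlib
import Groth.Agent.Helper5.Rigid3

/-!
# A pointed morphism from an abelian variety to a separated group scheme is a homomorphism
-/

set_option autoImplicit false
universe u

open AlgebraicGeometry CategoryTheory CategoryTheory.Limits
open MonoidalCategory CartesianMonoidalCategory MonObj GrpObj

namespace Groth.Agent.Helper8.PointedHom

variable {k : Type u} [Field k] {A A' : Over (Spec (CommRingCat.of k))}

theorem isMonHom_of_pointed [GrpObj A] [IsProper A.hom] [GeometricallyIntegral A.hom]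
    [GrpObj A'] [IsSeparated A'.hom] (g : A ⟶ A') (hg : η[A] ≫ g = η[A']) : IsMonHom g := by
  refine ⟨hg, ?_⟩
  -- the difference map
  let F : A ⊗ A ⟶ A' := (μ[A] ≫ g) * ((fst A A ≫ g) * (snd A A ≫ g))⁻¹
  have h1g : (1 : A ⟶ A) ≫ g = 1 := by
    rw [Hom.one_def, Category.assoc, hg, ← Hom.one_def]
  have hV : lift (𝟙 A) (toUnit A ≫ η[A]) ≫ F = toUnit A ≫ η[A'] := by
    have e1 : lift (𝟙 A) (toUnit A ≫ η[A]) ≫ μ[A] = 𝟙 A := by
      rw [← Hom.mul_def, ← Hom.one_def, _root_.mul_one]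
    show lift (𝟙 A) (toUnit A ≫ η[A]) ≫ ((μ[A] ≫ g) * ((fst A A ≫ g) * (snd A A ≫ g))⁻¹) = _
    rw [MonObj.comp_mul, GrpObj.comp_inv, MonObj.comp_mul, ← Category.assoc, e1,
      ← Category.assoc, lift_fst, ← Category.assoc, lift_snd, Category.id_comp,
      ← Hom.one_def, h1g, _root_.mul_one, mul_inv_cancel, Hom.one_def]
  have hW : lift (toUnit A ≫ η[A]) (𝟙 A) ≫ F = toUnit A ≫ η[A'] := by
    have e1 : lift (toUnit A ≫ η[A]) (𝟙 A) ≫ μ[A] = 𝟙 A := by
      rw [← Hom.mul_def, ← Hom.one_def, _root_.one_mul]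
    show lift (toUnit A ≫ η[A]) (𝟙 A) ≫ ((μ[A] ≫ g) * ((fst A A ≫ g) * (snd A A ≫ g))⁻¹) = _
    rw [MonObj.comp_mul, GrpObj.comp_inv, MonObj.comp_mul, ← Category.assoc, e1,
      ← Category.assoc, lift_fst, ← Category.assoc, lift_snd, Category.id_comp,
      ← Hom.one_def, h1g, _root_.one_mul, mul_inv_cancel, Hom.one_def]
  have hF : F = toUnit (A ⊗ A) ≫ η[A'] :=
    Groth.Agent.Helper5.Rigid.s8117 F η[A] η[A] η[A'] hV hW
  rw [← Hom.one_def] at hF
  have h2 : μ[A] ≫ g = (fst A A ≫ g) * (snd A A ≫ g) := by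
    have : (μ[A] ≫ g) * ((fst A A ≫ g) * (snd A A ≫ g))⁻¹ = 1 := hF
    exact mul_inv_eq_one.1 this
  rw [h2, Hom.mul_def, lift_fst_comp_snd_comp]

end Groth.Agent.Helper8.PointedHom
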