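import Groth.Statements.S17242
import Mathlib.Algebra.Polynomial.Derivative
import Mathlib.Algebra.Polynomial.Taylor
import Mathlib.Algebra.Polynomial.RingDivision
import Mathlib.Algebra.Polynomial.Roots
import Mathlib.Algebra.Polynomial.BigOperators
import Mathlib.LinearAlgebra.FiniteDimensional.Basic
import Mathlib.RingTheory.Polynomial.Basic
import Mathlib.Tactic.FieldSimp
import Mathlib.Tactic.Ring
import Mathlib.Tactic.LinearCombination
import Mathlib.Tactic.Linarith

set_option autoImplicit false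

namespace Groth.Agent.Helper8.Polar

open Polynomial

section
variable {k : Type*} [Field k] [CharZero k]

/-- antiderivative of a polynomial of degree `< b` -/
theorem exists_antideriv (b : ℕ) (g : k[X]) (hg : g ∈ degreeLT k b) :
    ∃ G₀ : k[X], derivative G₀ = g ∧ natDegree G₀ ≤ b := by
  by_cases h0 : g = 0
  · exact ⟨0, by simp [h0], by simp⟩
  have hdeg : g.natDegree < b := (natDegree_lt_iff_degree_lt h0).mpr (mem_degreeLT.mp hg)
  refine ⟨∑ i ∈ Finset.range b, C (g.coeff i / ((i : k) + 1)) * X ^ (i + 1), ?_, ?_⟩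
  · rw [derivative_sum]
    have : ∀ i ∈ Finset.range b, derivative (C (g.coeff i / ((i : k) + 1)) * X ^ (i + 1)) =
        C (g.coeff i) * X ^ i := by
      intro i _
      rw [derivative_C_mul, derivative_X_pow, ← mul_assoc, ← C_mul]
      congr 2
      have : ((i : k) + 1) ≠ 0 := Nat.cast_add_one_ne_zero i
      push_cast
      field_simp
    rw [Finset.sum_congr rfl this]
    conv_rhs => rw [g.as_sum_range' b hdeg]
    simp only [C_mul_X_pow_eq_monomial]
  · refine natDegree_sum_le_of_forall_le _ _ fun i hi => ?_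
    refine (natDegree_C_mul_X_pow_le _ _).trans ?_
    have := Finset.mem_range.mp hi
    omega

theorem derivative_pow_mul_self (r : k) (l : ℕ) :
    derivative ((X - C r) ^ l) * (X - C r) = C (l : k) * (X - C r) ^ l := by
  cases l with
  | zero => simp
  | succ n =>
    rw [derivative_X_sub_C_pow, Nat.add_sub_cancel, mul_assoc, ← pow_succ]

/-- solve `G' u - a G = g` for `deg g < a` -/
theorem exists_polar (r : k) (a : ℕ) (g : k[X]) (hg : g ∈ degreeLT k a) :
    ∃ G : k[X], derivative G * (X - C r) - C (a : k) * G = g ∧ G ∈ degreeLT k a := by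
  by_cases h0 : g = 0
  · exact ⟨0, by simp [h0], Submodule.zero_mem _⟩
  have hdeg : g.natDegree < a := (natDegree_lt_iff_degree_lt h0).mpr (mem_degreeLT.mp hg)
  set t := taylor r g with ht
  have htdeg : t.natDegree < a := by rw [ht, natDegree_taylor]; exact hdeg
  refine ⟨∑ l ∈ Finset.range a, C (t.coeff l / ((l : k) - a)) * (X - C r) ^ l, ?_, ?_⟩
  · rw [derivative_sum, Finset.sum_mul, Finset.mul_sum, ← Finset.sum_sub_distrib]
    have : ∀ l ∈ Finset.range a,
        derivative (C (t.coeff l / ((l : k) - a)) * (X - C r) ^ l) * (X - C r) -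
          C (a : k) * (C (t.coeff l / ((l : k) - a)) * (X - C r) ^ l) =
        C (t.coeff l) * (X - C r) ^ l := by
      intro l hl
      have hla : ((l : k) - a) ≠ 0 := by
        rw [sub_ne_zero]
        exact_mod_cast (Finset.mem_range.mp hl).ne
      rw [derivative_C_mul, mul_assoc, derivative_pow_mul_self]
      have : t.coeff l = (t.coeff l / ((l : k) - a)) * ((l : k) - a) := by field_simp
      conv_rhs => rw [this, C_mul, C_sub]
      ring
    rw [Finset.sum_congr rfl this]
    have h2 := sum_taylor_eq g r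
    rw [← ht, Polynomial.sum_over_range' t (fun n => by simp) a htdeg] at h2
    exact h2
  · refine Submodule.sum_mem _ fun l hl => ?_
    rw [mem_degreeLT]
    have h1 : (C (t.coeff l / ((l : k) - a)) * (X - C r) ^ l).natDegree ≤ l := by
      refine (natDegree_C_mul_le _ _).trans ?_
      refine natDegree_pow_le.trans ?_
      rw [natDegree_X_sub_C, mul_one]
    exact lt_of_le_of_lt degree_le_natDegree
      (by exact_mod_cast lt_of_le_of_lt h1 (Finset.mem_range.mp hl))

end

section Setup
variable {k : Type*} [Field k] [CharZero k] {m : ℕ} (r : Fin m → k) (a : Fin m → ℕ)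

noncomputable def EE : k[X] := ∏ j, (X - C (r j)) ^ a j
noncomputable def PP : k[X] := ∏ j, (X - C (r j))
noncomputable def DD : k[X] := ∏ j, (X - C (r j)) ^ (a j + 1)
noncomputable def Di (i : Fin m) : k[X] := ∏ j ∈ Finset.univ.erase i, (X - C (r j)) ^ (a j + 1)
noncomputable def Ei (i : Fin m) : k[X] := ∏ j ∈ Finset.univ.erase i, (X - C (r j)) ^ a j
noncomputable def Pi (i : Fin m) : k[X] := ∏ j ∈ Finset.univ.erase i, (X - C (r j))

def Rel (h G : k[X]) : Prop :=
  h * EE r a = PP r * (derivative G * EE r a - G * derivative (EE r a))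

theorem DD_eq : DD r a = PP r * EE r a := by
  unfold DD PP EE
  rw [← Finset.prod_mul_distrib]
  exact Finset.prod_congr rfl fun j _ => pow_succ' _ _

theorem EE_eq (i : Fin m) : EE r a = (X - C (r i)) ^ a i * Ei r a i := by
  unfold EE Ei
  exact (Finset.mul_prod_erase Finset.univ (fun j => (X - C (r j)) ^ a j) (Finset.mem_univ i)).symm

theorem PP_eq (i : Fin m) : PP r = (X - C (r i)) * Pi r i := by
  unfold PP Pi
  exact (Finset.mul_prod_erase Finset.univ (fun j => (X - C (r j))) (Finset.mem_univ i)).symm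

theorem Di_eq (i : Fin m) : Di r a i = Pi r i * Ei r a i := by
  unfold Di Pi Ei
  rw [← Finset.prod_mul_distrib]
  exact Finset.prod_congr rfl fun j _ => pow_succ' _ _

theorem natDegree_EE_le : (EE r a).natDegree ≤ ∑ j, a j := by
  unfold EE
  refine (natDegree_prod_le _ _).trans (Finset.sum_le_sum fun j _ => ?_)
  refine natDegree_pow_le.trans ?_
  rw [natDegree_X_sub_C, mul_one]

theorem natDegree_Ei_le (i : Fin m) : (Ei r a i).natDegree ≤ ∑ j ∈ Finset.univ.erase i, a j := by
  unfold Ei
  refine (natDegree_prod_le _ _).trans (Finset.sum_le_sum fun j _ => ?_)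
  refine natDegree_pow_le.trans ?_
  rw [natDegree_X_sub_C, mul_one]

theorem EE_eval_ne (q : k) (hq : ∀ j, q ≠ r j) : (EE r a).eval q ≠ 0 := by
  unfold EE
  rw [eval_prod]
  refine Finset.prod_ne_zero_iff.mpr fun j _ => ?_
  simp only [eval_pow, eval_sub, eval_X, eval_C]
  exact pow_ne_zero _ (sub_ne_zero.mpr (hq j))

theorem PP_eval_ne (q : k) (hq : ∀ j, q ≠ r j) : (PP r).eval q ≠ 0 := by
  unfold PP
  rw [eval_prod]
  refine Finset.prod_ne_zero_iff.mpr fun j _ => ?_
  simp only [eval_sub, eval_X, eval_C]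
  exact sub_ne_zero.mpr (hq j)

theorem EE_ne_zero : EE r a ≠ 0 := by
  unfold EE
  exact (monic_prod_of_monic _ _ fun j _ => (monic_X_sub_C (r j)).pow _).ne_zero

theorem rel0 (b : ℕ) (g : k[X]) (hg : g ∈ degreeLT k b) :
    ∃ G : k[X], G.natDegree ≤ (∑ j, a j) + b ∧ Rel r a (DD r a * g) G := by
  obtain ⟨G₀, hG₀, hdeg⟩ := exists_antideriv b g hg
  refine ⟨EE r a * G₀, ?_, ?_⟩
  · exact natDegree_mul_le.trans (add_le_add (natDegree_EE_le r a) hdeg)
  · unfold Rel
    rw [DD_eq, derivative_mul, hG₀]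
    ring

theorem reli (i : Fin m) (g : k[X]) (hg : g ∈ degreeLT k (a i)) :
    ∃ G : k[X], G.natDegree ≤ ∑ j, a j ∧ Rel r a (Di r a i * g) G := by
  obtain ⟨G, hG, hGdeg⟩ := exists_polar (r i) (a i) g hg
  refine ⟨Ei r a i * G, ?_, ?_⟩
  · refine natDegree_mul_le.trans ?_
    have h1 := natDegree_Ei_le r a i
    have h2 : G.natDegree ≤ a i := by
      by_cases hG0 : G = 0
      · simp [hG0]
      · exact ((natDegree_lt_iff_degree_lt hG0).mpr (mem_degreeLT.mp hGdeg)).le
    have h3 : ∑ j ∈ Finset.univ.erase i, a j + a i = ∑ j, a j :=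
      Finset.sum_erase_add _ _ (Finset.mem_univ i)
    omega
  · unfold Rel
    have H := derivative_pow_mul_self (r i) (a i)
    rw [Di_eq, EE_eq r a i, PP_eq r i, derivative_mul, derivative_mul, ← hG]
    linear_combination (Pi r i * (Ei r a i) ^ 2 * G) * H

end Setup

section Main
variable {k : Type*} [Field k] [CharZero k] {m : ℕ} (r : Fin m → k) (a : Fin m → ℕ)

/-- polynomials `h` that are `P (G' E - G E') / E` for some `G` of degree `≤ N` -/
def relSub (N : ℕ) : Submodule k k[X] where
  carrier := {h | ∃ G : k[X], G.natDegree ≤ N ∧ Rel r a h G}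
  zero_mem' := ⟨0, by simp, by simp [Rel]⟩
  add_mem' := by
    rintro h₁ h₂ ⟨G₁, hd₁, hr₁⟩ ⟨G₂, hd₂, hr₂⟩
    refine ⟨G₁ + G₂, (natDegree_add_le _ _).trans (max_le hd₁ hd₂), ?_⟩
    unfold Rel at hr₁ hr₂ ⊢
    rw [derivative_add]
    linear_combination hr₁ + hr₂
  smul_mem' := by
    rintro c h ⟨G, hd, hr⟩
    refine ⟨C c * G, (natDegree_C_mul_le _ _).trans hd, ?_⟩
    unfold Rel at hr ⊢
    rw [derivative_C_mul, smul_eq_C_mul]
    linear_combination (C c) * hr

theorem Vrel (b N : ℕ) (hN : N = (∑ j, a j) + b) (V : Submodule k k[X])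
    (hV : V = (degreeLT k b).map (LinearMap.mulLeft k (∏ j, (X - C (r j)) ^ (a j + 1))) ⊔
      ⨆ i, (degreeLT k (a i)).map
        (LinearMap.mulLeft k (∏ j ∈ Finset.univ.erase i, (X - C (r j)) ^ (a j + 1)))) :
    V ≤ relSub r a N := by
  rw [hV]
  refine sup_le ?_ (iSup_le fun i => ?_)
  · rw [Submodule.map_le_iff_le_comap]
    intro g hg
    obtain ⟨G, hd, hr⟩ := rel0 r a b g hg
    exact ⟨G, hN ▸ hd, hr⟩
  · rw [Submodule.map_le_iff_le_comap]
    intro g hg
    obtain ⟨G, hd, hr⟩ := reli r a i g hg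
    exact ⟨G, hd.trans (by omega), hr⟩

theorem main17242 (b N : ℕ) (hN : N = (∑ j, a j) + b) (V : Submodule k k[X])
    (hV : V = (degreeLT k b).map (LinearMap.mulLeft k (∏ j, (X - C (r j)) ^ (a j + 1))) ⊔
      ⨆ i, (degreeLT k (a i)).map
        (LinearMap.mulLeft k (∏ j ∈ Finset.univ.erase i, (X - C (r j)) ^ (a j + 1))))
    (q : k) (hq : ∀ j, q ≠ r j) :
    V ⊓ (Ideal.span {(X - C q) ^ N}).restrictScalars k = ⊥ := by
  rw [eq_bot_iff]
  rintro h ⟨hhV, hhq⟩
  rw [Submodule.mem_bot]
  obtain ⟨G, hGd, hrel⟩ := Vrel r a b N hN V hV hhV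
  have hdvd : (X - C q) ^ N ∣ h := Ideal.mem_span_singleton.mp hhq
  set w : k[X] := X - C q with hw
  have hwprime : Prime w := prime_X_sub_C q
  set E := EE r a with hE
  set P := PP r with hP
  have hEq : E.eval q ≠ 0 := EE_eval_ne r a q hq
  have hPq : P.eval q ≠ 0 := PP_eval_ne r q hq
  have hwE : ¬ w ∣ E := fun hd => hEq (dvd_iff_isRoot.mp hd)
  have hwP : ¬ w ∣ P := fun hd => hPq (dvd_iff_isRoot.mp hd)
  -- normalise G to vanish at q
  set c : k := G.eval q / E.eval q with hc
  set G₁ : k[X] := G - C c * E with hG₁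
  have hW : derivative G₁ * E - G₁ * derivative E = derivative G * E - G * derivative E := by
    rw [hG₁, derivative_sub, derivative_C_mul]
    ring
  have hG₁q : G₁.eval q = 0 := by
    rw [hG₁, eval_sub, eval_mul, eval_C, hc]
    field_simp
    ring
  have hG₁d : G₁.natDegree ≤ N := by
    refine (natDegree_sub_le _ _).trans (max_le hGd ?_)
    refine (natDegree_C_mul_le _ _).trans ((natDegree_EE_le r a).trans (by omega))
  unfold Rel at hrel
  rw [← hE, ← hP, ← hW] at hrel
  have hdvdW : w ^ N ∣ derivative G₁ * E - G₁ * derivative E := by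
    apply hwprime.pow_dvd_of_dvd_mul_left N hwP
    rw [← hrel]
    exact Dvd.dvd.mul_right hdvd E
  by_cases hG₁0 : G₁ = 0
  · rw [hG₁0] at hrel
    simp only [derivative_zero, zero_mul, sub_self, mul_zero] at hrel
    exact (mul_eq_zero.mp hrel).resolve_right (EE_ne_zero r a)
  · exfalso
    obtain ⟨G₂, hG₂, hndvd⟩ := exists_eq_pow_rootMultiplicity_mul_and_not_dvd G₁ hG₁0 q
    set v := rootMultiplicity q G₁ with hv
    have hvpos : 0 < v := (rootMultiplicity_pos hG₁0).mpr hG₁q
    have hG₂0 : G₂ ≠ 0 := by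
      rintro rfl
      exact hndvd (dvd_zero _)
    have hvN : v ≤ N := by
      have : G₁.natDegree = v + G₂.natDegree := by
        rw [hG₂, natDegree_mul (pow_ne_zero _ (X_sub_C_ne_zero q)) hG₂0, natDegree_pow,
          natDegree_X_sub_C, mul_one]
      omega
    obtain ⟨v', hv'⟩ : ∃ v', v = v' + 1 := ⟨v - 1, by omega⟩
    rw [hv'] at hG₂
    have hder : derivative G₁ * E - G₁ * derivative E =
        w ^ v' * (C ((v' : k) + 1) * G₂ * E + w * (derivative G₂ * E - G₂ * derivative E)) := by
      rw [hG₂, derivative_mul, derivative_X_sub_C_pow, Nat.add_sub_cancel]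
      push_cast
      ring
    have h1 : w ^ (v' + 1) ∣ derivative G₁ * E - G₁ * derivative E :=
      (pow_dvd_pow w (by omega)).trans hdvdW
    rw [hder, pow_succ] at h1
    have h2 := (mul_dvd_mul_iff_left (pow_ne_zero v' (X_sub_C_ne_zero q))).mp h1
    have h3 : w ∣ C ((v' : k) + 1) * G₂ * E := by
      have := (dvd_add_left (Dvd.intro _ rfl : w ∣ w * (derivative G₂ * E - G₂ * derivative E))).mp h2
      exact this
    rcases hwprime.dvd_or_dvd h3 with h4 | h4
    · rcases hwprime.dvd_or_dvd h4 with h5 | h5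
      · have : IsUnit (C ((v' : k) + 1)) :=
          isUnit_C.mpr (IsUnit.mk0 _ (Nat.cast_add_one_ne_zero v'))
        exact hwprime.not_isUnit (isUnit_of_dvd_unit h5 this)
      · exact hndvd h5
    · exact hwE h4

end Main

end Groth.Agent.Helper8.Polar
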