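import Groth.Agent.Helper8.Polar
import Mathlib.LinearAlgebra.FiniteDimensional.Lemmas

set_option autoImplicit false

namespace Groth.Agent.Helper8.Polar

open Polynomial

section B
variable {k : Type*} [Field k] [CharZero k] {m : ℕ} (r : Fin m → k) (a : Fin m → ℕ)

/-- refined order statement: if `(X-q)^n ∣ h ∈ V` then `h` comes from `G₁` with `(X-q)^(n+1) ∣ G₁` -/
theorem order_lemma (b N : ℕ) (hN : N = (∑ j, a j) + b) (V : Submodule k k[X])
    (hV : V = (degreeLT k b).map (LinearMap.mulLeft k (∏ j, (X - C (r j)) ^ (a j + 1))) ⊔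
      ⨆ i, (degreeLT k (a i)).map
        (LinearMap.mulLeft k (∏ j ∈ Finset.univ.erase i, (X - C (r j)) ^ (a j + 1))))
    (q : k) (hq : ∀ j, q ≠ r j) (h : k[X]) (hhV : h ∈ V) (n : ℕ) (hdvd : (X - C q) ^ n ∣ h) :
    ∃ G₁ : k[X], G₁.natDegree ≤ N ∧ Rel r a h G₁ ∧ (X - C q) ^ (n + 1) ∣ G₁ := by
  obtain ⟨G, hGd, hrel⟩ := Vrel r a b N hN V hV hhV
  set w : k[X] := X - C q with hw
  have hwprime : Prime w := prime_X_sub_C q
  set E := EE r a with hE
  set P := PP r with hP
  have hEq : E.eval q ≠ 0 := EE_eval_ne r a q hq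
  have hPq : P.eval q ≠ 0 := PP_eval_ne r q hq
  have hwE : ¬ w ∣ E := fun hd => hEq (dvd_iff_isRoot.mp hd)
  have hwP : ¬ w ∣ P := fun hd => hPq (dvd_iff_isRoot.mp hd)
  set c : k := G.eval q / E.eval q with hc
  set G₁ : k[X] := G - C c * E with hG₁
  have hW : derivative G₁ * E - G₁ * derivative E = derivative G * E - G * derivative E := by
    rw [hG₁, derivative_sub, derivative_C_mul]
    ring
  have hG₁q : G₁.eval q = 0 := by
    rw [hG₁, eval_sub, eval_mul, eval_C, hc]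
    field_simp
    ring
  have hG₁d : G₁.natDegree ≤ N := by
    refine (natDegree_sub_le _ _).trans (max_le hGd ?_)
    refine (natDegree_C_mul_le _ _).trans ((natDegree_EE_le r a).trans (by omega))
  have hrel₁ : Rel r a h G₁ := by
    unfold Rel at hrel ⊢
    rw [← hE, ← hP] at hrel ⊢
    rw [hW]
    exact hrel
  refine ⟨G₁, hG₁d, hrel₁, ?_⟩
  unfold Rel at hrel₁
  rw [← hE, ← hP] at hrel₁
  have hdvdW : w ^ n ∣ derivative G₁ * E - G₁ * derivative E := by
    apply hwprime.pow_dvd_of_dvd_mul_left n hwP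
    rw [← hrel₁]
    exact Dvd.dvd.mul_right hdvd E
  by_cases hG₁0 : G₁ = 0
  · rw [hG₁0]
    exact dvd_zero _
  · obtain ⟨G₂, hG₂, hndvd⟩ := exists_eq_pow_rootMultiplicity_mul_and_not_dvd G₁ hG₁0 q
    set v := rootMultiplicity q G₁ with hv
    have hvpos : 0 < v := (rootMultiplicity_pos hG₁0).mpr hG₁q
    by_contra hcon
    have hvn : v ≤ n := by
      by_contra hlt
      apply hcon
      rw [hG₂]
      exact Dvd.dvd.mul_right (pow_dvd_pow _ (by omega)) _
    obtain ⟨v', hv'⟩ : ∃ v', v = v' + 1 := ⟨v - 1, by omega⟩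
    rw [hv'] at hG₂
    have hder : derivative G₁ * E - G₁ * derivative E =
        w ^ v' * (C ((v' : k) + 1) * G₂ * E + w * (derivative G₂ * E - G₂ * derivative E)) := by
      rw [hG₂, derivative_mul, derivative_X_sub_C_pow, Nat.add_sub_cancel]
      push_cast
      ring
    have h1 : w ^ (v' + 1) ∣ derivative G₁ * E - G₁ * derivative E :=
      (pow_dvd_pow w (by omega)).trans hdvdW
    rw [hder, pow_succ] at h1
    have h2 := (mul_dvd_mul_iff_left (pow_ne_zero v' (X_sub_C_ne_zero q))).mp h1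
    have h3 : w ∣ C ((v' : k) + 1) * G₂ * E :=
      (dvd_add_left (Dvd.intro _ rfl : w ∣ w * (derivative G₂ * E - G₂ * derivative E))).mp h2
    rcases hwprime.dvd_or_dvd h3 with h4 | h4
    · rcases hwprime.dvd_or_dvd h4 with h5 | h5
      · have : IsUnit (C ((v' : k) + 1)) :=
          isUnit_C.mpr (IsUnit.mk0 _ (Nat.cast_add_one_ne_zero v'))
        exact hwprime.not_isUnit (isUnit_of_dvd_unit h5 this)
      · exact hndvd h5
    · exact hwE h4

end B

section Dim
variable {k : Type*} [Field k] [CharZero k] {m : ℕ} (r : Fin m → k) (a : Fin m → ℕ)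

theorem DD_ne_zero : DD r a ≠ 0 := by
  unfold DD
  exact (monic_prod_of_monic _ _ fun j _ => (monic_X_sub_C (r j)).pow _).ne_zero

theorem Di_eval_ne (hr : Function.Injective r) (i : Fin m) : (Di r a i).eval (r i) ≠ 0 := by
  unfold Di
  rw [eval_prod]
  refine Finset.prod_ne_zero_iff.mpr fun j hj => ?_
  simp only [eval_pow, eval_sub, eval_X, eval_C]
  exact pow_ne_zero _ (sub_ne_zero.mpr fun h => (Finset.ne_of_mem_erase hj) (hr h).symm)

theorem pow_dvd_DD (i : Fin m) : (X - C (r i)) ^ (a i + 1) ∣ DD r a := by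
  unfold DD
  exact Finset.dvd_prod_of_mem (fun j => (X - C (r j)) ^ (a j + 1)) (Finset.mem_univ i)

theorem pow_dvd_Di (i j : Fin m) (hij : j ≠ i) : (X - C (r i)) ^ (a i + 1) ∣ Di r a j := by
  unfold Di
  exact Finset.dvd_prod_of_mem (fun l => (X - C (r l)) ^ (a l + 1))
    (Finset.mem_erase.mpr ⟨hij.symm, Finset.mem_univ i⟩)

/-- the parametrisation of `V` -/
noncomputable def Phi (b : ℕ) : (degreeLT k b × (∀ i, degreeLT k (a i))) →ₗ[k] k[X] :=
  ((LinearMap.mulLeft k (DD r a)).comp (degreeLT k b).subtype).coprod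
    (LinearMap.lsum k (fun i => degreeLT k (a i)) ℕ
      (fun i => (LinearMap.mulLeft k (Di r a i)).comp (degreeLT k (a i)).subtype))

theorem Phi_apply (b : ℕ) (x : degreeLT k b × (∀ i, degreeLT k (a i))) :
    Phi r a b x = DD r a * (x.1 : k[X]) + ∑ i, Di r a i * (x.2 i : k[X]) := by
  simp [Phi, LinearMap.lsum_apply]

theorem Phi_injective (hr : Function.Injective r) (b : ℕ) : Function.Injective (Phi r a b) := by
  rw [← LinearMap.ker_eq_bot, LinearMap.ker_eq_bot']
  intro x hx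
  rw [Phi_apply] at hx
  have hx2 : ∀ i, x.2 i = 0 := by
    intro i
    -- (X - r i)^(a i + 1) divides Di i * x.2 i
    have h1 : (X - C (r i)) ^ (a i + 1) ∣ Di r a i * (x.2 i : k[X]) := by
      have h2 : Di r a i * (x.2 i : k[X]) = -(DD r a * (x.1 : k[X]) +
          ∑ j ∈ Finset.univ.erase i, Di r a j * (x.2 j : k[X])) := by
        rw [← Finset.add_sum_erase Finset.univ _ (Finset.mem_univ i)] at hx
        linear_combination hx
      rw [h2]
      refine (dvd_neg).mpr (dvd_add (Dvd.dvd.mul_right (pow_dvd_DD r a i) _)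
        (Finset.dvd_sum fun j hj => Dvd.dvd.mul_right (pow_dvd_Di r a i j (Finset.ne_of_mem_erase hj)) _))
    have hprime : Prime (X - C (r i)) := prime_X_sub_C (r i)
    have hnd : ¬ (X - C (r i)) ∣ Di r a i := fun hd => Di_eval_ne r a hr i (dvd_iff_isRoot.mp hd)
    have h3 := hprime.pow_dvd_of_dvd_mul_left (a i + 1) hnd h1
    by_contra hne
    have hne' : (x.2 i : k[X]) ≠ 0 := fun h0 => hne (Subtype.ext h0)
    have hdeg := natDegree_le_of_dvd h3 hne'
    rw [natDegree_pow, natDegree_X_sub_C, mul_one] at hdeg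
    have := (natDegree_lt_iff_degree_lt hne').mpr (mem_degreeLT.mp (x.2 i).2)
    omega
  have hx1 : x.1 = 0 := by
    simp only [hx2, Submodule.coe_zero, mul_zero, Finset.sum_const_zero, add_zero] at hx
    exact Subtype.ext ((mul_eq_zero.mp hx).resolve_left (DD_ne_zero r a))
  exact Prod.ext hx1 (funext hx2)

theorem range_Phi (b : ℕ) (V : Submodule k k[X])
    (hV : V = (degreeLT k b).map (LinearMap.mulLeft k (∏ j, (X - C (r j)) ^ (a j + 1))) ⊔
      ⨆ i, (degreeLT k (a i)).map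
        (LinearMap.mulLeft k (∏ j ∈ Finset.univ.erase i, (X - C (r j)) ^ (a j + 1)))) :
    LinearMap.range (Phi r a b) = V := by
  classical
  apply le_antisymm
  · rintro _ ⟨x, rfl⟩
    rw [Phi_apply, hV]
    refine Submodule.add_mem _ (Submodule.mem_sup_left ⟨x.1, x.1.2, rfl⟩) ?_
    refine Submodule.sum_mem _ fun i _ => Submodule.mem_sup_right ?_
    exact Submodule.mem_iSup_of_mem i ⟨x.2 i, (x.2 i).2, rfl⟩
  · rw [hV]
    refine sup_le ?_ (iSup_le fun i => ?_)
    · rintro _ ⟨g, hg, rfl⟩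
      refine ⟨(⟨g, hg⟩, 0), ?_⟩
      rw [Phi_apply]
      simp [DD]
    · rintro _ ⟨g, hg, rfl⟩
      refine ⟨(0, Pi.single i ⟨g, hg⟩), ?_⟩
      rw [Phi_apply]
      simp only [Submodule.coe_zero, mul_zero, zero_add]
      rw [Finset.sum_eq_single i]
      · simp [Di]
      · intro j _ hji
        rw [Pi.single_eq_of_ne hji]
        simp
      · intro hi
        exact absurd (Finset.mem_univ i) hi

theorem finrank_V (hr : Function.Injective r) (b N : ℕ) (hN : N = (∑ j, a j) + b)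
    (V : Submodule k k[X])
    (hV : V = (degreeLT k b).map (LinearMap.mulLeft k (∏ j, (X - C (r j)) ^ (a j + 1))) ⊔
      ⨆ i, (degreeLT k (a i)).map
        (LinearMap.mulLeft k (∏ j ∈ Finset.univ.erase i, (X - C (r j)) ^ (a j + 1)))) :
    Module.finrank k V = N ∧ FiniteDimensional k V := by
  have hfd : ∀ n, Module.finrank k (degreeLT k n) = n := by
    intro n
    rw [(degreeLTEquiv k n).finrank_eq, Module.finrank_fin_fun]
  have hfin : ∀ n, FiniteDimensional k (degreeLT k n) := fun n =>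
    (degreeLTEquiv k n).symm.finiteDimensional
  rw [← range_Phi r a b V hV]
  constructor
  · rw [LinearMap.finrank_range_of_inj (Phi_injective r a hr b), Module.finrank_prod,
      Module.finrank_pi_fintype, hfd]
    simp only [hfd]
    omega
  · exact LinearMap.finiteDimensional_range _

end Dim

section C
variable {k : Type*} [Field k] [CharZero k] {m : ℕ} (r : Fin m → k) (a : Fin m → ℕ)

theorem DD_mem_V (b : ℕ) (hb : 1 ≤ b) (V : Submodule k k[X])
    (hV : V = (degreeLT k b).map (LinearMap.mulLeft k (∏ j, (X - C (r j)) ^ (a j + 1))) ⊔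
      ⨆ i, (degreeLT k (a i)).map
        (LinearMap.mulLeft k (∏ j ∈ Finset.univ.erase i, (X - C (r j)) ^ (a j + 1)))) :
    DD r a ∈ V := by
  rw [hV]
  have h1 : (1 : k[X]) ∈ degreeLT k b := by
    rw [mem_degreeLT, degree_one]
    exact_mod_cast hb
  exact Submodule.mem_sup_left ⟨1, h1, by simp [DD]⟩

theorem DD_eval_ne (q : k) (hq : ∀ j, q ≠ r j) : (DD r a).eval q ≠ 0 := by
  rw [DD_eq, eval_mul]
  exact mul_ne_zero (PP_eval_ne r q hq) (EE_eval_ne r a q hq)

theorem finrank_V₁ (hr : Function.Injective r) (b : ℕ) (hb : 1 ≤ b) (N : ℕ)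
    (hN : N = (∑ j, a j) + b) (V : Submodule k k[X])
    (hV : V = (degreeLT k b).map (LinearMap.mulLeft k (∏ j, (X - C (r j)) ^ (a j + 1))) ⊔
      ⨆ i, (degreeLT k (a i)).map
        (LinearMap.mulLeft k (∏ j ∈ Finset.univ.erase i, (X - C (r j)) ^ (a j + 1))))
    (p : k) (hp : ∀ j, p ≠ r j) (V₁ : Submodule k k[X])
    (hV₁ : V₁ = V ⊓ (Ideal.span {X - C p}).restrictScalars k) :
    Module.finrank k V₁ + 1 = N := by
  obtain ⟨hfr, hfd⟩ := finrank_V r a hr b N hN V hV
  let φ : V →ₗ[k] k := (Polynomial.leval p).comp V.subtype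
  have hφ : ∀ x : V, φ x = (x : k[X]).eval p := fun x => rfl
  have hsurj : LinearMap.range φ = ⊤ := by
    rw [LinearMap.range_eq_top]
    intro c
    refine ⟨(c / (DD r a).eval p) • ⟨DD r a, DD_mem_V r a b hb V hV⟩, ?_⟩
    rw [map_smul, hφ, smul_eq_mul]
    exact div_mul_cancel₀ c (DD_eval_ne r a p hp)
  have hker : LinearMap.ker φ =
      Submodule.comap V.subtype (V ⊓ (Ideal.span {X - C p}).restrictScalars k) := by
    ext x
    rw [LinearMap.mem_ker, hφ, Submodule.mem_comap, Submodule.mem_inf]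
    simp only [Submodule.subtype_apply, Submodule.restrictScalars_mem, Ideal.mem_span_singleton,
      dvd_iff_isRoot, IsRoot.def]
    exact ⟨fun h => ⟨x.2, h⟩, fun h => h.2⟩
  have h1 := LinearMap.finrank_range_add_finrank_ker φ
  rw [hsurj, finrank_top, Module.finrank_self, hker,
    (Submodule.comapSubtypeEquivOfLe (inf_le_left : V ⊓ _ ≤ V)).finrank_eq, ← hV₁, hfr] at h1
  omega

end C

section D
variable {k : Type*} [Field k] [CharZero k] {m : ℕ} (r : Fin m → k) (a : Fin m → ℕ)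

noncomputable def Psi : k[X] →ₗ[k] k[X] :=
  (LinearMap.mulLeft k (PP r)).comp
    ((LinearMap.mulRight k (EE r a)).comp derivative - LinearMap.mulRight k (derivative (EE r a)))

theorem Psi_apply (G : k[X]) :
    Psi r a G = PP r * (derivative G * EE r a - G * derivative (EE r a)) := by
  simp [Psi]

theorem rel_iff (h G : k[X]) : Rel r a h G ↔ h * EE r a = Psi r a G := by
  rw [Psi_apply]; rfl

theorem part3b (hr : Function.Injective r) (b : ℕ) (hb : 1 ≤ b) (N : ℕ)
    (hN : N = (∑ j, a j) + b) (V : Submodule k k[X])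
    (hV : V = (degreeLT k b).map (LinearMap.mulLeft k (∏ j, (X - C (r j)) ^ (a j + 1))) ⊔
      ⨆ i, (degreeLT k (a i)).map
        (LinearMap.mulLeft k (∏ j ∈ Finset.univ.erase i, (X - C (r j)) ^ (a j + 1))))
    (p : k) (hp : ∀ j, p ≠ r j) (V₁ : Submodule k k[X])
    (hV₁ : V₁ = V ⊓ (Ideal.span {X - C p}).restrictScalars k)
    (q : k) (hq : ∀ j, q ≠ r j) (hqp : q ≠ p) :
    Module.finrank k ↥(V₁ ⊓ (Ideal.span {(X - C q) ^ (N - 2)}).restrictScalars k) ≤ 1 := by
  classical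
  obtain ⟨hfr, hfd⟩ := finrank_V r a hr b N hN V hV
  have hV₁V : V₁ ≤ V := hV₁ ▸ inf_le_left
  have hfdV₁ : FiniteDimensional k V₁ := Submodule.finiteDimensional_of_le hV₁V
  have hfrV₁ := finrank_V₁ r a hr b hb N hN V hV p hp V₁ hV₁
  set S := V₁ ⊓ (Ideal.span {(X - C q) ^ (N - 2)}).restrictScalars k with hS
  by_cases hN3 : N ≤ 2
  · have : Module.finrank k S ≤ Module.finrank k V₁ := Submodule.finrank_mono inf_le_left
    omega
  have hN3' : 3 ≤ N := by omega
  set w : k[X] := X - C q with hw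
  set E := EE r a with hE
  set t₁ : k[X] := w ^ (N - 1) with ht₁
  set t₂ : k[X] := w ^ (N - 1) * (X - C p) with ht₂
  set T : Submodule k k[X] := Submodule.span k (({t₁, t₂} : Finset k[X]) : Set k[X]) with hT
  set T' : Submodule k k[X] := T ⊓ LinearMap.ker ((Polynomial.leval p).comp (Psi r a)) with hT'
  have hTcard : Module.finrank k T ≤ 2 :=
    (finrank_span_finset_le_card _).trans Finset.card_le_two
  have ht₂T : t₂ ∈ T := Submodule.subset_span (by simp)
  have ht₁T : t₁ ∈ T := Submodule.subset_span (by simp)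
  have ht₂T' : t₂ ∉ T' := by
    intro hmem
    have h1 : ((Polynomial.leval p).comp (Psi r a)) t₂ = 0 := hmem.2
    rw [LinearMap.comp_apply, Psi_apply, Polynomial.leval_apply, eval_mul, eval_sub, eval_mul,
      eval_mul] at h1
    have h2 : t₂.eval p = 0 := by simp [ht₂]
    have h3 : (derivative t₂).eval p = (p - q) ^ (N - 1) := by
      rw [ht₂, derivative_mul, derivative_X_sub_C, mul_one, eval_add, eval_mul]
      simp [hw]
    rw [h2, h3, zero_mul, sub_zero] at h1
    rcases mul_eq_zero.mp h1 with h4 | h4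
    · exact PP_eval_ne r p hp h4
    · rcases mul_eq_zero.mp h4 with h5 | h5
      · exact pow_ne_zero _ (sub_ne_zero.mpr hqp.symm) h5
      · exact EE_eval_ne r a p hp h5
  have hT'lt : T' < T := lt_of_le_of_ne inf_le_left fun heq => ht₂T' (heq ▸ ht₂T)
  have hfT' : Module.finrank k T' ≤ 1 := by
    have := Submodule.finrank_lt_finrank_of_lt hT'lt
    omega
  have hEne : E ≠ 0 := EE_ne_zero r a
  have hinj : Function.Injective (LinearMap.mulRight k E) := fun x y hxy =>
    mul_right_cancel₀ hEne hxy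
  have key : S.map (LinearMap.mulRight k E) ≤ T'.map (Psi r a) := by
    rintro _ ⟨h, hhS, rfl⟩
    have hhV₁ : h ∈ V₁ := hhS.1
    have hhV : h ∈ V := hV₁V hhV₁
    have hhp : h.eval p = 0 := by
      have : h ∈ (Ideal.span {X - C p}).restrictScalars k := (hV₁ ▸ hhV₁ : h ∈ V ⊓ _).2
      exact dvd_iff_isRoot.mp (Ideal.mem_span_singleton.mp this)
    have hdvd : w ^ (N - 2) ∣ h := Ideal.mem_span_singleton.mp hhS.2
    obtain ⟨G₁, hG₁d, hrel, hG₁dvd⟩ := order_lemma r a b N hN V hV q hq h hhV (N - 2) hdvd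
    rw [show N - 2 + 1 = N - 1 by omega] at hG₁dvd
    obtain ⟨L, hL⟩ := hG₁dvd
    have hLd : L.natDegree ≤ 1 := by
      by_cases hL0 : L = 0
      · simp [hL0]
      · have : G₁.natDegree = (N - 1) + L.natDegree := by
          rw [hL, natDegree_mul (pow_ne_zero _ (X_sub_C_ne_zero q)) hL0, natDegree_pow,
            natDegree_X_sub_C, mul_one]
        omega
    obtain ⟨l₀, l₁, hL01⟩ := exists_eq_X_add_C_of_natDegree_le_one hLd
    have hG₁T : G₁ ∈ T := by
      have : G₁ = (l₁ + l₀ * p) • t₁ + l₀ • t₂ := by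
        rw [hL, hL01, smul_eq_C_mul, smul_eq_C_mul, ht₁, ht₂]
        simp only [C_add, C_mul]
        ring
      rw [this]
      exact T.add_mem (T.smul_mem _ ht₁T) (T.smul_mem _ ht₂T)
    have hrel' := (rel_iff r a h G₁).mp hrel
    refine ⟨G₁, ⟨hG₁T, ?_⟩, ?_⟩
    · change ((Polynomial.leval p).comp (Psi r a)) G₁ = 0
      rw [LinearMap.comp_apply, ← hrel', Polynomial.leval_apply, eval_mul, hhp, zero_mul]
    · rw [← hrel']
      rfl
  calc Module.finrank k S
      = Module.finrank k (S.map (LinearMap.mulRight k E)) :=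
        (Submodule.equivMapOfInjective _ hinj S).finrank_eq
    _ ≤ Module.finrank k (T'.map (Psi r a)) := Submodule.finrank_mono key
    _ ≤ Module.finrank k T' := Submodule.finrank_map_le _ _
    _ ≤ 1 := hfT'

end D

section F
variable {k : Type*} [Field k] [CharZero k] {m : ℕ} (r : Fin m → k) (a : Fin m → ℕ)

/-- the relation satisfied by an unmarked point `q` carrying a member of `V₁` divisible by
`(X-q)^(N-1)` -/
theorem part4_aux (b : ℕ) (hb : 1 ≤ b) (N : ℕ)
    (hN : N = (∑ j, a j) + b) (V : Submodule k k[X])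
    (hV : V = (degreeLT k b).map (LinearMap.mulLeft k (∏ j, (X - C (r j)) ^ (a j + 1))) ⊔
      ⨆ i, (degreeLT k (a i)).map
        (LinearMap.mulLeft k (∏ j ∈ Finset.univ.erase i, (X - C (r j)) ^ (a j + 1))))
    (p : k) (hp : ∀ j, p ≠ r j) (V₁ : Submodule k k[X])
    (hV₁ : V₁ = V ⊓ (Ideal.span {X - C p}).restrictScalars k)
    (q : k) (hq : ∀ j, q ≠ r j) (hqp : q ≠ p)
    (hne : (V₁ ⊓ (Ideal.span {(X - C q) ^ (N - 1)}).restrictScalars k) ≠ ⊥) :
    (N : k) * (EE r a).eval p = (p - q) * (derivative (EE r a)).eval p := by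
  have hN1 : 1 ≤ N := by omega
  obtain ⟨h, hhS, hh0⟩ := Submodule.exists_mem_ne_zero_of_ne_bot hne
  have hhV₁ : h ∈ V₁ := hhS.1
  have hhV : h ∈ V := (hV₁ ▸ hhV₁ : h ∈ V ⊓ _).1
  have hhp : h.eval p = 0 := by
    have : h ∈ (Ideal.span {X - C p}).restrictScalars k := (hV₁ ▸ hhV₁ : h ∈ V ⊓ _).2
    exact dvd_iff_isRoot.mp (Ideal.mem_span_singleton.mp this)
  have hdvd : (X - C q) ^ (N - 1) ∣ h := Ideal.mem_span_singleton.mp hhS.2
  obtain ⟨G₁, hG₁d, hrel, hG₁dvd⟩ := order_lemma r a b N hN V hV q hq h hhV (N - 1) hdvd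
  rw [show N - 1 + 1 = N by omega] at hG₁dvd
  obtain ⟨L, hL⟩ := hG₁dvd
  have hrel' := (rel_iff r a h G₁).mp hrel
  have hL0 : L ≠ 0 := by
    rintro rfl
    rw [mul_zero] at hL
    rw [hL, map_zero] at hrel'
    exact hh0 ((mul_eq_zero.mp hrel').resolve_right (EE_ne_zero r a))
  have hLd : L.natDegree = 0 := by
    have : G₁.natDegree = N + L.natDegree := by
      rw [hL, natDegree_mul (pow_ne_zero _ (X_sub_C_ne_zero q)) hL0, natDegree_pow,
        natDegree_X_sub_C, mul_one]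
    omega
  obtain ⟨γ, hγ⟩ : ∃ γ : k, L = C γ := ⟨L.coeff 0, eq_C_of_natDegree_eq_zero hLd⟩
  have hγ0 : γ ≠ 0 := by
    rintro rfl
    exact hL0 (by rw [hγ, C_0])
  -- evaluate the relation at p
  have hev := congrArg (eval p) hrel'
  rw [eval_mul, hhp, zero_mul, Psi_apply, eval_mul, eval_sub, eval_mul, eval_mul] at hev
  have hPp := PP_eval_ne r p hp
  have h1 : (derivative G₁).eval p * (EE r a).eval p - G₁.eval p * (derivative (EE r a)).eval p = 0 :=
    (mul_eq_zero.mp hev.symm).resolve_left hPp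
  have hG₁p : G₁.eval p = (p - q) ^ N * γ := by
    rw [hL, hγ]; simp
  have hdG₁p : (derivative G₁).eval p = (N : k) * (p - q) ^ (N - 1) * γ := by
    rw [hL, hγ, derivative_mul, derivative_C, mul_zero, add_zero, derivative_X_sub_C_pow]
    simp
  rw [hG₁p, hdG₁p] at h1
  have hpq : (p - q) ≠ 0 := sub_ne_zero.mpr hqp.symm
  have h2 : (p - q) ^ N = (p - q) ^ (N - 1) * (p - q) := by
    rw [← pow_succ]; congr 1; omega
  rw [h2] at h1
  have h3 : (p - q) ^ (N - 1) * γ *
      ((N : k) * (EE r a).eval p - (p - q) * (derivative (EE r a)).eval p) = 0 := by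
    linear_combination h1
  have h4 := (mul_eq_zero.mp h3).resolve_left (mul_ne_zero (pow_ne_zero _ hpq) hγ0)
  linear_combination h4

theorem part4 (b : ℕ) (hb : 1 ≤ b) (N : ℕ)
    (hN : N = (∑ j, a j) + b) (V : Submodule k k[X])
    (hV : V = (degreeLT k b).map (LinearMap.mulLeft k (∏ j, (X - C (r j)) ^ (a j + 1))) ⊔
      ⨆ i, (degreeLT k (a i)).map
        (LinearMap.mulLeft k (∏ j ∈ Finset.univ.erase i, (X - C (r j)) ^ (a j + 1))))
    (p : k) (hp : ∀ j, p ≠ r j) (V₁ : Submodule k k[X])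
    (hV₁ : V₁ = V ⊓ (Ideal.span {X - C p}).restrictScalars k)
    (q q' : k) (hq : ∀ j, q ≠ r j) (hqp : q ≠ p) (hq' : ∀ j, q' ≠ r j) (hqp' : q' ≠ p)
    (hne : (V₁ ⊓ (Ideal.span {(X - C q) ^ (N - 1)}).restrictScalars k) ≠ ⊥)
    (hne' : (V₁ ⊓ (Ideal.span {(X - C q') ^ (N - 1)}).restrictScalars k) ≠ ⊥) : q = q' := by
  have h1 := part4_aux r a b hb N hN V hV p hp V₁ hV₁ q hq hqp hne
  have h2 := part4_aux r a b hb N hN V hV p hp V₁ hV₁ q' hq' hqp' hne'
  have hN1 : (N : k) ≠ 0 := by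
    have : 1 ≤ N := by omega
    exact_mod_cast (by omega : N ≠ 0)
  have hE := EE_eval_ne r a p hp
  have hE' : (derivative (EE r a)).eval p ≠ 0 := by
    intro h0
    rw [h0, mul_zero] at h1
    exact (mul_ne_zero hN1 hE) h1
  have h3 : (q' - q) * (derivative (EE r a)).eval p = 0 := by
    linear_combination h2 - h1
  have := (mul_eq_zero.mp h3).resolve_right hE'
  exact (sub_eq_zero.mp this).symm

theorem main17245 (hr : Function.Injective r) (b : ℕ) (hb : 1 ≤ b) (N : ℕ)
    (hN : N = (∑ j, a j) + b) (V : Submodule k k[X])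
    (hV : V = (degreeLT k b).map (LinearMap.mulLeft k (∏ j, (X - C (r j)) ^ (a j + 1))) ⊔
      ⨆ i, (degreeLT k (a i)).map
        (LinearMap.mulLeft k (∏ j ∈ Finset.univ.erase i, (X - C (r j)) ^ (a j + 1))))
    (p : k) (hp : ∀ j, p ≠ r j) (V₁ : Submodule k k[X])
    (hV₁ : V₁ = V ⊓ (Ideal.span {X - C p}).restrictScalars k) :
    Module.finrank k ↥V₁ + 1 = N ∧
    (V₁ ⊓ (Ideal.span {(X - C p) ^ N}).restrictScalars k) = ⊥ ∧
    (∀ q : k, (∀ j, q ≠ r j) → q ≠ p →
      (V₁ ⊓ (Ideal.span {(X - C q) ^ N}).restrictScalars k) = ⊥ ∧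
      Module.finrank k ↥(V₁ ⊓ (Ideal.span {(X - C q) ^ (N - 2)}).restrictScalars k) ≤ 1) ∧
    (∀ q q' : k, (∀ j, q ≠ r j) → q ≠ p → (∀ j, q' ≠ r j) → q' ≠ p →
      (V₁ ⊓ (Ideal.span {(X - C q) ^ (N - 1)}).restrictScalars k) ≠ ⊥ →
      (V₁ ⊓ (Ideal.span {(X - C q') ^ (N - 1)}).restrictScalars k) ≠ ⊥ → q = q') := by
  have hV₁V : V₁ ≤ V := hV₁ ▸ inf_le_left
  have hbot : ∀ q : k, (∀ j, q ≠ r j) →
      (V₁ ⊓ (Ideal.span {(X - C q) ^ N}).restrictScalars k) = ⊥ := by
    intro q hq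
    rw [eq_bot_iff, ← main17242 r a b N hN V hV q hq]
    exact inf_le_inf_right _ hV₁V
  refine ⟨finrank_V₁ r a hr b hb N hN V hV p hp V₁ hV₁, hbot p hp, ?_, ?_⟩
  · intro q hq hqp
    exact ⟨hbot q hq, part3b r a hr b hb N hN V hV p hp V₁ hV₁ q hq hqp⟩
  · intro q q' hq hqp hq' hqp' hne hne'
    exact part4 r a b hb N hN V hV p hp V₁ hV₁ q q' hq hqp hq' hqp' hne hne'

end F

end Groth.Agent.Helper8.Polar
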