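import Groth.Agent.Helper8.PolarB

set_option autoImplicit false

namespace Groth.Agent.Helper8.Polar

open Polynomial

section G
variable {k : Type*} [Field k] [CharZero k] {m : ℕ} (r : Fin m → k) (a : Fin m → ℕ)

theorem Psi_EE : Psi r a (EE r a) = 0 := by
  rw [Psi_apply]; ring

theorem mem_degreeLT_succ_of_natDegree_le {N : ℕ} {G : k[X]} (h : G.natDegree ≤ N) :
    G ∈ degreeLT k (N + 1) := by
  rw [mem_degreeLT]
  exact lt_of_le_of_lt degree_le_natDegree (by exact_mod_cast Nat.lt_succ_of_le h)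

/-- `μ_E(V) = Ψ(k[X]_{≤ N})` -/
theorem map_V_eq (hr : Function.Injective r) (b N : ℕ) (hN : N = (∑ j, a j) + b)
    (V : Submodule k k[X])
    (hV : V = (degreeLT k b).map (LinearMap.mulLeft k (∏ j, (X - C (r j)) ^ (a j + 1))) ⊔
      ⨆ i, (degreeLT k (a i)).map
        (LinearMap.mulLeft k (∏ j ∈ Finset.univ.erase i, (X - C (r j)) ^ (a j + 1)))) :
    V.map (LinearMap.mulRight k (EE r a)) = (degreeLT k (N + 1)).map (Psi r a) := by
  obtain ⟨hfr, hfd⟩ := finrank_V r a hr b N hN V hV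
  have hEne : EE r a ≠ 0 := EE_ne_zero r a
  have hinj : Function.Injective (LinearMap.mulRight k (EE r a)) := fun x y hxy =>
    mul_right_cancel₀ hEne hxy
  have hle : V.map (LinearMap.mulRight k (EE r a)) ≤ (degreeLT k (N + 1)).map (Psi r a) := by
    rintro _ ⟨h, hhV, rfl⟩
    obtain ⟨G, hGd, hrel⟩ := Vrel r a b N hN V hV hhV
    exact ⟨G, mem_degreeLT_succ_of_natDegree_le hGd, ((rel_iff r a h G).mp hrel).symm⟩
  have hfdW : FiniteDimensional k (degreeLT k (N + 1)) :=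
    (degreeLTEquiv k (N + 1)).symm.finiteDimensional
  have hfW : Module.finrank k (degreeLT k (N + 1)) = N + 1 := by
    rw [(degreeLTEquiv k (N + 1)).finrank_eq, Module.finrank_fin_fun]
  set f : degreeLT k (N + 1) →ₗ[k] k[X] := (Psi r a).comp (degreeLT k (N + 1)).subtype with hf
  have hrange : LinearMap.range f = (degreeLT k (N + 1)).map (Psi r a) := by
    rw [hf, LinearMap.range_comp, Submodule.range_subtype]
  have hfimg : Module.finrank k ((degreeLT k (N + 1)).map (Psi r a)) ≤ N := by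
    have hrn := LinearMap.finrank_range_add_finrank_ker f
    have hEW : EE r a ∈ degreeLT k (N + 1) :=
      mem_degreeLT_succ_of_natDegree_le (by have := natDegree_EE_le r a; omega)
    have hker : (⟨EE r a, hEW⟩ : degreeLT k (N + 1)) ∈ LinearMap.ker f := by
      rw [LinearMap.mem_ker, hf, LinearMap.comp_apply]; exact Psi_EE r a
    have hkpos : 0 < Module.finrank k (LinearMap.ker f) := by
      refine (Module.finrank_pos_iff_exists_ne_zero (R := k) (M := LinearMap.ker f)).mpr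
        ⟨⟨_, hker⟩, fun h0 => hEne ?_⟩
      have := congrArg (fun x : LinearMap.ker f => ((x : degreeLT k (N + 1)) : k[X])) h0
      simpa using this
    rw [← hrange]; omega
  have : FiniteDimensional k ((degreeLT k (N + 1)).map (Psi r a)) := by
    rw [← hrange]; exact LinearMap.finiteDimensional_range _
  refine Submodule.eq_of_le_of_finrank_le hle ?_
  rw [← (Submodule.equivMapOfInjective _ hinj V).finrank_eq, hfr]
  exact hfimg

/-- two members with independent top coefficients together with everything of low degree span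
`k[X]_{≤ N}` -/
theorem span_top (H : Submodule k k[X]) (N : ℕ) (hN : 1 ≤ N) (hlow : degreeLT k (N - 1) ≤ H)
    (t₁ t₂ : k[X]) (ht₁H : t₁ ∈ H) (ht₂H : t₂ ∈ H) (ht₁ : t₁ ∈ degreeLT k N)
    (ht₂ : t₂ ∈ degreeLT k (N + 1)) (hc₁ : t₁.coeff (N - 1) ≠ 0) (hc₂ : t₂.coeff N ≠ 0) :
    degreeLT k (N + 1) ≤ H := by
  intro G hG
  set c₂ : k := G.coeff N / t₂.coeff N with hc₂def
  set G' : k[X] := G - c₂ • t₂ with hG'
  set c₁ : k := G'.coeff (N - 1) / t₁.coeff (N - 1) with hc₁def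
  set G'' : k[X] := G' - c₁ • t₁ with hG''
  have hcoeff : ∀ (p : k[X]) (n : ℕ), p ∈ degreeLT k n → ∀ j, n ≤ j → p.coeff j = 0 := by
    intro p n hp j hj
    rw [mem_degreeLT] at hp
    exact coeff_eq_zero_of_degree_lt (lt_of_lt_of_le hp (by exact_mod_cast hj))
  have hlowmem : G'' ∈ degreeLT k (N - 1) := by
    rw [mem_degreeLT, degree_lt_iff_coeff_zero]
    intro j hj
    rw [hG'', hG', coeff_sub, coeff_sub, coeff_smul, coeff_smul, smul_eq_mul, smul_eq_mul]
    rcases Nat.lt_or_ge N j with hj1 | hj1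
    · rw [hcoeff G _ hG j (by omega), hcoeff t₂ _ ht₂ j (by omega), hcoeff t₁ _ ht₁ j (by omega)]
      ring
    · rcases Nat.lt_or_ge j N with hj2 | hj2
      · have hjeq : j = N - 1 := by omega
        subst hjeq
        rw [hc₁def, hG', coeff_sub, coeff_smul, smul_eq_mul]
        field_simp
        ring
      · have hjeq : j = N := by omega
        subst hjeq
        rw [hcoeff t₁ _ ht₁ j le_rfl, hc₂def]
        field_simp
        ring
  have : G = G'' + c₁ • t₁ + c₂ • t₂ := by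
    rw [hG'', hG']; ring
  rw [this]
  exact H.add_mem (H.add_mem (hlow hlowmem) (H.smul_mem _ ht₁H)) (H.smul_mem _ ht₂H)

theorem X_sub_C_pow_mem (q : k) (n : ℕ) : (X - C q) ^ n ∈ degreeLT k (n + 1) :=
  mem_degreeLT_succ_of_natDegree_le (by
    rw [natDegree_pow, natDegree_X_sub_C, mul_one])

theorem coeff_X_sub_C_pow_self (q : k) (n : ℕ) : ((X - C q) ^ n).coeff n = 1 := by
  have h := ((monic_X_sub_C q).pow n).coeff_natDegree
  rwa [natDegree_pow, natDegree_X_sub_C, mul_one] at h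

theorem coeff_X_sub_C_pow_pred (q : k) (n : ℕ) (hn : 1 ≤ n) :
    ((X - C q) ^ n).coeff (n - 1) = -((n : k) * q) := by
  obtain ⟨n, rfl⟩ : ∃ n', n = n' + 1 := ⟨n - 1, by omega⟩
  rw [sub_eq_add_neg, ← C_neg, coeff_X_add_C_pow, Nat.add_sub_cancel,
    Nat.choose_succ_self_right]
  simp
  ring

end G

section H
variable {k : Type*} [Field k] [CharZero k] {m : ℕ} (r : Fin m → k) (a : Fin m → ℕ)

/-- the antiderivative-side incarnation of a subspace `V₁` -/
noncomputable def HH (V₁ : Submodule k k[X]) (N : ℕ) : Submodule k k[X] :=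
  degreeLT k (N + 1) ⊓ (V₁.map (LinearMap.mulRight k (EE r a))).comap (Psi r a)

variable (hr : Function.Injective r) (b : ℕ) (hb : 1 ≤ b) (N : ℕ)
    (hN : N = (∑ j, a j) + b) (V : Submodule k k[X])
    (hV : V = (degreeLT k b).map (LinearMap.mulLeft k (∏ j, (X - C (r j)) ^ (a j + 1))) ⊔
      ⨆ i, (degreeLT k (a i)).map
        (LinearMap.mulLeft k (∏ j ∈ Finset.univ.erase i, (X - C (r j)) ^ (a j + 1))))
    (V₁ : Submodule k k[X]) (hV₁ : V₁ ≤ V) (hfin : Module.finrank k ↥V₁ + 1 = N)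
    (hU : (degreeLT k (b - 2)).map (LinearMap.mulLeft k (∏ j, (X - C (r j)) ^ (a j + 1))) ⊔
      (⨆ i, (degreeLT k (a i)).map
        (LinearMap.mulLeft k (∏ j ∈ Finset.univ.erase i, (X - C (r j)) ^ (a j + 1)))) ≤ V₁)

include hr hb hN hU in
theorem HH_low : degreeLT k (N - 1) ≤ HH r a V₁ N := by
  intro G hG
  have hEne : EE r a ≠ 0 := EE_ne_zero r a
  refine ⟨degreeLT_mono (by omega) hG, ?_⟩
  have h1 := map_V_eq r a hr (b - 2) ((∑ j, a j) + (b - 2)) rfl _ rfl
  have h2 : G ∈ degreeLT k ((∑ j, a j) + (b - 2) + 1) := degreeLT_mono (by omega) hG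
  have h3 : Psi r a G ∈ (degreeLT k ((∑ j, a j) + (b - 2) + 1)).map (Psi r a) :=
    Submodule.mem_map_of_mem h2
  rw [← h1] at h3
  exact Submodule.map_mono hU h3

include hr hN hV hV₁ hfin in
theorem HH_ne : ¬ degreeLT k (N + 1) ≤ HH r a V₁ N := by
  intro hle
  obtain ⟨hfr, hfd⟩ := finrank_V r a hr b N hN V hV
  have hEne : EE r a ≠ 0 := EE_ne_zero r a
  have hlt : V₁ < V := by
    refine lt_of_le_of_ne hV₁ ?_
    rintro rfl
    omega
  obtain ⟨h, hhV, hhV₁⟩ := SetLike.exists_of_lt hlt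
  obtain ⟨G, hGd, hrel⟩ := Vrel r a b N hN V hV hhV
  have hGH := hle (mem_degreeLT_succ_of_natDegree_le hGd)
  obtain ⟨h', hh'V₁, hh'⟩ := hGH.2
  rw [← (rel_iff r a h G).mp hrel] at hh'
  have : h' = h := mul_right_cancel₀ hEne hh'
  exact hhV₁ (this ▸ hh'V₁)

include hN hV hV₁ in
theorem order_mem (q : k) (hq : ∀ j, q ≠ r j) (h : k[X]) (hhV₁ : h ∈ V₁) (n : ℕ)
    (hdvd : (X - C q) ^ n ∣ h) :
    ∃ G₁ : k[X], G₁ ∈ HH r a V₁ N ∧ G₁.natDegree ≤ N ∧ h * EE r a = Psi r a G₁ ∧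
      (X - C q) ^ (n + 1) ∣ G₁ := by
  obtain ⟨G₁, hG₁d, hrel, hG₁dvd⟩ := order_lemma r a b N hN V hV q hq h (hV₁ hhV₁) n hdvd
  have hrel' := (rel_iff r a h G₁).mp hrel
  refine ⟨G₁, ⟨mem_degreeLT_succ_of_natDegree_le hG₁d, ?_⟩, hG₁d, hrel', hG₁dvd⟩
  exact ⟨h, hhV₁, hrel'⟩

include hr hb hN hV hV₁ hfin hU in
theorem partC2 (q : k) (hq : ∀ j, q ≠ r j) :
    Module.finrank k ↥(V₁ ⊓ (Ideal.span {(X - C q) ^ (N - 2)}).restrictScalars k) ≤ 1 := by
  classical
  obtain ⟨hfr, hfd⟩ := finrank_V r a hr b N hN V hV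
  have hfdV₁ : FiniteDimensional k V₁ := Submodule.finiteDimensional_of_le hV₁
  set S := V₁ ⊓ (Ideal.span {(X - C q) ^ (N - 2)}).restrictScalars k with hS
  by_cases hN3 : N ≤ 2
  · have : Module.finrank k S ≤ Module.finrank k V₁ := Submodule.finrank_mono inf_le_left
    omega
  have hN3' : 3 ≤ N := by omega
  set w : k[X] := X - C q with hw
  set E := EE r a with hE
  set t₁ : k[X] := w ^ (N - 1) with ht₁
  set t₂ : k[X] := w ^ N with ht₂
  set T : Submodule k k[X] := Submodule.span k (({t₁, t₂} : Finset k[X]) : Set k[X]) with hT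
  set T' : Submodule k k[X] := T ⊓ HH r a V₁ N with hT'
  have hTcard : Module.finrank k T ≤ 2 :=
    (finrank_span_finset_le_card _).trans Finset.card_le_two
  have ht₂T : t₂ ∈ T := Submodule.subset_span (by simp)
  have ht₁T : t₁ ∈ T := Submodule.subset_span (by simp)
  have hnot : ¬ (t₁ ∈ HH r a V₁ N ∧ t₂ ∈ HH r a V₁ N) := by
    rintro ⟨h1, h2⟩
    refine HH_ne r a hr b N hN V hV V₁ hV₁ hfin
      (span_top (HH r a V₁ N) N (by omega) (HH_low r a hr b hb N hN V₁ hU) t₁ t₂ h1 h2 ?_ ?_ ?_ ?_)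
    · have := X_sub_C_pow_mem q (N - 1)
      rwa [show N - 1 + 1 = N by omega] at this
    · exact X_sub_C_pow_mem q N
    · rw [ht₁, coeff_X_sub_C_pow_self]; exact one_ne_zero
    · rw [ht₂, coeff_X_sub_C_pow_self]; exact one_ne_zero
  have hT'lt : T' < T := by
    refine lt_of_le_of_ne inf_le_left fun heq => hnot ⟨?_, ?_⟩
    · exact ((heq ▸ ht₁T : t₁ ∈ T')).2
    · exact ((heq ▸ ht₂T : t₂ ∈ T')).2
  have hfT' : Module.finrank k T' ≤ 1 := by
    have := Submodule.finrank_lt_finrank_of_lt hT'lt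
    omega
  have hEne : E ≠ 0 := EE_ne_zero r a
  have hinj : Function.Injective (LinearMap.mulRight k E) := fun x y hxy =>
    mul_right_cancel₀ hEne hxy
  have key : S.map (LinearMap.mulRight k E) ≤ T'.map (Psi r a) := by
    rintro _ ⟨h, hhS, rfl⟩
    have hhV₁ : h ∈ V₁ := hhS.1
    have hdvd : w ^ (N - 2) ∣ h := Ideal.mem_span_singleton.mp hhS.2
    obtain ⟨G₁, hG₁H, hG₁d, hrel', hG₁dvd⟩ :=
      order_mem r a b N hN V hV V₁ hV₁ q hq h hhV₁ (N - 2) hdvd
    rw [show N - 2 + 1 = N - 1 by omega] at hG₁dvd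
    obtain ⟨L, hL⟩ := hG₁dvd
    have hLd : L.natDegree ≤ 1 := by
      by_cases hL0 : L = 0
      · simp [hL0]
      · have : G₁.natDegree = (N - 1) + L.natDegree := by
          rw [hL, natDegree_mul (pow_ne_zero _ (X_sub_C_ne_zero q)) hL0, natDegree_pow,
            natDegree_X_sub_C, mul_one]
        omega
    obtain ⟨l₀, l₁, hL01⟩ := exists_eq_X_add_C_of_natDegree_le_one hLd
    have hG₁T : G₁ ∈ T := by
      have hpow : w ^ N = w ^ (N - 1) * w := by
        rw [← pow_succ]; congr 1; omega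
      have : G₁ = (l₁ + l₀ * q) • t₁ + l₀ • t₂ := by
        rw [hL, hL01, smul_eq_C_mul, smul_eq_C_mul, ht₁, ht₂, hpow, hw]
        simp only [C_add, C_mul]
        ring
      rw [this]
      exact T.add_mem (T.smul_mem _ ht₁T) (T.smul_mem _ ht₂T)
    exact ⟨G₁, ⟨hG₁T, hG₁H⟩, hrel'.symm⟩
  calc Module.finrank k S
      = Module.finrank k (S.map (LinearMap.mulRight k E)) :=
        (Submodule.equivMapOfInjective _ hinj S).finrank_eq
    _ ≤ Module.finrank k (T'.map (Psi r a)) := Submodule.finrank_mono key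
    _ ≤ Module.finrank k T' := Submodule.finrank_map_le _ _
    _ ≤ 1 := hfT'

include hb hN hV hV₁ in
/-- a ramification point of index `N-1` puts `(X-q)^N` into `HH` -/
theorem pow_mem_HH (q : k) (hq : ∀ j, q ≠ r j)
    (hne : (V₁ ⊓ (Ideal.span {(X - C q) ^ (N - 1)}).restrictScalars k) ≠ ⊥) :
    (X - C q) ^ N ∈ HH r a V₁ N := by
  have hN1 : 1 ≤ N := by omega
  obtain ⟨h, hhS, hh0⟩ := Submodule.exists_mem_ne_zero_of_ne_bot hne
  have hhV₁ : h ∈ V₁ := hhS.1
  have hdvd : (X - C q) ^ (N - 1) ∣ h := Ideal.mem_span_singleton.mp hhS.2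
  obtain ⟨G₁, hG₁H, hG₁d, hrel', hG₁dvd⟩ :=
    order_mem r a b N hN V hV V₁ hV₁ q hq h hhV₁ (N - 1) hdvd
  rw [show N - 1 + 1 = N by omega] at hG₁dvd
  obtain ⟨L, hL⟩ := hG₁dvd
  have hL0 : L ≠ 0 := by
    rintro rfl
    rw [mul_zero] at hL
    rw [hL, map_zero] at hrel'
    exact hh0 ((mul_eq_zero.mp hrel').resolve_right (EE_ne_zero r a))
  have hLd : L.natDegree = 0 := by
    have : G₁.natDegree = N + L.natDegree := by
      rw [hL, natDegree_mul (pow_ne_zero _ (X_sub_C_ne_zero q)) hL0, natDegree_pow,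
        natDegree_X_sub_C, mul_one]
    omega
  obtain ⟨γ, hγ⟩ : ∃ γ : k, L = C γ := ⟨L.coeff 0, eq_C_of_natDegree_eq_zero hLd⟩
  have hγ0 : γ ≠ 0 := by
    rintro rfl
    exact hL0 (by rw [hγ, C_0])
  have : (X - C q) ^ N = γ⁻¹ • G₁ := by
    rw [hL, hγ, smul_eq_C_mul]
    have : C γ⁻¹ * C γ = (1 : k[X]) := by rw [← C_mul, inv_mul_cancel₀ hγ0, C_1]
    calc (X - C q) ^ N = (X - C q) ^ N * (C γ⁻¹ * C γ) := by rw [this, mul_one]
      _ = _ := by ring
  rw [this]
  exact (HH r a V₁ N).smul_mem _ hG₁H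

include hr hb hN hV hV₁ hfin hU in
theorem partC3 (q q' : k) (hq : ∀ j, q ≠ r j) (hq' : ∀ j, q' ≠ r j)
    (hne : (V₁ ⊓ (Ideal.span {(X - C q) ^ (N - 1)}).restrictScalars k) ≠ ⊥)
    (hne' : (V₁ ⊓ (Ideal.span {(X - C q') ^ (N - 1)}).restrictScalars k) ≠ ⊥) : q = q' := by
  by_contra hqq
  have hN1 : 1 ≤ N := by omega
  have h1 := pow_mem_HH r a b hb N hN V hV V₁ hV₁ q hq hne
  have h2 := pow_mem_HH r a b hb N hN V hV V₁ hV₁ q' hq' hne'
  have hNk : (N : k) ≠ 0 := by exact_mod_cast (by omega : N ≠ 0)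
  refine HH_ne r a hr b N hN V hV V₁ hV₁ hfin
    (span_top (HH r a V₁ N) N hN1 (HH_low r a hr b hb N hN V₁ hU)
      ((X - C q) ^ N - (X - C q') ^ N) ((X - C q) ^ N)
      ((HH r a V₁ N).sub_mem h1 h2) h1 ?_ (X_sub_C_pow_mem q N) ?_ ?_)
  · rw [mem_degreeLT]
    have hd : ∀ c : k, ((X - C c) ^ N).degree = (N : WithBot ℕ) := by
      intro c
      rw [degree_pow, degree_X_sub_C]; simp
    have := degree_sub_lt_left ((hd q).trans (hd q').symm) (pow_ne_zero _ (X_sub_C_ne_zero q))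
      (by rw [((monic_X_sub_C q).pow N).leadingCoeff, ((monic_X_sub_C q').pow N).leadingCoeff])
    rwa [hd q] at this
  · rw [coeff_sub, coeff_X_sub_C_pow_pred q N hN1, coeff_X_sub_C_pow_pred q' N hN1]
    intro h0
    have : (N : k) * (q' - q) = 0 := by linear_combination h0
    rcases mul_eq_zero.mp this with h | h
    · exact hNk h
    · exact hqq (sub_eq_zero.mp h).symm
  · rw [coeff_X_sub_C_pow_self]; exact one_ne_zero

include hr hb hN hV hV₁ hfin hU in
theorem main17243 :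
    (∀ q : k, (∀ j, q ≠ r j) →
      (V₁ ⊓ (Ideal.span {(X - C q) ^ N}).restrictScalars k) = ⊥ ∧
      Module.finrank k ↥(V₁ ⊓ (Ideal.span {(X - C q) ^ (N - 2)}).restrictScalars k) ≤ 1) ∧
    (∀ q q' : k, (∀ j, q ≠ r j) → (∀ j, q' ≠ r j) →
      (V₁ ⊓ (Ideal.span {(X - C q) ^ (N - 1)}).restrictScalars k) ≠ ⊥ →
      (V₁ ⊓ (Ideal.span {(X - C q') ^ (N - 1)}).restrictScalars k) ≠ ⊥ → q = q') := by
  refine ⟨fun q hq => ⟨?_, partC2 r a hr b hb N hN V hV V₁ hV₁ hfin hU q hq⟩, ?_⟩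
  · rw [eq_bot_iff, ← main17242 r a b N hN V hV q hq]
    exact inf_le_inf_right _ hV₁
  · intro q q' hq hq' hne hne'
    exact partC3 r a hr b hb N hN V hV V₁ hV₁ hfin hU q q' hq hq' hne hne'

end H

end Groth.Agent.Helper8.Polar
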