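import Groth.Agent.Helper8.PolarC

set_option autoImplicit false

namespace Groth.Agent.Helper8.Polar

open Polynomial

section M
variable {k : Type*} [Field k] [CharZero k] {m : ℕ} (r : Fin m → k) (a : Fin m → ℕ)

theorem Ei_eval_ne (hr : Function.Injective r) (i : Fin m) : (Ei r a i).eval (r i) ≠ 0 := by
  have := Di_eval_ne r a hr i
  rw [Di_eq, eval_mul] at this
  exact right_ne_zero_of_mul this

theorem Pi_eval_ne (hr : Function.Injective r) (i : Fin m) : (Pi r i).eval (r i) ≠ 0 := by
  have := Di_eval_ne r (fun _ => 0) hr i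
  rw [Di_eq, eval_mul] at this
  exact left_ne_zero_of_mul this

/-- key identity at a marked point -/
theorem marked_identity (i : Fin m) (j : ℕ) (G₂ : k[X]) :
    Psi r a ((X - C (r i)) ^ j * G₂) =
      Pi r i * (X - C (r i)) ^ (j + a i) *
        (C ((j : k) - (a i : k)) * G₂ * Ei r a i +
          (X - C (r i)) * (derivative G₂ * Ei r a i - G₂ * derivative (Ei r a i))) := by
  have Hj := derivative_pow_mul_self (r i) j
  have Ha := derivative_pow_mul_self (r i) (a i)
  rw [Psi_apply, PP_eq r i, EE_eq r a i, derivative_mul, derivative_mul, C_sub, pow_add]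
  linear_combination (Pi r i * G₂ * (X - C (r i)) ^ a i * Ei r a i) * Hj -
    (Pi r i * (X - C (r i)) ^ j * G₂ * Ei r a i) * Ha

theorem Psi_sub_C_mul_EE (G : k[X]) (c : k) : Psi r a (G - C c * EE r a) = Psi r a G := by
  rw [map_sub, ← smul_eq_C_mul, map_smul, Psi_EE, smul_zero, sub_zero]

/-- divisibility of `G` by a power of `X - r i` passes to `h` -/
theorem marked_forward (hr : Function.Injective r) (i : Fin m) (j : ℕ) (h G : k[X])
    (hrel : h * EE r a = Psi r a G) (hdvd : (X - C (r i)) ^ j ∣ G) : (X - C (r i)) ^ j ∣ h := by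
  obtain ⟨G₂, rfl⟩ := hdvd
  set w : k[X] := X - C (r i) with hw
  have hwprime : Prime w := prime_X_sub_C (r i)
  have hwEi : ¬ w ∣ Ei r a i := fun hd => Ei_eval_ne r a hr i (dvd_iff_isRoot.mp hd)
  rw [marked_identity, EE_eq r a i, ← hw] at hrel
  have h1 : w ^ a i * (h * Ei r a i) = w ^ a i * (w ^ j * (Pi r i *
      (C ((j : k) - (a i : k)) * G₂ * Ei r a i +
          w * (derivative G₂ * Ei r a i - G₂ * derivative (Ei r a i))))) := by
    rw [pow_add] at hrel
    linear_combination hrel
  have h2 := mul_left_cancel₀ (pow_ne_zero _ (X_sub_C_ne_zero (r i))) h1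
  exact hwprime.pow_dvd_of_dvd_mul_right j hwEi (h2 ▸ Dvd.intro _ rfl)

/-- one step of divisibility at a marked point -/
theorem marked_step (hr : Function.Injective r) (i : Fin m) (j : ℕ) (hja : j ≠ a i) (h G₂ : k[X])
    (hrel : h * EE r a = Psi r a ((X - C (r i)) ^ j * G₂))
    (hdvd : (X - C (r i)) ^ (j + 1) ∣ h) : (X - C (r i)) ∣ G₂ := by
  obtain ⟨h₂, rfl⟩ := hdvd
  set w : k[X] := X - C (r i) with hw
  rw [marked_identity, EE_eq r a i, ← hw] at hrel
  have h1 : w ^ (j + a i) * (w * h₂ * Ei r a i) = w ^ (j + a i) * (Pi r i *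
      (C ((j : k) - (a i : k)) * G₂ * Ei r a i +
          w * (derivative G₂ * Ei r a i - G₂ * derivative (Ei r a i)))) := by
    rw [pow_add] at hrel ⊢
    rw [pow_succ] at hrel
    linear_combination hrel
  have h2 := mul_left_cancel₀ (pow_ne_zero _ (X_sub_C_ne_zero (r i))) h1
  have h3 := congrArg (eval (r i)) h2
  simp only [eval_mul, eval_add, eval_sub, eval_C, hw, eval_X, sub_self, zero_mul,
    add_zero] at h3
  have hja' : ((j : k) - (a i : k)) ≠ 0 := by
    rw [sub_ne_zero]; exact_mod_cast hja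
  have h4 : G₂.eval (r i) = 0 := by
    rcases mul_eq_zero.mp h3.symm with h5 | h5
    · exact absurd h5 (Pi_eval_ne r hr i)
    · rcases mul_eq_zero.mp h5 with h6 | h6
      · rcases mul_eq_zero.mp h6 with h7 | h7
        · exact absurd h7 hja'
        · exact h7
      · exact absurd h6 (Ei_eval_ne r a hr i)
  exact dvd_iff_isRoot.mpr h4

/-- low orders at a marked point: any antiderivative numerator inherits the divisibility -/
theorem marked_order_low (hr : Function.Injective r) (i : Fin m) (n : ℕ) (hn : n ≤ a i)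
    (h G : k[X]) (hrel : h * EE r a = Psi r a G) (hdvd : (X - C (r i)) ^ n ∣ h) :
    (X - C (r i)) ^ n ∣ G := by
  induction n with
  | zero => simp
  | succ n ih =>
    obtain ⟨G₂, rfl⟩ := ih (by omega) ((pow_dvd_pow _ (Nat.le_succ n)).trans hdvd)
    have := marked_step r a hr i n (by omega) h G₂ hrel hdvd
    rw [pow_succ]
    exact mul_dvd_mul_left _ this

/-- all orders at a marked point, after adjusting by a multiple of `E` -/
theorem marked_order (hr : Function.Injective r) (i : Fin m) (n : ℕ)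
    (h G : k[X]) (hrel : h * EE r a = Psi r a G) (hdvd : (X - C (r i)) ^ n ∣ h) :
    ∃ c : k, (X - C (r i)) ^ n ∣ G - C c * EE r a := by
  induction n with
  | zero => exact ⟨0, by simp⟩
  | succ n ih =>
    obtain ⟨c, G₂, hG₂⟩ := ih ((pow_dvd_pow _ (Nat.le_succ n)).trans hdvd)
    have hrel' : h * EE r a = Psi r a ((X - C (r i)) ^ n * G₂) := by
      rw [← hG₂, Psi_sub_C_mul_EE]; exact hrel
    by_cases hna : n = a i
    · set c' : k := G₂.eval (r i) / (Ei r a i).eval (r i) with hc'
      refine ⟨c + c', ?_⟩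
      have h1 : G - C (c + c') * EE r a = (X - C (r i)) ^ n * (G₂ - C c' * Ei r a i) := by
        have := EE_eq r a i
        rw [← hna] at this
        rw [C_add, mul_sub, ← hG₂]
        rw [this]
        ring
      rw [h1, pow_succ]
      refine mul_dvd_mul_left _ (dvd_iff_isRoot.mpr ?_)
      have := Ei_eval_ne r a hr i
      simp only [IsRoot.def, eval_sub, eval_mul, eval_C, hc']
      field_simp
      ring
    · refine ⟨c, ?_⟩
      have := marked_step r a hr i n hna h G₂ hrel' hdvd
      rw [hG₂, pow_succ]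
      exact mul_dvd_mul_left _ this

/-- unmarked points: any antiderivative numerator gains one order after adjusting -/
theorem order_lemma_any (q : k) (hq : ∀ j, q ≠ r j) (h G : k[X])
    (hrel : h * EE r a = Psi r a G) (n : ℕ) (hdvd : (X - C q) ^ n ∣ h) :
    (X - C q) ^ (n + 1) ∣ G - C (G.eval q / (EE r a).eval q) * EE r a := by
  set w : k[X] := X - C q with hw
  have hwprime : Prime w := prime_X_sub_C q
  set E := EE r a with hE
  set P := PP r with hP
  have hEq : E.eval q ≠ 0 := EE_eval_ne r a q hq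
  have hPq : P.eval q ≠ 0 := PP_eval_ne r q hq
  have hwE : ¬ w ∣ E := fun hd => hEq (dvd_iff_isRoot.mp hd)
  have hwP : ¬ w ∣ P := fun hd => hPq (dvd_iff_isRoot.mp hd)
  set c : k := G.eval q / E.eval q with hc
  set G₁ : k[X] := G - C c * E with hG₁
  have hG₁q : G₁.eval q = 0 := by
    rw [hG₁, eval_sub, eval_mul, eval_C, hc]
    field_simp
    ring
  have hrel₁ : h * E = P * (derivative G₁ * E - G₁ * derivative E) := by
    have := Psi_sub_C_mul_EE r a G c
    rw [← hE, ← hG₁] at this
    rw [hrel, ← this, Psi_apply]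
  have hdvdW : w ^ n ∣ derivative G₁ * E - G₁ * derivative E := by
    apply hwprime.pow_dvd_of_dvd_mul_left n hwP
    rw [← hrel₁]
    exact Dvd.dvd.mul_right hdvd E
  by_cases hG₁0 : G₁ = 0
  · rw [hG₁0]
    exact dvd_zero _
  · obtain ⟨G₂, hG₂, hndvd⟩ := exists_eq_pow_rootMultiplicity_mul_and_not_dvd G₁ hG₁0 q
    set v := rootMultiplicity q G₁ with hv
    have hvpos : 0 < v := (rootMultiplicity_pos hG₁0).mpr hG₁q
    by_contra hcon
    have hvn : v ≤ n := by
      by_contra hlt
      apply hcon
      rw [hG₂]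
      exact Dvd.dvd.mul_right (pow_dvd_pow _ (by omega)) _
    obtain ⟨v', hv'⟩ : ∃ v', v = v' + 1 := ⟨v - 1, by omega⟩
    rw [hv'] at hG₂
    have hder : derivative G₁ * E - G₁ * derivative E =
        w ^ v' * (C ((v' : k) + 1) * G₂ * E + w * (derivative G₂ * E - G₂ * derivative E)) := by
      rw [hG₂, derivative_mul, derivative_X_sub_C_pow, Nat.add_sub_cancel]
      push_cast
      ring
    have h1 : w ^ (v' + 1) ∣ derivative G₁ * E - G₁ * derivative E :=
      (pow_dvd_pow w (by omega)).trans hdvdW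
    rw [hder, pow_succ] at h1
    have h2 := (mul_dvd_mul_iff_left (pow_ne_zero v' (X_sub_C_ne_zero q))).mp h1
    have h3 : w ∣ C ((v' : k) + 1) * G₂ * E :=
      (dvd_add_left (Dvd.intro _ rfl : w ∣ w * (derivative G₂ * E - G₂ * derivative E))).mp h2
    rcases hwprime.dvd_or_dvd h3 with h4 | h4
    · rcases hwprime.dvd_or_dvd h4 with h5 | h5
      · have : IsUnit (C ((v' : k) + 1)) :=
          isUnit_C.mpr (IsUnit.mk0 _ (Nat.cast_add_one_ne_zero v'))
        exact hwprime.not_isUnit (isUnit_of_dvd_unit h5 this)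
      · exact hndvd h5
    · exact hwE h4

end M

end Groth.Agent.Helper8.Polar
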