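import Groth.Agent.Helper8.Wronsk3

set_option autoImplicit false

namespace Groth.Agent.Helper8.Polar

open Polynomial

section K
variable {k : Type*} [Field k] [CharZero k] {m : ℕ} (r : Fin m → k) (a : Fin m → ℕ)

/-- the kernel of `Ψ` on `k[X]_{≤ N}` is the line through `E` -/
theorem ker_Psi (hr : Function.Injective r) (b N : ℕ) (hN : N = (∑ j, a j) + b)
    (G : k[X]) (hG : G ∈ degreeLT k (N + 1)) (h0 : Psi r a G = 0) :
    ∃ c : k, G = C c * EE r a := by
  classical
  set V : Submodule k k[X] :=
    (degreeLT k b).map (LinearMap.mulLeft k (∏ j, (X - C (r j)) ^ (a j + 1))) ⊔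
      ⨆ i, (degreeLT k (a i)).map
        (LinearMap.mulLeft k (∏ j ∈ Finset.univ.erase i, (X - C (r j)) ^ (a j + 1))) with hV
  obtain ⟨hfr, hfd⟩ := finrank_V r a hr b N hN V hV
  have hEne : EE r a ≠ 0 := EE_ne_zero r a
  have hinj : Function.Injective (LinearMap.mulRight k (EE r a)) := fun x y hxy =>
    mul_right_cancel₀ hEne hxy
  have hmap := map_V_eq r a hr b N hN V hV
  have hfdW : FiniteDimensional k (degreeLT k (N + 1)) :=
    (degreeLTEquiv k (N + 1)).symm.finiteDimensional
  have hfW : Module.finrank k (degreeLT k (N + 1)) = N + 1 := by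
    rw [(degreeLTEquiv k (N + 1)).finrank_eq, Module.finrank_fin_fun]
  set f : degreeLT k (N + 1) →ₗ[k] k[X] := (Psi r a).comp (degreeLT k (N + 1)).subtype with hf
  have hrange : LinearMap.range f = (degreeLT k (N + 1)).map (Psi r a) := by
    rw [hf, LinearMap.range_comp, Submodule.range_subtype]
  have hrn := LinearMap.finrank_range_add_finrank_ker f
  have hfrange : Module.finrank k (LinearMap.range f) = N := by
    rw [hrange, ← hmap, ← (Submodule.equivMapOfInjective _ hinj V).finrank_eq, hfr]
  have hfker : Module.finrank k (LinearMap.ker f) = 1 := by omega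
  have hEW : EE r a ∈ degreeLT k (N + 1) :=
    mem_degreeLT_succ_of_natDegree_le (by have := natDegree_EE_le r a; omega)
  have hker : (⟨EE r a, hEW⟩ : degreeLT k (N + 1)) ∈ LinearMap.ker f := by
    rw [LinearMap.mem_ker, hf, LinearMap.comp_apply]; exact Psi_EE r a
  have hvne : (⟨⟨EE r a, hEW⟩, hker⟩ : LinearMap.ker f) ≠ 0 := by
    intro h0
    apply hEne
    have := congrArg (fun x : LinearMap.ker f => ((x : degreeLT k (N + 1)) : k[X])) h0
    simpa using this
  have hGker : (⟨G, hG⟩ : degreeLT k (N + 1)) ∈ LinearMap.ker f := by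
    rw [LinearMap.mem_ker, hf, LinearMap.comp_apply]; exact h0
  obtain ⟨c, hc⟩ := (finrank_eq_one_iff_of_nonzero' (K := k) (V := LinearMap.ker f) _ hvne).mp
    hfker ⟨⟨G, hG⟩, hGker⟩
  refine ⟨c, ?_⟩
  have := congrArg (fun x : LinearMap.ker f => ((x : degreeLT k (N + 1)) : k[X])) hc
  simp only [Submodule.coe_smul] at this
  rw [← this, smul_eq_C_mul]

/-- dimension of the space of multiples of `f` of bounded degree -/
theorem finrank_map_mulLeft (f : k[X]) (hf : f ≠ 0) (t : ℕ) :
    Module.finrank k ((degreeLT k t).map (LinearMap.mulLeft k f)) = t := by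
  have hinj : Function.Injective (LinearMap.mulLeft k f) := fun x y hxy =>
    mul_left_cancel₀ hf hxy
  rw [← (Submodule.equivMapOfInjective _ hinj _).finrank_eq, (degreeLTEquiv k t).finrank_eq,
    Module.finrank_fin_fun]

open Classical in
/-- generic rank computation: image of a finite-dimensional subspace under `Ψ` when the kernel
is understood -/
theorem finrank_map_Psi (hr : Function.Injective r) (b N : ℕ) (hN : N = (∑ j, a j) + b)
    (T : Submodule k k[X]) (hT : T ≤ degreeLT k (N + 1)) :
    Module.finrank k (T.map (Psi r a)) + (if EE r a ∈ T then 1 else 0) = Module.finrank k T := by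
  classical
  have hfdW : FiniteDimensional k (degreeLT k (N + 1)) :=
    (degreeLTEquiv k (N + 1)).symm.finiteDimensional
  have hfdT : FiniteDimensional k T := Submodule.finiteDimensional_of_le hT
  set f : T →ₗ[k] k[X] := (Psi r a).comp T.subtype with hf
  have hrange : LinearMap.range f = T.map (Psi r a) := by
    rw [hf, LinearMap.range_comp, Submodule.range_subtype]
  have hrn := LinearMap.finrank_range_add_finrank_ker f
  rw [hrange] at hrn
  have hEne : EE r a ≠ 0 := EE_ne_zero r a
  suffices hk : Module.finrank k (LinearMap.ker f) = if EE r a ∈ T then 1 else 0 by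
    rw [← hk]; exact hrn
  split_ifs with hE
  · have hker : (⟨EE r a, hE⟩ : T) ∈ LinearMap.ker f := by
      rw [LinearMap.mem_ker, hf, LinearMap.comp_apply]; exact Psi_EE r a
    have hvne : (⟨⟨EE r a, hE⟩, hker⟩ : LinearMap.ker f) ≠ 0 := by
      intro h0
      apply hEne
      have := congrArg (fun x : LinearMap.ker f => ((x : T) : k[X])) h0
      simpa using this
    rw [finrank_eq_one_iff_of_nonzero' (K := k) (V := LinearMap.ker f) _ hvne]
    rintro ⟨⟨G, hGT⟩, hGker⟩
    have h0 : Psi r a G = 0 := by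
      have := LinearMap.mem_ker.mp hGker
      simpa [hf] using this
    obtain ⟨c, hc⟩ := ker_Psi r a hr b N hN G (hT hGT) h0
    refine ⟨c, ?_⟩
    apply Subtype.ext
    apply Subtype.ext
    simp only [Submodule.coe_smul]
    rw [hc, smul_eq_C_mul]
  · rw [Submodule.finrank_eq_zero]
    rw [eq_bot_iff]
    rintro ⟨G, hGT⟩ hGker
    have h0 : Psi r a G = 0 := by
      have := LinearMap.mem_ker.mp hGker
      simpa [hf] using this
    obtain ⟨c, hc⟩ := ker_Psi r a hr b N hN G (hT hGT) h0
    have hc0 : c = 0 := by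
      by_contra hcne
      apply hE
      have : EE r a = c⁻¹ • G := by
        rw [hc, smul_eq_C_mul, ← mul_assoc, ← C_mul, inv_mul_cancel₀ hcne, C_1, one_mul]
      rw [this]
      exact T.smul_mem _ hGT
    rw [Submodule.mem_bot]
    apply Subtype.ext
    simp only [ZeroMemClass.coe_zero]
    rw [hc, hc0, C_0, zero_mul]

end K

section B
variable {k : Type*} [Field k] [CharZero k] {m : ℕ} (r : Fin m → k) (a : Fin m → ℕ)

theorem finrank_marked (hr : Function.Injective r) (b N : ℕ) (hN : N = (∑ j, a j) + b)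
    (V : Submodule k k[X])
    (hV : V = (degreeLT k b).map (LinearMap.mulLeft k (∏ j, (X - C (r j)) ^ (a j + 1))) ⊔
      ⨆ i, (degreeLT k (a i)).map
        (LinearMap.mulLeft k (∏ j ∈ Finset.univ.erase i, (X - C (r j)) ^ (a j + 1))))
    (i : Fin m) (n : ℕ) :
    Module.finrank k ↥(V ⊓ (Ideal.span {(X - C (r i)) ^ n}).restrictScalars k) =
      if n ≤ a i then N - n else N + 1 - n := by
  classical
  set w : k[X] := X - C (r i) with hw
  set E := EE r a with hE
  have hEne : E ≠ 0 := EE_ne_zero r a
  have hinj : Function.Injective (LinearMap.mulRight k E) := fun x y hxy =>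
    mul_right_cancel₀ hEne hxy
  have hsN : ∑ j, a j ≤ N := by omega
  have hai : a i ≤ N := (Finset.single_le_sum (fun j _ => Nat.zero_le (a j)) (Finset.mem_univ i)).trans hsN
  set S := V ⊓ (Ideal.span {w ^ n}).restrictScalars k with hS
  set T : Submodule k k[X] := (Ideal.span {w ^ n}).restrictScalars k ⊓ degreeLE k (N : WithBot ℕ) with hT
  have hTW : T ≤ degreeLT k (N + 1) := by
    rw [degreeLT_succ_eq_degreeLE]; exact inf_le_right
  have hwn : w ^ n ≠ 0 := pow_ne_zero _ (X_sub_C_ne_zero _)
  have hwnd : (w ^ n).natDegree = n := by rw [natDegree_pow, natDegree_X_sub_C, mul_one]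
  -- Step 1
  have hmapV := map_V_eq r a hr b N hN V hV
  have step1 : S.map (LinearMap.mulRight k E) = T.map (Psi r a) := by
    apply le_antisymm
    · rintro _ ⟨h, hhS, rfl⟩
      have hhV : h ∈ V := hhS.1
      have hdvd : w ^ n ∣ h := Ideal.mem_span_singleton.mp hhS.2
      obtain ⟨G, hGd, hrel⟩ := Vrel r a b N hN V hV hhV
      have hrel' := (rel_iff r a h G).mp hrel
      obtain ⟨c, hc⟩ := marked_order r a hr i n h G hrel' hdvd
      refine ⟨G - C c * EE r a, ⟨Ideal.mem_span_singleton.mpr hc, ?_⟩, ?_⟩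
      · rw [← degreeLT_succ_eq_degreeLE]
        exact mem_degreeLT_succ_of_natDegree_le (natDegree_sub_C_mul_EE_le r a N hsN G hGd c)
      · rw [Psi_sub_C_mul_EE]; exact hrel'.symm
    · rintro _ ⟨G, hGT, rfl⟩
      have hGW : G ∈ degreeLT k (N + 1) := hTW hGT
      have : Psi r a G ∈ (degreeLT k (N + 1)).map (Psi r a) := Submodule.mem_map_of_mem hGW
      rw [← hmapV] at this
      obtain ⟨h, hhV, hh⟩ := this
      have hrel : h * EE r a = Psi r a G := hh
      have hdvd := marked_forward r a hr i n h G hrel (Ideal.mem_span_singleton.mp hGT.1)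
      exact ⟨h, ⟨hhV, Ideal.mem_span_singleton.mpr hdvd⟩, hh⟩
  have hfS : Module.finrank k S = Module.finrank k (T.map (Psi r a)) := by
    rw [← step1]; exact (Submodule.equivMapOfInjective _ hinj S).finrank_eq
  have hrank := finrank_map_Psi r a hr b N hN T hTW
  -- membership of `E`
  have hEmem : E ∈ T ↔ n ≤ a i := by
    constructor
    · rintro ⟨h1, -⟩
      by_contra hlt
      have hdvd : w ^ n ∣ E := Ideal.mem_span_singleton.mp h1
      have h2 : w ^ (a i + 1) ∣ w ^ a i * Ei r a i := by
        rw [← EE_eq r a i]; exact (pow_dvd_pow w (by omega)).trans hdvd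
      rw [pow_succ] at h2
      have h3 := (mul_dvd_mul_iff_left (pow_ne_zero (a i) (X_sub_C_ne_zero (r i)))).mp h2
      exact Ei_eval_ne r a hr i (dvd_iff_isRoot.mp h3)
    · intro hle
      refine ⟨Ideal.mem_span_singleton.mpr ?_, ?_⟩
      · rw [hE, EE_eq r a i]
        exact Dvd.dvd.mul_right (pow_dvd_pow w hle) _
      · rw [← degreeLT_succ_eq_degreeLE]
        exact mem_degreeLT_succ_of_natDegree_le ((natDegree_EE_le r a).trans hsN)
  by_cases hn : n ≤ N + 1
  · have hTeq := span_inf_degreeLE (w ^ n) hwn (N + 1 - n) N (by rw [hwnd]; omega)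
    have hfT : Module.finrank k T = N + 1 - n := by
      rw [hT, hTeq, finrank_map_mulLeft _ hwn]
    rw [hfS]
    by_cases hle : n ≤ a i
    · rw [if_pos hle]
      rw [if_pos (hEmem.mpr hle)] at hrank
      omega
    · rw [if_neg hle]
      rw [if_neg (fun h => hle (hEmem.mp h))] at hrank
      omega
  · -- everything vanishes
    have hTbot : T = ⊥ := by
      rw [eq_bot_iff]
      rintro G ⟨h1, h2⟩
      rw [Submodule.mem_bot]
      have hdvd : w ^ n ∣ G := Ideal.mem_span_singleton.mp h1
      by_contra hG0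
      have := natDegree_le_of_dvd hdvd hG0
      rw [hwnd] at this
      have h3 : G.natDegree ≤ N := natDegree_le_of_degree_le (mem_degreeLE.mp h2)
      omega
    rw [hfS, hTbot, Submodule.map_bot, finrank_bot]
    split_ifs <;> omega

end B

section Deg
variable {k : Type*} [Field k] [CharZero k] {m : ℕ} (r : Fin m → k) (a : Fin m → ℕ)

theorem EE_monic : (EE r a).Monic :=
  monic_prod_of_monic _ _ fun j _ => (monic_X_sub_C (r j)).pow _

theorem natDegree_EE : (EE r a).natDegree = ∑ j, a j := by
  unfold EE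
  rw [natDegree_prod_of_monic _ _ fun j _ => (monic_X_sub_C (r j)).pow _]
  refine Finset.sum_congr rfl fun j _ => ?_
  rw [natDegree_pow, natDegree_X_sub_C, mul_one]

theorem PP_monic : (PP r).Monic :=
  monic_prod_of_monic _ _ fun j _ => monic_X_sub_C (r j)

theorem natDegree_PP : (PP r).natDegree = m := by
  unfold PP
  rw [natDegree_prod_of_monic _ _ fun j _ => monic_X_sub_C (r j)]
  simp

theorem coeff_X_mul_derivative (G : k[X]) (n : ℕ) :
    (X * derivative G).coeff n = (n : k) * G.coeff n := by
  cases n with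
  | zero => simp
  | succ n => rw [coeff_X_mul, coeff_derivative]; push_cast; ring

theorem natDegree_X_mul_derivative_le (G : k[X]) : (X * derivative G).natDegree ≤ G.natDegree := by
  rw [natDegree_le_iff_coeff_eq_zero]
  intro j hj
  rw [coeff_X_mul_derivative, coeff_eq_zero_of_natDegree_lt hj, mul_zero]

/-- `X · (G' E - G E')`: degree bound and top coefficient -/
theorem wronsk_top (G : k[X]) (g : ℕ) (hG : G.natDegree ≤ g) :
    (X * (derivative G * EE r a - G * derivative (EE r a))).natDegree ≤ g + ∑ j, a j ∧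
    (X * (derivative G * EE r a - G * derivative (EE r a))).coeff (g + ∑ j, a j) =
      ((g : k) - ((∑ j, a j : ℕ) : k)) * G.coeff g := by
  set s := ∑ j, a j with hs
  have hEd : (EE r a).natDegree = s := natDegree_EE r a
  have hid : X * (derivative G * EE r a - G * derivative (EE r a)) =
      (X * derivative G) * EE r a - G * (X * derivative (EE r a)) := by ring
  have h1 : (X * derivative G).natDegree ≤ g := (natDegree_X_mul_derivative_le G).trans hG
  have h2 : (X * derivative (EE r a)).natDegree ≤ s :=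
    (natDegree_X_mul_derivative_le _).trans hEd.le
  constructor
  · rw [hid]
    refine (natDegree_sub_le _ _).trans (max_le ?_ ?_)
    · exact natDegree_mul_le.trans (add_le_add h1 hEd.le)
    · exact natDegree_mul_le.trans (add_le_add hG h2)
  · rw [hid, coeff_sub, coeff_mul_add_eq_of_natDegree_le h1 hEd.le,
      coeff_mul_add_eq_of_natDegree_le hG h2, coeff_X_mul_derivative, coeff_X_mul_derivative]
    have : (EE r a).coeff s = 1 := by
      rw [← hEd]; exact (EE_monic r a).coeff_natDegree
    rw [this]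
    ring

/-- the same for `X · Ψ G` -/
theorem XPsi_top (G : k[X]) (g : ℕ) (hG : G.natDegree ≤ g) :
    (X * Psi r a G).natDegree ≤ m + (g + ∑ j, a j) ∧
    (X * Psi r a G).coeff (m + (g + ∑ j, a j)) =
      ((g : k) - ((∑ j, a j : ℕ) : k)) * G.coeff g := by
  obtain ⟨h1, h2⟩ := wronsk_top r a G g hG
  have hid : X * Psi r a G = PP r * (X * (derivative G * EE r a - G * derivative (EE r a))) := by
    rw [Psi_apply]; ring
  have hPd : (PP r).natDegree = m := natDegree_PP r
  constructor
  · rw [hid]
    exact natDegree_mul_le.trans (add_le_add hPd.le h1)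
  · rw [hid, coeff_mul_add_eq_of_natDegree_le hPd.le h1, h2]
    have : (PP r).coeff m = 1 := by
      have := (PP_monic r).coeff_natDegree
      rwa [hPd] at this
    rw [this, one_mul]

theorem natDegree_X_mul_mul_EE (h : k[X]) (hh : h ≠ 0) :
    (X * (h * EE r a)).natDegree = 1 + (h.natDegree + ∑ j, a j) := by
  rw [natDegree_mul X_ne_zero (mul_ne_zero hh (EE_ne_zero r a)),
    natDegree_mul hh (EE_ne_zero r a), natDegree_X, natDegree_EE]

theorem natDegree_le_of_mem_degreeLT_succ {G : k[X]} {g : ℕ} (hG : G ∈ degreeLT k (g + 1)) :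
    G.natDegree ≤ g := by
  rw [degreeLT_succ_eq_degreeLE] at hG
  exact natDegree_le_of_degree_le (mem_degreeLE.mp hG)

theorem eq_zero_of_mem_degreeLT_zero {G : k[X]} (hG : G ∈ degreeLT k 0) : G = 0 := by
  rw [mem_degreeLT] at hG
  exact degree_eq_bot.mp (Nat.WithBot.lt_zero_iff.mp hG)

/-- D1: low degree of `G` forces low degree of `h` -/
theorem deg_forward (N n D : ℕ) (hD : D = N + m) (h G : k[X])
    (hG : G ∈ degreeLT k (N + 1 - n)) (hrel : h * EE r a = Psi r a G) :
    h ∈ degreeLT k (D - n) := by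
  by_cases hh : h = 0
  · rw [hh]; exact Submodule.zero_mem _
  by_cases hn : N + 1 ≤ n
  · exfalso
    rw [show N + 1 - n = 0 by omega] at hG
    rw [eq_zero_of_mem_degreeLT_zero hG] at hrel
    exact hh (eq_zero_of_rel_zero r a h hrel)
  · have hn' : n ≤ N := by omega
    have hG' : G.natDegree ≤ N - n := by
      apply natDegree_le_of_mem_degreeLT_succ
      rwa [show N - n + 1 = N + 1 - n by omega]
    obtain ⟨h1, -⟩ := XPsi_top r a G (N - n) hG'
    rw [← hrel, natDegree_X_mul_mul_EE r a h hh] at h1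
    rw [mem_degreeLT, degree_eq_natDegree hh]
    exact_mod_cast (by omega : h.natDegree < D - n)

/-- D2, one step: lower the degree of the antiderivative numerator by one -/
theorem deg_step (N n D : ℕ) (hD : D = N + m) (h G : k[X])
    (hh : h ∈ degreeLT k (D - (n + 1)))
    (hG : G ∈ degreeLT k (N + 1 - n)) (hrel : h * EE r a = Psi r a G) :
    ∃ G₁ ∈ degreeLT k (N + 1 - (n + 1)), h * EE r a = Psi r a G₁ := by
  by_cases hn : N + 1 ≤ n
  · rw [show N + 1 - n = 0 by omega] at hG
    refine ⟨0, Submodule.zero_mem _, ?_⟩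
    rw [hrel, eq_zero_of_mem_degreeLT_zero hG]
  have hn' : n ≤ N := by omega
  set g := N - n with hg
  set s := ∑ j, a j with hs
  have hG' : G.natDegree ≤ g := by
    apply natDegree_le_of_mem_degreeLT_succ
    rwa [show g + 1 = N + 1 - n by omega]
  rw [show N + 1 - (n + 1) = g by omega]
  have hlow : ∀ F : k[X], F.natDegree ≤ g → F.coeff g = 0 → F ∈ degreeLT k g := by
    intro F hF hFg
    rw [mem_degreeLT, degree_lt_iff_coeff_zero]
    intro j hj
    rcases Nat.eq_or_lt_of_le hj with h1 | h1
    · rw [← h1]; exact hFg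
    · exact coeff_eq_zero_of_natDegree_lt (lt_of_le_of_lt hF h1)
  by_cases hgs : g = s
  · refine ⟨G - C (G.coeff g) * EE r a, hlow _ ?_ ?_, ?_⟩
    · refine (natDegree_sub_le _ _).trans (max_le hG' ?_)
      exact (natDegree_C_mul_le _ _).trans (by rw [natDegree_EE, ← hs, hgs])
    · rw [coeff_sub, coeff_C_mul]
      have : (EE r a).coeff g = 1 := by
        have := (EE_monic r a).coeff_natDegree
        rwa [natDegree_EE, ← hs, ← hgs] at this
      rw [this, mul_one, sub_self]
    · rw [Psi_sub_C_mul_EE]; exact hrel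
  · refine ⟨G, hlow G hG' ?_, hrel⟩
    obtain ⟨-, h2⟩ := XPsi_top r a G g hG'
    rw [← hrel] at h2
    have hz : (X * (h * EE r a)).coeff (m + (g + s)) = 0 := by
      by_cases hh0 : h = 0
      · rw [hh0, zero_mul, mul_zero, coeff_zero]
      · apply coeff_eq_zero_of_natDegree_lt
        rw [natDegree_X_mul_mul_EE r a h hh0, ← hs]
        have : h.natDegree < D - (n + 1) :=
          (natDegree_lt_iff_degree_lt hh0).mpr (mem_degreeLT.mp hh)
        omega
    rw [hz] at h2
    have hne : ((g : k) - ((s : ℕ) : k)) ≠ 0 := by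
      rw [sub_ne_zero]; exact_mod_cast hgs
    exact (mul_eq_zero.mp h2.symm).resolve_left hne

theorem deg_backward (b N D : ℕ) (hN : N = (∑ j, a j) + b) (hD : D = N + m)
    (V : Submodule k k[X])
    (hV : V = (degreeLT k b).map (LinearMap.mulLeft k (∏ j, (X - C (r j)) ^ (a j + 1))) ⊔
      ⨆ i, (degreeLT k (a i)).map
        (LinearMap.mulLeft k (∏ j ∈ Finset.univ.erase i, (X - C (r j)) ^ (a j + 1))))
    (n : ℕ) (h : k[X]) (hhV : h ∈ V) (hh : h ∈ degreeLT k (D - n)) :
    ∃ G ∈ degreeLT k (N + 1 - n), h * EE r a = Psi r a G := by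
  induction n with
  | zero =>
    obtain ⟨G, hGd, hrel⟩ := Vrel r a b N hN V hV hhV
    exact ⟨G, mem_degreeLT_succ_of_natDegree_le hGd, (rel_iff r a h G).mp hrel⟩
  | succ n ih =>
    obtain ⟨G, hG, hrel⟩ := ih (degreeLT_mono (by omega) hh)
    exact deg_step r a N n D hD h G hh hG hrel

theorem finrank_infty (hr : Function.Injective r) (b N D : ℕ) (hN : N = (∑ j, a j) + b)
    (hD : D = N + m) (V : Submodule k k[X])
    (hV : V = (degreeLT k b).map (LinearMap.mulLeft k (∏ j, (X - C (r j)) ^ (a j + 1))) ⊔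
      ⨆ i, (degreeLT k (a i)).map
        (LinearMap.mulLeft k (∏ j ∈ Finset.univ.erase i, (X - C (r j)) ^ (a j + 1))))
    (n : ℕ) :
    Module.finrank k ↥(V ⊓ degreeLT k (D - n)) = if n ≤ b then N - n else N + 1 - n := by
  classical
  set E := EE r a with hE
  have hEne : E ≠ 0 := EE_ne_zero r a
  have hinj : Function.Injective (LinearMap.mulRight k E) := fun x y hxy =>
    mul_right_cancel₀ hEne hxy
  set S := V ⊓ degreeLT k (D - n) with hS
  set T : Submodule k k[X] := degreeLT k (N + 1 - n) with hT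
  have hTW : T ≤ degreeLT k (N + 1) := degreeLT_mono (by omega)
  have hmapV := map_V_eq r a hr b N hN V hV
  have step1 : S.map (LinearMap.mulRight k E) = T.map (Psi r a) := by
    apply le_antisymm
    · rintro _ ⟨h, hhS, rfl⟩
      obtain ⟨G, hG, hrel⟩ := deg_backward r a b N D hN hD V hV n h hhS.1 hhS.2
      exact ⟨G, hG, hrel.symm⟩
    · rintro _ ⟨G, hGT, rfl⟩
      have : Psi r a G ∈ (degreeLT k (N + 1)).map (Psi r a) := Submodule.mem_map_of_mem (hTW hGT)
      rw [← hmapV] at this
      obtain ⟨h, hhV, hh⟩ := this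
      have hrel : h * EE r a = Psi r a G := hh
      exact ⟨h, ⟨hhV, deg_forward r a N n D hD h G hGT hrel⟩, hh⟩
  have hfS : Module.finrank k S = Module.finrank k (T.map (Psi r a)) := by
    rw [← step1]; exact (Submodule.equivMapOfInjective _ hinj S).finrank_eq
  have hrank := finrank_map_Psi r a hr b N hN T hTW
  have hfT : Module.finrank k T = N + 1 - n := by
    rw [hT, (degreeLTEquiv k _).finrank_eq, Module.finrank_fin_fun]
  have hEmem : E ∈ T ↔ n ≤ b := by
    rw [hT, mem_degreeLT, degree_eq_natDegree hEne, hE, natDegree_EE]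
    constructor
    · intro h1
      have : ∑ j, a j < N + 1 - n := by exact_mod_cast h1
      omega
    · intro h1
      exact_mod_cast (by omega : ∑ j, a j < N + 1 - n)
  rw [hfS]
  by_cases hle : n ≤ b
  · rw [if_pos hle]
    rw [if_pos (hEmem.mpr hle)] at hrank
    omega
  · rw [if_neg hle]
    rw [if_neg (fun h => hle (hEmem.mp h))] at hrank
    omega

theorem main17241 (hr : Function.Injective r) (b N d : ℕ)
    (hN : N = (∑ j, a j) + b) (hd : d + 1 = (∑ j, (a j + 1)) + b)
    (V : Submodule k k[X])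
    (hV : V = (degreeLT k b).map (LinearMap.mulLeft k (∏ j, (X - C (r j)) ^ (a j + 1))) ⊔
      ⨆ i, (degreeLT k (a i)).map
        (LinearMap.mulLeft k (∏ j ∈ Finset.univ.erase i, (X - C (r j)) ^ (a j + 1)))) :
    Module.finrank k ↥V = N ∧
    (∀ (i : Fin m) (n : ℕ), Module.finrank k ↥(V ⊓ (Ideal.span {(X - C (r i)) ^ n}).restrictScalars k) =
        if n ≤ a i then N - n else N + 1 - n) ∧
    (∀ n : ℕ, Module.finrank k ↥(V ⊓ degreeLT k (d + 1 - n)) =
        if n ≤ b then N - n else N + 1 - n) := by
  have hD : d + 1 = N + m := by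
    rw [hd, Finset.sum_add_distrib, hN]
    simp
    ring
  exact ⟨(finrank_V r a hr b N hN V hV).1, fun i n => finrank_marked r a hr b N hN V hV i n,
    fun n => finrank_infty r a hr b N (d + 1) hN hD V hV n⟩

end Deg

end Groth.Agent.Helper8.Polar
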