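import Groth.Agent.Helper8.PolarE

set_option autoImplicit false

namespace Groth.Agent.Helper8.Polar

open Polynomial

section Hyp
variable {K M : Type*} [Field K] [AddCommGroup M] [Module K M]

/-- intersecting a subspace with a hyperplane -/
theorem hyperplane_inf (V V₁ Y : Submodule K M) [FiniteDimensional K V]
    (hV₁ : V₁ ≤ V) (hfin : Module.finrank K V₁ + 1 = Module.finrank K V) (hY : Y ≤ V) :
    (Y ≤ V₁ → Module.finrank K ↥(V₁ ⊓ Y) = Module.finrank K Y) ∧
    (¬ Y ≤ V₁ → Module.finrank K ↥(V₁ ⊓ Y) + 1 = Module.finrank K Y) := by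
  have hfdV₁ : FiniteDimensional K V₁ := Submodule.finiteDimensional_of_le hV₁
  have hfdY : FiniteDimensional K Y := Submodule.finiteDimensional_of_le hY
  constructor
  · intro h
    rw [inf_eq_right.mpr h]
  · intro h
    have hle : V₁ ⊔ Y ≤ V := sup_le hV₁ hY
    have hfdS : FiniteDimensional K ↥(V₁ ⊔ Y) := Submodule.finiteDimensional_of_le hle
    have hlt : V₁ < V₁ ⊔ Y := left_lt_sup.mpr h
    have h1 := Submodule.finrank_lt_finrank_of_lt hlt
    have h2 := Submodule.finrank_mono hle
    have h3 := Submodule.finrank_sup_add_finrank_inf_eq V₁ Y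
    omega

theorem hyperplane_inf_bounds (V V₁ Y : Submodule K M) [FiniteDimensional K V]
    (hV₁ : V₁ ≤ V) (hfin : Module.finrank K V₁ + 1 = Module.finrank K V) (hY : Y ≤ V) :
    Module.finrank K ↥(V₁ ⊓ Y) ≤ Module.finrank K Y ∧
      Module.finrank K Y ≤ Module.finrank K ↥(V₁ ⊓ Y) + 1 := by
  obtain ⟨h1, h2⟩ := hyperplane_inf V V₁ Y hV₁ hfin hY
  by_cases h : Y ≤ V₁
  · have := h1 h; omega
  · have := h2 h; omega

end Hyp

section Arith

/-- the vanishing-dimension function of the system at a point with gap `a` -/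
def ff (N a n : ℕ) : ℕ := if n ≤ a then N - n else N + 1 - n

theorem choose_two_succ (n : ℕ) : (n + 1).choose 2 = n.choose 2 + n := by
  rw [Nat.choose_succ_succ', Nat.choose_one_right]; ring

/-- partial sums of `ff` -/
theorem sum_ff (N a : ℕ) (M : ℕ) (hM : M ≤ N) :
    (∑ n ∈ Finset.range M, ff N a (n + 1)) + min M a + (N - M + 1).choose 2 =
      (N + 1).choose 2 := by
  induction M with
  | zero => simp
  | succ M ih =>
    have ih' := ih (by omega)
    rw [Finset.sum_range_succ]
    have hc : (N - M + 1).choose 2 = (N - (M + 1) + 1).choose 2 + (N - (M + 1) + 1) := by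
      rw [show N - M + 1 = (N - (M + 1) + 1) + 1 by omega, choose_two_succ]
    by_cases h : M + 1 ≤ a
    · have hff : ff N a (M + 1) = N - (M + 1) := by unfold ff; rw [if_pos h]
      have : min (M + 1) a = min M a + 1 := by omega
      omega
    · have hff : ff N a (M + 1) = N + 1 - (M + 1) := by unfold ff; rw [if_neg h]
      have : min (M + 1) a = min M a := by omega
      omega

/-- pattern one: the hyperplane cuts every step of the flag except possibly the last -/
theorem flag_sum_P1 (N a d : ℕ) (y : ℕ → ℕ) (hN : 1 ≤ N)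
    (hcase : (a < N ∧ N ≤ d) ∨ (a = N ∧ d + 1 = N))
    (h1 : ∀ n, 1 ≤ n → n + 1 ≤ N → y n + 1 = ff N a n)
    (h2 : y N ≤ ff N a N) (h3 : ∀ n, N < n → y n = 0) :
    ∃ ε : ℕ, ε ≤ 1 ∧ (∑ n ∈ Finset.range d, y (n + 1)) + 1 = (N - 1).choose 2 + (N - a) + ε := by
  have hsf := sum_ff N a (N - 1) (by omega)
  rw [show N - (N - 1) + 1 = 2 by omega] at hsf
  have hpart : (∑ n ∈ Finset.range (N - 1), y (n + 1)) + (N - 1) =
      ∑ n ∈ Finset.range (N - 1), ff N a (n + 1) := by
    have : ∀ n ∈ Finset.range (N - 1), ff N a (n + 1) = y (n + 1) + 1 := by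
      intro n hn
      have := Finset.mem_range.mp hn
      exact (h1 (n + 1) (by omega) (by omega)).symm
    rw [Finset.sum_congr rfl this, Finset.sum_add_distrib]
    simp
  have hc1 : (N + 1).choose 2 = N.choose 2 + N := choose_two_succ N
  have hc2 : N.choose 2 = (N - 1).choose 2 + (N - 1) := by
    have := choose_two_succ (N - 1)
    rwa [show N - 1 + 1 = N by omega] at this
  have hc3 : (2 : ℕ).choose 2 = 1 := by decide
  rcases hcase with ⟨haN, hNd⟩ | ⟨haN, hdN⟩
  · -- split off the last terms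
    have hsplit : ∑ n ∈ Finset.range d, y (n + 1) =
        (∑ n ∈ Finset.range (N - 1), y (n + 1)) + y N := by
      have h4 : ∑ n ∈ Finset.range d, y (n + 1) = ∑ n ∈ Finset.range N, y (n + 1) := by
        symm
        refine Finset.sum_subset (Finset.range_mono hNd) fun n _ hn => ?_
        have : ¬ n < N := by simpa using hn
        exact h3 (n + 1) (by omega)
      rw [h4]
      conv_lhs => rw [show N = (N - 1) + 1 by omega, Finset.sum_range_succ]
      rw [show N - 1 + 1 = N by omega]
    have hyN : y N ≤ 1 := by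
      refine h2.trans ?_
      unfold ff
      rw [if_neg (by omega)]
      omega
    refine ⟨y N, hyN, ?_⟩
    have : min (N - 1) a = a := by omega
    omega
  · subst haN
    refine ⟨1, le_rfl, ?_⟩
    rw [show d = a - 1 by omega]
    have : min (a - 1) a = a - 1 := by omega
    omega

/-- pattern two: the hyperplane contains every step of the flag from the second on -/
theorem flag_sum_P2 (N a d : ℕ) (y : ℕ → ℕ) (hN : 1 ≤ N) (ha : 1 ≤ a)
    (hcase : (a < N ∧ N ≤ d) ∨ (a = N ∧ d + 1 = N))
    (h1 : ∀ n, 2 ≤ n → y n = ff N a n)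
    (h2 : y 1 ≤ ff N a 1 ∧ ff N a 1 ≤ y 1 + 1) :
    ∃ ε : ℕ, ε ≤ 1 ∧
      (∑ n ∈ Finset.range d, y (n + 1)) = (N - 1).choose 2 + (N - a) + (N - 2) + ε := by
  have hc1 : (N + 1).choose 2 = N.choose 2 + N := choose_two_succ N
  have hc2 : N.choose 2 = (N - 1).choose 2 + (N - 1) := by
    have := choose_two_succ (N - 1)
    rwa [show N - 1 + 1 = N by omega] at this
  have hc3 : (2 : ℕ).choose 2 = 1 := by decide
  have hf1 : ff N a 1 = N - 1 := by unfold ff; rw [if_pos ha]
  have hzero : ∀ n, N < n → ff N a n = 0 := by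
    intro n hn; unfold ff; split_ifs <;> omega
  -- general: for `1 ≤ d`, the sum is `y 1 + Σ_{1 ≤ n < d} ff (n+1)`
  have hgen : ∀ d', 1 ≤ d' → (∑ n ∈ Finset.range d', y (n + 1)) + ff N a 1 =
      y 1 + ∑ n ∈ Finset.range d', ff N a (n + 1) := by
    intro d' hd'
    obtain ⟨d'', rfl⟩ : ∃ d'', d' = d'' + 1 := ⟨d' - 1, by omega⟩
    rw [Finset.sum_range_succ', Finset.sum_range_succ' (fun n => ff N a (n + 1))]
    have : ∑ n ∈ Finset.range d'', y (n + 1 + 1) = ∑ n ∈ Finset.range d'', ff N a (n + 1 + 1) :=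
      Finset.sum_congr rfl fun n _ => h1 _ (by omega)
    rw [this]
    ring
  rcases hcase with ⟨haN, hNd⟩ | ⟨haN, hdN⟩
  · have hN2 : 2 ≤ N := by omega
    have h4 : ∑ n ∈ Finset.range d, ff N a (n + 1) = ∑ n ∈ Finset.range N, ff N a (n + 1) := by
      symm
      refine Finset.sum_subset (Finset.range_mono hNd) fun n _ hn => ?_
      have : ¬ n < N := by simpa using hn
      exact hzero (n + 1) (by omega)
    have hsf := sum_ff N a N le_rfl
    rw [show N - N + 1 = 1 by omega] at hsf
    have hc4 : (1 : ℕ).choose 2 = 0 := by decide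
    have hg := hgen d (by omega)
    rw [h4] at hg
    have : min N a = a := by omega
    refine ⟨y 1 + 1 - ff N a 1, by omega, ?_⟩
    omega
  · subst haN
    by_cases ha1 : a = 1
    · subst ha1
      have : d = 0 := by omega
      subst this
      exact ⟨0, by omega, by simp⟩
    · have hsf := sum_ff a a (a - 1) (by omega)
      rw [show a - (a - 1) + 1 = 2 by omega] at hsf
      have hg := hgen d (by omega)
      rw [show d = a - 1 by omega] at hg ⊢
      have : min (a - 1) a = a - 1 := by omega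
      refine ⟨y 1 + 1 - ff a a 1, by omega, ?_⟩
      omega

end Arith

end Groth.Agent.Helper8.Polar
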