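import Groth.Agent.Helper8.PolarF

set_option autoImplicit false

namespace Groth.Agent.Helper8.Polar

open Polynomial

section W
variable {k : Type*} [Field k] [CharZero k] {m : ℕ} (r : Fin m → k) (a : Fin m → ℕ)

/-- a numerator vanishing simply at `p` gives a member not vanishing at `p` -/
theorem eval_ne_of_rel (p : k) (hp : ∀ j, p ≠ r j) (h G : k[X])
    (hrel : h * EE r a = Psi r a G) (hG0 : G.eval p = 0) (hG1 : (derivative G).eval p ≠ 0) :
    h.eval p ≠ 0 := by
  intro h0
  have := congrArg (eval p) hrel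
  rw [Psi_apply, eval_mul, h0, zero_mul, eval_mul, eval_sub, eval_mul, eval_mul, hG0, zero_mul,
    sub_zero] at this
  exact mul_ne_zero (PP_eval_ne r p hp) (mul_ne_zero hG1 (EE_eval_ne r a p hp)) this.symm

theorem witness_marked (hr : Function.Injective r) (b N : ℕ) (hN : N = (∑ j, a j) + b)
    (V : Submodule k k[X])
    (hV : V = (degreeLT k b).map (LinearMap.mulLeft k (∏ j, (X - C (r j)) ^ (a j + 1))) ⊔
      ⨆ i, (degreeLT k (a i)).map
        (LinearMap.mulLeft k (∏ j ∈ Finset.univ.erase i, (X - C (r j)) ^ (a j + 1))))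
    (p : k) (hp : ∀ j, p ≠ r j) (i : Fin m) (n : ℕ) (hn : n + 1 ≤ N) :
    ∃ h ∈ V, (X - C (r i)) ^ n ∣ h ∧ h.eval p ≠ 0 := by
  set G : k[X] := (X - C (r i)) ^ n * (X - C p) with hG
  have hGd : G.natDegree ≤ N := by
    rw [hG, natDegree_mul (pow_ne_zero _ (X_sub_C_ne_zero _)) (X_sub_C_ne_zero _), natDegree_pow,
      natDegree_X_sub_C, natDegree_X_sub_C]
    omega
  have : Psi r a G ∈ (degreeLT k (N + 1)).map (Psi r a) :=
    Submodule.mem_map_of_mem (mem_degreeLT_succ_of_natDegree_le hGd)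
  rw [← map_V_eq r a hr b N hN V hV] at this
  obtain ⟨h, hhV, hh⟩ := this
  have hrel : h * EE r a = Psi r a G := hh
  refine ⟨h, hhV, marked_forward r a hr i n h G hrel (Dvd.intro _ rfl), ?_⟩
  refine eval_ne_of_rel r a p hp h G hrel (by simp [hG]) ?_
  rw [hG, derivative_mul, derivative_X_sub_C]
  simp only [eval_add, eval_mul, eval_sub, eval_X, eval_C, sub_self, mul_zero, zero_add, mul_one,
    eval_pow]
  exact pow_ne_zero _ (sub_ne_zero.mpr (hp i))

theorem witness_infty (hr : Function.Injective r) (b N D : ℕ) (hN : N = (∑ j, a j) + b)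
    (hD : D = N + m) (V : Submodule k k[X])
    (hV : V = (degreeLT k b).map (LinearMap.mulLeft k (∏ j, (X - C (r j)) ^ (a j + 1))) ⊔
      ⨆ i, (degreeLT k (a i)).map
        (LinearMap.mulLeft k (∏ j ∈ Finset.univ.erase i, (X - C (r j)) ^ (a j + 1))))
    (p : k) (hp : ∀ j, p ≠ r j) (n : ℕ) (hn : n + 1 ≤ N) :
    ∃ h ∈ V, h ∈ degreeLT k (D - n) ∧ h.eval p ≠ 0 := by
  set G : k[X] := X - C p with hG
  have hGmem : G ∈ degreeLT k (N + 1 - n) := by
    rw [show N + 1 - n = (N - n) + 1 by omega]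
    apply mem_degreeLT_succ_of_natDegree_le
    rw [hG, natDegree_X_sub_C]; omega
  have : Psi r a G ∈ (degreeLT k (N + 1)).map (Psi r a) :=
    Submodule.mem_map_of_mem (degreeLT_mono (by omega) hGmem)
  rw [← map_V_eq r a hr b N hN V hV] at this
  obtain ⟨h, hhV, hh⟩ := this
  have hrel : h * EE r a = Psi r a G := hh
  refine ⟨h, hhV, deg_forward r a N n D hD h G hGmem hrel, ?_⟩
  refine eval_ne_of_rel r a p hp h G hrel (by simp [hG]) ?_
  rw [hG, derivative_X_sub_C]
  simp

end W

section Main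
variable {k : Type*} [Field k] [CharZero k] {m : ℕ} (r : Fin m → k) (a : Fin m → ℕ)

theorem main17246 (hr : Function.Injective r) (ha : ∀ j, 1 ≤ a j) (b : ℕ) (hb : 1 ≤ b) (N d : ℕ)
    (hN : N = (∑ j, a j) + b) (hd : d + 1 = (∑ j, (a j + 1)) + b)
    (V : Submodule k k[X])
    (hV : V = (degreeLT k b).map (LinearMap.mulLeft k (∏ j, (X - C (r j)) ^ (a j + 1))) ⊔
      ⨆ i, (degreeLT k (a i)).map
        (LinearMap.mulLeft k (∏ j ∈ Finset.univ.erase i, (X - C (r j)) ^ (a j + 1))))
    (p : k) (hp : ∀ j, p ≠ r j) (V₁ : Submodule k k[X])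
    (hV₁ : V₁ = V ⊓ (Ideal.span {X - C p}).restrictScalars k) :
    (∀ i : Fin m, ∃ ε : ℕ, ε ≤ 1 ∧
      (∑ n ∈ Finset.range d, Module.finrank k ↥(V₁ ⊓ (Ideal.span {(X - C (r i)) ^ (n + 1)}).restrictScalars k)) + 1 =
        (N - 1).choose 2 + (N - a i) + ε) ∧
    (∃ ε : ℕ, ε ≤ 1 ∧
      (∑ n ∈ Finset.range d, Module.finrank k ↥(V₁ ⊓ degreeLT k (d - n))) + 1 =
        (N - 1).choose 2 + (N - b) + ε) := by
  obtain ⟨hfr, hfd⟩ := finrank_V r a hr b N hN V hV
  have hfV₁ := finrank_V₁ r a hr b hb N hN V hV p hp V₁ hV₁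
  have hV₁V : V₁ ≤ V := hV₁ ▸ inf_le_left
  have hfin : Module.finrank k V₁ + 1 = Module.finrank k V := by rw [hfr]; exact hfV₁
  have hD : d + 1 = N + m := by
    rw [hd, Finset.sum_add_distrib, hN]
    simp
    ring
  have hN1 : 1 ≤ N := by omega
  have hinf : ∀ Y : Submodule k k[X], V₁ ⊓ Y = V₁ ⊓ (V ⊓ Y) := by
    intro Y
    rw [← inf_assoc, inf_eq_left.mpr hV₁V]
  have hnotmem : ∀ h : k[X], h.eval p ≠ 0 → h ∉ V₁ := by
    intro h hne hmem
    have : h ∈ (Ideal.span {X - C p}).restrictScalars k := (hV₁ ▸ hmem : h ∈ V ⊓ _).2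
    exact hne (dvd_iff_isRoot.mp (Ideal.mem_span_singleton.mp this))
  constructor
  · intro i
    have hm : 1 ≤ m := Fin.pos i
    have hai : a i ≤ ∑ j, a j :=
      Finset.single_le_sum (fun j _ => Nat.zero_le (a j)) (Finset.mem_univ i)
    set y : ℕ → ℕ := fun n =>
      Module.finrank k ↥(V₁ ⊓ (Ideal.span {(X - C (r i)) ^ n}).restrictScalars k) with hy
    have hx : ∀ n, Module.finrank k
        ↥(V ⊓ (Ideal.span {(X - C (r i)) ^ n}).restrictScalars k) = ff N (a i) n :=
      fun n => finrank_marked r a hr b N hN V hV i n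
    have hbounds : ∀ n, y n ≤ ff N (a i) n := by
      intro n
      have := (hyperplane_inf_bounds V V₁ _ hV₁V hfin
        (inf_le_left : V ⊓ (Ideal.span {(X - C (r i)) ^ n}).restrictScalars k ≤ V)).1
      rw [← hinf, hx] at this
      exact this
    refine flag_sum_P1 N (a i) d y hN1 (Or.inl ⟨by omega, by omega⟩) ?_ (hbounds N) ?_
    · intro n hn1 hn2
      obtain ⟨h, hhV, hdvd, hne⟩ := witness_marked r a hr b N hN V hV p hp i n hn2
      have hnot : ¬ (V ⊓ (Ideal.span {(X - C (r i)) ^ n}).restrictScalars k ≤ V₁) := by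
        intro hle
        exact hnotmem h hne (hle ⟨hhV, Ideal.mem_span_singleton.mpr hdvd⟩)
      have := (hyperplane_inf V V₁ _ hV₁V hfin
        (inf_le_left : V ⊓ (Ideal.span {(X - C (r i)) ^ n}).restrictScalars k ≤ V)).2 hnot
      rw [← hinf, hx] at this
      exact this
    · intro n hn
      have := hbounds n
      have h0 : ff N (a i) n = 0 := by unfold ff; split_ifs <;> omega
      omega
  · set y : ℕ → ℕ := fun n => Module.finrank k ↥(V₁ ⊓ degreeLT k (d + 1 - n)) with hy
    have hx : ∀ n, Module.finrank k ↥(V ⊓ degreeLT k (d + 1 - n)) = ff N b n :=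
      fun n => finrank_infty r a hr b N (d + 1) hN hD V hV n
    have hbounds : ∀ n, y n ≤ ff N b n := by
      intro n
      have := (hyperplane_inf_bounds V V₁ _ hV₁V hfin
        (inf_le_left : V ⊓ degreeLT k (d + 1 - n) ≤ V)).1
      rw [← hinf, hx] at this
      exact this
    have hsum : ∑ n ∈ Finset.range d, Module.finrank k ↥(V₁ ⊓ degreeLT k (d - n)) =
        ∑ n ∈ Finset.range d, y (n + 1) := by
      refine Finset.sum_congr rfl fun n _ => ?_
      rw [hy]
      simp only
      rw [show d + 1 - (n + 1) = d - n by omega]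
    rw [hsum]
    have hcase : (b < N ∧ N ≤ d) ∨ (b = N ∧ d + 1 = N) := by
      rcases Nat.eq_zero_or_pos m with hm0 | hm0
      · right
        subst hm0
        simp at hN
        omega
      · left
        have : 1 ≤ ∑ j, a j := by
          have := Finset.single_le_sum (fun j _ => Nat.zero_le (a j))
            (Finset.mem_univ (⟨0, hm0⟩ : Fin m))
          have := ha ⟨0, hm0⟩
          omega
        omega
    refine flag_sum_P1 N b d y hN1 hcase ?_ (hbounds N) ?_
    · intro n hn1 hn2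
      obtain ⟨h, hhV, hdeg, hne⟩ := witness_infty r a hr b N (d + 1) hN hD V hV p hp n hn2
      have hnot : ¬ (V ⊓ degreeLT k (d + 1 - n) ≤ V₁) := by
        intro hle
        exact hnotmem h hne (hle ⟨hhV, hdeg⟩)
      have := (hyperplane_inf V V₁ _ hV₁V hfin
        (inf_le_left : V ⊓ degreeLT k (d + 1 - n) ≤ V)).2 hnot
      rw [← hinf, hx] at this
      exact this
    · intro n hn
      have := hbounds n
      have h0 : ff N b n = 0 := by unfold ff; split_ifs <;> omega
      omega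

end Main

end Groth.Agent.Helper8.Polar
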