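import Groth.Agent.Helper8.PolarG

set_option autoImplicit false

namespace Groth.Agent.Helper8.Polar

open Polynomial

section Main
variable {k : Type*} [Field k] [CharZero k] {m : ℕ} (r : Fin m → k) (a : Fin m → ℕ)

/-- membership in `HH` from membership of the corresponding `h` in `V₁` -/
theorem mem_HH_of_forall (hr : Function.Injective r) (b N : ℕ) (hN : N = (∑ j, a j) + b)
    (V : Submodule k k[X])
    (hV : V = (degreeLT k b).map (LinearMap.mulLeft k (∏ j, (X - C (r j)) ^ (a j + 1))) ⊔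
      ⨆ i, (degreeLT k (a i)).map
        (LinearMap.mulLeft k (∏ j ∈ Finset.univ.erase i, (X - C (r j)) ^ (a j + 1))))
    (V₁ : Submodule k k[X]) (i : Fin m) (n : ℕ)
    (hle : V ⊓ (Ideal.span {(X - C (r i)) ^ n}).restrictScalars k ≤ V₁)
    (t : k[X]) (ht : t ∈ degreeLT k (N + 1)) (hdvd : (X - C (r i)) ^ n ∣ t) :
    t ∈ HH r a V₁ N := by
  refine ⟨ht, ?_⟩
  have : Psi r a t ∈ (degreeLT k (N + 1)).map (Psi r a) := Submodule.mem_map_of_mem ht
  rw [← map_V_eq r a hr b N hN V hV] at this
  obtain ⟨h, hhV, hh⟩ := this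
  have hrel : h * EE r a = Psi r a t := hh
  have hd := marked_forward r a hr i n h t hrel hdvd
  exact ⟨h, hle ⟨hhV, Ideal.mem_span_singleton.mpr hd⟩, hh⟩

theorem main17244 (hr : Function.Injective r) (ha : ∀ j, 1 ≤ a j) (b : ℕ) (hb : 1 ≤ b) (N d : ℕ)
    (hN : N = (∑ j, a j) + b) (hd : d + 1 = (∑ j, (a j + 1)) + b)
    (V : Submodule k k[X])
    (hV : V = (degreeLT k b).map (LinearMap.mulLeft k (∏ j, (X - C (r j)) ^ (a j + 1))) ⊔
      ⨆ i, (degreeLT k (a i)).map
        (LinearMap.mulLeft k (∏ j ∈ Finset.univ.erase i, (X - C (r j)) ^ (a j + 1))))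
    (V₁ : Submodule k k[X]) (hV₁V : V₁ ≤ V) (hfV₁ : Module.finrank k ↥V₁ + 1 = N)
    (hU : (degreeLT k (b - 2)).map (LinearMap.mulLeft k (∏ j, (X - C (r j)) ^ (a j + 1))) ⊔
      (⨆ i, (degreeLT k (a i)).map
        (LinearMap.mulLeft k (∏ j ∈ Finset.univ.erase i, (X - C (r j)) ^ (a j + 1)))) ≤ V₁) :
    (∀ i : Fin m, ∃ ε : ℕ, ε ≤ 1 ∧
      (∑ n ∈ Finset.range d, Module.finrank k ↥(V₁ ⊓ (Ideal.span {(X - C (r i)) ^ (n + 1)}).restrictScalars k)) + 1 =
        (N - 1).choose 2 + (N - a i) + ε) ∧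
    (∃ ε : ℕ, ε ≤ 1 ∧
      (∑ n ∈ Finset.range d, Module.finrank k ↥(V₁ ⊓ degreeLT k (d - n))) =
        (N - 1).choose 2 + (N - b) + (N - 2) + ε) := by
  obtain ⟨hfr, hfd⟩ := finrank_V r a hr b N hN V hV
  have hfin : Module.finrank k V₁ + 1 = Module.finrank k V := by rw [hfr]; exact hfV₁
  have hD : d + 1 = N + m := by
    rw [hd, Finset.sum_add_distrib, hN]
    simp
    ring
  have hN1 : 1 ≤ N := by omega
  have hEne : EE r a ≠ 0 := EE_ne_zero r a
  have hinf : ∀ Y : Submodule k k[X], V₁ ⊓ Y = V₁ ⊓ (V ⊓ Y) := by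
    intro Y
    rw [← inf_assoc, inf_eq_left.mpr hV₁V]
  have hlow := HH_low r a hr b hb N hN V₁ hU
  have hne := HH_ne r a hr b N hN V hV V₁ hV₁V hfV₁
  constructor
  · intro i
    have hm : 1 ≤ m := Fin.pos i
    have hai : a i ≤ ∑ j, a j :=
      Finset.single_le_sum (fun j _ => Nat.zero_le (a j)) (Finset.mem_univ i)
    set w : k[X] := X - C (r i) with hw
    set y : ℕ → ℕ := fun n =>
      Module.finrank k ↥(V₁ ⊓ (Ideal.span {w ^ n}).restrictScalars k) with hy
    have hx : ∀ n, Module.finrank k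
        ↥(V ⊓ (Ideal.span {w ^ n}).restrictScalars k) = ff N (a i) n :=
      fun n => finrank_marked r a hr b N hN V hV i n
    have hbounds : ∀ n, y n ≤ ff N (a i) n := by
      intro n
      have := (hyperplane_inf_bounds V V₁ _ hV₁V hfin
        (inf_le_left : V ⊓ (Ideal.span {w ^ n}).restrictScalars k ≤ V)).1
      rw [← hinf, hx] at this
      exact this
    refine flag_sum_P1 N (a i) d y hN1 (Or.inl ⟨by omega, by omega⟩) ?_ (hbounds N) ?_
    · intro n hn1 hn2
      have hnot : ¬ (V ⊓ (Ideal.span {w ^ n}).restrictScalars k ≤ V₁) := by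
        intro hle
        have hwm : (w ^ n).Monic := (monic_X_sub_C (r i)).pow n
        have hwd : (w ^ n).natDegree = n := by rw [natDegree_pow, natDegree_X_sub_C, mul_one]
        set t₁ : k[X] := w ^ n * X ^ (N - 1 - n) with ht₁
        set t₂ : k[X] := w ^ n * X ^ (N - n) with ht₂
        have hm₁ : t₁.Monic := hwm.mul (monic_X_pow _)
        have hm₂ : t₂.Monic := hwm.mul (monic_X_pow _)
        have hd₁ : t₁.natDegree = N - 1 := by
          rw [ht₁, hwm.natDegree_mul (monic_X_pow _), hwd, natDegree_X_pow]; omega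
        have hd₂ : t₂.natDegree = N := by
          rw [ht₂, hwm.natDegree_mul (monic_X_pow _), hwd, natDegree_X_pow]; omega
        have hmem₁ : t₁ ∈ degreeLT k N := by
          have := mem_degreeLT_succ_of_natDegree_le (k := k) hd₁.le
          rwa [show N - 1 + 1 = N by omega] at this
        have hmem₂ : t₂ ∈ degreeLT k (N + 1) := mem_degreeLT_succ_of_natDegree_le hd₂.le
        have hH₁ := mem_HH_of_forall r a hr b N hN V hV V₁ i n hle t₁
          (degreeLT_mono (Nat.le_succ N) hmem₁) (Dvd.intro _ rfl)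
        have hH₂ := mem_HH_of_forall r a hr b N hN V hV V₁ i n hle t₂ hmem₂ (Dvd.intro _ rfl)
        refine hne (span_top (HH r a V₁ N) N hN1 hlow t₁ t₂ hH₁ hH₂ hmem₁ hmem₂ ?_ ?_)
        · have := hm₁.coeff_natDegree
          rw [hd₁] at this
          rw [this]; exact one_ne_zero
        · have := hm₂.coeff_natDegree
          rw [hd₂] at this
          rw [this]; exact one_ne_zero
      have := (hyperplane_inf V V₁ _ hV₁V hfin
        (inf_le_left : V ⊓ (Ideal.span {w ^ n}).restrictScalars k ≤ V)).2 hnot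
      rw [← hinf, hx] at this
      exact this
    · intro n hn
      have := hbounds n
      have h0 : ff N (a i) n = 0 := by unfold ff; split_ifs <;> omega
      omega
  · set y : ℕ → ℕ := fun n => Module.finrank k ↥(V₁ ⊓ degreeLT k (d + 1 - n)) with hy
    have hx : ∀ n, Module.finrank k ↥(V ⊓ degreeLT k (d + 1 - n)) = ff N b n :=
      fun n => finrank_infty r a hr b N (d + 1) hN hD V hV n
    have hsum : ∑ n ∈ Finset.range d, Module.finrank k ↥(V₁ ⊓ degreeLT k (d - n)) =
        ∑ n ∈ Finset.range d, y (n + 1) := by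
      refine Finset.sum_congr rfl fun n _ => ?_
      rw [hy]
      simp only
      rw [show d + 1 - (n + 1) = d - n by omega]
    rw [hsum]
    have hcase : (b < N ∧ N ≤ d) ∨ (b = N ∧ d + 1 = N) := by
      rcases Nat.eq_zero_or_pos m with hm0 | hm0
      · right
        subst hm0
        simp at hN
        omega
      · left
        have : 1 ≤ ∑ j, a j := by
          have := Finset.single_le_sum (fun j _ => Nat.zero_le (a j))
            (Finset.mem_univ (⟨0, hm0⟩ : Fin m))
          have := ha ⟨0, hm0⟩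
          omega
        omega
    refine flag_sum_P2 N b d y hN1 hb hcase ?_ ?_
    · intro n hn
      have hle : V ⊓ degreeLT k (d + 1 - n) ≤ V₁ := by
        rintro h ⟨hhV, hhdeg⟩
        obtain ⟨G, hG, hrel⟩ := deg_backward r a b N (d + 1) hN hD V hV n h hhV hhdeg
        have hGH : G ∈ HH r a V₁ N := hlow (degreeLT_mono (by omega) hG)
        obtain ⟨h', hh'V₁, hh'⟩ := hGH.2
        have : h' * EE r a = h * EE r a := by rw [hrel]; exact hh'
        have := mul_right_cancel₀ hEne this
        exact this ▸ hh'V₁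
      have := (hyperplane_inf V V₁ _ hV₁V hfin
        (inf_le_left : V ⊓ degreeLT k (d + 1 - n) ≤ V)).1 hle
      rw [← hinf, hx] at this
      exact this
    · have := hyperplane_inf_bounds V V₁ _ hV₁V hfin
        (inf_le_left : V ⊓ degreeLT k (d + 1 - 1) ≤ V)
      rw [← hinf, hx] at this
      exact this

end Main

end Groth.Agent.Helper8.Polar
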