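import Mathlib

set_option autoImplicit false
universe u v

namespace Groth.Agent.Helper8.PolyLiftResc

open Polynomial

section lemmas
variable {R : Type*} {L : Type*} [CommRing R] [CommRing L] [Algebra R L] (r : R)
  [IsLocalization.Away r L]

theorem aeval_coeff {S : Type*} [CommRing S] (c : S) (p : S[X]) (j : ℕ) :
    ((aeval (C c * X) : S[X] →ₐ[S] S[X]) p).coeff j = p.coeff j * c ^ j := by
  have : (aeval (C c * X) : S[X] →ₐ[S] S[X]) p = p.comp (C c * X) := rfl
  rw [this, comp_C_mul_X_coeff]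

include r in
theorem liftCoeffs (p : L[X]) (a : R) (ha : algebraMap R L a = p.coeff 0) :
    ∃ n₀ : ℕ, ∀ n, n₀ ≤ n → ∃ q : R[X],
      q.map (algebraMap R L) = (aeval (C (algebraMap R L (r ^ n)) * X) : L[X] →ₐ[L] L[X]) p ∧
      q.coeff 0 = a := by
  classical
  have h : ∀ j : ℕ, ∃ e : ℕ, ∃ w : R, p.coeff j * algebraMap R L r ^ e = algebraMap R L w :=
    fun j => IsLocalization.Away.surj r (p.coeff j)
  choose e w hw using h
  refine ⟨p.support.sup e, fun n hn => ?_⟩
  set cf : ℕ → R := fun j => if j = 0 then a else if j ∈ p.support then w j * r ^ (n * j - e j) else 0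
    with hcf
  set q : R[X] := ∑ j ∈ insert 0 p.support, monomial j (cf j) with hq
  have hqc : ∀ j, q.coeff j = cf j := by
    intro j
    rw [hq, finset_sum_coeff]
    simp only [coeff_monomial]
    rw [Finset.sum_ite_eq']
    split_ifs with hj
    · rfl
    · rw [Finset.mem_insert, not_or] at hj
      simp only [hcf]
      rw [if_neg hj.1, if_neg hj.2]
  refine ⟨q, ?_, ?_⟩
  · ext j
    rw [coeff_map, hqc, aeval_coeff]
    simp only [hcf]
    by_cases hj0 : j = 0
    · rw [if_pos hj0, hj0, pow_zero, mul_one, ha]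
    · rw [if_neg hj0]
      by_cases hjs : j ∈ p.support
      · rw [if_pos hjs]
        have hle : e j ≤ n * j := by
          have h1 : e j ≤ n := le_trans (Finset.le_sup hjs) hn
          have h2 : 1 ≤ j := Nat.one_le_iff_ne_zero.mpr hj0
          calc e j ≤ n := h1
            _ = n * 1 := (mul_one n).symm
            _ ≤ n * j := Nat.mul_le_mul_left n h2
        rw [map_mul, ← hw, map_pow, map_pow, mul_assoc, ← pow_add, ← pow_mul,
          Nat.add_sub_cancel' hle]
      · rw [if_neg hjs, map_zero]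
        rw [mem_support_iff, not_not] at hjs
        rw [hjs, zero_mul]
  · rw [hqc]
    simp only [hcf]
    simp

include r in
theorem torsion (g : R[X]) (hg : g.map (algebraMap R L) = 0) :
    ∃ M : ℕ, ∀ j, r ^ M * g.coeff j = 0 := by
  classical
  have h : ∀ j : ℕ, ∃ m : ℕ, r ^ m * g.coeff j = 0 := by
    intro j
    have h0 : algebraMap R L (g.coeff j) = 0 := by
      rw [← coeff_map, hg, coeff_zero]
    obtain ⟨⟨_, m, rfl⟩, hm⟩ := (IsLocalization.map_eq_zero_iff (Submonoid.powers r) L _).mp h0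
    exact ⟨m, hm⟩
  choose m hm using h
  refine ⟨g.support.sup m, fun j => ?_⟩
  by_cases hjs : j ∈ g.support
  · have : m j ≤ g.support.sup m := Finset.le_sup hjs
    obtain ⟨d, hd⟩ := Nat.exists_eq_add_of_le this
    rw [hd, pow_add, mul_comm (r ^ m j), mul_assoc, hm, mul_zero]
  · rw [mem_support_iff, not_not] at hjs
    rw [hjs, mul_zero]

theorem scale_eq_zero (g : R[X]) (M k : ℕ) (hk : M ≤ k) (hM : ∀ j, r ^ M * g.coeff j = 0)
    (h0 : g.coeff 0 = 0) : (aeval (C (r ^ k) * X) : R[X] →ₐ[R] R[X]) g = 0 := by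
  ext j
  rw [aeval_coeff, coeff_zero]
  by_cases hj0 : j = 0
  · rw [hj0, h0, zero_mul]
  · have h2 : 1 ≤ j := Nat.one_le_iff_ne_zero.mpr hj0
    have hle : M ≤ k * j := le_trans hk (by
      calc k = k * 1 := (mul_one k).symm
        _ ≤ k * j := Nat.mul_le_mul_left k h2)
    obtain ⟨d, hd⟩ := Nat.exists_eq_add_of_le hle
    rw [← pow_mul, hd, pow_add, mul_comm (g.coeff j), mul_comm (r ^ M), mul_assoc, hM, mul_zero]

end lemmas

theorem main
    (R : Type u) (B : Type v) [CommRing R] [CommRing B] [Algebra R B]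
    [Algebra.FinitePresentation R B] (r : R)
    (x : B →ₐ[R] Polynomial (Localization.Away r))
    (x₀ : B →ₐ[R] R)
    (hx₀ : (algebraMap R (Localization.Away r)).comp x₀.toRingHom =
      (Polynomial.evalRingHom 0).comp x.toRingHom) :
    ∃ N : ℕ, ∀ n : ℕ, N ≤ n →
      ∃ y : B →ₐ[R] Polynomial R,
        (Polynomial.evalRingHom 0).comp y.toRingHom = x₀.toRingHom ∧
        (Polynomial.mapRingHom (algebraMap R (Localization.Away r))).comp y.toRingHom =
          (Polynomial.aeval (Polynomial.C (algebraMap R (Localization.Away r) (r ^ n)) * Polynomial.X) :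
              Polynomial (Localization.Away r) →ₐ[Localization.Away r] Polynomial (Localization.Away r)).toRingHom.comp
            x.toRingHom := by
  classical
  set L := Localization.Away r with hL
  obtain ⟨m, π, hπ, hfg⟩ := Algebra.FinitePresentation.out (R := R) (A := B)
  obtain ⟨S, hS⟩ := hfg
  -- step A
  have hA : ∀ i : Fin m, ∃ n₀ : ℕ, ∀ n, n₀ ≤ n → ∃ q : R[X],
      q.map (algebraMap R L) = (aeval (C (algebraMap R L (r ^ n)) * X) : L[X] →ₐ[L] L[X])
        (x (π (MvPolynomial.X i))) ∧ q.coeff 0 = x₀ (π (MvPolynomial.X i)) := by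
    intro i
    apply liftCoeffs r
    have := RingHom.congr_fun hx₀ (π (MvPolynomial.X i))
    rw [coeff_zero_eq_eval_zero]
    exact this
  choose n₀i hn₀i using hA
  set n₀ := Finset.univ.sup n₀i with hn₀
  have hA' : ∀ i : Fin m, ∃ q : R[X],
      q.map (algebraMap R L) = (aeval (C (algebraMap R L (r ^ n₀)) * X) : L[X] →ₐ[L] L[X])
        (x (π (MvPolynomial.X i))) ∧ q.coeff 0 = x₀ (π (MvPolynomial.X i)) :=
    fun i => hn₀i i n₀ (Finset.le_sup (Finset.mem_univ i))
  choose q hq1 hq2 using hA'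
  let Y₀ : MvPolynomial (Fin m) R →ₐ[R] R[X] := MvPolynomial.aeval q
  -- two ring hom identities for Y₀
  have hY₀map : (Polynomial.mapRingHom (algebraMap R L)).comp Y₀.toRingHom =
      ((aeval (C (algebraMap R L (r ^ n₀)) * X) : L[X] →ₐ[L] L[X]).toRingHom.comp x.toRingHom).comp
        π.toRingHom := by
    apply MvPolynomial.ringHom_ext
    · intro c
      simp only [RingHom.coe_comp, Function.comp_apply, AlgHom.toRingHom_eq_coe, RingHom.coe_coe,
        MvPolynomial.algHom_C, AlgHom.commutes, coe_mapRingHom]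
      rw [Polynomial.algebraMap_apply, Polynomial.algebraMap_apply, map_C, aeval_C]
      rfl
    · intro i
      simp only [RingHom.coe_comp, Function.comp_apply, AlgHom.toRingHom_eq_coe, RingHom.coe_coe,
        coe_mapRingHom]
      rw [← hq1 i]
      simp [Y₀]
  have hY₀ev : (Polynomial.evalRingHom 0).comp Y₀.toRingHom = x₀.toRingHom.comp π.toRingHom := by
    apply MvPolynomial.ringHom_ext
    · intro c
      simp [Y₀]
    · intro i
      simp only [RingHom.coe_comp, Function.comp_apply, AlgHom.toRingHom_eq_coe, RingHom.coe_coe,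
        coe_evalRingHom]
      rw [← hq2 i, coeff_zero_eq_eval_zero]
      simp [Y₀]
  have hker : ∀ g ∈ RingHom.ker π.toRingHom, (Y₀ g).map (algebraMap R L) = 0 ∧ (Y₀ g).coeff 0 = 0 := by
    intro g hg
    have hg' : π g = 0 := hg
    constructor
    · have := RingHom.congr_fun hY₀map g
      simp only [RingHom.coe_comp, Function.comp_apply, AlgHom.toRingHom_eq_coe, RingHom.coe_coe,
        coe_mapRingHom] at this
      rw [this, hg', map_zero, map_zero]
    · have := RingHom.congr_fun hY₀ev g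
      simp only [RingHom.coe_comp, Function.comp_apply, AlgHom.toRingHom_eq_coe, RingHom.coe_coe,
        coe_evalRingHom] at this
      rw [coeff_zero_eq_eval_zero, this, hg', map_zero]
  have hSker : ∀ g ∈ S, g ∈ RingHom.ker π.toRingHom := by
    intro g hg
    have : g ∈ Ideal.span (S : Set (MvPolynomial (Fin m) R)) := Ideal.subset_span hg
    rw [hS] at this
    exact this
  have hB : ∀ g : MvPolynomial (Fin m) R, ∃ M : ℕ, g ∈ S → ∀ j, r ^ M * (Y₀ g).coeff j = 0 := by
    intro g
    by_cases hg : g ∈ S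
    · obtain ⟨M, hM⟩ := torsion (L := L) r (Y₀ g) (hker g (hSker g hg)).1
      exact ⟨M, fun _ => hM⟩
    · exact ⟨0, fun h => absurd h hg⟩
  choose Mg hMg using hB
  set M := S.sup Mg with hM
  refine ⟨n₀ + M, fun n hn => ?_⟩
  obtain ⟨k, hk⟩ := Nat.exists_eq_add_of_le hn
  have hMk : M ≤ M + k := Nat.le_add_right M k
  let sc : R[X] →ₐ[R] R[X] := aeval (C (r ^ (M + k)) * X)
  let Y : MvPolynomial (Fin m) R →ₐ[R] R[X] := sc.comp Y₀
  have hYker : RingHom.ker π.toRingHom ≤ RingHom.ker Y.toRingHom := by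
    have h1 : RingHom.ker π.toRingHom = Ideal.span (S : Set (MvPolynomial (Fin m) R)) := hS.symm
    rw [h1, Ideal.span_le]
    intro g hg
    show Y g = 0
    show sc (Y₀ g) = 0
    apply scale_eq_zero r (Y₀ g) (Mg g) (M + k) (le_trans (Finset.le_sup hg) hMk) (hMg g hg)
    exact (hker g (hSker g hg)).2
  let y : B →ₐ[R] R[X] := AlgHom.liftOfSurjective π hπ Y hYker
  have hyπ : ∀ g, y (π g) = Y g := fun g => AlgHom.liftOfSurjective_apply π hπ Y hYker g
  refine ⟨y, ?_, ?_⟩
  · apply RingHom.ext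
    intro b
    obtain ⟨g, rfl⟩ := hπ b
    simp only [RingHom.coe_comp, Function.comp_apply, AlgHom.toRingHom_eq_coe, RingHom.coe_coe,
      coe_evalRingHom]
    rw [hyπ]
    show eval 0 (sc (Y₀ g)) = _
    have h1 : eval 0 (sc (Y₀ g)) = eval 0 (Y₀ g) := by
      rw [← coeff_zero_eq_eval_zero, ← coeff_zero_eq_eval_zero, aeval_coeff, pow_zero, mul_one]
    rw [h1]
    have := RingHom.congr_fun hY₀ev g
    simpa using this
  · apply RingHom.ext
    intro b
    obtain ⟨g, rfl⟩ := hπ b
    simp only [RingHom.coe_comp, Function.comp_apply, AlgHom.toRingHom_eq_coe, RingHom.coe_coe,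
      coe_mapRingHom]
    rw [hyπ]
    show (sc (Y₀ g)).map (algebraMap R L) = _
    have h2 := RingHom.congr_fun hY₀map g
    simp only [RingHom.coe_comp, Function.comp_apply, AlgHom.toRingHom_eq_coe, RingHom.coe_coe,
      coe_mapRingHom] at h2
    ext j
    rw [coeff_map, aeval_coeff, aeval_coeff, map_mul, ← coeff_map, h2, aeval_coeff, hk,
      map_pow, map_pow, map_pow, map_pow]
    rw [mul_assoc, ← pow_mul, ← pow_mul, ← pow_mul, ← pow_add]
    congr 2
    ring

end Groth.Agent.Helper8.PolyLiftResc
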