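import Mathlib
import Groth.Prelude.Def_W4c5spincurvestfNode

set_option autoImplicit false
universe u

namespace Groth.Agent.Helper8.PolyNode

open MvPolynomial

/-- exponent vector -/
noncomputable def ex (i j : ℕ) : Fin 2 →₀ ℕ := Finsupp.single 0 i + Finsupp.single 1 j

@[simp] theorem ex_zero (i j : ℕ) : ex i j 0 = i := by simp [ex]
@[simp] theorem ex_one (i j : ℕ) : ex i j 1 = j := by simp [ex]

theorem eq_ex (m : Fin 2 →₀ ℕ) : m = ex (m 0) (m 1) := by
  ext k
  fin_cases k <;> simp

theorem ex_inj {i j i' j' : ℕ} (h : ex i j = ex i' j') : i = i' ∧ j = j' := by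
  have h0 := DFunLike.congr_fun h 0
  have h1 := DFunLike.congr_fun h 1
  simp only [ex_zero, ex_one] at h0 h1
  exact ⟨h0, h1⟩

theorem ex_add (i j i' j' : ℕ) : ex i j + ex i' j' = ex (i + i') (j + j') := by
  ext k
  fin_cases k <;> simp

/-- the standard exponent of an integer -/
noncomputable def eZ (k : ℤ) : Fin 2 →₀ ℕ := if 0 ≤ k then ex k.toNat 0 else ex 0 (-k).toNat

theorem eZ_injective : Function.Injective eZ := by
  intro k k' h
  unfold eZ at h
  split_ifs at h with h1 h2 h2
  · have := (ex_inj h).1; omega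
  · have := ex_inj h; omega
  · have := ex_inj h; omega
  · have := (ex_inj h).2; omega

theorem eZ_std (k : ℤ) : eZ k 0 = 0 ∨ eZ k 1 = 0 := by
  unfold eZ
  split_ifs
  · right; simp
  · left; simp

theorem exists_eZ (m : Fin 2 →₀ ℕ) (h : m 0 = 0 ∨ m 1 = 0) : ∃ k, eZ k = m := by
  obtain ⟨a, b, rfl⟩ : ∃ a b, m = ex a b := ⟨m 0, m 1, eq_ex m⟩
  simp only [ex_zero, ex_one] at h
  rcases h with rfl | rfl
  · by_cases h1 : b = 0
    · subst h1
      exact ⟨0, by simp [eZ]⟩
    · refine ⟨-(b : ℤ), ?_⟩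
      unfold eZ
      rw [if_neg (by omega)]
      congr 1
      omega
  · refine ⟨(a : ℤ), ?_⟩
    unfold eZ
    rw [if_pos (by omega)]
    congr 1

variable (R : Type u) [CommRing R] (π : R)

/-- the relation -/
noncomputable abbrev rel : MvPolynomial (Fin 2) R := X 0 * X 1 - C π

theorem rel_eq : rel R π = monomial (ex 1 1) 1 - monomial 0 π := by
  unfold rel
  rw [X, X, monomial_mul, mul_one, C_apply]
  rfl

theorem exists_coeff_ne_zero (g : MvPolynomial (Fin 2) R) (hg : g ≠ 0) :
    ∃ m : Fin 2 →₀ ℕ, 1 ≤ m 0 ∧ 1 ≤ m 1 ∧ coeff m (g * rel R π) ≠ 0 := by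
  have hne : g.support.Nonempty := by
    rw [Finset.nonempty_iff_ne_empty, Ne, MvPolynomial.support_eq_empty]
    exact hg
  obtain ⟨m₀, hm₀, hmax⟩ := Finset.exists_max_image g.support (fun m => m 0 + m 1) hne
  have hz : ∀ m : Fin 2 →₀ ℕ, m₀ 0 + m₀ 1 < m 0 + m 1 → coeff m g = 0 := by
    intro m hm
    by_contra h
    exact absurd (hmax m (mem_support_iff.2 h)) (not_le.2 hm)
  refine ⟨m₀ + ex 1 1, ?_, ?_, ?_⟩
  · rw [Finsupp.add_apply, ex_zero]; omega
  · rw [Finsupp.add_apply, ex_one]; omega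
  · rw [rel_eq, mul_sub, coeff_sub, coeff_mul_monomial, mul_one]
    have : coeff (m₀ + ex 1 1) (g * monomial 0 π) = 0 := by
      have h0 : m₀ + ex 1 1 = (m₀ + ex 1 1) + 0 := (add_zero _).symm
      rw [h0, coeff_mul_monomial, hz, zero_mul]
      rw [Finsupp.add_apply, Finsupp.add_apply, ex_zero, ex_one]
      omega
    rw [this, sub_zero]
    exact mem_support_iff.1 hm₀

/-- class of a monomial -/
noncomputable def mkm (m : Fin 2 →₀ ℕ) : SpinCurv.PolyNodeRing R π :=
  Ideal.Quotient.mk _ (monomial m 1)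

/-- basis vectors -/
noncomputable def bvec (k : ℤ) : SpinCurv.PolyNodeRing R π := mkm R π (eZ k)

theorem bvec_nonneg (k : ℤ) (hk : 0 ≤ k) : bvec R π k = SpinCurv.PolyNodeRing.x R π ^ k.toNat := by
  unfold bvec mkm eZ
  rw [if_pos hk, ← map_pow, X_pow_eq_monomial]
  congr 2
  simp [ex]

theorem bvec_neg (k : ℤ) (hk : k < 0) : bvec R π k = SpinCurv.PolyNodeRing.y R π ^ (-k).toNat := by
  unfold bvec mkm eZ
  rw [if_neg (not_le.2 hk), ← map_pow, X_pow_eq_monomial]
  congr 2
  simp [ex]

theorem smul_mk (r : R) (p : MvPolynomial (Fin 2) R) :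
    r • (Ideal.Quotient.mk (Ideal.span {rel R π}) p) =
      Ideal.Quotient.mk (Ideal.span {rel R π}) (C r * p) := by
  rw [← smul_eq_C_mul]
  rfl

theorem mk_XY : Ideal.Quotient.mk (Ideal.span {rel R π}) (X 0 * X 1) =
    Ideal.Quotient.mk (Ideal.span {rel R π}) (C π) := by
  rw [Ideal.Quotient.eq]
  exact Ideal.subset_span rfl

theorem all_mem (n : ℕ) : ∀ (m : Fin 2 →₀ ℕ) (r : R), m 0 + m 1 = n →
    Ideal.Quotient.mk (Ideal.span {rel R π}) (monomial m r) ∈
      Submodule.span R (Set.range (bvec R π)) := by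
  induction n using Nat.strong_induction_on with
  | _ n ih =>
    intro m r hm
    by_cases h : m 0 = 0 ∨ m 1 = 0
    · obtain ⟨k, hk⟩ := exists_eZ m h
      have : Ideal.Quotient.mk (Ideal.span {rel R π}) (monomial m r) = r • bvec R π k := by
        unfold bvec mkm
        rw [smul_mk, C_mul_monomial, mul_one, hk]
      rw [this]
      exact Submodule.smul_mem _ _ (Submodule.subset_span ⟨k, rfl⟩)
    · push Not at h
      obtain ⟨m', hm'⟩ : ∃ m' : Fin 2 →₀ ℕ, m' = ex (m 0 - 1) (m 1 - 1) := ⟨_, rfl⟩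
      have hmm : m = m' + ex 1 1 := by
        rw [hm', ex_add, eq_ex m]
        simp only [ex_zero, ex_one]
        congr 1 <;> omega
      have h1 : monomial m r = monomial m' r * (X 0 * X 1) := by
        rw [hmm, X, X, monomial_mul, monomial_mul, mul_one, mul_one]
        rfl
      have h2 : Ideal.Quotient.mk (Ideal.span {rel R π}) (monomial m r) =
          Ideal.Quotient.mk (Ideal.span {rel R π}) (monomial m' (π * r)) := by
        rw [h1, map_mul, mk_XY, ← map_mul]
        congr 1
        rw [mul_comm, C_mul_monomial]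
      rw [h2]
      refine ih (m' 0 + m' 1) ?_ m' _ rfl
      rw [hm', ex_zero, ex_one]
      omega

theorem span_eq_top : Submodule.span R (Set.range (bvec R π)) = ⊤ := by
  rw [eq_top_iff]
  rintro x -
  obtain ⟨p, rfl⟩ := Ideal.Quotient.mk_surjective x
  induction p using MvPolynomial.induction_on' with
  | monomial m r => exact all_mem R π _ m r rfl
  | add p q hp hq =>
    rw [map_add]
    exact Submodule.add_mem _ hp hq

theorem linIndep : LinearIndependent R (bvec R π) := by
  rw [linearIndependent_iff]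
  intro l hl
  let v : ℤ → MvPolynomial (Fin 2) R := fun k => monomial (eZ k) 1
  have hv : LinearIndependent R v := by
    have h1 := (MvPolynomial.basisMonomials (Fin 2) R).linearIndependent
    have := h1.comp _ eZ_injective
    rw [MvPolynomial.coe_basisMonomials] at this
    exact this
  obtain ⟨p, hp⟩ : ∃ p, p = Finsupp.linearCombination R v l := ⟨_, rfl⟩
  have hmk : Ideal.Quotient.mk (Ideal.span {rel R π}) p = 0 := by
    rw [← hl, hp, Finsupp.linearCombination_apply, Finsupp.linearCombination_apply, Finsupp.sum,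
      Finsupp.sum, map_sum]
    refine Finset.sum_congr rfl (fun x _ => ?_)
    unfold bvec mkm
    rw [smul_mk, ← smul_eq_C_mul]
  rw [Ideal.Quotient.eq_zero_iff_mem, Ideal.mem_span_singleton'] at hmk
  obtain ⟨g, hg⟩ := hmk
  have hcoeff : ∀ m : Fin 2 →₀ ℕ, 1 ≤ m 0 → 1 ≤ m 1 → coeff m p = 0 := by
    intro m h0 h1
    rw [hp, Finsupp.linearCombination_apply, Finsupp.sum, coeff_sum]
    refine Finset.sum_eq_zero (fun x _ => ?_)
    rw [coeff_smul, coeff_monomial, if_neg, smul_zero]
    intro h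
    have hx := eZ_std x
    rw [h] at hx
    omega
  have hg0 : g = 0 := by
    by_contra hne
    obtain ⟨m, h0, h1, h2⟩ := exists_coeff_ne_zero R π g hne
    rw [hg] at h2
    exact h2 (hcoeff m h0 h1)
  rw [hg0, zero_mul] at hg
  rw [← hg] at hp
  exact (linearIndependent_iff.1 hv) l hp.symm

/-- the `ℤ`-indexed basis of `R[x,y]/(xy - π)` -/
noncomputable def basis : Module.Basis ℤ R (SpinCurv.PolyNodeRing R π) :=
  Module.Basis.mk (linIndep R π) (span_eq_top R π).ge

theorem basis_apply (k : ℤ) : basis R π k = bvec R π k := by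
  unfold basis
  rw [Module.Basis.mk_apply]

end Groth.Agent.Helper8.PolyNode
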