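import Mathlib
import Groth.Agent.Helper8.PolyNode

set_option autoImplicit false
universe u

namespace Groth.Agent.Helper8.PolyNode

open LaurentPolynomial

variable {R : Type u} [CommRing R]

/-- coefficient weights -/
def alpha (q : R) (k : ℤ) : R := if 0 ≤ k then 1 else q ^ (-k).toNat

theorem alpha_nonneg (q : R) (k : ℤ) (hk : 0 ≤ k) : alpha q k = 1 := if_pos hk

/-- coefficient of a Laurent polynomial -/
noncomputable def coefL (k : ℤ) : LaurentPolynomial R →ₗ[R] R where
  toFun f := f.coeff k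
  map_add' f g := by rw [AddMonoidAlgebra.coeff_add]; rfl
  map_smul' r f := by rw [AddMonoidAlgebra.coeff_smul]; rfl

theorem coefL_C_mul_T (k j : ℤ) (r : R) :
    coefL k (C r * T j : LaurentPolynomial R) = if j = k then r else 0 := by
  rw [← single_eq_C_mul_T]
  show (AddMonoidAlgebra.single j r).coeff k = _
  rw [AddMonoidAlgebra.coeff_single]
  exact Finsupp.single_apply

theorem ext_coefL (f : LaurentPolynomial R) (h : ∀ k, coefL k f = 0) : f = 0 := by
  ext k
  exact h k

section Charts

variable (p q : R)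
  (gU : SpinCurv.PolyNodeRing R q →ₐ[R] LaurentPolynomial R)
  (hgUs : gU (SpinCurv.PolyNodeRing.x R q) = LaurentPolynomial.T 1)
  (hgUy : gU (SpinCurv.PolyNodeRing.y R q) = LaurentPolynomial.C q * LaurentPolynomial.T (-1))
  (gV : SpinCurv.PolyNodeRing R p →ₐ[R] LaurentPolynomial R)
  (hgVt : gV (SpinCurv.PolyNodeRing.x R p) = LaurentPolynomial.T (-1))
  (hgVx : gV (SpinCurv.PolyNodeRing.y R p) = LaurentPolynomial.C p * LaurentPolynomial.T 1)

include hgUs hgUy in
theorem gU_bvec (k : ℤ) : gU (bvec R q k) = C (alpha q k) * T k := by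
  by_cases hk : 0 ≤ k
  · rw [bvec_nonneg _ _ _ hk, map_pow, hgUs, T_pow, alpha_nonneg _ _ hk, map_one, one_mul]
    congr 1
    omega
  · push Not at hk
    rw [bvec_neg _ _ _ hk, map_pow, hgUy, mul_pow, T_pow, ← map_pow, alpha, if_neg (not_le.2 hk)]
    congr 2
    omega

include hgVt hgVx in
theorem gV_bvec (k : ℤ) : gV (bvec R p k) = C (alpha p k) * T (-k) := by
  by_cases hk : 0 ≤ k
  · rw [bvec_nonneg _ _ _ hk, map_pow, hgVt, T_pow, alpha_nonneg _ _ hk, map_one, one_mul]
    congr 1
    omega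
  · push Not at hk
    rw [bvec_neg _ _ _ hk, map_pow, hgVx, mul_pow, T_pow, ← map_pow, alpha, if_neg (not_le.2 hk)]
    congr 2
    omega

include hgUs hgUy in
theorem coef_gU (k : ℤ) (g : SpinCurv.PolyNodeRing R q) :
    coefL k (gU g) = (basis R q).repr g k * alpha q k := by
  have : (coefL k) ∘ₗ gU.toLinearMap =
      (LinearMap.mulRight R (alpha q k)) ∘ₗ (Finsupp.lapply k) ∘ₗ (basis R q).repr.toLinearMap := by
    apply (basis R q).ext
    intro j
    simp only [LinearMap.comp_apply, AlgHom.toLinearMap_apply, LinearEquiv.coe_coe,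
      Module.Basis.repr_self, Finsupp.lapply_apply, LinearMap.mulRight_apply]
    rw [basis_apply, gU_bvec q gU hgUs hgUy, coefL_C_mul_T, Finsupp.single_apply]
    by_cases h : j = k
    · subst h; simp
    · simp [h]
  exact LinearMap.congr_fun this g

include hgVt hgVx in
theorem coef_gV (n k : ℤ) (f : SpinCurv.PolyNodeRing R p) :
    coefL k (T n * gV f) = (basis R p).repr f (n - k) * alpha p (n - k) := by
  have : (coefL k) ∘ₗ (LinearMap.mulLeft R (T n : LaurentPolynomial R)) ∘ₗ gV.toLinearMap =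
      (LinearMap.mulRight R (alpha p (n - k))) ∘ₗ (Finsupp.lapply (n - k)) ∘ₗ
        (basis R p).repr.toLinearMap := by
    apply (basis R p).ext
    intro j
    simp only [LinearMap.comp_apply, AlgHom.toLinearMap_apply, LinearEquiv.coe_coe,
      Module.Basis.repr_self, Finsupp.lapply_apply, LinearMap.mulRight_apply,
      LinearMap.mulLeft_apply]
    rw [basis_apply, gV_bvec p gV hgVt hgVx, mul_left_comm, ← T_add, coefL_C_mul_T,
      Finsupp.single_apply]
    by_cases h : j = n - k
    · subst h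
      rw [if_pos (by omega), if_pos rfl, one_mul]
    · rw [if_neg (by omega), if_neg h, zero_mul]
  exact LinearMap.congr_fun this f

end Charts

section Main

variable (p q : R) (n : ℤ)

/-- generators of the module of sections -/
noncomputable def psi (k : ℤ) : SpinCurv.PolyNodeRing R q × SpinCurv.PolyNodeRing R p :=
  (alpha p (n - k) • basis R q k, alpha q k • basis R p (n - k))

/-- the parametrisation of the module of sections -/
noncomputable def Psi : (ℤ →₀ R) →ₗ[R] SpinCurv.PolyNodeRing R q × SpinCurv.PolyNodeRing R p :=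
  Finsupp.linearCombination R (psi p q n)

theorem repr_Psi_fst (w : ℤ →₀ R) (k : ℤ) :
    (basis R q).repr (Psi p q n w).1 k = w k * alpha p (n - k) := by
  have : (Finsupp.lapply k) ∘ₗ (basis R q).repr.toLinearMap ∘ₗ (LinearMap.fst R _ _) ∘ₗ Psi p q n =
      (LinearMap.mulRight R (alpha p (n - k))) ∘ₗ (Finsupp.lapply k) := by
    apply Finsupp.lhom_ext
    intro j r
    simp only [LinearMap.comp_apply, LinearEquiv.coe_coe, Finsupp.lapply_apply,
      LinearMap.mulRight_apply, LinearMap.fst_apply]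
    unfold Psi
    rw [Finsupp.linearCombination_single]
    show (basis R q).repr (r • (alpha p (n - j) • basis R q j)) k = _
    rw [map_smul, map_smul, Module.Basis.repr_self, Finsupp.smul_apply, Finsupp.smul_apply,
      Finsupp.single_apply, Finsupp.single_apply]
    by_cases h : j = k
    · subst h; simp
    · simp [h]
  exact LinearMap.congr_fun this w

theorem repr_Psi_snd (w : ℤ →₀ R) (j : ℤ) :
    (basis R p).repr (Psi p q n w).2 j = w (n - j) * alpha q (n - j) := by
  have : (Finsupp.lapply j) ∘ₗ (basis R p).repr.toLinearMap ∘ₗ (LinearMap.snd R _ _) ∘ₗ Psi p q n =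
      (LinearMap.mulRight R (alpha q (n - j))) ∘ₗ (Finsupp.lapply (n - j)) := by
    apply Finsupp.lhom_ext
    intro i r
    simp only [LinearMap.comp_apply, LinearEquiv.coe_coe, Finsupp.lapply_apply,
      LinearMap.mulRight_apply, LinearMap.snd_apply]
    unfold Psi
    rw [Finsupp.linearCombination_single]
    show (basis R p).repr (r • (alpha q i • basis R p (n - i))) j = _
    rw [map_smul, map_smul, Module.Basis.repr_self, Finsupp.smul_apply, Finsupp.smul_apply,
      Finsupp.single_apply, Finsupp.single_apply]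
    by_cases h : i = n - j
    · subst h
      rw [if_pos (by omega), if_pos rfl]
      simp
    · rw [if_neg (by omega), if_neg h]
      simp
  exact LinearMap.congr_fun this w

variable
  (gU : SpinCurv.PolyNodeRing R q →ₐ[R] LaurentPolynomial R)
  (hgUs : gU (SpinCurv.PolyNodeRing.x R q) = LaurentPolynomial.T 1)
  (hgUy : gU (SpinCurv.PolyNodeRing.y R q) = LaurentPolynomial.C q * LaurentPolynomial.T (-1))
  (gV : SpinCurv.PolyNodeRing R p →ₐ[R] LaurentPolynomial R)
  (hgVt : gV (SpinCurv.PolyNodeRing.x R p) = LaurentPolynomial.T (-1))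
  (hgVx : gV (SpinCurv.PolyNodeRing.y R p) = LaurentPolynomial.C p * LaurentPolynomial.T 1)

/-- the gluing condition -/
noncomputable def Phi :
    (SpinCurv.PolyNodeRing R q × SpinCurv.PolyNodeRing R p) →ₗ[R] LaurentPolynomial R :=
  gU.toLinearMap.comp (LinearMap.fst R (SpinCurv.PolyNodeRing R q) (SpinCurv.PolyNodeRing R p)) -
    (LinearMap.mulLeft R (LaurentPolynomial.T n)).comp
      (gV.toLinearMap.comp (LinearMap.snd R (SpinCurv.PolyNodeRing R q) (SpinCurv.PolyNodeRing R p)))

theorem Phi_apply (x : SpinCurv.PolyNodeRing R q × SpinCurv.PolyNodeRing R p) :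
    Phi p q n gU gV x = gU x.1 - T n * gV x.2 := rfl

include hgUs hgUy hgVt hgVx in
theorem mem_ker_iff (x : SpinCurv.PolyNodeRing R q × SpinCurv.PolyNodeRing R p) :
    x ∈ LinearMap.ker (Phi p q n gU gV) ↔
      ∀ k, (basis R q).repr x.1 k * alpha q k = (basis R p).repr x.2 (n - k) * alpha p (n - k) := by
  rw [LinearMap.mem_ker, Phi_apply]
  constructor
  · intro h k
    have := congrArg (coefL k) h
    rw [map_sub, map_zero, sub_eq_zero, coef_gU q gU hgUs hgUy, coef_gV p gV hgVt hgVx] at this
    exact this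
  · intro h
    apply ext_coefL
    intro k
    rw [map_sub, sub_eq_zero, coef_gU q gU hgUs hgUy, coef_gV p gV hgVt hgVx]
    exact h k

include hgUs hgUy hgVt hgVx in
theorem Psi_mem_ker (w : ℤ →₀ R) : Psi p q n w ∈ LinearMap.ker (Phi p q n gU gV) := by
  rw [mem_ker_iff p q n gU hgUs hgUy gV hgVt hgVx]
  intro k
  rw [repr_Psi_fst, repr_Psi_snd, sub_sub_cancel]
  ring

theorem Psi_injective (hn : -1 ≤ n) : Function.Injective (Psi p q n) := by
  rw [injective_iff_map_eq_zero]
  intro w hw
  ext k
  have h1 := repr_Psi_fst p q n w k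
  have h2 := repr_Psi_snd p q n w (n - k)
  rw [hw] at h1 h2
  rw [sub_sub_cancel] at h2
  simp only [Prod.fst_zero, Prod.snd_zero, map_zero, Finsupp.zero_apply] at h1 h2
  by_cases hk : 0 ≤ k
  · rw [alpha_nonneg _ _ hk, mul_one] at h2
    exact h2.symm
  · rw [alpha_nonneg _ _ (by omega), mul_one] at h1
    exact h1.symm

include hgUs hgUy hgVt hgVx in
theorem exists_Psi_eq (hn : -1 ≤ n) (x : SpinCurv.PolyNodeRing R q × SpinCurv.PolyNodeRing R p)
    (hx : x ∈ LinearMap.ker (Phi p q n gU gV)) : ∃ w, Psi p q n w = x := by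
  rw [mem_ker_iff p q n gU hgUs hgUy gV hgVt hgVx] at hx
  classical
  obtain ⟨a, ha⟩ : ∃ a, a = (basis R q).repr x.1 := ⟨_, rfl⟩
  obtain ⟨c, hc⟩ : ∃ c, c = (basis R p).repr x.2 := ⟨_, rfl⟩
  rw [← ha, ← hc] at hx
  obtain ⟨w, hw⟩ : ∃ w : ℤ →₀ R, ∀ k, w k = if 0 ≤ k then c (n - k) else a k := by
    refine ⟨(c.equivMapDomain (Equiv.subLeft n)).filter (fun k => 0 ≤ k) +
      a.filter (fun k => ¬ 0 ≤ k), fun k => ?_⟩
    rw [Finsupp.add_apply, Finsupp.filter_apply, Finsupp.filter_apply,
      Finsupp.equivMapDomain_apply]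
    by_cases hk : 0 ≤ k
    · rw [if_pos hk, if_pos hk, if_neg (not_not.2 hk), add_zero]
      simp only [Equiv.subLeft_symm_apply]
      congr 1
      omega
    · rw [if_neg hk, if_neg hk, if_pos hk, zero_add]
  refine ⟨w, Prod.ext ?_ ?_⟩
  · apply (basis R q).repr.injective
    ext k
    rw [repr_Psi_fst, hw, ← ha]
    by_cases hk : 0 ≤ k
    · rw [if_pos hk, ← hx k, alpha_nonneg _ _ hk, mul_one]
    · rw [if_neg hk, alpha_nonneg _ _ (by omega), mul_one]
  · apply (basis R p).repr.injective
    ext j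
    rw [repr_Psi_snd, hw, ← hc]
    by_cases hk : 0 ≤ n - j
    · rw [if_pos hk, alpha_nonneg _ _ hk, mul_one, sub_sub_cancel]
    · rw [if_neg hk, hx (n - j), sub_sub_cancel, alpha_nonneg _ _ (by omega), mul_one]

include hgUs hgUy hgVt hgVx in
theorem main (hn : -1 ≤ n) : Module.Free R (LinearMap.ker
      (gU.toLinearMap.comp (LinearMap.fst R (SpinCurv.PolyNodeRing R q) (SpinCurv.PolyNodeRing R p)) -
        (LinearMap.mulLeft R (LaurentPolynomial.T n)).comp
          (gV.toLinearMap.comp (LinearMap.snd R (SpinCurv.PolyNodeRing R q) (SpinCurv.PolyNodeRing R p))))) := by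
  show Module.Free R (LinearMap.ker (Phi p q n gU gV))
  have hbij : Function.Bijective ((Psi p q n).codRestrict (LinearMap.ker (Phi p q n gU gV))
      (Psi_mem_ker p q n gU hgUs hgUy gV hgVt hgVx)) := by
    constructor
    · intro w w' h
      exact Psi_injective p q n hn (congrArg Subtype.val h)
    · rintro ⟨x, hx⟩
      obtain ⟨w, hw⟩ := exists_Psi_eq p q n gU hgUs hgUy gV hgVt hgVx hn x hx
      exact ⟨w, Subtype.ext hw⟩
  exact Module.Free.of_equiv (LinearEquiv.ofBijective _ hbij)

end Main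

end Groth.Agent.Helper8.PolyNode
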