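import Mathlib
import Groth.Agent.Helper8.PolyNode2

set_option autoImplicit false
universe u

namespace Groth.Agent.Helper8.PolyNode

open LaurentPolynomial

variable {R : Type u} [CommRing R]

theorem xy_eq (π : R) : SpinCurv.PolyNodeRing.x R π * SpinCurv.PolyNodeRing.y R π =
    algebraMap R (SpinCurv.PolyNodeRing R π) π := by
  show Ideal.Quotient.mk _ (MvPolynomial.X 0) * Ideal.Quotient.mk _ (MvPolynomial.X 1) = _
  rw [← map_mul, mk_XY]
  rfl

section S37

variable (p q : R)
  (rU : SpinCurv.PolyNodeRing R (p * q) →ₐ[R] SpinCurv.PolyNodeRing R q)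
  (hrUx : rU (SpinCurv.PolyNodeRing.x R (p * q)) = algebraMap R _ p * SpinCurv.PolyNodeRing.x R q)
  (hrUy : rU (SpinCurv.PolyNodeRing.y R (p * q)) = SpinCurv.PolyNodeRing.y R q)
  (rV : SpinCurv.PolyNodeRing R (p * q) →ₐ[R] SpinCurv.PolyNodeRing R p)
  (hrVx : rV (SpinCurv.PolyNodeRing.x R (p * q)) = SpinCurv.PolyNodeRing.y R p)
  (hrVy : rV (SpinCurv.PolyNodeRing.y R (p * q)) = algebraMap R _ q * SpinCurv.PolyNodeRing.x R p)
  (gU : SpinCurv.PolyNodeRing R q →ₐ[R] LaurentPolynomial R)
  (hgUs : gU (SpinCurv.PolyNodeRing.x R q) = LaurentPolynomial.T 1)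
  (hgUy : gU (SpinCurv.PolyNodeRing.y R q) = LaurentPolynomial.C q * LaurentPolynomial.T (-1))
  (gV : SpinCurv.PolyNodeRing R p →ₐ[R] LaurentPolynomial R)
  (hgVt : gV (SpinCurv.PolyNodeRing.x R p) = LaurentPolynomial.T (-1))
  (hgVx : gV (SpinCurv.PolyNodeRing.y R p) = LaurentPolynomial.C p * LaurentPolynomial.T 1) (n : ℕ)

/-- the map `A^{n+1} → O(U) × O(V)` -/
noncomputable def Theta : (Fin (n + 1) → SpinCurv.PolyNodeRing R (p * q)) →ₗ[R]
    SpinCurv.PolyNodeRing R q × SpinCurv.PolyNodeRing R p where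
  toFun F := (∑ i : Fin (n + 1), rU (F i) * SpinCurv.PolyNodeRing.x R q ^ (n - (i : ℕ)),
         ∑ i : Fin (n + 1), rV (F i) * SpinCurv.PolyNodeRing.x R p ^ (i : ℕ))
  map_add' F G := by
    simp only [Pi.add_apply, map_add, add_mul, Finset.sum_add_distrib, Prod.mk_add_mk]
  map_smul' r F := by
    simp only [Pi.smul_apply, map_smul, smul_mul_assoc, ← Finset.smul_sum, Prod.smul_mk,
      RingHom.id_apply]

theorem Theta_apply (F : Fin (n + 1) → SpinCurv.PolyNodeRing R (p * q)) :
    Theta p q rU rV n F = (∑ i : Fin (n + 1), rU (F i) * SpinCurv.PolyNodeRing.x R q ^ (n - (i : ℕ)),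
         ∑ i : Fin (n + 1), rV (F i) * SpinCurv.PolyNodeRing.x R p ^ (i : ℕ)) := rfl

theorem Theta_smul (a : SpinCurv.PolyNodeRing R (p * q))
    (F : Fin (n + 1) → SpinCurv.PolyNodeRing R (p * q)) :
    Theta p q rU rV n (a • F) =
      (rU a * (Theta p q rU rV n F).1, rV a * (Theta p q rU rV n F).2) := by
  rw [Theta_apply, Theta_apply]
  simp only [Pi.smul_apply, smul_eq_mul, map_mul, mul_assoc, Finset.mul_sum]

theorem Theta_single (i : Fin (n + 1)) (a : SpinCurv.PolyNodeRing R (p * q)) :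
    Theta p q rU rV n (Pi.single i a) =
      (rU a * SpinCurv.PolyNodeRing.x R q ^ (n - (i : ℕ)),
        rV a * SpinCurv.PolyNodeRing.x R p ^ (i : ℕ)) := by
  rw [Theta_apply]
  congr 1
  · rw [Finset.sum_eq_single i]
    · rw [Pi.single_eq_same]
    · intro j _ hj
      rw [Pi.single_eq_of_ne hj, map_zero, zero_mul]
    · intro h; exact absurd (Finset.mem_univ _) h
  · rw [Finset.sum_eq_single i]
    · rw [Pi.single_eq_same]
    · intro j _ hj
      rw [Pi.single_eq_of_ne hj, map_zero, zero_mul]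
    · intro h; exact absurd (Finset.mem_univ _) h

include hrUx hrUy hrVx hrVy hgUs hgUy hgVt hgVx in
theorem gU_rU (a : SpinCurv.PolyNodeRing R (p * q)) : gU (rU a) = gV (rV a) := by
  have : (gU.comp rU) = (gV.comp rV) := by
    apply Ideal.Quotient.algHom_ext
    apply MvPolynomial.algHom_ext
    intro i
    fin_cases i
    · show gU (rU (SpinCurv.PolyNodeRing.x R (p * q))) = gV (rV (SpinCurv.PolyNodeRing.x R (p * q)))
      rw [hrUx, hrVx, map_mul, hgUs, hgVx, AlgHom.commutes]
      rfl
    · show gU (rU (SpinCurv.PolyNodeRing.y R (p * q))) = gV (rV (SpinCurv.PolyNodeRing.y R (p * q)))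
      rw [hrUy, hrVy, map_mul, hgUy, hgVt, AlgHom.commutes]
      rfl
  exact AlgHom.congr_fun this a

include hrUx hrUy hrVx hrVy hgUs hgUy hgVt hgVx in
theorem Theta_mem_ker (F : Fin (n + 1) → SpinCurv.PolyNodeRing R (p * q)) :
    Theta p q rU rV n F ∈ LinearMap.ker (Phi p q (n : ℤ) gU gV) := by
  rw [LinearMap.mem_ker, Phi_apply, Theta_apply]
  simp only [map_sum, map_mul, map_pow, hgUs, hgVt, Finset.mul_sum, T_pow]
  rw [← Finset.sum_sub_distrib]
  refine Finset.sum_eq_zero (fun i _ => ?_)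
  rw [gU_rU p q rU hrUx hrUy rV hrVx hrVy gU hgUs hgUy gV hgVt hgVx, mul_left_comm, ← T_add,
    sub_eq_zero]
  congr 2
  have := i.2
  omega


/-- lifts of the basis of the module of sections -/
noncomputable def lam (k : ℤ) : Fin (n + 1) → SpinCurv.PolyNodeRing R (p * q) :=
  if (n : ℤ) < k then Pi.single 0 (basis R (p * q) (k - n))
  else if h : 0 ≤ k then Pi.single ⟨(n - k).toNat, by omega⟩ 1
  else Pi.single (Fin.last n) (basis R (p * q) k)

include hrUx hrUy hrVx hrVy in
theorem Theta_lam (k : ℤ) : Theta p q rU rV n (lam p q n k) = psi p q (n : ℤ) k := by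
  unfold lam psi
  by_cases h1 : (n : ℤ) < k
  · rw [if_pos h1, Theta_single, basis_apply, basis_apply, basis_apply,
      bvec_nonneg _ _ _ (by omega), bvec_nonneg _ _ _ (by omega), bvec_neg _ _ _ (by omega),
      alpha_nonneg _ _ (by omega : 0 ≤ k), one_smul, map_pow, map_pow, hrUx, hrVx, mul_pow,
      ← map_pow, alpha, if_neg (by omega)]
    have e1 : (-((n : ℤ) - k)).toNat = (k - n).toNat := by congr 1; omega
    have e2 : k.toNat = (k - n).toNat + n := by omega
    rw [e1, e2, pow_add]
    refine Prod.ext ?_ ?_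
    · simp only [Fin.val_zero, Nat.sub_zero, mul_assoc]
      rw [← map_pow]
      exact (Algebra.smul_def _ _).symm
    · simp
  · rw [if_neg h1]
    by_cases h2 : 0 ≤ k
    · rw [dif_pos h2, Theta_single, map_one, map_one, one_mul, one_mul, basis_apply, basis_apply,
        bvec_nonneg _ _ _ h2, bvec_nonneg _ _ _ (by omega), alpha_nonneg _ _ h2,
        alpha_nonneg _ _ (by omega), one_smul, one_smul]
      congr 2
      simp only
      omega
    · rw [dif_neg h2, Theta_single, basis_apply, basis_apply, basis_apply,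
        bvec_neg _ _ _ (by omega), bvec_neg _ _ _ (by omega), bvec_nonneg _ _ _ (by omega),
        alpha_nonneg _ _ (by omega : (0 : ℤ) ≤ n - k), one_smul, map_pow, map_pow, hrUy, hrVy,
        mul_pow, ← map_pow, alpha, if_neg h2]
      have e2 : ((n : ℤ) - k).toNat = (-k).toNat + n := by omega
      rw [e2, pow_add]
      refine Prod.ext ?_ ?_
      · simp
      · simp only [Fin.val_last, mul_assoc]
        rw [← map_pow]
        exact (Algebra.smul_def _ _).symm

include hrUx hrUy hrVx hrVy in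
theorem Theta_comp_lam :
    (Theta p q rU rV n) ∘ₗ (Finsupp.linearCombination R (lam p q n)) = Psi p q (n : ℤ) := by
  apply Finsupp.lhom_ext
  intro k r
  unfold Psi
  rw [LinearMap.comp_apply, Finsupp.linearCombination_single, Finsupp.linearCombination_single,
    map_smul, Theta_lam p q rU hrUx hrUy rV hrVx hrVy]

include hrUx hrUy hrVx hrVy hgUs hgUy hgVt hgVx in
theorem range_eq : Set.range (fun F : Fin (n + 1) → SpinCurv.PolyNodeRing R (p * q) =>
        (∑ i : Fin (n + 1), rU (F i) * SpinCurv.PolyNodeRing.x R q ^ (n - (i : ℕ)),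
         ∑ i : Fin (n + 1), rV (F i) * SpinCurv.PolyNodeRing.x R p ^ (i : ℕ))) =
      {gf : SpinCurv.PolyNodeRing R q × SpinCurv.PolyNodeRing R p |
        gU gf.1 = LaurentPolynomial.T (n : ℤ) * gV gf.2} := by
  ext x
  constructor
  · rintro ⟨F, rfl⟩
    have := Theta_mem_ker p q rU hrUx hrUy rV hrVx hrVy gU hgUs hgUy gV hgVt hgVx n F
    rw [LinearMap.mem_ker, Phi_apply, sub_eq_zero] at this
    exact this
  · intro hx
    have hx' : x ∈ LinearMap.ker (Phi p q (n : ℤ) gU gV) := by
      rw [LinearMap.mem_ker, Phi_apply, sub_eq_zero]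
      exact hx
    obtain ⟨w, hw⟩ := exists_Psi_eq p q (n : ℤ) gU hgUs hgUy gV hgVt hgVx (by omega) x hx'
    rw [← Theta_comp_lam p q rU hrUx hrUy rV hrVx hrVy] at hw
    exact ⟨_, hw⟩


/-- first family of relations -/
noncomputable def r1 (i : Fin n) : Fin (n + 1) → SpinCurv.PolyNodeRing R (p * q) :=
  Pi.single (Fin.castSucc i) (algebraMap R (SpinCurv.PolyNodeRing R (p * q)) p) -
    Pi.single (Fin.succ i) (SpinCurv.PolyNodeRing.x R (p * q))

/-- second family of relations -/
noncomputable def r2 (i : Fin n) : Fin (n + 1) → SpinCurv.PolyNodeRing R (p * q) :=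
  Pi.single (Fin.castSucc i) (SpinCurv.PolyNodeRing.y R (p * q)) -
    Pi.single (Fin.succ i) (algebraMap R (SpinCurv.PolyNodeRing R (p * q)) q)

/-- the module of relations -/
noncomputable def NN : Submodule (SpinCurv.PolyNodeRing R (p * q))
    (Fin (n + 1) → SpinCurv.PolyNodeRing R (p * q)) :=
  Submodule.span _ (Set.range (r1 p q n) ∪ Set.range (r2 p q n))

/-- the kernel of `Theta` as a submodule over the node ring -/
noncomputable def kerSub : Submodule (SpinCurv.PolyNodeRing R (p * q))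
    (Fin (n + 1) → SpinCurv.PolyNodeRing R (p * q)) where
  carrier := {F | Theta p q rU rV n F = 0}
  add_mem' := by
    intro F G hF hG
    rw [Set.mem_setOf_eq] at hF hG ⊢
    rw [map_add, hF, hG, add_zero]
  zero_mem' := map_zero _
  smul_mem' := by
    intro a F hF
    rw [Set.mem_setOf_eq] at hF ⊢
    rw [Theta_smul, hF]
    simp

include hrUx hrUy hrVx hrVy in
theorem NN_le_kerSub : NN p q n ≤ kerSub p q rU rV n := by
  unfold NN
  rw [Submodule.span_le]
  rintro _ (⟨i, rfl⟩ | ⟨i, rfl⟩)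
  · show Theta p q rU rV n (r1 p q n i) = 0
    unfold r1
    rw [map_sub, Theta_single, Theta_single, AlgHom.commutes, AlgHom.commutes, hrUx, hrVx]
    have hi := i.2
    have e1 : n - ((Fin.castSucc i : Fin (n + 1)) : ℕ) = (n - ((Fin.succ i : Fin (n + 1)) : ℕ)) + 1 := by
      simp only [Fin.val_castSucc, Fin.val_succ]; omega
    have e2 : ((Fin.succ i : Fin (n + 1)) : ℕ) = ((Fin.castSucc i : Fin (n + 1)) : ℕ) + 1 := by
      simp only [Fin.val_castSucc, Fin.val_succ]
    rw [e1, e2, pow_succ, pow_succ]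
    refine Prod.ext ?_ ?_
    · show _ - _ = (0 : SpinCurv.PolyNodeRing R q)
      ring
    · show _ - _ = (0 : SpinCurv.PolyNodeRing R p)
      have := xy_eq (R := R) p
      linear_combination (-(SpinCurv.PolyNodeRing.x R p ^ ((Fin.castSucc i : Fin (n + 1)) : ℕ))) * this
  · show Theta p q rU rV n (r2 p q n i) = 0
    unfold r2
    rw [map_sub, Theta_single, Theta_single, AlgHom.commutes, AlgHom.commutes, hrUy, hrVy]
    have hi := i.2
    have e1 : n - ((Fin.castSucc i : Fin (n + 1)) : ℕ) = (n - ((Fin.succ i : Fin (n + 1)) : ℕ)) + 1 := by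
      simp only [Fin.val_castSucc, Fin.val_succ]; omega
    have e2 : ((Fin.succ i : Fin (n + 1)) : ℕ) = ((Fin.castSucc i : Fin (n + 1)) : ℕ) + 1 := by
      simp only [Fin.val_castSucc, Fin.val_succ]
    rw [e1, e2, pow_succ, pow_succ]
    refine Prod.ext ?_ ?_
    · show _ - _ = (0 : SpinCurv.PolyNodeRing R q)
      have := xy_eq (R := R) q
      linear_combination (SpinCurv.PolyNodeRing.x R q ^ (n - (((Fin.castSucc i : Fin (n + 1)) : ℕ) + 1))) * this
    · show _ - _ = (0 : SpinCurv.PolyNodeRing R p)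
      ring

/-- the span of the relations and of the lifted basis -/
noncomputable def SS : Submodule R (Fin (n + 1) → SpinCurv.PolyNodeRing R (p * q)) :=
  (NN p q n).restrictScalars R ⊔ LinearMap.range (Finsupp.linearCombination R (lam p q n))

theorem lam_mem (k : ℤ) : lam p q n k ∈ SS p q n :=
  le_sup_right (a := (NN p q n).restrictScalars R)
    ⟨Finsupp.single k 1, by rw [Finsupp.linearCombination_single, one_smul]⟩

theorem mem_of_sub_mem (F G : Fin (n + 1) → SpinCurv.PolyNodeRing R (p * q))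
    (h : F - G ∈ NN p q n) (hG : G ∈ SS p q n) : F ∈ SS p q n := by
  have : F = (F - G) + G := by abel
  rw [this]
  exact Submodule.add_mem _ (le_sup_left (b := LinearMap.range
    (Finsupp.linearCombination R (lam p q n))) h) hG

theorem single_one_mem (i : Fin (n + 1)) :
    (Pi.single i 1 : Fin (n + 1) → SpinCurv.PolyNodeRing R (p * q)) ∈ SS p q n := by
  have h := lam_mem p q n ((n : ℤ) - (i : ℕ))
  have hi := i.2
  unfold lam at h
  rw [if_neg (by omega), dif_pos (by omega)] at h
  have : (⟨((n : ℤ) - ((n : ℤ) - (i : ℕ))).toNat, by omega⟩ : Fin (n + 1)) = i := by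
    apply Fin.ext
    simp only
    omega
  rwa [this] at h

theorem single_smul (i : Fin (n + 1)) (r : R) (a : SpinCurv.PolyNodeRing R (p * q)) :
    (Pi.single i (r • a) : Fin (n + 1) → SpinCurv.PolyNodeRing R (p * q)) = r • Pi.single i a := by
  ext j
  by_cases h : j = i
  · subst h; simp
  · simp [Pi.single_eq_of_ne h]

theorem single_mul (i : Fin (n + 1)) (a b : SpinCurv.PolyNodeRing R (p * q)) :
    (Pi.single i (a * b) : Fin (n + 1) → SpinCurv.PolyNodeRing R (p * q)) = a • Pi.single i b := by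
  ext j
  by_cases h : j = i
  · subst h; simp
  · simp [Pi.single_eq_of_ne h]

theorem xpow_mem (i : Fin (n + 1)) : ∀ j : ℕ,
    (Pi.single i (SpinCurv.PolyNodeRing.x R (p * q) ^ j) :
      Fin (n + 1) → SpinCurv.PolyNodeRing R (p * q)) ∈ SS p q n := by
  induction i using Fin.induction with
  | zero =>
    intro j
    rcases Nat.eq_zero_or_pos j with rfl | hj
    · rw [pow_zero]; exact single_one_mem p q n 0
    · have h := lam_mem p q n ((n : ℤ) + j)
      unfold lam at h
      rw [if_pos (by omega), basis_apply, bvec_nonneg _ _ _ (by omega)] at h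
      have : ((n : ℤ) + j - n).toNat = j := by omega
      rwa [this] at h
  | succ i ih =>
    intro j
    rcases Nat.eq_zero_or_pos j with rfl | hj
    · rw [pow_zero]; exact single_one_mem p q n _
    · obtain ⟨j', rfl⟩ := Nat.exists_eq_succ_of_ne_zero hj.ne'
      refine mem_of_sub_mem p q n _ (p • Pi.single (Fin.castSucc i)
        (SpinCurv.PolyNodeRing.x R (p * q) ^ j')) ?_ (Submodule.smul_mem _ _ (ih j'))
      have : (Pi.single (Fin.succ i) (SpinCurv.PolyNodeRing.x R (p * q) ^ (j' + 1)) -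
          p • (Pi.single (Fin.castSucc i) (SpinCurv.PolyNodeRing.x R (p * q) ^ j') :
            Fin (n + 1) → SpinCurv.PolyNodeRing R (p * q)) :
            Fin (n + 1) → SpinCurv.PolyNodeRing R (p * q)) =
          ((-(SpinCurv.PolyNodeRing.x R (p * q) ^ j') : SpinCurv.PolyNodeRing R (p * q)) •
            (r1 p q n i : Fin (n + 1) → SpinCurv.PolyNodeRing R (p * q))) := by
        unfold r1
        have hsm : ∀ (r : R) (a : SpinCurv.PolyNodeRing R (p * q)),
            r • a = algebraMap R (SpinCurv.PolyNodeRing R (p * q)) r * a :=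
          fun r a => Algebra.smul_def r a
        rw [smul_sub, ← single_mul, ← single_mul, ← single_smul,
          hsm, pow_succ, mul_comm (algebraMap R _ p)]
        ext k
        simp only [Pi.sub_apply, Pi.single_apply]
        split_ifs <;> ring
      rw [this]
      exact Submodule.smul_mem _ _ (Submodule.subset_span (Or.inl ⟨i, rfl⟩))

theorem ypow_mem (i : Fin (n + 1)) : ∀ b : ℕ,
    (Pi.single i (SpinCurv.PolyNodeRing.y R (p * q) ^ (b + 1)) :
      Fin (n + 1) → SpinCurv.PolyNodeRing R (p * q)) ∈ SS p q n := by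
  induction i using Fin.reverseInduction with
  | last =>
    intro b
    have h := lam_mem p q n (-((b : ℤ) + 1))
    unfold lam at h
    rw [if_neg (by omega), dif_neg (by omega), basis_apply, bvec_neg _ _ _ (by omega)] at h
    have : (- -((b : ℤ) + 1)).toNat = b + 1 := by omega
    rwa [this] at h
  | cast i ih =>
    intro b
    have hq : (q • Pi.single (Fin.succ i) (SpinCurv.PolyNodeRing.y R (p * q) ^ b) :
        Fin (n + 1) → SpinCurv.PolyNodeRing R (p * q)) ∈ SS p q n := by
      refine Submodule.smul_mem _ _ ?_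
      rcases Nat.eq_zero_or_pos b with rfl | hb
      · rw [pow_zero]; exact single_one_mem p q n _
      · obtain ⟨b', rfl⟩ := Nat.exists_eq_succ_of_ne_zero hb.ne'
        exact ih b'
    refine mem_of_sub_mem p q n _ _ ?_ hq
    have : (Pi.single (Fin.castSucc i) (SpinCurv.PolyNodeRing.y R (p * q) ^ (b + 1)) -
        q • (Pi.single (Fin.succ i) (SpinCurv.PolyNodeRing.y R (p * q) ^ b) :
          Fin (n + 1) → SpinCurv.PolyNodeRing R (p * q)) :
          Fin (n + 1) → SpinCurv.PolyNodeRing R (p * q)) =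
        ((SpinCurv.PolyNodeRing.y R (p * q) ^ b : SpinCurv.PolyNodeRing R (p * q)) •
          (r2 p q n i : Fin (n + 1) → SpinCurv.PolyNodeRing R (p * q))) := by
      unfold r2
      have hsm : ∀ (r : R) (a : SpinCurv.PolyNodeRing R (p * q)),
          r • a = algebraMap R (SpinCurv.PolyNodeRing R (p * q)) r * a :=
        fun r a => Algebra.smul_def r a
      rw [smul_sub, ← single_mul, ← single_mul, ← single_smul, hsm, pow_succ,
        mul_comm (algebraMap R _ q)]
    rw [this]
    exact Submodule.smul_mem _ _ (Submodule.subset_span (Or.inr ⟨i, rfl⟩))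

theorem SS_eq_top : SS p q n = ⊤ := by
  rw [eq_top_iff]
  rintro F -
  have hb : ∀ (i : Fin (n + 1)) (k : ℤ),
      (Pi.single i (basis R (p * q) k) : Fin (n + 1) → SpinCurv.PolyNodeRing R (p * q)) ∈
        SS p q n := by
    intro i k
    rw [basis_apply]
    by_cases hk : 0 ≤ k
    · rw [bvec_nonneg _ _ _ hk]
      exact xpow_mem p q n i _
    · rw [bvec_neg _ _ _ (by omega)]
      obtain ⟨b, hb⟩ : ∃ b : ℕ, (-k).toNat = b + 1 := ⟨(-k).toNat - 1, by omega⟩
      rw [hb]
      exact ypow_mem p q n i b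
  have hs : ∀ (i : Fin (n + 1)) (a : SpinCurv.PolyNodeRing R (p * q)),
      (Pi.single i a : Fin (n + 1) → SpinCurv.PolyNodeRing R (p * q)) ∈ SS p q n := by
    intro i a
    have h1 : (⊤ : Submodule R (SpinCurv.PolyNodeRing R (p * q))) ≤
        (SS p q n).comap (LinearMap.single R (fun _ : Fin (n + 1) => SpinCurv.PolyNodeRing R (p * q)) i) := by
      rw [← (basis R (p * q)).span_eq, Submodule.span_le]
      rintro _ ⟨k, rfl⟩
      exact hb i k
    exact h1 (Submodule.mem_top (x := a))
  rw [← Finset.univ_sum_single F]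
  exact Submodule.sum_mem _ (fun i _ => hs i (F i))

include hrUx hrUy hrVx hrVy in
theorem kerSub_le_NN : kerSub p q rU rV n ≤ NN p q n := by
  intro F hF
  have hF' : Theta p q rU rV n F = 0 := hF
  have hS : F ∈ SS p q n := by rw [SS_eq_top]; exact Submodule.mem_top
  unfold SS at hS
  rw [Submodule.mem_sup] at hS
  obtain ⟨ν, hν, _, ⟨w, rfl⟩, rfl⟩ := hS
  have hν0 : Theta p q rU rV n ν = 0 := NN_le_kerSub p q rU hrUx hrUy rV hrVx hrVy n hν
  rw [map_add, hν0, zero_add, ← LinearMap.comp_apply,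
    Theta_comp_lam p q rU hrUx hrUy rV hrVx hrVy] at hF'
  have hw : w = 0 := Psi_injective p q (n : ℤ) (by omega) (by rw [hF', map_zero])
  rw [hw, map_zero, add_zero]
  exact hν

include hrUx hrUy hrVx hrVy hgUs hgUy hgVt hgVx in
theorem main37 :
    Set.range (fun F : Fin (n + 1) → SpinCurv.PolyNodeRing R (p * q) =>
        (∑ i : Fin (n + 1), rU (F i) * SpinCurv.PolyNodeRing.x R q ^ (n - (i : ℕ)),
         ∑ i : Fin (n + 1), rV (F i) * SpinCurv.PolyNodeRing.x R p ^ (i : ℕ))) =
      {gf : SpinCurv.PolyNodeRing R q × SpinCurv.PolyNodeRing R p |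
        gU gf.1 = LaurentPolynomial.T (n : ℤ) * gV gf.2} ∧
    {F : Fin (n + 1) → SpinCurv.PolyNodeRing R (p * q) |
        (∑ i : Fin (n + 1), rU (F i) * SpinCurv.PolyNodeRing.x R q ^ (n - (i : ℕ)),
         ∑ i : Fin (n + 1), rV (F i) * SpinCurv.PolyNodeRing.x R p ^ (i : ℕ)) = 0} =
      (Submodule.span (SpinCurv.PolyNodeRing R (p * q))
        (Set.range (fun i : Fin n =>
            (Pi.single (Fin.castSucc i) (algebraMap R (SpinCurv.PolyNodeRing R (p * q)) p) -
              Pi.single (Fin.succ i) (SpinCurv.PolyNodeRing.x R (p * q)) : Fin (n + 1) → SpinCurv.PolyNodeRing R (p * q))) ∪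
         Set.range (fun i : Fin n =>
            (Pi.single (Fin.castSucc i) (SpinCurv.PolyNodeRing.y R (p * q)) -
              Pi.single (Fin.succ i) (algebraMap R (SpinCurv.PolyNodeRing R (p * q)) q) : Fin (n + 1) → SpinCurv.PolyNodeRing R (p * q)))) :
        Set (Fin (n + 1) → SpinCurv.PolyNodeRing R (p * q))) := by
  refine ⟨range_eq p q rU hrUx hrUy rV hrVx hrVy gU hgUs hgUy gV hgVt hgVx n, ?_⟩
  ext F
  constructor
  · intro hF
    exact kerSub_le_NN p q rU hrUx hrUy rV hrVx hrVy n hF
  · intro hF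
    exact NN_le_kerSub p q rU hrUx hrUy rV hrVx hrVy n hF

end S37

end Groth.Agent.Helper8.PolyNode
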