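import Mathlib
import Groth.Agent.Helper8.GeomIrrB

/-!
# Zero divisors of `K' ⊗[k] L` are nilpotent when `L / k` is primary
-/

namespace Groth.Agent.Helper8.PrimZD

open TensorProduct

universe u

/-- Core lemma: if `Ω` is a flat algebraic algebra over a domain `D` whose spectrum is
irreducible, then every zero divisor of `Ω` is nilpotent. -/
theorem core {D Ω : Type*} [CommRing D] [IsDomain D] [CommRing Ω] [Algebra D Ω]
    [Module.Flat D Ω] [Algebra.IsAlgebraic D Ω] (hΩ : GeomIrr.NilPrime Ω)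
    (z w : Ω) (hzw : z * w = 0) (hw : w ≠ 0) : IsNilpotent z := by
  by_contra hz
  haveI hp : (nilradical Ω).IsPrime := hΩ
  let π : Ω →ₐ[D] (Ω ⧸ nilradical Ω) := Ideal.Quotient.mkₐ D (nilradical Ω)
  have hz' : π z ≠ 0 := by
    intro h
    exact hz (mem_nilradical.mp (Ideal.Quotient.eq_zero_iff_mem.mp h))
  have halg : IsAlgebraic D (π z) := (Algebra.IsAlgebraic.isAlgebraic z).algHom π
  obtain ⟨r, hr, y', hy'⟩ := halg.exists_nonzero_dvd (mem_nonZeroDivisors_of_ne_zero hz')
  obtain ⟨y, rfl⟩ := Ideal.Quotient.mk_surjective y'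
  have hν : IsNilpotent (algebraMap D Ω r - z * y) := by
    rw [← mem_nilradical, ← Ideal.Quotient.eq_zero_iff_mem, map_sub, map_mul, sub_eq_zero]
    exact hy'
  obtain ⟨n, hn⟩ := hν
  have h1 : (algebraMap D Ω r - z * y) * w = algebraMap D Ω r * w := by
    rw [sub_mul, mul_right_comm, hzw, zero_mul, sub_zero]
  have hpow : ∀ m : ℕ, (algebraMap D Ω r - z * y) ^ m * w = algebraMap D Ω r ^ m * w := by
    intro m
    induction m with
    | zero => simp
    | succ m ih =>
      calc (algebraMap D Ω r - z * y) ^ (m + 1) * w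
          = (algebraMap D Ω r - z * y) ^ m * ((algebraMap D Ω r - z * y) * w) := by
            rw [pow_succ, mul_assoc]
        _ = algebraMap D Ω r * ((algebraMap D Ω r - z * y) ^ m * w) := by
            rw [h1, mul_left_comm]
        _ = algebraMap D Ω r ^ (m + 1) * w := by
            rw [ih, ← mul_assoc, ← pow_succ']
  have h2 : (r ^ n) • w = 0 := by
    rw [Algebra.smul_def, map_pow, ← hpow n, hn, zero_mul]
  have hreg : IsSMulRegular Ω (r ^ n) :=
    Module.Flat.isSMulRegular_of_nonZeroDivisors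
      (mem_nonZeroDivisors_of_ne_zero (pow_ne_zero n hr))
  apply hw
  apply hreg
  change (r ^ n) • w = (r ^ n) • (0 : Ω)
  rw [h2, smul_zero]

/-- If `L / k` is primary (`k` separably closed in `L`), then every zero divisor of
`K' ⊗[k] L` is nilpotent. -/
theorem isNilpotent_of_mul_eq_zero {k L K' : Type u} [Field k] [Field L] [Field K']
    [Algebra k L] [Algebra k K']
    (hprim : ∀ a : L, IsSeparable k a → a ∈ Set.range (algebraMap k L))
    (z w : K' ⊗[k] L) (hzw : z * w = 0) (hw : w ≠ 0) : IsNilpotent z := by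
  classical
  have hNP : GeomIrr.NilPrime (K' ⊗[k] L) :=
    (GeomIrr.nilPrime_iff_irreducibleSpace _).mpr (GeomIrr.geomIrr_iff.mpr hprim K')
  obtain ⟨ι, x, hx⟩ := exists_isTranscendenceBasis' k L
  let P := Algebra.adjoin k (Set.range x)
  haveI : Algebra.IsAlgebraic P L := hx.isAlgebraic
  haveI : Module.Flat P L := by
    letI := FractionRing.liftAlgebra P L
    haveI := FractionRing.isScalarTower_liftAlgebra P L
    exact Module.Flat.trans P (FractionRing P) L
  let eD : (P ⊗[k] K') ≃+* MvPolynomial ι K' :=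
    ((Algebra.TensorProduct.congr hx.1.aevalEquiv.symm
        (AlgEquiv.refl : K' ≃ₐ[k] K')).toRingEquiv.trans
      (Algebra.TensorProduct.comm k (MvPolynomial ι k) K').toRingEquiv).trans
      (MvPolynomial.algebraTensorAlgEquiv k K').toRingEquiv
  haveI : IsDomain (P ⊗[k] K') := eD.toMulEquiv.isDomain
  haveI : FaithfulSMul P (P ⊗[k] K') := (faithfulSMul_iff_algebraMap_injective P _).mpr
    (Algebra.TensorProduct.includeLeft_injective (S := P)
      (FaithfulSMul.algebraMap_injective k K'))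
  let c2 : (P ⊗[k] K') ⊗[P] L ≃ₐ[P] L ⊗[P] (P ⊗[k] K') :=
    Algebra.TensorProduct.comm P (P ⊗[k] K') L
  let c3 : L ⊗[P] (P ⊗[k] K') ≃ₐ[P] L ⊗[k] K' :=
    Algebra.TensorProduct.cancelBaseChange k P P L K'
  let c4 : L ⊗[k] K' ≃ₐ[k] K' ⊗[k] L := Algebra.TensorProduct.comm k L K'
  let e : (P ⊗[k] K') ⊗[P] L ≃+* K' ⊗[k] L :=
    c2.toRingEquiv.trans (c3.toRingEquiv.trans c4.toRingEquiv)
  have hNP' : GeomIrr.NilPrime ((P ⊗[k] K') ⊗[P] L) := GeomIrr.NilPrime.of_ringEquiv e hNP
  have hmain := core (D := P ⊗[k] K') hNP' (e.symm z) (e.symm w)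
    (by rw [← map_mul, hzw, map_zero])
    (by
      intro h
      exact hw (by simpa using congrArg e h))
  obtain ⟨n, hn⟩ := hmain
  refine ⟨n, ?_⟩
  have h3 : e ((e.symm z) ^ n) = 0 := by rw [hn, map_zero]
  rwa [map_pow, RingEquiv.apply_symm_apply] at h3

end Groth.Agent.Helper8.PrimZD
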