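import Mathlib
import Groth.Prelude.Def_AlgGrp
import Groth.Agent.Helper8.A1Dict

/-!
# Global functions on the base of a principal bundle are the invariant global functions
-/

set_option autoImplicit false
universe u

namespace Groth.Agent.Helper8.PrincTop

open CategoryTheory CategoryTheory.Limits AlgebraicGeometry

section General

variable {GX X Y : Scheme.{u}} (s t : GX ⟶ X) (f : X ⟶ Y) (hsq : IsPullback t s f f)

include hsq in
theorem range_appTop [Flat f] [Surjective f] [QuasiCompact f] :
    Function.Injective f.appTop.hom ∧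
      Set.range f.appTop.hom = {x : Γ(X, ⊤) | t.appTop.hom x = s.appTop.hom x} := by
  haveI : Epi f := Flat.epi_of_flat_of_surjective f
  refine ⟨A1Dict.injective_appTop_of_epi f, ?_⟩
  ext x
  constructor
  · rintro ⟨y, rfl⟩
    show (f.appTop ≫ t.appTop).hom y = (f.appTop ≫ s.appTop).hom y
    rw [← Scheme.Hom.comp_appTop, ← Scheme.Hom.comp_appTop, hsq.w]
  · intro hx
    apply A1Dict.exists_section_of_effectiveEpi f x
    intro Z g₁ g₂ h
    have e1 : hsq.lift g₁ g₂ h ≫ t = g₁ := hsq.lift_fst _ _ _
    have e2 : hsq.lift g₁ g₂ h ≫ s = g₂ := hsq.lift_snd _ _ _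
    have k1 : g₁.appTop = t.appTop ≫ (hsq.lift g₁ g₂ h).appTop := by
      rw [← Scheme.Hom.comp_appTop, e1]
    have k2 : g₂.appTop = s.appTop ≫ (hsq.lift g₁ g₂ h).appTop := by
      rw [← Scheme.Hom.comp_appTop, e2]
    rw [k1, k2]
    exact congrArg (hsq.lift g₁ g₂ h).appTop.hom hx

end General

open MonoidalCategory CartesianMonoidalCategory MonObj in
/-- Main statement (S16127). -/
theorem main (k : Type u) [Field k] [IsAlgClosed k]
    (G X Y : Over (Spec (CommRingCat.of k))) [GrpObj G] [Smooth G.hom] [QuasiCompact G.hom]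
    [IsReduced X.left] [IsSeparated X.hom] [LocallyOfFiniteType X.hom] [QuasiCompact X.hom]
    [IsReduced Y.left] [IsSeparated Y.hom] [LocallyOfFiniteType Y.hom] [QuasiCompact Y.hom]
    (a : AlgGrp.Action G X) (f : X ⟶ Y) [Flat f.left] [Surjective f.left]
    (hsq : IsPullback a.act.left (snd G X).left f.left f.left) :
    Function.Injective (f.left.appTop) ∧
      Set.range (f.left.appTop) =
        {s : Γ(X.left, ⊤) | a.act.left.appTop s = (snd G X).left.appTop s} := by
  have hw : f.left ≫ Y.hom = X.hom := Over.w f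
  haveI : QuasiCompact (f.left ≫ Y.hom) := by rw [hw]; infer_instance
  haveI : QuasiCompact f.left := QuasiCompact.of_comp f.left Y.hom
  exact range_appTop (snd G X).left a.act.left f.left hsq

end Groth.Agent.Helper8.PrincTop
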