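import Mathlib

set_option autoImplicit false

namespace Groth.Agent.Helper8.ProRep

open CategoryTheory CategoryTheory.Limits Opposite

universe u

variable {C : Type u} [SmallCategory C] [HasFiniteLimits C] (F : C ⥤ Type u)

/-- An element `x ∈ F X` is minimal if it does not come from a proper subobject. -/
def IsMinimal (X : C) (x : F.obj X) : Prop :=
  ∀ (W : C) (m : W ⟶ X) [Mono m], (∃ w : F.obj W, F.map m w = x) → IsIso m

variable [PreservesFiniteLimits F]

lemma exists_equalizer_lift {X Y : C} (f g : X ⟶ Y) (x : F.obj X)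
    (hx : F.map f x = F.map g x) :
    ∃ e : F.obj (equalizer f g), F.map (equalizer.ι f g) e = x := by
  let h := isLimitForkMapOfIsLimit F _ (equalizerIsEqualizer f g)
  let h' := (Types.equalizerLimit (g := F.map f) (h := F.map g)).isLimit
  exact ⟨(h'.conePointUniqueUpToIso h).hom ⟨x, hx⟩,
    ConcreteCategory.congr_hom (h'.conePointUniqueUpToIso_hom_comp h .zero) ⟨x, hx⟩⟩

variable {F}

lemma IsMinimal.hom_ext {X : C} {x : F.obj X} (hx : IsMinimal F X x) {Y : C} (f g : X ⟶ Y)
    (h : F.map f x = F.map g x) : f = g := by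
  haveI : IsIso (equalizer.ι f g) := hx _ (equalizer.ι f g) (exists_equalizer_lift F f g x h)
  exact eq_of_epi_equalizer

variable (F)

lemma exists_minimal (hart : ∀ X : C, IsArtinianObject X) (Y : C) (y : F.obj Y) :
    ∃ (Z : C) (m : Z ⟶ Y) (z : F.obj Z), F.map m z = y ∧ IsMinimal F Z z := by
  haveI := hart Y
  have key : ∀ (W : C) (m : W ⟶ Y) [Mono m] (w : F.obj W), F.map m w = y →
      ∃ z : F.obj ((Subobject.mk m : Subobject Y) : C), F.map (Subobject.mk m).arrow z = y := by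
    intro W m _ w hw
    refine ⟨F.map (Subobject.underlyingIso m).inv w, ?_⟩
    rw [← Functor.map_comp_apply, Subobject.underlyingIso_arrow, hw]
  let S : Set (Subobject Y) := {Z | ∃ z : F.obj (Z : C), F.map Z.arrow z = y}
  have hne : S.Nonempty := ⟨Subobject.mk (𝟙 Y), key Y (𝟙 Y) y (by simp)⟩
  obtain ⟨Z, ⟨z, hz⟩, hmin⟩ := wellFounded_lt.has_min S hne
  refine ⟨(Z : C), Z.arrow, z, hz, ?_⟩
  intro W m _ ⟨w, hw⟩
  have hmem : Subobject.mk (m ≫ Z.arrow) ∈ S :=
    key W (m ≫ Z.arrow) w (by rw [Functor.map_comp_apply, hw, hz])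
  have hle : Subobject.mk (m ≫ Z.arrow) ≤ Z := Subobject.mk_le_of_comm m rfl
  have heq : Subobject.mk (m ≫ Z.arrow) = Subobject.mk Z.arrow := by
    rw [Subobject.mk_arrow]
    exact eq_of_le_of_not_lt hle (hmin _ hmem)
  have h1 : (Subobject.isoOfMkEqMk _ _ heq).hom = m := by
    rw [← cancel_mono Z.arrow, Subobject.isoOfMkEqMk_hom, Subobject.ofMkLEMk_comp]
  rw [← h1]
  infer_instance

/-- The type of minimal elements. -/
def MinElt : Type u := {p : Σ X : C, F.obj X // IsMinimal F p.1 p.2}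

instance : Preorder (MinElt F) where
  le p q := ∃ f : p.1.1 ⟶ q.1.1, F.map f p.1.2 = q.1.2
  le_refl p := ⟨𝟙 _, by simp⟩
  le_trans p q r := by
    rintro ⟨f, hf⟩ ⟨g, hg⟩
    exact ⟨f ≫ g, by rw [Functor.map_comp_apply, hf, hg]⟩

lemma le_def (p q : MinElt F) : p ≤ q ↔ ∃ f : p.1.1 ⟶ q.1.1, F.map f p.1.2 = q.1.2 := Iff.rfl

lemma exists_le_le (hart : ∀ X : C, IsArtinianObject X) (p q : MinElt F) :
    ∃ r : MinElt F, r ≤ p ∧ r ≤ q := by
  haveI := Functor.isCofiltered_elements F
  let a : F.Elements := ⟨p.1.1, p.1.2⟩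
  let b : F.Elements := ⟨q.1.1, q.1.2⟩
  obtain ⟨Z, m, z, hz, hmin⟩ := exists_minimal F hart (IsCofiltered.min a b).1 (IsCofiltered.min a b).2
  refine ⟨⟨⟨Z, z⟩, hmin⟩, ⟨m ≫ (IsCofiltered.minToLeft a b).1, ?_⟩,
    ⟨m ≫ (IsCofiltered.minToRight a b).1, ?_⟩⟩
  · show F.map (m ≫ (IsCofiltered.minToLeft a b).1) z = p.1.2
    rw [Functor.map_comp_apply, hz]
    exact (IsCofiltered.minToLeft a b).2
  · show F.map (m ≫ (IsCofiltered.minToRight a b).1) z = q.1.2
    rw [Functor.map_comp_apply, hz]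
    exact (IsCofiltered.minToRight a b).2

lemma nonempty_minElt (hart : ∀ X : C, IsArtinianObject X) : Nonempty (MinElt F) := by
  haveI := Functor.isCofiltered_elements F
  obtain ⟨a⟩ : Nonempty F.Elements := IsCofiltered.nonempty
  obtain ⟨Z, m, z, hz, hmin⟩ := exists_minimal F hart a.1 a.2
  exact ⟨⟨⟨Z, z⟩, hmin⟩⟩

/-- The chosen transition map. -/
noncomputable def trans {p q : MinElt F} (h : p ≤ q) : p.1.1 ⟶ q.1.1 := h.choose

lemma trans_spec {p q : MinElt F} (h : p ≤ q) : F.map (trans F h) p.1.2 = q.1.2 := h.choose_spec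

lemma trans_unique {p q : MinElt F} (h : p ≤ q) (f : p.1.1 ⟶ q.1.1)
    (hf : F.map f p.1.2 = q.1.2) : trans F h = f :=
  p.2.hom_ext _ _ ((trans_spec F h).trans hf.symm)

/-- The diagram of minimal elements. -/
noncomputable def diag : MinElt F ⥤ C where
  obj p := p.1.1
  map {p q} a := trans F (leOfHom a)
  map_id p := trans_unique F _ _ (by simp)
  map_comp {p q r} a b := trans_unique F _ _ (by
    rw [Functor.map_comp_apply, trans_spec, trans_spec])

lemma epi_diag_map {p q : MinElt F} (a : p ⟶ q) : Epi ((diag F).map a) := by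
  constructor
  intro Z u v huv
  have h1 : F.map (trans F (leOfHom a)) p.1.2 = q.1.2 := trans_spec F (leOfHom a)
  have huv' : trans F (leOfHom a) ≫ (u : q.1.1 ⟶ Z) = trans F (leOfHom a) ≫ (v : q.1.1 ⟶ Z) := huv
  refine q.2.hom_ext (u : q.1.1 ⟶ Z) v ?_
  rw [← h1, ← Functor.map_comp_apply, ← Functor.map_comp_apply, huv']

/-- The cocone with point `F`. -/
noncomputable def cocone : Cocone ((diag F).op ⋙ coyoneda) where
  pt := F
  ι :=
    { app := fun j =>
        { app := fun Y => TypeCat.ofHom (fun f : (diag F).obj j.unop ⟶ Y => F.map f j.unop.1.2)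
          naturality := by
            intro Y Y' g
            ext f
            simp }
      naturality := by
        intro i j a
        ext Y f
        have h1 : F.map ((diag F).map a.unop) j.unop.1.2 = i.unop.1.2 :=
          trans_spec F (leOfHom a.unop)
        simp [h1] }

lemma cocone_app_apply (j : (MinElt F)ᵒᵖ) (Y : C) (f : (diag F).obj j.unop ⟶ Y) :
    ((cocone F).ι.app j).app Y f = F.map f j.unop.1.2 := rfl

noncomputable def isColimitCocone (hart : ∀ X : C, IsArtinianObject X) :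
    IsColimit (cocone F) := by
  refine evaluationJointlyReflectsColimits _ (fun Y => ?_)
  refine Types.FilteredColimit.isColimitOf _ _ ?_ ?_
  · intro y
    obtain ⟨Z, m, z, hz, hmin⟩ := exists_minimal F hart Y y
    exact ⟨op ⟨⟨Z, z⟩, hmin⟩, m, hz.symm⟩
  · intro i j f g hfg
    obtain ⟨r, hri, hrj⟩ := exists_le_le F hart i.unop j.unop
    refine ⟨op r, (homOfLE hri).op, (homOfLE hrj).op, ?_⟩
    have hf : F.map (f : i.unop.1.1 ⟶ Y) i.unop.1.2 = F.map (g : j.unop.1.1 ⟶ Y) j.unop.1.2 := hfg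
    have h1 : F.map (trans F hri) r.1.2 = i.unop.1.2 := trans_spec F _
    have h2 : F.map (trans F hrj) r.1.2 = j.unop.1.2 := trans_spec F _
    have key : trans F hri ≫ (f : i.unop.1.1 ⟶ Y) = trans F hrj ≫ (g : j.unop.1.1 ⟶ Y) := by
      apply r.2.hom_ext
      rw [Functor.map_comp_apply, Functor.map_comp_apply, h1, h2]
      exact hf
    exact key

theorem main (hart : ∀ X : C, IsArtinianObject X) :
    ∃ (J : Type u) (_ : SmallCategory J) (_ : IsCofiltered J) (D : J ⥤ C),
      (∀ ⦃j j' : J⦄ (a : j ⟶ j'), Epi (D.map a)) ∧ Nonempty (F ≅ colimit (D.op ⋙ coyoneda)) := by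
  haveI : Nonempty (MinElt F) := nonempty_minElt F hart
  haveI : IsCodirectedOrder (MinElt F) := ⟨fun p q => by
    obtain ⟨r, h1, h2⟩ := exists_le_le F hart p q
    exact ⟨r, h1, h2⟩⟩
  refine ⟨MinElt F, inferInstance, inferInstance, diag F, fun j j' a => epi_diag_map F a, ?_⟩
  exact ⟨(colimit.isoColimitCocone ⟨cocone F, isColimitCocone F hart⟩).symm⟩

end Groth.Agent.Helper8.ProRep
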