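import Mathlib

namespace Groth.Agent.Helper8.ProjCover

universe u

open CategoryTheory CategoryTheory.Limits AlgebraicGeometry

theorem main {R A : Type u} [CommRing R] [CommRing A] [Algebra R A] (𝒜 : ℕ → Submodule R A)
    [GradedAlgebra 𝒜]
    {ι : Type u} (f : ι → A) (hf : ∀ i, ∃ d : ℕ, 0 < d ∧ f i ∈ 𝒜 d) :
    (⨆ i, Proj.basicOpen 𝒜 (f i)) = ⊤ ↔
      (HomogeneousIdeal.irrelevant 𝒜).toIdeal ≤ (Ideal.span (Set.range f)).radical := by
  constructor
  · intro hcov
    have hhom : (Ideal.span (Set.range f)).IsHomogeneous 𝒜 := by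
      apply Ideal.homogeneous_span
      rintro x ⟨i, rfl⟩
      obtain ⟨d, _, hd⟩ := hf i
      exact ⟨d, hd⟩
    rw [hhom.radical_eq]
    apply le_sInf
    rintro J ⟨hJh, hJle, hJp⟩
    by_contra hnot
    -- J gives a point of Proj
    let x₀ : ProjectiveSpectrum 𝒜 := ⟨⟨J, hJh⟩, hJp, fun h => hnot h⟩
    let x : ↥(Proj 𝒜) := x₀
    have hx : x ∈ (⊤ : (Proj 𝒜).Opens) := trivial
    rw [← hcov, TopologicalSpace.Opens.mem_iSup] at hx
    obtain ⟨i, hi⟩ := hx
    rw [Proj.mem_basicOpen] at hi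
    exact hi (hJle (Ideal.subset_span ⟨i, rfl⟩))
  · intro hle
    refine top_le_iff.mp fun x _ => TopologicalSpace.Opens.mem_iSup.mpr ?_
    by_contra! H
    simp only [Proj.mem_basicOpen, not_not] at H
    refine x.not_irrelevant_le (hle.trans ?_)
    have h1 : Ideal.span (Set.range f) ≤ x.asHomogeneousIdeal.toIdeal := by
      rw [Ideal.span_le, Set.range_subset_iff]
      exact H
    exact (Ideal.IsPrime.radical_le_iff x.isPrime).mpr h1

end Groth.Agent.Helper8.ProjCover
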