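import Mathlib
import Groth.Agent.Helper8.ProjMapAff

namespace Groth.Agent.Helper8.ProjDense

universe u

open CategoryTheory CategoryTheory.Limits AlgebraicGeometry HomogeneousLocalization

variable {R A : Type u} [CommRing R] [CommRing A] [Algebra R A] (𝒜 : ℕ → Submodule R A)
  [GradedAlgebra 𝒜]

/-- a homogeneous element of positive degree lies in the irrelevant ideal -/
theorem mem_irrelevant {f : A} {d : ℕ} (hd : 0 < d) (hf : f ∈ 𝒜 d) :
    f ∈ HomogeneousIdeal.irrelevant 𝒜 := by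
  rw [HomogeneousIdeal.mem_irrelevant_iff, GradedRing.proj_apply,
    DirectSum.decompose_of_mem_ne 𝒜 hf hd.ne']

/-- `D_+(f)` is nonempty if `f` is homogeneous of positive degree and not nilpotent. -/
theorem basicOpen_nonempty {f : A} {d : ℕ} (hd : 0 < d) (hf : f ∈ 𝒜 d) (hnil : ¬ IsNilpotent f) :
    ∃ z : Proj 𝒜, z ∈ Proj.basicOpen 𝒜 f := by
  have hdisj : Disjoint ((⊥ : Ideal A) : Set A) (Submonoid.powers f) := by
    rw [Set.disjoint_left]
    rintro a ha ⟨n, rfl⟩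
    exact hnil ⟨n, ha⟩
  obtain ⟨P, hP, -, hPf⟩ := Ideal.exists_le_prime_disjoint (⊥ : Ideal A) (Submonoid.powers f) hdisj
  have hfP : f ∉ P := fun h => Set.disjoint_left.mp hPf h (Submonoid.mem_powers f)
  have hfcore : f ∉ (P.homogeneousCore 𝒜).toIdeal :=
    fun h => hfP (Ideal.toIdeal_homogeneousCore_le 𝒜 P h)
  let z₀ : ProjectiveSpectrum 𝒜 := ⟨P.homogeneousCore 𝒜, hP.homogeneousCore,
    fun h => hfcore (h (mem_irrelevant 𝒜 hd hf))⟩
  let z : ↥(Proj 𝒜) := z₀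
  exact ⟨z, hfcore⟩

theorem main
    {B : Type u} [CommRing B] [Algebra R B] (ℬ : ℕ → Submodule R B) [GradedAlgebra ℬ]
    (φ : 𝒜 →+*ᵍ ℬ) (hφ : HomogeneousIdeal.irrelevant ℬ ≤ (HomogeneousIdeal.irrelevant 𝒜).map φ)
    (hker : ∀ a : A, φ a = 0 → IsNilpotent a) :
    DenseRange (Proj.map φ hφ).base := by
  rw [DenseRange, dense_iff_inter_open]
  intro U hU ⟨y, hy⟩
  -- basic open around y
  obtain ⟨_, ⟨a, rfl⟩, hya, haU'⟩ :=
    TopologicalSpace.Opens.isBasis_iff_nbhd.mp (Proj.isBasis_basicOpen 𝒜)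
      (show y ∈ (⟨U, hU⟩ : (Proj 𝒜).Opens) from hy)
  have haU : (Proj.basicOpen 𝒜 a : Set (Proj 𝒜)) ⊆ U := haU'
  rw [Proj.basicOpen_eq_iSup_proj] at hya
  obtain ⟨i, hi⟩ := TopologicalSpace.Opens.mem_iSup.mp hya
  obtain ⟨t, d, hd, ht, hyt⟩ := ProjMapAff.exists_basicOpen 𝒜 y
  set s := GradedRing.proj 𝒜 i a * t with hs
  have hsdeg : s ∈ 𝒜 (i + d) :=
    SetLike.mul_mem_graded (by rw [GradedRing.proj_apply]; exact SetLike.coe_mem _) ht
  have hys : y ∈ Proj.basicOpen 𝒜 s := by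
    rw [hs, Proj.basicOpen_mul]
    exact ⟨hi, hyt⟩
  have hsU : (Proj.basicOpen 𝒜 s : Set (Proj 𝒜)) ⊆ U := by
    intro w hw
    apply haU
    have hw' : w ∈ Proj.basicOpen 𝒜 s := hw
    rw [hs, Proj.basicOpen_mul] at hw'
    have h1 : w ∈ ⨆ i, Proj.basicOpen 𝒜 (GradedRing.proj 𝒜 i a) :=
      TopologicalSpace.Opens.mem_iSup.mpr ⟨i, hw'.1⟩
    rw [← Proj.basicOpen_eq_iSup_proj] at h1
    exact h1
  -- s is not nilpotent
  have hsnil : ¬ IsNilpotent s := by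
    rintro ⟨n, hn⟩
    rw [Proj.mem_basicOpen] at hys
    apply hys
    have : s ^ n ∈ y.asHomogeneousIdeal.toIdeal := by rw [hn]; exact zero_mem _
    exact y.isPrime.mem_of_pow_mem n this
  have hφsnil : ¬ IsNilpotent (φ s) := by
    rintro ⟨n, hn⟩
    rw [← map_pow] at hn
    obtain ⟨m, hm⟩ := hker _ hn
    exact hsnil ⟨n * m, by rw [pow_mul]; exact hm⟩
  obtain ⟨z, hz⟩ := basicOpen_nonempty ℬ (by omega : 0 < i + d) (φ.2 hsdeg) hφsnil
  refine ⟨(Proj.map φ hφ).base z, hsU ?_, ⟨z, rfl⟩⟩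
  have : z ∈ (Proj.map φ hφ) ⁻¹ᵁ Proj.basicOpen 𝒜 s := by
    rw [Proj.map_preimage_basicOpen]; exact hz
  exact this

end Groth.Agent.Helper8.ProjDense
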