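import Mathlib

namespace Groth.Agent.Helper8.ProjIrr

universe u

open ProjectiveSpectrum

variable {R A : Type u} [CommRing R] [CommRing A] [Algebra R A] (𝒜 : ℕ → Submodule R A)
  [GradedAlgebra 𝒜]

/-- a relevant prime misses some element of the irrelevant ideal -/
theorem exists_irrelevant_notMem (x : ProjectiveSpectrum 𝒜) :
    ∃ t ∈ (HomogeneousIdeal.irrelevant 𝒜).toIdeal, t ∉ x.asHomogeneousIdeal.toIdeal := by
  by_contra h
  push_neg at h
  exact x.not_irrelevant_le (fun t ht => h t ht)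

theorem main (Z : Set (ProjectiveSpectrum 𝒜)) (hZ : IsClosed Z) :
    IsIrreducible Z ↔
      (¬ (HomogeneousIdeal.irrelevant 𝒜).toIdeal ≤ (ProjectiveSpectrum.vanishingIdeal Z).toIdeal ∧
        ∀ f ∈ (HomogeneousIdeal.irrelevant 𝒜).toIdeal, ∀ g ∈ (HomogeneousIdeal.irrelevant 𝒜).toIdeal,
          f * g ∈ (ProjectiveSpectrum.vanishingIdeal Z).toIdeal →
            f ∈ (ProjectiveSpectrum.vanishingIdeal Z).toIdeal ∨ g ∈ (ProjectiveSpectrum.vanishingIdeal Z).toIdeal) := by
  have hmem : ∀ f : A, f ∈ (ProjectiveSpectrum.vanishingIdeal Z).toIdeal ↔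
      ∀ x ∈ Z, f ∈ x.asHomogeneousIdeal.toIdeal := fun f => mem_vanishingIdeal Z f
  constructor
  · rintro ⟨⟨x, hx⟩, hpre⟩
    refine ⟨?_, ?_⟩
    · intro hle
      obtain ⟨t, ht, htx⟩ := exists_irrelevant_notMem 𝒜 x
      exact htx ((hmem t).mp (hle ht) x hx)
    · intro f _ g _ hfg
      rw [isPreirreducible_iff_isClosed_union_isClosed] at hpre
      have hcov : Z ⊆ zeroLocus 𝒜 {f} ∪ zeroLocus 𝒜 {g} := by
        intro y hy
        have h1 := (hmem _).mp hfg y hy
        rcases y.isPrime.mem_or_mem h1 with h | h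
        · left
          rw [mem_zeroLocus, Set.singleton_subset_iff]; exact h
        · right
          rw [mem_zeroLocus, Set.singleton_subset_iff]; exact h
      rcases hpre _ _ (isClosed_zeroLocus 𝒜 _) (isClosed_zeroLocus 𝒜 _) hcov with h | h
      · left
        rw [hmem]
        intro y hy
        have := h hy
        rw [mem_zeroLocus, Set.singleton_subset_iff] at this
        exact this
      · right
        rw [hmem]
        intro y hy
        have := h hy
        rw [mem_zeroLocus, Set.singleton_subset_iff] at this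
        exact this
  · rintro ⟨hne, hprime⟩
    refine ⟨?_, ?_⟩
    · by_contra hempty
      rw [Set.not_nonempty_iff_eq_empty] at hempty
      apply hne
      intro t _
      rw [hmem]
      intro y hy
      rw [hempty] at hy
      exact absurd hy (Set.notMem_empty y)
    · rw [isPreirreducible_iff_isClosed_union_isClosed]
      intro Z₁ Z₂ hZ₁ hZ₂ hcov
      obtain ⟨s₁, rfl⟩ := (isClosed_iff_zeroLocus 𝒜 Z₁).mp hZ₁
      obtain ⟨s₂, rfl⟩ := (isClosed_iff_zeroLocus 𝒜 Z₂).mp hZ₂
      by_contra hcon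
      push_neg at hcon
      obtain ⟨h1, h2⟩ := hcon
      obtain ⟨x₁, hx₁Z, hx₁⟩ := Set.not_subset.mp h1
      obtain ⟨x₂, hx₂Z, hx₂⟩ := Set.not_subset.mp h2
      rw [mem_zeroLocus, Set.not_subset] at hx₁ hx₂
      obtain ⟨f₁, hf₁s, hf₁x⟩ := hx₁
      obtain ⟨f₂, hf₂s, hf₂x⟩ := hx₂
      obtain ⟨t₁, ht₁, ht₁x⟩ := exists_irrelevant_notMem 𝒜 x₁
      obtain ⟨t₂, ht₂, ht₂x⟩ := exists_irrelevant_notMem 𝒜 x₂
      have hprod : (f₁ * t₁) * (f₂ * t₂) ∈ (ProjectiveSpectrum.vanishingIdeal Z).toIdeal := by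
        rw [hmem]
        intro y hy
        rcases hcov hy with h | h
        · rw [mem_zeroLocus] at h
          have : f₁ ∈ y.asHomogeneousIdeal.toIdeal := h hf₁s
          exact Ideal.mul_mem_right _ _ (Ideal.mul_mem_right _ _ this)
        · rw [mem_zeroLocus] at h
          have : f₂ ∈ y.asHomogeneousIdeal.toIdeal := h hf₂s
          exact Ideal.mul_mem_left _ _ (Ideal.mul_mem_right _ _ this)
      rcases hprime _ (Ideal.mul_mem_left _ _ ht₁) _ (Ideal.mul_mem_left _ _ ht₂) hprod with h | h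
      · have := (hmem _).mp h x₁ hx₁Z
        rcases x₁.isPrime.mem_or_mem this with h' | h'
        · exact hf₁x h'
        · exact ht₁x h'
      · have := (hmem _).mp h x₂ hx₂Z
        rcases x₂.isPrime.mem_or_mem this with h' | h'
        · exact hf₂x h'
        · exact ht₂x h'

end Groth.Agent.Helper8.ProjIrr
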