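import Mathlib

namespace Groth.Agent.Helper8.ProjPatch

open TensorProduct

universe u v w

variable {R : Type u} [CommRing R]

/-- Lifting property for modules killed by `I`, using projectivity of `R/I ⊗ P` over `R/I`. -/
theorem lift_of_killed (I : Ideal R) {P : Type v} [AddCommGroup P] [Module R P]
    (hP : Module.Projective (R ⧸ I) ((R ⧸ I) ⊗[R] P))
    {M : Type w} {N : Type w} [AddCommGroup M] [Module R M] [AddCommGroup N] [Module R N]
    (hM : ∀ a ∈ I, ∀ m : M, a • m = 0)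
    (f : M →ₗ[R] N) (hf : Function.Surjective f) (g : P →ₗ[R] N) :
    ∃ h : P →ₗ[R] M, f ∘ₗ h = g := by
  have hN : ∀ a ∈ I, ∀ n : N, a • n = 0 := by
    intro a ha n
    obtain ⟨m, rfl⟩ := hf n
    rw [← map_smul, hM a ha m, map_zero]
  have hM' : Module.IsTorsionBySet R M I := fun x a => hM a.1 a.2 x
  have hN' : Module.IsTorsionBySet R N I := fun x a => hN a.1 a.2 x
  letI : Module (R ⧸ I) M := Module.IsTorsionBySet.module hM'
  letI : Module (R ⧸ I) N := Module.IsTorsionBySet.module hN'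
  let f' : M →ₗ[R ⧸ I] N :=
    { toFun := f
      map_add' := f.map_add
      map_smul' := by
        intro c m
        obtain ⟨b, rfl⟩ := Ideal.Quotient.mk_surjective c
        change f (b • m) = b • f m
        exact f.map_smul b m }
  let g' : (R ⧸ I) ⊗[R] P →ₗ[R ⧸ I] N := LinearMap.liftBaseChange (R ⧸ I) g
  obtain ⟨h', hh'⟩ := Module.projective_lifting_property f' g' hf
  refine ⟨(h'.restrictScalars R) ∘ₗ (TensorProduct.mk R (R ⧸ I) P 1), ?_⟩
  ext p
  have := congrArg (fun φ : (R ⧸ I) ⊗[R] P →ₗ[R ⧸ I] N => φ (1 ⊗ₜ p)) hh'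
  simpa [f', g'] using this

theorem smul_eq_zero_of_mem (I J : Ideal R) (hIJ : I ⊓ J = ⊥) {N : Type w} [AddCommGroup N] [Module R N]
    {a : R} (ha : a ∈ I) {y : N} (hy : y ∈ (J • ⊤ : Submodule R N)) : a • y = 0 := by
  refine Submodule.smul_induction_on hy (fun b hb n _ => ?_) (fun x y hx hy => ?_)
  · have : a * b ∈ I ⊓ J := ⟨Ideal.mul_mem_right _ _ ha, Ideal.mul_mem_left _ _ hb⟩
    rw [hIJ, Ideal.mem_bot] at this
    rw [smul_smul, this, zero_smul]
  · rw [smul_add, hx, hy, add_zero]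

theorem quot_killed (J : Ideal R) {N : Type w} [AddCommGroup N] [Module R N]
    (S : Submodule R N) (hS : (J • ⊤ : Submodule R N) ≤ S) :
    ∀ a ∈ J, ∀ m : N ⧸ S, a • m = 0 := by
  intro a ha m
  obtain ⟨n, rfl⟩ := Submodule.mkQ_surjective _ m
  rw [← map_smul, Submodule.mkQ_apply, Submodule.Quotient.mk_eq_zero]
  exact hS (Submodule.smul_mem_smul ha Submodule.mem_top)

theorem map_killed (J : Ideal R) {N : Type w} {M : Type v} [AddCommGroup N] [Module R N]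
    [AddCommGroup M] [Module R M] (hM : ∀ a ∈ J, ∀ m : M, a • m = 0) (σ : N →ₗ[R] M)
    {x : N} (hx : x ∈ (J • ⊤ : Submodule R N)) : σ x = 0 := by
  refine Submodule.smul_induction_on hx (fun b hb n _ => ?_) (fun x y hx hy => ?_)
  · rw [map_smul, hM b hb]
  · rw [map_add, hx, hy, add_zero]

theorem smul_top_eq_map (J : Ideal R) {F : Type v} {P : Type w} [AddCommGroup F] [Module R F]
    [AddCommGroup P] [Module R P] (π : F →ₗ[R] P) (hπ : Function.Surjective π) :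
    (J • ⊤ : Submodule R P) = Submodule.map π (J • ⊤) := by
  rw [Submodule.map_smul'', Submodule.map_top, LinearMap.range_eq_top.mpr hπ]

theorem split_of (I J : Ideal R) (hIJ : I ⊓ J = ⊥) {P : Type v} [AddCommGroup P] [Module R P]
    (hI : Module.Projective (R ⧸ I) ((R ⧸ I) ⊗[R] P))
    (hJ : Module.Projective (R ⧸ J) ((R ⧸ J) ⊗[R] P))
    {F : Type v} [AddCommGroup F] [Module R F] (π : F →ₗ[R] P) (hπ : Function.Surjective π)
    (hF : (I • ⊤ : Submodule R F) ⊓ (J • ⊤) = ⊥) :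
    ∃ s : P →ₗ[R] F, π ∘ₗ s = LinearMap.id := by
  obtain ⟨IF, hIF⟩ : ∃ S : Submodule R F, S = I • ⊤ := ⟨_, rfl⟩
  obtain ⟨JF, hJF⟩ : ∃ S : Submodule R F, S = J • ⊤ := ⟨_, rfl⟩
  obtain ⟨IP, hIP⟩ : ∃ S : Submodule R P, S = I • ⊤ := ⟨_, rfl⟩
  obtain ⟨JP, hJP⟩ : ∃ S : Submodule R P, S = J • ⊤ := ⟨_, rfl⟩
  rw [← hIF, ← hJF] at hF
  have hIPmap : IP = Submodule.map π IF := by rw [hIP, hIF]; exact smul_top_eq_map I π hπ
  have hJPmap : JP = Submodule.map π JF := by rw [hJP, hJF]; exact smul_top_eq_map J π hπ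
  have hIle : IF ≤ IP.comap π := by
    rw [← Submodule.map_le_iff_le_comap]; exact hIPmap.ge
  have hJle : JF ≤ JP.comap π := by
    rw [← Submodule.map_le_iff_le_comap]; exact hJPmap.ge
  have hIJle : IF ⊔ JF ≤ (IP ⊔ JP).comap π :=
    sup_le (hIle.trans (Submodule.comap_mono le_sup_left))
      (hJle.trans (Submodule.comap_mono le_sup_right))
  -- killed
  have kIF : ∀ a ∈ I, ∀ m : F ⧸ IF, a • m = 0 := quot_killed I IF hIF.ge
  have kJF : ∀ a ∈ J, ∀ m : F ⧸ JF, a • m = 0 := quot_killed J JF hJF.ge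
  -- σ₂
  have hsurjJ : Function.Surjective (Submodule.mapQ JF JP π hJle) := by
    intro n
    obtain ⟨p, rfl⟩ := Submodule.mkQ_surjective _ n
    obtain ⟨φ, rfl⟩ := hπ p
    exact ⟨Submodule.mkQ JF φ, by simp⟩
  obtain ⟨σ₂, hσ₂⟩ := lift_of_killed J hJ kJF (Submodule.mapQ JF JP π hJle) hsurjJ
    (Submodule.mkQ JP)
  have hσ₂' : ∀ p, Submodule.mapQ JF JP π hJle (σ₂ p) = Submodule.mkQ JP p :=
    fun p => congrArg (fun φ : P →ₗ[R] P ⧸ JP => φ p) hσ₂
  -- the target of the second lifting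
  let r₁ : P ⧸ IP →ₗ[R] P ⧸ (IP ⊔ JP) := Submodule.mapQ IP (IP ⊔ JP) LinearMap.id
    (by rw [Submodule.comap_id]; exact le_sup_left)
  let r₂ : P ⧸ JP →ₗ[R] P ⧸ (IP ⊔ JP) := Submodule.mapQ JP (IP ⊔ JP) LinearMap.id
    (by rw [Submodule.comap_id]; exact le_sup_right)
  let q₁ : F ⧸ IF →ₗ[R] F ⧸ (IF ⊔ JF) := Submodule.mapQ IF (IF ⊔ JF) LinearMap.id
    (by rw [Submodule.comap_id]; exact le_sup_left)
  let q₂ : F ⧸ JF →ₗ[R] F ⧸ (IF ⊔ JF) := Submodule.mapQ JF (IF ⊔ JF) LinearMap.id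
    (by rw [Submodule.comap_id]; exact le_sup_right)
  let πIJ : F ⧸ (IF ⊔ JF) →ₗ[R] P ⧸ (IP ⊔ JP) := Submodule.mapQ (IF ⊔ JF) (IP ⊔ JP) π hIJle
  let πI : F ⧸ IF →ₗ[R] P ⧸ IP := Submodule.mapQ IF IP π hIle
  let N₁ : Submodule R ((P ⧸ IP) × (F ⧸ (IF ⊔ JF))) :=
    LinearMap.eqLocus (r₁ ∘ₗ LinearMap.fst R _ _) (πIJ ∘ₗ LinearMap.snd R _ _)
  have hcomm1 : ∀ x : F ⧸ IF, r₁ (πI x) = πIJ (q₁ x) := by
    intro x
    obtain ⟨φ, rfl⟩ := Submodule.mkQ_surjective _ x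
    simp [r₁, πI, πIJ, q₁]
  have hcomm2 : ∀ x : F ⧸ JF, r₂ (Submodule.mapQ JF JP π hJle x) = πIJ (q₂ x) := by
    intro x
    obtain ⟨φ, rfl⟩ := Submodule.mkQ_surjective _ x
    simp [r₂, πIJ, q₂]
  let f₁ : F ⧸ IF →ₗ[R] N₁ := (πI.prod q₁).codRestrict N₁ (fun x => by
    change r₁ (πI x) = πIJ (q₁ x)
    exact hcomm1 x)
  let g₁ : P →ₗ[R] N₁ := ((Submodule.mkQ IP).prod (q₂ ∘ₗ σ₂)).codRestrict N₁ (fun p => by
    change r₁ (Submodule.mkQ IP p) = πIJ (q₂ (σ₂ p))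
    rw [← hcomm2, hσ₂']
    simp [r₁, r₂])
  have hsurj1 : Function.Surjective f₁ := by
    rintro ⟨⟨pb, φb⟩, hmem⟩
    obtain ⟨p, rfl⟩ := Submodule.mkQ_surjective _ pb
    obtain ⟨φ, rfl⟩ := Submodule.mkQ_surjective _ φb
    have h1 : r₁ (Submodule.mkQ IP p) = πIJ (Submodule.mkQ (IF ⊔ JF) φ) := hmem
    have h2 : π φ - p ∈ IP ⊔ JP := by
      have : Submodule.mkQ (IP ⊔ JP) p = Submodule.mkQ (IP ⊔ JP) (π φ) := by
        simpa [r₁, πIJ] using h1
      rw [← Submodule.Quotient.mk_eq_zero, Submodule.Quotient.mk_sub, sub_eq_zero]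
      exact this.symm
    obtain ⟨u, hu, v, hv, huv⟩ := Submodule.mem_sup.mp h2
    rw [hJPmap] at hv
    obtain ⟨v', hv', rfl⟩ := hv
    refine ⟨Submodule.mkQ IF (φ - v'), ?_⟩
    apply Subtype.ext
    change (πI (Submodule.mkQ IF (φ - v')), q₁ (Submodule.mkQ IF (φ - v'))) = _
    refine Prod.ext ?_ ?_
    · change πI (Submodule.mkQ IF (φ - v')) = Submodule.mkQ IP p
      simp only [πI, Submodule.mkQ_apply, Submodule.mapQ_apply, map_sub]
      rw [← Submodule.Quotient.mk_sub, Submodule.Quotient.eq]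
      have : π φ - π v' - p = u := by
        calc π φ - π v' - p = (π φ - p) - π v' := by abel
          _ = u := by rw [← huv]; abel
      rw [this]; exact hu
    · change q₁ (Submodule.mkQ IF (φ - v')) = Submodule.mkQ (IF ⊔ JF) φ
      simp only [q₁, Submodule.mkQ_apply, Submodule.mapQ_apply, LinearMap.id_coe, id_eq]
      rw [Submodule.Quotient.eq]
      have : φ - v' - φ = -v' := by abel
      rw [this]
      exact Submodule.neg_mem _ (Submodule.mem_sup_right hv')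
  obtain ⟨σ₁, hσ₁⟩ := lift_of_killed I hI kIF f₁ hsurj1 g₁
  have hσ₁a : ∀ p, πI (σ₁ p) = Submodule.mkQ IP p := by
    intro p
    have := congrArg (fun φ : P →ₗ[R] N₁ => ((φ p : N₁) : (P ⧸ IP) × (F ⧸ (IF ⊔ JF))).1) hσ₁
    exact this
  have hσ₁b : ∀ p, q₁ (σ₁ p) = q₂ (σ₂ p) := by
    intro p
    have := congrArg (fun φ : P →ₗ[R] N₁ => ((φ p : N₁) : (P ⧸ IP) × (F ⧸ (IF ⊔ JF))).2) hσ₁
    exact this
  -- gluing
  let Φ : F →ₗ[R] (F ⧸ IF) × (F ⧸ JF) := (Submodule.mkQ IF).prod (Submodule.mkQ JF)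
  have hΦ : Function.Injective Φ := by
    rw [← LinearMap.ker_eq_bot, LinearMap.ker_prod, Submodule.ker_mkQ, Submodule.ker_mkQ, hF]
  have hrange : ∀ p, (σ₁.prod σ₂) p ∈ LinearMap.range Φ := by
    intro p
    obtain ⟨φ₁, h1⟩ := Submodule.mkQ_surjective _ (σ₁ p)
    obtain ⟨φ₂, h2⟩ := Submodule.mkQ_surjective _ (σ₂ p)
    have h3 : φ₁ - φ₂ ∈ IF ⊔ JF := by
      have := hσ₁b p
      rw [← h1, ← h2] at this
      simp only [q₁, q₂, Submodule.mkQ_apply, Submodule.mapQ_apply, LinearMap.id_coe, id_eq] at this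
      rwa [Submodule.Quotient.eq] at this
    obtain ⟨u, hu, v, hv, huv⟩ := Submodule.mem_sup.mp h3
    refine ⟨φ₁ - u, ?_⟩
    change (Submodule.mkQ IF (φ₁ - u), Submodule.mkQ JF (φ₁ - u)) = (σ₁ p, σ₂ p)
    refine Prod.ext ?_ ?_
    · change Submodule.mkQ IF (φ₁ - u) = σ₁ p
      rw [← h1, Submodule.mkQ_apply, Submodule.mkQ_apply, Submodule.Quotient.eq]
      have : φ₁ - u - φ₁ = -u := by abel
      rw [this]; exact Submodule.neg_mem _ hu
    · change Submodule.mkQ JF (φ₁ - u) = σ₂ p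
      rw [← h2, Submodule.mkQ_apply, Submodule.mkQ_apply, Submodule.Quotient.eq]
      have : φ₁ - u - φ₂ = v := by
        calc φ₁ - u - φ₂ = (φ₁ - φ₂) - u := by abel
          _ = v := by rw [← huv]; abel
      rw [this]; exact hv
  let s : P →ₗ[R] F := (LinearEquiv.ofInjective Φ hΦ).symm.toLinearMap ∘ₗ
    (σ₁.prod σ₂).codRestrict (LinearMap.range Φ) hrange
  have hs : ∀ p, Φ (s p) = (σ₁ p, σ₂ p) := by
    intro p
    have := (LinearEquiv.ofInjective Φ hΦ).apply_symm_apply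
      ((σ₁.prod σ₂).codRestrict (LinearMap.range Φ) hrange p)
    have h2 := congrArg Subtype.val this
    rw [LinearEquiv.ofInjective_apply] at h2
    exact h2
  have hs1 : ∀ p, Submodule.mkQ IF (s p) = σ₁ p := fun p => congrArg Prod.fst (hs p)
  have hs2 : ∀ p, Submodule.mkQ JF (s p) = σ₂ p := fun p => congrArg Prod.snd (hs p)
  -- key: elements of IP are images of elements of IF compatible with σ₂
  have key : ∀ x ∈ IP, ∃ ψ ∈ IF, Submodule.mkQ JF ψ = σ₂ x ∧ π ψ = x := by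
    intro x hx
    rw [hIP] at hx
    refine Submodule.smul_induction_on hx (fun a ha p _ => ?_) (fun x y hx hy => ?_)
    · obtain ⟨φ, hφ⟩ := Submodule.mkQ_surjective _ (σ₂ p)
      refine ⟨a • φ, ?_, ?_, ?_⟩
      · rw [hIF]; exact Submodule.smul_mem_smul ha Submodule.mem_top
      · rw [map_smul, hφ, map_smul]
      · have h4 : π φ - p ∈ JP := by
          have := hσ₂' p
          rw [← hφ] at this
          simp only [Submodule.mkQ_apply, Submodule.mapQ_apply] at this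
          rwa [Submodule.Quotient.eq] at this
        have h5 : a • (π φ - p) = 0 := by
          rw [hJP] at h4
          exact smul_eq_zero_of_mem I J hIJ ha h4
        rw [map_smul]
        rw [smul_sub, sub_eq_zero] at h5
        exact h5
    · obtain ⟨ψ₁, h1, h2, h3⟩ := hx
      obtain ⟨ψ₂, h1', h2', h3'⟩ := hy
      exact ⟨ψ₁ + ψ₂, Submodule.add_mem _ h1 h1', by rw [map_add, map_add, h2, h2'],
        by rw [map_add, h3, h3']⟩
  have hzero : ∀ x, x ∈ IP → x ∈ JP → x = 0 := by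
    intro x hxI hxJ
    obtain ⟨ψ, hψI, hψ2, hψ3⟩ := key x hxI
    have h1 : σ₂ x = 0 := by
      rw [hJP] at hxJ
      exact map_killed J kJF σ₂ hxJ
    rw [h1, Submodule.mkQ_apply, Submodule.Quotient.mk_eq_zero] at hψ2
    have : ψ ∈ IF ⊓ JF := ⟨hψI, hψ2⟩
    rw [hF, Submodule.mem_bot] at this
    rw [← hψ3, this, map_zero]
  refine ⟨s, ?_⟩
  ext p
  change π (s p) = p
  rw [← sub_eq_zero]
  apply hzero
  · have h1 := hσ₁a p
    rw [← hs1 p] at h1
    simp only [πI, Submodule.mkQ_apply, Submodule.mapQ_apply] at h1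
    rwa [Submodule.Quotient.eq] at h1
  · have h1 := hσ₂' p
    rw [← hs2 p] at h1
    simp only [Submodule.mkQ_apply, Submodule.mapQ_apply] at h1
    rwa [Submodule.Quotient.eq] at h1

theorem finsupp_inf (I J : Ideal R) (hIJ : I ⊓ J = ⊥) (X : Type v) :
    (I • ⊤ : Submodule R (X →₀ R)) ⊓ (J • ⊤) = ⊥ := by
  have key : ∀ (K : Ideal R) (ψ : X →₀ R), ψ ∈ (K • ⊤ : Submodule R (X →₀ R)) →
      ∀ x, ψ x ∈ K := by
    intro K ψ hψ
    refine Submodule.smul_induction_on hψ (fun a ha n _ x => ?_) (fun a b ha hb x => ?_)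
    · rw [Finsupp.smul_apply, smul_eq_mul]; exact Ideal.mul_mem_right _ _ ha
    · rw [Finsupp.add_apply]; exact Ideal.add_mem _ (ha x) (hb x)
  rw [eq_bot_iff]
  rintro ψ ⟨h1, h2⟩
  rw [Submodule.mem_bot]
  ext x
  have : ψ x ∈ I ⊓ J := ⟨key I ψ h1 x, key J ψ h2 x⟩
  rw [hIJ, Ideal.mem_bot] at this
  simpa using this

theorem main {R : Type u} [CommRing R] (I J : Ideal R) (hIJ : I ⊓ J = ⊥) (P : Type u)
    [AddCommGroup P] [Module R P]
    (hI : Module.Projective (R ⧸ I) ((R ⧸ I) ⊗[R] P))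
    (hJ : Module.Projective (R ⧸ J) ((R ⧸ J) ⊗[R] P)) : Module.Projective R P := by
  obtain ⟨s, hs⟩ := split_of I J hIJ hI hJ (Finsupp.linearCombination R (id : P → P))
    (fun p => ⟨Finsupp.single p 1, by simp⟩) (finsupp_inf I J hIJ P)
  exact Module.Projective.of_split s (Finsupp.linearCombination R id) hs

end Groth.Agent.Helper8.ProjPatch
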