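import Mathlib
import Groth.Prelude

/-!
# PruA: ring-theoretic preliminaries for finite type algebras over Prüfer domains

* `LocDiv R`: local total divisibility at every prime (true for Prüfer domains).
* total order of the primes below a prime, the height of a cover.
* going-down for algebras over such a ring (between two given primes).
* a ring with a strictly decreasing "dimension function" dropping by one along covers is
  catenary.
* finite type algebras over a ring of finite Krull dimension have finite Krull dimension.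
-/

set_option autoImplicit false
universe u

namespace Groth.Agent.Helper8.Pru

/-- local total divisibility at every prime (holds in Prüfer domains) -/
def LocDiv (R : Type*) [CommRing R] : Prop :=
  ∀ (q : Ideal R) [q.IsPrime] (a b : R),
    (∃ s ∉ q, ∃ u : R, s * b = u * a) ∨ (∃ s ∉ q, ∃ u : R, s * a = u * b)

section Base

variable {R : Type*} [CommRing R] (hval : LocDiv R)
include hval

/-- primes below a given prime are totally ordered -/
theorem le_total_of_le (q y p : Ideal R) [q.IsPrime] [y.IsPrime] [p.IsPrime] (hy : y ≤ q)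
    (hp : p ≤ q) : y ≤ p ∨ p ≤ y := by
  by_contra hcon
  push_neg at hcon
  obtain ⟨h1, h2⟩ := hcon
  obtain ⟨a, hay, hap⟩ := SetLike.not_le_iff_exists.1 h1
  obtain ⟨b, hbp, hby⟩ := SetLike.not_le_iff_exists.1 h2
  rcases hval q a b with ⟨s, hs, u, hsu⟩ | ⟨s, hs, u, hsu⟩
  · have : s * b ∈ y := by rw [hsu]; exact y.mul_mem_left _ hay
    rcases Ideal.IsPrime.mem_or_mem inferInstance this with h | h
    · exact hs (hy h)
    · exact hby h
  · have : s * a ∈ p := by rw [hsu]; exact p.mul_mem_left _ hbp
    rcases Ideal.IsPrime.mem_or_mem inferInstance this with h | h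
    · exact hs (hp h)
    · exact hap h

/-- the height of a cover -/
theorem height_le_succ (p q : Ideal R) [hp : p.IsPrime] [hq : q.IsPrime] (hpq : p ≤ q)
    (hno : ∀ y : Ideal R, y.IsPrime → p < y → y < q → False) : q.height ≤ p.height + 1 := by
  have h1 := PrimeSpectrum.height_eq_orderHeight (⟨q, hq⟩ : PrimeSpectrum R)
  have h2 := PrimeSpectrum.height_eq_orderHeight (⟨p, hp⟩ : PrimeSpectrum R)
  change q.height = _ at h1
  change p.height = _ at h2
  rw [h1, h2, Order.height_eq_iSup_lt_height]
  refine iSup₂_le fun y hy => ?_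
  gcongr
  haveI := y.2
  have hyq : y.asIdeal ≤ q := hy.le
  rcases le_total_of_le hval q y.asIdeal p hyq hpq with h | h
  · exact h
  · rcases eq_or_lt_of_le h with h' | h'
    · exact le_of_eq (PrimeSpectrum.ext h'.symm)
    · exact (hno y.asIdeal y.2 h' hy).elim

section GD

variable {S : Type*} [CommRing S] [Algebra R S]

theorem exists_loc_principal (q p' : Ideal R) [q.IsPrime] (z : S)
    (hz : z ∈ p'.map (algebraMap R S)) :
    ∃ u ∉ q, ∃ c ∈ p', ∃ b' : S, algebraMap R S u * z = algebraMap R S c * b' := by
  have h1 : (1 : R) ∉ q := fun h => (Ideal.IsPrime.ne_top inferInstance)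
    ((Ideal.eq_top_iff_one q).2 h)
  unfold Ideal.map at hz
  induction hz using Submodule.span_induction with
  | mem x hx =>
    obtain ⟨a, ha, rfl⟩ := hx
    exact ⟨1, h1, a, ha, 1, by simp⟩
  | zero => exact ⟨1, h1, 0, p'.zero_mem, 0, by simp⟩
  | add x y _ _ hx hy =>
    obtain ⟨u1, hu1, c1, hc1, b1, e1⟩ := hx
    obtain ⟨u2, hu2, c2, hc2, b2, e2⟩ := hy
    rcases hval q c1 c2 with ⟨s, hs, v, hsv⟩ | ⟨s, hs, v, hsv⟩
    · refine ⟨u1 * u2 * s, ?_, c1, hc1,
        algebraMap R S (u2 * s) * b1 + algebraMap R S (u1 * v) * b2, ?_⟩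
      · intro h
        rcases Ideal.IsPrime.mem_or_mem inferInstance h with h | h
        · rcases Ideal.IsPrime.mem_or_mem inferInstance h with h | h
          · exact hu1 h
          · exact hu2 h
        · exact hs h
      · have e3 := congrArg (algebraMap R S) hsv
        simp only [map_mul] at e3 ⊢
        linear_combination (algebraMap R S u2 * algebraMap R S s) * e1 +
          (algebraMap R S u1 * algebraMap R S s) * e2 + (algebraMap R S u1 * b2) * e3
    · refine ⟨u1 * u2 * s, ?_, c2, hc2,
        algebraMap R S (u2 * v) * b1 + algebraMap R S (u1 * s) * b2, ?_⟩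
      · intro h
        rcases Ideal.IsPrime.mem_or_mem inferInstance h with h | h
        · rcases Ideal.IsPrime.mem_or_mem inferInstance h with h | h
          · exact hu1 h
          · exact hu2 h
        · exact hs h
      · have e3 := congrArg (algebraMap R S) hsv
        simp only [map_mul] at e3 ⊢
        linear_combination (algebraMap R S u2 * algebraMap R S s) * e1 +
          (algebraMap R S u1 * algebraMap R S s) * e2 + (algebraMap R S u2 * b1) * e3
  | smul w x _ hx =>
    obtain ⟨u, hu, c, hc, b', e⟩ := hx
    refine ⟨u, hu, c, hc, w * b', ?_⟩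
    rw [smul_eq_mul]
    linear_combination w * e

/-- going-down between two primes for an algebra over a ring with local total divisibility,
when the lower prime contracts below the given prime of the base -/
theorem going_down (P Q : Ideal S) [P.IsPrime] [Q.IsPrime] (hPQ : P ≤ Q) (p' : Ideal R)
    [p'.IsPrime] (h1 : P.under R ≤ p') (h2 : p' ≤ Q.under R) :
    ∃ Q' : Ideal S, Q'.IsPrime ∧ P ≤ Q' ∧ Q' ≤ Q ∧ Q'.under R = p' := by
  let M : Submonoid S := Algebra.algebraMapSubmonoid S p'.primeCompl ⊔ Q.primeCompl
  let I : Ideal S := P ⊔ p'.map (algebraMap R S)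
  have hdisj : Disjoint (I : Set S) M := by
    rw [Set.disjoint_left]
    rintro x hxI hxM
    obtain ⟨y, hy, z, hz, rfl⟩ := Submodule.mem_sup.1 hxI
    obtain ⟨m1, hm1, b, hb, hmb⟩ := Submonoid.mem_sup.1 hxM
    obtain ⟨s, hs, rfl⟩ := hm1
    obtain ⟨u, hu, c, hc, b', hub⟩ := exists_loc_principal hval (Q.under R) p' z hz
    have hsP : algebraMap R S s ∉ P := fun h => hs (h1 h)
    rcases hval (Q.under R) s c with ⟨w, hw, v, hwv⟩ | ⟨w, hw, v, hwv⟩
    · have hv : v ∈ p' := by
        have : v * s ∈ p' := by rw [← hwv]; exact p'.mul_mem_left _ hc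
        exact (Ideal.IsPrime.mem_or_mem inferInstance this).resolve_right hs
      have key : algebraMap R S s *
          (algebraMap R S (w * u) * b - algebraMap R S v * b') ∈ P := by
        have e : algebraMap R S s * (algebraMap R S (w * u) * b - algebraMap R S v * b') =
            algebraMap R S (w * u) * y := by
          have e1 := congrArg (algebraMap R S) hwv
          simp only [map_mul] at e1 ⊢
          linear_combination (algebraMap R S w * algebraMap R S u) * hmb +
            algebraMap R S w * hub + b' * e1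
        rw [e]
        exact P.mul_mem_left _ hy
      have h3 : algebraMap R S (w * u) * b - algebraMap R S v * b' ∈ Q :=
        hPQ ((Ideal.IsPrime.mem_or_mem inferInstance key).resolve_left hsP)
      have h4 : algebraMap R S v * b' ∈ Q := Q.mul_mem_right _ (h2 hv)
      have h5 : algebraMap R S (w * u) * b ∈ Q := by
        have := Q.add_mem h3 h4
        simpa using this
      rcases Ideal.IsPrime.mem_or_mem inferInstance h5 with h | h
      · have h6 : w * u ∈ Q.under R := h
        rcases Ideal.IsPrime.mem_or_mem inferInstance h6 with h | h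
        · exact hw h
        · exact hu h
      · exact hb h
    · have : w * s ∈ p' := by rw [hwv]; exact p'.mul_mem_left _ hc
      rcases Ideal.IsPrime.mem_or_mem inferInstance this with h | h
      · exact hw (h2 h)
      · exact hs h
  obtain ⟨Q', hQ'prime, hIQ', hQ'M⟩ := Ideal.exists_le_prime_disjoint I M hdisj
  refine ⟨Q', hQ'prime, le_sup_left.trans hIQ', ?_, ?_⟩
  · intro x hx
    by_contra hxQ
    exact Set.disjoint_left.1 hQ'M hx (Submonoid.mem_sup_right hxQ)
  · apply le_antisymm
    · intro r hr
      by_contra hrp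
      exact Set.disjoint_left.1 hQ'M hr (Submonoid.mem_sup_left ⟨r, hrp, rfl⟩)
    · intro r hr
      exact hIQ' (le_sup_right (α := Ideal S) (Ideal.mem_map_of_mem _ hr))

end GD

end Base

section Catenary

/-- a strictly decreasing integer function on the spectrum which drops by exactly one along
covers forces the ring to be catenary -/
theorem isCatenary_of_delta {A : Type u} [CommRing A] (δ : PrimeSpectrum A → ℤ)
    (h1 : ∀ p q : PrimeSpectrum A, p < q → δ q < δ p)
    (h2 : ∀ p q : PrimeSpectrum A, p ⋖ q → δ p = δ q + 1) : CAlg.IsCatenary A := by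
  have key1 : ∀ (s : LTSeries (PrimeSpectrum A)) (i : ℕ) (hi : i < s.length + 1),
      δ (s ⟨i, hi⟩) + i ≤ δ (s 0) := by
    intro s i
    induction i with
    | zero => intro hi; simp
    | succ i ih =>
      intro hi
      have hi' : i < s.length := by omega
      have h3 := ih (by omega)
      have h4 : s ⟨i, by omega⟩ < s ⟨i + 1, hi⟩ := s.step ⟨i, hi'⟩
      have h5 := h1 _ _ h4
      push_cast
      omega
  have key2 : ∀ (s : LTSeries (PrimeSpectrum A)),
      (∀ i : Fin s.length, s (Fin.castSucc i) ⋖ s (Fin.succ i)) →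
      ∀ (i : ℕ) (hi : i < s.length + 1), δ (s ⟨i, hi⟩) + i = δ (s 0) := by
    intro s hs i
    induction i with
    | zero => intro hi; simp
    | succ i ih =>
      intro hi
      have hi' : i < s.length := by omega
      have h3 := ih (by omega)
      have h4 : s ⟨i, by omega⟩ ⋖ s ⟨i + 1, hi⟩ := hs ⟨i, hi'⟩
      have h5 := h2 _ _ h4
      push_cast
      omega
  constructor
  · intro p q _
    refine ⟨(δ p - δ q).toNat, fun s hs1 hs2 => ?_⟩
    have h3 := key1 s s.length (by omega)
    have h4 : s ⟨s.length, by omega⟩ = q := hs2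
    have h5 : s 0 = p := hs1
    rw [h4, h5] at h3
    omega
  · intro s t hst1 hst2 hs ht
    have h3 := key2 s hs s.length (by omega)
    have h4 := key2 t ht t.length (by omega)
    have h5 : s ⟨s.length, by omega⟩ = t ⟨t.length, by omega⟩ := hst2
    have h6 : s 0 = t 0 := hst1
    rw [h5, h6] at h3
    omega

end Catenary

section FinDim

theorem two_mul_add_one_lt_top (d : WithBot ℕ∞) (h : d < ⊤) : 2 * d + 1 < ⊤ := by
  induction d with
  | bot => simp
  | coe m =>
    have hm : m ≠ ⊤ := by
      rintro rfl
      exact lt_irrefl _ h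
    lift m to ℕ using hm
    have : (2 * ((m : ℕ∞) : WithBot ℕ∞) + 1) = (((2 * m + 1 : ℕ) : ℕ∞) : WithBot ℕ∞) := by
      push_cast
      rfl
    rw [this]
    rw [← WithBot.coe_top, WithBot.coe_lt_coe]
    exact ENat.coe_lt_top _

theorem mvPolynomial_dim_lt_top (R : Type u) [CommRing R] (h : ringKrullDim R < ⊤) :
    ∀ n : ℕ, ringKrullDim (MvPolynomial (Fin n) R) < ⊤ := by
  intro n
  induction n with
  | zero =>
    rw [ringKrullDim_eq_of_ringEquiv (MvPolynomial.isEmptyRingEquiv R (Fin 0))]
    exact h
  | succ n ih =>
    rw [ringKrullDim_eq_of_ringEquiv (MvPolynomial.finSuccEquiv R n).toRingEquiv]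
    exact lt_of_le_of_lt Polynomial.ringKrullDim_le (two_mul_add_one_lt_top _ ih)

theorem dim_lt_top_of_finiteType (R : Type u) [CommRing R] (h : ringKrullDim R < ⊤)
    (S : Type u) [CommRing S] [Algebra R S] [Algebra.FiniteType R S] : ringKrullDim S < ⊤ := by
  obtain ⟨n, f, hf⟩ := Algebra.FiniteType.iff_quotient_mvPolynomial''.1
    (inferInstance : Algebra.FiniteType R S)
  exact lt_of_le_of_lt (ringKrullDim_le_of_surjective f.toRingHom hf)
    (mvPolynomial_dim_lt_top R h n)

end FinDim

section Loc

variable {S : Type u} [CommRing S] (M : Submonoid S) (T : Type u) [CommRing T] [Algebra S T]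
  [IsLocalization M T]

include M in
theorem comap_lt_of_lt (p q : PrimeSpectrum T) (h : p < q) :
    PrimeSpectrum.comap (algebraMap S T) p < PrimeSpectrum.comap (algebraMap S T) q := by
  have h1 := (IsLocalization.primeSpectrumOrderIso M T).lt_iff_lt.2 h
  exact h1

include M in
theorem comap_covBy_of_covBy (p q : PrimeSpectrum T) (h : p ⋖ q) :
    PrimeSpectrum.comap (algebraMap S T) p ⋖ PrimeSpectrum.comap (algebraMap S T) q := by
  refine ⟨comap_lt_of_lt M T p q h.lt, ?_⟩
  intro c hpc hcq
  have hc : Disjoint (M : Set S) c.asIdeal := by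
    have hq := (IsLocalization.primeSpectrumOrderIso M T q).2
    refine Set.disjoint_left.2 fun x hxM hxc => ?_
    exact Set.disjoint_left.1 hq hxM (hcq.le hxc)
  let c' : PrimeSpectrum T := (IsLocalization.primeSpectrumOrderIso M T).symm ⟨c, hc⟩
  have hc' : IsLocalization.primeSpectrumOrderIso M T c' = ⟨c, hc⟩ :=
    OrderIso.apply_symm_apply _ _
  have h1 : p < c' := by
    rw [← (IsLocalization.primeSpectrumOrderIso M T).lt_iff_lt, hc']
    exact hpc
  have h2 : c' < q := by
    rw [← (IsLocalization.primeSpectrumOrderIso M T).lt_iff_lt, hc']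
    exact hcq
  exact h.2 h1 h2

include M in
theorem dim_localization_le : ringKrullDim T ≤ ringKrullDim S :=
  Order.krullDim_le_of_strictMono (PrimeSpectrum.comap (algebraMap S T))
    (fun p q h => comap_lt_of_lt M T p q h)

end Loc

end Groth.Agent.Helper8.Pru
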