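import Mathlib
import Groth.Prelude
import Groth.Agent.Helper5.FtDim7
import Groth.Agent.Helper5.DimFormula6
import Groth.Agent.Helper5.ValTr5
import Groth.Agent.Helper8.PruA

/-!
# PruB: the fibre-ring dictionary

For a finite type `R`-algebra `S` and a prime `Q` of `S` over `p`, the transcendence degree of
`S/Q` over `R/p` is the coheight of the corresponding prime of the fibre ring `κ(p) ⊗ S`.
-/

set_option autoImplicit false
universe u
open TensorProduct

namespace Groth.Agent.Helper8.Pru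

section Fib

variable {R S : Type u} [CommRing R] [CommRing S] [Algebra R S]

theorem trdeg_under (p : Ideal R) [p.IsPrime] (Q : Ideal S) [Q.IsPrime] [h : Q.LiesOver p] :
    Algebra.trdeg (R ⧸ p) (S ⧸ Q) = Algebra.trdeg (R ⧸ Q.under R) (S ⧸ Q) := by
  obtain rfl : p = Q.under R := h.over
  rfl

theorem coheight_eq_trdeg_aux (p : Ideal R) [p.IsPrime]
    (k : Type u) [Field k] [Algebra R k] (hk : RingHom.ker (algebraMap R k) = p)
    (hK : ∀ z : k, ∃ x y : R, algebraMap R k y ≠ 0 ∧ z * algebraMap R k y = algebraMap R k x)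
    (A : Type u) [CommRing A] [Algebra k A] [Algebra R A] [IsScalarTower R k A]
    [Algebra.FiniteType k A]
    (ι : S →ₐ[R] A) (hι : ∀ a : A, ∃ r ∉ p, ∃ s, r • a = ι s)
    (Qb : PrimeSpectrum A) (Q : Ideal S) [Q.IsPrime] [Q.LiesOver p]
    (hQ : Qb.asIdeal.comap ι = Q) :
    ∃ n : ℕ, Order.coheight Qb = (n : ℕ∞) ∧ Algebra.trdeg (R ⧸ p) (S ⧸ Q) = n := by
  let D := A ⧸ Qb.asIdeal
  haveI : IsDomain D := Ideal.Quotient.isDomain _
  haveI hD : Algebra.FiniteType k D :=
    Algebra.FiniteType.of_surjective (Ideal.Quotient.mkₐ k Qb.asIdeal)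
      (Ideal.Quotient.mkₐ_surjective k Qb.asIdeal)
  let L := FractionRing D
  obtain ⟨n, hn1, hn2⟩ := Groth.Agent.Helper5.FtDim.dim_eq_trdeg k D L
  refine ⟨n, ?_, ?_⟩
  · have h := Groth.Agent.Helper5.FtDim.ringKrullDim_quotient_eq_coheight Qb
    rw [h] at hn1
    exact_mod_cast hn1
  · rw [← hn2]
    let β : A →+* L := (algebraMap D L).comp (Ideal.Quotient.mk Qb.asIdeal)
    let b : S →+* L := β.comp ι.toRingHom
    have hβ : ∀ r : R, β (algebraMap R A r) = algebraMap k L (algebraMap R k r) := by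
      intro r
      rw [IsScalarTower.algebraMap_apply R k A, IsScalarTower.algebraMap_apply k D L]
      rfl
    have hker : ∀ r : R, algebraMap R k r = 0 → r ∈ p := by
      intro r h0
      rw [← hk]
      exact h0
    have key := Groth.Agent.Helper5.DimFormula.trdeg_eq_of_fraction_data p Q (algebraMap R k) b
      (algebraMap k L) ?_ ?_ ?_ ?_ ?_
    · have e : (algebraMap k L).toAlgebra = (inferInstance : Algebra k L) :=
        Algebra.algebra_ext _ _ (fun r => rfl)
      rw [e] at key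
      exact key.symm
    · intro x
      show algebraMap k L (algebraMap R k x) = β (ι (algebraMap R S x))
      rw [AlgHom.commutes, hβ]
    · exact hk
    · ext s
      rw [RingHom.mem_ker, ← hQ, Ideal.mem_comap]
      show algebraMap D L (Ideal.Quotient.mk _ (ι s)) = 0 ↔ _
      rw [map_eq_zero_iff _ (IsFractionRing.injective D L), Ideal.Quotient.eq_zero_iff_mem]
    · exact hK
    · intro z
      obtain ⟨⟨d1, d2⟩, hd⟩ := IsLocalization.surj (nonZeroDivisors D) z
      obtain ⟨a1, rfl⟩ := Ideal.Quotient.mk_surjective d1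
      obtain ⟨a2, ha2⟩ := Ideal.Quotient.mk_surjective (d2 : D)
      obtain ⟨r1, hr1, s1, e1⟩ := hι a1
      obtain ⟨r2, hr2, s2, e2⟩ := hι a2
      have hβa2 : β a2 = algebraMap D L d2 := by
        show algebraMap D L (Ideal.Quotient.mk _ a2) = _
        rw [ha2]
      have hz : z * β a2 = β a1 := by
        rw [hβa2]
        exact hd
      have hr : ∀ r : R, r ∉ p → β (algebraMap R A r) ≠ 0 := by
        intro r hr h0
        rw [hβ, map_eq_zero] at h0
        exact hr (hker r h0)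
      have hβ2 : β a2 ≠ 0 := by
        rw [hβa2]
        exact IsFractionRing.to_map_ne_zero_of_mem_nonZeroDivisors d2.2
      have hb1 : b s1 = β (algebraMap R A r1) * β a1 := by
        show β (ι s1) = _
        rw [← map_mul, ← Algebra.smul_def, e1]
      have hb2 : b s2 = β (algebraMap R A r2) * β a2 := by
        show β (ι s2) = _
        rw [← map_mul, ← Algebra.smul_def, e2]
      have hbr : ∀ r : R, b (algebraMap R S r) = β (algebraMap R A r) := fun r => by
        show β (ι (algebraMap R S r)) = _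
        rw [AlgHom.commutes]
      refine ⟨algebraMap R S r2 * s1, algebraMap R S r1 * s2, ?_, ?_⟩
      · rw [map_mul, hbr, hb2]
        exact mul_ne_zero (hr r1 hr1) (mul_ne_zero (hr r2 hr2) hβ2)
      · rw [map_mul, map_mul, hbr, hbr, hb1, hb2]
        linear_combination (β (algebraMap R A r1) * β (algebraMap R A r2)) * hz

theorem residueField_fraction (p : Ideal R) [p.IsPrime] (z : p.ResidueField) :
    ∃ x y : R, algebraMap R p.ResidueField y ≠ 0 ∧
      z * algebraMap R p.ResidueField y = algebraMap R p.ResidueField x := by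
  obtain ⟨⟨x, y⟩, hxy⟩ := IsLocalization.surj (nonZeroDivisors (R ⧸ p)) z
  obtain ⟨x', rfl⟩ := Ideal.Quotient.mk_surjective x
  obtain ⟨y', hy'⟩ := Ideal.Quotient.mk_surjective (y : R ⧸ p)
  refine ⟨x', y', ?_, ?_⟩
  · intro h0
    have h1 : y' ∈ p := by
      rw [← Ideal.ker_algebraMap_residueField p]
      exact h0
    have h2 : (y : R ⧸ p) = 0 := by
      rw [← hy']
      exact Ideal.Quotient.eq_zero_iff_mem.2 h1
    exact nonZeroDivisors.coe_ne_zero y h2
  · simp only at hxy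
    rw [← hy'] at hxy
    exact hxy

theorem coheight_eq_trdeg [Algebra.FiniteType R S] (p : Ideal R) [p.IsPrime]
    (Qb : PrimeSpectrum (p.Fiber S)) (Q : Ideal S) [Q.IsPrime] [Q.LiesOver p]
    (hQ : Qb.asIdeal.comap (Algebra.TensorProduct.includeRight : S →ₐ[R] p.Fiber S) = Q) :
    ∃ n : ℕ, Order.coheight Qb = (n : ℕ∞) ∧ Algebra.trdeg (R ⧸ p) (S ⧸ Q) = n :=
  coheight_eq_trdeg_aux p p.ResidueField (Ideal.ker_algebraMap_residueField p)
    (residueField_fraction p) (p.Fiber S) Algebra.TensorProduct.includeRight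
    (fun a => Ideal.Fiber.exists_smul_eq_one_tmul p a) Qb Q hQ

/-- the prime of the fibre ring corresponding to a prime of `S` over `p` -/
noncomputable def fb (p : Ideal R) [p.IsPrime] (Q : Ideal S) [hQ : Q.IsPrime]
    [hl : Q.LiesOver p] : PrimeSpectrum (p.Fiber S) :=
  PrimeSpectrum.primesOverOrderIsoFiber R S p ⟨Q, ⟨hQ, hl⟩⟩

theorem fb_comap (p : Ideal R) [p.IsPrime] (Q : Ideal S) [hQ : Q.IsPrime] [hl : Q.LiesOver p] :
    (fb p Q).asIdeal.comap (Algebra.TensorProduct.includeRight : S →ₐ[R] p.Fiber S) = Q := by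
  have := (PrimeSpectrum.primesOverOrderIsoFiber R S p).symm_apply_apply ⟨Q, ⟨hQ, hl⟩⟩
  exact congrArg Subtype.val this

theorem fb_lt_iff (p : Ideal R) [p.IsPrime] (P Q : Ideal S) [P.IsPrime] [Q.IsPrime]
    [P.LiesOver p] [Q.LiesOver p] : fb p P < fb p Q ↔ P < Q :=
  (PrimeSpectrum.primesOverOrderIsoFiber R S p).lt_iff_lt

theorem fb_covBy (p : Ideal R) [p.IsPrime] (P Q : Ideal S) [hP : P.IsPrime] [hQ : Q.IsPrime]
    [hlP : P.LiesOver p] [hlQ : Q.LiesOver p]
    (h : (⟨P, hP⟩ : PrimeSpectrum S) ⋖ ⟨Q, hQ⟩) : fb p P ⋖ fb p Q := by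
  unfold fb
  rw [apply_covBy_apply_iff]
  refine ⟨h.lt, ?_⟩
  rintro ⟨C, hCprime, hCl⟩ h1 h2
  exact h.2 (c := ⟨C, hCprime⟩) h1 h2

variable [Algebra.FiniteType R S]

theorem exists_trdeg_eq (p : Ideal R) [p.IsPrime] (Q : Ideal S) [Q.IsPrime] [Q.LiesOver p] :
    ∃ n : ℕ, Order.coheight (fb p Q) = (n : ℕ∞) ∧ Algebra.trdeg (R ⧸ p) (S ⧸ Q) = n :=
  coheight_eq_trdeg p (fb p Q) Q (fb_comap p Q)

/-- strict drop of the transcendence degree inside a fibre -/
theorem trdeg_lt_of_lt (p : Ideal R) [p.IsPrime] (P Q : Ideal S) [P.IsPrime] [Q.IsPrime]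
    [P.LiesOver p] [Q.LiesOver p] (h : P < Q) :
    ∃ m n : ℕ, Algebra.trdeg (R ⧸ p) (S ⧸ P) = m ∧ Algebra.trdeg (R ⧸ p) (S ⧸ Q) = n ∧ n < m := by
  obtain ⟨m, hm1, hm2⟩ := exists_trdeg_eq p P
  obtain ⟨n, hn1, hn2⟩ := exists_trdeg_eq p Q
  refine ⟨m, n, hm2, hn2, ?_⟩
  have h1 : fb p P < fb p Q := (fb_lt_iff p P Q).2 h
  have h2 := Order.coheight_strictAnti h1 (by rw [hn1]; exact ENat.coe_lt_top n)
  rw [hm1, hn1] at h2
  exact_mod_cast h2

/-- the transcendence degree drops by one along a cover inside a fibre -/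
theorem trdeg_succ_of_covBy (p : Ideal R) [p.IsPrime] (P Q : Ideal S) [hP : P.IsPrime]
    [hQ : Q.IsPrime] [P.LiesOver p] [Q.LiesOver p]
    (h : (⟨P, hP⟩ : PrimeSpectrum S) ⋖ ⟨Q, hQ⟩) :
    ∃ n : ℕ, Algebra.trdeg (R ⧸ p) (S ⧸ P) = (n + 1 : ℕ) ∧ Algebra.trdeg (R ⧸ p) (S ⧸ Q) = n := by
  obtain ⟨m, hm1, hm2⟩ := exists_trdeg_eq p P
  obtain ⟨n, hn1, hn2⟩ := exists_trdeg_eq p Q
  have h1 := Groth.Agent.Helper5.FtDim.coheight_add_one_of_covBy p.ResidueField (p.Fiber S)
    (fb p P) (fb p Q) (fb_covBy p P Q h)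
  rw [hm1, hn1] at h1
  have h2 : n + 1 = m := by exact_mod_cast h1
  refine ⟨n, ?_, hn2⟩
  rw [hm2, h2]

end Fib

section Prufer

variable {R : Type u} [CommRing R] [IsDomain R]

theorem locDiv_of_prufer
    (hR : ∀ (p : Ideal R) [p.IsPrime], ValuationRing (Localization.AtPrime p)) : LocDiv R := by
  intro q _ a b
  exact Groth.Agent.Helper5.ValTr.ldvd_of_prufer hR (RingEquiv.refl R) q a b

end Prufer

section Prufer2

variable {R : Type u} [CommRing R] {S : Type u} [CommRing S] [Algebra R S]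

theorem trdeg_le_of_le (hval : LocDiv R) (P Q : Ideal S) [P.IsPrime] [Q.IsPrime] (h : P ≤ Q) :
    Algebra.trdeg (R ⧸ Q.under R) (S ⧸ Q) ≤ Algebra.trdeg (R ⧸ P.under R) (S ⧸ P) :=
  Groth.Agent.Helper5.ValTr.trdeg_le_of_ldvd P Q h (P.under R) (Q.under R)
    (fun a b => hval (Q.under R) a b)

end Prufer2


end Groth.Agent.Helper8.Pru
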