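import Mathlib
import Groth.Prelude
import Groth.Agent.Helper5.FibPdG
import Groth.Agent.Helper8.PruB

/-!
# PruC: the dimension function of a finite type algebra over a Prüfer domain
-/

set_option autoImplicit false
universe u
open TensorProduct

namespace Groth.Agent.Helper8.Pru

open Groth.Agent.Helper5.FibPd

section Chev

variable {R S : Type u} [CommRing R] [CommRing S] [Algebra R S] [Algebra.FiniteType R S]

/-- Chevalley semicontinuity, pointwise: below `Q` and above `P` there is a prime in the fibre of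
`Q` whose residue transcendence degree is at least that of `P`. -/
theorem exists_mid (P Q : Ideal S) [hP : P.IsPrime] [hQ : Q.IsPrime] (hPQ : P ≤ Q) :
    ∃ Q₁ : Ideal S, ∃ _ : Q₁.IsPrime, P ≤ Q₁ ∧ Q₁ ≤ Q ∧ Q₁.under R = Q.under R ∧
      Algebra.trdeg (R ⧸ P.under R) (S ⧸ P) ≤ Algebra.trdeg (R ⧸ Q₁.under R) (S ⧸ Q₁) := by
  obtain ⟨m, hm1, hm2⟩ := exists_trdeg_eq (P.under R) P
  have hmem : (⟨P, hP⟩ : PrimeSpectrum S) ∈ chevSet R S P m := by
    refine ⟨⟨P.under R, inferInstance⟩, fb (P.under R) P, fb (P.under R) P, ?_, le_rfl, ?_, ?_⟩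
    · apply PrimeSpectrum.ext
      exact fb_comap (P.under R) P
    · exact le_of_eq (fb_comap (P.under R) P).symm
    · rw [hm1]
  have hsp : (⟨P, hP⟩ : PrimeSpectrum S) ⤳ ⟨Q, hQ⟩ :=
    (PrimeSpectrum.le_iff_specializes _ _).1 hPQ
  have hQmem := hsp.mem_closed (isClosed_chevSet R S P m) hmem
  obtain ⟨q', Qb, Qb', hQb, hle, hI, hm⟩ := hQmem
  haveI := q'.2
  have hover : ∀ (Z : Ideal (q'.asIdeal.Fiber S)) [Z.IsPrime],
      (Z.comap (Algebra.TensorProduct.includeRight : S →ₐ[R] q'.asIdeal.Fiber S)).LiesOver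
        q'.asIdeal := by
    intro Z _
    constructor
    have h1 : Z.LiesOver q'.asIdeal := inferInstance
    refine h1.over.trans ?_
    ext r
    simp only [Ideal.under_def, Ideal.mem_comap]
    rw [AlgHom.commutes]
  let Q₁ : Ideal S := Qb'.asIdeal.comap
    (Algebra.TensorProduct.includeRight : S →ₐ[R] q'.asIdeal.Fiber S)
  haveI hQ₁ : Q₁.IsPrime := Ideal.comap_isPrime _ _
  have hQQ : Qb.asIdeal.comap
      (Algebra.TensorProduct.includeRight : S →ₐ[R] q'.asIdeal.Fiber S) = Q :=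
    congrArg PrimeSpectrum.asIdeal hQb
  haveI hl1 : Q₁.LiesOver q'.asIdeal := hover Qb'.asIdeal
  have hlQ : Q.LiesOver q'.asIdeal := by
    rw [← hQQ]
    exact hover Qb.asIdeal
  refine ⟨Q₁, hQ₁, hI, ?_, ?_, ?_⟩
  · rw [← hQQ]
    exact Ideal.comap_mono hle
  · rw [← hl1.over, ← hlQ.over]
  · obtain ⟨n, hn1, hn2⟩ := coheight_eq_trdeg q'.asIdeal Qb' Q₁ rfl
    rw [← trdeg_under q'.asIdeal Q₁, hn2, hm2]
    rw [hn1] at hm
    exact_mod_cast hm

end Chev

section Heights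

variable {R : Type u} [CommRing R]

theorem exists_height_eq (hdim : ringKrullDim R < ⊤) (p : Ideal R) [p.IsPrime] :
    ∃ a : ℕ, p.height = (a : ℕ∞) := by
  have h : p.height ≠ ⊤ := by
    intro h
    have h1 := Ideal.height_le_ringKrullDim_of_isPrime (I := p)
    rw [h] at h1
    exact absurd (lt_of_le_of_lt h1 hdim) (lt_irrefl _)
  obtain ⟨a, ha⟩ := ENat.ne_top_iff_exists.1 h
  exact ⟨a, ha.symm⟩

theorem height_toNat_lt (hdim : ringKrullDim R < ⊤) (p q : Ideal R) [p.IsPrime] [q.IsPrime]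
    (h : p < q) : p.height.toNat < q.height.toNat := by
  obtain ⟨a, ha⟩ := exists_height_eq hdim p
  obtain ⟨b, hb⟩ := exists_height_eq hdim q
  haveI : p.FiniteHeight := (Ideal.finiteHeight_iff p).2 (Or.inr (by rw [ha]; exact ENat.coe_ne_top a))
  have h1 := Ideal.height_strict_mono_of_isPrime h
  rw [ha, hb] at h1 ⊢
  simpa using h1

theorem height_toNat_succ (hval : LocDiv R) (hdim : ringKrullDim R < ⊤) (p q : Ideal R)
    [p.IsPrime] [q.IsPrime] (h : p < q)
    (hno : ∀ y : Ideal R, y.IsPrime → p < y → y < q → False) :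
    q.height.toNat = p.height.toNat + 1 := by
  have h1 := height_toNat_lt hdim p q h
  have h2 := height_le_succ hval p q h.le hno
  obtain ⟨a, ha⟩ := exists_height_eq hdim p
  obtain ⟨b, hb⟩ := exists_height_eq hdim q
  rw [ha, hb] at h1 h2 ⊢
  have h3 : b ≤ a + 1 := by exact_mod_cast h2
  simp only [ENat.toNat_coe] at h1 ⊢
  omega

end Heights

section Main

variable {R : Type u} [CommRing R] {S : Type u} [CommRing S] [Algebra R S]

/-- the dimension function -/
noncomputable def delta (R : Type u) [CommRing R] {S : Type u} [CommRing S] [Algebra R S]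
    (Q : Ideal S) [Q.IsPrime] : ℤ :=
  (Cardinal.toNat (Algebra.trdeg (R ⧸ Q.under R) (S ⧸ Q)) : ℤ) - ((Q.under R).height.toNat : ℤ)

variable [Algebra.FiniteType R S]

theorem trdeg_eq_toNat (Q : Ideal S) [Q.IsPrime] :
    Algebra.trdeg (R ⧸ Q.under R) (S ⧸ Q) =
      (Cardinal.toNat (Algebra.trdeg (R ⧸ Q.under R) (S ⧸ Q)) : Cardinal) := by
  obtain ⟨n, -, hn⟩ := exists_trdeg_eq (Q.under R) Q
  rw [hn, Cardinal.toNat_natCast]

theorem tq_le (hval : LocDiv R) (P Q : Ideal S) [P.IsPrime] [Q.IsPrime] (h : P ≤ Q) :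
    Cardinal.toNat (Algebra.trdeg (R ⧸ Q.under R) (S ⧸ Q)) ≤
      Cardinal.toNat (Algebra.trdeg (R ⧸ P.under R) (S ⧸ P)) := by
  have h1 := trdeg_le_of_le hval P Q h
  rw [trdeg_eq_toNat P, trdeg_eq_toNat Q] at h1
  exact_mod_cast h1

theorem tq_lt (P Q : Ideal S) [P.IsPrime] [Q.IsPrime] (h : P < Q)
    (hu : P.under R = Q.under R) :
    Cardinal.toNat (Algebra.trdeg (R ⧸ Q.under R) (S ⧸ Q)) <
      Cardinal.toNat (Algebra.trdeg (R ⧸ P.under R) (S ⧸ P)) := by
  haveI : P.LiesOver (Q.under R) := ⟨hu.symm⟩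
  obtain ⟨m, n, hm, hn, hlt⟩ := trdeg_lt_of_lt (Q.under R) P Q h
  rw [trdeg_under (Q.under R) P] at hm
  rw [hm, hn, Cardinal.toNat_natCast, Cardinal.toNat_natCast]
  exact hlt

theorem tq_succ (P Q : Ideal S) [hP : P.IsPrime] [hQ : Q.IsPrime]
    (h : (⟨P, hP⟩ : PrimeSpectrum S) ⋖ ⟨Q, hQ⟩) (hu : P.under R = Q.under R) :
    Cardinal.toNat (Algebra.trdeg (R ⧸ P.under R) (S ⧸ P)) =
      Cardinal.toNat (Algebra.trdeg (R ⧸ Q.under R) (S ⧸ Q)) + 1 := by
  haveI : P.LiesOver (Q.under R) := ⟨hu.symm⟩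
  obtain ⟨n, hm, hn⟩ := trdeg_succ_of_covBy (Q.under R) P Q h
  rw [trdeg_under (Q.under R) P] at hm
  rw [hm, hn, Cardinal.toNat_natCast, Cardinal.toNat_natCast]

theorem delta_lt (hval : LocDiv R) (hdim : ringKrullDim R < ⊤) (P Q : Ideal S) [P.IsPrime]
    [Q.IsPrime] (hPQ : P < Q) : delta R Q < delta R P := by
  unfold delta
  have hpq : P.under R ≤ Q.under R := Ideal.comap_mono hPQ.le
  have h1 := tq_le hval P Q hPQ.le
  rcases eq_or_lt_of_le hpq with h | h
  · have h2 := tq_lt P Q hPQ h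
    have hh : (P.under R).height.toNat = (Q.under R).height.toNat := by rw [h]
    omega
  · have h2 := height_toNat_lt hdim _ _ h
    omega

theorem delta_covBy (hval : LocDiv R) (hdim : ringKrullDim R < ⊤) (P Q : Ideal S)
    [hP : P.IsPrime] [hQ : Q.IsPrime] (hc : (⟨P, hP⟩ : PrimeSpectrum S) ⋖ ⟨Q, hQ⟩) :
    delta R P = delta R Q + 1 := by
  unfold delta
  have hPQ : P < Q := hc.lt
  have hpq : P.under R ≤ Q.under R := Ideal.comap_mono hPQ.le
  rcases eq_or_lt_of_le hpq with h | h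
  · have h2 := tq_succ P Q hc h
    have hh : (P.under R).height.toNat = (Q.under R).height.toNat := by rw [h]
    omega
  · obtain ⟨Q₁, hQ₁, hPQ₁, hQ₁Q, hu, htr⟩ := exists_mid (R := R) P Q hPQ.le
    have hne : P ≠ Q₁ := by
      rintro rfl
      exact h.ne hu
    have hlt : (⟨P, hP⟩ : PrimeSpectrum S) < ⟨Q₁, hQ₁⟩ := (lt_of_le_of_ne hPQ₁ hne : P < Q₁)
    have hQ₁eq : Q₁ = Q := by
      rcases eq_or_lt_of_le hQ₁Q with h' | h'
      · exact h'
      · exact (hc.2 hlt h').elim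
    subst hQ₁eq
    rw [trdeg_eq_toNat P, trdeg_eq_toNat Q₁] at htr
    have h3 : Cardinal.toNat (Algebra.trdeg (R ⧸ P.under R) (S ⧸ P)) ≤
        Cardinal.toNat (Algebra.trdeg (R ⧸ Q₁.under R) (S ⧸ Q₁)) := by exact_mod_cast htr
    have h4 := tq_le hval P Q₁ hPQ.le
    have h5 : (Q₁.under R).height.toNat = (P.under R).height.toNat + 1 := by
      apply height_toNat_succ hval hdim _ _ h
      intro y hy h1 h2
      obtain ⟨Q', hQ'prime, hPQ', hQ'Q, hQ'u⟩ := going_down hval P Q₁ hPQ.le y h1.le h2.le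
      have hne1 : P ≠ Q' := by
        rintro rfl
        exact h1.ne hQ'u
      have hne2 : Q' ≠ Q₁ := by
        rintro rfl
        exact h2.ne hQ'u.symm
      exact hc.2 (c := ⟨Q', hQ'prime⟩) (lt_of_le_of_ne hPQ' hne1 : P < Q')
        (lt_of_le_of_ne hQ'Q hne2 : Q' < Q₁)
    omega

end Main

end Groth.Agent.Helper8.Pru
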