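import Mathlib
import Groth.Prelude
import Groth.Agent.Helper8.PruC

/-!
# PruD: finite type algebras over a Prüfer domain of finite dimension: dimension function,
catenarity, finite dimension (S14735, S14734)
-/

set_option autoImplicit false
universe u

namespace Groth.Agent.Helper8.Pru

theorem s14735 (R : Type u) [CommRing R] [IsDomain R]
    (hR : ∀ (p : Ideal R) [p.IsPrime], ValuationRing (Localization.AtPrime p))
    (hdim : ringKrullDim R < ⊤)
    (S : Type u) [CommRing S] [Algebra R S] [Algebra.FiniteType R S]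
    (P Q : Ideal S) [hP : P.IsPrime] [hQ : Q.IsPrime] (hPQ : P < Q) :
    (delta R Q < delta R P) ∧
      ((⟨P, hP⟩ : PrimeSpectrum S) ⋖ ⟨Q, hQ⟩ ↔ delta R P = delta R Q + 1) := by
  have hval := locDiv_of_prufer hR
  refine ⟨delta_lt hval hdim P Q hPQ, ⟨fun h => delta_covBy hval hdim P Q h,
    fun h => ⟨hPQ, fun c hPc hcQ => ?_⟩⟩⟩
  have h1 := delta_lt hval hdim P c.asIdeal hPc
  have h2 := delta_lt hval hdim c.asIdeal Q hcQ
  omega

theorem s14734 (R : Type u) [CommRing R] [IsDomain R]
    (hR : ∀ (p : Ideal R) [p.IsPrime], ValuationRing (Localization.AtPrime p))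
    (hdim : ringKrullDim R < ⊤)
    (S : Type u) [CommRing S] [Algebra R S] [Algebra.FiniteType R S]
    (M : Submonoid S) (T : Type u) [CommRing T] [Algebra S T] [IsLocalization M T] :
    CAlg.IsCatenary S ∧ ringKrullDim S < ⊤ ∧ CAlg.IsCatenary T ∧ ringKrullDim T < ⊤ := by
  have hval := locDiv_of_prufer hR
  have hS := dim_lt_top_of_finiteType R hdim S
  refine ⟨?_, hS, ?_, lt_of_le_of_lt (dim_localization_le M T) hS⟩
  · exact isCatenary_of_delta (fun P => delta R P.asIdeal)
      (fun p q h => delta_lt hval hdim p.asIdeal q.asIdeal h)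
      (fun p q h => delta_covBy hval hdim p.asIdeal q.asIdeal h)
  · exact isCatenary_of_delta
      (fun P => delta R (PrimeSpectrum.comap (algebraMap S T) P).asIdeal)
      (fun p q h => delta_lt hval hdim _ _ (comap_lt_of_lt M T p q h))
      (fun p q h => delta_covBy hval hdim _ _ (comap_covBy_of_covBy M T p q h))

end Groth.Agent.Helper8.Pru
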