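import Groth.Statements.S17410
import Mathlib.RingTheory.Localization.Integral
import Mathlib.RingTheory.PowerBasis
import Mathlib.RingTheory.Polynomial.UniqueFactorization

set_option autoImplicit false
universe u

namespace Groth.Agent.Helper8.Prym5

open Polynomial TensorProduct

theorem part2 (R : Type u) [CommRing R] [IsDomain R] (h : Polynomial R) (hne : h ≠ 0) :
    Module.finrank (FractionRing R) (TensorProduct R (FractionRing R) (AdjoinRoot h)) = h.natDegree := by
  set F := FractionRing R
  let q' : (F ⊗[R] R)[X] := h.map (Algebra.TensorProduct.includeRight (R := R) (A := F) (B := R)).toRingHom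
  let e1 : F ⊗[R] AdjoinRoot h ≃ₐ[F] AdjoinRoot q' := AdjoinRoot.tensorAlgEquiv h q' rfl
  let q'' : F[X] := h.map (algebraMap R F)
  have hq'' : q'' ≠ 0 := by
    intro h0
    apply hne
    exact (Polynomial.map_eq_zero_iff (IsFractionRing.injective R F)).mp h0
  have hass : Associated (q'.map (Algebra.TensorProduct.rid R F F : F ⊗[R] R ≃ₐ[F] F)) q'' := by
    have : q'.map ((Algebra.TensorProduct.rid R F F : F ⊗[R] R ≃ₐ[F] F) : F ⊗[R] R →+* F) = q'' := by
      simp only [q', q'', Polynomial.map_map]
      congr 1
      ext r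
      simp [Algebra.algebraMap_eq_smul_one]
    rw [← this]
  let e2 : AdjoinRoot q' ≃ₐ[F] AdjoinRoot q'' :=
    AdjoinRoot.mapAlgEquiv (Algebra.TensorProduct.rid R F F) q' q'' hass
  rw [(e1.trans e2).toLinearEquiv.finrank_eq, (AdjoinRoot.powerBasis hq'').finrank]
  simp only [AdjoinRoot.powerBasis_dim, q'']
  exact Polynomial.natDegree_map_eq_of_injective (IsFractionRing.injective R F) h


section
variable (R : Type u) [CommRing R] [IsDomain R] (h : Polynomial R) (S : Submonoid R)

local notation "SR" => Localization S
local notation "A" => AdjoinRoot h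
local notation "SA" => Localization (Algebra.algebraMapSubmonoid (AdjoinRoot h) S)

theorem eval_root' :
    h.eval₂ (algebraMap R SA) (algebraMap A SA (AdjoinRoot.root h)) = 0 := by
  rw [IsScalarTower.algebraMap_eq R A SA, ← Polynomial.hom_eval₂, AdjoinRoot.algebraMap_eq,
    AdjoinRoot.eval₂_root, map_zero]

theorem isIntegral_of_root (hroot : IsIntegral SR (algebraMap A SA (AdjoinRoot.root h))) :
    Algebra.IsIntegral SR SA := by
  -- images of elements of A are integral
  have hA : ∀ a : A, IsIntegral SR (algebraMap A SA a) := by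
    intro a
    induction a using AdjoinRoot.induction_on with
    | ih P =>
      induction P using Polynomial.induction_on with
      | C r =>
        rw [AdjoinRoot.mk_C, ← AdjoinRoot.algebraMap_eq, ← IsScalarTower.algebraMap_apply,
          IsScalarTower.algebraMap_apply R SR SA]
        exact isIntegral_algebraMap
      | add p q hp hq =>
        rw [map_add, map_add]
        exact hp.add hq
      | monomial n r ih =>
        rw [pow_succ, ← mul_assoc, map_mul, map_mul, AdjoinRoot.mk_X]
        exact ih.mul hroot
  refine ⟨fun x => ?_⟩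
  obtain ⟨a, s, rfl⟩ := IsLocalization.exists_mk'_eq (Algebra.algebraMapSubmonoid A S) x
  obtain ⟨s₀, hs₀, hs⟩ := s.2
  have hu : IsUnit (algebraMap R SR s₀) := IsLocalization.map_units SR ⟨s₀, hs₀⟩
  have key : (algebraMap R SR s₀) • (IsLocalization.mk' SA a s) = algebraMap A SA a := by
    rw [algebraMap_smul, Algebra.smul_def, IsScalarTower.algebraMap_apply R A SA, hs, mul_comm,
      IsLocalization.mk'_spec]
  have : IsLocalization.mk' SA a s = (hu.unit⁻¹ : SRˣ).val • algebraMap A SA a := by
    rw [← key, smul_smul, IsUnit.val_inv_mul, one_smul]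
  rw [this]
  exact (hA a).smul _

theorem dvd_of_eval_zero (g : Polynomial SR)
    (hg : g.eval₂ (algebraMap SR SA) (algebraMap A SA (AdjoinRoot.root h)) = 0) :
    h.map (algebraMap R SR) ∣ g := by
  obtain ⟨b, hb, hbg⟩ := IsLocalization.integerNormalization_spec S g
  set G := IsLocalization.integerNormalization S g
  have h1 := IsLocalization.integerNormalization_eval₂_eq_zero S (algebraMap SR SA) g hg
  rw [← IsScalarTower.algebraMap_eq R SR SA, IsScalarTower.algebraMap_eq R A SA,
    ← Polynomial.hom_eval₂, ← Polynomial.aeval_def, AdjoinRoot.aeval_eq,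
    IsLocalization.map_eq_zero_iff (Algebra.algebraMapSubmonoid A S)] at h1
  obtain ⟨t, ht⟩ := h1
  obtain ⟨t₀, ht₀, htt⟩ := t.2
  rw [← htt, AdjoinRoot.algebraMap_eq, ← AdjoinRoot.mk_C, ← map_mul, AdjoinRoot.mk_eq_zero] at ht
  have h2 := Polynomial.map_dvd (algebraMap R SR) ht
  rw [Polynomial.map_mul, hbg, Polynomial.map_C, Algebra.smul_def, Polynomial.algebraMap_apply,
    ← mul_assoc] at h2
  have hu1 : IsUnit (algebraMap R SR t₀) := IsLocalization.map_units SR ⟨t₀, ht₀⟩
  have hu2 : IsUnit (algebraMap R SR b) := IsLocalization.map_units SR ⟨b, hb⟩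
  exact (IsUnit.dvd_mul_left ((Polynomial.isUnit_C.mpr hu1).mul (Polynomial.isUnit_C.mpr hu2))).mp h2

theorem part1 (hne : h ≠ 0) :
    Algebra.IsIntegral SR SA ↔ IsUnit (algebraMap R SR h.leadingCoeff) := by
  rcases subsingleton_or_nontrivial SR with hsub | hnt
  · have : Subsingleton SA := by
      refine ⟨fun x y => ?_⟩
      have h01 : (0 : SA) = 1 := by
        rw [← map_zero (algebraMap SR SA), ← map_one (algebraMap SR SA), Subsingleton.elim (0 : SR) 1]
      rw [← mul_one x, ← mul_one y, ← h01, mul_zero, mul_zero]
    constructor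
    · intro _
      exact isUnit_of_subsingleton _
    · intro _
      refine ⟨fun x => ?_⟩
      rw [Subsingleton.elim x 0]
      exact isIntegral_zero
  · -- S does not contain 0, so R → SR is injective
    have hS : S ≤ nonZeroDivisors R := by
      intro s hs
      rw [mem_nonZeroDivisors_iff_ne_zero]
      rintro rfl
      have := IsLocalization.map_units SR (⟨0, hs⟩ : S)
      rw [map_zero] at this
      exact not_isUnit_zero this
    have hinj : Function.Injective (algebraMap R SR) := IsLocalization.injective SR hS
    have hlc : algebraMap R SR h.leadingCoeff ≠ 0 := by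
      rw [Ne, map_eq_zero_iff _ hinj]
      exact Polynomial.leadingCoeff_ne_zero.mpr hne
    have hlcmap : (h.map (algebraMap R SR)).leadingCoeff = algebraMap R SR h.leadingCoeff :=
      Polynomial.leadingCoeff_map_of_leadingCoeff_ne_zero _ hlc
    constructor
    · intro hint
      obtain ⟨g, hgm, hg⟩ := hint.isIntegral (algebraMap A SA (AdjoinRoot.root h))
      have hdvd := dvd_of_eval_zero R h S g hg
      have : IsDomain SR := IsLocalization.isDomain_localization hS
      have := hgm.isUnit_leadingCoeff_of_dvd hdvd
      rwa [hlcmap] at this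
    · intro hu
      apply isIntegral_of_root
      have hu' : IsUnit (h.map (algebraMap R SR)).leadingCoeff := by rwa [hlcmap]
      refine ⟨_, Polynomial.monic_of_isUnit_leadingCoeff_inv_smul hu', ?_⟩
      rw [Units.smul_def, Polynomial.eval₂_smul, Polynomial.eval₂_map, ← IsScalarTower.algebraMap_eq, eval_root',
        mul_zero]

end


theorem main (K : Type u) [Field K]
    (h : Polynomial (MvPolynomial (Fin 2) K)) (hdeg : h.natDegree = 2)
    (S : Submonoid (MvPolynomial (Fin 2) K)) :
    (Algebra.IsIntegral (Localization S) (Localization (Algebra.algebraMapSubmonoid (AdjoinRoot h) S))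
        ↔ IsUnit (algebraMap (MvPolynomial (Fin 2) K) (Localization S) h.leadingCoeff))
      ∧ Module.finrank (FractionRing (MvPolynomial (Fin 2) K))
          (TensorProduct (MvPolynomial (Fin 2) K) (FractionRing (MvPolynomial (Fin 2) K)) (AdjoinRoot h)) = 2 := by
  have hne : h ≠ 0 := by
    rintro rfl
    simp at hdeg
  exact ⟨part1 _ h S hne, by rw [part2 _ h hne, hdeg]⟩

end Groth.Agent.Helper8.Prym5
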