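import Groth.Statements.S16159
import Mathlib.Algebra.Polynomial.AlgebraMap

set_option autoImplicit false
universe u v w x

namespace Groth.Agent.Helper8.SimDiag

open Polynomial

section Poly
variable {k : Type u} [Field k] {V : Type w} [AddCommGroup V] [Module k V]

theorem poly_stable (p : Submodule k V) (g : Module.End k V) (hg : ∀ x ∈ p, g x ∈ p)
    (P : k[X]) : ∀ x ∈ p, aeval g P x ∈ p := by
  induction P using Polynomial.induction_on with
  | C a =>
    intro x hx
    rw [aeval_C, Module.algebraMap_end_apply]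
    exact p.smul_mem a hx
  | add P Q hP hQ =>
    intro x hx
    rw [map_add, LinearMap.add_apply]
    exact p.add_mem (hP x hx) (hQ x hx)
  | monomial n a ih =>
    intro x hx
    rw [pow_succ, ← mul_assoc, map_mul, aeval_X, Module.End.mul_apply]
    exact ih _ (hg x hx)

theorem poly_eig_mod (p : Submodule k V) (g : Module.End k V) (hg : ∀ x ∈ p, g x ∈ p)
    (μ : k) (z : V) (hz : g z - μ • z ∈ p) (P : k[X]) : aeval g P z - P.eval μ • z ∈ p := by
  induction P using Polynomial.induction_on with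
  | C a =>
    rw [aeval_C, Module.algebraMap_end_apply, eval_C, sub_self]
    exact p.zero_mem
  | add P Q hP hQ =>
    rw [map_add, LinearMap.add_apply, eval_add, add_smul, add_sub_add_comm]
    exact p.add_mem hP hQ
  | monomial n a ih =>
    have h1 : aeval g (C a * X ^ (n + 1)) z = aeval g (C a * X ^ n) (g z) := by
      rw [pow_succ, ← mul_assoc, map_mul, aeval_X, Module.End.mul_apply]
    have h2 : (C a * X ^ (n + 1)).eval μ • z = (C a * X ^ n).eval μ • (μ • z) := by
      rw [smul_smul]
      congr 1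
      simp only [eval_mul, eval_C, eval_pow, eval_X]
      ring
    rw [h1, h2]
    have h3 : aeval g (C a * X ^ n) (g z) - (C a * X ^ n).eval μ • (μ • z) =
        aeval g (C a * X ^ n) (g z - μ • z) +
          μ • (aeval g (C a * X ^ n) z - (C a * X ^ n).eval μ • z) := by
      rw [map_sub, map_smul, smul_sub, smul_comm μ]
      abel
    rw [h3]
    exact p.add_mem (poly_stable p g hg _ _ hz) (p.smul_mem μ ih)

/-- Restriction of a diagonalizable operator to an invariant subspace: components stay inside. -/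
theorem mem_iSup_inf_eigenspace (p : Submodule k V) (g : Module.End k V) (hg : ∀ x ∈ p, g x ∈ p)
    (hdiag : ⨆ μ : k, Module.End.eigenspace g μ = ⊤) (w : V) (hw : w ∈ p) :
    w ∈ ⨆ μ : k, p ⊓ Module.End.eigenspace g μ := by
  classical
  have hw' : w ∈ ⨆ μ : k, Module.End.eigenspace g μ := by rw [hdiag]; trivial
  obtain ⟨m, hm, rfl⟩ := (Submodule.mem_iSup_iff_exists_finsupp _ _).mp hw'
  refine (Submodule.mem_iSup_iff_exists_finsupp _ _).mpr ⟨m, fun μ => ⟨?_, hm μ⟩, rfl⟩
  by_cases hμ : μ ∈ m.support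
  swap
  · rw [Finsupp.notMem_support_iff.mp hμ]; exact p.zero_mem
  set P : k[X] := ∏ μ' ∈ m.support.erase μ, (X - C μ') with hP
  have heig : ∀ μ', aeval g P (m μ') = P.eval μ' • m μ' := by
    intro μ'
    have := poly_eig_mod (⊥ : Submodule k V) g (fun x hx => by
      rw [Submodule.mem_bot] at hx ⊢; rw [hx, map_zero]) μ' (m μ') (by
      rw [Submodule.mem_bot, sub_eq_zero]; exact Module.End.mem_eigenspace_iff.mp (hm μ')) P
    rwa [Submodule.mem_bot, sub_eq_zero] at this
  have hsum : aeval g P (m.sum fun _ x => x) = P.eval μ • m μ := by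
    rw [map_finsuppSum, Finsupp.sum]
    rw [Finset.sum_eq_single μ]
    · exact heig μ
    · intro μ' hμ' hne
      rw [heig μ']
      have : P.eval μ' = 0 := by
        rw [hP, eval_prod]
        apply Finset.prod_eq_zero (Finset.mem_erase.mpr ⟨hne, hμ'⟩)
        simp
      rw [this, zero_smul]
    · intro h; exact absurd hμ h
  have hne : P.eval μ ≠ 0 := by
    rw [hP, eval_prod]
    apply Finset.prod_ne_zero_iff.mpr
    intro μ' hμ'
    simp only [eval_sub, eval_X, eval_C]
    exact sub_ne_zero.mpr (Finset.ne_of_mem_erase hμ').symm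
  have h1 : P.eval μ • m μ ∈ p := by
    rw [← hsum]
    exact poly_stable p g hg P _ hw
  have := p.smul_mem (P.eval μ)⁻¹ h1
  rwa [smul_smul, inv_mul_cancel₀ hne, one_smul] at this

end Poly

section Core
variable {k : Type u} [Field k] {R : Type v} [CommRing R] [Algebra k R]
  {V : Type w} [AddCommGroup V] [Module R V] [Module k V] [IsScalarTower k R V]
  {ι : Type x} (f : ι → Module.End R V)

variable (k) in
def S (I : Submodule R V) (χ : ι → k) : Submodule k V where
  carrier := {x | ∀ i, f i x - χ i • x ∈ I}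
  add_mem' := by
    intro a b ha hb i
    have : f i (a + b) - χ i • (a + b) = (f i a - χ i • a) + (f i b - χ i • b) := by
      rw [map_add, smul_add]; abel
    rw [this]
    exact I.add_mem (ha i) (hb i)
  zero_mem' := by
    intro i
    simp
  smul_mem' := by
    intro c a ha i
    have : f i (c • a) - χ i • (c • a) = c • (f i a - χ i • a) := by
      rw [LinearMap.map_smul_of_tower, smul_sub, smul_comm (χ i) c a]
    rw [this]
    exact (I.restrictScalars k).smul_mem c (ha i)

theorem mem_S (I : Submodule R V) (χ : ι → k) (x : V) :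
    x ∈ S k f I χ ↔ ∀ i, f i x - χ i • x ∈ I := Iff.rfl

variable (k) in
def TT (I : Submodule R V) : Submodule k V := ⨆ χ : ι → k, S k f I χ

def Stab (I : Submodule R V) : Prop := ∀ i, ∀ x ∈ I, f i x ∈ I

theorem le_TT (I : Submodule R V) (hI : Stab f I) : ∀ x ∈ I, x ∈ TT k f I := by
  intro x hx
  refine Submodule.mem_iSup_of_mem (fun _ => (0 : k)) ?_
  intro i
  rw [zero_smul, sub_zero]
  exact hI i x hx

theorem smul_mem_k (I : Submodule R V) (c : k) {x : V} (hx : x ∈ I) : c • x ∈ I :=
  (I.restrictScalars k).smul_mem c hx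

theorem combine (I J₁ J₂ : Submodule R V) (hI : Stab f I) (h₁ : Stab f J₁) (h₂ : Stab f J₂)
    (hinf : J₁ ⊓ J₂ ≤ I) (hsup : J₁ ⊔ J₂ = ⊤) (hT : TT k f J₂ = ⊤) :
    ∀ a ∈ J₁, a ∈ TT k f I := by
  have key : ∀ x : V, ∃ x' ∈ TT k f I, x' ∈ J₁ ∧ x - x' ∈ J₂ := by
    intro x
    have hx : x ∈ TT k f J₂ := by rw [hT]; trivial
    unfold TT at hx
    refine Submodule.iSup_induction (motive := fun x => ∃ x' ∈ TT k f I, x' ∈ J₁ ∧ x - x' ∈ J₂) _ hx
      ?_ ?_ ?_
    · intro χ x hx
      have hx12 : x ∈ J₁ ⊔ J₂ := by rw [hsup]; trivial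
      obtain ⟨x₁, hx₁, x₂, hx₂, rfl⟩ := Submodule.mem_sup.mp hx12
      refine ⟨x₁, Submodule.mem_iSup_of_mem χ ?_, hx₁, by simpa using hx₂⟩
      intro j
      apply hinf
      refine ⟨J₁.sub_mem (h₁ j _ hx₁) (smul_mem_k J₁ _ hx₁), ?_⟩
      have : f j x₁ - χ j • x₁ = (f j (x₁ + x₂) - χ j • (x₁ + x₂)) - (f j x₂ - χ j • x₂) := by
        rw [map_add, smul_add]; abel
      rw [this]
      exact J₂.sub_mem (hx j) (J₂.sub_mem (h₂ j _ hx₂) (smul_mem_k J₂ _ hx₂))
    · exact ⟨0, Submodule.zero_mem _, Submodule.zero_mem _, by simp⟩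
    · rintro x y ⟨x', hx'T, hx'1, hx'2⟩ ⟨y', hy'T, hy'1, hy'2⟩
      refine ⟨x' + y', Submodule.add_mem _ hx'T hy'T, J₁.add_mem hx'1 hy'1, ?_⟩
      have : x + y - (x' + y') = (x - x') + (y - y') := by abel
      rw [this]
      exact J₂.add_mem hx'2 hy'2
  intro a ha
  obtain ⟨a', ha'T, ha'1, ha'2⟩ := key a
  have : a - a' ∈ I := hinf ⟨J₁.sub_mem ha ha'1, ha'2⟩
  have h3 : a = a' + (a - a') := by abel
  rw [h3]
  exact Submodule.add_mem _ ha'T (le_TT f I hI _ this)

theorem stab_sup (I J : Submodule R V) (hI : Stab f I) (hJ : Stab f J) : Stab f (I ⊔ J) := by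
  intro i x hx
  obtain ⟨a, ha, b, hb, rfl⟩ := Submodule.mem_sup.mp hx
  rw [map_add]
  exact Submodule.add_mem _ (Submodule.mem_sup_left (hI i a ha)) (Submodule.mem_sup_right (hJ i b hb))

theorem stab_iSup {α : Sort*} (p : α → Submodule R V) (hp : ∀ a, Stab f (p a)) :
    Stab f (⨆ a, p a) := by
  intro i x hx
  refine Submodule.iSup_induction (motive := fun x => f i x ∈ ⨆ a, p a) _ hx ?_ ?_ ?_
  · intro a y hy
    exact Submodule.mem_iSup_of_mem a (hp a i y hy)
  · rw [map_zero]; exact Submodule.zero_mem _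
  · intro y z hy hz
    rw [map_add]; exact Submodule.add_mem _ hy hz

theorem core [IsNoetherian R V] (hcomm : ∀ i j, Commute (f i) (f j))
    (hdiag : ∀ i, ⨆ μ : k, Module.End.eigenspace ((f i).restrictScalars k) μ = ⊤) :
    ∀ I : Submodule R V, Stab f I → TT k f I = ⊤ := by
  intro I
  refine IsNoetherian.induction (P := fun I => Stab f I → TT k f I = ⊤) ?_ I
  clear I
  intro I IH hI
  by_cases hA : ∀ i, ∃ μ : k, ∀ v, f i v - μ • v ∈ I
  · choose χ hχ using hA
    rw [eq_top_iff]
    intro v _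
    exact Submodule.mem_iSup_of_mem χ (fun i => hχ i v)
  · push Not at hA
    obtain ⟨i, hi⟩ := hA
    let J : k → Submodule R V := fun μ =>
      I.comap (f i - algebraMap R (Module.End R V) (algebraMap k R μ))
    have memJ : ∀ μ v, v ∈ J μ ↔ f i v - μ • v ∈ I := by
      intro μ v
      simp only [J, Submodule.mem_comap, LinearMap.sub_apply, Module.algebraMap_end_apply,
        algebraMap_smul]
    have hIJ : ∀ μ, I ≤ J μ := fun μ v hv =>
      (memJ μ v).mpr (I.sub_mem (hI i v hv) (smul_mem_k I μ hv))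
    have hJstab : ∀ μ, Stab f (J μ) := by
      intro μ j v hv
      rw [memJ] at hv ⊢
      have : f i (f j v) - μ • f j v = f j (f i v - μ • v) := by
        rw [map_sub, LinearMap.map_smul_of_tower]
        congr 1
        exact congrFun (congrArg DFunLike.coe (hcomm i j).eq) v
      rw [this]
      exact hI j _ hv
    have hJne : ∀ μ, J μ ≠ ⊤ := by
      intro μ h
      obtain ⟨v, hv⟩ := hi μ
      exact hv ((memJ μ v).mp (h ▸ Submodule.mem_top))
    have hJsup : ∀ v : V, v ∈ ⨆ μ, J μ := by
      intro v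
      have hv : v ∈ ⨆ μ : k, Module.End.eigenspace ((f i).restrictScalars k) μ := by
        rw [hdiag i]; trivial
      refine Submodule.iSup_induction (motive := fun v => v ∈ ⨆ μ, J μ) _ hv ?_ ?_ ?_
      · intro μ x hx
        refine Submodule.mem_iSup_of_mem μ ((memJ μ x).mpr ?_)
        rw [Module.End.mem_eigenspace_iff] at hx
        have : f i x = μ • x := hx
        rw [this, sub_self]
        exact I.zero_mem
      · exact Submodule.zero_mem _
      · intro x y hx hy
        exact Submodule.add_mem _ hx hy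
    obtain ⟨μ₀, hμ₀⟩ : ∃ μ₀, J μ₀ ≠ I := by
      by_contra hcon
      push Not at hcon
      apply hJne 0
      rw [eq_top_iff]
      intro v _
      have hv := hJsup v
      have : (⨆ μ, J μ) ≤ J 0 := iSup_le fun μ => by rw [hcon μ, hcon 0]
      exact this hv
    set J₁ := J μ₀ with hJ₁
    set J₂ : Submodule R V := I ⊔ ⨆ μ : {μ : k // μ ≠ μ₀}, J μ.1 with hJ₂
    have hJ₂stab : Stab f J₂ := stab_sup f _ _ hI (stab_iSup f _ fun μ => hJstab μ.1)
    have hsup : J₁ ⊔ J₂ = ⊤ := by
      rw [eq_top_iff]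
      intro v _
      refine Submodule.iSup_induction (motive := fun v => v ∈ J₁ ⊔ J₂) _ (hJsup v) ?_ ?_ ?_
      · intro μ x hx
        by_cases hμ : μ = μ₀
        · subst hμ
          exact Submodule.mem_sup_left hx
        · exact Submodule.mem_sup_right (Submodule.mem_sup_right
            (Submodule.mem_iSup_of_mem (⟨μ, hμ⟩ : {μ : k // μ ≠ μ₀}) hx))
      · exact Submodule.zero_mem _
      · intro x y hx hy
        exact Submodule.add_mem _ hx hy
    set g : Module.End k V := (f i).restrictScalars k with hg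
    have hgI : ∀ x ∈ I.restrictScalars k, g x ∈ I.restrictScalars k := fun x hx => hI i x hx
    have hinf : J₁ ⊓ J₂ ≤ I := by
      have claim : ∀ z ∈ ⨆ μ : {μ : k // μ ≠ μ₀}, J μ.1,
          ∃ P : k[X], P.eval μ₀ ≠ 0 ∧ aeval g P z ∈ I.restrictScalars k := by
        intro z hz
        refine Submodule.iSup_induction
          (motive := fun z => ∃ P : k[X], P.eval μ₀ ≠ 0 ∧ aeval g P z ∈ I.restrictScalars k) _ hz
          ?_ ?_ ?_
        · intro μ x hx
          refine ⟨X - C μ.1, ?_, ?_⟩
          · simp only [eval_sub, eval_X, eval_C]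
            exact sub_ne_zero.mpr μ.2.symm
          · rw [map_sub, aeval_X, aeval_C, LinearMap.sub_apply, Module.algebraMap_end_apply]
            exact (memJ μ.1 x).mp hx
        · exact ⟨1, by simp, by simp⟩
        · rintro x y ⟨P, hP0, hP⟩ ⟨Q, hQ0, hQ⟩
          refine ⟨P * Q, by rw [eval_mul]; exact mul_ne_zero hP0 hQ0, ?_⟩
          rw [map_add]
          refine Submodule.add_mem _ ?_ ?_
          · rw [mul_comm, map_mul, Module.End.mul_apply]
            exact poly_stable _ g hgI Q _ hP
          · rw [map_mul, Module.End.mul_apply]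
            exact poly_stable _ g hgI P _ hQ
      rintro v ⟨hv1, hv2⟩
      obtain ⟨y, hy, z, hz, rfl⟩ := Submodule.mem_sup.mp hv2
      have hz1 : z ∈ J₁ := by
        have : z = (y + z) - y := by abel
        rw [this]
        exact J₁.sub_mem hv1 (hIJ μ₀ hy)
      obtain ⟨P, hP0, hP⟩ := claim z hz
      have h1 := poly_eig_mod (I.restrictScalars k) g hgI μ₀ z ((memJ μ₀ z).mp hz1) P
      have h2 : P.eval μ₀ • z ∈ I.restrictScalars k := by
        have : P.eval μ₀ • z = aeval g P z - (aeval g P z - P.eval μ₀ • z) := by abel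
        rw [this]
        exact Submodule.sub_mem _ hP h1
      have h3 := (I.restrictScalars k).smul_mem (P.eval μ₀)⁻¹ h2
      rw [smul_smul, inv_mul_cancel₀ hP0, one_smul] at h3
      exact I.add_mem hy h3
    have hlt₁ : I < J₁ := lt_of_le_of_ne (hIJ μ₀) hμ₀.symm
    have hlt₂ : I < J₂ := by
      refine lt_of_le_of_ne le_sup_left ?_
      intro heq
      apply hJne μ₀
      rw [eq_top_iff, ← hsup]
      refine sup_le le_rfl ?_
      rw [← heq]
      exact hIJ μ₀
    have hT₁ := IH J₁ hlt₁ (hJstab μ₀)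
    have hT₂ := IH J₂ hlt₂ hJ₂stab
    have hc₁ := combine f I J₁ J₂ hI (hJstab μ₀) hJ₂stab hinf hsup hT₂
    have hc₂ := combine f I J₂ J₁ hI hJ₂stab (hJstab μ₀) (by rwa [inf_comm]) (by rwa [sup_comm]) hT₁
    rw [eq_top_iff]
    intro v _
    have hv : v ∈ J₁ ⊔ J₂ := by rw [hsup]; trivial
    obtain ⟨a, ha, b, hb, rfl⟩ := Submodule.mem_sup.mp hv
    exact Submodule.add_mem _ (hc₁ a ha) (hc₂ b hb)

end Core

theorem main
    (k : Type u) [Field k] (R : Type v) [CommRing R] [Algebra k R] [IsNoetherianRing R]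
    (V : Type w) [AddCommGroup V] [Module R V] [Module k V] [IsScalarTower k R V]
    (ι : Type x) (f : ι → Module.End R V)
    (hcomm : ∀ i j, Commute (f i) (f j))
    (hdiag : ∀ i, ⨆ μ : k, Module.End.eigenspace ((f i).restrictScalars k) μ = ⊤)
    (hfin : ∀ v : V, ∃ W : Submodule R V, v ∈ W ∧ W.FG ∧ ∀ i, ∀ w ∈ W, f i w ∈ W) :
    ⨆ χ : ι → k, ⨅ i, Module.End.eigenspace ((f i).restrictScalars k) (χ i) = ⊤ := by
  classical
  rw [eq_top_iff]
  intro v _
  obtain ⟨W, hvW, hWfg, hWstab⟩ := hfin v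
  have : Module.Finite R W := Module.Finite.iff_fg.mpr hWfg
  have : IsNoetherian R W := isNoetherian_of_isNoetherianRing_of_finite R W
  let fW : ι → Module.End R W := fun i => (f i).restrict (hWstab i)
  have hcommW : ∀ i j, Commute (fW i) (fW j) := by
    intro i j
    apply LinearMap.ext
    intro w
    apply Subtype.ext
    simp only [fW, Module.End.mul_apply, LinearMap.coe_restrict_apply]
    exact congrFun (congrArg DFunLike.coe (hcomm i j).eq) (w : V)
  have hdiagW : ∀ i, ⨆ μ : k, Module.End.eigenspace ((fW i).restrictScalars k) μ = ⊤ := by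
    intro i
    rw [eq_top_iff]
    intro w _
    have h1 := mem_iSup_inf_eigenspace (W.restrictScalars k) ((f i).restrictScalars k)
      (fun x hx => hWstab i x hx) (hdiag i) w.1 w.2
    obtain ⟨m, hm, hsum⟩ := (Submodule.mem_iSup_iff_exists_finsupp _ _).mp h1
    have hmW : ∀ μ, m μ ∈ W := fun μ => (hm μ).1
    have hw : w = m.sum fun μ x => (if hx : x ∈ W then (⟨x, hx⟩ : W) else 0) := by
      apply Subtype.ext
      rw [← hsum, Finsupp.sum, Finsupp.sum, AddSubmonoidClass.coe_finsetSum]
      refine Finset.sum_congr rfl fun μ _ => ?_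
      rw [dif_pos (hmW μ)]
    rw [hw, Finsupp.sum]
    refine Submodule.sum_mem _ fun μ _ => ?_
    refine Submodule.mem_iSup_of_mem μ ?_
    rw [dif_pos (hmW μ), Module.End.mem_eigenspace_iff]
    apply Subtype.ext
    have := Module.End.mem_eigenspace_iff.mp (hm μ).2
    exact this
  have hcore := core (k := k) fW hcommW hdiagW ⊥ (by
    intro i x hx
    rw [Submodule.mem_bot] at hx ⊢
    rw [hx, map_zero])
  have hv : (⟨v, hvW⟩ : W) ∈ TT k fW ⊥ := by rw [hcore]; trivial
  unfold TT at hv
  refine Submodule.iSup_induction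
    (motive := fun x : W => (x : V) ∈ ⨆ χ : ι → k, ⨅ i,
      Module.End.eigenspace ((f i).restrictScalars k) (χ i)) _ hv ?_ ?_ ?_
  · intro χ x hx
    refine Submodule.mem_iSup_of_mem χ ?_
    rw [Submodule.mem_iInf]
    intro i
    rw [Module.End.mem_eigenspace_iff]
    have := (mem_S fW ⊥ χ x).mp hx i
    rw [Submodule.mem_bot, sub_eq_zero] at this
    have h2 := congrArg Subtype.val this
    exact h2
  · exact Submodule.zero_mem _
  · intro x y hx hy
    rw [Submodule.coe_add]
    exact Submodule.add_mem _ hx hy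

end Groth.Agent.Helper8.SimDiag
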