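import Groth.Statements.S16160
import Groth.Agent.Helper8.SimDiag

set_option autoImplicit false
universe u v w

namespace Groth.Agent.Helper8.PtAct

open TensorProduct MadRed Coalgebra

section Gen
variable {k : Type u} [CommRing k] {A : Type v} [CommRing A] [Bialgebra k A]
  {R : Type w} [CommRing R] [Algebra k R]

theorem translAux_repr {ι : Type*} (g : A →ₐ[k] R) (a : A) (𝓡 : Coalgebra.Repr k a ι) :
    translAux k A R g a = ∑ i ∈ 𝓡.index, g (𝓡.right i) ⊗ₜ[k] 𝓡.left i := by
  simp only [translAux, AlgHom.comp_apply, Bialgebra.comulAlgHom_apply, ← 𝓡.eq, map_sum]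
  refine Finset.sum_congr rfl fun i _ => ?_
  rfl

theorem ptAct_tmul (g : A →ₐ[k] R) (r : R) (a : A) :
    ptAct k A R g (r ⊗ₜ[k] a) = r • translAux k A R g a := by
  simp only [ptAct, Algebra.TensorProduct.lift_tmul, Algebra.TensorProduct.includeLeft_apply]
  rw [Algebra.smul_def]
  rfl

theorem conv_apply_repr {ι : Type*} (g h : A →ₐ[k] R) (a : A) (𝓡 : Coalgebra.Repr k a ι) :
    (WithConv.toConv g * WithConv.toConv h).ofConv a = ∑ i ∈ 𝓡.index, g (𝓡.left i) * h (𝓡.right i) := by
  have := AlgHom.convMul_apply (WithConv.toConv g) (WithConv.toConv h) a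
  rw [← 𝓡.eq, map_sum] at this
  simpa using this

theorem ptAct_comp (g h : A →ₐ[k] R) (x : R ⊗[k] A) :
    ptAct k A R g (ptAct k A R h x) =
      ptAct k A R (WithConv.toConv g * WithConv.toConv h).ofConv x := by
  induction x using TensorProduct.induction_on with
  | zero => simp
  | add x y hx hy => simp only [map_add, hx, hy]
  | tmul r a =>
    rw [ptAct_tmul, ptAct_tmul, map_smul]
    congr 1
    -- the core identity
    let T : A ⊗[k] (A ⊗[k] A) →ₗ[k] R ⊗[k] A :=
      (TensorProduct.comm k A R).toLinearMap ∘ₗ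
        (LinearMap.lTensor A ((LinearMap.mul' k R) ∘ₗ TensorProduct.map g.toLinearMap h.toLinearMap))
    have hT : ∀ x y z, T (x ⊗ₜ (y ⊗ₜ z)) = (g y * h z) ⊗ₜ x := by
      intro x y z
      simp [T]
    have key := congrArg T (Coalgebra.sum_tmul_tmul_eq (ℛ k a) (fun i => ℛ k ((ℛ k a).left i))
      (fun i => ℛ k ((ℛ k a).right i)))
    simp only [map_sum, hT] at key
    rw [translAux_repr h a (ℛ k a), map_sum, translAux_repr _ a (ℛ k a)]
    have hL : ∀ i ∈ (ℛ k a).index, (ptAct k A R g) (h ((ℛ k a).right i) ⊗ₜ[k] (ℛ k a).left i) =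
        ∑ j ∈ (ℛ k ((ℛ k a).left i)).index,
          (g ((ℛ k ((ℛ k a).left i)).right j) * h ((ℛ k a).right i)) ⊗ₜ[k]
            (ℛ k ((ℛ k a).left i)).left j := by
      intro i _
      rw [ptAct_tmul, translAux_repr g _ (ℛ k ((ℛ k a).left i)), Finset.smul_sum]
      refine Finset.sum_congr rfl fun j _ => ?_
      rw [TensorProduct.smul_tmul', smul_eq_mul, mul_comm]
    have hR : ∀ i ∈ (ℛ k a).index,
        (WithConv.toConv g * WithConv.toConv h).ofConv ((ℛ k a).right i) ⊗ₜ[k] (ℛ k a).left i =
        ∑ j ∈ (ℛ k ((ℛ k a).right i)).index,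
          (g ((ℛ k ((ℛ k a).right i)).left j) * h ((ℛ k ((ℛ k a).right i)).right j)) ⊗ₜ[k]
            (ℛ k a).left i := by
      intro i _
      rw [conv_apply_repr g h _ (ℛ k ((ℛ k a).right i)), TensorProduct.sum_tmul]
    rw [Finset.sum_congr rfl hL, Finset.sum_congr rfl hR]
    exact key

end Gen

section LocFin
variable {k : Type u} [Field k] {A : Type v} [AddCommGroup A] [Module k A] [Coalgebra k A]

/-- `U ⊗ A` inside `A ⊗ A` -/
def leftRange (U : Submodule k A) : Submodule k (A ⊗[k] A) :=
  LinearMap.range (TensorProduct.map U.subtype (LinearMap.id : A →ₗ[k] A))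

theorem tmul_mem_leftRange (U : Submodule k A) {x : A} (hx : x ∈ U) (y : A) :
    x ⊗ₜ[k] y ∈ leftRange U :=
  ⟨(⟨x, hx⟩ : U) ⊗ₜ[k] y, by simp⟩

theorem exists_fg_subcomodule (a : A) :
    ∃ U : Submodule k A, U.FG ∧ a ∈ U ∧ ∀ u ∈ U, comul u ∈ leftRange (k := k) U := by
  classical
  let 𝒞 := Module.Basis.ofVectorSpace k A
  obtain ⟨b, hb⟩ := TensorProduct.eq_repr_basis_right 𝒞 (comul (R := k) a)
  let U : Submodule k A := Submodule.span k ((b.support.image b : Finset A) : Set A)
  have hbU : ∀ i, b i ∈ U := by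
    intro i
    by_cases hi : i ∈ b.support
    · exact Submodule.subset_span (Finset.mem_coe.mpr (Finset.mem_image_of_mem b hi))
    · rw [Finsupp.notMem_support_iff.mp hi]
      exact U.zero_mem
  refine ⟨U, Submodule.fg_span (Finset.finite_toSet _), ?_, ?_⟩
  · -- a ∈ U via counit
    have h1 := Coalgebra.lTensor_counit_comul (R := k) a
    rw [← hb, Finsupp.sum, map_sum] at h1
    have h2 := congrArg (TensorProduct.rid k A) h1
    rw [map_sum] at h2
    simp only [LinearMap.lTensor_tmul, TensorProduct.rid_tmul, one_smul] at h2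
    rw [← h2]
    exact U.sum_mem fun i _ => U.smul_mem _ (hbU i)
  · -- it suffices to check generators
    have hgen : ∀ l, comul (R := k) (b l) ∈ leftRange (k := k) U := by
      intro l
      let Ψ : (A ⊗[k] A) ⊗[k] A →ₗ[k] A ⊗[k] A :=
        (TensorProduct.rid k (A ⊗[k] A)).toLinearMap ∘ₗ LinearMap.lTensor (A ⊗[k] A) (𝒞.coord l)
      let Φ : A ⊗[k] (A ⊗[k] A) →ₗ[k] A ⊗[k] A :=
        LinearMap.lTensor A ((TensorProduct.rid k A).toLinearMap ∘ₗ LinearMap.lTensor A (𝒞.coord l))
      have hΦΨ : ∀ t, Φ (TensorProduct.assoc k A A A t) = Ψ t := by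
        intro t
        have : Φ ∘ₗ (TensorProduct.assoc k A A A).toLinearMap = Ψ := by
          apply TensorProduct.ext_threefold
          intro x y z
          simp [Φ, Ψ, TensorProduct.tmul_smul, TensorProduct.smul_tmul']
        exact LinearMap.congr_fun this t
      have h1 : Ψ (comul.rTensor A (comul (R := k) a)) = comul (R := k) (b l) := by
        rw [← hb, Finsupp.sum, map_sum, map_sum]
        simp only [LinearMap.rTensor_tmul, Ψ, LinearMap.comp_apply, LinearMap.lTensor_tmul,
          LinearEquiv.coe_coe, TensorProduct.rid_tmul, Module.Basis.coord_apply,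
          Module.Basis.repr_self]
        rw [Finset.sum_eq_single l]
        · simp
        · intro i _ hil
          rw [Finsupp.single_eq_of_ne hil.symm, zero_smul]
        · intro hl
          rw [Finsupp.notMem_support_iff.mp hl, map_zero, smul_zero]
      rw [← h1, ← hΦΨ, Coalgebra.coassoc_apply, ← hb, Finsupp.sum, map_sum, map_sum]
      refine Submodule.sum_mem _ fun i _ => ?_
      simp only [LinearMap.lTensor_tmul, Φ]
      exact tmul_mem_leftRange U (hbU i) _
    intro u hu
    induction hu using Submodule.span_induction with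
    | mem x hx =>
      obtain ⟨l, _, rfl⟩ := Finset.mem_image.mp (Finset.mem_coe.mp hx)
      exact hgen l
    | zero => rw [map_zero]; exact Submodule.zero_mem _
    | add x y _ _ hx hy => rw [map_add]; exact Submodule.add_mem _ hx hy
    | smul c x _ hx => rw [map_smul]; exact Submodule.smul_mem _ c hx

end LocFin

theorem main (k : Type u) [Field k]
    (A : Type v) [CommRing A] [HopfAlgebra k A] (R : Type w) [CommRing R] [Algebra k R]
    [IsNoetherianRing R] (H : Set (A →ₐ[k] R))
    (hcomm : ∀ g ∈ H, ∀ h ∈ H,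
      WithConv.toConv g * WithConv.toConv h = WithConv.toConv h * WithConv.toConv g)
    (hdiag : ∀ g ∈ H, ⨆ μ : k,
      Module.End.eigenspace (((MadRed.ptAct k A R g).toLinearMap).restrictScalars k) μ = ⊤) :
    ⨆ χ : H → k, ⨅ g : H,
      Module.End.eigenspace (((MadRed.ptAct k A R g.1).toLinearMap).restrictScalars k) (χ g) = ⊤ := by
  apply SimDiag.main k R (R ⊗[k] A) H (fun g => (ptAct k A R g.1).toLinearMap)
  · intro g h
    apply LinearMap.ext
    intro x
    change ptAct k A R g.1 (ptAct k A R h.1 x) = ptAct k A R h.1 (ptAct k A R g.1 x)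
    rw [ptAct_comp, ptAct_comp, hcomm g.1 g.2 h.1 h.2]
  · intro g
    exact hdiag g.1 g.2
  · intro v
    induction v using TensorProduct.induction_on with
    | zero =>
      refine ⟨⊥, Submodule.zero_mem _, Submodule.fg_bot, fun i w hw => ?_⟩
      rw [(Submodule.mem_bot R).mp hw, map_zero]
      exact Submodule.zero_mem _
    | tmul r a =>
      obtain ⟨U, hUfg, haU, hU⟩ := exists_fg_subcomodule (k := k) a
      obtain ⟨s, hs⟩ := hUfg
      let W : Submodule R (R ⊗[k] A) :=
        Submodule.span R ((fun u : A => (1 : R) ⊗ₜ[k] u) '' (s : Set A))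
      have hUW : ∀ u ∈ U, (1 : R) ⊗ₜ[k] u ∈ W := by
        intro u hu
        rw [← hs] at hu
        induction hu using Submodule.span_induction with
        | mem x hx => exact Submodule.subset_span ⟨x, hx, rfl⟩
        | zero => rw [TensorProduct.tmul_zero]; exact W.zero_mem
        | add x y _ _ hx hy => rw [TensorProduct.tmul_add]; exact W.add_mem hx hy
        | smul c x _ hx =>
          rw [TensorProduct.tmul_smul, ← algebraMap_smul R c ((1 : R) ⊗ₜ[k] x)]
          exact W.smul_mem _ hx
      refine ⟨W, ?_, Submodule.fg_span ((Finset.finite_toSet s).image _), ?_⟩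
      · have : r ⊗ₜ[k] a = r • ((1 : R) ⊗ₜ[k] a) := by
          rw [TensorProduct.smul_tmul', smul_eq_mul, mul_one]
        rw [this]
        exact W.smul_mem r (hUW a haU)
      · intro g w hw
        change ptAct k A R g.1 w ∈ W
        induction hw using Submodule.span_induction with
        | mem x hx =>
          obtain ⟨u, hu, rfl⟩ := hx
          have huU : u ∈ U := by rw [← hs]; exact Submodule.subset_span hu
          rw [ptAct_tmul, one_smul]
          obtain ⟨t, ht⟩ := hU u huU
          let τ : A ⊗[k] A →ₗ[k] R ⊗[k] A :=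
            (TensorProduct.map g.1.toLinearMap (LinearMap.id : A →ₗ[k] A)) ∘ₗ
              (TensorProduct.comm k A A).toLinearMap
          have hτ : translAux k A R g.1 u = τ (comul u) := rfl
          rw [hτ, ← ht]
          clear ht
          induction t using TensorProduct.induction_on with
          | zero => simp only [map_zero]; exact W.zero_mem
          | tmul x y =>
            have : τ ((TensorProduct.map U.subtype (LinearMap.id : A →ₗ[k] A)) (x ⊗ₜ[k] y)) =
                g.1 y • ((1 : R) ⊗ₜ[k] (x : A)) := by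
              simp [τ, TensorProduct.smul_tmul']
            rw [this]
            exact W.smul_mem _ (hUW x x.2)
          | add x y hx hy => simp only [map_add]; exact W.add_mem hx hy
        | zero => rw [map_zero]; exact W.zero_mem
        | add x y _ _ hx hy => rw [map_add]; exact W.add_mem hx hy
        | smul c x _ hx => rw [map_smul]; exact W.smul_mem c hx
    | add x y hx hy =>
      obtain ⟨W₁, hx1, hfg1, hst1⟩ := hx
      obtain ⟨W₂, hy2, hfg2, hst2⟩ := hy
      refine ⟨W₁ ⊔ W₂, Submodule.add_mem_sup hx1 hy2, hfg1.sup hfg2, ?_⟩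
      intro g w hw
      obtain ⟨a, ha, b, hb, rfl⟩ := Submodule.mem_sup.mp hw
      rw [map_add]
      exact Submodule.add_mem_sup (hst1 g a ha) (hst2 g b hb)

end Groth.Agent.Helper8.PtAct
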