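import Mathlib
import Groth.Prelude.Def_W4c4chowquasisplitNorm

set_option autoImplicit false
universe u
open CategoryTheory AlgebraicGeometry

namespace Groth.Agent.Helper8.PtChow

theorem finsum_mem_unique' {α M : Type*} [AddCommMonoid M] [Unique α] (S : Set α)
    (hS : default ∈ S) (g : α → M) : ∑ᶠ x ∈ S, g x = g default := by
  have hS' : S = Set.univ :=
    Set.eq_univ_of_forall (fun x => by rw [Unique.eq_default x]; exact hS)
  rw [hS', finsum_mem_univ, finsum_unique]

/-- evaluation at a point of Spec of an artinian ring is surjective -/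
theorem Γevaluation_surjective_Spec (A : CommRingCat.{u}) [IsArtinianRing A] (y : ↥(Spec A)) :
    Function.Surjective ((Spec A).Γevaluation y).hom := by
  have h := Scheme.Spec.algebraMap_residueFieldIso_inv A y
  have h2 : (Spec A).Γevaluation y = (Scheme.ΓSpecIso A).hom ≫
      CommRingCat.ofHom (algebraMap A y.asIdeal.ResidueField) ≫
        (Scheme.Spec.residueFieldIso A y).inv := by
    rw [h]; simp [Scheme.Γevaluation, Scheme.evaluation]
  rw [h2]
  haveI : y.asIdeal.IsMaximal := IsArtinianRing.isMaximal_of_isPrime _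
  have s1 : Function.Surjective (Scheme.ΓSpecIso A).hom.hom :=
    (ConcreteCategory.bijective_of_isIso (Scheme.ΓSpecIso A).hom).2
  have s2 : Function.Surjective (CommRingCat.ofHom (algebraMap A y.asIdeal.ResidueField)).hom :=
    Ideal.algebraMap_residueField_surjective _
  have s3 : Function.Surjective (Scheme.Spec.residueFieldIso A y).inv.hom :=
    (ConcreteCategory.bijective_of_isIso (Scheme.Spec.residueFieldIso A y).inv).2
  intro c
  obtain ⟨b, rfl⟩ := s3 c
  obtain ⟨a, rfl⟩ := s2 b
  obtain ⟨a', rfl⟩ := s1 a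
  exact ⟨a', rfl⟩

/-- the comparison `F → κ(x)` for a point of `Spec F` -/
noncomputable def evF (F : Type u) [Field F] (x : ↥(Spec (CommRingCat.of F))) :
    F →+* (Spec (CommRingCat.of F)).residueField x :=
  ((Scheme.ΓSpecIso (CommRingCat.of F)).inv ≫ (Spec (CommRingCat.of F)).Γevaluation x).hom

theorem evF_bijective (F : Type u) [Field F] (x : ↥(Spec (CommRingCat.of F))) :
    Function.Bijective (evF F x) := by
  refine ⟨RingHom.injective (evF F x), ?_⟩
  have s1 : Function.Surjective (Scheme.ΓSpecIso (CommRingCat.of F)).inv.hom :=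
    (ConcreteCategory.bijective_of_isIso (Scheme.ΓSpecIso (CommRingCat.of F)).inv).2
  haveI : IsArtinianRing (CommRingCat.of F) := inferInstanceAs (IsArtinianRing F)
  have s2 := Γevaluation_surjective_Spec (CommRingCat.of F) x
  intro c
  obtain ⟨b, rfl⟩ := s2 c
  obtain ⟨a, rfl⟩ := s1 b
  exact ⟨a, rfl⟩

theorem residueDegree_spec_field (k F : Type u) [Field k] [Field F] [Algebra k F]
    (x : ↥(Spec (CommRingCat.of F))) :
    (Spec.map (CommRingCat.ofHom (algebraMap k F))).residueDegree x = Module.finrank k F := by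
  unfold Scheme.Hom.residueDegree
  letI := ((Spec.map (CommRingCat.ofHom (algebraMap k F))).residueFieldMap x).hom.toAlgebra
  symm
  refine Algebra.finrank_eq_of_equiv_equiv
    (RingEquiv.ofBijective (evF k ((Spec.map (CommRingCat.ofHom (algebraMap k F))) x))
      (evF_bijective k _))
    (RingEquiv.ofBijective (evF F x) (evF_bijective F x)) ?_
  ext c
  have hn := Scheme.Γevaluation_naturality_apply (Spec.map (CommRingCat.ofHom (algebraMap k F))) x
    ((Scheme.ΓSpecIso (CommRingCat.of k)).inv c)
  have hnat := congrArg (fun g => g.hom c)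
    (Scheme.ΓSpecIso_inv_naturality (CommRingCat.ofHom (algebraMap k F)))
  show ((Spec.map (CommRingCat.ofHom (algebraMap k F))).residueFieldMap x).hom
      (((Spec (CommRingCat.of k)).Γevaluation _).hom
        ((Scheme.ΓSpecIso (CommRingCat.of k)).inv.hom c)) =
    ((Spec (CommRingCat.of F)).Γevaluation x).hom
      ((Scheme.ΓSpecIso (CommRingCat.of F)).inv.hom (algebraMap k F c))
  rw [hn]
  exact congrArg _ hnat.symm


section chow

variable (k : Type u) [Field k]

/-- evaluation of a cycle on `Spec k` at the point -/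
noncomputable def evZ :
    ↥(ChowOps.zk (Spec (CommRingCat.of k)) (fun _ => (0 : ℤ)) 0) →+ ℤ where
  toFun a := (a : AlgebraicCycle (Spec (CommRingCat.of k)) ℤ) default
  map_zero' := rfl
  map_add' _ _ := rfl

theorem ratTriv_le_ker :
    ChowOps.ratTriv (Spec (CommRingCat.of k)) (fun _ => (0 : ℤ)) 0 ≤ (evZ k).ker := by
  unfold ChowOps.ratTriv
  rw [AddSubgroup.closure_le]
  rintro a ⟨ι, ξ, f, hδ, hf, hfin, hα⟩
  haveI : IsEmpty ι := ⟨fun i => by have := hδ i; simp at this⟩
  show (a : AlgebraicCycle (Spec (CommRingCat.of k)) ℤ) default = 0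
  rw [hα default, finsum_of_isEmpty]

/-- `CH_0(Spec k) → ℤ` -/
noncomputable def ev : ChowOps.CH (Spec (CommRingCat.of k)) (fun _ => (0 : ℤ)) 0 →+ ℤ :=
  QuotientAddGroup.lift _ (evZ k) (ratTriv_le_ker k)

theorem ev_cl (α : AlgebraicCycle (Spec (CommRingCat.of k)) ℤ)
    (h : α ∈ Cyc.Zk (Spec (CommRingCat.of k)) (fun _ => (0 : ℤ)) 0) :
    ev k (ChowOps.cl α h) = α default := rfl

theorem ev_injective : Function.Injective (ev k) := by
  rw [injective_iff_map_eq_zero]
  intro c hc
  obtain ⟨a, rfl⟩ := QuotientAddGroup.mk_surjective c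
  have ha : (a : AlgebraicCycle (Spec (CommRingCat.of k)) ℤ) default = 0 := hc
  have ha0 : a = 0 := by
    apply Subtype.ext
    apply Function.locallyFinsuppWithin.ext
    intro x
    rw [Unique.eq_default x]
    exact ha
  rw [ha0]; rfl

theorem ev_surjective : Function.Surjective (ev k) := by
  classical
  intro m
  refine ⟨ChowOps.cl (Function.locallyFinsuppWithin.single default m)
    (fun x hx => absurd rfl hx), ?_⟩
  rw [ev_cl]
  simp

theorem map_apply_pt (F : Type u) [Field F] [Algebra k F]
    (α : AlgebraicCycle (Spec (CommRingCat.of F)) ℤ) :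
    AlgebraicCycle.map (Spec.map (CommRingCat.ofHom (algebraMap k F)))
      (fun _ => (0 : ℤ)) (fun _ => (0 : ℤ)) α default = α default * (Module.finrank k F : ℤ) := by
  unfold AlgebraicCycle.map
  rw [Function.locallyFinsupp.map_apply]
  rw [finsum_mem_unique' _ (Set.mem_preimage.mpr (Set.mem_singleton_iff.mpr
    (Subsingleton.elim _ _)))]
  unfold AlgebraicCycle.mapCoeff
  rw [if_pos rfl, residueDegree_spec_field]

variable (K : Type u) [Field K] [Algebra k K]

theorem ev_gen (c : ChowOps.CH (Spec (CommRingCat.of k)) (fun _ => (0 : ℤ)) 0)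
    (hc : c ∈ {c | ∃ (F : IntermediateField k K) (_ : FiniteDimensional k F) (_ : F ≠ ⊥)
        (α : AlgebraicCycle (Spec (CommRingCat.of (F : Type u))) ℤ)
        (h : AlgebraicCycle.map (Spec.map (CommRingCat.ofHom (algebraMap k F)))
          (fun _ => (0 : ℤ)) (fun _ => (0 : ℤ)) α ∈ Cyc.Zk (Spec (CommRingCat.of k)) (fun _ => 0) 0),
        c = ChowOps.cl (AlgebraicCycle.map (Spec.map (CommRingCat.ofHom (algebraMap k F)))
          (fun _ => (0 : ℤ)) (fun _ => (0 : ℤ)) α) h}) :
    ∃ (F : IntermediateField k K) (_ : FiniteDimensional k F) (_ : F ≠ ⊥) (m : ℤ),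
      ev k c = m * (Module.finrank k F : ℤ) := by
  obtain ⟨F, hfd, hne, α, h, rfl⟩ := hc
  exact ⟨F, hfd, hne, α default, by rw [ev_cl]; exact map_apply_pt k F α⟩

theorem mem_of_finrank (F : IntermediateField k K) [FiniteDimensional k F] (hF : F ≠ ⊥) (m : ℤ) :
    ∃ c ∈ QsChow.ptNormSubgroup k K, ev k c = m * (Module.finrank k F : ℤ) := by
  classical
  obtain ⟨α, hα⟩ : ∃ α : AlgebraicCycle (Spec (CommRingCat.of (F : Type u))) ℤ,
      α = Function.locallyFinsuppWithin.single default m := ⟨_, rfl⟩
  have h : AlgebraicCycle.map (Spec.map (CommRingCat.ofHom (algebraMap k F)))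
      (fun _ => (0 : ℤ)) (fun _ => (0 : ℤ)) α ∈
        Cyc.Zk (Spec (CommRingCat.of k)) (fun _ => 0) 0 := fun x hx => absurd rfl hx
  refine ⟨ChowOps.cl _ h, AddSubgroup.subset_closure ⟨F, inferInstance, hF, α, h, rfl⟩, ?_⟩
  rw [ev_cl, map_apply_pt k F α, hα]
  simp


theorem exists_intermediate_finrank (L : IntermediateField k K) [FiniteDimensional k L]
    [IsGalois k L] (p m : ℕ) (hp : p.Prime) (hdvd : p ^ m ∣ Module.finrank k L) :
    ∃ F : IntermediateField k K, Module.finrank k F * p ^ m = Module.finrank k L := by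
  haveI : Fact p.Prime := ⟨hp⟩
  have hcard : Nat.card (L ≃ₐ[k] L) = Module.finrank k L := IsGalois.card_aut_eq_finrank k L
  obtain ⟨H, hH⟩ := Sylow.exists_subgroup_card_pow_prime (G := L ≃ₐ[k] L) p
    (by rw [hcard]; exact hdvd)
  have h1 : Module.finrank (IntermediateField.fixedField H) L = p ^ m := by
    rw [IntermediateField.finrank_fixedField_eq_card, hH]
  have h2 : Module.finrank k (IntermediateField.fixedField H) *
      Module.finrank (IntermediateField.fixedField H) L = Module.finrank k L :=
    Module.finrank_mul_finrank k (IntermediateField.fixedField H) L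
  refine ⟨IntermediateField.lift (IntermediateField.fixedField H), ?_⟩
  have h3 : Module.finrank k (IntermediateField.lift (IntermediateField.fixedField H)) =
      Module.finrank k (IntermediateField.fixedField H) :=
    (IntermediateField.liftAlgEquiv (IntermediateField.fixedField H)).toLinearEquiv.finrank_eq.symm
  rw [h3, ← h1]
  exact h2

theorem finite_of_finrank_mul (L : IntermediateField k K) [FiniteDimensional k L]
    (F : IntermediateField k K) (q : ℕ) (h : Module.finrank k F * q = Module.finrank k L) :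
    FiniteDimensional k F := by
  have hpos : 0 < Module.finrank k L := Module.finrank_pos
  have : 0 < Module.finrank k F := by
    rcases Nat.eq_zero_or_pos (Module.finrank k F) with h0 | h0
    · rw [h0, zero_mul] at h; omega
    · exact h0
  exact Module.finite_of_finrank_pos this

theorem main1 [Algebra.IsSeparable k K]
    (L : IntermediateField k K) [FiniteDimensional k L] [IsGalois k L]
    (hL : ∀ p n : ℕ, p.Prime → Module.finrank k L ≠ p ^ n) :
    QsChow.ptNormSubgroup k K = ⊤ := by
  have hn0 : Module.finrank k L ≠ 0 := (Module.finrank_pos).ne'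
  -- all the cofactors lie in the image
  have hmem : ∀ p : ℕ, p.Prime → ∃ q : ℕ, q * p ^ (Module.finrank k L).factorization p =
      Module.finrank k L ∧ (q : ℤ) ∈ (QsChow.ptNormSubgroup k K).map (ev k) := by
    intro p hp
    obtain ⟨F, hF⟩ := exists_intermediate_finrank k K L p ((Module.finrank k L).factorization p) hp
      (Nat.ordProj_dvd _ p)
    haveI : FiniteDimensional k F := finite_of_finrank_mul k K L F _ hF
    have hne : F ≠ ⊥ := by
      intro hbot
      have h1 : Module.finrank k F = 1 := IntermediateField.finrank_eq_one_iff.mpr hbot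
      rw [h1, one_mul] at hF
      exact hL p _ hp hF.symm
    obtain ⟨c, hc, hec⟩ := mem_of_finrank k K F hne 1
    refine ⟨Module.finrank k F, hF, c, hc, ?_⟩
    rw [hec, one_mul]
  obtain ⟨g, hg⟩ := Int.subgroup_cyclic ((QsChow.ptNormSubgroup k K).map (ev k))
  have hdvd : ∀ z : ℤ, z ∈ (QsChow.ptNormSubgroup k K).map (ev k) → g ∣ z := by
    intro z hz
    rw [hg, AddSubgroup.mem_closure_singleton] at hz
    obtain ⟨n, rfl⟩ := hz
    exact ⟨n, by rw [smul_eq_mul, mul_comm]⟩
  have hg1 : g.natAbs = 1 := by
    by_contra hne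
    obtain ⟨q, hq, hqd⟩ := Nat.exists_prime_and_dvd hne
    obtain ⟨c, hc, hcm⟩ := hmem q hq
    have h1 : g ∣ (c : ℤ) := hdvd _ hcm
    have h2 : g.natAbs ∣ c := by
      have := Int.natAbs_dvd_natAbs.mpr h1
      simpa using this
    have h3 : q ∣ c := dvd_trans hqd h2
    have h4 : q ^ ((Module.finrank k L).factorization q + 1) ∣ Module.finrank k L := by
      obtain ⟨c', rfl⟩ := h3
      exact ⟨c', hc.symm.trans (by ring)⟩
    exact Nat.pow_succ_factorization_not_dvd hn0 hq h4
  have key : (1 : ℤ) ∈ (QsChow.ptNormSubgroup k K).map (ev k) := by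
    rw [hg, AddSubgroup.mem_closure_singleton]
    refine ⟨g, ?_⟩
    rw [smul_eq_mul, ← Int.natAbs_mul_self, hg1]
    rfl
  rw [eq_top_iff]
  intro c _
  have hc : ev k c ∈ (QsChow.ptNormSubgroup k K).map (ev k) := by
    have := AddSubgroup.zsmul_mem _ key (ev k c)
    simpa using this
  obtain ⟨c', hc', he⟩ := hc
  rwa [← ev_injective k he]

theorem main2 [Algebra.IsSeparable k K]
    (L : IntermediateField k K) [FiniteDimensional k L] [IsGalois k L]
    (p n : ℕ) (hp : p.Prime) (hn : 1 ≤ n) (hL : Module.finrank k L = p ^ n)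
    (hF : ∀ F : IntermediateField k K, FiniteDimensional k F →
      ∃ e : ℕ, Module.finrank k F = p ^ e) :
    (QsChow.ptNormSubgroup k K).index = p := by
  have hmap : (QsChow.ptNormSubgroup k K).map (ev k) = AddSubgroup.zmultiples (p : ℤ) := by
    apply le_antisymm
    · rw [AddSubgroup.map_le_iff_le_comap]
      unfold QsChow.ptNormSubgroup
      rw [AddSubgroup.closure_le]
      intro c hc
      obtain ⟨F, hfd, hne, m, hm⟩ := ev_gen k K c hc
      obtain ⟨e, he⟩ := hF F hfd
      have he1 : e ≠ 0 := by
        rintro rfl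
        rw [pow_zero] at he
        exact hne (IntermediateField.finrank_eq_one_iff.mp he)
      show ev k c ∈ AddSubgroup.zmultiples (p : ℤ)
      rw [hm, he, Int.mem_zmultiples_iff]
      exact Dvd.dvd.mul_left (by exact_mod_cast dvd_pow_self p he1) m
    · rw [AddSubgroup.zmultiples_le]
      obtain ⟨F, hFr⟩ := exists_intermediate_finrank k K L p (n - 1) hp
        (by rw [hL]; exact pow_dvd_pow p (Nat.sub_le n 1))
      haveI : FiniteDimensional k F := finite_of_finrank_mul k K L F _ hFr
      have hFp : Module.finrank k F = p := by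
        have h1 : p ^ n = p * p ^ (n - 1) := by
          rw [← pow_succ']; congr 1; omega
        rw [hL, h1] at hFr
        exact Nat.eq_of_mul_eq_mul_right (pow_pos hp.pos _) hFr
      have hne : F ≠ ⊥ := by
        intro hbot
        have h1 : Module.finrank k F = 1 := IntermediateField.finrank_eq_one_iff.mpr hbot
        rw [hFp] at h1
        exact hp.one_lt.ne' h1
      obtain ⟨c, hc, hec⟩ := mem_of_finrank k K F hne 1
      exact ⟨c, hc, by rw [hec, hFp, one_mul]⟩
  have h1 := AddSubgroup.index_map_of_bijective ⟨ev_injective k, ev_surjective k⟩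
    (QsChow.ptNormSubgroup k K)
  rw [← h1, hmap, Int.index_zmultiples]
  simp

end chow

end Groth.Agent.Helper8.PtChow
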