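import Mathlib

/-!
# Continuous functions on finite powers of a compact Hausdorff space: measurability for the product
σ-algebra, integrability, parametric integrals, and a Fubini splitting for product measures.
-/

set_option autoImplicit false

namespace Groth.Agent.Helper8.PtDeg

open MeasureTheory Filter Topology

section Meas

variable {ι : Type*} [Fintype ι] {G : Type*} [TopologicalSpace G] [CompactSpace G] [T2Space G]
  [MeasurableSpace G] [BorelSpace G]

/-- Evaluation at a coordinate as a continuous map. -/
def evalC (i : ι) : C(ι → G, G) := ⟨fun x => x i, continuous_apply i⟩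

variable (ι G) in
/-- The subalgebra of `C(ι → G, ℝ)` generated by functions of one coordinate. -/
def coordAlg : Subalgebra ℝ C(ι → G, ℝ) :=
  Algebra.adjoin ℝ {h | ∃ (i : ι) (g : C(G, ℝ)), h = g.comp (evalC i)}

omit [Fintype ι] [MeasurableSpace G] [BorelSpace G] in
theorem coordAlg_separatesPoints : (coordAlg ι G).SeparatesPoints := by
  intro x y hxy
  obtain ⟨i, hi⟩ : ∃ i, x i ≠ y i := Function.ne_iff.mp hxy
  obtain ⟨g, hg0, hg1, -⟩ := exists_continuous_zero_one_of_isClosed
    (isClosed_singleton (x := x i)) (isClosed_singleton (x := y i))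
    (Set.disjoint_singleton.mpr hi)
  refine ⟨_, ⟨g.comp (evalC i), Algebra.subset_adjoin ⟨i, g, rfl⟩, rfl⟩, ?_⟩
  show g (x i) ≠ g (y i)
  rw [hg0 (Set.mem_singleton _), hg1 (Set.mem_singleton _)]
  simp

omit [Fintype ι] [CompactSpace G] [T2Space G] in
theorem measurable_of_mem_coordAlg {F : C(ι → G, ℝ)} (hF : F ∈ coordAlg ι G) :
    Measurable (F : (ι → G) → ℝ) := by
  induction hF using Algebra.adjoin_induction with
  | mem h hh =>
    obtain ⟨i, g, rfl⟩ := hh
    exact g.continuous.measurable.comp (measurable_pi_apply i)
  | algebraMap r => exact measurable_const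
  | add f g _ _ hf hg => exact hf.add hg
  | mul f g _ _ hf hg => exact hf.mul hg

omit [Fintype ι] in
/-- A continuous real function on a power of a compact Hausdorff space is measurable for the product
σ-algebra (Stone–Weierstrass). -/
theorem measurable_of_continuous (f : (ι → G) → ℝ) (hf : Continuous f) : Measurable f := by
  have hcl := ContinuousMap.subalgebra_topologicalClosure_eq_top_of_separatesPoints
    (coordAlg ι G) coordAlg_separatesPoints
  have hmem : (⟨f, hf⟩ : C(ι → G, ℝ)) ∈ (coordAlg ι G).topologicalClosure := by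
    rw [hcl]; exact Algebra.mem_top
  have hmem' : (⟨f, hf⟩ : C(ι → G, ℝ)) ∈ closure ((coordAlg ι G : Subalgebra ℝ C(ι → G, ℝ)) :
      Set C(ι → G, ℝ)) := by
    rw [← Subalgebra.topologicalClosure_coe]; exact hmem
  obtain ⟨u, hu, hlim⟩ := mem_closure_iff_seq_limit.mp hmem'
  refine measurable_of_tendsto_metrizable (f := fun n => (u n : (ι → G) → ℝ))
    (fun n => measurable_of_mem_coordAlg (hu n)) ?_
  rw [tendsto_pi_nhds]
  intro x
  exact ((continuous_eval_const (F := C(ι → G, ℝ)) x).tendsto _).comp hlim

omit [Fintype ι] in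
theorem integrable_of_continuous {ν : Measure (ι → G)} [IsFiniteMeasure ν] (f : (ι → G) → ℝ)
    (hf : Continuous f) : Integrable f ν := by
  obtain ⟨C, hC⟩ := (isCompact_univ (X := ι → G)).exists_bound_of_continuousOn hf.continuousOn
  exact Integrable.of_bound (measurable_of_continuous f hf).aestronglyMeasurable C
    (Filter.Eventually.of_forall fun x => hC x (Set.mem_univ x))

omit [T2Space G] in
theorem integrable_of_continuous_base {μ : Measure G} [IsFiniteMeasure μ] (f : G → ℝ)
    (hf : Continuous f) : Integrable f μ := by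
  obtain ⟨C, hC⟩ := (isCompact_univ (X := G)).exists_bound_of_continuousOn hf.continuousOn
  exact Integrable.of_bound hf.measurable.aestronglyMeasurable C
    (Filter.Eventually.of_forall fun x => hC x (Set.mem_univ x))

end Meas

section Param

/-- Continuity of a parametric integral over a compact space, without countability assumptions. -/
theorem continuous_integral_param {Z Y : Type*} [TopologicalSpace Z] [TopologicalSpace Y]
    [CompactSpace Y] [MeasurableSpace Y] (ν : Measure Y) [IsFiniteMeasure ν]
    (hint : ∀ h : Y → ℝ, Continuous h → Integrable h ν) (f : Z → Y → ℝ)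
    (hf : Continuous (Function.uncurry f)) : Continuous (fun z => ∫ y, f z y ∂ν) := by
  let F : C(Z × Y, ℝ) := ⟨Function.uncurry f, hf⟩
  have hcur : Continuous (fun z => F.curry z) := F.curry.continuous
  have hI : LipschitzWith (ν Set.univ).toNNReal (fun h : C(Y, ℝ) => ∫ y, h y ∂ν) := by
    refine LipschitzWith.of_dist_le_mul fun h h' => ?_
    rw [Real.dist_eq, ← integral_sub (hint h h.continuous) (hint h' h'.continuous), ← Real.norm_eq_abs]
    have hb : ∀ᵐ y ∂ν, ‖h y - h' y‖ ≤ dist h h' := by
      refine Filter.Eventually.of_forall fun y => ?_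
      rw [Real.norm_eq_abs, ← Real.dist_eq]
      exact ContinuousMap.dist_apply_le_dist y
    have := norm_integral_le_of_norm_le_const hb
    rw [mul_comm]
    exact this
  exact hI.continuous.comp hcur

end Param

section Fubini

variable {G : Type*} [TopologicalSpace G] [CompactSpace G] [T2Space G]
  [MeasurableSpace G] [BorelSpace G] (μ : Measure G) [IsFiniteMeasure μ]

/-- Fubini: split off the first coordinate of a product measure. -/
theorem integral_pi_succ (k : ℕ) (F : (Fin (k + 1) → G) → ℝ) (hF : Continuous F) :
    ∫ v, F v ∂(Measure.pi fun _ : Fin (k + 1) => μ) =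
      ∫ z, (∫ t, F (Fin.cons t z) ∂μ) ∂(Measure.pi fun _ : Fin k => μ) := by
  have mp := (measurePreserving_piFinSuccAbove (fun _ : Fin (k + 1) => μ) 0).symm
  have h1 : ∫ v, F v ∂(Measure.pi fun _ : Fin (k + 1) => μ) =
      ∫ p, F ((MeasurableEquiv.piFinSuccAbove (fun _ : Fin (k + 1) => G) 0).symm p)
        ∂(μ.prod (Measure.pi fun _ : Fin k => μ)) := (mp.integral_comp' F).symm
  have hint : Integrable (fun p => F ((MeasurableEquiv.piFinSuccAbove
      (fun _ : Fin (k + 1) => G) 0).symm p)) (μ.prod (Measure.pi fun _ : Fin k => μ)) :=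
    (mp.integrable_comp_emb (MeasurableEquiv.measurableEmbedding _)).mpr
      (integrable_of_continuous F hF)
  rw [h1, integral_prod_symm _ hint]
  refine integral_congr_ae (Filter.Eventually.of_forall fun z => ?_)
  refine integral_congr_ae (Filter.Eventually.of_forall fun t => ?_)
  show F (Fin.insertNth 0 t z) = F (Fin.cons t z)
  rw [Fin.insertNth_zero']

end Fubini

end Groth.Agent.Helper8.PtDeg
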