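import Mathlib

/-!
# Deviations of a function on a commutative group: combinatorics

`S n φ y g = ∑_{I ⊆ Fin n} (-1)^{|I|} φ (g + ∑_{i ∈ I} y i)` and the `n`-th deviation
`Dev n φ y = ∑_{∅ ≠ I ⊆ Fin n} (-1)^{n+|I|} φ (∑_{i ∈ I} y i)`, with their recursions.
-/

set_option autoImplicit false

namespace Groth.Agent.Helper8.PtDeg

open Finset

variable {G : Type*} [AddCommGroup G]

/-- Alternating sum over all subsets. -/
def S (n : ℕ) (φ : G → ℝ) (y : Fin n → G) (g : G) : ℝ :=
  ∑ I ∈ (Finset.univ : Finset (Fin n)).powerset, (-1 : ℝ) ^ I.card * φ (g + ∑ i ∈ I, y i)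

/-- The `n`-th deviation. -/
def Dev (n : ℕ) (φ : G → ℝ) (y : Fin n → G) : ℝ :=
  ∑ I ∈ (Finset.univ : Finset (Fin n)).powerset.erase ∅,
    (-1 : ℝ) ^ (n + I.card) * φ (∑ i ∈ I, y i)

theorem sum_powerset_fin_succ {n : ℕ} (f : Finset (Fin (n + 1)) → ℝ) :
    ∑ I ∈ (Finset.univ : Finset (Fin (n + 1))).powerset, f I =
      ∑ J ∈ (Finset.univ : Finset (Fin n)).powerset, f (J.image Fin.succ) +
      ∑ J ∈ (Finset.univ : Finset (Fin n)).powerset, f (insert 0 (J.image Fin.succ)) := by
  have hu : (Finset.univ : Finset (Fin (n + 1))) = insert 0 (Finset.univ.image Fin.succ) := by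
    ext i
    refine Fin.cases ?_ (fun j => ?_) i <;> simp
  have h0 : (0 : Fin (n + 1)) ∉ (Finset.univ : Finset (Fin n)).image Fin.succ := by
    simp [Fin.succ_ne_zero]
  have hinj : ∀ J ∈ (Finset.univ : Finset (Fin n)).powerset,
      ∀ J' ∈ (Finset.univ : Finset (Fin n)).powerset,
      J.image Fin.succ = J'.image Fin.succ → J = J' := fun J _ J' _ h =>
    Finset.image_injective (Fin.succ_injective n) h
  rw [hu, Finset.sum_powerset_insert h0, Finset.powerset_image, Finset.sum_image hinj,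
    Finset.sum_image hinj]

theorem S_zero (φ : G → ℝ) (z : Fin 0 → G) (g : G) : S 0 φ z g = φ g := by
  unfold S
  simp

theorem S_cons (n : ℕ) (φ : G → ℝ) (a : G) (z : Fin n → G) (g : G) :
    S (n + 1) φ (Fin.cons a z) g = S n φ z g - S n φ z (g + a) := by
  unfold S
  rw [sum_powerset_fin_succ, sub_eq_add_neg, ← Finset.sum_neg_distrib]
  congr 1
  · refine Finset.sum_congr rfl fun J _ => ?_
    rw [Finset.card_image_of_injective _ (Fin.succ_injective n),
      Finset.sum_image (fun i _ j _ h => Fin.succ_injective n h)]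
    simp only [Fin.cons_succ]
  · refine Finset.sum_congr rfl fun J _ => ?_
    have h0 : (0 : Fin (n + 1)) ∉ J.image Fin.succ := by simp [Fin.succ_ne_zero]
    rw [Finset.card_insert_of_notMem h0, Finset.sum_insert h0,
      Finset.card_image_of_injective _ (Fin.succ_injective n),
      Finset.sum_image (fun i _ j _ h => Fin.succ_injective n h)]
    simp only [Fin.cons_succ, Fin.cons_zero, pow_succ, add_assoc]
    ring

theorem Dev_eq (n : ℕ) (φ : G → ℝ) (y : Fin n → G) :
    Dev n φ y = (-1 : ℝ) ^ n * (S n φ y 0 - φ 0) := by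
  unfold Dev S
  rw [Finset.sum_erase_eq_sub (Finset.empty_mem_powerset _)]
  simp only [Finset.card_empty, Finset.sum_empty, add_zero, zero_add, pow_add, mul_assoc,
    mul_sub, Finset.mul_sum, pow_zero, one_mul]

theorem Dev_cons_cons (n : ℕ) (φ : G → ℝ) (a b : G) (z : Fin n → G) :
    Dev (n + 2) φ (Fin.cons a (Fin.cons b z)) =
      Dev (n + 1) φ (Fin.cons (a + b) z) - Dev (n + 1) φ (Fin.cons a z)
        - Dev (n + 1) φ (Fin.cons b z) := by
  simp only [Dev_eq, S_cons, zero_add, pow_succ]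
  ring

theorem Dev_one (φ : G → ℝ) (a : G) (z : Fin 0 → G) : Dev 1 φ (Fin.cons a z) = φ a := by
  rw [Dev_eq, S_cons, S_zero, S_zero, zero_add]
  ring

theorem Dev_neg (n : ℕ) (φ : G → ℝ) (y : Fin n → G) :
    Dev n (fun g => - φ g) y = - Dev n φ y := by
  unfold Dev
  rw [← Finset.sum_neg_distrib]
  refine Finset.sum_congr rfl fun I _ => ?_
  ring

theorem continuous_Dev [TopologicalSpace G] [ContinuousAdd G] (n : ℕ) (φ : G → ℝ)
    (hφ : Continuous φ) : Continuous (Dev n φ) := by
  unfold Dev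
  exact continuous_finset_sum _ fun I _ => continuous_const.mul
    (hφ.comp (continuous_finset_sum _ fun i _ => continuous_apply i))

end Groth.Agent.Helper8.PtDeg
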