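import Groth.Agent.Helper8.PtDegA
import Groth.Agent.Helper8.PtDegB

/-!
# Continuous multi-cocycles on a compact abelian group are deviations (analysis part)
-/

set_option autoImplicit false

namespace Groth.Agent.Helper8.PtDeg

open MeasureTheory

variable {G : Type*} [AddCommGroup G] [TopologicalSpace G] [IsTopologicalAddGroup G]
  [CompactSpace G] [T2Space G] [MeasurableSpace G] [BorelSpace G]
  (μ : Measure G) [μ.IsAddHaarMeasure] [IsProbabilityMeasure μ]

/-- The pairwise 2-cocycle condition. -/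
def IsCoc {n : ℕ} (ψ : (Fin n → G) → ℝ) : Prop :=
  ∀ (i j : Fin n), i ≠ j → ∀ (x : Fin n → G) (a b c : G),
    ψ (Function.update (Function.update x i (a + b)) j c) +
        ψ (Function.update (Function.update x i a) j b) =
      ψ (Function.update (Function.update x i a) j (b + c)) +
        ψ (Function.update (Function.update x i b) j c)

/-- Integrate out all variables but the first. -/
noncomputable def Phi (k : ℕ) (ψ : (Fin (k + 1) → G) → ℝ) (g : G) : ℝ :=
  ∫ u, ψ (Fin.cons g u) ∂(Measure.pi fun _ : Fin k => μ)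

/-- Integrate out the second variable. -/
noncomputable def red {k : ℕ} (ψ : (Fin (k + 2) → G) → ℝ) (y : Fin (k + 1) → G) : ℝ :=
  ∫ t, ψ (Fin.insertNth (α := fun _ => G) (Fin.succ (0 : Fin (k + 1))) t y) ∂μ

omit [IsTopologicalAddGroup G] [CompactSpace G] [T2Space G] [BorelSpace G] [μ.IsAddHaarMeasure]
  [IsProbabilityMeasure μ] in
theorem red_cons {k : ℕ} (ψ : (Fin (k + 2) → G) → ℝ) (a : G) (z : Fin k → G) :
    red μ ψ (Fin.cons a z) = ∫ t, ψ (Fin.cons a (Fin.cons t z)) ∂μ := by
  simp only [red, Fin.insertNth_succ_cons, Fin.insertNth_zero']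

theorem continuous_red {k : ℕ} (ψ : (Fin (k + 2) → G) → ℝ) (hψ : Continuous ψ) :
    Continuous (red μ ψ) := by
  refine continuous_integral_param μ (fun h hh => integrable_of_continuous_base h hh)
    (fun y t => ψ (Fin.insertNth (α := fun _ => G) (Fin.succ (0 : Fin (k + 1))) t y)) ?_
  exact hψ.comp (Continuous.finInsertNth _ continuous_snd continuous_fst)

theorem isCoc_red {k : ℕ} (ψ : (Fin (k + 2) → G) → ℝ) (hψc : Continuous ψ) (hψ : IsCoc ψ) :
    IsCoc (red μ ψ) := by
  intro i j hij y a b c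
  have key : ∀ (α β : G), red μ ψ (Function.update (Function.update y i α) j β) =
      ∫ t, ψ (Function.update (Function.update
        (Fin.insertNth (α := fun _ => G) (Fin.succ (0 : Fin (k + 1))) t y)
          (Fin.succAbove (Fin.succ (0 : Fin (k + 1))) i) α)
          (Fin.succAbove (Fin.succ (0 : Fin (k + 1))) j) β) ∂μ := by
    intro α β
    simp only [red, Fin.insertNth_update]
  have hint : ∀ (α β : G), Integrable (fun t => ψ (Function.update (Function.update
        (Fin.insertNth (α := fun _ => G) (Fin.succ (0 : Fin (k + 1))) t y)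
          (Fin.succAbove (Fin.succ (0 : Fin (k + 1))) i) α)
          (Fin.succAbove (Fin.succ (0 : Fin (k + 1))) j) β)) μ := by
    intro α β
    refine integrable_of_continuous_base _ ?_
    have h0 : Continuous (fun t : G =>
        (Fin.insertNth (α := fun _ => G) (Fin.succ (0 : Fin (k + 1))) t y : Fin (k + 2) → G)) :=
      Continuous.finInsertNth (A := fun _ => G) (Fin.succ (0 : Fin (k + 1)))
        (f := fun t : G => t) (g := fun _ : G => y) continuous_id continuous_const
    exact hψc.comp ((h0.update _ continuous_const).update _ continuous_const)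
  rw [key, key, key, key, ← integral_add (hint _ _) (hint _ _),
    ← integral_add (hint _ _) (hint _ _)]
  refine integral_congr_ae (Filter.Eventually.of_forall fun t => ?_)
  exact hψ _ _ (fun h => hij (Fin.succAbove_right_injective h)) _ a b c

omit [TopologicalSpace G] [IsTopologicalAddGroup G] [CompactSpace G] [T2Space G]
  [MeasurableSpace G] [BorelSpace G] in
theorem update_update_cons_cons {k : ℕ} (a b α β : G) (z : Fin k → G) :
    Function.update (Function.update (Fin.cons a (Fin.cons b z) : Fin (k + 2) → G) 0 α) 1 β =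
      Fin.cons α (Fin.cons β z) := by
  rw [Fin.update_cons_zero, ← Fin.succ_zero_eq_one', ← Fin.cons_update, Fin.update_cons_zero]

theorem eq_red_of_isCoc {k : ℕ} (ψ : (Fin (k + 2) → G) → ℝ) (hψc : Continuous ψ)
    (hψ : IsCoc ψ) (a b : G) (z : Fin k → G) :
    ψ (Fin.cons a (Fin.cons b z)) =
      red μ ψ (Fin.cons a z) + red μ ψ (Fin.cons b z) - red μ ψ (Fin.cons (a + b) z) := by
  have hpt : ∀ c : G, ψ (Fin.cons (a + b) (Fin.cons c z)) + ψ (Fin.cons a (Fin.cons b z)) =
      ψ (Fin.cons a (Fin.cons (b + c) z)) + ψ (Fin.cons b (Fin.cons c z)) := by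
    intro c
    have h := hψ 0 1 (by simp) (Fin.cons a (Fin.cons b z)) a b c
    simpa only [update_update_cons_cons] using h
  have hcont : ∀ a' : G, Continuous (fun c : G => (Fin.cons a' (Fin.cons c z) : Fin (k + 2) → G)) := by
    intro a'
    exact Continuous.finCons continuous_const (Continuous.finCons continuous_id continuous_const)
  have hi : ∀ a' : G, Integrable (fun c : G => ψ (Fin.cons a' (Fin.cons c z))) μ := fun a' =>
    integrable_of_continuous_base _ (hψc.comp (hcont a'))
  have hi2 : Integrable (fun c : G => ψ (Fin.cons a (Fin.cons (b + c) z))) μ :=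
    integrable_of_continuous_base _
      ((hψc.comp (hcont a)).comp (continuous_const.add continuous_id))
  have h1 := integral_congr_ae (μ := μ) (Filter.Eventually.of_forall hpt)
  rw [integral_add (hi _) (integrable_const _), integral_add hi2 (hi _), integral_const,
    integral_add_left_eq_self (fun c => ψ (Fin.cons a (Fin.cons c z))) b] at h1
  simp only [probReal_univ, one_smul] at h1
  rw [red_cons, red_cons, red_cons]
  linarith

theorem Phi_succ {k : ℕ} (ψ : (Fin (k + 2) → G) → ℝ) (hψc : Continuous ψ) (g : G) :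
    Phi μ (k + 1) ψ g = Phi μ k (red μ ψ) g := by
  unfold Phi
  rw [integral_pi_succ μ k (fun u => ψ (Fin.cons g u))
    (hψc.comp (Continuous.finCons continuous_const continuous_id))]
  refine integral_congr_ae (Filter.Eventually.of_forall fun z => ?_)
  simp only [red_cons]

omit [IsTopologicalAddGroup G] [CompactSpace G] [T2Space G] [BorelSpace G]
  [μ.IsAddHaarMeasure] in
theorem Phi_zero (ψ : (Fin 1 → G) → ℝ) (g : G) (z : Fin 0 → G) :
    Phi μ 0 ψ g = ψ (Fin.cons g z) := by
  unfold Phi
  rw [integral_unique, probReal_univ, one_smul, Subsingleton.elim z default]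

theorem continuous_Phi (k : ℕ) (ψ : (Fin (k + 1) → G) → ℝ) (hψc : Continuous ψ) :
    Continuous (Phi μ k ψ) := by
  refine continuous_integral_param (Measure.pi fun _ : Fin k => μ)
    (fun h hh => integrable_of_continuous h hh) (fun g u => ψ (Fin.cons g u)) ?_
  exact hψc.comp (Continuous.finCons continuous_fst continuous_snd)

theorem main_eq (k : ℕ) : ∀ (ψ : (Fin (k + 1) → G) → ℝ), Continuous ψ → IsCoc ψ →
    ∀ x, ψ x = Dev (k + 1) (fun g => (-1 : ℝ) ^ k * Phi μ k ψ g) x := by
  induction k with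
  | zero =>
    intro ψ _ _ x
    obtain ⟨a, z, rfl⟩ : ∃ a z, x = Fin.cons a z :=
      ⟨x 0, Fin.tail x, (Fin.cons_self_tail x).symm⟩
    rw [Dev_one, Phi_zero μ ψ a z]
    simp
  | succ k ih =>
    intro ψ hψc hψ x
    obtain ⟨a, b, z, rfl⟩ : ∃ a b z, x = Fin.cons a (Fin.cons b z) :=
      ⟨x 0, Fin.tail x 0, Fin.tail (Fin.tail x), by
        rw [Fin.cons_self_tail, Fin.cons_self_tail]⟩
    rw [eq_red_of_isCoc μ ψ hψc hψ, Dev_cons_cons]
    have hr := ih (red μ ψ) (continuous_red μ ψ hψc) (isCoc_red μ ψ hψc hψ)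
    rw [hr, hr, hr]
    have hφ : (fun g => (-1 : ℝ) ^ (k + 1) * Phi μ (k + 1) ψ g) =
        fun g => -((-1 : ℝ) ^ k * Phi μ k (red μ ψ) g) := by
      funext g
      rw [Phi_succ μ ψ hψc g, pow_succ]
      ring
    rw [hφ, Dev_neg, Dev_neg, Dev_neg]
    ring

theorem red_Dev (k : ℕ) (φ : G → ℝ) (hφ : Continuous φ) (y : Fin (k + 1) → G) :
    red μ (Dev (k + 2) φ) y = - Dev (k + 1) φ y := by
  obtain ⟨a, z, rfl⟩ : ∃ a z, y = Fin.cons a z :=
    ⟨y 0, Fin.tail y, (Fin.cons_self_tail y).symm⟩
  rw [red_cons]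
  simp only [Dev_cons_cons]
  have hc : Continuous (fun t : G => Dev (k + 1) φ (Fin.cons t z)) :=
    (continuous_Dev _ φ hφ).comp (Continuous.finCons continuous_id continuous_const)
  have hi : Integrable (fun t : G => Dev (k + 1) φ (Fin.cons t z)) μ :=
    integrable_of_continuous_base _ hc
  have hi' : Integrable (fun t : G => Dev (k + 1) φ (Fin.cons (a + t) z)) μ :=
    integrable_of_continuous_base _ (hc.comp (continuous_const.add continuous_id))
  have hi'' : Integrable (fun t : G => Dev (k + 1) φ (Fin.cons (a + t) z) -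
      Dev (k + 1) φ (Fin.cons a z)) μ := hi'.sub (integrable_const _)
  rw [integral_sub hi'' hi, integral_sub hi' (integrable_const _),
    integral_const, integral_add_left_eq_self (fun t => Dev (k + 1) φ (Fin.cons t z)) a]
  simp

theorem Phi_Dev (k : ℕ) : ∀ (φ : G → ℝ), Continuous φ →
    ∀ g, Phi μ k (Dev (k + 1) φ) g = (-1 : ℝ) ^ k * φ g := by
  induction k with
  | zero =>
    intro φ _ g
    rw [Phi_zero μ _ g default, Dev_one]
    simp
  | succ k ih =>
    intro φ hφ g
    rw [Phi_succ μ _ (continuous_Dev _ φ hφ) g]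
    have h : red μ (Dev (k + 2) φ) = Dev (k + 1) (fun g => - φ g) := by
      funext y
      rw [red_Dev μ k φ hφ y, Dev_neg]
    rw [h, ih (fun g => - φ g) hφ.neg, pow_succ]
    ring

/-- The main theorem in packaged form. -/
theorem main (m : ℕ) (ψ : (Fin (m + 1) → G) → ℝ) (hψc : Continuous ψ) (hψ : IsCoc ψ) :
    (∀ x, ψ x = Dev (m + 1) (fun g => (-1 : ℝ) ^ m * Phi μ m ψ g) x) ∧
    Continuous (fun g => (-1 : ℝ) ^ m * Phi μ m ψ g) ∧
    (∀ φ : G → ℝ, Continuous φ → (∀ x, ψ x = Dev (m + 1) φ x) →
      φ = fun g => (-1 : ℝ) ^ m * Phi μ m ψ g) := by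
  refine ⟨main_eq μ m ψ hψc hψ, continuous_const.mul (continuous_Phi μ m ψ hψc), ?_⟩
  intro φ hφc hφ
  funext g
  have h1 : ψ = Dev (m + 1) φ := funext hφ
  have h2 := Phi_Dev μ m φ hφc g
  rw [← h1] at h2
  show φ g = (-1 : ℝ) ^ m * Phi μ m ψ g
  rw [h2, ← mul_assoc, ← pow_add, Even.neg_one_pow ⟨m, rfl⟩, one_mul]

end Groth.Agent.Helper8.PtDeg
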