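import Mathlib
import Groth.Prelude.Def_W4c1hilbchowincPtFun

set_option autoImplicit false
set_option linter.style.haveILetI false
set_option linter.unusedSectionVars false

namespace Groth.Agent.Helper8.PtFunGlue

open AlgebraicGeometry CategoryTheory W4c1hilbchowinc

universe u

/-- evaluation of a ring element at a point of `Spec A`, with values in the scheme-theoretic
residue field -/
noncomputable def evA (A : Type u) [CommRing A] (y : ↥(Spec (CommRingCat.of A))) :
    A →+* (Spec (CommRingCat.of A)).residueField y :=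
  ((Spec (CommRingCat.of A)).Γevaluation y).hom.comp (Scheme.ΓSpecIso (CommRingCat.of A)).inv.hom

theorem evA_apply (A : Type u) [CommRing A] (y : ↥(Spec (CommRingCat.of A))) (a : A) :
    evA A y a = (Spec (CommRingCat.of A)).Γevaluation y ((Scheme.ΓSpecIso (CommRingCat.of A)).inv a) :=
  rfl

theorem evA_eq_zero_iff (A : Type u) [CommRing A] (y : ↥(Spec (CommRingCat.of A))) (a : A) :
    evA A y a = 0 ↔ a ∈ y.asIdeal := by
  rw [evA_apply, Scheme.evaluation_eq_zero_iff_notMem_basicOpen, basicOpen_eq_of_affine]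
  constructor
  · intro h
    by_contra hn
    exact h ((PrimeSpectrum.mem_basicOpen a (show PrimeSpectrum A from y)).2 hn)
  · intro h hn
    exact ((PrimeSpectrum.mem_basicOpen a (show PrimeSpectrum A from y)).1 hn) h

theorem evA_hom_inv (A : Type u) [CommRing A] (y : ↥(Spec (CommRingCat.of A)))
    (s : Γ(Spec (CommRingCat.of A), ⊤)) :
    (Spec (CommRingCat.of A)).Γevaluation y s =
      evA A y ((Scheme.ΓSpecIso (CommRingCat.of A)).hom s) := by
  rw [evA_apply]
  congr 1
  exact (CategoryTheory.Iso.hom_inv_id_apply (Scheme.ΓSpecIso (CommRingCat.of A)) s).symm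

/-- every element of the residue field is a fraction of values -/
theorem exists_frac (A : Type u) [CommRing A] (y : ↥(Spec (CommRingCat.of A)))
    (c : (Spec (CommRingCat.of A)).residueField y) :
    ∃ a s : A, s ∉ y.asIdeal ∧ c * evA A y s = evA A y a := by
  let e := Scheme.Spec.residueFieldIso (CommRingCat.of A) y
  have key : ∀ a : A, e.inv (algebraMap A y.asIdeal.ResidueField a) = evA A y a := by
    intro a
    have h := Scheme.Spec.algebraMap_residueFieldIso_inv (CommRingCat.of A) y
    have h2 := congrArg (fun φ => φ.hom a) h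
    exact h2
  obtain ⟨a', s', hs', h⟩ := IsFractionRing.div_surjective (A := A ⧸ y.asIdeal) (e.hom c)
  obtain ⟨a, rfl⟩ := Ideal.Quotient.mk_surjective a'
  obtain ⟨s, rfl⟩ := Ideal.Quotient.mk_surjective s'
  have hs0 : algebraMap (A ⧸ y.asIdeal) y.asIdeal.ResidueField (Ideal.Quotient.mk _ s) ≠ 0 := by
    intro h0
    have := (IsFractionRing.injective (A ⧸ y.asIdeal) y.asIdeal.ResidueField) (h0.trans (map_zero _).symm)
    rw [this] at hs'
    exact zero_notMem_nonZeroDivisors hs'
  have hs : s ∉ y.asIdeal := by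
    intro hmem
    apply hs0
    rw [Ideal.Quotient.eq_zero_iff_mem.mpr hmem, map_zero]
  refine ⟨a, s, hs, ?_⟩
  rw [div_eq_iff hs0] at h
  have h3 : e.hom c * algebraMap A y.asIdeal.ResidueField s = algebraMap A y.asIdeal.ResidueField a := by
    rw [IsScalarTower.algebraMap_apply A (A ⧸ y.asIdeal) y.asIdeal.ResidueField,
      IsScalarTower.algebraMap_apply A (A ⧸ y.asIdeal) y.asIdeal.ResidueField]
    exact h.symm
  have h4 := congrArg (fun t => e.inv t) h3
  simp only [map_mul] at h4
  rw [key, key] at h4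
  rw [← h4]
  congr 1
  exact (CategoryTheory.Iso.hom_inv_id_apply e c).symm

theorem evA_naturality (A R : Type u) [CommRing A] [CommRing R] (φ : A →+* R)
    (z : ↥(Spec (CommRingCat.of R))) (a : A) :
    (Spec.map (CommRingCat.ofHom φ)).residueFieldMap z
        (evA A ((Spec.map (CommRingCat.ofHom φ)) z) a) = evA R z (φ a) := by
  rw [evA_apply, Scheme.Γevaluation_naturality_apply, evA_apply]
  congr 1
  have h := Scheme.ΓSpecIso_inv_naturality (CommRingCat.ofHom φ)
  have h2 := congrArg (fun ψ => ψ.hom a) h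
  exact h2.symm

theorem map_asIdeal (A R : Type u) [CommRing A] [CommRing R] (φ : A →+* R)
    (z : ↥(Spec (CommRingCat.of R))) :
    ((Spec.map (CommRingCat.ofHom φ)) z).asIdeal = z.asIdeal.comap φ := rfl

/-- unpacking the hypothesis of algebraic variation along a DVR -/
theorem exists_elt {A : Type u} [CommRing A] (f : PtFun (Spec (CommRingCat.of A)))
    (hf : f.VariesAlongDVR) (R : Type u) [CommRing R] [IsDomain R] [IsDiscreteValuationRing R]
    (φ : A →+* R) :
    ∃ r : R, ∀ z : ↥(Spec (CommRingCat.of R)),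
      evA R z r = (Spec.map (CommRingCat.ofHom φ)).residueFieldMap z
        (f ((Spec.map (CommRingCat.ofHom φ)) z)) := by
  obtain ⟨s, hs⟩ := hf R (Spec.map (CommRingCat.ofHom φ))
  refine ⟨(Scheme.ΓSpecIso (CommRingCat.of R)).hom s, fun z => ?_⟩
  rw [← evA_hom_inv]
  exact congrFun hs z

/-- a section is determined by its values on a reduced ring -/
theorem eq_of_evA_eq {A : Type u} [CommRing A] [IsReduced A] (a b : A)
    (h : ∀ y : ↥(Spec (CommRingCat.of A)), evA A y a = evA A y b) : a = b := by
  have h1 : a - b ∈ nilradical A := by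
    rw [nilradical_eq_sInf, Ideal.mem_sInf]
    intro p hp
    have := h ⟨p, hp⟩
    have h2 : evA A ⟨p, hp⟩ (a - b) = 0 := by rw [map_sub, this, sub_self]
    exact (evA_eq_zero_iff A ⟨p, hp⟩ (a - b)).1 h2
  rw [nilradical_eq_zero, Ideal.zero_eq_bot, Ideal.mem_bot, sub_eq_zero] at h1
  exact h1

end Groth.Agent.Helper8.PtFunGlue
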