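import Mathlib
import Groth.Prelude.Def_W4c1hilbchowincPtFun
import Groth.Agent.Helper5.Dvr
import Groth.Agent.Helper5.DvrDom
import Groth.Agent.Helper8.PtFunGlue

set_option autoImplicit false
set_option linter.style.haveILetI false
set_option linter.unusedSectionVars false

namespace Groth.Agent.Helper8.PtFunNormal

open AlgebraicGeometry CategoryTheory W4c1hilbchowinc Polynomial
open Groth.Agent.Helper8.PtFunGlue

universe u

/-- DVR criterion for integrality over a Noetherian domain -/
theorem isIntegral_of_forall_dvr (D K : Type*) [CommRing D] [IsDomain D] [IsNoetherianRing D]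
    [Field K] [Algebra D K] [IsFractionRing D K] (x : K)
    (h : ∀ O : ValuationSubring K, IsDiscreteValuationRing O →
      (∀ d : D, algebraMap D K d ∈ O) → x ∈ O) : IsIntegral D x := by
  classical
  by_contra hx
  have hx0 : x ≠ 0 := by
    rintro rfl
    exact hx isIntegral_zero
  letI : Invertible x⁻¹ := invertibleOfNonzero (inv_ne_zero hx0)
  let B : Subalgebra D K := Algebra.adjoin D {x⁻¹}
  let xinv : B := ⟨x⁻¹, Algebra.subset_adjoin rfl⟩
  have hne : Ideal.span {xinv} ≠ ⊤ := by
    intro eq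
    obtain ⟨p, hp, hpx⟩ := Algebra.exists_aeval_invOf_eq_zero_of_idealMap_adjoin_sup_span_eq_top
      (R := D) (x⁻¹) (⊥ : Ideal D) bot_ne_top (by rw [eq]; simp)
    apply hx
    refine ⟨p, ?_, ?_⟩
    · rw [Ideal.mem_bot, sub_eq_zero] at hp
      exact hp
    · have h1 : ⅟(x⁻¹) = x := by rw [invOf_eq_inv, inv_inv]
      rw [h1] at hpx
      exact hpx
  obtain ⟨P, hPmax, hle⟩ := Ideal.exists_le_maximal _ hne
  have hxP : xinv ∈ P := hle (Ideal.mem_span_singleton_self xinv)
  have hxinv0 : xinv ≠ 0 := by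
    intro h0
    have := congrArg (Subtype.val) h0
    exact inv_ne_zero hx0 this
  have hPbot : P ≠ ⊥ := by
    intro hb
    rw [hb, Ideal.mem_bot] at hxP
    exact hxinv0 hxP
  have hinjB : Function.Injective (algebraMap B K) := Subtype.val_injective
  haveI : Algebra.FiniteType D B :=
    (Subalgebra.fg_iff_finiteType B).1 ⟨{x⁻¹}, by rw [Finset.coe_singleton]⟩
  haveI : IsNoetherianRing B := Algebra.FiniteType.isNoetherianRing D B
  haveI : IsFractionRing B K := Groth.Agent.Helper5.KA.isFractionRing_of_between D K B hinjB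
  obtain ⟨O, hO, hB, hlt⟩ := Groth.Agent.Helper5.Dvr.exists_dvr_finite B K K P hPmax.ne_top hPbot
  have hxO : x ∈ O := h O hO (fun d => hB (algebraMap D B d))
  have h1 : O.valuation x ≤ 1 := (ValuationSubring.valuation_le_one_iff O x).2 hxO
  have h2 : O.valuation (x⁻¹) < 1 := hlt xinv hxP
  have h3 : O.valuation x * O.valuation x⁻¹ = 1 := by
    rw [← map_mul, mul_inv_cancel₀ hx0, map_one]
  have h4 : O.valuation x * O.valuation x⁻¹ < 1 := by
    calc O.valuation x * O.valuation x⁻¹ ≤ 1 * O.valuation x⁻¹ := mul_le_mul' h1 le_rfl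
      _ = O.valuation x⁻¹ := one_mul _
      _ < 1 := h2
  rw [h3] at h4
  exact lt_irrefl _ h4

section main
variable {A : Type u} [CommRing A]

/-- the point of `Spec A` given by a prime -/
abbrev pt (p : Ideal A) (hp : p.IsPrime) : ↥(Spec (CommRingCat.of A)) :=
  (⟨p, hp⟩ : PrimeSpectrum A)

theorem transport (f : PtFun (Spec (CommRingCat.of A))) (w y : ↥(Spec (CommRingCat.of A)))
    (hw : w = y) (c d : A) (h : f y * evA A y c = evA A y d) :
    f w * evA A w c = evA A w d := by
  subst hw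
  exact h

theorem transport' (f : PtFun (Spec (CommRingCat.of A))) (w y : ↥(Spec (CommRingCat.of A)))
    (hw : w = y) (d : A) (h : f y = evA A y d) :
    f w = evA A w d := by
  subst hw
  exact h

/-- at a minimal prime (or any prime), integrality of the value fraction, in cleared form -/
theorem exists_monic_scaleRoots_mem [IsNoetherianRing A]
    (f : PtFun (Spec (CommRingCat.of A))) (hf : f.VariesAlongDVR)
    (p : Ideal A) (hp : p.IsPrime) (a₀ s₀ : A) (hs₀ : s₀ ∉ p)
    (hfa : f (pt p hp) * evA A (pt p hp) s₀ = evA A (pt p hp) a₀) :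
    ∃ Q : A[X], Q.Monic ∧ (Q.scaleRoots s₀).eval a₀ ∈ p := by
  haveI := hp
  have hψ : ∀ x : A, algebraMap A (FractionRing (A ⧸ p)) x =
      algebraMap (A ⧸ p) (FractionRing (A ⧸ p)) (Ideal.Quotient.mk p x) := fun x =>
    IsScalarTower.algebraMap_apply A (A ⧸ p) (FractionRing (A ⧸ p)) x
  have hψ0 : ∀ x : A, algebraMap A (FractionRing (A ⧸ p)) x = 0 ↔ x ∈ p := by
    intro x
    rw [hψ, map_eq_zero_iff _ (IsFractionRing.injective (A ⧸ p) (FractionRing (A ⧸ p))),
      Ideal.Quotient.eq_zero_iff_mem]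
  have hψs : algebraMap A (FractionRing (A ⧸ p)) s₀ ≠ 0 := fun h => hs₀ ((hψ0 s₀).1 h)
  have hx : IsIntegral (A ⧸ p)
      (algebraMap A (FractionRing (A ⧸ p)) a₀ / algebraMap A (FractionRing (A ⧸ p)) s₀) := by
    apply isIntegral_of_forall_dvr
    intro O hO hDO
    haveI := hO
    let φ : A →+* O := (algebraMap A (FractionRing (A ⧸ p))).codRestrict O.toSubring
      (fun a => by rw [hψ]; exact hDO _)
    have hφ : ∀ a : A, O.subtype (φ a) = algebraMap A (FractionRing (A ⧸ p)) a := fun a => rfl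
    obtain ⟨r, hr⟩ := exists_elt f hf O φ
    let z : ↥(Spec (CommRingCat.of O)) := (⟨⊥, Ideal.isPrime_bot⟩ : PrimeSpectrum O)
    have hgz : (Spec.map (CommRingCat.ofHom φ)) z = pt p hp := by
      apply PrimeSpectrum.ext
      change (⊥ : Ideal O).comap φ = p
      ext a
      rw [Ideal.mem_comap, Ideal.mem_bot, ← hψ0 a, ← hφ a]
      constructor
      · intro h
        rw [h, map_zero]
      · intro h
        exact O.subtype_injective (h.trans (map_zero _).symm)
    have hrel : (Spec.map (CommRingCat.ofHom φ)).residueFieldMap z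
          (f ((Spec.map (CommRingCat.ofHom φ)) z)) * evA O z (φ s₀) = evA O z (φ a₀) := by
      rw [← evA_naturality, ← evA_naturality, ← map_mul]
      congr 1
      exact transport f _ _ hgz s₀ a₀ hfa
    rw [← hr z, ← map_mul, ← sub_eq_zero, ← map_sub, evA_eq_zero_iff] at hrel
    have h0 : r * φ s₀ - φ a₀ = 0 := Ideal.mem_bot.1 hrel
    have h5 := congrArg O.subtype h0
    rw [map_sub, map_mul, map_zero, hφ, hφ, sub_eq_zero] at h5
    have h6 : algebraMap A (FractionRing (A ⧸ p)) a₀ / algebraMap A (FractionRing (A ⧸ p)) s₀ =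
        O.subtype r := by
      rw [div_eq_iff hψs]
      exact h5.symm
    rw [h6]
    exact r.2
  haveI : Algebra.IsIntegral A (A ⧸ p) :=
    Algebra.isIntegral_of_surjective Ideal.Quotient.mk_surjective
  have hxA : IsIntegral A
      (algebraMap A (FractionRing (A ⧸ p)) a₀ / algebraMap A (FractionRing (A ⧸ p)) s₀) :=
    isIntegral_trans _ hx
  obtain ⟨Q, hQm, hQ⟩ := hxA
  refine ⟨Q, hQm, ?_⟩
  rw [← hψ0]
  have h6 : algebraMap A (FractionRing (A ⧸ p)) s₀ *
      (algebraMap A (FractionRing (A ⧸ p)) a₀ / algebraMap A (FractionRing (A ⧸ p)) s₀) =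
      algebraMap A (FractionRing (A ⧸ p)) a₀ := mul_div_cancel₀ _ hψs
  rw [← Polynomial.eval₂_at_apply, ← h6, Polynomial.scaleRoots_eval₂_mul, hQ, mul_zero]

/-- a DVR with an injective map from a Noetherian domain, centred at a given nonzero prime -/
theorem exists_dvr_center (D : Type u) [CommRing D] [IsDomain D] [IsNoetherianRing D]
    (P : Ideal D) [hP : P.IsPrime] (hP0 : P ≠ ⊥) :
    ∃ (V : Type u) (_ : CommRing V) (_ : IsDomain V) (_ : IsDiscreteValuationRing V)
      (χ : D →+* V), Function.Injective χ ∧ (IsLocalRing.maximalIdeal V).comap χ = P := by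
  classical
  have hinjDL : Function.Injective (algebraMap D (Localization.AtPrime P)) :=
    IsLocalization.injective _ P.primeCompl_le_nonZeroDivisors
  obtain ⟨a₁, ha₁P, ha₁0⟩ : ∃ a ∈ P, a ≠ 0 := Submodule.exists_mem_ne_zero_of_ne_bot hP0
  have hnf : ¬ IsField (Localization.AtPrime P) := by
    intro hF
    have hm := IsLocalRing.isField_iff_maximalIdeal_eq.1 hF
    have h1 : algebraMap D (Localization.AtPrime P) a₁ ∈
        IsLocalRing.maximalIdeal (Localization.AtPrime P) :=
      (IsLocalization.AtPrime.to_map_mem_maximal_iff (Localization.AtPrime P) P _).2 ha₁P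
    rw [hm, Ideal.mem_bot] at h1
    exact ha₁0 (hinjDL (h1.trans (map_zero _).symm))
  have hfg : (⊤ : IntermediateField (FractionRing D)
      (FractionRing D)).FG := by
    refine ⟨∅, ?_⟩
    rw [Finset.coe_empty, IntermediateField.adjoin_empty]
    ext x
    simp only [IntermediateField.mem_bot, IntermediateField.mem_top, iff_true]
    exact ⟨x, rfl⟩
  obtain ⟨V, hV, hLV, hlt⟩ := Groth.Agent.Helper5.Dvr.exists_dvr_dominating
    (Localization.AtPrime P) hnf
    (FractionRing D) (FractionRing D) hfg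
  haveI := hV
  have hψ : ∀ a : D, algebraMap D (FractionRing D) a =
      algebraMap (Localization.AtPrime P) (FractionRing D)
        (algebraMap D (Localization.AtPrime P) a) := fun a =>
    IsScalarTower.algebraMap_apply D (Localization.AtPrime P)
      (FractionRing D) a
  let χ : D →+* V := (algebraMap D (FractionRing D)).codRestrict V.toSubring
    (fun a => by rw [hψ]; exact hLV _)
  have hχ : ∀ a : D, V.subtype (χ a) = algebraMap D (FractionRing D) a :=
    fun a => rfl
  let χ' : Localization.AtPrime P →+* V :=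
    (algebraMap (Localization.AtPrime P) (FractionRing D)).codRestrict
      V.toSubring hLV
  have hχ' : ∀ a : D, χ' (algebraMap D (Localization.AtPrime P) a) = χ a := by
    intro a
    apply V.subtype_injective
    rw [hχ, hψ]
    rfl
  refine ⟨V, inferInstance, inferInstance, hV, χ, ?_, ?_⟩
  · intro a b hab
    have h1 := congrArg V.subtype hab
    rw [hχ, hχ, hψ, hψ] at h1
    exact hinjDL ((IsFractionRing.injective (Localization.AtPrime P)
      (FractionRing D)) h1)
  · ext a
    rw [Ideal.mem_comap]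
    constructor
    · intro h
      by_contra hay
      have h2 : IsUnit (algebraMap D (Localization.AtPrime P) a) :=
        IsLocalization.map_units (Localization.AtPrime P) (⟨a, hay⟩ : P.primeCompl)
      have h3 : IsUnit (χ a) := by
        rw [← hχ']
        exact h2.map χ'
      exact (IsLocalRing.mem_maximalIdeal _).1 h h3
    · intro h
      have h1 : algebraMap D (Localization.AtPrime P) a ∈
          IsLocalRing.maximalIdeal (Localization.AtPrime P) :=
        (IsLocalization.AtPrime.to_map_mem_maximal_iff (Localization.AtPrime P) P _).2 h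
      have h2 := hlt _ h1
      rw [ValuationSubring.valuation_lt_one_iff]
      rw [← hψ] at h2
      exact h2

/-- from the value at a prime to the value at a specialization -/
theorem eq_of_generic [IsNoetherianRing A]
    (f : PtFun (Spec (CommRingCat.of A))) (hf : f.VariesAlongDVR) (b : A)
    (p : Ideal A) (hp : p.IsPrime)
    (hb : f (pt p hp) = evA A (pt p hp) b) (y : ↥(Spec (CommRingCat.of A)))
    (hpy : p ≤ y.asIdeal) : f y = evA A y b := by
  classical
  haveI := hp
  by_cases hyp : y.asIdeal = p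
  · have hy : y = pt p hp := PrimeSpectrum.ext hyp
    exact transport' f _ _ hy b hb
  · obtain ⟨a₁, ha₁y, ha₁p⟩ := SetLike.exists_of_lt (lt_of_le_of_ne hpy (Ne.symm hyp))
    haveI hPprime : (y.asIdeal.map (Ideal.Quotient.mk p)).IsPrime :=
      Ideal.map_isPrime_of_surjective Ideal.Quotient.mk_surjective
        (by rw [Ideal.mk_ker]; exact hpy)
    have hmemP : ∀ a : A, Ideal.Quotient.mk p a ∈ y.asIdeal.map (Ideal.Quotient.mk p) ↔
        a ∈ y.asIdeal := by
      intro a
      rw [← Ideal.mem_comap, Ideal.comap_map_mk hpy]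
    have hP0 : y.asIdeal.map (Ideal.Quotient.mk p) ≠ ⊥ := by
      intro h0
      have h1 : Ideal.Quotient.mk p a₁ ∈ y.asIdeal.map (Ideal.Quotient.mk p) := (hmemP a₁).2 ha₁y
      rw [h0, Ideal.mem_bot] at h1
      exact ha₁p (Ideal.Quotient.eq_zero_iff_mem.1 h1)
    obtain ⟨V, _, _, _, χ, hχinj, hχm⟩ :=
      exists_dvr_center (A ⧸ p) (y.asIdeal.map (Ideal.Quotient.mk p)) hP0
    let φ : A →+* V := χ.comp (Ideal.Quotient.mk p)
    obtain ⟨r, hr⟩ := exists_elt f hf V φ
    let z₁ : ↥(Spec (CommRingCat.of V)) := (⟨⊥, Ideal.isPrime_bot⟩ : PrimeSpectrum V)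
    let z₀ : ↥(Spec (CommRingCat.of V)) :=
      (⟨IsLocalRing.maximalIdeal V, inferInstance⟩ : PrimeSpectrum V)
    have hgz₁ : (Spec.map (CommRingCat.ofHom φ)) z₁ = pt p hp := by
      apply PrimeSpectrum.ext
      change (⊥ : Ideal V).comap φ = p
      ext a
      rw [Ideal.mem_comap, Ideal.mem_bot]
      change χ (Ideal.Quotient.mk p a) = 0 ↔ _
      rw [map_eq_zero_iff χ hχinj, Ideal.Quotient.eq_zero_iff_mem]
    have hgz₀ : (Spec.map (CommRingCat.ofHom φ)) z₀ = y := by
      apply PrimeSpectrum.ext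
      change (IsLocalRing.maximalIdeal V).comap φ = y.asIdeal
      ext a
      rw [Ideal.mem_comap]
      change χ (Ideal.Quotient.mk p a) ∈ _ ↔ _
      rw [← Ideal.mem_comap, hχm, hmemP]
    -- the generic point
    have hr₁ : r = φ b := by
      have h1 := hr z₁
      have h2 : f ((Spec.map (CommRingCat.ofHom φ)) z₁) =
          evA A ((Spec.map (CommRingCat.ofHom φ)) z₁) b := transport' f _ _ hgz₁ b hb
      rw [h2, evA_naturality, ← sub_eq_zero, ← map_sub, evA_eq_zero_iff] at h1
      exact sub_eq_zero.1 (Ideal.mem_bot.1 h1)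
    -- the closed point
    have h3 := hr z₀
    rw [hr₁, ← evA_naturality] at h3
    have h4 := ((Spec.map (CommRingCat.ofHom φ)).residueFieldMap z₀).hom.injective h3
    exact transport' f _ _ hgz₀.symm b h4.symm

theorem main [IsReduced A] [IsNoetherianRing A] [IsIntegrallyClosed A]
    (f : PtFun (Spec (CommRingCat.of A))) (hf : f.VariesAlongDVR) :
    ∃ b : A, ∀ y : ↥(Spec (CommRingCat.of A)), f y = evA A y b := by
  classical
  have hfin : (minimalPrimes A).Finite := minimalPrimes.finite_of_isNoetherianRing A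
  obtain ⟨S, hS⟩ : ∃ S : Finset (Ideal A), S = hfin.toFinset := ⟨_, rfl⟩
  have hSmem : ∀ p, p ∈ S ↔ p ∈ minimalPrimes A := fun p => by rw [hS]; exact hfin.mem_toFinset
  have hprime : ∀ p ∈ minimalPrimes A, p.IsPrime := fun p hp => Ideal.IsMinimalPrime.isPrime hp
  have hincomp : ∀ p ∈ minimalPrimes A, ∀ q ∈ minimalPrimes A, q ≠ p → ∃ u, u ∈ q ∧ u ∉ p := by
    intro p hp q hq hne
    by_contra hcon
    push Not at hcon
    have hqp : q ≤ p := fun u hu => hcon u hu
    have hpq : p ≤ q := hp.2 ⟨hprime q hq, bot_le⟩ hqp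
    exact hne (le_antisymm hqp hpq)
  have h1 : ∀ p : Ideal A, p ∈ minimalPrimes A → ∃ a s t : A, s ∉ p ∧ t ∉ p ∧
      (∀ q ∈ minimalPrimes A, q ≠ p → t ∈ q) ∧
      ∀ hp : p.IsPrime, f (pt p hp) * evA A (pt p hp) s = evA A (pt p hp) a := by
    intro p hp
    haveI := hprime p hp
    obtain ⟨a, s, hs, hfa⟩ := exists_frac A (pt p (hprime p hp)) (f (pt p (hprime p hp)))
    have h2 : ∀ q : Ideal A, q ∈ minimalPrimes A → q ≠ p → ∃ u, u ∈ q ∧ u ∉ p := hincomp p hp
    choose! u hu using h2
    refine ⟨a, s, ∏ q ∈ S.erase p, u q, hs, ?_, ?_, fun _ => hfa⟩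
    · rw [Ideal.IsPrime.prod_mem_iff]
      rintro ⟨q, hq, hmem⟩
      rw [Finset.mem_erase, hSmem] at hq
      exact (hu q hq.2 hq.1).2 hmem
    · intro q hq hne
      haveI := hprime q hq
      rw [Ideal.IsPrime.prod_mem_iff]
      exact ⟨q, Finset.mem_erase.2 ⟨hne, (hSmem q).2 hq⟩, (hu q hq hne).1⟩
  choose! a s t hs ht htq hfa using h1
  obtain ⟨a₀, ha₀⟩ : ∃ a₀ : A, a₀ = ∑ p ∈ S, t p * a p := ⟨_, rfl⟩
  obtain ⟨s₀, hs₀⟩ : ∃ s₀ : A, s₀ = ∑ p ∈ S, t p * s p := ⟨_, rfl⟩
  have hval : ∀ (p : Ideal A) (hp : p ∈ minimalPrimes A) (c : Ideal A → A),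
      evA A (pt p (hprime p hp)) (∑ q ∈ S, t q * c q) =
        evA A (pt p (hprime p hp)) (t p) * evA A (pt p (hprime p hp)) (c p) := by
    intro p hp c
    rw [map_sum, Finset.sum_eq_single p]
    · rw [map_mul]
    · intro q hq hne
      rw [map_mul]
      have : evA A (pt p (hprime p hp)) (t q) = 0 := by
        rw [evA_eq_zero_iff]
        exact htq q ((hSmem q).1 hq) p hp (Ne.symm hne)
      rw [this, zero_mul]
    · intro hnot
      exact absurd ((hSmem p).2 hp) hnot
  have hs₀p : ∀ p (hp : p ∈ minimalPrimes A), s₀ ∉ p := by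
    intro p hp hmem
    have h0 := (evA_eq_zero_iff A (pt p (hprime p hp)) s₀).2 hmem
    rw [hs₀, hval p hp s, mul_eq_zero] at h0
    rcases h0 with h0 | h0
    · exact ht p hp ((evA_eq_zero_iff A _ _).1 h0)
    · exact hs p hp ((evA_eq_zero_iff A _ _).1 h0)
  have hfa₀ : ∀ p (hp : p ∈ minimalPrimes A),
      f (pt p (hprime p hp)) * evA A (pt p (hprime p hp)) s₀ =
        evA A (pt p (hprime p hp)) a₀ := by
    intro p hp
    rw [hs₀, ha₀, hval p hp s, hval p hp a, ← hfa p hp (hprime p hp)]
    ring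
  have hnil : ∀ x : A, (∀ p ∈ minimalPrimes A, x ∈ p) → x = 0 := by
    intro x hx
    have : x ∈ nilradical A := by
      rw [nilradical, ← Ideal.sInf_minimalPrimes]
      exact Ideal.mem_sInf.2 (fun {p} hp => hx p hp)
    rwa [nilradical_eq_zero, Ideal.zero_eq_bot, Ideal.mem_bot] at this
  have hs₀nzd : s₀ ∈ nonZeroDivisors A := by
    rw [mem_nonZeroDivisors_iff_right]
    intro x hx
    apply hnil
    intro p hp
    haveI := hprime p hp
    have hmem : x * s₀ ∈ p := by rw [hx]; exact p.zero_mem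
    rcases Ideal.IsPrime.mem_or_mem (hprime p hp) hmem with h | h
    · exact h
    · exact absurd h (hs₀p p hp)
  have hq₀ : algebraMap A (FractionRing A) s₀ *
      IsLocalization.mk' (FractionRing A) a₀ (⟨s₀, hs₀nzd⟩ : nonZeroDivisors A) =
      algebraMap A (FractionRing A) a₀ := by
    rw [mul_comm]
    exact IsLocalization.mk'_spec (FractionRing A) a₀ ⟨s₀, hs₀nzd⟩
  have hunit : IsUnit (algebraMap A (FractionRing A) s₀) :=
    IsLocalization.map_units (FractionRing A) (⟨s₀, hs₀nzd⟩ : nonZeroDivisors A)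
  have hD : ∀ p : Ideal A, p ∈ minimalPrimes A →
      ∃ Q : A[X], Q.Monic ∧ (Q.scaleRoots s₀).eval a₀ ∈ p :=
    fun p hp => exists_monic_scaleRoots_mem f hf p (hprime p hp) a₀ s₀ (hs₀p p hp) (hfa₀ p hp)
  choose! Q hQm hQp using hD
  have hprod0 : ∏ p ∈ S, ((Q p).scaleRoots s₀).eval a₀ = 0 := by
    apply hnil
    intro p hp
    haveI := hprime p hp
    rw [Ideal.IsPrime.prod_mem_iff]
    exact ⟨p, (hSmem p).2 hp, hQp p hp⟩
  have hint : IsIntegral A
      (IsLocalization.mk' (FractionRing A) a₀ (⟨s₀, hs₀nzd⟩ : nonZeroDivisors A)) := by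
    refine ⟨∏ p ∈ S, Q p, Polynomial.monic_prod_of_monic _ _
      (fun p hp => hQm p ((hSmem p).1 hp)), ?_⟩
    rw [Polynomial.eval₂_finsetProd]
    have h7 : ∀ p ∈ S, algebraMap A (FractionRing A) (((Q p).scaleRoots s₀).eval a₀) =
        algebraMap A (FractionRing A) s₀ ^ (Q p).natDegree *
          eval₂ (algebraMap A (FractionRing A))
            (IsLocalization.mk' (FractionRing A) a₀ (⟨s₀, hs₀nzd⟩ : nonZeroDivisors A)) (Q p) := by
      intro p _
      rw [← Polynomial.eval₂_at_apply, ← hq₀, Polynomial.scaleRoots_eval₂_mul]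
    have h8 : algebraMap A (FractionRing A) (∏ p ∈ S, ((Q p).scaleRoots s₀).eval a₀) = 0 := by
      rw [hprod0, map_zero]
    rw [map_prod, Finset.prod_congr rfl h7, Finset.prod_mul_distrib,
      Finset.prod_pow_eq_pow_sum] at h8
    exact (hunit.pow _).mul_right_eq_zero.1 h8
  obtain ⟨b, hb⟩ := IsIntegrallyClosed.algebraMap_eq_of_integral hint
  have hbs : b * s₀ = a₀ := by
    apply IsFractionRing.injective A (FractionRing A)
    rw [map_mul, hb, mul_comm]
    exact hq₀
  refine ⟨b, ?_⟩
  have hmin : ∀ p (hp : p ∈ minimalPrimes A),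
      f (pt p (hprime p hp)) = evA A (pt p (hprime p hp)) b := by
    intro p hp
    have h0 : evA A (pt p (hprime p hp)) s₀ ≠ 0 :=
      fun h => hs₀p p hp ((evA_eq_zero_iff A _ _).1 h)
    have h9 := hfa₀ p hp
    rw [← hbs, map_mul] at h9
    exact mul_right_cancel₀ h0 h9
  intro y
  obtain ⟨p, hp, hpy⟩ := Ideal.exists_minimalPrimes_le (show (⊥ : Ideal A) ≤ y.asIdeal from bot_le)
  exact eq_of_generic f hf b p (hprime p hp) (hmin p hp) y hpy

end main

end Groth.Agent.Helper8.PtFunNormal
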