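import Mathlib
import Groth.Prelude.Def_W4c1hilbchowincPtFun
import Groth.Prelude.Def_HTop2
import Groth.Agent.Helper8.PtFunNormal
import Groth.Agent.Helper7.SnSch1
import Groth.Agent.S0549

set_option autoImplicit false
set_option linter.style.haveILetI false
set_option linter.unusedSectionVars false

namespace Groth.Agent.Helper8.PtFunSN

open AlgebraicGeometry CategoryTheory W4c1hilbchowinc Polynomial
open Groth.Agent.Helper8.PtFunGlue Groth.Agent.Helper8.PtFunNormal

universe u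

/-- the completion of a DVR is a complete DVR, and divisibility descends -/
theorem exists_completion (O : Type u) [CommRing O] [IsDomain O] [IsDiscreteValuationRing O] :
    ∃ (V : Type u) (_ : CommRing V) (_ : IsDomain V) (_ : IsDiscreteValuationRing V)
      (_ : IsAdicComplete (IsLocalRing.maximalIdeal V) V) (ι : O →+* V),
      Function.Injective ι ∧ (IsLocalRing.maximalIdeal V).comap ι = IsLocalRing.maximalIdeal O ∧
      ∀ x y : O, ι x ∣ ι y → x ∣ y := by
  obtain ⟨hdom, hdvr⟩ := (Groth.Agent.S0549.result O).1 ⟨inferInstance, inferInstance⟩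
  have fg : (IsLocalRing.maximalIdeal O).FG := (IsLocalRing.maximalIdeal O).fg_of_isNoetherianRing
  have hcomp := AdicCompletion.isAdicComplete_self (IsLocalRing.maximalIdeal O) fg
  have hm := AdicCompletion.maximalIdeal_eq_map (R := O)
  have hinj : Function.Injective
      (algebraMap O (AdicCompletion (IsLocalRing.maximalIdeal O) O)) :=
    fun a b h => AdicCompletion.of_injective (I := IsLocalRing.maximalIdeal O) (M := O) h
  have hcomap : (IsLocalRing.maximalIdeal (AdicCompletion (IsLocalRing.maximalIdeal O) O)).comap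
      (algebraMap O (AdicCompletion (IsLocalRing.maximalIdeal O) O)) =
      IsLocalRing.maximalIdeal O := by
    haveI := AdicCompletion.algebraMap_isLocalHom_of_fg fg
    exact ((IsLocalRing.local_hom_TFAE
      (algebraMap O (AdicCompletion (IsLocalRing.maximalIdeal O) O))).out 0 4).1 this
  refine ⟨AdicCompletion (IsLocalRing.maximalIdeal O) O, inferInstance, hdom, hdvr, ?_,
    algebraMap O _, hinj, hcomap, ?_⟩
  · rw [hm]; exact hcomp
  · intro x y hxy
    rcases ValuationRing.dvd_total x y with h | ⟨u, hu⟩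
    · exact h
    · by_cases hu' : IsUnit u
      · obtain ⟨v, rfl⟩ := hu'
        exact ⟨↑v⁻¹, by rw [hu, mul_assoc, Units.mul_inv, mul_one]⟩
      · by_cases hy : y = 0
        · rw [hy]; exact dvd_zero x
        · exfalso
          obtain ⟨w, hw⟩ := hxy
          have hιy : algebraMap O (AdicCompletion (IsLocalRing.maximalIdeal O) O) y ≠ 0 :=
            fun h0 => hy (hinj (h0.trans (map_zero _).symm))
          rw [hu, map_mul, mul_assoc] at hw
          have h1 : algebraMap O (AdicCompletion (IsLocalRing.maximalIdeal O) O) u * w = 1 :=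
            mul_left_cancel₀ hιy (hw.symm.trans (mul_one _).symm)
          have h2 : IsUnit (algebraMap O (AdicCompletion (IsLocalRing.maximalIdeal O) O) u) :=
            IsUnit.of_mul_eq_one _ h1
          have h3 : algebraMap O (AdicCompletion (IsLocalRing.maximalIdeal O) O) u ∈
              IsLocalRing.maximalIdeal (AdicCompletion (IsLocalRing.maximalIdeal O) O) := by
            have h4 : u ∈ IsLocalRing.maximalIdeal O := (IsLocalRing.mem_maximalIdeal u).2 hu'
            rw [← hcomap] at h4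
            exact h4
          exact (IsLocalRing.mem_maximalIdeal _).1 h3 h2

theorem exists_complete_dvr_center (D : Type u) [CommRing D] [IsDomain D] [IsNoetherianRing D]
    (P : Ideal D) [hP : P.IsPrime] (hP0 : P ≠ ⊥) :
    ∃ (V : Type u) (_ : CommRing V) (_ : IsDomain V) (_ : IsDiscreteValuationRing V)
      (_ : IsAdicComplete (IsLocalRing.maximalIdeal V) V)
      (χ : D →+* V), Function.Injective χ ∧ (IsLocalRing.maximalIdeal V).comap χ = P := by
  obtain ⟨V₀, _, _, _, χ₀, hinj₀, hcomap₀⟩ := exists_dvr_center D P hP0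
  obtain ⟨V, i1, i2, i3, i4, ι, hιinj, hιcomap, -⟩ := exists_completion V₀
  refine ⟨V, i1, i2, i3, i4, ι.comp χ₀, hιinj.comp hinj₀, ?_⟩
  rw [← Ideal.comap_comap, hιcomap, hcomap₀]

section main
variable {A : Type u} [CommRing A]

theorem exists_elt_c (f : PtFun (Spec (CommRingCat.of A)))
    (hf : f.VariesAlongCompleteDVR) (R : Type u) [CommRing R] [IsDomain R]
    [IsDiscreteValuationRing R] [IsAdicComplete (IsLocalRing.maximalIdeal R) R]
    (φ : A →+* R) :
    ∃ r : R, ∀ z : ↥(Spec (CommRingCat.of R)),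
      evA R z r = (Spec.map (CommRingCat.ofHom φ)).residueFieldMap z
        (f ((Spec.map (CommRingCat.ofHom φ)) z)) := by
  obtain ⟨s, hs⟩ := hf R (Spec.map (CommRingCat.ofHom φ))
  refine ⟨(Scheme.ΓSpecIso (CommRingCat.of R)).hom s, fun z => ?_⟩
  rw [← evA_hom_inv]
  exact congrFun hs z

theorem exists_monic_scaleRoots_mem_c [IsNoetherianRing A]
    (f : PtFun (Spec (CommRingCat.of A))) (hf : f.VariesAlongCompleteDVR)
    (p : Ideal A) (hp : p.IsPrime) (a₀ s₀ : A) (hs₀ : s₀ ∉ p)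
    (hfa : f (pt p hp) * evA A (pt p hp) s₀ = evA A (pt p hp) a₀) :
    ∃ Q : A[X], Q.Monic ∧ (Q.scaleRoots s₀).eval a₀ ∈ p := by
  haveI := hp
  have hψ : ∀ x : A, algebraMap A (FractionRing (A ⧸ p)) x =
      algebraMap (A ⧸ p) (FractionRing (A ⧸ p)) (Ideal.Quotient.mk p x) := fun x =>
    IsScalarTower.algebraMap_apply A (A ⧸ p) (FractionRing (A ⧸ p)) x
  have hψ0 : ∀ x : A, algebraMap A (FractionRing (A ⧸ p)) x = 0 ↔ x ∈ p := by
    intro x
    rw [hψ, map_eq_zero_iff _ (IsFractionRing.injective (A ⧸ p) (FractionRing (A ⧸ p))),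
      Ideal.Quotient.eq_zero_iff_mem]
  have hψs : algebraMap A (FractionRing (A ⧸ p)) s₀ ≠ 0 := fun h => hs₀ ((hψ0 s₀).1 h)
  have hx : IsIntegral (A ⧸ p)
      (algebraMap A (FractionRing (A ⧸ p)) a₀ / algebraMap A (FractionRing (A ⧸ p)) s₀) := by
    apply isIntegral_of_forall_dvr
    intro O hO hDO
    haveI := hO
    let φ₀ : A →+* O := (algebraMap A (FractionRing (A ⧸ p))).codRestrict O.toSubring
      (fun a => by rw [hψ]; exact hDO _)
    have hφ₀ : ∀ a : A, O.subtype (φ₀ a) = algebraMap A (FractionRing (A ⧸ p)) a := fun a => rfl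
    obtain ⟨V, _, _, _, _, ι, hιinj, -, hdvd⟩ := exists_completion O
    obtain ⟨r, hr⟩ := exists_elt_c f hf V (ι.comp φ₀)
    let z : ↥(Spec (CommRingCat.of V)) := (⟨⊥, Ideal.isPrime_bot⟩ : PrimeSpectrum V)
    have hgz : (Spec.map (CommRingCat.ofHom (ι.comp φ₀))) z = pt p hp := by
      apply PrimeSpectrum.ext
      change (⊥ : Ideal V).comap (ι.comp φ₀) = p
      ext a
      rw [Ideal.mem_comap, Ideal.mem_bot, ← hψ0 a, ← hφ₀ a]
      change ι (φ₀ a) = 0 ↔ _
      rw [map_eq_zero_iff ι hιinj]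
      constructor
      · intro h
        rw [h, map_zero]
      · intro h
        exact O.subtype_injective (h.trans (map_zero _).symm)
    have hrel : (Spec.map (CommRingCat.ofHom (ι.comp φ₀))).residueFieldMap z
          (f ((Spec.map (CommRingCat.ofHom (ι.comp φ₀))) z)) * evA V z ((ι.comp φ₀) s₀) =
          evA V z ((ι.comp φ₀) a₀) := by
      rw [← evA_naturality, ← evA_naturality, ← map_mul]
      congr 1
      exact transport f _ _ hgz s₀ a₀ hfa
    rw [← hr z, ← map_mul, ← sub_eq_zero, ← map_sub, evA_eq_zero_iff] at hrel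
    have h0 : r * (ι.comp φ₀) s₀ - (ι.comp φ₀) a₀ = 0 := Ideal.mem_bot.1 hrel
    have h1 : ι (φ₀ s₀) ∣ ι (φ₀ a₀) := ⟨r, by
      have := sub_eq_zero.1 h0
      rw [mul_comm] at this
      exact this.symm⟩
    obtain ⟨r₀, hr₀⟩ := hdvd _ _ h1
    have h5 := congrArg O.subtype hr₀
    rw [map_mul, hφ₀, hφ₀] at h5
    have h6 : algebraMap A (FractionRing (A ⧸ p)) a₀ / algebraMap A (FractionRing (A ⧸ p)) s₀ =
        O.subtype r₀ := by
      rw [div_eq_iff hψs, h5, mul_comm]
    rw [h6]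
    exact r₀.2
  haveI : Algebra.IsIntegral A (A ⧸ p) :=
    Algebra.isIntegral_of_surjective Ideal.Quotient.mk_surjective
  have hxA : IsIntegral A
      (algebraMap A (FractionRing (A ⧸ p)) a₀ / algebraMap A (FractionRing (A ⧸ p)) s₀) :=
    isIntegral_trans _ hx
  obtain ⟨Q, hQm, hQ⟩ := hxA
  refine ⟨Q, hQm, ?_⟩
  rw [← hψ0]
  have h6 : algebraMap A (FractionRing (A ⧸ p)) s₀ *
      (algebraMap A (FractionRing (A ⧸ p)) a₀ / algebraMap A (FractionRing (A ⧸ p)) s₀) =
      algebraMap A (FractionRing (A ⧸ p)) a₀ := mul_div_cancel₀ _ hψs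
  rw [← Polynomial.eval₂_at_apply, ← h6, Polynomial.scaleRoots_eval₂_mul, hQ, mul_zero]

theorem eq_of_generic_c [IsNoetherianRing A]
    (f : PtFun (Spec (CommRingCat.of A))) (hf : f.VariesAlongCompleteDVR) (b : A)
    (p : Ideal A) (hp : p.IsPrime)
    (hb : f (pt p hp) = evA A (pt p hp) b) (y : ↥(Spec (CommRingCat.of A)))
    (hpy : p ≤ y.asIdeal) : f y = evA A y b := by
  classical
  haveI := hp
  by_cases hyp : y.asIdeal = p
  · have hy : y = pt p hp := PrimeSpectrum.ext hyp
    exact transport' f _ _ hy b hb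
  · obtain ⟨a₁, ha₁y, ha₁p⟩ := SetLike.exists_of_lt (lt_of_le_of_ne hpy (Ne.symm hyp))
    haveI hPprime : (y.asIdeal.map (Ideal.Quotient.mk p)).IsPrime :=
      Ideal.map_isPrime_of_surjective Ideal.Quotient.mk_surjective
        (by rw [Ideal.mk_ker]; exact hpy)
    have hmemP : ∀ a : A, Ideal.Quotient.mk p a ∈ y.asIdeal.map (Ideal.Quotient.mk p) ↔
        a ∈ y.asIdeal := by
      intro a
      rw [← Ideal.mem_comap, Ideal.comap_map_mk hpy]
    have hP0 : y.asIdeal.map (Ideal.Quotient.mk p) ≠ ⊥ := by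
      intro h0
      have h1 : Ideal.Quotient.mk p a₁ ∈ y.asIdeal.map (Ideal.Quotient.mk p) := (hmemP a₁).2 ha₁y
      rw [h0, Ideal.mem_bot] at h1
      exact ha₁p (Ideal.Quotient.eq_zero_iff_mem.1 h1)
    obtain ⟨V, _, _, _, _, χ, hχinj, hχm⟩ :=
      exists_complete_dvr_center (A ⧸ p) (y.asIdeal.map (Ideal.Quotient.mk p)) hP0
    let φ : A →+* V := χ.comp (Ideal.Quotient.mk p)
    obtain ⟨r, hr⟩ := exists_elt_c f hf V φ
    let z₁ : ↥(Spec (CommRingCat.of V)) := (⟨⊥, Ideal.isPrime_bot⟩ : PrimeSpectrum V)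
    let z₀ : ↥(Spec (CommRingCat.of V)) :=
      (⟨IsLocalRing.maximalIdeal V, inferInstance⟩ : PrimeSpectrum V)
    have hgz₁ : (Spec.map (CommRingCat.ofHom φ)) z₁ = pt p hp := by
      apply PrimeSpectrum.ext
      change (⊥ : Ideal V).comap φ = p
      ext a
      rw [Ideal.mem_comap, Ideal.mem_bot]
      change χ (Ideal.Quotient.mk p a) = 0 ↔ _
      rw [map_eq_zero_iff χ hχinj, Ideal.Quotient.eq_zero_iff_mem]
    have hgz₀ : (Spec.map (CommRingCat.ofHom φ)) z₀ = y := by
      apply PrimeSpectrum.ext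
      change (IsLocalRing.maximalIdeal V).comap φ = y.asIdeal
      ext a
      rw [Ideal.mem_comap]
      change χ (Ideal.Quotient.mk p a) ∈ _ ↔ _
      rw [← Ideal.mem_comap, hχm, hmemP]
    have hr₁ : r = φ b := by
      have h1 := hr z₁
      have h2 : f ((Spec.map (CommRingCat.ofHom φ)) z₁) =
          evA A ((Spec.map (CommRingCat.ofHom φ)) z₁) b := transport' f _ _ hgz₁ b hb
      rw [h2, evA_naturality, ← sub_eq_zero, ← map_sub, evA_eq_zero_iff] at h1
      exact sub_eq_zero.1 (Ideal.mem_bot.1 h1)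
    have h3 := hr z₀
    rw [hr₁, ← evA_naturality] at h3
    have h4 := ((Spec.map (CommRingCat.ofHom φ)).residueFieldMap z₀).hom.injective h3
    exact transport' f _ _ hgz₀.symm b h4.symm

/-- a common integral fraction for the values at the minimal primes -/
theorem exists_fraction [IsReduced A] [IsNoetherianRing A]
    (f : PtFun (Spec (CommRingCat.of A))) (hf : f.VariesAlongCompleteDVR) :
    ∃ a₀ s₀ : A, ∃ hs : s₀ ∈ nonZeroDivisors A, (∀ p ∈ minimalPrimes A, s₀ ∉ p) ∧
      (∀ p ∈ minimalPrimes A, ∀ hp' : p.IsPrime,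
        f (pt p hp') * evA A (pt p hp') s₀ = evA A (pt p hp') a₀) ∧
      IsIntegral A (IsLocalization.mk' (FractionRing A) a₀ (⟨s₀, hs⟩ : nonZeroDivisors A)) := by
  classical
  have hfin : (minimalPrimes A).Finite := minimalPrimes.finite_of_isNoetherianRing A
  obtain ⟨S, hS⟩ : ∃ S : Finset (Ideal A), S = hfin.toFinset := ⟨_, rfl⟩
  have hSmem : ∀ p, p ∈ S ↔ p ∈ minimalPrimes A := fun p => by rw [hS]; exact hfin.mem_toFinset
  have hprime : ∀ p ∈ minimalPrimes A, p.IsPrime := fun p hp => Ideal.IsMinimalPrime.isPrime hp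
  have hincomp : ∀ p ∈ minimalPrimes A, ∀ q ∈ minimalPrimes A, q ≠ p → ∃ u, u ∈ q ∧ u ∉ p := by
    intro p hp q hq hne
    by_contra hcon
    push Not at hcon
    have hqp : q ≤ p := fun u hu => hcon u hu
    have hpq : p ≤ q := hp.2 ⟨hprime q hq, bot_le⟩ hqp
    exact hne (le_antisymm hqp hpq)
  have h1 : ∀ p : Ideal A, p ∈ minimalPrimes A → ∃ a s t : A, s ∉ p ∧ t ∉ p ∧
      (∀ q ∈ minimalPrimes A, q ≠ p → t ∈ q) ∧
      ∀ hp : p.IsPrime, f (pt p hp) * evA A (pt p hp) s = evA A (pt p hp) a := by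
    intro p hp
    haveI := hprime p hp
    obtain ⟨a, s, hs, hfa⟩ := exists_frac A (pt p (hprime p hp)) (f (pt p (hprime p hp)))
    have h2 : ∀ q : Ideal A, q ∈ minimalPrimes A → q ≠ p → ∃ u, u ∈ q ∧ u ∉ p := hincomp p hp
    choose! u hu using h2
    refine ⟨a, s, ∏ q ∈ S.erase p, u q, hs, ?_, ?_, fun _ => hfa⟩
    · rw [Ideal.IsPrime.prod_mem_iff]
      rintro ⟨q, hq, hmem⟩
      rw [Finset.mem_erase, hSmem] at hq
      exact (hu q hq.2 hq.1).2 hmem
    · intro q hq hne
      haveI := hprime q hq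
      rw [Ideal.IsPrime.prod_mem_iff]
      exact ⟨q, Finset.mem_erase.2 ⟨hne, (hSmem q).2 hq⟩, (hu q hq hne).1⟩
  choose! a s t hs ht htq hfa using h1
  obtain ⟨a₀, ha₀⟩ : ∃ a₀ : A, a₀ = ∑ p ∈ S, t p * a p := ⟨_, rfl⟩
  obtain ⟨s₀, hs₀⟩ : ∃ s₀ : A, s₀ = ∑ p ∈ S, t p * s p := ⟨_, rfl⟩
  have hval : ∀ (p : Ideal A) (hp : p ∈ minimalPrimes A) (c : Ideal A → A),
      evA A (pt p (hprime p hp)) (∑ q ∈ S, t q * c q) =
        evA A (pt p (hprime p hp)) (t p) * evA A (pt p (hprime p hp)) (c p) := by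
    intro p hp c
    rw [map_sum, Finset.sum_eq_single p]
    · rw [map_mul]
    · intro q hq hne
      rw [map_mul]
      have : evA A (pt p (hprime p hp)) (t q) = 0 := by
        rw [evA_eq_zero_iff]
        exact htq q ((hSmem q).1 hq) p hp (Ne.symm hne)
      rw [this, zero_mul]
    · intro hnot
      exact absurd ((hSmem p).2 hp) hnot
  have hs₀p : ∀ p (hp : p ∈ minimalPrimes A), s₀ ∉ p := by
    intro p hp hmem
    have h0 := (evA_eq_zero_iff A (pt p (hprime p hp)) s₀).2 hmem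
    rw [hs₀, hval p hp s, mul_eq_zero] at h0
    rcases h0 with h0 | h0
    · exact ht p hp ((evA_eq_zero_iff A _ _).1 h0)
    · exact hs p hp ((evA_eq_zero_iff A _ _).1 h0)
  have hfa₀ : ∀ p (hp : p ∈ minimalPrimes A),
      f (pt p (hprime p hp)) * evA A (pt p (hprime p hp)) s₀ =
        evA A (pt p (hprime p hp)) a₀ := by
    intro p hp
    rw [hs₀, ha₀, hval p hp s, hval p hp a, ← hfa p hp (hprime p hp)]
    ring
  have hnil : ∀ x : A, (∀ p ∈ minimalPrimes A, x ∈ p) → x = 0 := by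
    intro x hx
    have : x ∈ nilradical A := by
      rw [nilradical, ← Ideal.sInf_minimalPrimes]
      exact Ideal.mem_sInf.2 (fun {p} hp => hx p hp)
    rwa [nilradical_eq_zero, Ideal.zero_eq_bot, Ideal.mem_bot] at this
  have hs₀nzd : s₀ ∈ nonZeroDivisors A := by
    rw [mem_nonZeroDivisors_iff_right]
    intro x hx
    apply hnil
    intro p hp
    haveI := hprime p hp
    have hmem : x * s₀ ∈ p := by rw [hx]; exact p.zero_mem
    rcases Ideal.IsPrime.mem_or_mem (hprime p hp) hmem with h | h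
    · exact h
    · exact absurd h (hs₀p p hp)
  refine ⟨a₀, s₀, hs₀nzd, hs₀p, fun p hp _ => hfa₀ p hp, ?_⟩
  have hq₀ : algebraMap A (FractionRing A) s₀ *
      IsLocalization.mk' (FractionRing A) a₀ (⟨s₀, hs₀nzd⟩ : nonZeroDivisors A) =
      algebraMap A (FractionRing A) a₀ := by
    rw [mul_comm]
    exact IsLocalization.mk'_spec (FractionRing A) a₀ ⟨s₀, hs₀nzd⟩
  have hunit : IsUnit (algebraMap A (FractionRing A) s₀) :=
    IsLocalization.map_units (FractionRing A) (⟨s₀, hs₀nzd⟩ : nonZeroDivisors A)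
  have hD : ∀ p : Ideal A, p ∈ minimalPrimes A →
      ∃ Q : A[X], Q.Monic ∧ (Q.scaleRoots s₀).eval a₀ ∈ p :=
    fun p hp => exists_monic_scaleRoots_mem_c f hf p (hprime p hp) a₀ s₀ (hs₀p p hp) (hfa₀ p hp)
  choose! Q hQm hQp using hD
  have hprod0 : ∏ p ∈ S, ((Q p).scaleRoots s₀).eval a₀ = 0 := by
    apply hnil
    intro p hp
    haveI := hprime p hp
    rw [Ideal.IsPrime.prod_mem_iff]
    exact ⟨p, (hSmem p).2 hp, hQp p hp⟩
  refine ⟨∏ p ∈ S, Q p, Polynomial.monic_prod_of_monic _ _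
    (fun p hp => hQm p ((hSmem p).1 hp)), ?_⟩
  rw [Polynomial.eval₂_finsetProd]
  have h7 : ∀ p ∈ S, algebraMap A (FractionRing A) (((Q p).scaleRoots s₀).eval a₀) =
      algebraMap A (FractionRing A) s₀ ^ (Q p).natDegree *
        eval₂ (algebraMap A (FractionRing A))
          (IsLocalization.mk' (FractionRing A) a₀ (⟨s₀, hs₀nzd⟩ : nonZeroDivisors A)) (Q p) := by
    intro p _
    rw [← Polynomial.eval₂_at_apply, ← hq₀, Polynomial.scaleRoots_eval₂_mul]
  have h8 : algebraMap A (FractionRing A) (∏ p ∈ S, ((Q p).scaleRoots s₀).eval a₀) = 0 := by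
    rw [hprod0, map_zero]
  rw [map_prod, Finset.prod_congr rfl h7, Finset.prod_mul_distrib,
    Finset.prod_pow_eq_pow_sum] at h8
  exact (hunit.pow _).mul_right_eq_zero.1 h8

end main

end Groth.Agent.Helper8.PtFunSN
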