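import Mathlib
import Groth.Prelude.Def_W4c1hilbchowincPtFun
import Groth.Prelude.Def_HTop2
import Groth.Agent.Helper8.PtFunSN

set_option autoImplicit false
set_option linter.style.haveILetI false
set_option linter.unusedSectionVars false

namespace Groth.Agent.Helper8.PtFunSN

open AlgebraicGeometry CategoryTheory W4c1hilbchowinc Polynomial
open Groth.Agent.Helper8.PtFunGlue Groth.Agent.Helper8.PtFunNormal
open Groth.Agent.Helper7.UHRing

universe u

section descend
variable {A : Type u} [CommRing A]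

/-- contraction of a minimal prime of a subalgebra of the total fraction ring is a minimal prime -/
theorem comap_mem_minimalPrimes [IsReduced A] [IsNoetherianRing A]
    (C : Subalgebra A (FractionRing A)) (Q₀ : Ideal C) (hQ₀ : Q₀ ∈ minimalPrimes C) :
    Q₀.comap (algebraMap A C) ∈ minimalPrimes A := by
  classical
  haveI hQ₀prime : Q₀.IsPrime := hQ₀.1.1
  have hfin : (minimalPrimes A).Finite := minimalPrimes.finite_of_isNoetherianRing A
  have hprime : ∀ p ∈ minimalPrimes A, p.IsPrime := fun p hp => Ideal.IsMinimalPrime.isPrime hp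
  have hnil : ∀ x : A, (∀ p ∈ minimalPrimes A, x ∈ p) → x = 0 := by
    intro x hx
    have : x ∈ nilradical A := by
      rw [nilradical, ← Ideal.sInf_minimalPrimes]
      exact Ideal.mem_sInf.2 (fun {p} hp => hx p hp)
    rwa [nilradical_eq_zero, Ideal.zero_eq_bot, Ideal.mem_bot] at this
  -- nonzerodivisors of A stay outside Q₀
  have h1 : ∀ s ∈ nonZeroDivisors A, algebraMap A C s ∉ Q₀ := by
    intro s hs hmem
    have hnzd : algebraMap A C s ∈ nonZeroDivisors C := by
      rw [mem_nonZeroDivisors_iff_right]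
      intro c hc
      apply Subtype.ext
      have h2 := congrArg (fun c : C => (c : FractionRing A)) hc
      have hunit : IsUnit (algebraMap A (FractionRing A) s) :=
        IsLocalization.map_units (FractionRing A) (⟨s, hs⟩ : nonZeroDivisors A)
      exact (hunit.mul_left_eq_zero).1 h2
    exact (Set.disjoint_left.mp (Ideal.disjoint_nonZeroDivisors_of_mem_minimalPrimes hQ₀))
      hmem hnzd
  -- every element of the contraction lies in some minimal prime
  have h2 : ((Q₀.comap (algebraMap A C) : Ideal A) : Set A) ⊆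
      ⋃ p ∈ (hfin.toFinset : Set (Ideal A)), (p : Set A) := by
    intro x hx
    have hx' : x ∉ nonZeroDivisors A := fun hs => h1 x hs hx
    rw [mem_nonZeroDivisors_iff_right] at hx'
    push Not at hx'
    obtain ⟨y, hyx, hy0⟩ := hx'
    have h3 : ∃ p ∈ minimalPrimes A, y ∉ p := by
      by_contra hcon
      push Not at hcon
      exact hy0 (hnil y hcon)
    obtain ⟨p, hp, hyp⟩ := h3
    haveI := hprime p hp
    have hmem : y * x ∈ p := by rw [hyx]; exact p.zero_mem
    have hxp : x ∈ p := (Ideal.IsPrime.mem_or_mem (hprime p hp) hmem).resolve_left hyp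
    simp only [Set.mem_iUnion, Finset.mem_coe, Set.Finite.mem_toFinset, SetLike.mem_coe]
    exact ⟨p, hp, hxp⟩
  have h3 := (Ideal.subset_union_prime (s := hfin.toFinset) (f := fun p : Ideal A => p) ⊥ ⊥
    (fun p hp _ _ => hprime p (hfin.mem_toFinset.1 hp))).1 h2
  obtain ⟨p, hp, hle⟩ := h3
  have hp' : p ∈ minimalPrimes A := hfin.mem_toFinset.1 hp
  have hge : p ≤ Q₀.comap (algebraMap A C) :=
    hp'.2 ⟨Ideal.comap_isPrime _ _, bot_le⟩ hle
  rw [le_antisymm hle hge]
  exact hp'

theorem descend (hA : HTop.IsSeminormalRing A) [IsReduced A] [IsNoetherianRing A]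
    (f : PtFun (Spec (CommRingCat.of A))) (hf : f.VariesAlongCompleteDVR)
    (a₀ s₀ : A) (hs₀p : ∀ p ∈ minimalPrimes A, s₀ ∉ p)
    (hfa₀ : ∀ p ∈ minimalPrimes A, ∀ hp' : p.IsPrime,
        f (pt p hp') * evA A (pt p hp') s₀ = evA A (pt p hp') a₀)
    (q₀ : FractionRing A)
    (hq₀ : algebraMap A (FractionRing A) s₀ * q₀ = algebraMap A (FractionRing A) a₀)
    (hint : IsIntegral A q₀) : ∃ b : A, algebraMap A (FractionRing A) b = q₀ := by
  classical
  let C : Subalgebra A (FractionRing A) := Algebra.adjoin A {q₀}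
  let q₀' : C := ⟨q₀, Algebra.subset_adjoin rfl⟩
  have hq₀' : algebraMap A C s₀ * q₀' = algebraMap A C a₀ := Subtype.ext hq₀
  haveI : Algebra.FiniteType A C :=
    (Subalgebra.fg_iff_finiteType C).1 ⟨{q₀}, by rw [Finset.coe_singleton]⟩
  haveI : IsNoetherianRing C := Algebra.FiniteType.isNoetherianRing A C
  haveI : IsReduced (FractionRing A) :=
    isReduced_localizationPreserves (nonZeroDivisors A) (FractionRing A) inferInstance
  haveI : IsReduced C := isReduced_of_injective C.val Subtype.val_injective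
  -- the key congruence
  have key : ∀ (Q : Ideal C) (_ : Q.IsPrime) (y : ↥(Spec (CommRingCat.of A)))
      (_ : y.asIdeal = Q.comap (algebraMap A C)) (a t : A), t ∉ y.asIdeal →
      f y * evA A y t = evA A y a → algebraMap A C t * q₀' - algebraMap A C a ∈ Q := by
    intro Q hQ y hy a t ht hfy
    obtain ⟨Q₀, hQ₀min, hQ₀Q⟩ := Ideal.exists_minimalPrimes_le (show (⊥ : Ideal C) ≤ Q from bot_le)
    haveI hQ₀prime : Q₀.IsPrime := hQ₀min.1.1
    have hp₀min := comap_mem_minimalPrimes C Q₀ hQ₀min
    haveI hp₀prime : (Q₀.comap (algebraMap A C)).IsPrime := Ideal.comap_isPrime _ _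
    have hs₀Q₀ : algebraMap A C s₀ ∉ Q₀ := fun h => hs₀p _ hp₀min h
    have hR₀ := hfa₀ _ hp₀min hp₀prime
    by_cases hQQ₀ : Q = Q₀
    · -- the minimal case
      have hyp : y = pt (Q₀.comap (algebraMap A C)) hp₀prime := by
        apply PrimeSpectrum.ext
        rw [hy, hQQ₀]
      have hRy : f y * evA A y s₀ = evA A y a₀ := transport f _ _ hyp s₀ a₀ hR₀
      have h1 : t * a₀ - s₀ * a ∈ y.asIdeal := by
        rw [← evA_eq_zero_iff, map_sub, map_mul, map_mul, ← hRy, ← hfy]
        ring
      have h2 : algebraMap A C (t * a₀ - s₀ * a) ∈ Q := by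
        rw [hy] at h1
        exact h1
      have h3 : algebraMap A C s₀ * (algebraMap A C t * q₀' - algebraMap A C a) ∈ Q := by
        have : algebraMap A C s₀ * (algebraMap A C t * q₀' - algebraMap A C a) =
            algebraMap A C (t * a₀ - s₀ * a) := by
          rw [map_sub, map_mul, map_mul, ← hq₀']
          ring
        rw [this]
        exact h2
      rcases Ideal.IsPrime.mem_or_mem hQ h3 with h4 | h4
      · exact absurd (hQQ₀ ▸ h4) hs₀Q₀
      · exact h4
    · -- the general case: a complete DVR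
      obtain ⟨c₁, hc₁Q, hc₁Q₀⟩ := SetLike.exists_of_lt (lt_of_le_of_ne hQ₀Q (Ne.symm hQQ₀))
      haveI hPprime : (Q.map (Ideal.Quotient.mk Q₀)).IsPrime :=
        Ideal.map_isPrime_of_surjective Ideal.Quotient.mk_surjective
          (by rw [Ideal.mk_ker]; exact hQ₀Q)
      have hmemP : ∀ c : C, Ideal.Quotient.mk Q₀ c ∈ Q.map (Ideal.Quotient.mk Q₀) ↔ c ∈ Q := by
        intro c
        rw [← Ideal.mem_comap, Ideal.comap_map_mk hQ₀Q]
      have hP0 : Q.map (Ideal.Quotient.mk Q₀) ≠ ⊥ := by
        intro h0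
        have h1 : Ideal.Quotient.mk Q₀ c₁ ∈ Q.map (Ideal.Quotient.mk Q₀) := (hmemP c₁).2 hc₁Q
        rw [h0, Ideal.mem_bot] at h1
        exact hc₁Q₀ (Ideal.Quotient.eq_zero_iff_mem.1 h1)
      obtain ⟨V, _, _, _, _, χ, hχinj, hχm⟩ :=
        exists_complete_dvr_center (C ⧸ Q₀) (Q.map (Ideal.Quotient.mk Q₀)) hP0
      let ψ : C →+* V := χ.comp (Ideal.Quotient.mk Q₀)
      let φ : A →+* V := ψ.comp (algebraMap A C)
      have hψ0 : ∀ c : C, ψ c = 0 ↔ c ∈ Q₀ := by
        intro c
        change χ (Ideal.Quotient.mk Q₀ c) = 0 ↔ _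
        rw [map_eq_zero_iff χ hχinj, Ideal.Quotient.eq_zero_iff_mem]
      have hψm : ∀ c : C, ψ c ∈ IsLocalRing.maximalIdeal V ↔ c ∈ Q := by
        intro c
        change χ (Ideal.Quotient.mk Q₀ c) ∈ _ ↔ _
        rw [← Ideal.mem_comap, hχm, hmemP]
      obtain ⟨r, hr⟩ := exists_elt_c f hf V φ
      let z₁ : ↥(Spec (CommRingCat.of V)) := (⟨⊥, Ideal.isPrime_bot⟩ : PrimeSpectrum V)
      let z₀ : ↥(Spec (CommRingCat.of V)) :=
        (⟨IsLocalRing.maximalIdeal V, inferInstance⟩ : PrimeSpectrum V)
      have hgz₁ : (Spec.map (CommRingCat.ofHom φ)) z₁ =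
          pt (Q₀.comap (algebraMap A C)) hp₀prime := by
        apply PrimeSpectrum.ext
        change (⊥ : Ideal V).comap φ = Q₀.comap (algebraMap A C)
        ext x
        rw [Ideal.mem_comap, Ideal.mem_bot, Ideal.mem_comap]
        exact hψ0 _
      have hgz₀ : (Spec.map (CommRingCat.ofHom φ)) z₀ = y := by
        apply PrimeSpectrum.ext
        change (IsLocalRing.maximalIdeal V).comap φ = y.asIdeal
        rw [hy]
        ext x
        rw [Ideal.mem_comap, Ideal.mem_comap]
        exact hψm _
      -- generic point: r = ψ q₀'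
      have hr₁ : r = ψ q₀' := by
        have h1 : (Spec.map (CommRingCat.ofHom φ)).residueFieldMap z₁
            (f ((Spec.map (CommRingCat.ofHom φ)) z₁)) * evA V z₁ (φ s₀) = evA V z₁ (φ a₀) := by
          rw [← evA_naturality, ← evA_naturality, ← map_mul]
          congr 1
          exact transport f _ _ hgz₁ s₀ a₀ hR₀
        rw [← hr z₁, ← map_mul, ← sub_eq_zero, ← map_sub, evA_eq_zero_iff] at h1
        have h2 : r * φ s₀ = φ a₀ := sub_eq_zero.1 (Ideal.mem_bot.1 h1)
        have h3 : ψ q₀' * φ s₀ = φ a₀ := by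
          have := congrArg ψ hq₀'
          rw [map_mul, mul_comm] at this
          exact this
        have h4 : φ s₀ ≠ 0 := fun h0 => hs₀Q₀ ((hψ0 _).1 h0)
        exact mul_right_cancel₀ h4 (h2.trans h3.symm)
      -- closed point
      have h5 : (Spec.map (CommRingCat.ofHom φ)).residueFieldMap z₀
          (f ((Spec.map (CommRingCat.ofHom φ)) z₀)) * evA V z₀ (φ t) = evA V z₀ (φ a) := by
        rw [← evA_naturality, ← evA_naturality, ← map_mul]
        congr 1
        exact transport f _ _ hgz₀ t a hfy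
      rw [← hr z₀, ← map_mul, ← sub_eq_zero, ← map_sub, evA_eq_zero_iff] at h5
      have h6 : ψ (algebraMap A C t * q₀' - algebraMap A C a) ∈ IsLocalRing.maximalIdeal V := by
        have : ψ (algebraMap A C t * q₀' - algebraMap A C a) = r * φ t - φ a := by
          rw [map_sub, map_mul, hr₁, mul_comm]
          rfl
        rw [this]
        exact h5
      exact (hψm _).1 h6
  -- trivial residue fields
  have hres : ResTriv (algebraMap A C) := by
    intro Q hQ c
    haveI hpQ : (Q.comap (algebraMap A C)).IsPrime := Ideal.comap_isPrime _ _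
    have hall : ∀ (x : FractionRing A) (hx : x ∈ Algebra.adjoin A {q₀}),
        ∃ a t : A, t ∉ Q.comap (algebraMap A C) ∧
          algebraMap A C t * (⟨x, hx⟩ : C) - algebraMap A C a ∈ Q := by
      intro x hx
      induction hx using Algebra.adjoin_induction with
      | mem x hx =>
        obtain rfl := Set.mem_singleton_iff.1 hx
        obtain ⟨a, t, ht, hfy⟩ := exists_frac A (pt (Q.comap (algebraMap A C)) hpQ)
          (f (pt (Q.comap (algebraMap A C)) hpQ))
        exact ⟨a, t, ht, key Q hQ _ rfl a t ht hfy⟩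
      | algebraMap r =>
        refine ⟨r, 1, ?_, ?_⟩
        · intro h1
          exact hpQ.ne_top ((Ideal.eq_top_iff_one _).2 h1)
        · have : algebraMap A C 1 * (⟨algebraMap A (FractionRing A) r, Subalgebra.algebraMap_mem _ r⟩ : C) -
              algebraMap A C r = 0 := by
            rw [map_one, one_mul]
            exact sub_self _
          rw [this]
          exact Q.zero_mem
      | add x y hx hy ihx ihy =>
        obtain ⟨a₁, t₁, ht₁, h₁⟩ := ihx
        obtain ⟨a₂, t₂, ht₂, h₂⟩ := ihy
        refine ⟨t₂ * a₁ + t₁ * a₂, t₁ * t₂, ?_, ?_⟩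
        · intro hmem
          rcases Ideal.IsPrime.mem_or_mem hpQ hmem with h | h
          · exact ht₁ h
          · exact ht₂ h
        · have : algebraMap A C (t₁ * t₂) * (⟨x + y, add_mem hx hy⟩ : C) -
              algebraMap A C (t₂ * a₁ + t₁ * a₂) =
              algebraMap A C t₂ * (algebraMap A C t₁ * (⟨x, hx⟩ : C) - algebraMap A C a₁) +
              algebraMap A C t₁ * (algebraMap A C t₂ * (⟨y, hy⟩ : C) - algebraMap A C a₂) := by
            have hxy : (⟨x + y, add_mem hx hy⟩ : C) = ⟨x, hx⟩ + ⟨y, hy⟩ := rfl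
            rw [hxy, map_mul, map_add, map_mul, map_mul]
            ring
          rw [this]
          exact Q.add_mem (Q.mul_mem_left _ h₁) (Q.mul_mem_left _ h₂)
      | mul x y hx hy ihx ihy =>
        obtain ⟨a₁, t₁, ht₁, h₁⟩ := ihx
        obtain ⟨a₂, t₂, ht₂, h₂⟩ := ihy
        refine ⟨a₁ * a₂, t₁ * t₂, ?_, ?_⟩
        · intro hmem
          rcases Ideal.IsPrime.mem_or_mem hpQ hmem with h | h
          · exact ht₁ h
          · exact ht₂ h
        · have : algebraMap A C (t₁ * t₂) * (⟨x * y, mul_mem hx hy⟩ : C) -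
              algebraMap A C (a₁ * a₂) =
              (algebraMap A C t₂ * (⟨y, hy⟩ : C)) *
                (algebraMap A C t₁ * (⟨x, hx⟩ : C) - algebraMap A C a₁) +
              algebraMap A C a₁ * (algebraMap A C t₂ * (⟨y, hy⟩ : C) - algebraMap A C a₂) := by
            have hxy : (⟨x * y, mul_mem hx hy⟩ : C) = ⟨x, hx⟩ * ⟨y, hy⟩ := rfl
            rw [hxy, map_mul, map_mul]
            ring
          rw [this]
          exact Q.add_mem (Q.mul_mem_left _ h₁) (Q.mul_mem_left _ h₂)
    obtain ⟨x, hx⟩ := c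
    exact hall x hx
  -- universal homeomorphism
  have hUH : IsUH (algebraMap A C) := by
    refine ⟨?_, ?_, ?_⟩
    · haveI : Algebra.IsIntegral A C := Algebra.IsIntegral.adjoin (by
        intro x hx
        rw [Set.mem_singleton_iff.1 hx]
        exact hint)
      intro c
      exact Algebra.IsIntegral.isIntegral c
    · intro K _ h₁ h₂ heq
      have hA' : ∀ x : A, h₁ (algebraMap A C x) = h₂ (algebraMap A C x) := fun x =>
        congrArg (fun g : A →+* K => g x) heq
      have hall : ∀ (x : FractionRing A) (hx : x ∈ Algebra.adjoin A {q₀}),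
          h₁ (⟨x, hx⟩ : C) = h₂ (⟨x, hx⟩ : C) := by
        intro x hx
        induction hx using Algebra.adjoin_induction with
        | mem x hx =>
          obtain rfl := Set.mem_singleton_iff.1 hx
          haveI hQ₁ : (RingHom.ker h₁).IsPrime := RingHom.ker_isPrime h₁
          haveI hQ₂ : (RingHom.ker h₂).IsPrime := RingHom.ker_isPrime h₂
          haveI hpQ : ((RingHom.ker h₁).comap (algebraMap A C)).IsPrime := Ideal.comap_isPrime _ _
          obtain ⟨a, t, ht, hfy⟩ := exists_frac A (pt ((RingHom.ker h₁).comap (algebraMap A C)) hpQ)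
            (f (pt ((RingHom.ker h₁).comap (algebraMap A C)) hpQ))
          have hy₂ : (pt ((RingHom.ker h₁).comap (algebraMap A C)) hpQ).asIdeal =
              (RingHom.ker h₂).comap (algebraMap A C) := by
            ext x
            change x ∈ (RingHom.ker h₁).comap (algebraMap A C) ↔ _
            rw [Ideal.mem_comap, Ideal.mem_comap, RingHom.mem_ker, RingHom.mem_ker, hA']
          have k₁ := key (RingHom.ker h₁) hQ₁ _ rfl a t ht hfy
          have k₂ := key (RingHom.ker h₂) hQ₂ _ hy₂ a t ht hfy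
          rw [RingHom.mem_ker, map_sub, map_mul, sub_eq_zero] at k₁ k₂
          have hτ : h₁ (algebraMap A C t) ≠ 0 := by
            intro h0
            exact ht (by
              change t ∈ (RingHom.ker h₁).comap (algebraMap A C)
              rw [Ideal.mem_comap, RingHom.mem_ker]
              exact h0)
          have h3 : h₁ (algebraMap A C t) * h₁ q₀' = h₁ (algebraMap A C t) * h₂ q₀' := by
            rw [k₁, hA' a, ← k₂, hA' t]
          exact mul_left_cancel₀ hτ h3
        | algebraMap r => exact hA' r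
        | add x y hx hy ihx ihy =>
          have hxy : (⟨x + y, add_mem hx hy⟩ : C) = ⟨x, hx⟩ + ⟨y, hy⟩ := rfl
          rw [hxy, map_add, map_add, ihx, ihy]
        | mul x y hx hy ihx ihy =>
          have hxy : (⟨x * y, mul_mem hx hy⟩ : C) = ⟨x, hx⟩ * ⟨y, hy⟩ := rfl
          rw [hxy, map_mul, map_mul, ihx, ihy]
      ext ⟨x, hx⟩
      exact hall x hx
    · intro a ha
      have h1 := congrArg (fun c : C => (c : FractionRing A)) ha
      have h2 : a = 0 := IsFractionRing.injective A (FractionRing A) (h1.trans (map_zero _).symm)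
      rw [h2]
      exact IsNilpotent.zero
  have hbij := Groth.Agent.Helper7.SnSch.bijective_of_isSeminormalRing hA (algebraMap A C) hUH hres
  obtain ⟨b, hb⟩ := hbij.2 q₀'
  exact ⟨b, congrArg (fun c : C => (c : FractionRing A)) hb⟩

theorem main_sn (hA : HTop.IsSeminormalRing A) [IsNoetherianRing A]
    (f : PtFun (Spec (CommRingCat.of A))) (hf : f.VariesAlongCompleteDVR) :
    ∃ b : A, ∀ y : ↥(Spec (CommRingCat.of A)), f y = evA A y b := by
  haveI : IsReduced A := Groth.Agent.Helper7.AwnR.isReduced_of_isSeminormalRing hA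
  obtain ⟨a₀, s₀, hs₀nzd, hs₀p, hfa₀, hint⟩ := exists_fraction f hf
  have hq₀ : algebraMap A (FractionRing A) s₀ *
      IsLocalization.mk' (FractionRing A) a₀ (⟨s₀, hs₀nzd⟩ : nonZeroDivisors A) =
      algebraMap A (FractionRing A) a₀ := by
    rw [mul_comm]
    exact IsLocalization.mk'_spec (FractionRing A) a₀ ⟨s₀, hs₀nzd⟩
  obtain ⟨b, hb⟩ := descend hA f hf a₀ s₀ hs₀p hfa₀ _ hq₀ hint
  have hbs : b * s₀ = a₀ := by
    apply IsFractionRing.injective A (FractionRing A)
    rw [map_mul, hb, mul_comm]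
    exact hq₀
  refine ⟨b, ?_⟩
  have hprime : ∀ p ∈ minimalPrimes A, p.IsPrime := fun p hp => Ideal.IsMinimalPrime.isPrime hp
  have hmin : ∀ p (hp : p ∈ minimalPrimes A),
      f (pt p (hprime p hp)) = evA A (pt p (hprime p hp)) b := by
    intro p hp
    have h0 : evA A (pt p (hprime p hp)) s₀ ≠ 0 :=
      fun h => hs₀p p hp ((evA_eq_zero_iff A _ _).1 h)
    have h9 := hfa₀ p hp (hprime p hp)
    rw [← hbs, map_mul] at h9
    exact mul_right_cancel₀ h0 h9
  intro y
  obtain ⟨p, hp, hpy⟩ := Ideal.exists_minimalPrimes_le (show (⊥ : Ideal A) ≤ y.asIdeal from bot_le)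
  exact eq_of_generic_c f hf b p (hprime p hp) (hmin p hp) y hpy

end descend

end Groth.Agent.Helper8.PtFunSN
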