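import Mathlib
import Groth.Prelude.Def_W4c1hilbchowincPtFun
import Groth.Agent.Helper8.PtFunGlue

set_option autoImplicit false
set_option linter.style.haveILetI false
set_option linter.unusedSectionVars false

namespace Groth.Agent.Helper8.PtFunSemi

open AlgebraicGeometry CategoryTheory W4c1hilbchowinc
open Groth.Agent.Helper8.PtFunGlue

universe u

variable {A : Type u} [CommRing A]

/-- the pointwise function `y / x` (zero where `x` vanishes) -/
noncomputable def quotFun (x y : A) : PtFun (Spec (CommRingCat.of A)) := by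
  classical
  exact fun w => if x ∈ w.asIdeal then 0 else evA A w y / evA A w x

theorem quotFun_of_mem (x y : A) (w : ↥(Spec (CommRingCat.of A))) (h : x ∈ w.asIdeal) :
    quotFun x y w = 0 := by
  classical
  unfold quotFun
  exact if_pos h

theorem quotFun_of_notMem (x y : A) (w : ↥(Spec (CommRingCat.of A))) (h : x ∉ w.asIdeal) :
    quotFun x y w = evA A w y / evA A w x := by
  classical
  unfold quotFun
  exact if_neg h

theorem quotFun_varies (x y : A) (hxy : x ^ 3 = y ^ 2) : (quotFun x y).VariesAlongDVR := by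
  intro R _ _ _ g
  obtain ⟨φ', rfl⟩ : ∃ φ', g = Spec.map φ' := ⟨Spec.preimage g, (Spec.map_preimage g).symm⟩
  obtain ⟨φ, rfl⟩ : ∃ φ : A →+* R, φ' = CommRingCat.ofHom φ := ⟨φ'.hom, rfl⟩
  have hxyR : φ x ^ 3 = φ y ^ 2 := by rw [← map_pow, ← map_pow, hxy]
  -- it suffices to produce an element of `R`
  suffices hr : ∃ r : R, ∀ z : ↥(Spec (CommRingCat.of R)),
      evA R z r = (Spec.map (CommRingCat.ofHom φ)).residueFieldMap z
        (quotFun x y ((Spec.map (CommRingCat.ofHom φ)) z)) by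
    obtain ⟨r, hr⟩ := hr
    refine ⟨(Scheme.ΓSpecIso (CommRingCat.of R)).inv r, ?_⟩
    funext z
    exact hr z
  have hmem : ∀ z : ↥(Spec (CommRingCat.of R)),
      x ∈ ((Spec.map (CommRingCat.ofHom φ)) z).asIdeal ↔ φ x ∈ z.asIdeal := fun z => Iff.rfl
  by_cases hx0 : φ x = 0
  · refine ⟨0, fun z => ?_⟩
    have hxz : x ∈ ((Spec.map (CommRingCat.ofHom φ)) z).asIdeal := by
      rw [hmem, hx0]; exact z.asIdeal.zero_mem
    rw [quotFun_of_mem x y _ hxz, map_zero, map_zero]
  · have hdvd : φ x ∣ φ y := by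
      rw [← IsIntegrallyClosed.pow_dvd_pow_iff (n := 2) (by norm_num), ← hxyR]
      exact ⟨φ x, by ring⟩
    obtain ⟨r, hr⟩ := hdvd
    have hr2 : r ^ 2 = φ x := by
      have h1 : φ x ^ 2 * r ^ 2 = φ x ^ 2 * φ x := by
        rw [← mul_pow, ← hr, ← hxyR]; ring
      exact mul_left_cancel₀ (pow_ne_zero 2 hx0) h1
    refine ⟨r, fun z => ?_⟩
    by_cases hxz : φ x ∈ z.asIdeal
    · rw [quotFun_of_mem x y _ ((hmem z).2 hxz), map_zero, evA_eq_zero_iff]
      rw [← hr2] at hxz
      exact z.2.mem_of_pow_mem 2 hxz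
    · rw [quotFun_of_notMem x y _ (fun h => hxz ((hmem z).1 h)), map_div₀, evA_naturality,
        evA_naturality, hr, map_mul]
      have hne : evA R z (φ x) ≠ 0 := fun h0 => hxz ((evA_eq_zero_iff R z _).1 h0)
      rw [mul_div_cancel_left₀ _ hne]

theorem main [IsReduced A]
    (h : ∀ f : PtFun (Spec (CommRingCat.of A)), f.VariesAlongDVR →
      ∃ a : A, ∀ w, evA A w a = f w) (x y : A) (hxy : x ^ 3 = y ^ 2) :
    ∃! a : A, x = a ^ 2 ∧ y = a ^ 3 := by
  obtain ⟨a, ha⟩ := h (quotFun x y) (quotFun_varies x y hxy)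
  have hy_mem : ∀ w : ↥(Spec (CommRingCat.of A)), x ∈ w.asIdeal → y ∈ w.asIdeal := by
    intro w hx
    have : y ^ 2 ∈ w.asIdeal := by rw [← hxy]; exact Ideal.pow_mem_of_mem _ hx 3 (by norm_num)
    exact w.2.mem_of_pow_mem 2 this
  have hrel : ∀ w : ↥(Spec (CommRingCat.of A)), evA A w x ^ 3 = evA A w y ^ 2 := by
    intro w; rw [← map_pow, ← map_pow, hxy]
  refine ⟨a, ⟨?_, ?_⟩, ?_⟩
  · apply eq_of_evA_eq
    intro w
    rw [map_pow, ha w]
    by_cases hx : x ∈ w.asIdeal
    · rw [quotFun_of_mem x y w hx, (evA_eq_zero_iff A w x).2 hx]; ring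
    · rw [quotFun_of_notMem x y w hx]
      have hne : evA A w x ≠ 0 := fun h0 => hx ((evA_eq_zero_iff A w _).1 h0)
      rw [div_pow, ← hrel w]
      field_simp
  · apply eq_of_evA_eq
    intro w
    rw [map_pow, ha w]
    by_cases hx : x ∈ w.asIdeal
    · rw [quotFun_of_mem x y w hx, (evA_eq_zero_iff A w y).2 (hy_mem w hx)]; ring
    · rw [quotFun_of_notMem x y w hx]
      have hne : evA A w x ≠ 0 := fun h0 => hx ((evA_eq_zero_iff A w _).1 h0)
      rw [div_pow, eq_div_iff (pow_ne_zero 3 hne)]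
      have := hrel w
      calc evA A w y * evA A w x ^ 3 = evA A w y * evA A w y ^ 2 := by rw [this]
        _ = evA A w y ^ 3 := by ring
  · rintro a₂ ⟨hx2, hy2⟩
    apply eq_of_evA_eq
    intro w
    rw [ha w]
    by_cases hx : x ∈ w.asIdeal
    · rw [quotFun_of_mem x y w hx, evA_eq_zero_iff]
      rw [hx2] at hx
      exact w.2.mem_of_pow_mem 2 hx
    · rw [quotFun_of_notMem x y w hx]
      have hne : evA A w x ≠ 0 := fun h0 => hx ((evA_eq_zero_iff A w _).1 h0)
      rw [eq_div_iff hne, hx2, hy2, map_pow, map_pow]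
      ring

end Groth.Agent.Helper8.PtFunSemi
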