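import Mathlib
import Groth.Prelude.Def_W4stktopologysheavesDim
import Groth.Agent.Helper8.CodimChain

namespace Groth.Agent.Helper8.PtTopCat

open TopologicalSpace Groth.Agent.Helper8.CodimChain

universe u

variable {X : Type u} [TopologicalSpace X]

lemma codim_eq_cd (T T' : IrreducibleCloseds X) :
    PtTop.codim T (T' : Set X) = cd T T' := by
  simp only [PtTop.codim, cd, SetLike.coe_subset_coe]

lemma isCatenarySpace_iff_isCat : PtTop.IsCatenarySpace X ↔ IsCat (IrreducibleCloseds X) := by
  unfold PtTop.IsCatenarySpace IsCat IsSat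
  simp only [codim_eq_cd]

theorem main (X : Type u) [TopologicalSpace X] :
    PtTop.IsCatenarySpace X ↔
      (∀ Y Y' : TopologicalSpace.IrreducibleCloseds X, Y ≤ Y' → PtTop.codim Y (Y' : Set X) ≠ ⊤) ∧
      (∀ Y Y' Y'' : TopologicalSpace.IrreducibleCloseds X, Y ≤ Y' → Y' ≤ Y'' →
        PtTop.codim Y (Y'' : Set X) = PtTop.codim Y (Y' : Set X) + PtTop.codim Y' (Y'' : Set X)) := by
  rw [isCatenarySpace_iff_isCat, isCat_iff]
  simp only [codim_eq_cd]

end Groth.Agent.Helper8.PtTopCat
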