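import Mathlib
import Groth.Prelude.Def_W4stktopologysheavesDim
import Groth.Agent.Helper8.CodimChain
import Groth.Agent.Helper8.PtTopCat

namespace Groth.Agent.Helper8.PtTopDim

open TopologicalSpace Groth.Agent.Helper8.CodimChain Groth.Agent.Helper8.PtTopCat

universe u

variable {X : Type u} [TopologicalSpace X] [QuasiSober X] [T0Space X]

/-- the grading on irreducible closed subsets induced by a dimension function -/
noncomputable def γ (δ : X → ℤ) : IrreducibleCloseds X → ℤ :=
  letI : PartialOrder X := specializationOrder X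
  fun Z => δ (irreducibleSetEquivPoints (α := X) Z)

lemma γ_strictMono (δ : X → ℤ) (hδ : PtTop.IsDimensionFunction δ) : StrictMono (γ δ) := by
  letI : PartialOrder X := specializationOrder X
  intro Z Z' hZ
  have h := (irreducibleSetEquivPoints (α := X)).strictMono hZ
  have h1 : irreducibleSetEquivPoints (α := X) Z' ⤳ irreducibleSetEquivPoints (α := X) Z := h.le
  exact hδ.1 _ _ h1 (ne_of_gt h)

lemma γ_covBy (δ : X → ℤ) (hδ : PtTop.IsDimensionFunction δ) (Z Z' : IrreducibleCloseds X)
    (hZ : Z ⋖ Z') : γ δ Z' = γ δ Z + 1 := by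
  letI : PartialOrder X := specializationOrder X
  have h := (apply_covBy_apply_iff (irreducibleSetEquivPoints (α := X))).mpr hZ
  apply hδ.2
  refine ⟨h.lt.le, ne_of_gt h.lt, fun z h1 h2 => ?_⟩
  have h1' : z ≤ irreducibleSetEquivPoints (α := X) Z' := h1
  have h2' : irreducibleSetEquivPoints (α := X) Z ≤ z := h2
  exact (h.eq_or_eq h2' h1').symm

theorem main (δ : X → ℤ) (hδ : PtTop.IsDimensionFunction δ) :
    PtTop.IsCatenarySpace X ∧
    ∀ x y : X, x ⤳ y →
      PtTop.codim (⟨closure {y}, isIrreducible_singleton.closure, isClosed_closure⟩ :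
        TopologicalSpace.IrreducibleCloseds X)
        (closure {x}) = ((δ x - δ y).toNat : ℕ∞) := by
  letI : PartialOrder X := specializationOrder X
  refine ⟨isCatenarySpace_iff_isCat.mpr
    (isCat_of_grading (γ δ) (γ_strictMono δ hδ) (γ_covBy δ hδ)), fun x y hxy => ?_⟩
  have hle : (irreducibleSetEquivPoints (α := X)).symm y ≤
      (irreducibleSetEquivPoints (α := X)).symm x :=
    (irreducibleSetEquivPoints (α := X)).symm.monotone (show y ≤ x from hxy)
  have h := cd_eq_of_grading (γ δ) (γ_strictMono δ hδ) (γ_covBy δ hδ) hle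
  rw [← codim_eq_cd] at h
  simp only [γ, OrderIso.apply_symm_apply] at h
  exact h

end Groth.Agent.Helper8.PtTopDim
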