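import Mathlib
import Groth.Prelude.Def_W4stktopologysheavesDim
import Groth.Agent.Helper8.PtTopDim

namespace Groth.Agent.Helper8.PtTopLC

open TopologicalSpace Topology

universe u

variable {X : Type u} [TopologicalSpace X] [QuasiSober X] [T0Space X]

/-- a dimension function is determined up to a constant along specializations -/
lemma sub_eq_of_specializes (δ δ' : X → ℤ) (hδ : PtTop.IsDimensionFunction δ)
    (hδ' : PtTop.IsDimensionFunction δ') {x y : X} (h : x ⤳ y) :
    δ x - δ' x = δ y - δ' y := by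
  have h1 := (PtTopDim.main δ hδ).2 x y h
  have h2 := (PtTopDim.main δ' hδ').2 x y h
  rw [h1] at h2
  have h3 : (δ x - δ y).toNat = (δ' x - δ' y).toNat := by exact_mod_cast h2
  have m1 : δ y ≤ δ x := by
    by_cases hxy : x = y
    · rw [hxy]
    · exact (hδ.1 x y h hxy).le
  have m2 : δ' y ≤ δ' x := by
    by_cases hxy : x = y
    · rw [hxy]
    · exact (hδ'.1 x y h hxy).le
  omega

theorem main
    (hX : ∀ x : X, ∃ E ∈ nhds x, TopologicalSpace.NoetherianSpace E)
    (δ δ' : X → ℤ) (hδ : PtTop.IsDimensionFunction δ) (hδ' : PtTop.IsDimensionFunction δ') :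
    IsLocallyConstant (fun x => δ x - δ' x) := by
  rw [IsLocallyConstant.iff_exists_open]
  intro x
  obtain ⟨E, hE, hEN⟩ := hX x
  have hVN : NoetherianSpace (interior E) := NoetherianSpace.of_subset interior_subset
  have hVo : IsOpen (interior E) := isOpen_interior
  have hxV : x ∈ interior E := mem_interior_iff_mem_nhds.mpr hE
  have hQS : QuasiSober (interior E) := hVo.isOpenEmbedding_subtypeVal.quasiSober
  obtain ⟨S, hSf, hSc, hSi, hSU⟩ :=
    NoetherianSpace.exists_finite_set_isClosed_irreducible (α := interior E) isClosed_univ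
  set x' : interior E := ⟨x, hxV⟩ with hx'
  -- the bad closed set
  set B : Set (interior E) := ⋃₀ {t ∈ S | x' ∉ t} with hB
  have hBc : IsClosed B := by
    rw [hB, Set.sUnion_eq_biUnion]
    exact (hSf.subset (Set.sep_subset _ _)).isClosed_biUnion fun t ht => hSc t ht.1
  refine ⟨Subtype.val '' Bᶜ, hVo.isOpenMap_subtype_val _ hBc.isOpen_compl, ⟨x', ?_, rfl⟩, ?_⟩
  · rintro ⟨t, ⟨-, ht⟩, hxt⟩
    exact ht hxt
  · rintro _ ⟨w, hw, rfl⟩
    have hwU : w ∈ ⋃₀ S := by rw [← hSU]; trivial
    obtain ⟨t, htS, hwt⟩ := hwU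
    have hxt : x' ∈ t := by
      by_contra hxt
      exact hw ⟨t, ⟨htS, hxt⟩, hwt⟩
    obtain ⟨η, hη⟩ := QuasiSober.sober (hSi t htS) (hSc t htS)
    have s1 : η ⤳ w := by
      rw [specializes_iff_mem_closure, hη.def]; exact hwt
    have s2 : η ⤳ x' := by
      rw [specializes_iff_mem_closure, hη.def]; exact hxt
    have s1' : (η : X) ⤳ (w : X) := s1.map continuous_subtype_val
    have s2' : (η : X) ⤳ x := s2.map continuous_subtype_val
    change δ w - δ' w = δ x - δ' x
    rw [← sub_eq_of_specializes δ δ' hδ hδ' s1', ← sub_eq_of_specializes δ δ' hδ hδ' s2']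

end Groth.Agent.Helper8.PtTopLC
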