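import Mathlib

set_option autoImplicit false
universe u v

namespace Groth.Agent.Helper8.SemiLin

open Polynomial

section
variable {k : Type u} [Field k] {W : Type v} [AddCommGroup W] [Module k W]

/-- a nontrivial finite relation among `w 0, w 1, …` expresses some `w j` by earlier ones -/
theorem dep (w : ℕ → W) : ∀ (n : ℕ) (g : Fin n → k), ∑ i : Fin n, g i • w i = 0 → (∃ i, g i ≠ 0) →
    ∃ j, j < n ∧ w j ∈ Submodule.span k (Set.range fun i : Fin j => w i) := by
  intro n
  induction n with
  | zero => rintro g - ⟨i, -⟩; exact i.elim0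
  | succ n ih =>
    intro g hg hne
    by_cases hl : g (Fin.last n) = 0
    · rw [Fin.sum_univ_castSucc, hl, zero_smul, add_zero] at hg
      obtain ⟨i, hi⟩ := hne
      have : ∃ i' : Fin n, g (Fin.castSucc i') ≠ 0 := by
        induction i using Fin.lastCases with
        | last => exact absurd hl hi
        | cast i' => exact ⟨i', hi⟩
      obtain ⟨j, hj, hmem⟩ := ih (fun i => g (Fin.castSucc i)) hg this
      exact ⟨j, by omega, hmem⟩
    · refine ⟨n, by omega, ?_⟩
      rw [Fin.sum_univ_castSucc] at hg
      have h1 : w n = -(g (Fin.last n))⁻¹ • ∑ i : Fin n, g (Fin.castSucc i) • w i := by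
        have h2 : g (Fin.last n) • w n = -∑ i : Fin n, g (Fin.castSucc i) • w i := by
          have := hg
          simp only [Fin.val_last, Fin.val_castSucc] at this
          rw [add_comm] at this
          exact eq_neg_of_add_eq_zero_left this
        rw [neg_smul, ← smul_neg, ← h2, smul_smul, inv_mul_cancel₀ hl, one_smul]
      rw [h1]
      apply Submodule.smul_mem
      apply Submodule.sum_mem
      intro i _
      apply Submodule.smul_mem
      exact Submodule.subset_span ⟨i, rfl⟩

end

theorem main {k : Type u} [Field k] [IsAlgClosed k] (p : ℕ) [hp : Fact p.Prime] [CharP k p]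
    {W : Type v} [AddCommGroup W] [Module k W] (F : W → W)
    (hadd : ∀ x y, F (x + y) = F x + F y) (hsm : ∀ (c : k) x, F (c • x) = c ^ p • F x)
    (G : Submodule k W) [FiniteDimensional k G] (hG : ∀ x ∈ G, F x ∈ G) (w₀ : W) (hw₀ : w₀ ∈ G)
    (hne : w₀ ≠ 0) :
    ∃ v ∈ G, v ≠ 0 ∧ ∃ c : k, F v = c • v := by
  classical
  have hp1 : 1 < p := hp.out.one_lt
  have hF0 : F 0 = 0 := by
    have := hadd 0 0
    rw [add_zero] at this
    exact left_eq_add.mp this
  have hFsum : ∀ (n : ℕ) (f : Fin n → W), F (∑ i, f i) = ∑ i, F (f i) := by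
    intro n
    induction n with
    | zero => intro f; simpa using hF0
    | succ n ih =>
      intro f
      rw [Fin.sum_univ_castSucc, hadd, ih, Fin.sum_univ_castSucc]
  have hFneg : ∀ x, F (-x) = -F x := by
    intro x
    have := hadd x (-x)
    rw [add_neg_cancel, hF0] at this
    exact (neg_eq_of_add_eq_zero_right this.symm).symm
  have hFsub : ∀ x y, F (x - y) = F x - F y := by
    intro x y
    rw [sub_eq_add_neg, hadd, hFneg, ← sub_eq_add_neg]
  set w : ℕ → W := fun i => F^[i] w₀ with hw
  have hw0 : w 0 = w₀ := rfl
  have hwsucc : ∀ i, w (i + 1) = F (w i) := fun i => Function.iterate_succ_apply' F i w₀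
  have hwG : ∀ i, w i ∈ G := by
    intro i
    induction i with
    | zero => exact hw₀
    | succ i ih => rw [hwsucc]; exact hG _ ih
  -- existence of a relation
  have hex : ∃ r, w r ∈ Submodule.span k (Set.range fun i : Fin r => w i) := by
    set N := Module.finrank k G with hN
    have hdep : ¬ LinearIndependent k (fun i : Fin (N + 1) => (⟨w i, hwG i⟩ : G)) := by
      intro hli
      have := hli.fintype_card_le_finrank
      rw [Fintype.card_fin] at this
      omega
    rw [Fintype.not_linearIndependent_iff] at hdep
    obtain ⟨g, hg, hne'⟩ := hdep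
    have hg' : ∑ i : Fin (N + 1), g i • w i = 0 := by
      have := congrArg (fun x : G => (x : W)) hg
      simpa using this
    obtain ⟨j, -, hj⟩ := dep w (N + 1) g hg' hne'
    exact ⟨j, hj⟩
  set r := Nat.find hex with hr
  have hrQ : w r ∈ Submodule.span k (Set.range fun i : Fin r => w i) := Nat.find_spec hex
  have hmin : ∀ j < r, w j ∉ Submodule.span k (Set.range fun i : Fin j => w i) :=
    fun j hj => Nat.find_min hex hj
  have hr0 : r ≠ 0 := by
    intro h0
    rw [h0] at hrQ
    have : (Set.range fun i : Fin 0 => w i) = ∅ := by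
      ext x; simp
    rw [this, Submodule.span_empty, Submodule.mem_bot] at hrQ
    exact hne hrQ
  obtain ⟨s, hs⟩ := Nat.exists_eq_succ_of_ne_zero hr0
  rw [hs] at hrQ
  have hminS : w s ∉ Submodule.span k (Set.range fun i : Fin s => w i) := hmin s (by omega)
  rw [Submodule.mem_span_range_iff_exists_fun] at hrQ
  obtain ⟨a, ha⟩ := hrQ
  have ha' : w (s + 1) = a 0 • w 0 + ∑ i : Fin s, a i.succ • w (i + 1) := by
    rw [← ha, Fin.sum_univ_succ]
    rfl
  by_cases ha0 : a 0 = 0
  · -- F is not injective: kernel vector
    have hroot : ∀ i : Fin (s + 1), ∃ b : k, b ^ p = a i := fun i =>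
      IsAlgClosed.exists_pow_nat_eq (a i) hp.out.pos
    choose b hb using hroot
    set z := w s - ∑ i : Fin s, b i.succ • w i with hz
    refine ⟨z, ?_, ?_, 0, ?_⟩
    · apply Submodule.sub_mem _ (hwG s)
      apply Submodule.sum_mem
      intro i _
      exact Submodule.smul_mem _ _ (hwG i)
    · intro h0
      apply hminS
      have : w s = ∑ i : Fin s, b i.succ • w i := sub_eq_zero.mp h0
      rw [this]
      apply Submodule.sum_mem
      intro i _
      apply Submodule.smul_mem
      exact Submodule.subset_span ⟨i, rfl⟩
    · rw [zero_smul, hz, hFsub, hFsum, ← hwsucc, ha', ha0, zero_smul, zero_add, sub_eq_zero]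
      apply Finset.sum_congr rfl
      intro i _
      rw [hsm, hb, hwsucc]
  · -- F injective on the span: fixed vector
    set a' : ℕ → k := fun i => if h : i < s + 1 then a ⟨i, h⟩ else 0 with ha'def
    have ha'0 : a' 0 = a 0 := by
      simp only [ha'def]
      rw [dif_pos (by omega)]
      rfl
    have ha's : ∀ i : Fin s, a' (i + 1) = a i.succ := by
      intro i
      simp only [ha'def]
      rw [dif_pos (by omega)]
      rfl
    set Z : ℕ → k[X] := fun i => Nat.rec (C (a 0))
      (fun j q => X ^ (p * (p - 1)) * q ^ p + C (a' (j + 1))) i with hZ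
    have hZ0 : Z 0 = C (a 0) := rfl
    have hZs : ∀ i, Z (i + 1) = X ^ (p * (p - 1)) * (Z i) ^ p + C (a' (i + 1)) := fun i => rfl
    have hZne : ∀ i, Z i ≠ 0 := by
      intro i
      induction i with
      | zero => rw [hZ0]; exact C_ne_zero.mpr ha0
      | succ i ih =>
        intro h0
        have h1 : (Z (i + 1)).natDegree = 0 := by rw [h0]; exact natDegree_zero
        rw [hZs, natDegree_add_C, natDegree_X_pow_mul _ (pow_ne_zero p ih)] at h1
        have : 0 < p * (p - 1) := Nat.mul_pos hp.out.pos (by omega)
        omega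
    set H : k[X] := X ^ (p - 1) * Z s - 1 with hH
    have hHdeg : H.degree ≠ 0 := by
      have h1 : H.natDegree = (Z s).natDegree + (p - 1) := by
        rw [hH, show (1 : k[X]) = C 1 from rfl, natDegree_sub_C, natDegree_X_pow_mul _ (hZne s)]
      intro h0
      have h2 : H.natDegree = 0 := natDegree_eq_zero_iff_degree_le_zero.mpr (le_of_eq h0)
      omega
    obtain ⟨y, hy⟩ := IsAlgClosed.exists_root H hHdeg
    have hyne : y ≠ 0 := by
      intro h0
      rw [h0, IsRoot.def, hH, eval_sub, eval_mul, eval_pow, eval_X, eval_one,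
        zero_pow (by omega), zero_mul, zero_sub] at hy
      exact one_ne_zero (neg_eq_zero.mp hy)
    have hyZ : y ^ (p - 1) * (Z s).eval y = 1 := by
      rw [IsRoot.def, hH, eval_sub, eval_mul, eval_pow, eval_X, eval_one] at hy
      exact sub_eq_zero.mp hy
    set x : ℕ → k := fun i => y ^ p * (Z i).eval y with hx
    have hx0 : x 0 = a 0 * y ^ p := by
      simp only [hx, hZ0, eval_C]
      ring
    have hxs : ∀ i, x (i + 1) = (x i) ^ p + a' (i + 1) * y ^ p := by
      intro i
      simp only [hx]
      rw [hZs, eval_add, eval_mul, eval_pow, eval_pow, eval_X, eval_C]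
      have : y ^ (p * (p - 1)) * y ^ p = (y ^ p) ^ p := by
        rw [← pow_add, ← pow_mul]
        congr 1
        have : p * (p - 1) + p = p * p := by
          have h2 : p - 1 + 1 = p := by omega
          calc p * (p - 1) + p = p * (p - 1 + 1) := by ring
            _ = p * p := by rw [h2]
        exact this
      rw [mul_pow]
      linear_combination (eval y (Z i)) ^ p * this
    have hxS : x s = y := by
      simp only [hx]
      have h2 : p - 1 + 1 = p := by omega
      calc y ^ p * (Z s).eval y = y * (y ^ (p - 1) * (Z s).eval y) := by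
            rw [← mul_assoc, ← pow_succ', h2]
        _ = y := by rw [hyZ, mul_one]
    set v := ∑ i : Fin (s + 1), x i • w i with hv
    refine ⟨v, ?_, ?_, 1, ?_⟩
    · apply Submodule.sum_mem
      intro i _
      exact Submodule.smul_mem _ _ (hwG i)
    · intro h0
      apply hminS
      rw [hv, Fin.sum_univ_castSucc] at h0
      simp only [Fin.val_last, Fin.val_castSucc] at h0
      rw [hxS] at h0
      have h1 : w s = -y⁻¹ • ∑ i : Fin s, x i • w i := by
        have h2 : y • w s = -∑ i : Fin s, x i • w i := by
          rw [add_comm] at h0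
          exact eq_neg_of_add_eq_zero_left h0
        rw [neg_smul, ← smul_neg, ← h2, smul_smul, inv_mul_cancel₀ hyne, one_smul]
      rw [h1]
      apply Submodule.smul_mem
      apply Submodule.sum_mem
      intro i _
      apply Submodule.smul_mem
      exact Submodule.subset_span ⟨i, rfl⟩
    · rw [one_smul, hv, hFsum]
      have h1 : ∀ i : Fin (s + 1), F (x i • w i) = (x i) ^ p • w (i + 1) := by
        intro i
        rw [hsm, hwsucc]
      rw [Finset.sum_congr rfl (fun i _ => h1 i), Fin.sum_univ_castSucc]
      simp only [Fin.val_last, Fin.val_castSucc]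
      rw [hxS, ha', smul_add, Finset.smul_sum, add_comm (y ^ p • a 0 • w 0), ← add_assoc,
        ← Finset.sum_add_distrib]
      rw [Fin.sum_univ_succ]
      simp only [Fin.val_zero, Fin.val_succ]
      rw [add_comm]
      congr 1
      · rw [hx0, smul_smul, mul_comm]
      · apply Finset.sum_congr rfl
        intro i _
        rw [hxs, ha's, smul_smul, ← add_smul, mul_comm (y ^ p)]

end Groth.Agent.Helper8.SemiLin
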