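import Mathlib
import Groth.Agent.Helper8.SemiLin

set_option autoImplicit false
universe u v

namespace Groth.Agent.Helper8.PthPow

open Polynomial

theorem main (k : Type u) [Field k] [IsAlgClosed k]
    (p : ℕ) [Fact p.Prime] [CharP k p] (V : Type v) [AddCommGroup V] [Module k V] [FiniteDimensional k V]
    (g : Submodule k (Module.End k V)) (hg : ∀ u ∈ g, u ^ p ∈ g) (hne : g ≠ ⊥) :
    ∃ u ∈ g, u ≠ 0 ∧ ∃ c : k, u ^ p = c • u := by
  classical
  obtain ⟨u, hu, hu0⟩ := (Submodule.ne_bot_iff g).mp hne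
  let φ : k[X] →ₐ[k] Module.End k V := aeval u
  let Q := k[X] ⧸ RingHom.ker (φ : k[X] →+* Module.End k V)
  let ā : Q →ₐ[k] Module.End k V := Ideal.kerLiftAlg φ
  have hinj : Function.Injective ā := Ideal.kerLiftAlg_injective φ
  haveI : Nontrivial (Module.End k V) := ⟨⟨u, 0, hu0⟩⟩
  haveI : Nontrivial Q := by
    refine ⟨⟨1, 0, ?_⟩⟩
    intro h
    have := congrArg ā h
    rw [map_one, map_zero] at this
    exact one_ne_zero this
  haveI : CharP Q p := charP_of_injective_algebraMap (algebraMap k Q).injective p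
  haveI : FiniteDimensional k Q := FiniteDimensional.of_injective ā.toLinearMap hinj
  let G : Submodule k Q := Submodule.comap ā.toLinearMap g
  let w₀ : Q := Ideal.Quotient.mk _ X
  have hw₀ : ā w₀ = u := by
    show Ideal.kerLiftAlg φ (Ideal.Quotient.mk _ X) = u
    rw [Ideal.kerLiftAlg_mk]
    exact aeval_X u
  obtain ⟨v, hvG, hv0, c, hc⟩ := SemiLin.main (k := k) p (W := Q) (fun q => q ^ p)
    (fun x y => add_pow_char x y p) (fun c x => smul_pow c x p) G
    (fun x hx => by
      show ā (x ^ p) ∈ g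
      rw [map_pow]
      exact hg _ hx) w₀ (by show ā w₀ ∈ g; rw [hw₀]; exact hu)
    (by
      intro h
      apply hu0
      rw [← hw₀, h, map_zero])
  refine ⟨ā v, hvG, ?_, c, ?_⟩
  · intro h
    apply hv0
    apply hinj
    rw [h, map_zero]
  · rw [← map_pow]
    have : v ^ p = c • v := hc
    rw [this, map_smul]

end Groth.Agent.Helper8.PthPow
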