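import Mathlib

set_option autoImplicit false
universe u

namespace Groth.Agent.Helper8.PullApart

variable {k : Type u} [Field k]

local notation "𝔸" => MvPolynomial (Fin 2) k
local notation "𝔹" => MvPolynomial (Fin 1) k

/-- the coordinate `x`. -/
noncomputable abbrev xx : MvPolynomial (Fin 2) k := MvPolynomial.X 0
/-- the coordinate `y`. -/
noncomputable abbrev yy : MvPolynomial (Fin 2) k := MvPolynomial.X 1

/-- `k[x,y] ≃ k[y][x]`. -/
noncomputable abbrev ee : MvPolynomial (Fin 2) k ≃ₐ[k] Polynomial (MvPolynomial (Fin 1) k) :=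
  MvPolynomial.finSuccEquiv k 1

lemma ee_x : (ee (k := k)) xx = Polynomial.X := MvPolynomial.finSuccEquiv_X_zero

lemma ee_y : (ee (k := k)) yy = Polynomial.C (MvPolynomial.X 0) := by
  have := MvPolynomial.finSuccEquiv_X_succ (R := k) (n := 1) (j := 0)
  simpa using this

lemma ee_C (c : k) : (ee (k := k)) (MvPolynomial.C c) = Polynomial.C (MvPolynomial.C c) := by
  simp [MvPolynomial.finSuccEquiv_apply]

lemma ee_symm_X : (ee (k := k)).symm Polynomial.X = xx := by
  rw [← ee_x, AlgEquiv.symm_apply_apply]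

lemma ee_symm_C_X : (ee (k := k)).symm (Polynomial.C (MvPolynomial.X 0)) = yy := by
  rw [← ee_y, AlgEquiv.symm_apply_apply]

lemma ee_symm_C_C (c : k) :
    (ee (k := k)).symm (Polynomial.C (MvPolynomial.C c)) = MvPolynomial.C c := by
  rw [← ee_C, AlgEquiv.symm_apply_apply]

/-- evaluation `k[y] → k` at `c`. -/
noncomputable abbrev evR (c : k) : MvPolynomial (Fin 1) k →+* k :=
  MvPolynomial.eval (fun _ : Fin 1 => c)

/-- `a(x,y) ↦ a(x,0)`. -/
noncomputable def rho : MvPolynomial (Fin 2) k →+* Polynomial k :=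
  (Polynomial.mapRingHom (evR (0 : k))).comp ((ee (k := k)) : 𝔸 →+* Polynomial 𝔹)

/-- `r(x) ↦ r(x)`. -/
noncomputable def sigma : Polynomial k →+* MvPolynomial (Fin 2) k :=
  Polynomial.eval₂RingHom MvPolynomial.C xx

lemma rho_apply (a : 𝔸) : rho a = Polynomial.map (evR (0 : k)) (ee a) := rfl

@[simp] lemma rho_x : rho (xx : 𝔸) = Polynomial.X := by
  rw [rho_apply, ee_x]; simp

@[simp] lemma rho_y : rho (yy : 𝔸) = 0 := by
  rw [rho_apply, ee_y]; simp

@[simp] lemma rho_C (c : k) : rho (MvPolynomial.C c : 𝔸) = Polynomial.C c := by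
  rw [rho_apply, ee_C]; simp

@[simp] lemma sigma_X : sigma (Polynomial.X : Polynomial k) = xx := by
  simp [sigma]

@[simp] lemma sigma_C (c : k) : sigma (Polynomial.C c : Polynomial k) = MvPolynomial.C c := by
  simp [sigma]

lemma rho_sigma (r : Polynomial k) : rho (sigma r) = r := by
  have : (rho.comp sigma : Polynomial k →+* Polynomial k) = RingHom.id _ := by
    apply Polynomial.ringHom_ext
    · intro a; simp
    · simp
  exact RingHom.congr_fun this r

lemma fin_two_cases (i : Fin 2) : i = 0 ∨ i = 1 := by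
  fin_cases i <;> simp

/-- `a ≡ a(x,0)` modulo `y`. -/
lemma sub_sigma_rho_mem (a : 𝔸) : a - sigma (rho a) ∈ Ideal.span {(yy : 𝔸)} := by
  induction a using MvPolynomial.induction_on with
  | C c => simp
  | add p q hp hq =>
    have : p + q - sigma (rho (p + q)) = (p - sigma (rho p)) + (q - sigma (rho q)) := by
      rw [map_add, map_add]; ring
    rw [this]; exact Ideal.add_mem _ hp hq
  | mul_X p i hp =>
    rcases fin_two_cases i with rfl | rfl
    · have : p * MvPolynomial.X 0 - sigma (rho (p * MvPolynomial.X 0))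
          = (p - sigma (rho p)) * MvPolynomial.X 0 := by
        rw [map_mul, map_mul]
        have h1 : rho (MvPolynomial.X 0 : 𝔸) = Polynomial.X := rho_x
        rw [h1, sigma_X]; ring
      rw [this]; exact Ideal.mul_mem_right _ _ hp
    · have : p * MvPolynomial.X 1 - sigma (rho (p * MvPolynomial.X 1))
          = p * MvPolynomial.X 1 := by
        rw [map_mul]
        have h1 : rho (MvPolynomial.X 1 : 𝔸) = 0 := rho_y
        rw [h1, mul_zero, map_zero, sub_zero]
      rw [this]
      exact Ideal.mul_mem_left _ _ (Ideal.subset_span rfl)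

/-- `a ≡ a(p)` modulo the maximal ideal of the point `p`. -/
lemma sub_C_eval_mem (p : Fin 2 → k) (a : 𝔸) :
    a - MvPolynomial.C (MvPolynomial.eval p a) ∈
      Ideal.span (Set.range (fun i : Fin 2 => (MvPolynomial.X i - MvPolynomial.C (p i) : 𝔸))) := by
  induction a using MvPolynomial.induction_on with
  | C c => simp
  | add f g hf hg =>
    have : f + g - MvPolynomial.C (MvPolynomial.eval p (f + g))
        = (f - MvPolynomial.C (MvPolynomial.eval p f)) + (g - MvPolynomial.C (MvPolynomial.eval p g)) := by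
      rw [map_add, map_add]; ring
    rw [this]; exact Ideal.add_mem _ hf hg
  | mul_X f i hf =>
    have : f * MvPolynomial.X i - MvPolynomial.C (MvPolynomial.eval p (f * MvPolynomial.X i))
        = (f - MvPolynomial.C (MvPolynomial.eval p f)) * MvPolynomial.X i
          + MvPolynomial.C (MvPolynomial.eval p f) * (MvPolynomial.X i - MvPolynomial.C (p i)) := by
      rw [map_mul, MvPolynomial.eval_X, map_mul]; ring
    rw [this]
    exact Ideal.add_mem _ (Ideal.mul_mem_right _ _ hf)
      (Ideal.mul_mem_left _ _ (Ideal.subset_span ⟨i, rfl⟩))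

/-- the maximal ideal of the origin. -/
lemma span_origin :
    Ideal.span (Set.range (fun i : Fin 2 => (MvPolynomial.X i - MvPolynomial.C ((0 : Fin 2 → k) i) : 𝔸)))
      = Ideal.span {(MvPolynomial.X 0 : 𝔸), MvPolynomial.X 1} := by
  congr 1
  ext a
  constructor
  · rintro ⟨i, rfl⟩
    rcases fin_two_cases i with rfl | rfl <;> simp
  · rintro (rfl | rfl)
    · exact ⟨0, by simp⟩
    · exact ⟨1, by simp⟩

lemma eval_zero_of_mem_origin {a : 𝔸}
    (ha : a ∈ Ideal.span {(MvPolynomial.X 0 : 𝔸), MvPolynomial.X 1}) :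
    MvPolynomial.eval (0 : Fin 2 → k) a = 0 := by
  have : Ideal.span {(MvPolynomial.X 0 : 𝔸), MvPolynomial.X 1}
      ≤ RingHom.ker (MvPolynomial.eval (0 : Fin 2 → k)) := by
    rw [Ideal.span_le]
    rintro b (rfl | rfl) <;> simp [RingHom.mem_ker]
  exact this ha

lemma mem_origin_iff {a : 𝔸} :
    a ∈ Ideal.span {(MvPolynomial.X 0 : 𝔸), MvPolynomial.X 1} ↔
      MvPolynomial.eval (0 : Fin 2 → k) a = 0 := by
  refine ⟨eval_zero_of_mem_origin, fun h => ?_⟩
  have := sub_C_eval_mem (0 : Fin 2 → k) a
  rw [h, map_zero, sub_zero, span_origin] at this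
  exact this

/-- regularity of a nonzero constant modulo a monic polynomial, over a domain. -/
lemma dvd_of_dvd_C_mul {S : Type*} [CommRing S] [IsDomain S] {F g : Polynomial S}
    (hF : F.Monic) {r : S} (hr : r ≠ 0) (h : F ∣ Polynomial.C r * g) : F ∣ g := by
  rw [← Polynomial.modByMonic_eq_zero_iff_dvd hF] at h ⊢
  rw [← Polynomial.smul_eq_C_mul, Polynomial.smul_modByMonic] at h
  rcases smul_eq_zero.mp h with h | h
  · exact absurd h hr
  · exact h

/-- membership in `I[t]` via reduction of coefficients. -/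
lemma mem_map_C_iff_map_eq_zero {S : Type*} [CommRing S] (I : Ideal S) (f : Polynomial S) :
    f ∈ I.map (Polynomial.C : S →+* Polynomial S) ↔ Polynomial.map (Ideal.Quotient.mk I) f = 0 := by
  have := Polynomial.ker_mapRingHom (Ideal.Quotient.mk I)
  rw [Ideal.mk_ker] at this
  rw [← this, RingHom.mem_ker]; rfl

/-- `y - t` is a nonzerodivisor modulo `I[t]`. -/
lemma mem_of_sub_mul_mem {S : Type*} [CommRing S] (I : Ideal S) (s : S) (u : Polynomial S)
    (h : (Polynomial.C s - Polynomial.X) * u ∈ I.map (Polynomial.C : S →+* Polynomial S)) :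
    u ∈ I.map (Polynomial.C : S →+* Polynomial S) := by
  rw [mem_map_C_iff_map_eq_zero] at h ⊢
  rw [Polynomial.map_mul, Polynomial.map_sub, Polynomial.map_C, Polynomial.map_X] at h
  have hm : (Polynomial.X - Polynomial.C (Ideal.Quotient.mk I s)).Monic := Polynomial.monic_X_sub_C _
  have h2 : (Polynomial.X - Polynomial.C (Ideal.Quotient.mk I s)) * Polynomial.map (Ideal.Quotient.mk I) u = 0 := by
    have : (Polynomial.X - Polynomial.C (Ideal.Quotient.mk I s)) * Polynomial.map (Ideal.Quotient.mk I) u
        = - ((Polynomial.C (Ideal.Quotient.mk I s) - Polynomial.X) * Polynomial.map (Ideal.Quotient.mk I) u) := by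
      ring
    rw [this, h, neg_zero]
  exact (hm.mul_right_eq_zero_iff).mp h2

/-- a monic polynomial with constant coefficients is a nonzerodivisor modulo `I[t]`. -/
lemma mem_of_monic_mul_mem {S : Type*} [CommRing S] [Algebra k S] (I : Ideal S) (p : Polynomial k)
    (hp : p.Monic) (u : Polynomial S)
    (h : Polynomial.map (algebraMap k S) p * u ∈ I.map (Polynomial.C : S →+* Polynomial S)) :
    u ∈ I.map (Polynomial.C : S →+* Polynomial S) := by
  rw [mem_map_C_iff_map_eq_zero] at h ⊢
  rw [Polynomial.map_mul, Polynomial.map_map] at h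
  have hm : (Polynomial.map ((Ideal.Quotient.mk I).comp (algebraMap k S)) p).Monic := hp.map _
  exact (hm.mul_right_eq_zero_iff).mp h

end Groth.Agent.Helper8.PullApart
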