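import Groth.Agent.Helper8.PullApartA

set_option autoImplicit false
universe u

namespace Groth.Agent.Helper8.PullApart

variable {k : Type u} [Field k]

local notation "𝔸" => MvPolynomial (Fin 2) k
local notation "𝔹" => MvPolynomial (Fin 1) k
local notation "ℙ" => Polynomial (MvPolynomial (Fin 2) k)

/-- the structure map `k[t] → k[x,y][t]`. -/
noncomputable abbrev phi : Polynomial k →+* Polynomial (MvPolynomial (Fin 2) k) :=
  Polynomial.mapRingHom (algebraMap k (MvPolynomial (Fin 2) k))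

/-- the colon ideal `(𝔞 : y)`. -/
def colonY (𝔞 : Ideal 𝔸) : Ideal 𝔸 where
  carrier := {b | yy * b ∈ 𝔞}
  add_mem' := by
    intro a b ha hb
    simp only [Set.mem_setOf_eq] at *
    rw [mul_add]; exact 𝔞.add_mem ha hb
  zero_mem' := by simp
  smul_mem' := by
    intro c b hb
    simp only [Set.mem_setOf_eq, smul_eq_mul] at *
    rw [mul_left_comm]; exact 𝔞.mul_mem_left _ hb

lemma mem_colonY {𝔞 : Ideal 𝔸} {b : 𝔸} : b ∈ colonY 𝔞 ↔ yy * b ∈ 𝔞 := Iff.rfl

lemma le_colonY (𝔞 : Ideal 𝔸) : 𝔞 ≤ colonY 𝔞 := fun _ ha => 𝔞.mul_mem_left _ ha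

/-- the family `(y - t)·𝔟 + (F)`. -/
noncomputable def fam (𝔟 : Ideal 𝔸) (F : 𝔸) : Ideal ℙ :=
  Ideal.span {Polynomial.C yy - Polynomial.X} * 𝔟.map Polynomial.C ⊔ Ideal.span {Polynomial.C F}

lemma mem_fam {𝔟 : Ideal 𝔸} {F : 𝔸} {h : ℙ} :
    h ∈ fam 𝔟 F ↔ ∃ b ∈ 𝔟.map (Polynomial.C : 𝔸 →+* ℙ), ∃ a : ℙ,
      h = (Polynomial.C yy - Polynomial.X) * b + Polynomial.C F * a := by
  unfold fam
  rw [Submodule.mem_sup]
  constructor
  · rintro ⟨u, hu, v, hv, rfl⟩
    rw [Ideal.mem_span_singleton_mul] at hu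
    obtain ⟨b, hb, rfl⟩ := hu
    rw [Ideal.mem_span_singleton'] at hv
    obtain ⟨a, rfl⟩ := hv
    exact ⟨b, hb, a, by ring⟩
  · rintro ⟨b, hb, a, rfl⟩
    exact ⟨_, Ideal.mem_span_singleton_mul.mpr ⟨b, hb, rfl⟩, _,
      Ideal.mem_span_singleton'.mpr ⟨a, mul_comm _ _⟩, rfl⟩

lemma map_eval_fam (𝔟 : Ideal 𝔸) (F c' : 𝔸) :
    (fam 𝔟 F).map (Polynomial.evalRingHom c') = Ideal.span {yy - c'} * 𝔟 ⊔ Ideal.span {F} := by
  unfold fam
  rw [Ideal.map_sup, Ideal.map_mul, Ideal.map_span, Ideal.map_span, Ideal.map_map]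
  have h1 : (Polynomial.evalRingHom c').comp (Polynomial.C : 𝔸 →+* ℙ) = RingHom.id _ :=
    RingHom.ext fun a => by simp
  rw [h1, Ideal.map_id]
  simp [Set.image_singleton]

lemma ee_sigma (r : Polynomial k) :
    ee (sigma r) = Polynomial.map (MvPolynomial.C : k →+* 𝔹) r := by
  have : (((ee (k := k)) : 𝔸 →+* Polynomial 𝔹).comp sigma)
      = Polynomial.mapRingHom (MvPolynomial.C : k →+* 𝔹) := by
    apply Polynomial.ringHom_ext
    · intro a
      simp only [RingHom.comp_apply, sigma_C, Polynomial.coe_mapRingHom, Polynomial.map_C]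
      exact ee_C a
    · simp only [RingHom.comp_apply, sigma_X, Polynomial.coe_mapRingHom, Polynomial.map_X]
      exact ee_x
  exact RingHom.congr_fun this r

lemma ev_phi (p : Polynomial k) :
    ee (Polynomial.eval (yy : 𝔸) (phi p))
      = Polynomial.C (Polynomial.eval₂ (MvPolynomial.C : k →+* 𝔹) (MvPolynomial.X 0) p) := by
  have : ((((ee (k := k)) : 𝔸 →+* Polynomial 𝔹).comp (Polynomial.evalRingHom (yy : 𝔸))).comp phi)
      = (Polynomial.C : 𝔹 →+* Polynomial 𝔹).comp
          (Polynomial.eval₂RingHom (MvPolynomial.C : k →+* 𝔹) (MvPolynomial.X 0)) := by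
    apply Polynomial.ringHom_ext
    · intro a
      simp only [RingHom.comp_apply, Polynomial.coe_mapRingHom, Polynomial.map_C,
        Polynomial.coe_evalRingHom, Polynomial.eval_C, Polynomial.coe_eval₂RingHom,
        Polynomial.eval₂_C, MvPolynomial.algebraMap_eq]
      exact ee_C a
    · simp only [RingHom.comp_apply, Polynomial.coe_mapRingHom, Polynomial.map_X,
        Polynomial.coe_evalRingHom, Polynomial.eval_X, Polynomial.coe_eval₂RingHom,
        Polynomial.eval₂_X]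
      exact ee_y
  exact RingHom.congr_fun this p

lemma eval₂_X0_ne_zero {p : Polynomial k} (hp : p ≠ 0) :
    Polynomial.eval₂ (MvPolynomial.C : k →+* 𝔹) (MvPolynomial.X 0) p ≠ 0 := by
  intro h
  apply hp
  have key : ((MvPolynomial.eval₂Hom (Polynomial.C : k →+* Polynomial k)
      (fun _ : Fin 1 => Polynomial.X)).comp
      (Polynomial.eval₂RingHom (MvPolynomial.C : k →+* 𝔹) (MvPolynomial.X 0))) = RingHom.id _ := by
    apply Polynomial.ringHom_ext
    · intro a; simp
    · simp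
  have := RingHom.congr_fun key p
  simp only [RingHom.comp_apply, Polynomial.coe_eval₂RingHom, RingHom.id_apply] at this
  rw [h, map_zero] at this
  exact this.symm

/-- torsion-freeness of the family over `k[t]`. -/
lemma mem_fam_of_mul_mem {𝔟 : Ideal 𝔸} {F : 𝔸} (hF𝔟 : F ∈ 𝔟) (hmon : (ee F).Monic)
    {p : Polynomial k} (hp : p ≠ 0) {h : ℙ} (hh : phi p * h ∈ fam 𝔟 F) : h ∈ fam 𝔟 F := by
  wlog hpm : p.Monic generalizing p
  · have hp' : (p * Polynomial.C p.leadingCoeff⁻¹).Monic := Polynomial.monic_mul_leadingCoeff_inv hp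
    refine this hp'.ne_zero ?_ hp'
    rw [map_mul, mul_right_comm]
    exact Ideal.mul_mem_right _ _ hh
  obtain ⟨b, hb, a, hab⟩ := mem_fam.mp hh
  have h1 : Polynomial.eval yy (phi p) * Polynomial.eval yy h = F * Polynomial.eval yy a := by
    have := congrArg (Polynomial.eval (yy : 𝔸)) hab
    simpa using this
  have h2 : F ∣ Polynomial.eval yy h := by
    have h3 : ee F ∣ Polynomial.C (Polynomial.eval₂ (MvPolynomial.C : k →+* 𝔹) (MvPolynomial.X 0) p)
        * ee (Polynomial.eval yy h) := by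
      rw [← ev_phi, ← map_mul, h1, map_mul]
      exact Dvd.intro _ rfl
    obtain ⟨w, hw⟩ := dvd_of_dvd_C_mul hmon (eval₂_X0_ne_zero hp) h3
    refine ⟨ee.symm w, ?_⟩
    apply ee.injective
    rw [map_mul, AlgEquiv.apply_symm_apply, hw]
  obtain ⟨a₁, ha₁⟩ := h2
  have h5 : h - Polynomial.C (F * a₁) ∈ Ideal.span {Polynomial.X - Polynomial.C (yy : 𝔸)} := by
    rw [← Polynomial.ker_evalRingHom, RingHom.mem_ker]
    simp [ha₁]
  obtain ⟨h₀, hh₀⟩ := Ideal.mem_span_singleton'.mp h5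
  have h6 : h = Polynomial.C F * Polynomial.C a₁ + (Polynomial.C yy - Polynomial.X) * (-h₀) := by
    rw [map_mul] at hh₀
    linear_combination (-1 : ℙ) * hh₀
  have h7 : (Polynomial.C yy - Polynomial.X) * (phi p * (-h₀) - b)
      ∈ (Ideal.span {F}).map (Polynomial.C : 𝔸 →+* ℙ) := by
    rw [Ideal.map_span, Set.image_singleton, Ideal.mem_span_singleton']
    refine ⟨a - phi p * Polynomial.C a₁, ?_⟩
    have := hab
    rw [h6] at this
    linear_combination (-1 : ℙ) * this
  have h8 := mem_of_sub_mul_mem _ _ _ h7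
  have h9 : phi p * (-h₀) ∈ 𝔟.map (Polynomial.C : 𝔸 →+* ℙ) := by
    have hle : (Ideal.span {F}).map (Polynomial.C : 𝔸 →+* ℙ) ≤ 𝔟.map Polynomial.C :=
      Ideal.map_mono ((Ideal.span_singleton_le_iff_mem _).mpr hF𝔟)
    have := Ideal.add_mem _ (hle h8) hb
    simpa using this
  have h10 := mem_of_monic_mul_mem 𝔟 p hpm (-h₀) h9
  rw [h6]
  exact mem_fam.mpr ⟨-h₀, h10, Polynomial.C a₁, by ring⟩

/-- flatness, for an abstract model `Q` of the quotient. -/
lemma flat_general {𝔟 : Ideal 𝔸} {F : 𝔸} (hF𝔟 : F ∈ 𝔟) (hmon : (ee F).Monic)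
    {Q : Type u} [iQ : CommRing Q] [aQ : Algebra (Polynomial k) Q] (π : ℙ →+* Q)
    (hπ : Function.Surjective π) (hker : RingHom.ker π = fam 𝔟 F)
    (halg : ∀ p : Polynomial k, algebraMap (Polynomial k) Q p = π (phi p)) :
    Module.Flat (Polynomial k) Q := by
  have hz : ∀ h : ℙ, π h = 0 ↔ h ∈ fam 𝔟 F := fun h => by rw [← hker, RingHom.mem_ker]
  rw [Module.Flat.flat_iff_torsion_eq_bot_of_isBezout, Submodule.eq_bot_iff]
  intro m hm
  rw [Submodule.mem_torsion_iff] at hm
  obtain ⟨⟨p, hp⟩, hpm⟩ := hm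
  obtain ⟨h, rfl⟩ := hπ m
  have hp0 : p ≠ 0 := nonZeroDivisors.ne_zero hp
  have : phi p * h ∈ fam 𝔟 F := by
    rw [← hz, map_mul, ← halg, ← Algebra.smul_def]
    exact hpm
  rw [hz]
  exact mem_fam_of_mul_mem hF𝔟 hmon hp0 this

/-- finiteness, for an abstract model `Q` of the quotient. -/
lemma finite_general {𝔟 : Ideal 𝔸} {F : 𝔸} (hF : (ee F).Monic) {N : ℕ} (hN : yy ^ N ∈ 𝔟)
    {Q : Type u} [iQ : CommRing Q] [aQ : Algebra (Polynomial k) Q] (mk : ℙ →+* Q)
    (hπ : Function.Surjective mk) (hker : RingHom.ker mk = fam 𝔟 F)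
    (halg : ∀ p : Polynomial k, algebraMap (Polynomial k) Q p = mk (phi p)) :
    Module.Finite (Polynomial k) Q := by
  have hz : ∀ h : ℙ, mk h = 0 ↔ h ∈ fam 𝔟 F := fun h => by rw [← hker, RingHom.mem_ker]
  let x' : Q := mk (Polynomial.C xx)
  let y' : Q := mk (Polynomial.C yy)
  have hphiX : phi (Polynomial.X : Polynomial k) = (Polynomial.X : ℙ) := by simp
  have hphiC : ∀ c : k, phi (Polynomial.C c : Polynomial k) = Polynomial.C (MvPolynomial.C c) := by
    intro c; simp
  -- `y'` is integral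
  have hy_int : IsIntegral (Polynomial k) y' := by
    refine ⟨(Polynomial.X - Polynomial.C Polynomial.X) * Polynomial.X ^ N,
      (Polynomial.monic_X_sub_C _).mul (Polynomial.monic_X_pow N), ?_⟩
    rw [Polynomial.eval₂_mul, Polynomial.eval₂_sub, Polynomial.eval₂_X, Polynomial.eval₂_C,
      Polynomial.eval₂_pow, Polynomial.eval₂_X, halg, hphiX]
    show (mk (Polynomial.C yy) - mk Polynomial.X) * mk (Polynomial.C yy) ^ N = 0
    rw [← map_pow, ← map_sub, ← map_mul, hz]
    refine mem_fam.mpr ⟨Polynomial.C (yy ^ N), Ideal.mem_map_of_mem _ hN, 0, ?_⟩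
    simp
  let IC := integralClosure (Polynomial k) Q
  have hyIC : y' ∈ IC := hy_int
  let Θ : Polynomial 𝔹 →+* Q :=
    mk.comp ((Polynomial.C : 𝔸 →+* ℙ).comp
      (((ee (k := k)).symm : Polynomial 𝔹 ≃ₐ[k] 𝔸) : Polynomial 𝔹 →+* 𝔸))
  let θ : 𝔹 →+* Q := Θ.comp Polynomial.C
  have hΘ_apply : ∀ g : Polynomial 𝔹, Θ g = mk (Polynomial.C ((ee (k := k)).symm g)) :=
    fun g => rfl
  have hθ_apply : ∀ r : 𝔹, θ r = mk (Polynomial.C ((ee (k := k)).symm (Polynomial.C r))) :=
    fun r => rfl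
  have hθIC : ∀ r : 𝔹, θ r ∈ IC := by
    intro r
    induction r using MvPolynomial.induction_on with
    | C c =>
      have : θ (MvPolynomial.C c) = algebraMap (Polynomial k) _ (Polynomial.C c) := by
        rw [hθ_apply, halg, hphiC, ee_symm_C_C]
      rw [this]; exact Subalgebra.algebraMap_mem _ _
    | add p q hp hq => rw [map_add]; exact Subalgebra.add_mem _ hp hq
    | mul_X p i hp =>
      rw [map_mul]
      refine Subalgebra.mul_mem _ hp ?_
      have hi : i = 0 := Subsingleton.elim _ _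
      subst hi
      have : θ (MvPolynomial.X 0) = y' := by
        rw [hθ_apply, ee_symm_C_X]
      rw [this]; exact hyIC
  have hΘ : ∀ g : Polynomial 𝔹, Polynomial.eval₂ θ x' g = Θ g := by
    intro g
    have : (Polynomial.eval₂RingHom θ x') = Θ := by
      apply Polynomial.ringHom_ext
      · intro a
        simp only [Polynomial.coe_eval₂RingHom, Polynomial.eval₂_C]
        rfl
      · simp only [Polynomial.coe_eval₂RingHom, Polynomial.eval₂_X]
        rw [hΘ_apply, ee_symm_X]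
    exact RingHom.congr_fun this g
  have hx_root : Polynomial.eval₂ θ x' (ee F) = 0 := by
    rw [hΘ, hΘ_apply, AlgEquiv.symm_apply_apply, hz]
    exact mem_fam.mpr ⟨0, Ideal.zero_mem _, 1, by simp⟩
  have hx_int : IsIntegral (Polynomial k) x' := by
    let θ' : 𝔹 →+* IC := θ.codRestrict IC hθIC
    have h1 : IsIntegral IC x' := by
      refine ⟨(ee F).map θ', hF.map _, ?_⟩
      rw [Polynomial.eval₂_map]
      have : (algebraMap IC Q).comp θ' = θ := RingHom.ext fun r => rfl
      rw [this]; exact hx_root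
    exact isIntegral_trans x' h1
  have hadj : Algebra.adjoin (Polynomial k) ({x', y'} : Set Q) = ⊤ := by
    rw [eq_top_iff]
    rintro m -
    obtain ⟨h, rfl⟩ := hπ m
    have hA : ∀ a : 𝔸, mk (Polynomial.C a) ∈
        Algebra.adjoin (Polynomial k) ({x', y'} : Set Q) := by
      intro a
      induction a using MvPolynomial.induction_on with
      | C c =>
        have : mk (Polynomial.C (MvPolynomial.C c)) = algebraMap (Polynomial k) _ (Polynomial.C c) := by
          rw [halg, hphiC]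
        rw [this]; exact Subalgebra.algebraMap_mem _ _
      | add p q hp hq => rw [map_add, map_add]; exact Subalgebra.add_mem _ hp hq
      | mul_X p i hp =>
        rw [map_mul, map_mul]
        refine Subalgebra.mul_mem _ hp ?_
        rcases fin_two_cases i with rfl | rfl
        · exact Algebra.subset_adjoin (Set.mem_insert _ _)
        · exact Algebra.subset_adjoin (Set.mem_insert_of_mem _ rfl)
    have hX : mk (Polynomial.X : ℙ) ∈
        Algebra.adjoin (Polynomial k) ({x', y'} : Set Q) := by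
      have : mk (Polynomial.X : ℙ) = algebraMap (Polynomial k) _ Polynomial.X := by
        rw [halg, hphiX]
      rw [this]; exact Subalgebra.algebraMap_mem _ _
    induction h using Polynomial.induction_on' with
    | add p q hp hq =>
      rw [map_add]; exact Subalgebra.add_mem _ hp hq
    | monomial n a =>
      rw [← Polynomial.C_mul_X_pow_eq_monomial, map_mul, map_pow]
      exact Subalgebra.mul_mem _ (hA a) (Subalgebra.pow_mem _ hX n)
  have hfg := fg_adjoin_of_finite (R := Polynomial k) (s := ({x', y'} : Set Q))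
    (Set.toFinite _) (by
      rintro z (rfl | rfl)
      · exact hx_int
      · exact hy_int)
  rw [hadj, Algebra.top_toSubmodule] at hfg
  exact ⟨hfg⟩

lemma flat_fam {𝔟 : Ideal 𝔸} {F : 𝔸} (hF𝔟 : F ∈ 𝔟) (hmon : (ee F).Monic) :
    RingHom.Flat (R := Polynomial k) (S := ℙ ⧸ fam 𝔟 F)
      ((Ideal.Quotient.mk (fam 𝔟 F)).comp (phi (k := k))) := by
  unfold RingHom.Flat
  exact flat_general (Q := ℙ ⧸ fam 𝔟 F)
    (aQ := RingHom.toAlgebra (R := Polynomial k) (S := ℙ ⧸ fam 𝔟 F)
      ((Ideal.Quotient.mk (fam 𝔟 F)).comp (phi (k := k))))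
    hF𝔟 hmon (Ideal.Quotient.mk (fam 𝔟 F)) Ideal.Quotient.mk_surjective Ideal.mk_ker (fun _ => rfl)

lemma finite_fam {𝔟 : Ideal 𝔸} {F : 𝔸} (hF : (ee F).Monic) {N : ℕ} (hN : yy ^ N ∈ 𝔟) :
    RingHom.Finite (A := Polynomial k) (B := ℙ ⧸ fam 𝔟 F)
      ((Ideal.Quotient.mk (fam 𝔟 F)).comp (phi (k := k))) := by
  unfold RingHom.Finite
  exact finite_general (Q := ℙ ⧸ fam 𝔟 F)
    (aQ := RingHom.toAlgebra (R := Polynomial k) (S := ℙ ⧸ fam 𝔟 F)
      ((Ideal.Quotient.mk (fam 𝔟 F)).comp (phi (k := k))))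
    hF hN (Ideal.Quotient.mk (fam 𝔟 F)) Ideal.Quotient.mk_surjective Ideal.mk_ker (fun _ => rfl)

end Groth.Agent.Helper8.PullApart
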