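import Groth.Agent.Helper8.PullApartB

set_option autoImplicit false
universe u

namespace Groth.Agent.Helper8.PullApart

variable {k : Type u} [Field k]

local notation "𝔸" => MvPolynomial (Fin 2) k
local notation "𝔹" => MvPolynomial (Fin 1) k
local notation "ℙ" => Polynomial (MvPolynomial (Fin 2) k)

/-- existence of the monic generator `F` and the decomposition `𝔞 = y·(𝔞 : y) + (F)`. -/
lemma exists_F {𝔞 : Ideal 𝔸} {N : ℕ} (hyN : yy ^ N ∈ 𝔞) {N' : ℕ} (hxN : xx ^ N' ∈ 𝔞) :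
    ∃ F : 𝔸, F ∈ 𝔞 ∧ (ee F).Monic ∧ 𝔞 ≤ Ideal.span {yy} * colonY 𝔞 ⊔ Ideal.span {F} := by
  classical
  set abar : Ideal (Polynomial k) := 𝔞.map rho with habar
  have hsurj : Function.Surjective (rho (k := k)) := fun r => ⟨sigma r, rho_sigma r⟩
  have hmem : ∀ {r : Polynomial k}, r ∈ abar ↔ ∃ α ∈ 𝔞, rho α = r := by
    intro r; rw [habar, Ideal.mem_map_iff_of_surjective _ hsurj]
  have hex : ∃ n, ∃ g ∈ abar, g.Monic ∧ g.natDegree = n := by
    refine ⟨N', Polynomial.X ^ N', hmem.mpr ⟨xx ^ N', hxN, ?_⟩, Polynomial.monic_X_pow _,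
      Polynomial.natDegree_X_pow _⟩
    rw [map_pow, rho_x]
  set q := Nat.find hex with hq
  obtain ⟨g, hg_mem, hg_mon, hg_deg⟩ := Nat.find_spec hex
  have hmin : ∀ r ∈ abar, r.degree < (q : WithBot ℕ) → r = 0 := by
    intro r hr hdeg
    by_contra hr0
    have hmon := Polynomial.monic_mul_leadingCoeff_inv hr0
    have hnd : (r * Polynomial.C r.leadingCoeff⁻¹).natDegree = r.natDegree :=
      Polynomial.natDegree_mul_leadingCoeff_inv _ hr0
    have hlt : r.natDegree < q := (Polynomial.natDegree_lt_iff_degree_lt hr0).mpr hdeg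
    rw [← hnd] at hlt
    exact Nat.find_min hex hlt ⟨_, Ideal.mul_mem_right _ _ hr, hmon, rfl⟩
  have hgdeg : g.degree = (q : WithBot ℕ) := by
    rw [Polynomial.degree_eq_natDegree hg_mon.ne_zero, hg_deg]
  -- one step of Nakayama
  have hstep : ∀ a : 𝔸, ∃ l α a', (ee l).degree < (q : WithBot ℕ) ∧ α ∈ 𝔞 ∧
      a = l + α + yy * a' := by
    intro a
    obtain ⟨α₀, hα₀, hα₀g⟩ := hmem.mp hg_mem
    obtain ⟨a₁, ha₁⟩ := Ideal.mem_span_singleton'.mp (sub_sigma_rho_mem a)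
    obtain ⟨α₁, hα₁⟩ := Ideal.mem_span_singleton'.mp (sub_sigma_rho_mem α₀)
    rw [hα₀g] at hα₁
    have hdiv : rho a %ₘ g + g * (rho a /ₘ g) = rho a := Polynomial.modByMonic_add_div _ g
    have e3 : sigma (rho a) = sigma (rho a %ₘ g) + sigma g * sigma (rho a /ₘ g) := by
      rw [← map_mul, ← map_add, hdiv]
    refine ⟨sigma (rho a %ₘ g), α₀ * sigma (rho a /ₘ g), a₁ - α₁ * sigma (rho a /ₘ g), ?_,
      Ideal.mul_mem_right _ _ hα₀, ?_⟩
    · rw [ee_sigma, Polynomial.degree_map_eq_of_injective (MvPolynomial.C_injective _ _), ← hgdeg]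
      exact Polynomial.degree_modByMonic_lt _ hg_mon
    · linear_combination e3 - ha₁ + sigma (rho a /ₘ g) * hα₁
  have hLy : ∀ (l : 𝔸) (n : ℕ), (ee l).degree < (q : WithBot ℕ) →
      (ee (yy ^ n * l)).degree < (q : WithBot ℕ) := by
    intro l n hl
    rw [map_mul, map_pow, ee_y, ← Polynomial.C_pow]
    refine lt_of_le_of_lt ((Polynomial.degree_mul_le _ _).trans ?_) hl
    calc (Polynomial.C ((MvPolynomial.X 0 : 𝔹) ^ n)).degree + (ee l).degree
        ≤ 0 + (ee l).degree := by gcongr; exact Polynomial.degree_C_le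
      _ = (ee l).degree := zero_add _
  have hind : ∀ (n : ℕ) (a : 𝔸), ∃ l α a', (ee l).degree < (q : WithBot ℕ) ∧ α ∈ 𝔞 ∧
      a = l + α + yy ^ n * a' := by
    intro n
    induction n with
    | zero =>
      intro a
      exact ⟨0, 0, a, by simp, 𝔞.zero_mem, by simp⟩
    | succ n ih =>
      intro a
      obtain ⟨l, α, a', hl, hα, rfl⟩ := ih a
      obtain ⟨l', α', a'', hl', hα', rfl⟩ := hstep a'
      refine ⟨l + yy ^ n * l', α + yy ^ n * α', a'', ?_,
        𝔞.add_mem hα (𝔞.mul_mem_left _ hα'), by ring⟩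
      rw [map_add]
      exact lt_of_le_of_lt (Polynomial.degree_add_le _ _) (max_lt hl (hLy l' n hl'))
  obtain ⟨l, α, a', hl, hα, hxq⟩ := hind N (xx ^ q)
  have hFmem : xx ^ q - l ∈ 𝔞 := by
    have : xx ^ q - l = α + yy ^ N * a' := by rw [hxq]; ring
    rw [this]; exact 𝔞.add_mem hα (𝔞.mul_mem_right _ hyN)
  have hFmon : (ee (xx ^ q - l)).Monic := by
    rw [map_sub, map_pow, ee_x]; exact Polynomial.monic_X_pow_sub hl
  refine ⟨xx ^ q - l, hFmem, hFmon, ?_⟩
  set F := xx ^ q - l with hFdef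
  have hρF : rho F = Polynomial.X ^ q - Polynomial.map (evR 0) (ee l) := by
    rw [rho_apply, hFdef, map_sub, map_pow, ee_x, Polynomial.map_sub, Polynomial.map_pow,
      Polynomial.map_X]
  have hdl : (Polynomial.map (evR (0 : k)) (ee l)).degree < (q : WithBot ℕ) :=
    lt_of_le_of_lt Polynomial.degree_map_le hl
  have hρFmon : (rho F).Monic := by rw [hρF]; exact Polynomial.monic_X_pow_sub hdl
  have hρFdeg : (rho F).degree = (q : WithBot ℕ) := by
    rw [hρF, Polynomial.degree_sub_eq_left_of_degree_lt (by rw [Polynomial.degree_X_pow]; exact hdl),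
      Polynomial.degree_X_pow]
  intro a ha
  have hdvd : rho F ∣ rho a := by
    rw [← Polynomial.modByMonic_eq_zero_iff_dvd hρFmon]
    apply hmin
    · have h1 : rho a %ₘ rho F = rho a - rho F * (rho a /ₘ rho F) := by
        have := Polynomial.modByMonic_add_div (rho a) (rho F)
        linear_combination this
      rw [h1]
      exact Ideal.sub_mem _ (hmem.mpr ⟨a, ha, rfl⟩)
        (Ideal.mul_mem_right _ _ (hmem.mpr ⟨F, hFmem, rfl⟩))
    · rw [← hρFdeg]; exact Polynomial.degree_modByMonic_lt _ hρFmon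
  obtain ⟨s, hs⟩ := hdvd
  have h0 : rho (a - F * sigma s) = 0 := by
    rw [map_sub, map_mul, rho_sigma, hs, sub_self]
  obtain ⟨b, hb⟩ := Ideal.mem_span_singleton'.mp (sub_sigma_rho_mem (a - F * sigma s))
  rw [h0, map_zero, sub_zero] at hb
  have hb𝔟 : b ∈ colonY 𝔞 := by
    rw [mem_colonY, mul_comm, hb]
    exact 𝔞.sub_mem ha (𝔞.mul_mem_right _ hFmem)
  have : a = yy * b + F * sigma s := by rw [mul_comm yy b, hb]; ring
  rw [this]
  exact Ideal.add_mem _ (Ideal.mem_sup_left (Ideal.mul_mem_mul (Ideal.subset_span rfl) hb𝔟))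
    (Ideal.mem_sup_right (Ideal.mul_mem_right _ _ (Ideal.subset_span rfl)))

/-- the conclusion of the milestone. -/
def Good (𝔞 : Ideal 𝔸) : Prop :=
  ∃ 𝔞' : Ideal ℙ,
    RingHom.Flat (R := Polynomial k) (S := ℙ ⧸ 𝔞')
      ((Ideal.Quotient.mk 𝔞').comp (Polynomial.mapRingHom (algebraMap k 𝔸))) ∧
    RingHom.Finite (A := Polynomial k) (B := ℙ ⧸ 𝔞')
      ((Ideal.Quotient.mk 𝔞').comp (Polynomial.mapRingHom (algebraMap k 𝔸))) ∧
    Ideal.map (Polynomial.evalRingHom (0 : 𝔸)) 𝔞' = 𝔞 ∧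
    ∀ c : k, c ≠ 0 →
      Ideal.map (Polynomial.evalRingHom (MvPolynomial.C c)) 𝔞'
        ≤ Ideal.span {MvPolynomial.X 0, MvPolynomial.X 1} ∧
      ∃ p : Fin 2 → k, p ≠ 0 ∧
        Ideal.map (Polynomial.evalRingHom (MvPolynomial.C c)) 𝔞' ≤
          Ideal.span (Set.range (fun i : Fin 2 => MvPolynomial.X i - MvPolynomial.C (p i)))

/-- the point `(x₀, c)`. -/
def pt (x₀ c : k) : Fin 2 → k := Fin.cons x₀ (fun _ : Fin 1 => c)

lemma pt_one (x₀ c : k) : pt x₀ c 1 = c := rfl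

theorem core [IsAlgClosed k] (𝔞 : Ideal 𝔸) (hy : yy ∉ 𝔞)
    (hsupp : 𝔞.radical = Ideal.span {MvPolynomial.X 0, MvPolynomial.X 1}) : Good 𝔞 := by
  set 𝔪 : Ideal 𝔸 := Ideal.span {MvPolynomial.X 0, MvPolynomial.X 1} with h𝔪
  have hx𝔪 : xx ∈ 𝔪 := Ideal.subset_span (by simp)
  have hy𝔪 : yy ∈ 𝔪 := Ideal.subset_span (by simp)
  obtain ⟨N', hxN⟩ : ∃ n, xx ^ n ∈ 𝔞 := by rw [← hsupp] at hx𝔪; exact hx𝔪
  obtain ⟨N, hyN⟩ : ∃ n, yy ^ n ∈ 𝔞 := by rw [← hsupp] at hy𝔪; exact hy𝔪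
  have h𝔞𝔪 : 𝔞 ≤ 𝔪 := hsupp ▸ Ideal.le_radical
  obtain ⟨F, hF, hmon, hdec⟩ := exists_F hyN hxN
  have hF𝔟 : F ∈ colonY 𝔞 := le_colonY 𝔞 hF
  have hyN𝔟 : yy ^ N ∈ colonY 𝔞 := le_colonY 𝔞 hyN
  have h𝔟𝔪 : colonY 𝔞 ≤ 𝔪 := by
    intro b hb
    rw [h𝔪, mem_origin_iff]
    by_contra hβ
    have hm : b - MvPolynomial.C (MvPolynomial.eval (0 : Fin 2 → k) b) ∈ 𝔪 := by
      rw [h𝔪, mem_origin_iff]; simp
    rw [← hsupp] at hm
    obtain ⟨n, hn⟩ := hm
    set β := MvPolynomial.eval (0 : Fin 2 → k) b with hβdef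
    have hdvd : b ∣ (MvPolynomial.C β : 𝔸) ^ n - (MvPolynomial.C β - b) ^ n := by
      have := sub_dvd_pow_sub_pow (MvPolynomial.C β : 𝔸) (MvPolynomial.C β - b) n
      simpa using this
    obtain ⟨w, hw⟩ := hdvd
    have h1 : yy * (MvPolynomial.C β : 𝔸) ^ n ∈ 𝔞 := by
      have e1 : yy * (MvPolynomial.C β : 𝔸) ^ n
          = (yy * b) * w + yy * (MvPolynomial.C β - b) ^ n := by
        linear_combination yy * hw
      rw [e1]
      refine 𝔞.add_mem (𝔞.mul_mem_right _ hb) (𝔞.mul_mem_left _ ?_)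
      have e2 : (MvPolynomial.C β - b) ^ n = (-1) ^ n * (b - MvPolynomial.C β) ^ n := by
        rw [← neg_sub, neg_pow]
      rw [e2]; exact 𝔞.mul_mem_left _ hn
    apply hy
    have hu : (MvPolynomial.C (β ^ n)⁻¹ : 𝔸) * (MvPolynomial.C β) ^ n = 1 := by
      rw [← MvPolynomial.C_pow, ← MvPolynomial.C_mul, inv_mul_cancel₀ (pow_ne_zero _ hβ),
        MvPolynomial.C_1]
    have e3 : (yy : 𝔸) = MvPolynomial.C (β ^ n)⁻¹ * (yy * (MvPolynomial.C β) ^ n) := by
      rw [mul_left_comm, hu, mul_one]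
    rw [e3]; exact 𝔞.mul_mem_left _ h1
  refine ⟨fam (colonY 𝔞) F, flat_fam hF𝔟 hmon, finite_fam hmon hyN𝔟, ?_, ?_⟩
  · rw [map_eval_fam, sub_zero]
    apply le_antisymm
    · refine sup_le ?_ ((Ideal.span_singleton_le_iff_mem _).mpr hF)
      rw [Ideal.mul_le]
      intro r hr s hs
      obtain ⟨w, rfl⟩ := Ideal.mem_span_singleton'.mp hr
      rw [mul_assoc]; exact 𝔞.mul_mem_left _ hs
    · exact hdec
  · intro c hc
    rw [map_eval_fam]
    constructor
    · exact sup_le (Ideal.mul_le_right.trans h𝔟𝔪)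
        ((Ideal.span_singleton_le_iff_mem _).mpr (h𝔞𝔪 hF))
    · have hGmon : (Polynomial.map (evR c) (ee F)).Monic := hmon.map _
      have hq0 : (ee F).natDegree ≠ 0 := by
        intro h0
        have h1 : ee F = 1 := Polynomial.eq_one_of_monic_natDegree_zero hmon h0
        have hF1 : F = 1 := by apply (ee (k := k)).injective; rw [h1, map_one]
        rw [hF1] at hF
        exact hy (by have := 𝔞.mul_mem_left yy hF; simpa using this)
      have hGdeg : (Polynomial.map (evR c) (ee F)).degree ≠ 0 := by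
        rw [Polynomial.degree_eq_natDegree hGmon.ne_zero, hmon.natDegree_map]
        exact_mod_cast hq0
      obtain ⟨x₀, hx₀⟩ := IsAlgClosed.exists_root _ hGdeg
      refine ⟨pt x₀ c, ?_, ?_⟩
      · intro h0
        have := congrFun h0 1
        rw [pt_one] at this
        exact hc this
      · refine sup_le ?_ ?_
        · refine Ideal.mul_le_left.trans ?_
          rw [Ideal.span_singleton_le_iff_mem]
          refine Ideal.subset_span ⟨1, ?_⟩
          show MvPolynomial.X 1 - MvPolynomial.C (pt x₀ c 1) = _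
          rw [pt_one]
        · rw [Ideal.span_singleton_le_iff_mem]
          have h1 := sub_C_eval_mem (pt x₀ c) F
          have h2 : MvPolynomial.eval (pt x₀ c) F = 0 := by
            unfold pt
            rw [MvPolynomial.eval_eq_eval_mv_eval']
            exact hx₀
          rw [h2, map_zero, sub_zero] at h1
          exact h1

end Groth.Agent.Helper8.PullApart
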