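import Groth.Agent.Helper8.PullApartC

set_option autoImplicit false
universe u

namespace Groth.Agent.Helper8.PullApart

variable {k : Type u} [Field k]

local notation "𝔸" => MvPolynomial (Fin 2) k
local notation "𝔹" => MvPolynomial (Fin 1) k
local notation "ℙ" => Polynomial (MvPolynomial (Fin 2) k)

/-- swap of the two coordinates. -/
noncomputable def tau : MvPolynomial (Fin 2) k ≃ₐ[k] MvPolynomial (Fin 2) k :=
  MvPolynomial.renameEquiv k (Equiv.swap (0 : Fin 2) 1)

lemma tau_X (i : Fin 2) :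
    (tau (k := k)) (MvPolynomial.X i) = MvPolynomial.X (Equiv.swap (0 : Fin 2) 1 i) := by
  simp [tau]

lemma tau_symm_X (i : Fin 2) :
    (tau (k := k)).symm (MvPolynomial.X i) = MvPolynomial.X (Equiv.swap (0 : Fin 2) 1 i) := by
  rw [AlgEquiv.symm_apply_eq, tau_X, Equiv.swap_apply_self]

lemma tau_C (c : k) : (tau (k := k)) (MvPolynomial.C c) = MvPolynomial.C c := by
  simp [tau]

lemma tau_symm_C (c : k) : (tau (k := k)).symm (MvPolynomial.C c) = MvPolynomial.C c := by
  rw [AlgEquiv.symm_apply_eq, tau_C]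

lemma swap_zero : Equiv.swap (0 : Fin 2) 1 0 = 1 := Equiv.swap_apply_left _ _
lemma swap_one : Equiv.swap (0 : Fin 2) 1 1 = 0 := Equiv.swap_apply_right _ _

theorem good_of_swap {𝔞 : Ideal 𝔸}
    (h : Good (𝔞.map ((tau (k := k)) : 𝔸 →+* 𝔸))) : Good 𝔞 := by
  obtain ⟨𝔞₂', hflat, hfin, h0, hc⟩ := h
  let τs : 𝔸 ≃+* 𝔸 := (tau (k := k)).symm.toRingEquiv
  let E : ℙ ≃+* ℙ := Polynomial.mapEquiv τs
  have hτs_apply : ∀ a : 𝔸, τs a = (tau (k := k)).symm a := fun a => rfl
  have hE_apply : ∀ h : ℙ, E h = Polynomial.map (τs : 𝔸 →+* 𝔸) h := fun h => rfl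
  have hEphi : ∀ p : Polynomial k, E (phi p) = phi p := by
    intro p
    rw [hE_apply]
    show Polynomial.map (τs : 𝔸 →+* 𝔸) (Polynomial.map (algebraMap k 𝔸) p)
      = Polynomial.map (algebraMap k 𝔸) p
    rw [Polynomial.map_map]
    congr 1
    refine RingHom.ext fun c => ?_
    simp only [RingHom.comp_apply, RingEquiv.coe_toRingHom, hτs_apply]
    exact (tau (k := k)).symm.commutes c
  have heval : ∀ c' : 𝔸, (Polynomial.evalRingHom c').comp (E : ℙ →+* ℙ)
      = (τs : 𝔸 →+* 𝔸).comp (Polynomial.evalRingHom ((tau (k := k)) c')) := by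
    intro c'
    apply Polynomial.ringHom_ext
    · intro a
      simp only [RingHom.comp_apply, RingEquiv.coe_toRingHom, hE_apply, Polynomial.map_C,
        Polynomial.coe_evalRingHom, Polynomial.eval_C]
    · simp only [RingHom.comp_apply, RingEquiv.coe_toRingHom, hE_apply, Polynomial.map_X,
        Polynomial.coe_evalRingHom, Polynomial.eval_X, hτs_apply, AlgEquiv.symm_apply_apply]
  have hmapev : ∀ c' : 𝔸, Ideal.map (Polynomial.evalRingHom c') (𝔞₂'.map (E : ℙ →+* ℙ))
      = (𝔞₂'.map (Polynomial.evalRingHom ((tau (k := k)) c'))).map (τs : 𝔸 →+* 𝔸) := by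
    intro c'
    rw [Ideal.map_map, heval, ← Ideal.map_map]
  have hτid : (τs : 𝔸 →+* 𝔸).comp ((tau (k := k)) : 𝔸 →+* 𝔸) = RingHom.id _ := by
    refine RingHom.ext fun a => ?_
    simp only [RingHom.comp_apply, RingEquiv.coe_toRingHom, hτs_apply, RingHom.id_apply]
    exact (tau (k := k)).symm_apply_apply a
  let Ē : (ℙ ⧸ 𝔞₂') ≃+* (ℙ ⧸ 𝔞₂'.map (E : ℙ →+* ℙ)) :=
    Ideal.quotientEquiv 𝔞₂' (𝔞₂'.map (E : ℙ →+* ℙ)) E rfl
  let Ēh : (ℙ ⧸ 𝔞₂') →+* (ℙ ⧸ 𝔞₂'.map (E : ℙ →+* ℙ)) := Ē.toRingHom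
  have hcomp : (Ideal.Quotient.mk (𝔞₂'.map (E : ℙ →+* ℙ))).comp
      (Polynomial.mapRingHom (algebraMap k 𝔸))
      = Ēh.comp ((Ideal.Quotient.mk 𝔞₂').comp (Polynomial.mapRingHom (algebraMap k 𝔸))) := by
    refine RingHom.ext fun p => ?_
    simp only [RingHom.comp_apply]
    have : Ēh (Ideal.Quotient.mk 𝔞₂' (phi p))
        = Ideal.Quotient.mk (𝔞₂'.map (E : ℙ →+* ℙ)) (E (phi p)) := rfl
    rw [this, hEphi]
  refine ⟨𝔞₂'.map (E : ℙ →+* ℙ), ?_, ?_, ?_, ?_⟩
  · rw [hcomp]
    exact RingHom.Flat.comp hflat (RingHom.Flat.of_bijective Ē.bijective)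
  · rw [hcomp]
    exact RingHom.Finite.comp (RingHom.Finite.of_surjective _ Ē.surjective) hfin
  · rw [hmapev, map_zero, h0, Ideal.map_map, hτid, Ideal.map_id]
  · intro c hc0
    obtain ⟨h𝔪, p₂, hp₂, hle⟩ := hc c hc0
    rw [hmapev, tau_C]
    constructor
    · refine (Ideal.map_mono h𝔪).trans ?_
      rw [Ideal.map_span, Ideal.span_le]
      rintro _ ⟨a, (rfl | rfl), rfl⟩
      · simp only [RingEquiv.coe_toRingHom, hτs_apply, tau_symm_X, swap_zero]
        exact Ideal.subset_span (by simp)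
      · simp only [RingEquiv.coe_toRingHom, hτs_apply, tau_symm_X, swap_one]
        exact Ideal.subset_span (by simp)
    · refine ⟨fun i => p₂ (Equiv.swap (0 : Fin 2) 1 i), ?_, ?_⟩
      · intro h0'
        apply hp₂
        funext i
        have := congrFun h0' (Equiv.swap (0 : Fin 2) 1 i)
        simpa using this
      · refine (Ideal.map_mono hle).trans ?_
        rw [Ideal.map_span, Ideal.span_le]
        rintro _ ⟨_, ⟨i, rfl⟩, rfl⟩
        refine Ideal.subset_span ⟨Equiv.swap (0 : Fin 2) 1 i, ?_⟩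
        simp only [RingEquiv.coe_toRingHom, hτs_apply, map_sub, tau_symm_X, tau_symm_C,
          Equiv.swap_apply_self]

theorem main [IsAlgClosed k] (𝔞 : Ideal 𝔸) [Module.Finite k (𝔸 ⧸ 𝔞)]
    (hn : 2 ≤ Module.finrank k (𝔸 ⧸ 𝔞))
    (hsupp : 𝔞.radical = Ideal.span {MvPolynomial.X 0, MvPolynomial.X 1}) : Good 𝔞 := by
  by_cases hy : yy ∈ 𝔞
  · have hx : xx ∉ 𝔞 := by
      intro hx
      have h𝔪 : Ideal.span {(MvPolynomial.X 0 : 𝔸), MvPolynomial.X 1} ≤ 𝔞 := by
        rw [Ideal.span_le]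
        rintro a (rfl | rfl)
        exacts [hx, hy]
      have : Module.finrank k (𝔸 ⧸ 𝔞) ≤ 1 := by
        apply finrank_le_one (1 : 𝔸 ⧸ 𝔞)
        intro w
        obtain ⟨a, rfl⟩ := Ideal.Quotient.mk_surjective w
        refine ⟨MvPolynomial.eval 0 a, ?_⟩
        have hmem := sub_C_eval_mem (0 : Fin 2 → k) a
        rw [span_origin] at hmem
        have h1 := h𝔪 hmem
        rw [← Ideal.Quotient.eq] at h1
        rw [h1]
        have h2 : (MvPolynomial.C (MvPolynomial.eval (0 : Fin 2 → k) a) : 𝔸)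
            = (MvPolynomial.eval (0 : Fin 2 → k) a) • (1 : 𝔸) := by
          rw [MvPolynomial.smul_eq_C_mul, mul_one]
        rw [h2]
        rfl
      omega
    apply good_of_swap
    apply core
    · intro h
      obtain ⟨a, ha, hay⟩ := (Ideal.mem_map_iff_of_surjective ((tau (k := k)) : 𝔸 →+* 𝔸)
        (tau (k := k)).surjective).mp h
      have : a = xx := by
        apply (tau (k := k)).injective
        rw [tau_X, swap_zero]
        exact hay
      exact hx (this ▸ ha)
    · have hker : RingHom.ker ((tau (k := k)) : 𝔸 →+* 𝔸) ≤ 𝔞 := by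
        intro a ha
        have : a = 0 := by
          apply (tau (k := k)).injective
          rw [map_zero]; exact ha
        rw [this]; exact 𝔞.zero_mem
      have hrad := Ideal.map_radical_of_surjective (f := ((tau (k := k)) : 𝔸 →+* 𝔸))
        (tau (k := k)).surjective (I := 𝔞) hker
      rw [← hrad, hsupp, Ideal.map_span]
      · congr 1
        ext a
        constructor
        · rintro ⟨b, (rfl | rfl), rfl⟩
          · right
            show (tau (k := k)) (MvPolynomial.X 0) = MvPolynomial.X 1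
            rw [tau_X, swap_zero]
          · left
            show (tau (k := k)) (MvPolynomial.X 1) = MvPolynomial.X 0
            rw [tau_X, swap_one]
        · rintro (rfl | rfl)
          · exact ⟨MvPolynomial.X 1, by simp, by
              show (tau (k := k)) (MvPolynomial.X 1) = MvPolynomial.X 0
              rw [tau_X, swap_one]⟩
          · exact ⟨MvPolynomial.X 0, by simp, by
              show (tau (k := k)) (MvPolynomial.X 0) = MvPolynomial.X 1
              rw [tau_X, swap_zero]⟩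
  · exact core 𝔞 hy hsupp

end Groth.Agent.Helper8.PullApart
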