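import Mathlib
import Groth.Agent.Helper8.PurDescA
import Groth.Agent.Helper8.FEtFF

/-!
# Extension of morphisms of finite étale covers across a morphism with the Hartogs property

`IsPullback` forms of `FEtFF.eq_of_comp_eq` and `FEtFF.exists_of_baseChange`.
-/

set_option autoImplicit false
set_option linter.unusedSectionVars false
universe u

open AlgebraicGeometry CategoryTheory CategoryTheory.Limits TopologicalSpace Opposite

namespace Groth.Agent.Helper8.PurDesc

/-- faithfulness: two morphisms from an open `S`-scheme to a separated unramified scheme which agree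
over `X` are equal -/
theorem ext_of_hasH {X S Y Z S' Y' : Scheme.{u}} (f : X ⟶ S) (hf : HasH f) (hY : Y ⟶ S)
    [UniversallyOpen hY] (hZ : Z ⟶ S') [FormallyUnramified hZ] [LocallyOfFiniteType hZ]
    [IsSeparated hZ] (yX : Y' ⟶ Y) (hY' : Y' ⟶ X) (sq : IsPullback yX hY' hY f)
    (a b : Y ⟶ Z) (hab' : a ≫ hZ = b ≫ hZ) (hab : yX ≫ a = yX ≫ b) : a = b := by
  have hfst : pullback.fst hY f = sq.isoPullback.inv ≫ yX := by
    rw [Iso.eq_inv_comp]
    exact sq.isoPullback_hom_fst
  have hab2 : pullback.fst hY f ≫ a = pullback.fst hY f ≫ b := by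
    rw [hfst, Category.assoc, Category.assoc, hab]
  let l : Y ⟶ pullback hZ hZ := pullback.lift a b hab'
  have hl1 : l ≫ pullback.fst hZ hZ = a := pullback.lift_fst _ _ _
  have hl2 : l ≫ pullback.snd hZ hZ = b := pullback.lift_snd _ _ _
  let ι : pullback l (pullback.diagonal hZ) ⟶ Y := pullback.fst l (pullback.diagonal hZ)
  haveI hιc : IsClosedImmersion ι := inferInstance
  have hcond : ι ≫ l = pullback.snd l (pullback.diagonal hZ) ≫ pullback.diagonal hZ :=
    pullback.condition
  have e1 : ι ≫ a = pullback.snd l (pullback.diagonal hZ) := by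
    have := congrArg (fun m => m ≫ pullback.fst hZ hZ) hcond
    simpa [hl1] using this
  have e2 : ι ≫ b = pullback.snd l (pullback.diagonal hZ) := by
    have := congrArg (fun m => m ≫ pullback.snd hZ hZ) hcond
    simpa [hl2] using this
  let C : Set Y := (Set.range ι)ᶜ
  have hC : IsOpen C := ι.isClosedEmbedding.isClosed_range.isOpen_compl
  have hCX : (pullback.fst hY f) ⁻¹' C = ∅ := by
    let k : pullback hY f ⟶ pullback l (pullback.diagonal hZ) :=
      pullback.lift (pullback.fst hY f) (pullback.fst hY f ≫ a) (by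
        apply pullback.hom_ext
        · rw [Category.assoc, hl1, Category.assoc, pullback.diagonal_fst, Category.comp_id]
        · rw [Category.assoc, hl2, Category.assoc, pullback.diagonal_snd, Category.comp_id, hab2])
    have hk : k ≫ ι = pullback.fst hY f := pullback.lift_fst _ _ _
    ext z
    constructor
    · intro hz
      apply hz
      show pullback.fst hY f z ∈ Set.range ι
      rw [← hk, Scheme.Hom.comp_apply]
      exact ⟨_, rfl⟩
    · intro hz
      exact hz.elim
  have hCe := FEtFF.eq_empty_of_preimage_eq_empty f hf hY C hC hCX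
  haveI hs : Surjective ι := ⟨fun y => by
    by_contra hy
    have : y ∈ C := hy
    rw [hCe] at this
    exact this⟩
  exact EtLift.unique_lift hZ ι a b hab' (e1.trans e2.symm)

/-- fullness: a morphism over `S` from the base change to `X` of a finite étale `S`-scheme to a
finite étale `S`-scheme extends -/
theorem exists_of_hasH {X S Y Z Y' : Scheme.{u}} (f : X ⟶ S) (hf : HasH f) (hY : Y ⟶ S)
    (hZ : Z ⟶ S) [IsFinite hY] [Etale hY] [IsFinite hZ] [Etale hZ]
    (yX : Y' ⟶ Y) (hY' : Y' ⟶ X) (sq : IsPullback yX hY' hY f) (c : Y' ⟶ Z)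
    (hc : c ≫ hZ = hY' ≫ f) :
    ∃ a : Y ⟶ Z, a ≫ hZ = hY ∧ yX ≫ a = c := by
  have he1 : sq.isoPullback.hom ≫ pullback.fst hY f = yX := sq.isoPullback_hom_fst
  have he2 : sq.isoPullback.hom ≫ pullback.snd hY f = hY' := sq.isoPullback_hom_snd
  have he2' : sq.isoPullback.inv ≫ hY' = pullback.snd hY f := by
    rw [Iso.inv_comp_eq, he2]
  let c' : pullback hY f ⟶ pullback hZ f := pullback.lift (sq.isoPullback.inv ≫ c)
    (pullback.snd hY f) (by rw [Category.assoc, hc, ← Category.assoc, he2'])
  have hc'1 : c' ≫ pullback.fst hZ f = sq.isoPullback.inv ≫ c := pullback.lift_fst _ _ _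
  have hc'2 : c' ≫ pullback.snd hZ f = pullback.snd hY f := pullback.lift_snd _ _ _
  obtain ⟨a, ha1, ha2⟩ := FEtFF.exists_of_baseChange f hf hY hZ c' hc'2
  refine ⟨a, ha1, ?_⟩
  rw [← he1, Category.assoc, ha2, hc'1, ← Category.assoc, Iso.hom_inv_id, Category.id_comp]

end Groth.Agent.Helper8.PurDesc
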