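import Mathlib
import Groth.Agent.Helper8.PurDescB
import Groth.Agent.Helper8.DescAffC

/-!
# The descent datum on a finite étale cover extending a descended cover over the Hartogs open

Setting (`Setup`): `p : Y₁ ⟶ Y` fpqc, `j : U ⟶ Y` an open immersion such that for every flat `T ⟶ Y` the
base change `T_U ⟶ T` of `j` has the Hartogs property, `j₁ : U₁ ⟶ Y₁` the base change of `j`,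
`π₁ : E₁ ⟶ Y₁` finite étale, `ω : W ⟶ U` and a cartesian square `E₁|_{U₁} = W ×_U U₁`.
We construct a descent datum `DD` on `E₁` relative to `p` whose transport maps preserve the
`W`-component of points lying over `U`.
-/

set_option autoImplicit false
set_option linter.unusedSectionVars false
universe u

open AlgebraicGeometry CategoryTheory CategoryTheory.Limits TopologicalSpace Opposite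

namespace Groth.Agent.Helper8.PurDesc

structure Setup where
  {Y Y₁ U U₁ E₁ W EU : Scheme.{u}}
  p : Y₁ ⟶ Y
  j : U ⟶ Y
  j₁ : U₁ ⟶ Y₁
  pU : U₁ ⟶ U
  hsq : IsPullback j₁ pU p j
  π₁ : E₁ ⟶ Y₁
  ω : W ⟶ U
  eU : EU ⟶ E₁
  qU : EU ⟶ U₁
  hE : IsPullback eU qU π₁ j₁
  w : EU ⟶ W
  hcart : IsPullback w qU ω pU
  openImm : IsOpenImmersion j
  flat : Flat p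
  surj : Surjective p
  qc : QuasiCompact p
  fin : IsFinite π₁
  et : Etale π₁
  hH : ∀ {T : Scheme.{u}} (g : T ⟶ Y) [Flat g], HasH (pullback.fst g j)

attribute [instance] Setup.openImm Setup.flat Setup.surj Setup.qc Setup.fin Setup.et

namespace Setup

variable (𝒮 : Setup.{u})

instance : IsOpenImmersion 𝒮.j₁ :=
  MorphismProperty.of_isPullback (P := @IsOpenImmersion) 𝒮.hsq.flip 𝒮.openImm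

instance : IsOpenImmersion 𝒮.eU :=
  MorphismProperty.of_isPullback (P := @IsOpenImmersion) 𝒮.hE.flip inferInstance

/-- `u` is the `W`-component of the point `r` of `E₁` (which then lies over `U`) -/
def IsW {T : Scheme.{u}} (r : T ⟶ 𝒮.E₁) (u : T ⟶ 𝒮.W) : Prop :=
  ∃ rU : T ⟶ 𝒮.EU, rU ≫ 𝒮.eU = r ∧ rU ≫ 𝒮.w = u

lemma isW_comp {T T' : Scheme.{u}} (g : T' ⟶ T) {r : T ⟶ 𝒮.E₁} {u : T ⟶ 𝒮.W} (h : 𝒮.IsW r u) :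
    𝒮.IsW (g ≫ r) (g ≫ u) := by
  obtain ⟨rU, h1, h2⟩ := h
  exact ⟨g ≫ rU, by rw [Category.assoc, h1], by rw [Category.assoc, h2]⟩

lemma isW_unique {T : Scheme.{u}} {r : T ⟶ 𝒮.E₁} {u u' : T ⟶ 𝒮.W} (h : 𝒮.IsW r u)
    (h' : 𝒮.IsW r u') : u = u' := by
  obtain ⟨rU, h1, h2⟩ := h
  obtain ⟨rU', h1', h2'⟩ := h'
  have : rU = rU' := by rw [← cancel_mono 𝒮.eU, h1, h1']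
  rw [← h2, ← h2', this]

lemma isW_ext {T : Scheme.{u}} {r r' : T ⟶ 𝒮.E₁} {u : T ⟶ 𝒮.W} (h : 𝒮.IsW r u)
    (h' : 𝒮.IsW r' u) (hπ : r ≫ 𝒮.π₁ = r' ≫ 𝒮.π₁) : r = r' := by
  obtain ⟨rU, h1, h2⟩ := h
  obtain ⟨rU', h1', h2'⟩ := h'
  have hq : rU ≫ 𝒮.qU = rU' ≫ 𝒮.qU := by
    rw [← cancel_mono 𝒮.j₁, Category.assoc, Category.assoc, ← 𝒮.hE.w, ← Category.assoc,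
      ← Category.assoc, h1, h1', hπ]
  have : rU = rU' := 𝒮.hcart.hom_ext (h2.trans h2'.symm) hq
  rw [← h1, ← h1', this]

lemma exists_isW_of_lift {T : Scheme.{u}} (r : T ⟶ 𝒮.E₁) (k : T ⟶ 𝒮.U₁)
    (h : r ≫ 𝒮.π₁ = k ≫ 𝒮.j₁) : ∃ u, 𝒮.IsW r u ∧ u ≫ 𝒮.ω = k ≫ 𝒮.pU := by
  refine ⟨𝒮.hE.lift r k h ≫ 𝒮.w, ⟨𝒮.hE.lift r k h, 𝒮.hE.lift_fst _ _ _, rfl⟩, ?_⟩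
  rw [Category.assoc, 𝒮.hcart.w, ← Category.assoc, 𝒮.hE.lift_snd]

lemma exists_of_W {T : Scheme.{u}} (u : T ⟶ 𝒮.W) (k : T ⟶ 𝒮.U₁) (h : u ≫ 𝒮.ω = k ≫ 𝒮.pU) :
    ∃ r : T ⟶ 𝒮.E₁, r ≫ 𝒮.π₁ = k ≫ 𝒮.j₁ ∧ 𝒮.IsW r u := by
  refine ⟨𝒮.hcart.lift u k h ≫ 𝒮.eU, ?_, ⟨𝒮.hcart.lift u k h, rfl, 𝒮.hcart.lift_fst _ _ _⟩⟩
  rw [Category.assoc, 𝒮.hE.w, ← Category.assoc, 𝒮.hcart.lift_snd]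

lemma isW_base {T : Scheme.{u}} {r : T ⟶ 𝒮.E₁} {u : T ⟶ 𝒮.W} (h : 𝒮.IsW r u) :
    r ≫ 𝒮.π₁ ≫ 𝒮.p = (u ≫ 𝒮.ω) ≫ 𝒮.j := by
  obtain ⟨rU, h1, h2⟩ := h
  rw [← h1, ← h2]
  simp only [Category.assoc]
  rw [reassoc_of% 𝒮.hE.w, 𝒮.hsq.w, reassoc_of% 𝒮.hcart.w]

/-! ### the key lemma -/

section KL

variable {T : Scheme.{u}} (c : T ⟶ 𝒮.Y₁) [Flat (c ≫ 𝒮.p)]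

theorem KL_unique (v v' : T ⟶ 𝒮.E₁) (hv : v ≫ 𝒮.π₁ = c) (hv' : v' ≫ 𝒮.π₁ = c)
    (u : pullback (c ≫ 𝒮.p) 𝒮.j ⟶ 𝒮.W)
    (h : 𝒮.IsW (pullback.fst (c ≫ 𝒮.p) 𝒮.j ≫ v) u)
    (h' : 𝒮.IsW (pullback.fst (c ≫ 𝒮.p) 𝒮.j ≫ v') u) : v = v' := by
  have hab : pullback.fst (c ≫ 𝒮.p) 𝒮.j ≫ v = pullback.fst (c ≫ 𝒮.p) 𝒮.j ≫ v' :=
    𝒮.isW_ext h h' (by rw [Category.assoc, Category.assoc, hv, hv'])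
  exact ext_of_hasH (pullback.fst (c ≫ 𝒮.p) 𝒮.j) (𝒮.hH (c ≫ 𝒮.p)) (𝟙 T) 𝒮.π₁
    (pullback.fst (c ≫ 𝒮.p) 𝒮.j) (𝟙 _) (IsPullback.of_vert_isIso ⟨by simp⟩) v v'
    (hv.trans hv'.symm) hab

theorem KL_exists (u : pullback (c ≫ 𝒮.p) 𝒮.j ⟶ 𝒮.W)
    (hu : u ≫ 𝒮.ω = pullback.snd (c ≫ 𝒮.p) 𝒮.j) :
    ∃ v : T ⟶ 𝒮.E₁, v ≫ 𝒮.π₁ = c ∧ 𝒮.IsW (pullback.fst (c ≫ 𝒮.p) 𝒮.j ≫ v) u := by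
  have hcond : (pullback.fst (c ≫ 𝒮.p) 𝒮.j ≫ c) ≫ 𝒮.p = pullback.snd (c ≫ 𝒮.p) 𝒮.j ≫ 𝒮.j := by
    rw [Category.assoc]
    exact pullback.condition
  obtain ⟨r, hr1, hr2⟩ := 𝒮.exists_of_W u
    (𝒮.hsq.lift (pullback.fst (c ≫ 𝒮.p) 𝒮.j ≫ c) (pullback.snd (c ≫ 𝒮.p) 𝒮.j) hcond)
    (hu.trans (𝒮.hsq.lift_snd _ _ _).symm)
  rw [𝒮.hsq.lift_fst] at hr1
  have hc₀ : r ≫ 𝒮.π₁ = pullback.fst (c ≫ 𝒮.p) 𝒮.j ≫ c := hr1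
  obtain ⟨a, ha1, ha2⟩ := exists_of_hasH (pullback.fst (c ≫ 𝒮.p) 𝒮.j) (𝒮.hH (c ≫ 𝒮.p)) (𝟙 T)
    (pullback.snd 𝒮.π₁ c) (pullback.fst (c ≫ 𝒮.p) 𝒮.j) (𝟙 _) (IsPullback.of_vert_isIso ⟨by simp⟩)
    (pullback.lift r (pullback.fst (c ≫ 𝒮.p) 𝒮.j) hc₀)
    (by rw [pullback.lift_snd, Category.id_comp])
  refine ⟨a ≫ pullback.fst 𝒮.π₁ c, ?_, ?_⟩
  · rw [Category.assoc, pullback.condition, ← Category.assoc, ha1, Category.id_comp]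
  · have : pullback.fst (c ≫ 𝒮.p) 𝒮.j ≫ a ≫ pullback.fst 𝒮.π₁ c = r := by
      rw [← Category.assoc, ha2, pullback.lift_fst]
    rw [this]
    exact hr2

end KL

/-! ### the universal transport -/

noncomputable section

abbrev Y₂ : Scheme.{u} := pullback 𝒮.p 𝒮.p
abbrev pr₁ : 𝒮.Y₂ ⟶ 𝒮.Y₁ := pullback.fst 𝒮.p 𝒮.p
abbrev pr₂ : 𝒮.Y₂ ⟶ 𝒮.Y₁ := pullback.snd 𝒮.p 𝒮.p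
abbrev A : Scheme.{u} := pullback 𝒮.π₁ 𝒮.pr₁
abbrev a₁ : 𝒮.A ⟶ 𝒮.E₁ := pullback.fst 𝒮.π₁ 𝒮.pr₁
abbrev a₂ : 𝒮.A ⟶ 𝒮.Y₂ := pullback.snd 𝒮.π₁ 𝒮.pr₁
/-- the second point of the universal pair -/
def cA : 𝒮.A ⟶ 𝒮.Y₁ := 𝒮.a₂ ≫ 𝒮.pr₂

lemma cA_def : 𝒮.cA = 𝒮.a₂ ≫ 𝒮.pr₂ := rfl

lemma pr_cond : 𝒮.pr₁ ≫ 𝒮.p = 𝒮.pr₂ ≫ 𝒮.p := pullback.condition

lemma a_cond : 𝒮.a₁ ≫ 𝒮.π₁ = 𝒮.a₂ ≫ 𝒮.pr₁ := pullback.condition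

lemma a₂pr₁_p {Z : Scheme.{u}} (f : Z ⟶ 𝒮.A) :
    (f ≫ 𝒮.a₂ ≫ 𝒮.pr₁) ≫ 𝒮.p = f ≫ 𝒮.cA ≫ 𝒮.p := by
  simp only [cA_def, Category.assoc, pr_cond]

lemma a₁π₁_p {Z : Scheme.{u}} (f : Z ⟶ 𝒮.A) :
    (f ≫ 𝒮.a₁) ≫ 𝒮.π₁ ≫ 𝒮.p = f ≫ 𝒮.cA ≫ 𝒮.p := by
  rw [← 𝒮.a₂pr₁_p]
  simp only [Category.assoc]
  rw [reassoc_of% 𝒮.a_cond]

lemma a₁π₁ {Z : Scheme.{u}} (f : Z ⟶ 𝒮.A) :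
    (f ≫ 𝒮.a₁) ≫ 𝒮.π₁ = f ≫ 𝒮.a₂ ≫ 𝒮.pr₁ := by
  rw [Category.assoc, 𝒮.a_cond]

instance : Flat 𝒮.π₁ := inferInstance

instance : Flat 𝒮.cA := by
  unfold cA
  infer_instance

instance : Flat (𝒮.cA ≫ 𝒮.p) := inferInstance

/-- the transport preserves `W`-components -/
def Wpres (τ : 𝒮.A ⟶ 𝒮.E₁) : Prop :=
  ∀ ⦃T : Scheme.{u}⦄ (m : T ⟶ 𝒮.A) (u : T ⟶ 𝒮.W), 𝒮.IsW (m ≫ 𝒮.a₁) u → 𝒮.IsW (m ≫ τ) u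

theorem exists_τ : ∃ τ : 𝒮.A ⟶ 𝒮.E₁, τ ≫ 𝒮.π₁ = 𝒮.cA ∧ 𝒮.Wpres τ := by
  have hcondA : pullback.fst (𝒮.cA ≫ 𝒮.p) 𝒮.j ≫ 𝒮.cA ≫ 𝒮.p =
      pullback.snd (𝒮.cA ≫ 𝒮.p) 𝒮.j ≫ 𝒮.j := pullback.condition
  have hk : (pullback.fst (𝒮.cA ≫ 𝒮.p) 𝒮.j ≫ 𝒮.a₂ ≫ 𝒮.pr₁) ≫ 𝒮.p =
      pullback.snd (𝒮.cA ≫ 𝒮.p) 𝒮.j ≫ 𝒮.j := (𝒮.a₂pr₁_p _).trans hcondA
  obtain ⟨uA, huA1, huA2⟩ := 𝒮.exists_isW_of_lift (pullback.fst (𝒮.cA ≫ 𝒮.p) 𝒮.j ≫ 𝒮.a₁)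
    (𝒮.hsq.lift (pullback.fst (𝒮.cA ≫ 𝒮.p) 𝒮.j ≫ 𝒮.a₂ ≫ 𝒮.pr₁)
      (pullback.snd (𝒮.cA ≫ 𝒮.p) 𝒮.j) hk)
    ((𝒮.a₁π₁ _).trans (𝒮.hsq.lift_fst _ _ _).symm)
  have huA2' : uA ≫ 𝒮.ω = pullback.snd (𝒮.cA ≫ 𝒮.p) 𝒮.j :=
    huA2.trans (𝒮.hsq.lift_snd _ _ _)
  obtain ⟨τ, hτ1, hτ2⟩ := 𝒮.KL_exists 𝒮.cA uA huA2'
  refine ⟨τ, hτ1, ?_⟩
  intro T m u hu
  have hb := 𝒮.isW_base hu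
  have hmc : m ≫ 𝒮.cA ≫ 𝒮.p = (u ≫ 𝒮.ω) ≫ 𝒮.j := (𝒮.a₁π₁_p m).symm.trans hb
  have hmU : pullback.lift m (u ≫ 𝒮.ω) hmc ≫ pullback.fst (𝒮.cA ≫ 𝒮.p) 𝒮.j = m :=
    pullback.lift_fst _ _ _
  have h1 : 𝒮.IsW (m ≫ τ) (pullback.lift m (u ≫ 𝒮.ω) hmc ≫ uA) := by
    have := 𝒮.isW_comp (pullback.lift m (u ≫ 𝒮.ω) hmc) hτ2
    rwa [← Category.assoc, hmU] at this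
  have h2 : 𝒮.IsW (m ≫ 𝒮.a₁) (pullback.lift m (u ≫ 𝒮.ω) hmc ≫ uA) := by
    have := 𝒮.isW_comp (pullback.lift m (u ≫ 𝒮.ω) hmc) huA1
    rwa [← Category.assoc, hmU] at this
  rw [𝒮.isW_unique hu h2]
  exact h1

/-- the universal transport `E₁ ×_{Y₁, pr₁} (Y₁ ×_Y Y₁) ⟶ E₁` -/
def τ : 𝒮.A ⟶ 𝒮.E₁ := Classical.choose 𝒮.exists_τ

lemma τ_π : 𝒮.τ ≫ 𝒮.π₁ = 𝒮.a₂ ≫ 𝒮.pr₂ := (Classical.choose_spec 𝒮.exists_τ).1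

lemma τ_wpres : 𝒮.Wpres 𝒮.τ := (Classical.choose_spec 𝒮.exists_τ).2

section Tr

variable {T : Scheme.{u}}

/-- the point `(v, x₀, x₁)` of `A` -/
def pt (x₀ x₁ : T ⟶ 𝒮.Y₁) (h : x₀ ≫ 𝒮.p = x₁ ≫ 𝒮.p) (v : T ⟶ 𝒮.E₁)
    (hv : v ≫ 𝒮.π₁ = x₀) : T ⟶ 𝒮.A :=
  pullback.lift v (pullback.lift x₀ x₁ h) (hv.trans (pullback.lift_fst x₀ x₁ h).symm)

variable (x₀ x₁ : T ⟶ 𝒮.Y₁) (h : x₀ ≫ 𝒮.p = x₁ ≫ 𝒮.p) (v : T ⟶ 𝒮.E₁) (hv : v ≫ 𝒮.π₁ = x₀)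

lemma pt_a₁ : 𝒮.pt x₀ x₁ h v hv ≫ 𝒮.a₁ = v := pullback.lift_fst _ _ _

lemma pt_a₂ : 𝒮.pt x₀ x₁ h v hv ≫ 𝒮.a₂ = pullback.lift x₀ x₁ h := pullback.lift_snd _ _ _

lemma pt_x₀ : 𝒮.pt x₀ x₁ h v hv ≫ 𝒮.a₂ ≫ 𝒮.pr₁ = x₀ := by
  rw [← Category.assoc, 𝒮.pt_a₂, pullback.lift_fst]

lemma pt_x₁ : 𝒮.pt x₀ x₁ h v hv ≫ 𝒮.a₂ ≫ 𝒮.pr₂ = x₁ := by
  rw [← Category.assoc, 𝒮.pt_a₂, pullback.lift_snd]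

lemma pt_ext {m m' : T ⟶ 𝒮.A} (h1 : m ≫ 𝒮.a₁ = m' ≫ 𝒮.a₁)
    (h2 : m ≫ 𝒮.a₂ ≫ 𝒮.pr₁ = m' ≫ 𝒮.a₂ ≫ 𝒮.pr₁)
    (h3 : m ≫ 𝒮.a₂ ≫ 𝒮.pr₂ = m' ≫ 𝒮.a₂ ≫ 𝒮.pr₂) : m = m' := by
  apply pullback.hom_ext h1
  apply pullback.hom_ext
  · simpa only [Category.assoc] using h2
  · simpa only [Category.assoc] using h3

/-- the transport of a point `v` over `x₀` to a point over `x₁` -/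
def tr : T ⟶ 𝒮.E₁ := 𝒮.pt x₀ x₁ h v hv ≫ 𝒮.τ

lemma tr_hom : 𝒮.tr x₀ x₁ h v hv ≫ 𝒮.π₁ = x₁ := by
  unfold tr
  rw [Category.assoc, 𝒮.τ_π, 𝒮.pt_x₁]

lemma tr_isW (u : T ⟶ 𝒮.W) (hu : 𝒮.IsW v u) : 𝒮.IsW (𝒮.tr x₀ x₁ h v hv) u := by
  apply 𝒮.τ_wpres
  rw [𝒮.pt_a₁]
  exact hu

variable {x₀ x₁ h v hv}

lemma tr_eq_of_comp {T' : Scheme.{u}} (z : T' ⟶ T) {x₀' x₁' : T' ⟶ 𝒮.Y₁}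
    {h' : x₀' ≫ 𝒮.p = x₁' ≫ 𝒮.p} {v' : T' ⟶ 𝒮.E₁} {hv' : v' ≫ 𝒮.π₁ = x₀'}
    (e0 : z ≫ x₀ = x₀') (e1 : z ≫ x₁ = x₁') (ev : z ≫ v = v') :
    z ≫ 𝒮.tr x₀ x₁ h v hv = 𝒮.tr x₀' x₁' h' v' hv' := by
  subst e0 e1 ev
  unfold tr
  rw [← Category.assoc]
  congr 1
  apply 𝒮.pt_ext
  · rw [Category.assoc, 𝒮.pt_a₁, 𝒮.pt_a₁]
  · rw [Category.assoc, 𝒮.pt_x₀, 𝒮.pt_x₀]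
  · rw [Category.assoc, 𝒮.pt_x₁, 𝒮.pt_x₁]

variable (x₀ x₁ h v hv)

lemma comp_tr {T' : Scheme.{u}} (z : T' ⟶ T) :
    z ≫ 𝒮.tr x₀ x₁ h v hv = 𝒮.tr (z ≫ x₀) (z ≫ x₁)
      (by rw [Category.assoc, Category.assoc, h]) (z ≫ v) (by rw [Category.assoc, hv]) :=
  𝒮.tr_eq_of_comp z rfl rfl rfl

end Tr

/-! ### reflexivity -/

instance : Flat (𝒮.π₁ ≫ 𝒮.p) := inferInstance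

lemma tr_self_univ :
    𝒮.tr 𝒮.π₁ 𝒮.π₁ rfl (𝟙 𝒮.E₁) (Category.id_comp _) = 𝟙 𝒮.E₁ := by
  have hcond : (pullback.fst (𝒮.π₁ ≫ 𝒮.p) 𝒮.j ≫ 𝒮.π₁) ≫ 𝒮.p =
      pullback.snd (𝒮.π₁ ≫ 𝒮.p) 𝒮.j ≫ 𝒮.j :=
    (Category.assoc _ _ _).trans pullback.condition
  obtain ⟨u₀, hu₀, -⟩ := 𝒮.exists_isW_of_lift (pullback.fst (𝒮.π₁ ≫ 𝒮.p) 𝒮.j ≫ 𝟙 𝒮.E₁)
    (𝒮.hsq.lift (pullback.fst (𝒮.π₁ ≫ 𝒮.p) 𝒮.j ≫ 𝒮.π₁) (pullback.snd (𝒮.π₁ ≫ 𝒮.p) 𝒮.j) hcond)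
    ((congrArg (· ≫ 𝒮.π₁) (Category.comp_id _)).trans (𝒮.hsq.lift_fst _ _ _).symm)
  symm
  apply 𝒮.KL_unique 𝒮.π₁ (𝟙 _) _ (Category.id_comp _) (𝒮.tr_hom _ _ _ _ _) u₀ hu₀
  rw [𝒮.comp_tr]
  exact 𝒮.tr_isW _ _ _ _ _ u₀ hu₀

lemma tr_self {T : Scheme.{u}} (x : T ⟶ 𝒮.Y₁) (v : T ⟶ 𝒮.E₁) (hv : v ≫ 𝒮.π₁ = x) :
    𝒮.tr x x rfl v hv = v :=
  (𝒮.tr_eq_of_comp v hv hv (Category.comp_id v)).symm.trans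
    ((congrArg (v ≫ ·) 𝒮.tr_self_univ).trans (Category.comp_id v))

/-! ### transitivity -/

abbrev A₃ : Scheme.{u} := pullback 𝒮.cA 𝒮.pr₁
abbrev m₀ : 𝒮.A₃ ⟶ 𝒮.A := pullback.fst 𝒮.cA 𝒮.pr₁
abbrev n₀ : 𝒮.A₃ ⟶ 𝒮.Y₂ := pullback.snd 𝒮.cA 𝒮.pr₁
/-- universal first point -/
def X₀ : 𝒮.A₃ ⟶ 𝒮.Y₁ := 𝒮.m₀ ≫ 𝒮.a₂ ≫ 𝒮.pr₁
/-- universal second point -/
def X₁ : 𝒮.A₃ ⟶ 𝒮.Y₁ := 𝒮.n₀ ≫ 𝒮.pr₁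
/-- universal third point -/
def X₂ : 𝒮.A₃ ⟶ 𝒮.Y₁ := 𝒮.n₀ ≫ 𝒮.pr₂
/-- universal point of `E₁` -/
def V₀ : 𝒮.A₃ ⟶ 𝒮.E₁ := 𝒮.m₀ ≫ 𝒮.a₁

lemma X₀_def : 𝒮.X₀ = 𝒮.m₀ ≫ 𝒮.a₂ ≫ 𝒮.pr₁ := rfl
lemma X₁_def : 𝒮.X₁ = 𝒮.n₀ ≫ 𝒮.pr₁ := rfl
lemma X₂_def : 𝒮.X₂ = 𝒮.n₀ ≫ 𝒮.pr₂ := rfl
lemma V₀_def : 𝒮.V₀ = 𝒮.m₀ ≫ 𝒮.a₁ := rfl

lemma mn_cond : 𝒮.m₀ ≫ 𝒮.cA = 𝒮.n₀ ≫ 𝒮.pr₁ := pullback.condition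

lemma hV₀ : 𝒮.V₀ ≫ 𝒮.π₁ = 𝒮.X₀ := by
  rw [V₀_def, X₀_def, Category.assoc, 𝒮.a_cond]

lemma h₀₁ : 𝒮.X₀ ≫ 𝒮.p = 𝒮.X₁ ≫ 𝒮.p := by
  rw [X₀_def, X₁_def, 𝒮.a₂pr₁_p, ← Category.assoc, 𝒮.mn_cond]

lemma h₁₂ : 𝒮.X₁ ≫ 𝒮.p = 𝒮.X₂ ≫ 𝒮.p := by
  rw [X₁_def, X₂_def, Category.assoc, Category.assoc, 𝒮.pr_cond]

instance : Flat 𝒮.n₀ := inferInstance

instance : Flat 𝒮.X₂ := by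
  unfold X₂
  infer_instance

instance : Flat (𝒮.X₂ ≫ 𝒮.p) := inferInstance

lemma tr_tr_univ :
    𝒮.tr 𝒮.X₁ 𝒮.X₂ 𝒮.h₁₂ (𝒮.tr 𝒮.X₀ 𝒮.X₁ 𝒮.h₀₁ 𝒮.V₀ 𝒮.hV₀) (𝒮.tr_hom _ _ _ _ _) =
      𝒮.tr 𝒮.X₀ 𝒮.X₂ (𝒮.h₀₁.trans 𝒮.h₁₂) 𝒮.V₀ 𝒮.hV₀ := by
  have hcond : (pullback.fst (𝒮.X₂ ≫ 𝒮.p) 𝒮.j ≫ 𝒮.X₀) ≫ 𝒮.p =
      pullback.snd (𝒮.X₂ ≫ 𝒮.p) 𝒮.j ≫ 𝒮.j :=
    (Category.assoc _ _ _).trans ((congrArg (pullback.fst (𝒮.X₂ ≫ 𝒮.p) 𝒮.j ≫ ·)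
      (𝒮.h₀₁.trans 𝒮.h₁₂)).trans pullback.condition)
  obtain ⟨u₀, hu₀, -⟩ := 𝒮.exists_isW_of_lift (pullback.fst (𝒮.X₂ ≫ 𝒮.p) 𝒮.j ≫ 𝒮.V₀)
    (𝒮.hsq.lift (pullback.fst (𝒮.X₂ ≫ 𝒮.p) 𝒮.j ≫ 𝒮.X₀) (pullback.snd (𝒮.X₂ ≫ 𝒮.p) 𝒮.j) hcond)
    ((Category.assoc _ _ _).trans ((congrArg (pullback.fst (𝒮.X₂ ≫ 𝒮.p) 𝒮.j ≫ ·) 𝒮.hV₀).trans
      (𝒮.hsq.lift_fst _ _ _).symm))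
  apply 𝒮.KL_unique 𝒮.X₂ _ _ (𝒮.tr_hom _ _ _ _ _) (𝒮.tr_hom _ _ _ _ _) u₀
  · rw [𝒮.comp_tr]
    apply 𝒮.tr_isW
    rw [𝒮.comp_tr]
    exact 𝒮.tr_isW _ _ _ _ _ u₀ hu₀
  · rw [𝒮.comp_tr]
    exact 𝒮.tr_isW _ _ _ _ _ u₀ hu₀

lemma tr_tr {T : Scheme.{u}} (x₀ x₁ x₂ : T ⟶ 𝒮.Y₁) (h₀₁ : x₀ ≫ 𝒮.p = x₁ ≫ 𝒮.p)
    (h₁₂ : x₁ ≫ 𝒮.p = x₂ ≫ 𝒮.p) (v : T ⟶ 𝒮.E₁) (hv : v ≫ 𝒮.π₁ = x₀) :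
    𝒮.tr x₁ x₂ h₁₂ (𝒮.tr x₀ x₁ h₀₁ v hv) (𝒮.tr_hom x₀ x₁ h₀₁ v hv) =
      𝒮.tr x₀ x₂ (h₀₁.trans h₁₂) v hv := by
  have hz : 𝒮.pt x₀ x₁ h₀₁ v hv ≫ 𝒮.cA = pullback.lift x₁ x₂ h₁₂ ≫ 𝒮.pr₁ := by
    rw [pullback.lift_fst, cA_def]
    exact 𝒮.pt_x₁ x₀ x₁ h₀₁ v hv
  have hz1 : pullback.lift (𝒮.pt x₀ x₁ h₀₁ v hv) (pullback.lift x₁ x₂ h₁₂) hz ≫ 𝒮.m₀ =
      𝒮.pt x₀ x₁ h₀₁ v hv := pullback.lift_fst _ _ _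
  have hz2 : pullback.lift (𝒮.pt x₀ x₁ h₀₁ v hv) (pullback.lift x₁ x₂ h₁₂) hz ≫ 𝒮.n₀ =
      pullback.lift x₁ x₂ h₁₂ := pullback.lift_snd _ _ _
  have e0 : pullback.lift (𝒮.pt x₀ x₁ h₀₁ v hv) (pullback.lift x₁ x₂ h₁₂) hz ≫ 𝒮.X₀ = x₀ := by
    rw [X₀_def, ← Category.assoc, hz1, 𝒮.pt_x₀]
  have e1 : pullback.lift (𝒮.pt x₀ x₁ h₀₁ v hv) (pullback.lift x₁ x₂ h₁₂) hz ≫ 𝒮.X₁ = x₁ := by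
    rw [X₁_def, ← Category.assoc, hz2, pullback.lift_fst]
  have e2 : pullback.lift (𝒮.pt x₀ x₁ h₀₁ v hv) (pullback.lift x₁ x₂ h₁₂) hz ≫ 𝒮.X₂ = x₂ := by
    rw [X₂_def, ← Category.assoc, hz2, pullback.lift_snd]
  have ev : pullback.lift (𝒮.pt x₀ x₁ h₀₁ v hv) (pullback.lift x₁ x₂ h₁₂) hz ≫ 𝒮.V₀ = v := by
    rw [V₀_def, ← Category.assoc, hz1, 𝒮.pt_a₁]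
  exact (𝒮.tr_eq_of_comp _ e1 e2 (𝒮.tr_eq_of_comp _ e0 e1 ev)).symm.trans
    ((congrArg (pullback.lift (𝒮.pt x₀ x₁ h₀₁ v hv) (pullback.lift x₁ x₂ h₁₂) hz ≫ ·)
      𝒮.tr_tr_univ).trans (𝒮.tr_eq_of_comp _ e0 e2 ev))

/-! ### the descent datum -/

/-- the descent datum on `E₁` relative to `p` -/
def DD : Desc.SchDD 𝒮.p :=
  DescAff.mkDD (Over.mk 𝒮.π₁) (fun _ x₀ x₁ h v hv => 𝒮.tr x₀ x₁ h v hv)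
    (fun _ x₀ x₁ h v hv => 𝒮.tr_hom x₀ x₁ h v hv)
    (fun _ _ g _ _ _ _ _ _ _ => 𝒮.tr_eq_of_comp g rfl rfl rfl)
    (fun _ x v hv => 𝒮.tr_self x v hv)
    (fun _ x₀ x₁ x₂ h₀₁ h₁₂ v hv => 𝒮.tr_tr x₀ x₁ x₂ h₀₁ h₁₂ v hv)

lemma DD_obj : 𝒮.DD.obj = Over.mk 𝒮.π₁ := rfl

lemma DD_φ {T : Scheme.{u}} (x₀ x₁ : T ⟶ 𝒮.Y₁) (h : x₀ ≫ 𝒮.p = x₁ ≫ 𝒮.p)
    (v : Desc.Lifts 𝒮.DD.obj x₀) :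
    (𝒮.DD.φ x₀ x₁ h v).1 = 𝒮.tr x₀ x₁ h v.1 v.2 := rfl

end

end Setup

end Groth.Agent.Helper8.PurDesc
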