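import Mathlib
import Groth.Agent.Helper8.PurDescC
import Groth.Agent.Helper8.FinDesc

/-!
# Descending the finite étale cover and identifying its restriction

In the setting of `PurDescC`, the descent datum `DD` on `E₁` is effective; the descended scheme `Ē ⟶ Y` is
finite étale and its restriction to `U` is isomorphic to `W`.
-/

set_option autoImplicit false
set_option linter.unusedSectionVars false
universe u

open AlgebraicGeometry CategoryTheory CategoryTheory.Limits TopologicalSpace Opposite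

namespace Groth.Agent.Helper8.PurDesc

theorem univSubmersive_of_fpqc {Y₁ Y : Scheme.{u}} (p : Y₁ ⟶ Y) [Flat p] [Surjective p]
    [QuasiCompact p] : SGA1.UnivSubmersive p := by
  intro X' Y' i₁ i₂ f' h
  haveI : Flat f' := MorphismProperty.of_isPullback (P := @Flat) h.flip inferInstance
  haveI : Surjective f' := MorphismProperty.of_isPullback (P := @Surjective) h.flip inferInstance
  haveI : QuasiCompact f' :=
    MorphismProperty.of_isPullback (P := @QuasiCompact) h.flip inferInstance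
  exact Flat.isQuotientMap_of_surjective f'

namespace Setup

variable (𝒮 : Setup.{u})

instance : Flat 𝒮.pU := MorphismProperty.of_isPullback (P := @Flat) 𝒮.hsq inferInstance

instance : Surjective 𝒮.pU :=
  MorphismProperty.of_isPullback (P := @Surjective) 𝒮.hsq inferInstance

instance : QuasiCompact 𝒮.pU :=
  MorphismProperty.of_isPullback (P := @QuasiCompact) 𝒮.hsq inferInstance

instance : Flat 𝒮.w := MorphismProperty.of_isPullback (P := @Flat) 𝒮.hcart.flip inferInstance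

instance : Surjective 𝒮.w :=
  MorphismProperty.of_isPullback (P := @Surjective) 𝒮.hcart.flip inferInstance

instance : QuasiCompact 𝒮.w :=
  MorphismProperty.of_isPullback (P := @QuasiCompact) 𝒮.hcart.flip inferInstance

theorem exists_descent : ∃ (Ē : Scheme.{u}) (β : Ē ⟶ 𝒮.Y), IsFinite β ∧ Etale β ∧
    ∃ ζ : pullback β 𝒮.j ⟶ 𝒮.W, IsIso ζ ∧ ζ ≫ 𝒮.ω = pullback.snd β 𝒮.j := by
  haveI : IsAffineHom 𝒮.DD.obj.hom := (inferInstance : IsAffineHom 𝒮.π₁)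
  obtain ⟨Ebar, ⟨e⟩⟩ := DescAff.effective_of_isAffineHom 𝒮.p 𝒮.DD
  -- the comparison isomorphism
  let ε : pullback 𝒮.p Ebar.hom ⟶ 𝒮.E₁ := e.hom.hom.left
  have hε : ε ≫ 𝒮.π₁ = pullback.fst 𝒮.p Ebar.hom := Over.w e.hom.hom
  haveI : IsIso ε := by
    refine ⟨e.inv.hom.left, ?_, ?_⟩
    · have h1 : e.hom.hom ≫ e.inv.hom = 𝟙 _ := by
        rw [← Desc.SchDD.comp_hom, e.hom_inv_id, Desc.SchDD.id_hom]
      have h2 := congrArg CommaMorphism.left h1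
      have h3 : e.hom.hom.left ≫ e.inv.hom.left = 𝟙 _ := by simpa using h2
      exact h3
    · have h1 : e.inv.hom ≫ e.hom.hom = 𝟙 _ := by
        rw [← Desc.SchDD.comp_hom, e.inv_hom_id, Desc.SchDD.id_hom]
      have h2 := congrArg CommaMorphism.left h1
      have h3 : e.inv.hom.left ≫ e.hom.hom.left = 𝟙 _ := by simpa using h2
      exact h3
  -- finite étale
  haveI hfe : Etale (pullback.fst 𝒮.p Ebar.hom) := by
    rw [← hε]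
    infer_instance
  haveI hff : IsFinite (pullback.fst 𝒮.p Ebar.hom) := by
    rw [← hε]
    infer_instance
  haveI hβe : Etale Ebar.hom :=
    MorphismProperty.of_pullback_fst_of_descendsAlong (P := @Etale)
      (Q := @Surjective ⊓ @Flat ⊓ @QuasiCompact) (f := 𝒮.p) (g := Ebar.hom)
      ⟨⟨inferInstance, inferInstance⟩, inferInstance⟩ hfe
  haveI : IsFinite (pullback.snd Ebar.hom 𝒮.p) := by
    rw [← pullbackSymmetry_hom_comp_fst]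
    infer_instance
  have hβf : IsFinite Ebar.hom := FinDesc.main 𝒮.p (univSubmersive_of_fpqc 𝒮.p) Ebar.hom
  refine ⟨Ebar.left, Ebar.hom, hβf, hβe, ?_⟩
  -- the cover `Q` of the restriction
  have hρ₀ : (pullback.snd (pullback.snd Ebar.hom 𝒮.j) 𝒮.pU ≫ 𝒮.j₁) ≫ 𝒮.p =
      (pullback.fst (pullback.snd Ebar.hom 𝒮.j) 𝒮.pU ≫ pullback.fst Ebar.hom 𝒮.j) ≫ Ebar.hom := by
    rw [Category.assoc, 𝒮.hsq.w, ← Category.assoc, ← pullback.condition, Category.assoc,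
      Category.assoc, pullback.condition]
  let ρ₀ : pullback (pullback.snd Ebar.hom 𝒮.j) 𝒮.pU ⟶ pullback 𝒮.p Ebar.hom :=
    pullback.lift (pullback.snd (pullback.snd Ebar.hom 𝒮.j) 𝒮.pU ≫ 𝒮.j₁)
      (pullback.fst (pullback.snd Ebar.hom 𝒮.j) 𝒮.pU ≫ pullback.fst Ebar.hom 𝒮.j) hρ₀
  have hρ₀1 : ρ₀ ≫ pullback.fst 𝒮.p Ebar.hom =
      pullback.snd (pullback.snd Ebar.hom 𝒮.j) 𝒮.pU ≫ 𝒮.j₁ := pullback.lift_fst _ _ _
  have hρ₀2 : ρ₀ ≫ pullback.snd 𝒮.p Ebar.hom =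
      pullback.fst (pullback.snd Ebar.hom 𝒮.j) 𝒮.pU ≫ pullback.fst Ebar.hom 𝒮.j :=
    pullback.lift_snd _ _ _
  have hρ : (ρ₀ ≫ ε) ≫ 𝒮.π₁ = pullback.snd (pullback.snd Ebar.hom 𝒮.j) 𝒮.pU ≫ 𝒮.j₁ := by
    rw [Category.assoc, hε, hρ₀1]
  obtain ⟨e₀, he₀, he₀ω⟩ := 𝒮.exists_isW_of_lift (ρ₀ ≫ ε)
    (pullback.snd (pullback.snd Ebar.hom 𝒮.j) 𝒮.pU) hρ
  obtain ⟨θ, hθ1, hθ2⟩ := he₀
  have hθq : θ ≫ 𝒮.qU = pullback.snd (pullback.snd Ebar.hom 𝒮.j) 𝒮.pU := by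
    rw [← cancel_mono 𝒮.j₁, Category.assoc, ← 𝒮.hE.w, ← Category.assoc, hθ1, hρ]
  -- the equalizing condition
  have heq : ∀ {T : Scheme.{u}} (g₁ g₂ : T ⟶ pullback (pullback.snd Ebar.hom 𝒮.j) 𝒮.pU),
      g₁ ≫ pullback.fst (pullback.snd Ebar.hom 𝒮.j) 𝒮.pU =
        g₂ ≫ pullback.fst (pullback.snd Ebar.hom 𝒮.j) 𝒮.pU → g₁ ≫ e₀ = g₂ ≫ e₀ := by
    intro T g₁ g₂ hg
    have key : ∀ (g : T ⟶ pullback (pullback.snd Ebar.hom 𝒮.j) 𝒮.pU),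
        (g ≫ pullback.snd (pullback.snd Ebar.hom 𝒮.j) 𝒮.pU ≫ 𝒮.j₁) ≫ 𝒮.p =
          (g ≫ pullback.fst (pullback.snd Ebar.hom 𝒮.j) 𝒮.pU) ≫
            pullback.fst Ebar.hom 𝒮.j ≫ Ebar.hom := by
      intro g
      calc (g ≫ pullback.snd (pullback.snd Ebar.hom 𝒮.j) 𝒮.pU ≫ 𝒮.j₁) ≫ 𝒮.p
          = g ≫ ((pullback.snd (pullback.snd Ebar.hom 𝒮.j) 𝒮.pU ≫ 𝒮.j₁) ≫ 𝒮.p) := by
            simp only [Category.assoc]
        _ = g ≫ ((pullback.fst (pullback.snd Ebar.hom 𝒮.j) 𝒮.pU ≫ pullback.fst Ebar.hom 𝒮.j) ≫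
              Ebar.hom) := by rw [hρ₀]
        _ = _ := by simp only [Category.assoc]
    have hx : (g₁ ≫ pullback.snd (pullback.snd Ebar.hom 𝒮.j) 𝒮.pU ≫ 𝒮.j₁) ≫ 𝒮.p =
        (g₂ ≫ pullback.snd (pullback.snd Ebar.hom 𝒮.j) 𝒮.pU ≫ 𝒮.j₁) ≫ 𝒮.p :=
      (key g₁).trans ((congrArg (· ≫ pullback.fst Ebar.hom 𝒮.j ≫ Ebar.hom) hg).trans (key g₂).symm)
    have hv₁ : (g₁ ≫ ρ₀) ≫ pullback.fst 𝒮.p Ebar.hom =
        g₁ ≫ pullback.snd (pullback.snd Ebar.hom 𝒮.j) 𝒮.pU ≫ 𝒮.j₁ := by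
      rw [Category.assoc, hρ₀1]
    have hw₁ : (g₁ ≫ ρ₀ ≫ ε) ≫ 𝒮.π₁ =
        g₁ ≫ pullback.snd (pullback.snd Ebar.hom 𝒮.j) 𝒮.pU ≫ 𝒮.j₁ := by
      rw [Category.assoc, hρ]
    have hcomm := e.hom.comm (g₁ ≫ pullback.snd (pullback.snd Ebar.hom 𝒮.j) 𝒮.pU ≫ 𝒮.j₁)
      (g₂ ≫ pullback.snd (pullback.snd Ebar.hom 𝒮.j) 𝒮.pU ≫ 𝒮.j₁) hx ⟨g₁ ≫ ρ₀, hv₁⟩
      ⟨g₁ ≫ ρ₀ ≫ ε, hw₁⟩ (Category.assoc _ _ _).symm
    have hR : (((Desc.toDD 𝒮.p).obj Ebar).φ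
        (g₁ ≫ pullback.snd (pullback.snd Ebar.hom 𝒮.j) 𝒮.pU ≫ 𝒮.j₁)
        (g₂ ≫ pullback.snd (pullback.snd Ebar.hom 𝒮.j) 𝒮.pU ≫ 𝒮.j₁) hx ⟨g₁ ≫ ρ₀, hv₁⟩).1 =
        g₂ ≫ ρ₀ := by
      show (Desc.canMap 𝒮.p Ebar _ _ hx ⟨g₁ ≫ ρ₀, hv₁⟩).1 = g₂ ≫ ρ₀
      rw [Desc.canMap_val]
      apply pullback.hom_ext
      · rw [pullback.lift_fst, Category.assoc, hρ₀1]
      · rw [pullback.lift_snd, Category.assoc, Category.assoc, hρ₀2, ← Category.assoc,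
          ← Category.assoc g₂, hg]
    have hL : (𝒮.DD.φ (g₁ ≫ pullback.snd (pullback.snd Ebar.hom 𝒮.j) 𝒮.pU ≫ 𝒮.j₁)
        (g₂ ≫ pullback.snd (pullback.snd Ebar.hom 𝒮.j) 𝒮.pU ≫ 𝒮.j₁) hx ⟨g₁ ≫ ρ₀ ≫ ε, hw₁⟩).1 =
        𝒮.tr _ _ hx (g₁ ≫ ρ₀ ≫ ε) hw₁ := rfl
    have htr : 𝒮.tr _ _ hx (g₁ ≫ ρ₀ ≫ ε) hw₁ = g₂ ≫ ρ₀ ≫ ε := by
      rw [← hL, hcomm, hR]
      exact Category.assoc _ _ _
    have h1 : 𝒮.IsW (g₁ ≫ ρ₀ ≫ ε) (g₁ ≫ e₀) := 𝒮.isW_comp g₁ ⟨θ, hθ1, hθ2⟩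
    have h2 : 𝒮.IsW (g₂ ≫ ρ₀ ≫ ε) (g₂ ≫ e₀) := 𝒮.isW_comp g₂ ⟨θ, hθ1, hθ2⟩
    have h3 := 𝒮.tr_isW _ _ hx (g₁ ≫ ρ₀ ≫ ε) hw₁ (g₁ ≫ e₀) h1
    rw [htr] at h3
    exact 𝒮.isW_unique h3 h2
  -- the descended morphism
  let ζ : pullback Ebar.hom 𝒮.j ⟶ 𝒮.W :=
    EffectiveEpi.desc (pullback.fst (pullback.snd Ebar.hom 𝒮.j) 𝒮.pU) e₀ heq
  have hζ : pullback.fst (pullback.snd Ebar.hom 𝒮.j) 𝒮.pU ≫ ζ = e₀ := EffectiveEpi.fac _ _ _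
  have hζω : ζ ≫ 𝒮.ω = pullback.snd Ebar.hom 𝒮.j := by
    rw [← cancel_epi (pullback.fst (pullback.snd Ebar.hom 𝒮.j) 𝒮.pU), ← Category.assoc, hζ, he₀ω,
      pullback.condition]
  refine ⟨ζ, ?_, hζω⟩
  -- `Q` is the pullback of `π₁` and `j₁`
  have hQ1 : IsPullback
      (pullback.fst (pullback.snd Ebar.hom 𝒮.j) 𝒮.pU ≫ pullback.fst Ebar.hom 𝒮.j)
      (pullback.snd (pullback.snd Ebar.hom 𝒮.j) 𝒮.pU) Ebar.hom (𝒮.pU ≫ 𝒮.j) :=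
    (IsPullback.of_hasPullback (pullback.snd Ebar.hom 𝒮.j) 𝒮.pU).paste_horiz
      (IsPullback.of_hasPullback Ebar.hom 𝒮.j)
  rw [← hρ₀2, ← 𝒮.hsq.w] at hQ1
  have hQ2 : IsPullback ρ₀ (pullback.snd (pullback.snd Ebar.hom 𝒮.j) 𝒮.pU)
      (pullback.fst 𝒮.p Ebar.hom) 𝒮.j₁ :=
    IsPullback.of_right hQ1 hρ₀1 (IsPullback.of_hasPullback 𝒮.p Ebar.hom).flip
  have hQ3 : IsPullback (ρ₀ ≫ ε) (pullback.snd (pullback.snd Ebar.hom 𝒮.j) 𝒮.pU) 𝒮.π₁ 𝒮.j₁ :=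
    hQ2.of_iso (Iso.refl _) (asIso ε) (Iso.refl _) (Iso.refl _) (by simp) (by simp)
      (by simp [hε]) (by simp)
  have hθ : θ = (hQ3.isoIsPullback _ _ 𝒮.hE).hom := by
    apply 𝒮.hE.hom_ext
    · rw [hθ1, IsPullback.isoIsPullback_hom_fst]
    · rw [hθq, IsPullback.isoIsPullback_hom_snd]
  haveI : IsIso θ := by
    rw [hθ]
    infer_instance
  have hbig : IsPullback (θ ≫ 𝒮.qU) (pullback.fst (pullback.snd Ebar.hom 𝒮.j) 𝒮.pU) 𝒮.pU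
      (ζ ≫ 𝒮.ω) := by
    rw [hθq, hζω]
    exact (IsPullback.of_hasPullback (pullback.snd Ebar.hom 𝒮.j) 𝒮.pU).flip
  have hsq' : IsPullback θ (pullback.fst (pullback.snd Ebar.hom 𝒮.j) 𝒮.pU) 𝒮.w ζ :=
    IsPullback.of_right hbig (hθ2.trans hζ.symm) 𝒮.hcart.flip
  have := MorphismProperty.of_isPullback_of_descendsAlong
    (P := MorphismProperty.isomorphisms Scheme.{u}) (Q := @Surjective ⊓ @Flat ⊓ @QuasiCompact)
    hsq' ⟨⟨inferInstance, inferInstance⟩, inferInstance⟩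
    ((MorphismProperty.isomorphisms.iff _).mpr inferInstance)
  exact (MorphismProperty.isomorphisms.iff _).mp this

end Setup

end Groth.Agent.Helper8.PurDesc
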