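import Mathlib
import Groth.Agent.Helper8.PurDescD
import Groth.Prelude.Def_SGA2

/-!
# Descent of purity along an fpqc morphism

`isEquivalence_restrict`: `Y` locally Noetherian, `j : U ⟶ Y` an open immersion whose complement consists
of points of depth `≥ 2`, `p : Y₁ ⟶ Y` fpqc with base change `j₁ : U₁ ⟶ Y₁` of `j`.  If restriction of
finite étale covers along `j₁` is essentially surjective, then restriction along `j` is an equivalence.

`isPurePair_of_fpqc`: S2937.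
-/

set_option autoImplicit false
set_option linter.unusedSectionVars false
universe u

open AlgebraicGeometry CategoryTheory CategoryTheory.Limits TopologicalSpace Opposite

namespace Groth.Agent.Helper8.PurDesc

theorem isEquivalence_restrict {Y Y₁ U U₁ : Scheme.{u}} [IsLocallyNoetherian Y]
    (j : U ⟶ Y) [IsOpenImmersion j]
    (hd : ∀ y : Y, y ∉ Set.range j →
      (2 : ℕ∞) ≤ LocCoh.depth (Y.presheaf.stalk y) (Y.presheaf.stalk y))
    (p : Y₁ ⟶ Y) [Flat p] [Surjective p] [QuasiCompact p]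
    (j₁ : U₁ ⟶ Y₁) (pU : U₁ ⟶ U) (hsq : IsPullback j₁ pU p j)
    (hess : (FEt.restrict j₁).EssSurj) : (FEt.restrict j).IsEquivalence := by
  have hHj : HasH j := hasH_of_depth j hd
  have hH : ∀ {T : Scheme.{u}} (g : T ⟶ Y) [Flat g], HasH (pullback.fst g j) := fun g _ =>
    hasH_of_flat j hHj g (pullback.fst g j) (pullback.snd g j)
      (IsPullback.of_hasPullback g j).flip
  obtain ⟨hfull, hfaith⟩ := FEtFF.main j hHj
  haveI : (FEt.restrict j).EssSurj := by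
    constructor
    intro Wobj
    haveI : IsFinite Wobj.hom := Wobj.prop.1
    haveI : Etale Wobj.hom := Wobj.prop.2
    obtain ⟨E₁obj, ⟨α⟩⟩ := hess.mem_essImage ((FEt.restrict pU).obj Wobj)
    haveI : IsFinite E₁obj.hom := E₁obj.prop.1
    haveI : Etale E₁obj.hom := E₁obj.prop.2
    let αL : pullback E₁obj.hom j₁ ≅ pullback Wobj.hom pU :=
      (MorphismProperty.Over.forget FEt.prop ⊤ U₁ ⋙ Over.forget U₁).mapIso α
    have hαL : αL.hom ≫ pullback.snd Wobj.hom pU = pullback.snd E₁obj.hom j₁ :=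
      Over.w α.hom.hom
    have hcw : (αL.hom ≫ pullback.fst Wobj.hom pU) ≫ Wobj.hom =
        pullback.snd E₁obj.hom j₁ ≫ pU := by
      rw [Category.assoc, pullback.condition, ← Category.assoc, hαL]
    have hcart : IsPullback (αL.hom ≫ pullback.fst Wobj.hom pU) (pullback.snd E₁obj.hom j₁)
        Wobj.hom pU := IsPullback.of_iso_pullback ⟨hcw⟩ αL rfl hαL
    let 𝒮 : Setup.{u} :=
      { p := p, j := j, j₁ := j₁, pU := pU, hsq := hsq, π₁ := E₁obj.hom, ω := Wobj.hom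
        eU := pullback.fst E₁obj.hom j₁, qU := pullback.snd E₁obj.hom j₁
        hE := IsPullback.of_hasPullback _ _
        w := αL.hom ≫ pullback.fst Wobj.hom pU
        hcart := hcart
        openImm := inferInstance, flat := inferInstance, surj := inferInstance
        qc := inferInstance, fin := inferInstance, et := inferInstance
        hH := hH }
    obtain ⟨Ē, β, hβf, hβe, ζ, hζ, hζω⟩ := 𝒮.exists_descent
    exact ⟨MorphismProperty.Over.mk ⊤ β ⟨hβf, hβe⟩,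
      ⟨MorphismProperty.Over.isoMk (@asIso _ _ _ _ ζ hζ) hζω⟩⟩
  exact { faithful := hfaith, full := hfull, essSurj := inferInstance }

/-- **descent of purity along a faithfully flat quasi-compact morphism** (S2937) -/
theorem isPurePair_of_fpqc (X X₁ : Scheme.{u}) [IsLocallyNoetherian X] (U : X.Opens)
    (hU : ∀ x : X, x ∉ U →
      (2 : ℕ∞) ≤ LocCoh.depth (X.presheaf.stalk x) (X.presheaf.stalk x))
    (f : X₁ ⟶ X) [Flat f] [Surjective f] [QuasiCompact f]
    (h : SGA2.IsPurePair X₁ (f ⁻¹ᵁ U)) : SGA2.IsPurePair X U := by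
  intro V
  haveI : Flat (f ∣_ V) := IsZariskiLocalAtTarget.restrict (P := @Flat) inferInstance V
  haveI : Surjective (f ∣_ V) :=
    IsZariskiLocalAtTarget.restrict (P := @Surjective) inferInstance V
  haveI : QuasiCompact (f ∣_ V) :=
    IsZariskiLocalAtTarget.restrict (P := @QuasiCompact) inferInstance V
  have hle : f ⁻¹ᵁ V ⊓ f ⁻¹ᵁ U ≤ f ⁻¹ᵁ (V ⊓ U) := le_of_eq rfl
  -- the depth condition on `V`
  have hd : ∀ y : (V : Scheme.{u}), y ∉ Set.range (X.homOfLE (inf_le_left : V ⊓ U ≤ V)) →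
      (2 : ℕ∞) ≤ LocCoh.depth ((V : Scheme.{u}).presheaf.stalk y)
        ((V : Scheme.{u}).presheaf.stalk y) := by
    intro y hy
    have hyU : V.ι y ∉ U := by
      intro hyU
      apply hy
      refine ⟨⟨V.ι y, ⟨y.2, hyU⟩⟩, ?_⟩
      apply V.ι.isEmbedding.injective
      rw [← Scheme.Hom.comp_apply, Scheme.homOfLE_ι]
      rfl
    have e := (asIso (V.ι.stalkMap y)).commRingCatIsoToRingEquiv
    rw [← Groth.Agent.Lead.PuncSec.depth_eq_of_ringEquiv e]
    exact hU _ hyU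
  -- the cartesian square
  have hsq : IsPullback (X₁.homOfLE (inf_le_left : f ⁻¹ᵁ V ⊓ f ⁻¹ᵁ U ≤ f ⁻¹ᵁ V))
      (f.resLE (V ⊓ U) (f ⁻¹ᵁ V ⊓ f ⁻¹ᵁ U) hle) (f ∣_ V)
      (X.homOfLE (inf_le_left : V ⊓ U ≤ V)) := by
    refine (IsOpenImmersion.isPullback _ _ _ _ ?_ ?_).flip
    · rw [← cancel_mono V.ι]
      simp
    · apply (f ⁻¹ᵁ V).ι.image_injective
      ext x
      simp only [Scheme.opensRange_homOfLE]
      constructor
      · rintro ⟨y, hy, rfl⟩
        refine ⟨y, ?_, rfl⟩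
        have hy' : (f ∣_ V) y ∈ V.ι ⁻¹ᵁ (V ⊓ U) := hy
        have h2 : V.ι ((f ∣_ V) y) = f ((f ⁻¹ᵁ V).ι y) := by
          rw [← Scheme.Hom.comp_apply, morphismRestrict_ι, Scheme.Hom.comp_apply]
        have h3 : V.ι ((f ∣_ V) y) ∈ V ⊓ U := hy'
        rw [h2] at h3
        exact ⟨y.2, h3.2⟩
      · rintro ⟨y, hy, rfl⟩
        refine ⟨y, ?_, rfl⟩
        have hy' : (f ⁻¹ᵁ V).ι y ∈ f ⁻¹ᵁ V ⊓ f ⁻¹ᵁ U := hy
        show V.ι ((f ∣_ V) y) ∈ V ⊓ U
        have h2 : V.ι ((f ∣_ V) y) = f ((f ⁻¹ᵁ V).ι y) := by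
          rw [← Scheme.Hom.comp_apply, morphismRestrict_ι, Scheme.Hom.comp_apply]
        rw [h2]
        exact ⟨hy'.1, hy'.2⟩
  have hess : (FEt.restrict
      (X₁.homOfLE (inf_le_left : f ⁻¹ᵁ V ⊓ f ⁻¹ᵁ U ≤ f ⁻¹ᵁ V))).EssSurj := by
    haveI := h (f ⁻¹ᵁ V)
    infer_instance
  exact isEquivalence_restrict (X.homOfLE (inf_le_left : V ⊓ U ≤ V)) hd (f ∣_ V)
    (X₁.homOfLE (inf_le_left : f ⁻¹ᵁ V ⊓ f ⁻¹ᵁ U ≤ f ⁻¹ᵁ V))
    (f.resLE (V ⊓ U) (f ⁻¹ᵁ V ⊓ f ⁻¹ᵁ U) hle) hsq hess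

end Groth.Agent.Helper8.PurDesc
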