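import Mathlib
import Groth.Agent.Helper8.CharSplit

/-!
# Pure descent: the module-theoretic core

Let `Sg` be an `R`-module with an element `e` such that `r ↦ r • e` is universally injective,
expressed by an `R`-linear section `σ` of the induced map on character modules. Then
`Sg ⊗_R -` preserves the equalizer of a pair of maps which becomes a split pair after tensoring.
-/

set_option autoImplicit false
set_option linter.unusedSectionVars false
set_option linter.unusedVariables false

universe u

open TensorProduct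

noncomputable section

namespace Groth.Agent.Helper8.PureDesc

open CharacterModule

variable {R : Type u} [CommRing R]

section DualLemmas

variable {A B D : Type u} [AddCommGroup A] [Module R A] [AddCommGroup B] [Module R B]
  [AddCommGroup D] [Module R D]

lemma dual_apply' (f : A →ₗ[R] B) (c : CharacterModule B) (a : A) : dual f c a = c (f a) := rfl

/-- the character module functor is exact in the middle -/
lemma exists_dual_eq (ι : A →ₗ[R] B) (d : B →ₗ[R] D) (hex : Function.Exact ι d)
    (α : CharacterModule B) (hα : dual ι α = 0) : ∃ β : CharacterModule D, dual d β = α := by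
  have hker : ∀ b, d b = 0 → α b = 0 := by
    intro b hb
    obtain ⟨a, rfl⟩ := (hex b).mp hb
    exact congrArg (fun c : CharacterModule A => c a) hα
  have hd' : Function.Surjective d.rangeRestrict := d.surjective_rangeRestrict
  let αbar : LinearMap.range d →+ AddCircle (1 : ℚ) :=
    (d.rangeRestrict.toAddMonoidHom).liftOfRightInverse (Function.surjInv hd')
      (Function.rightInverse_surjInv hd')
      ⟨(α : B →+ AddCircle (1 : ℚ)), by
        intro b hb
        rw [AddMonoidHom.mem_ker] at hb ⊢
        apply hker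
        exact congrArg Subtype.val hb⟩
  obtain ⟨β, hβ⟩ := dual_surjective_of_injective (LinearMap.range d).subtype
    (Submodule.injective_subtype _) αbar
  refine ⟨β, ?_⟩
  ext b
  have h1 : β (d b) = αbar (d.rangeRestrict b) :=
    congrArg (fun c : CharacterModule (LinearMap.range d) => c (d.rangeRestrict b)) hβ
  rw [dual_apply', h1]
  exact AddMonoidHom.liftOfRightInverse_comp_apply _ _ _ _ b

end DualLemmas

section Rho

variable {Sg : Type u} [AddCommGroup Sg] [Module R Sg]

variable {X Y : Type u} [AddCommGroup X] [Module R X] [AddCommGroup Y] [Module R Y]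

lemma char_ext_tmul {c c' : CharacterModule (Sg ⊗[R] X)}
    (h : ∀ (s : Sg) (x : X), c (s ⊗ₜ x) = c' (s ⊗ₜ x)) : c = c' := by
  ext z
  induction z using TensorProduct.induction_on with
  | zero => rw [map_zero, map_zero]
  | tmul s x => exact h s x
  | add z₁ z₂ h₁ h₂ => rw [map_add, map_add, h₁, h₂]

lemma uncurry_tmul (L : Sg →ₗ[R] CharacterModule X) (s : Sg) (x : X) :
    uncurry L (s ⊗ₜ x) = L s x := rfl

lemma curry_apply' (χ : CharacterModule (Sg ⊗[R] X)) (s : Sg) (x : X) :
    curry χ s x = χ (s ⊗ₜ x) := rfl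

variable (R) in
/-- the character `r ↦ α (r • x)` of `R` -/
def tw (α : CharacterModule X) (x : X) : CharacterModule R :=
  CharSplit.flip (LinearMap.toSpanSingleton R (CharacterModule X) α) x

lemma tw_apply (α : CharacterModule X) (x : X) (r : R) : tw R α x r = α (r • x) := rfl

lemma tw_add_left (α α' : CharacterModule X) (x : X) :
    tw R (α + α') x = tw R α x + tw R α' x := by
  ext r
  rfl

lemma tw_smul_left (r : R) (α : CharacterModule X) (x : X) :
    tw R (r • α) x = r • tw R α x := by
  ext r'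
  change α (r • r' • x) = α ((r • r') • x)
  rw [smul_assoc]

lemma tw_add_right (α : CharacterModule X) (x x' : X) :
    tw R α (x + x') = tw R α x + tw R α x' :=
  map_add (CharSplit.flip (LinearMap.toSpanSingleton R (CharacterModule X) α)) x x'

lemma tw_smul_right (α : CharacterModule X) (r : R) (x : X) :
    tw R α (r • x) = r • tw R α x :=
  map_smul (CharSplit.flip (LinearMap.toSpanSingleton R (CharacterModule X) α)) r x

lemma tw_dual (h : X →ₗ[R] Y) (β : CharacterModule Y) (x : X) :
    tw R (dual h β) x = tw R β (h x) := by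
  ext r
  change β (h (r • x)) = β (r • h x)
  rw [map_smul]

variable (σ : CharacterModule R →ₗ[R] CharacterModule Sg)

/-- the linear map `Sg → C(X)` attached to a character of `X` -/
def rhoAux (α : CharacterModule X) : Sg →ₗ[R] CharacterModule X :=
  CharSplit.flip (σ ∘ₗ CharSplit.flip (LinearMap.toSpanSingleton R (CharacterModule X) α))

lemma rhoAux_apply (α : CharacterModule X) (s : Sg) (x : X) :
    rhoAux σ α s x = σ (tw R α x) s := rfl

variable (X) in
/-- the natural section of the dual of `x ↦ e ⊗ x` -/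
def rho : CharacterModule X →ₗ[R] CharacterModule (Sg ⊗[R] X) where
  toFun α := uncurry (rhoAux σ α)
  map_add' α α' := by
    apply char_ext_tmul
    intro s x
    change σ (tw R (α + α') x) s = σ (tw R α x) s + σ (tw R α' x) s
    rw [tw_add_left, map_add]
    rfl
  map_smul' r α := by
    apply char_ext_tmul
    intro s x
    change σ (tw R (r • α) x) s = σ (tw R α x) (r • s)
    rw [tw_smul_left, map_smul]
    rfl

lemma rho_tmul (α : CharacterModule X) (s : Sg) (x : X) :
    rho X σ α (s ⊗ₜ x) = σ (tw R α x) s := rfl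

lemma rho_nat (h : X →ₗ[R] Y) (β : CharacterModule Y) :
    rho X σ (dual h β) = dual (LinearMap.lTensor Sg h) (rho Y σ β) := by
  apply char_ext_tmul
  intro s x
  change σ (tw R (dual h β) x) s = σ (tw R β (h x)) s
  rw [tw_dual]

variable (e : Sg)
  (hσ : (dual (LinearMap.toSpanSingleton R Sg e)).comp σ = LinearMap.id)

include hσ in
lemma rho_section (α : CharacterModule X) (x : X) : rho X σ α (e ⊗ₜ x) = α x := by
  rw [rho_tmul]
  have h := congrArg (fun f => f (tw R α x) (1 : R)) hσ
  change σ (tw R α x) ((1 : R) • e) = tw R α x 1 at h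
  rw [one_smul] at h
  rw [h, tw_apply, one_smul]

/-! ### The functor induced on characters of tensor products -/

/-- the map `C(Sg ⊗ X) → C(Sg ⊗ Y)` induced by a linear map `C(X) → C(Y)` -/
def GF (T : CharacterModule X →ₗ[R] CharacterModule Y) (χ : CharacterModule (Sg ⊗[R] X)) :
    CharacterModule (Sg ⊗[R] Y) :=
  uncurry (T ∘ₗ curry χ)

lemma GF_tmul (T : CharacterModule X →ₗ[R] CharacterModule Y) (χ : CharacterModule (Sg ⊗[R] X))
    (s : Sg) (y : Y) : GF T χ (s ⊗ₜ y) = T (curry χ s) y := rfl

lemma GF_id (χ : CharacterModule (Sg ⊗[R] X)) : GF LinearMap.id χ = χ := by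
  apply char_ext_tmul
  intro s x
  rfl

lemma curry_GF (T : CharacterModule X →ₗ[R] CharacterModule Y) (χ : CharacterModule (Sg ⊗[R] X))
    (s : Sg) : curry (GF T χ) s = T (curry χ s) := by
  ext y
  rfl

lemma GF_comp {Z : Type u} [AddCommGroup Z] [Module R Z]
    (T : CharacterModule Y →ₗ[R] CharacterModule Z) (T' : CharacterModule X →ₗ[R] CharacterModule Y)
    (χ : CharacterModule (Sg ⊗[R] X)) : GF (T ∘ₗ T') χ = GF T (GF T' χ) := by
  apply char_ext_tmul
  intro s z
  rw [GF_tmul, GF_tmul, curry_GF]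
  rfl

lemma GF_add (T T' : CharacterModule X →ₗ[R] CharacterModule Y) (χ : CharacterModule (Sg ⊗[R] X)) :
    GF (T + T') χ = GF T χ + GF T' χ := by
  apply char_ext_tmul
  intro s y
  rfl

lemma GF_dual (h : Y →ₗ[R] X) (χ : CharacterModule (Sg ⊗[R] X)) :
    GF (dual h) χ = dual (LinearMap.lTensor Sg h) χ := by
  apply char_ext_tmul
  intro s y
  rfl

end Rho

section Core

variable {Sg : Type u} [AddCommGroup Sg] [Module R Sg] (e : Sg)
  (σ : CharacterModule R →ₗ[R] CharacterModule Sg)
  (hσ : (dual (LinearMap.toSpanSingleton R Sg e)).comp σ = LinearMap.id)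

variable {A B E E' : Type u} [AddCommGroup A] [Module R A] [AddCommGroup B] [Module R B]
  [AddCommGroup E] [Module R E] [AddCommGroup E'] [Module R E']
  (u v : A →ₗ[R] B) (ι : E →ₗ[R] A) (hι : Function.Injective ι)
  (hex : Function.Exact ι (u - v))
  (ι' : E' →ₗ[R] Sg ⊗[R] A) (r : Sg ⊗[R] A →ₗ[R] E') (t : Sg ⊗[R] B →ₗ[R] Sg ⊗[R] A)
  (h1 : ∀ z, LinearMap.lTensor Sg u (ι' z) = LinearMap.lTensor Sg v (ι' z))
  (h3 : ∀ z, t (LinearMap.lTensor Sg v z) = z)
  (h4 : ∀ z, t (LinearMap.lTensor Sg u z) = ι' (r z))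

/-- the unit `x ↦ e ⊗ x` -/
def eta (X : Type u) [AddCommGroup X] [Module R X] : X →ₗ[R] Sg ⊗[R] X := TensorProduct.mk R Sg X e

/-- the idempotent-like endomorphism `P` of `C(A)` -/
def PP : CharacterModule A →ₗ[R] CharacterModule A :=
  dual (eta e A) ∘ₗ dual r ∘ₗ dual ι' ∘ₗ rho A σ

lemma PP_apply (α : CharacterModule A) (a : A) :
    PP e σ ι' r α a = rho A σ α (ι' (r (e ⊗ₜ a))) := rfl

/-- the homotopy `s₁ : C(A) → C(B)` -/
def s1 : CharacterModule A →ₗ[R] CharacterModule B :=
  -(dual (eta e B) ∘ₗ dual t ∘ₗ rho A σ)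

lemma s1_apply (α : CharacterModule A) (b : B) :
    s1 e σ t α b = -(rho A σ α (t (e ⊗ₜ b))) := rfl

include hσ h3 h4 in
lemma dual_d_s1 (α : CharacterModule A) :
    dual (u - v) (s1 e σ t α) = α - PP e σ ι' r α := by
  ext a
  have h : t (e ⊗ₜ[R] ((u - v) a)) = ι' (r (e ⊗ₜ a)) - e ⊗ₜ a := by
    have hu := h4 (e ⊗ₜ a)
    have hv := h3 (e ⊗ₜ a)
    rw [LinearMap.lTensor_tmul] at hu hv
    rw [LinearMap.sub_apply, TensorProduct.tmul_sub, map_sub, hu, hv]
  change -(rho A σ α (t (e ⊗ₜ ((u - v) a)))) = α a - rho A σ α (ι' (r (e ⊗ₜ a)))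
  rw [h, map_sub, rho_section σ e hσ]
  abel

include h1 in
lemma PP_dual_d (β : CharacterModule B) : PP e σ ι' r (dual (u - v) β) = 0 := by
  ext a
  change rho A σ (dual (u - v) β) (ι' (r (e ⊗ₜ a))) = 0
  rw [rho_nat]
  change rho B σ β (LinearMap.lTensor Sg (u - v) (ι' (r (e ⊗ₜ a)))) = 0
  have : LinearMap.lTensor Sg (u - v) (ι' (r (e ⊗ₜ a))) = 0 := by
    rw [LinearMap.lTensor_sub, LinearMap.sub_apply, h1, sub_self]
  rw [this, map_zero]

include h1 hex in
lemma PP_ker (α : CharacterModule A) (hα : dual ι α = 0) : PP e σ ι' r α = 0 := by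
  obtain ⟨β, rfl⟩ := exists_dual_eq ι (u - v) hex α hα
  exact PP_dual_d e σ u v ι' r h1 β

/-- the section `s₀ : C(E) → C(A)` -/
def s0 : CharacterModule E →ₗ[R] CharacterModule A :=
  ((LinearMap.ker (dual ι)).liftQ (PP e σ ι' r) (fun α hα => by
      rw [LinearMap.mem_ker] at hα ⊢
      exact PP_ker e σ u v ι hex ι' r h1 α hα)) ∘ₗ
    ((dual ι).quotKerEquivOfSurjective (dual_surjective_of_injective ι hι)).symm.toLinearMap

lemma s0_dual (α : CharacterModule A) :
    s0 e σ u v ι hι hex ι' r h1 (dual ι α) = PP e σ ι' r α := by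
  unfold s0
  have : ((dual ι).quotKerEquivOfSurjective (dual_surjective_of_injective ι hι)).symm (dual ι α) =
      Submodule.Quotient.mk α := by
    rw [LinearEquiv.symm_apply_eq]
    rfl
  rw [LinearMap.comp_apply, LinearEquiv.coe_coe, this, Submodule.liftQ_apply]

include hσ h3 h4 in
lemma dual_s0 (β : CharacterModule E) :
    dual ι (s0 e σ u v ι hι hex ι' r h1 β) = β := by
  obtain ⟨α, rfl⟩ := dual_surjective_of_injective ι hι β
  rw [s0_dual]
  have h := dual_d_s1 e σ hσ u v ι' r t h3 h4 α
  have hP : PP e σ ι' r α = α - dual (u - v) (s1 e σ t α) := by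
    rw [h]
    abel
  rw [hP, map_sub]
  have : dual ι (dual (u - v) (s1 e σ t α)) = 0 := by
    ext x
    change s1 e σ t α ((u - v) (ι x)) = 0
    rw [hex.apply_apply_eq_zero, map_zero]
  rw [this, sub_zero]

include hσ h3 h4 in
lemma decomp (α : CharacterModule A) :
    s0 e σ u v ι hι hex ι' r h1 (dual ι α) + dual (u - v) (s1 e σ t α) = α := by
  rw [s0_dual, dual_d_s1 e σ hσ u v ι' r t h3 h4 α]
  abel

include hσ hι hex h1 h3 h4 in
/-- **Core theorem**: `Sg ⊗ -` preserves the equalizer of a pair which is split after tensoring. -/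
theorem core :
    Function.Injective (LinearMap.lTensor Sg ι) ∧
      Function.Exact (LinearMap.lTensor Sg ι) (LinearMap.lTensor Sg (u - v)) := by
  have hI4 : dual ι ∘ₗ s0 e σ u v ι hι hex ι' r h1 = LinearMap.id :=
    LinearMap.ext (dual_s0 e σ hσ u v ι hι hex ι' r t h1 h3 h4)
  have hdec : s0 e σ u v ι hι hex ι' r h1 ∘ₗ dual ι + dual (u - v) ∘ₗ s1 e σ t = LinearMap.id :=
    LinearMap.ext (decomp e σ hσ u v ι hι hex ι' r t h1 h3 h4)
  constructor
  · rw [← dual_surjective_iff_injective]
    intro ψ
    refine ⟨GF (s0 e σ u v ι hι hex ι' r h1) ψ, ?_⟩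
    rw [← GF_dual, ← GF_comp, hI4, GF_id]
  · have hcomp : ∀ z, LinearMap.lTensor Sg (u - v) (LinearMap.lTensor Sg ι z) = 0 := by
      intro z
      rw [← LinearMap.comp_apply, ← LinearMap.lTensor_comp]
      have : (u - v) ∘ₗ ι = 0 := by
        ext x
        exact hex.apply_apply_eq_zero x
      rw [this, LinearMap.lTensor_zero, LinearMap.zero_apply]
    intro z
    constructor
    · intro hz
      by_contra hzr
      have hne : (LinearMap.range (LinearMap.lTensor Sg ι)).mkQ z ≠ 0 := by
        rw [Ne, Submodule.mkQ_apply, Submodule.Quotient.mk_eq_zero]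
        exact hzr
      obtain ⟨c, hc⟩ := exists_character_apply_ne_zero_of_ne_zero hne
      set χ : CharacterModule (Sg ⊗[R] A) :=
        dual (LinearMap.range (LinearMap.lTensor Sg ι)).mkQ c with hχ
      have hχι : dual (LinearMap.lTensor Sg ι) χ = 0 := by
        ext w
        change c ((LinearMap.range (LinearMap.lTensor Sg ι)).mkQ (LinearMap.lTensor Sg ι w)) = 0
        have : (LinearMap.range (LinearMap.lTensor Sg ι)).mkQ (LinearMap.lTensor Sg ι w) = 0 := by
          rw [Submodule.mkQ_apply, Submodule.Quotient.mk_eq_zero]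
          exact ⟨w, rfl⟩
        rw [this, map_zero]
      have hχd : χ = GF (s0 e σ u v ι hι hex ι' r h1) (dual (LinearMap.lTensor Sg ι) χ) +
          dual (LinearMap.lTensor Sg (u - v)) (GF (s1 e σ t) χ) := by
        rw [← GF_dual, ← GF_comp, ← GF_dual (u - v), ← GF_comp, ← GF_add, hdec, GF_id]
      apply hc
      change χ z = 0
      rw [hχd, hχι]
      change GF (s0 e σ u v ι hι hex ι' r h1) 0 z +
        GF (s1 e σ t) χ (LinearMap.lTensor Sg (u - v) z) = 0
      rw [hz, map_zero, add_zero]
      have : GF (s0 e σ u v ι hι hex ι' r h1) (0 : CharacterModule (Sg ⊗[R] E)) = 0 := by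
        apply char_ext_tmul
        intro s a
        rw [GF_tmul]
        have : curry (0 : CharacterModule (Sg ⊗[R] E)) s = 0 := by
          rw [map_zero]
          rfl
        rw [this, map_zero]
        rfl
      rw [this]
      rfl
    · rintro ⟨w, rfl⟩
      exact hcomp w

end Core

end Groth.Agent.Helper8.PureDesc

end
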