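import Mathlib
import Groth.Prelude.Def_Pi1
import Groth.Agent.Helper8.CharSplit
import Groth.Agent.Helper8.PureDesc1

/-!
# Pure descent: extension of scalars along a universally injective ring map is comonadic
-/

set_option autoImplicit false
set_option linter.unusedSectionVars false
set_option linter.unusedVariables false

universe u

open CategoryTheory CategoryTheory.Limits TensorProduct

noncomputable section

namespace Groth.Agent.Helper8.PureDesc

open ModuleCat ChangeOfRings CharacterModule

variable {R S : Type u} [CommRing R] [CommRing S] [Algebra R S]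

variable (R S) in
/-- `S` as an `R`-module through restriction of scalars -/
abbrev SgT : Type u := ↑((restrictScalars.{u,u,u} (algebraMap R S)).obj (ModuleCat.of S S))

variable (R S) in
/-- the identity as an `R`-linear equivalence `S ≃ SgT R S` -/
def e₀ : S ≃ₗ[R] SgT R S where
  toFun s := s
  invFun s := s
  left_inv _ := rfl
  right_inv _ := rfl
  map_add' _ _ := rfl
  map_smul' r s := Algebra.smul_def r s

lemma toSpanSingleton_eq :
    LinearMap.toSpanSingleton R (SgT R S) (1 : S) = (e₀ R S).toLinearMap ∘ₗ Algebra.linearMap R S := by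
  ext
  change algebraMap R S 1 * (1 : S) = algebraMap R S 1
  rw [mul_one]

/-- a section of the dual of the unit, from universal injectivity -/
lemma exists_sigma (h : Pi1.UnivInjective R S) :
    ∃ σ : CharacterModule R →ₗ[R] CharacterModule (SgT R S),
      (dual (LinearMap.toSpanSingleton R (SgT R S) (1 : S))).comp σ = LinearMap.id := by
  apply (CharSplit.main (LinearMap.toSpanSingleton R (SgT R S) (1 : S))).mp
  intro P _ _
  rw [toSpanSingleton_eq, LinearMap.lTensor_comp]
  exact ((LinearEquiv.lTensor P (e₀ R S)).injective).comp (h P)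

section WithSigma

variable (σ : CharacterModule R →ₗ[R] CharacterModule (SgT R S))
  (hσ : (dual (LinearMap.toSpanSingleton R (SgT R S) (1 : S))).comp σ = LinearMap.id)

include hσ in
/-- `x ↦ 1 ⊗ x` is injective -/
lemma eta_injective (X : Type u) [AddCommGroup X] [Module R X] :
    Function.Injective (eta (R := R) (Sg := SgT R S) (1 : S) X) := by
  rw [← dual_surjective_iff_injective]
  intro α
  refine ⟨rho X σ α, ?_⟩
  ext x
  exact rho_section σ (1 : S) hσ α x

/-- extension of scalars on morphisms is `lTensor` -/
lemma map_eq_lTensor {M N : ModuleCat.{u} R} (f : M ⟶ N) (z : SgT R S ⊗[R] M) :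
    ((extendScalars.{u,u,u} (algebraMap R S)).map f).hom z = LinearMap.lTensor (SgT R S) f.hom z :=
  TensorProduct.induction_on (motive := fun z =>
      ((extendScalars.{u,u,u} (algebraMap R S)).map f).hom z =
        LinearMap.lTensor (SgT R S) f.hom z) z
    ((map_zero ((extendScalars.{u,u,u} (algebraMap R S)).map f).hom).trans
      (map_zero (LinearMap.lTensor (SgT R S) f.hom)).symm)
    (fun s m => rfl)
    (fun z₁ z₂ h₁ h₂ =>
      (map_add ((extendScalars.{u,u,u} (algebraMap R S)).map f).hom z₁ z₂).trans
        ((congrArg₂ (· + ·) h₁ h₂).trans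
          (map_add (LinearMap.lTensor (SgT R S) f.hom) z₁ z₂).symm))

include hσ in
lemma reflectsIsomorphisms :
    (extendScalars.{u,u,u} (algebraMap R S)).ReflectsIsomorphisms := by
  refine ⟨fun {M N} f hf => ?_⟩
  rw [ConcreteCategory.isIso_iff_bijective] at hf ⊢
  have hinj : Function.Injective (LinearMap.lTensor (SgT R S) f.hom) := by
    intro z z' hz
    apply hf.1
    change ((extendScalars.{u,u,u} (algebraMap R S)).map f).hom z =
      ((extendScalars.{u,u,u} (algebraMap R S)).map f).hom z'
    rw [map_eq_lTensor, map_eq_lTensor, hz]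
  have hsurj : Function.Surjective (LinearMap.lTensor (SgT R S) f.hom) := by
    intro z
    obtain ⟨w, hw⟩ := hf.2 z
    refine ⟨w, ?_⟩
    rw [← map_eq_lTensor]
    exact hw
  constructor
  · intro x y hxy
    apply eta_injective σ hσ M
    apply hinj
    change LinearMap.lTensor (SgT R S) f.hom ((1 : S) ⊗ₜ[R] x) =
      LinearMap.lTensor (SgT R S) f.hom ((1 : S) ⊗ₜ[R] y)
    rw [LinearMap.lTensor_tmul, LinearMap.lTensor_tmul]
    exact congrArg _ hxy
  · intro y
    have hq : (LinearMap.range f.hom).mkQ y = 0 := by
      apply eta_injective σ hσ (N ⧸ LinearMap.range f.hom)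
      rw [map_zero]
      change ((1 : S) ⊗ₜ[R] ((LinearMap.range f.hom).mkQ y) :
        SgT R S ⊗[R] (N ⧸ LinearMap.range f.hom)) = 0
      obtain ⟨w, hw⟩ := hsurj ((1 : S) ⊗ₜ[R] y)
      have h1 : LinearMap.lTensor (SgT R S) (LinearMap.range f.hom).mkQ
          (LinearMap.lTensor (SgT R S) f.hom w) = 0 := by
        rw [← LinearMap.comp_apply, ← LinearMap.lTensor_comp, LinearMap.range_mkQ_comp,
          LinearMap.lTensor_zero, LinearMap.zero_apply]
      rw [hw, LinearMap.lTensor_tmul] at h1
      exact h1
    rw [Submodule.mkQ_apply, Submodule.Quotient.mk_eq_zero] at hq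
    obtain ⟨x, hx⟩ := hq
    exact ⟨x, hx⟩

end WithSigma

section Preserves

set_option backward.isDefEq.respectTransparency false in
/-- the two `R`-actions on `S ⊗_R A` agree -/
lemma algebraMap_smul_eq {A : ModuleCat.{u} R} (r : R)
    (z : ↑((extendScalars.{u,u,u} (algebraMap R S)).obj A)) :
    algebraMap R S r • z = (r • (show SgT R S ⊗[R] A from z) : SgT R S ⊗[R] A) := by
  induction z using TensorProduct.induction_on with
  | zero => simp
  | add z₁ z₂ h₁ h₂ =>
    rw [smul_add, h₁, h₂]
    exact (smul_add r (show SgT R S ⊗[R] A from z₁) (show SgT R S ⊗[R] A from z₂)).symm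
  | tmul s a => rfl

/-- an `S`-linear map out of an extension of scalars, as an `R`-linear map -/
def outR {A : ModuleCat.{u} R} {W : ModuleCat.{u} S}
    (k : (extendScalars.{u,u,u} (algebraMap R S)).obj A ⟶ W) :
    SgT R S ⊗[R] A →ₗ[R] ↑((restrictScalars.{u,u,u} (algebraMap R S)).obj W) where
  toFun z := k.hom z
  map_add' z z' := map_add k.hom z z'
  map_smul' r z := by
    change k.hom ((r • z : SgT R S ⊗[R] A)) = algebraMap R S r • k.hom z
    rw [← algebraMap_smul_eq r z]
    exact map_smul k.hom _ _

/-- an `S`-linear map into an extension of scalars, as an `R`-linear map -/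
def inR {A : ModuleCat.{u} R} {W : ModuleCat.{u} S}
    (k : W ⟶ (extendScalars.{u,u,u} (algebraMap R S)).obj A) :
    ↑((restrictScalars.{u,u,u} (algebraMap R S)).obj W) →ₗ[R] SgT R S ⊗[R] A where
  toFun w := k.hom w
  map_add' w w' := map_add k.hom w w'
  map_smul' r w := by
    exact (map_smul k.hom (algebraMap R S r) (show ↑W from w)).trans (algebraMap_smul_eq r _)

/-- an `S`-linear map between extensions of scalars, as an `R`-linear map -/
def midR {A B : ModuleCat.{u} R}
    (k : (extendScalars.{u,u,u} (algebraMap R S)).obj B ⟶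
      (extendScalars.{u,u,u} (algebraMap R S)).obj A) :
    SgT R S ⊗[R] B →ₗ[R] SgT R S ⊗[R] A where
  toFun z := k.hom z
  map_add' z z' := map_add k.hom z z'
  map_smul' r z := by
    change k.hom ((r • z : SgT R S ⊗[R] B)) = (r • (show SgT R S ⊗[R] A from k.hom z) : SgT R S ⊗[R] A)
    rw [← algebraMap_smul_eq r z]
    exact (map_smul k.hom _ _).trans (algebraMap_smul_eq r _)

variable (σ : CharacterModule R →ₗ[R] CharacterModule (SgT R S))
  (hσ : (dual (LinearMap.toSpanSingleton R (SgT R S) (1 : S))).comp σ = LinearMap.id)

include hσ in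
lemma preservesLimitOfIsCosplitPair :
    Comonad.PreservesLimitOfIsCosplitPair (extendScalars.{u,u,u} (algebraMap R S)) := by
  refine ⟨fun {A B} f g hfg => ?_⟩
  obtain ⟨W, h, ⟨sp⟩⟩ := hfg.splittable
  have hc : IsLimit (ModuleCat.kernelCone (f - g)) := ModuleCat.kernelIsLimit (f - g)
  have hfork : IsLimit (Preadditive.forkOfKernelFork (ModuleCat.kernelCone (f - g))) :=
    Preadditive.isLimitForkOfKernelFork hc
  refine preservesLimit_of_preserves_limit_cone hfork ?_
  have w₀ : (ModuleCat.kernelCone (f - g)).ι ≫ f = (ModuleCat.kernelCone (f - g)).ι ≫ g :=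
    (Preadditive.forkOfKernelFork (ModuleCat.kernelCone (f - g))).condition
  refine (isLimitMapConeForkEquiv (extendScalars.{u,u,u} (algebraMap R S)) w₀).symm ?_
  have w'' : (extendScalars.{u,u,u} (algebraMap R S)).map (ModuleCat.kernelCone (f - g)).ι ≫
      ((extendScalars.{u,u,u} (algebraMap R S)).map f -
        (extendScalars.{u,u,u} (algebraMap R S)).map g) = 0 := by
    rw [Preadditive.comp_sub, sub_eq_zero, ← Functor.map_comp, ← Functor.map_comp, w₀]
  -- the core theorem
  have hι : Function.Injective (ModuleCat.kernelCone (f - g)).ι.hom :=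
    Submodule.injective_subtype _
  have hex : Function.Exact (ModuleCat.kernelCone (f - g)).ι.hom (f.hom - g.hom) :=
    LinearMap.exact_subtype_ker_map (f.hom - g.hom)
  have key := core (Sg := SgT R S) (1 : S) σ hσ f.hom g.hom (ModuleCat.kernelCone (f - g)).ι.hom hι hex
    (inR h) (outR sp.leftRetraction) (midR sp.rightRetraction)
    (fun z => by
      have := congrArg (fun k => k.hom z) sp.condition
      change ((extendScalars.{u,u,u} (algebraMap R S)).map f).hom (h.hom z) =
        ((extendScalars.{u,u,u} (algebraMap R S)).map g).hom (h.hom z) at this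
      rw [map_eq_lTensor, map_eq_lTensor] at this
      exact this)
    (fun z => by
      have := congrArg (fun k => k.hom z) sp.bottom_rightRetraction
      change sp.rightRetraction.hom (((extendScalars.{u,u,u} (algebraMap R S)).map g).hom z) = z
        at this
      rw [map_eq_lTensor] at this
      exact this)
    (fun z => by
      have := congrArg (fun k => k.hom z) sp.top_rightRetraction
      change sp.rightRetraction.hom (((extendScalars.{u,u,u} (algebraMap R S)).map f).hom z) =
        h.hom (sp.leftRetraction.hom z) at this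
      rw [map_eq_lTensor] at this
      exact this)
  let SC : ShortComplex (ModuleCat.{u} S) :=
    ShortComplex.mk ((extendScalars.{u,u,u} (algebraMap R S)).map (ModuleCat.kernelCone (f - g)).ι)
      ((extendScalars.{u,u,u} (algebraMap R S)).map f -
        (extendScalars.{u,u,u} (algebraMap R S)).map g) w''
  have hmono : Mono SC.f := by
    rw [ModuleCat.mono_iff_injective]
    intro z z' hz
    apply key.1
    rw [← map_eq_lTensor, ← map_eq_lTensor]
    exact hz
  have hexact : SC.Exact := by
    rw [ShortComplex.ShortExact.moduleCat_exact_iff_function_exact]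
    intro z
    have h2 := key.2 z
    have e1 : SC.g.hom z = LinearMap.lTensor (SgT R S) (f.hom - g.hom) z := by
      change ((extendScalars.{u,u,u} (algebraMap R S)).map f).hom z -
        ((extendScalars.{u,u,u} (algebraMap R S)).map g).hom z = _
      rw [map_eq_lTensor, map_eq_lTensor, LinearMap.lTensor_sub, LinearMap.sub_apply]
      rfl
    constructor
    · intro hz
      obtain ⟨w, hw⟩ := h2.mp (e1.symm.trans hz)
      exact ⟨w, (map_eq_lTensor _ w).trans hw⟩
    · rintro ⟨w, rfl⟩
      exact e1.trans (h2.mpr ⟨w, (map_eq_lTensor _ w).symm⟩)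
  have hk : IsLimit (KernelFork.ofι SC.f SC.zero) := hexact.fIsKernel
  exact Preadditive.isLimitForkOfKernelFork hk

end Preserves

end Groth.Agent.Helper8.PureDesc
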