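import Mathlib
import Groth.Prelude.Def_Pi1
import Groth.Agent.Helper8.FFDesc6
import Groth.Agent.Helper8.PureDesc2

/-!
# Pure descent: the equivalence
-/

set_option autoImplicit false
set_option linter.unusedSectionVars false
set_option linter.unusedVariables false

universe u

open CategoryTheory CategoryTheory.Limits TensorProduct Opposite

noncomputable section

namespace Groth.Agent.Helper8.PureDesc

open ModuleCat ChangeOfRings FFDesc

variable {R S : Type u} [CommRing R] [CommRing S] [Algebra R S]

lemma comparison_isEquivalence_of_univInjective (h : Pi1.UnivInjective R S) :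
    (Comonad.comparison (adj₀ R S)).IsEquivalence := by
  obtain ⟨σ, hσ⟩ := exists_sigma h
  haveI := reflectsIsomorphisms σ hσ
  haveI := preservesLimitOfIsCosplitPair σ hσ
  haveI : Comonad.HasEqualizerOfIsCosplitPair (extendScalars.{u,u,u} (algebraMap R S)) :=
    ⟨inferInstance⟩
  exact (Comonad.comonadicOfHasPreservesFSplitEqualizersOfReflectsIsomorphisms (adj₀ R S)).eqv

variable (R S) in
/-- the canonical descent datum functor -/
abbrev toDD : ModuleCat.{u} R ⥤ DD R S :=
  F.{u}.toDescentData (fun _ : PUnit.{u + 1} => f₀ R S)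

set_option backward.isDefEq.respectTransparency false in
lemma theta_ofObj (M : ModuleCat.{u} R) {T : Type u} [CommRing T] (a₁ a₂ : S →+* T)
    (hc : a₁.comp (algebraMap R S) = a₂.comp (algebraMap R S)) (m : M) :
    theta ((toDD R S).obj M) a₁ a₂ hc
      (((1 : S) ⊗ₜ[R, algebraMap R S] m : (extendScalars.{u,u,u} (algebraMap R S)).obj M)) =
    ((1 : T) ⊗ₜ[S, a₂] (((1 : S) ⊗ₜ[R, algebraMap R S] m :
        (extendScalars.{u,u,u} (algebraMap R S)).obj M)) :
      (extendScalars.{u,u,u} a₂).obj ((extendScalars.{u,u,u} (algebraMap R S)).obj M)) := by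
  have h₂ : loc (algebraMap R S) ≫ loc a₂ = loc (a₁.comp (algebraMap R S)) := by
    rw [loc_comp, hc]
  have key : Dhom ((toDD R S).obj M) a₁ a₂ hc =
      (compIso (algebraMap R S) a₁ (a₁.comp (algebraMap R S)) (loc_comp _ _) M).inv ≫
        (compIso (algebraMap R S) a₂ (a₁.comp (algebraMap R S)) h₂ M).hom := rfl
  unfold theta
  rw [key]
  change (compIso (algebraMap R S) a₂ (a₁.comp (algebraMap R S)) h₂ M).hom.hom
    ((compIso (algebraMap R S) a₁ (a₁.comp (algebraMap R S)) (loc_comp _ _) M).inv.hom
      ((1 : T) ⊗ₜ[S, a₁] (((1 : S) ⊗ₜ[R, algebraMap R S] m :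
        (extendScalars.{u,u,u} (algebraMap R S)).obj M)))) = _
  rw [compIso_inv_one_tmul, compIso_hom_one_tmul]

set_option backward.isDefEq.respectTransparency false in
lemma theta_hom {D₁ D₂ : DD R S} (g : D₁ ⟶ D₂) {T : Type u} [CommRing T] (a₁ a₂ : S →+* T)
    (hc : a₁.comp (algebraMap R S) = a₂.comp (algebraMap R S)) (x : Nmod D₁) :
    theta D₂ a₁ a₂ hc ((g.hom PUnit.unit).hom x) =
      ((extendScalars.{u,u,u} a₂).map (g.hom PUnit.unit)).hom (theta D₁ a₁ a₂ hc x) := by
  have hq₂ : (CommRingCat.ofHom a₂).op ≫ f₀ R S =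
      (CommRingCat.ofHom (a₁.comp (algebraMap R S))).op := by
    change (CommRingCat.ofHom (a₂.comp (algebraMap R S))).op = _
    rw [hc]
  have hcomm := g.comm (Y := op (CommRingCat.of T))
    (CommRingCat.ofHom (a₁.comp (algebraMap R S))).op
    (i₁ := PUnit.unit) (i₂ := PUnit.unit) (CommRingCat.ofHom a₁).op (CommRingCat.ofHom a₂).op
    rfl hq₂
  have := congrArg (fun k => k.hom ((1 : T) ⊗ₜ[S, a₁] x)) hcomm
  exact this

set_option backward.isDefEq.respectTransparency false in
/-- the coaction of a canonical descent datum is the comparison coaction -/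
lemma coact_ofObj (M : ModuleCat.{u} R) :
    coactHom ((toDD R S).obj M) =
      (extendScalars.{u,u,u} (algebraMap R S)).map ((adj₀ R S).unit.app M) := by
  apply ExtendScalars.hom_ext
  intro m
  change psi R S (Nmod ((toDD R S).obj M)) (theta ((toDD R S).obj M) i₁ i₂ hc₀
    (((1 : S) ⊗ₜ[R, algebraMap R S] m : (extendScalars.{u,u,u} (algebraMap R S)).obj M))) = _
  rw [theta_ofObj]
  exact psi_one_tmul R S (Nmod ((toDD R S).obj M)) _

set_option backward.isDefEq.respectTransparency false in
lemma toDD_full (hcmp : (Comonad.comparison (adj₀ R S)).Full) : (toDD R S).Full := by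
  refine ⟨fun {M M'} g => ?_⟩
  have hinv : ∀ m : M, theta ((toDD R S).obj M') i₁ i₂ hc₀ ((g.hom PUnit.unit).hom
      (((1 : S) ⊗ₜ[R, algebraMap R S] m : (extendScalars.{u,u,u} (algebraMap R S)).obj M))) =
      ((1 : S ⊗[R] S) ⊗ₜ[S, i₂] ((g.hom PUnit.unit).hom
        (((1 : S) ⊗ₜ[R, algebraMap R S] m : (extendScalars.{u,u,u} (algebraMap R S)).obj M))) :
        WW R S (Nmod ((toDD R S).obj M'))) := by
    intro m
    have h := theta_hom g i₁ i₂ hc₀
      (((1 : S) ⊗ₜ[R, algebraMap R S] m : (extendScalars.{u,u,u} (algebraMap R S)).obj M))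
    rw [theta_ofObj] at h
    exact h
  let c : (Comonad.comparison (adj₀ R S)).obj M ⟶ (Comonad.comparison (adj₀ R S)).obj M' :=
    { f := g.hom PUnit.unit
      h := by
        apply ExtendScalars.hom_ext
        intro m
        have h1 := congrArg (fun k => k.hom ((g.hom PUnit.unit).hom
          (((1 : S) ⊗ₜ[R, algebraMap R S] m : (extendScalars.{u,u,u} (algebraMap R S)).obj M))))
          (coact_ofObj (R := R) (S := S) M')
        change psi R S (Nmod ((toDD R S).obj M')) (theta ((toDD R S).obj M') i₁ i₂ hc₀ _) = _ at h1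
        rw [hinv m, psi_one_tmul] at h1
        exact h1 }
  obtain ⟨h, hh⟩ := hcmp.map_surjective c
  refine ⟨h, ?_⟩
  apply Pseudofunctor.DescentData.Hom.ext
  funext i
  exact congrArg Comonad.Coalgebra.Hom.f hh

lemma toDD_faithful (hcmp : (Comonad.comparison (adj₀ R S)).Faithful) : (toDD R S).Faithful := by
  refine ⟨fun {M M'} h h' hh => ?_⟩
  apply hcmp.map_injective
  apply Comonad.Coalgebra.Hom.ext
  exact congrArg (fun k : (toDD R S).obj M ⟶ (toDD R S).obj M' => k.hom PUnit.unit) hh

lemma toDD_essSurj (hcmp : (Comonad.comparison (adj₀ R S)).EssSurj) : (toDD R S).EssSurj := by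
  refine ⟨fun D => ?_⟩
  obtain ⟨e⟩ := nonempty_iso D _ ((Comonad.comparison (adj₀ R S)).objObjPreimageIso (coalg D))
  exact ⟨_, ⟨e⟩⟩

theorem toDD_isEquivalence_of_univInjective (h : Pi1.UnivInjective R S) :
    (toDD R S).IsEquivalence := by
  haveI := comparison_isEquivalence_of_univInjective h
  exact { faithful := toDD_faithful inferInstance
          full := toDD_full inferInstance
          essSurj := toDD_essSurj inferInstance }

/-! ### The converse -/

set_option backward.isDefEq.respectTransparency false in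
theorem univInjective_of_faithful (hF : (toDD R S).Faithful) : Pi1.UnivInjective R S := by
  intro P _ _
  rw [injective_iff_map_eq_zero]
  intro z hz
  obtain ⟨p, rfl⟩ : ∃ p : P, (TensorProduct.rid R P).symm p = z :=
    ⟨TensorProduct.rid R P z, LinearEquiv.symm_apply_apply _ _⟩
  have h1 : (p ⊗ₜ[R] (1 : S) : P ⊗[R] S) = 0 := by
    have : LinearMap.lTensor P (Algebra.linearMap R S) ((TensorProduct.rid R P).symm p) =
        p ⊗ₜ[R] (1 : S) := by
      rw [TensorProduct.rid_symm_apply, LinearMap.lTensor_tmul, Algebra.linearMap_apply, map_one]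
    rw [← this]
    exact hz
  -- transport to `SgT R S ⊗ P`
  have h2 : ((1 : S) ⊗ₜ[R] p : SgT R S ⊗[R] P) = 0 := by
    have := congrArg (fun w => (TensorProduct.congr (e₀ R S) (LinearEquiv.refl R P))
      (TensorProduct.comm R P S w)) h1
    have h' : (((e₀ R S) (1 : S)) ⊗ₜ[R] p : SgT R S ⊗[R] P) = 0 := by simpa using this
    exact h'
  let hp : ModuleCat.of R R ⟶ ModuleCat.of R P := ModuleCat.ofHom (LinearMap.toSpanSingleton R P p)
  have h3 : (extendScalars.{u,u,u} (algebraMap R S)).map hp = 0 := by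
    apply ExtendScalars.hom_ext
    intro r
    change ((1 : S) ⊗ₜ[R] ((r : R) • p) : SgT R S ⊗[R] P) = 0
    rw [TensorProduct.tmul_smul, h2, smul_zero]
  have h4 : (toDD R S).map hp = (toDD R S).map 0 := by
    apply Pseudofunctor.DescentData.Hom.ext
    funext i
    change (extendScalars.{u,u,u} (algebraMap R S)).map hp =
      (extendScalars.{u,u,u} (algebraMap R S)).map 0
    rw [h3, Functor.map_zero]
  have h5 : hp = 0 := hF.map_injective h4
  have h6 : p = 0 := by
    have := congrArg (fun k => k.hom (1 : R)) h5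
    change (1 : R) • p = 0 at this
    rwa [one_smul] at this
  rw [h6, map_zero]

theorem main :
    (Pi1.UnivInjective R S ↔ (toDD R S).IsEquivalence) ∧
      (Nonempty (toDD R S).FullyFaithful → Pi1.UnivInjective R S) := by
  refine ⟨⟨toDD_isEquivalence_of_univInjective, fun h => ?_⟩, fun ⟨h⟩ => ?_⟩
  · exact univInjective_of_faithful inferInstance
  · exact univInjective_of_faithful h.faithful


end Groth.Agent.Helper8.PureDesc
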