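import Mathlib

set_option autoImplicit false
universe u
open PrimeSpectrum Module

namespace Groth.Agent.Helper8.PureOpen

variable {R : Type u} [CommRing R]

/-- the ideal of elements vanishing in the local rings at all points of `Z` -/
def vanIdeal (Z : Set (PrimeSpectrum R)) : Ideal R :=
  ⨅ p ∈ Z, RingHom.ker (algebraMap R (Localization.AtPrime p.asIdeal))

theorem mem_vanIdeal {Z : Set (PrimeSpectrum R)} {x : R} :
    x ∈ vanIdeal Z ↔ ∀ p ∈ Z, ∃ s : R, s ∉ p.asIdeal ∧ s * x = 0 := by
  simp only [vanIdeal, Ideal.mem_iInf, RingHom.mem_ker]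
  refine forall₂_congr fun p _ => ?_
  rw [IsLocalization.map_eq_zero_iff p.asIdeal.primeCompl]
  constructor
  · rintro ⟨s, hs⟩
    exact ⟨s.1, s.2, hs⟩
  · rintro ⟨s, hs, h⟩
    exact ⟨⟨s, hs⟩, h⟩

theorem zeroLocus_vanIdeal {Z : Set (PrimeSpectrum R)} (hZ : IsClosed Z)
    (hgen : StableUnderGeneralization Z) : zeroLocus (vanIdeal Z : Set R) = Z := by
  obtain ⟨J, rfl⟩ := (isClosed_iff_zeroLocus_ideal Z).mp hZ
  apply Set.Subset.antisymm
  · intro q hq
    by_contra hqZ
    -- the submonoid `S = q.primeCompl * (1 + J)`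
    let T : Submonoid R :=
      { carrier := {t | ∃ j ∈ J, t = 1 + j}
        one_mem' := ⟨0, J.zero_mem, by simp⟩
        mul_mem' := by
          rintro _ _ ⟨j, hj, rfl⟩ ⟨j', hj', rfl⟩
          exact ⟨j + j' + j * j', J.add_mem (J.add_mem hj hj') (J.mul_mem_left _ hj'), by ring⟩ }
    let S : Submonoid R := q.asIdeal.primeCompl ⊔ T
    by_cases h0 : (0 : R) ∈ S
    · obtain ⟨s, hs, t, ⟨j, hj, rfl⟩, hst⟩ := Submonoid.mem_sup.mp h0
      have hsI : s ∈ vanIdeal (zeroLocus (J : Set R)) := by
        rw [mem_vanIdeal]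
        intro p hp
        refine ⟨1 + j, fun h1 => ?_, by rw [mul_comm]; exact hst⟩
        have hjp : j ∈ p.asIdeal := hp hj
        exact p.2.ne_top ((Ideal.eq_top_iff_one _).mpr (by
          have := p.asIdeal.sub_mem h1 hjp
          simpa using this))
      exact hs (hq hsI)
    · obtain ⟨p₀, hp₀, -, hdisj⟩ := Ideal.exists_le_prime_disjoint (⊥ : Ideal R) S (by
        rw [Set.disjoint_left]
        intro x hx hxS
        rw [SetLike.mem_coe, Ideal.mem_bot] at hx
        exact h0 (hx ▸ hxS))
      have hp₀q : p₀ ≤ q.asIdeal := by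
        intro x hx
        by_contra hxq
        exact Set.disjoint_left.mp hdisj hx (Submonoid.mem_sup_left hxq)
      have hp₀J : p₀ ⊔ J ≠ ⊤ := by
        intro htop
        obtain ⟨a, ha, j, hj, haj⟩ := Submodule.mem_sup.mp ((Ideal.eq_top_iff_one _).mp htop)
        have : a ∈ S := Submonoid.mem_sup_right ⟨-j, J.neg_mem hj, by rw [← haj]; ring⟩
        exact Set.disjoint_left.mp hdisj ha this
      obtain ⟨p₁, hp₁max, hp₁⟩ := Ideal.exists_le_maximal _ hp₀J
      have hp₁Z : (⟨p₁, hp₁max.isPrime⟩ : PrimeSpectrum R) ∈ zeroLocus (J : Set R) := by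
        intro x hx
        exact hp₁ (Ideal.mem_sup_right hx)
      have hp₀Z : (⟨p₀, hp₀⟩ : PrimeSpectrum R) ∈ zeroLocus (J : Set R) := by
        apply hgen _ hp₁Z
        rw [← PrimeSpectrum.le_iff_specializes]
        exact le_sup_left.trans hp₁
      apply hqZ
      intro x hx
      exact hp₀q (hp₀Z hx)
  · intro p hp x hx
    obtain ⟨s, hs, hsx⟩ := mem_vanIdeal.mp hx p hp
    have : s * x ∈ p.asIdeal := by rw [hsx]; exact p.asIdeal.zero_mem
    exact (p.2.mem_or_mem this).resolve_left hs

theorem exists_eq_mul_of_mem_vanIdeal {Z : Set (PrimeSpectrum R)} (hZ : IsClosed Z)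
    (hgen : StableUnderGeneralization Z) {x : R} (hx : x ∈ vanIdeal Z) :
    ∃ y ∈ vanIdeal Z, x = x * y := by
  have htop : (Ideal.span {x}).annihilator ⊔ vanIdeal Z = ⊤ := by
    by_contra hne
    obtain ⟨q, hqmax, hq⟩ := Ideal.exists_le_maximal _ hne
    have hqZ : (⟨q, hqmax.isPrime⟩ : PrimeSpectrum R) ∈ Z := by
      rw [← zeroLocus_vanIdeal hZ hgen]
      intro y hy
      exact hq (Ideal.mem_sup_right hy)
    obtain ⟨s, hs, hsx⟩ := mem_vanIdeal.mp hx _ hqZ
    apply hs
    apply hq
    apply Ideal.mem_sup_left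
    rw [Submodule.mem_annihilator_span_singleton]
    exact hsx
  obtain ⟨a, ha, y, hy, hay⟩ := Submodule.mem_sup.mp ((Ideal.eq_top_iff_one _).mp htop)
  refine ⟨y, hy, ?_⟩
  rw [Submodule.mem_annihilator_span_singleton, smul_eq_mul] at ha
  calc x = x * (a + y) := by rw [hay, mul_one]
    _ = a * x + x * y := by ring
    _ = x * y := by rw [ha, zero_add]

/-- (2) ⇒ (1) -/
theorem isOpen_of_finite_flat_projective
    (h : ∀ (M : Type u) [AddCommGroup M] [Module R M], Module.Finite R M → Module.Flat R M →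
        Module.Projective R M)
    (Z : Set (PrimeSpectrum R)) (hZ : IsClosed Z) (hgen : StableUnderGeneralization Z) :
    IsOpen Z := by
  set I := vanIdeal Z with hI
  have hpure : I.Pure := by
    apply Ideal.Pure.of_inf_eq_mul
    intro J _
    apply le_antisymm
    · rintro x ⟨hxI, hxJ⟩
      obtain ⟨y, hy, hxy⟩ := exists_eq_mul_of_mem_vanIdeal hZ hgen hxI
      have h1 : y * x ∈ I * J := Ideal.mul_mem_mul hy hxJ
      rwa [mul_comm y x, ← hxy] at h1
    · exact Ideal.mul_le_inf
  have hproj : Module.Projective R (R ⧸ I) := h (R ⧸ I) inferInstance hpure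
  obtain ⟨s, hs⟩ := Module.projective_lifting_property (Submodule.mkQ I) LinearMap.id
    (Submodule.mkQ_surjective I)
  set e : R := s 1 with he
  have he1 : 1 - e ∈ I := by
    have h1 := LinearMap.congr_fun hs 1
    simp only [LinearMap.comp_apply, LinearMap.id_apply] at h1
    rw [← Submodule.Quotient.mk_eq_zero, Submodule.Quotient.mk_sub]
    have h2 : Submodule.Quotient.mk (p := I) e = 1 := h1
    rw [h2]
    exact sub_self _
  have hxe : ∀ x ∈ I, x * e = 0 := by
    intro x hx
    have : x • (1 : R ⧸ I) = 0 := by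
      rw [Algebra.smul_def, mul_one]
      exact Ideal.Quotient.eq_zero_iff_mem.mpr hx
    calc x * e = x • s 1 := rfl
      _ = s (x • 1) := (map_smul s x 1).symm
      _ = 0 := by rw [this, map_zero]
  have hZe : Z = (PrimeSpectrum.basicOpen e : Set (PrimeSpectrum R)) := by
    rw [← zeroLocus_vanIdeal hZ hgen]
    ext p
    simp only [PrimeSpectrum.mem_zeroLocus, SetLike.mem_coe, PrimeSpectrum.mem_basicOpen]
    constructor
    · intro hp hep
      have h1 : 1 - e ∈ p.asIdeal := hp he1
      exact p.2.ne_top ((Ideal.eq_top_iff_one _).mpr (by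
        have := p.asIdeal.add_mem h1 hep
        simpa using this))
    · intro hep x hx
      have : x * e ∈ p.asIdeal := by rw [hxe x hx]; exact p.asIdeal.zero_mem
      exact (p.2.mem_or_mem this).resolve_right hep
  rw [hZe]
  exact (PrimeSpectrum.basicOpen e).isOpen

section surj
variable {F M : Type u} [AddCommGroup F] [Module R F] [AddCommGroup M] [Module R M]

theorem map_surjective_of_forall (S : Submonoid R) (φ : F →ₗ[R] M)
    (h : ∀ x : M, ∃ s ∈ S, ∃ y, s • x = φ y) :
    Function.Surjective (LocalizedModule.map S φ) := by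
  intro z
  induction z using LocalizedModule.induction_on with
  | h x t =>
    obtain ⟨s, hs, y, hy⟩ := h x
    refine ⟨LocalizedModule.mk y (⟨s, hs⟩ * t), ?_⟩
    rw [LocalizedModule.map_mk, ← hy]
    exact LocalizedModule.mk_cancel_common_left ⟨s, hs⟩ t x

theorem forall_of_map_surjective (S : Submonoid R) (φ : F →ₗ[R] M)
    (h : Function.Surjective (LocalizedModule.map S φ)) (x : M) :
    ∃ s ∈ S, ∃ y, s • x = φ y := by
  obtain ⟨z, hz⟩ := h (LocalizedModule.mk x 1)
  induction z using LocalizedModule.induction_on with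
  | h y t =>
    rw [LocalizedModule.map_mk, LocalizedModule.mk_eq] at hz
    obtain ⟨u, hu⟩ := hz
    refine ⟨u * t, S.mul_mem u.2 t.2, (u : R) • y, ?_⟩
    simp only [Submonoid.smul_def, OneMemClass.coe_one, one_smul] at hu
    rw [map_smul, hu]
    exact mul_smul _ _ _

end surj

section flat
variable (M : Type u) [AddCommGroup M] [Module R M] [Module.Finite R M] [Module.Flat R M]

attribute [local instance] Module.free_of_flat_of_isLocalRing

/-- a presentation by `rank` generators near a prime -/
theorem exists_map_away_surjective (p : Ideal R) [p.IsPrime] :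
    ∃ (φ : (Fin (rankAtStalk M ⟨p, inferInstance⟩) →₀ R) →ₗ[R] M) (a : R), a ∉ p ∧
      Function.Surjective (LocalizedModule.map (Submonoid.powers a) φ) := by
  let Rₚ := Localization.AtPrime p
  let n := rankAtStalk M ⟨p, inferInstance⟩
  let f : (Fin n →₀ R) →ₗ[R] Fin n →₀ Rₚ := Finsupp.mapRange.linearMap (Algebra.linearMap R Rₚ)
  let g : M →ₗ[R] LocalizedModule.AtPrime p M := LocalizedModule.mkLinearMap p.primeCompl M
  obtain ⟨φ, -, -, hφps⟩ := exists_localizedMap_surjective_of_surjective p.primeCompl f g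
    ((finBasis Rₚ (LocalizedModule.AtPrime p M)).repr.restrictScalars R).symm.surjective
  obtain ⟨a, hap, hφas⟩ := by
    refine exists_localizedMap_away_surjective_of_localizedMap_atPrime_surjective p φ ?_
    simpa [LocalizedModule.coe_map_eq f g]
  exact ⟨φ, a, hap, hφas⟩

theorem rankAtStalk_le_of_map_away_surjective {n : ℕ} (φ : (Fin n →₀ R) →ₗ[R] M) (a : R)
    (h : Function.Surjective (LocalizedModule.map (Submonoid.powers a) φ))
    (q : PrimeSpectrum R) (haq : a ∉ q.asIdeal) : rankAtStalk M q ≤ n := by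
  have hsurj : Function.Surjective (LocalizedModule.map q.asIdeal.primeCompl φ) := by
    apply map_surjective_of_forall
    intro x
    obtain ⟨s, ⟨k, rfl⟩, y, hy⟩ := forall_of_map_surjective _ φ h x
    exact ⟨a ^ k, fun hk => haq (q.2.mem_of_pow_mem k hk), y, hy⟩
  have h1 := LinearMap.finrank_le_finrank_of_surjective hsurj
  haveI : Nontrivial R :=
    ⟨⟨0, 1, fun h => q.2.ne_top ((Ideal.eq_top_iff_one _).mpr (h ▸ q.asIdeal.zero_mem))⟩⟩
  have h2 : rankAtStalk (R := R) (Fin n →₀ R) q = n := by
    rw [rankAtStalk_eq_finrank_of_free]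
    simp
  rw [← h2]
  exact h1

variable (hopen : ∀ Z : Set (PrimeSpectrum R), IsClosed Z → StableUnderGeneralization Z → IsOpen Z)
include hopen

theorem exists_rank_const (p₀ : PrimeSpectrum R) :
    ∃ a b : R, a ∉ p₀.asIdeal ∧ b ∉ p₀.asIdeal ∧
      (∃ φ : (Fin (rankAtStalk M p₀) →₀ R) →ₗ[R] M,
        Function.Surjective (LocalizedModule.map (Submonoid.powers a) φ)) ∧
      ∀ q : PrimeSpectrum R, b ∉ q.asIdeal → rankAtStalk M q = rankAtStalk M p₀ := by
  set n := rankAtStalk M p₀ with hn
  obtain ⟨φ, a, hap, hφ⟩ := exists_map_away_surjective M p₀.asIdeal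
  have hle : ∀ q : PrimeSpectrum R, a ∉ q.asIdeal → rankAtStalk M q ≤ n :=
    fun q hq => rankAtStalk_le_of_map_away_surjective M φ a hφ q hq
  let Z : Set (PrimeSpectrum R) := {q | n ≤ rankAtStalk M q}
  have hZclosed : IsClosed Z := by
    rw [← isOpen_compl_iff, isOpen_iff_forall_mem_open]
    intro q₁ hq₁
    have hq₁' : rankAtStalk M q₁ < n := not_le.mp hq₁
    obtain ⟨φ₁, a₁, ha₁, hφ₁⟩ := exists_map_away_surjective M q₁.asIdeal
    refine ⟨(basicOpen a₁ : Set (PrimeSpectrum R)), ?_, (basicOpen a₁).isOpen, ha₁⟩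
    intro q hq
    have := rankAtStalk_le_of_map_away_surjective M φ₁ a₁ hφ₁ q hq
    show ¬ (n ≤ rankAtStalk M q)
    exact not_le.mpr (lt_of_le_of_lt this hq₁')
  have hZgen : StableUnderGeneralization Z := by
    intro q q' hq'q hq
    have hle' : q' ≤ q := (PrimeSpectrum.le_iff_specializes q' q).mpr hq'q
    show n ≤ rankAtStalk M q'
    rw [rankAtStalk_eq_of_le_of_finite_of_flat M hle']
    exact hq
  have hZopen := hopen Z hZclosed hZgen
  have hp₀ : p₀ ∈ Z ∩ (basicOpen a : Set (PrimeSpectrum R)) := ⟨le_refl n, hap⟩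
  obtain ⟨_, ⟨b, rfl⟩, hb, hsub⟩ :=
    PrimeSpectrum.isTopologicalBasis_basic_opens.exists_subset_of_mem_open hp₀
      (hZopen.inter (basicOpen a).isOpen)
  refine ⟨a, b, hap, hb, ⟨φ, hφ⟩, fun q hq => ?_⟩
  have := hsub hq
  exact le_antisymm (hle q this.2) this.1

theorem exists_free_away (p₀ : PrimeSpectrum R) :
    ∃ c : R, c ∉ p₀.asIdeal ∧
      Module.Free (Localization.Away c) (LocalizedModule.Away c M) := by
  rcases subsingleton_or_nontrivial R with _ | _
  · exact ⟨1, p₀.2.one_notMem,
      Module.Free.of_subsingleton' (Localization.Away 1) (LocalizedModule.Away 1 M)⟩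
  obtain ⟨a, b, hap, hbp, ⟨φ, hφ⟩, hconst⟩ := exists_rank_const M hopen p₀
  generalize hn : rankAtStalk M p₀ = n at φ hφ hconst
  refine ⟨a * b, fun h => (p₀.2.mem_or_mem h).elim hap hbp, ?_⟩
  have hφc : Function.Surjective (LocalizedModule.map (Submonoid.powers (a * b)) φ) := by
    apply map_surjective_of_forall
    intro x
    obtain ⟨s, ⟨k, rfl⟩, y, hy⟩ := forall_of_map_surjective _ φ hφ x
    refine ⟨(a * b) ^ k, ⟨k, rfl⟩, b ^ k • y, ?_⟩
    rw [map_smul, ← hy, mul_pow, mul_smul, smul_comm]
  have : Module.Free (Localization.Away (a * b)) (LocalizedModule.Away (a * b) (Fin n →₀ R)) :=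
    Module.Free.of_equiv
      (LocalizedModule.equivTensorProduct (Submonoid.powers (a * b)) (Fin n →₀ R)).symm
  let φc : LocalizedModule.Away (a * b) (Fin n →₀ R) →ₗ[Localization.Away (a * b)]
      LocalizedModule.Away (a * b) M := LocalizedModule.map (Submonoid.powers (a * b)) φ
  have hφc' : Function.Surjective φc := hφc
  suffices hbij : Function.Bijective φc from
    Module.Free.of_equiv (LinearEquiv.ofBijective φc hbij)
  refine bijective_of_surjective_of_rankAtStalk_eq (R := Localization.Away (a * b))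
    (M := LocalizedModule.Away (a * b) (Fin n →₀ R)) (N := LocalizedModule.Away (a * b) M)
    hφc fun m _ => ?_
  have hbm : b ∉ (PrimeSpectrum.comap (algebraMap R (Localization.Away (a * b)))
      ⟨m, inferInstance⟩).asIdeal := by
    intro hb
    have h1 : algebraMap R (Localization.Away (a * b)) (a * b) ∈ m := by
      rw [map_mul]
      exact m.mul_mem_left _ hb
    have h2 : IsUnit (algebraMap R (Localization.Away (a * b)) (a * b)) :=
      IsLocalization.map_units _ (⟨a * b, Submonoid.mem_powers _⟩ : Submonoid.powers (a * b))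
    exact (Ideal.IsPrime.ne_top inferInstance) (Ideal.eq_top_of_isUnit_mem _ h1 h2)
  rw [rankAtStalk_isBaseChange (LocalizedModule.isBaseChange (Submonoid.powers (a * b)) _),
    rankAtStalk_isBaseChange (LocalizedModule.isBaseChange (Submonoid.powers (a * b)) _),
    hconst _ hbm, rankAtStalk_eq_finrank_of_free]
  simp

/-- (1) ⇒ (2) -/
theorem projective_of_finite_flat : Module.Projective R M := by
  let s : Set R := {c | Module.Free (Localization.Away c) (LocalizedModule.Away c M)}
  have hs : Ideal.span s = ⊤ := by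
    by_contra hne
    obtain ⟨m, hm, hle⟩ := Ideal.exists_le_maximal _ hne
    obtain ⟨c, hc, hfree⟩ := exists_free_away M hopen ⟨m, hm.isPrime⟩
    exact hc (hle (Ideal.subset_span hfree))
  haveI : Module.FinitePresentation R M := by
    apply Module.FinitePresentation.of_localizationSpan s hs
    rintro ⟨c, hc⟩
    haveI : Module.Free (Localization.Away c) (LocalizedModule.Away c M) := hc
    exact Module.finitePresentation_of_projective _ _
  apply Module.projective_of_localization_maximal
  intro I hI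
  infer_instance

end flat


theorem main (R : Type u) [CommRing R] :
    (∀ Z : Set (PrimeSpectrum R), IsClosed Z → StableUnderGeneralization Z → IsOpen Z) ↔
      ∀ (M : Type u) [AddCommGroup M] [Module R M], Module.Finite R M → Module.Flat R M →
        Module.Projective R M :=
  ⟨fun h M _ _ hfin hflat => by
      haveI := hfin
      haveI := hflat
      exact projective_of_finite_flat M h,
    fun h Z hZ hgen => isOpen_of_finite_flat_projective h Z hZ hgen⟩

end Groth.Agent.Helper8.PureOpen
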