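import Mathlib

set_option autoImplicit false
open CategoryTheory
universe u

namespace Groth.Agent.Helper8.PureRes

variable {R : Type u} [CommRing R]

lemma not_rel00 : ¬ (ComplexShape.down ℕ).Rel 0 0 := by simp

section chain

variable (K : ChainComplex (ModuleCat.{u} R) ℕ) {M : ModuleCat.{u} R}
  (π : K ⟶ (ChainComplex.single₀ (ModuleCat.{u} R)).obj M)

lemma sc_g_zero (L : ChainComplex (ModuleCat.{u} R) ℕ) :
    ((HomologicalComplex.shortComplexFunctor' (ModuleCat R) (ComplexShape.down ℕ) 1 0 0).obj L).g = 0 :=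
  L.shape 0 0 not_rel00

lemma sc_f_zero (T : ModuleCat.{u} R) : ((HomologicalComplex.shortComplexFunctor' (ModuleCat R) (ComplexShape.down ℕ) 1 0 0).obj
      (((MonoidalCategory.tensorRight T).mapHomologicalComplex (ComplexShape.down ℕ)).obj 
        ((ChainComplex.single₀ (ModuleCat.{u} R)).obj M))).f = 0 := by
  change (MonoidalCategory.tensorRight T).map (((ChainComplex.single₀ (ModuleCat.{u} R)).obj M).d 1 0) = 0
  rw [HomologicalComplex.single_obj_d]
  exact Functor.map_zero _ _ _

lemma exactAt_succ_tensor_single (T : ModuleCat.{u} R) (n : ℕ) :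
    (((MonoidalCategory.tensorRight T).mapHomologicalComplex (ComplexShape.down ℕ)).obj
      ((ChainComplex.single₀ (ModuleCat.{u} R)).obj M)).ExactAt (n + 1) := by
  rw [HomologicalComplex.exactAt_iff]
  apply ShortComplex.exact_of_isZero_X₂
  exact Functor.map_isZero (MonoidalCategory.tensorRight T)
    (HomologicalComplex.isZero_single_obj_X (ComplexShape.down ℕ) 0 M (n + 1) (by simp))

theorem quasiIso_tensor_iff (T : ModuleCat.{u} R) :
    QuasiIso (((MonoidalCategory.tensorRight T).mapHomologicalComplex (ComplexShape.down ℕ)).map π) ↔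
      (∀ n : ℕ, Function.Exact (LinearMap.rTensor T (K.d (n + 2) (n + 1)).hom)
        (LinearMap.rTensor T (K.d (n + 1) n).hom)) ∧
      Function.Exact (LinearMap.rTensor T (K.d 1 0).hom) (LinearMap.rTensor T (π.f 0).hom) ∧
      Function.Surjective (LinearMap.rTensor T (π.f 0).hom) := by
  constructor
  · intro h
    have h0 := h.quasiIsoAt 0
    rw [ChainComplex.quasiIsoAt₀_iff, ShortComplex.quasiIso_iff_of_zeros' _ (sc_g_zero _)
      (sc_f_zero T) (sc_g_zero _)] at h0
    refine ⟨fun n => ?_, ?_, ?_⟩
    · have h1 := h.quasiIsoAt (n + 1)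
      rw [quasiIsoAt_iff_exactAt' _ (n + 1) (exactAt_succ_tensor_single T n),
        HomologicalComplex.exactAt_iff' _ (n + 2) (n + 1) n (by simp) (by simp)] at h1
      exact (ShortComplex.ShortExact.moduleCat_exact_iff_function_exact _).1 h1
    · exact (ShortComplex.ShortExact.moduleCat_exact_iff_function_exact _).1 h0.1
    · exact (ModuleCat.epi_iff_surjective _).1 h0.2
  · rintro ⟨hS, h0, hsurj⟩
    refine ⟨fun n => ?_⟩
    cases n with
    | zero =>
      rw [ChainComplex.quasiIsoAt₀_iff, ShortComplex.quasiIso_iff_of_zeros' _ (sc_g_zero _)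
        (sc_f_zero T) (sc_g_zero _)]
      exact ⟨(ShortComplex.ShortExact.moduleCat_exact_iff_function_exact _).2 h0,
        (ModuleCat.epi_iff_surjective _).2 hsurj⟩
    | succ n =>
      rw [quasiIsoAt_iff_exactAt' _ (n + 1) (exactAt_succ_tensor_single T n),
        HomologicalComplex.exactAt_iff' _ (n + 2) (n + 1) n (by simp) (by simp)]
      exact (ShortComplex.ShortExact.moduleCat_exact_iff_function_exact _).2 (hS n)

end chain

lemma not_rel00' : ¬ (ComplexShape.up ℕ).Rel 0 0 := by simp

section cochain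

variable (K : CochainComplex (ModuleCat.{u} R) ℕ) {M : ModuleCat.{u} R}
  (η : (CochainComplex.single₀ (ModuleCat.{u} R)).obj M ⟶ K)

lemma sc_f_zero' (L : CochainComplex (ModuleCat.{u} R) ℕ) :
    ((HomologicalComplex.shortComplexFunctor' (ModuleCat R) (ComplexShape.up ℕ) 0 0 1).obj L).f = 0 :=
  L.shape 0 0 not_rel00'

lemma sc_g_zero' (T : ModuleCat.{u} R) : ((HomologicalComplex.shortComplexFunctor' (ModuleCat R) (ComplexShape.up ℕ) 0 0 1).obj
      (((MonoidalCategory.tensorRight T).mapHomologicalComplex (ComplexShape.up ℕ)).obj 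
        ((CochainComplex.single₀ (ModuleCat.{u} R)).obj M))).g = 0 := by
  change (MonoidalCategory.tensorRight T).map (((CochainComplex.single₀ (ModuleCat.{u} R)).obj M).d 0 1) = 0
  rw [HomologicalComplex.single_obj_d]
  exact Functor.map_zero _ _ _

lemma exactAt_succ_tensor_single' (T : ModuleCat.{u} R) (n : ℕ) :
    (((MonoidalCategory.tensorRight T).mapHomologicalComplex (ComplexShape.up ℕ)).obj
      ((CochainComplex.single₀ (ModuleCat.{u} R)).obj M)).ExactAt (n + 1) := by
  rw [HomologicalComplex.exactAt_iff]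
  apply ShortComplex.exact_of_isZero_X₂
  exact Functor.map_isZero (MonoidalCategory.tensorRight T)
    (HomologicalComplex.isZero_single_obj_X (ComplexShape.up ℕ) 0 M (n + 1) (by simp))

theorem quasiIso_tensor_iff' (T : ModuleCat.{u} R) :
    QuasiIso (((MonoidalCategory.tensorRight T).mapHomologicalComplex (ComplexShape.up ℕ)).map η) ↔
      (∀ n : ℕ, Function.Exact (LinearMap.rTensor T (K.d n (n + 1)).hom)
        (LinearMap.rTensor T (K.d (n + 1) (n + 2)).hom)) ∧
      Function.Exact (LinearMap.rTensor T (η.f 0).hom) (LinearMap.rTensor T (K.d 0 1).hom) ∧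
      Function.Injective (LinearMap.rTensor T (η.f 0).hom) := by
  constructor
  · intro h
    have h0 := h.quasiIsoAt 0
    rw [CochainComplex.quasiIsoAt₀_iff, ShortComplex.quasiIso_iff_of_zeros _ (sc_f_zero' _)
      (sc_g_zero' T) (sc_f_zero' _)] at h0
    refine ⟨fun n => ?_, ?_, ?_⟩
    · have h1 := h.quasiIsoAt (n + 1)
      rw [quasiIsoAt_iff_exactAt _ (n + 1) (exactAt_succ_tensor_single' T n),
        HomologicalComplex.exactAt_iff' _ n (n + 1) (n + 2) (by simp) (by simp)] at h1
      exact (ShortComplex.ShortExact.moduleCat_exact_iff_function_exact _).1 h1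
    · exact (ShortComplex.ShortExact.moduleCat_exact_iff_function_exact _).1 h0.1
    · exact (ModuleCat.mono_iff_injective _).1 h0.2
  · rintro ⟨hS, h0, hinj⟩
    refine ⟨fun n => ?_⟩
    cases n with
    | zero =>
      rw [CochainComplex.quasiIsoAt₀_iff, ShortComplex.quasiIso_iff_of_zeros _ (sc_f_zero' _)
        (sc_g_zero' T) (sc_f_zero' _)]
      exact ⟨(ShortComplex.ShortExact.moduleCat_exact_iff_function_exact _).2 h0,
        (ModuleCat.mono_iff_injective _).2 hinj⟩
    | succ n =>
      rw [quasiIsoAt_iff_exactAt _ (n + 1) (exactAt_succ_tensor_single' T n),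
        HomologicalComplex.exactAt_iff' _ n (n + 1) (n + 2) (by simp) (by simp)]
      exact (ShortComplex.ShortExact.moduleCat_exact_iff_function_exact _).2 (hS n)

end cochain

end Groth.Agent.Helper8.PureRes
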