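import Groth.Agent.Helper8.PureResA
import Groth.Agent.S8773
import Groth.Prelude.Def_CAlgX

set_option autoImplicit false
open CategoryTheory
universe u

namespace Groth.Agent.Helper8.PureRes

variable {R : Type u} [CommRing R]

/-- pure projectivity, in the form used by the statements -/
def PureProj (R : Type u) [CommRing R] (P : Type u) [AddCommGroup P] [Module R P] : Prop :=
  ∀ ⦃L T : Type u⦄ [AddCommGroup L] [Module R L] [AddCommGroup T] [Module R T] (g : L →ₗ[R] T),
    Function.Surjective g → CAlgX.UniversallyInjective R (LinearMap.ker g).subtype →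
    ∀ φ : P →ₗ[R] T, ∃ ψ : P →ₗ[R] L, g ∘ₗ ψ = φ

/-- pure injectivity, in the form used by the statements -/
def PureInj (R : Type u) [CommRing R] (I : Type u) [AddCommGroup I] [Module R I] : Prop :=
  ∀ ⦃K L : Type u⦄ [AddCommGroup K] [Module R K] [AddCommGroup L] [Module R L] (g : K →ₗ[R] L),
    CAlgX.UniversallyInjective R g → ∀ φ : K →ₗ[R] I, ∃ ψ : L →ₗ[R] I, ψ ∘ₗ g = φ

section modules

variable {A B C : Type u} [AddCommGroup A] [Module R A] [AddCommGroup B] [Module R B]
  [AddCommGroup C] [Module R C]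

lemma rid_comp_rTensor (f : A →ₗ[R] B) :
    f ∘ₗ (TensorProduct.rid R A : TensorProduct R A R →ₗ[R] A) =
      (TensorProduct.rid R B : TensorProduct R B R →ₗ[R] B) ∘ₗ f.rTensor R := by
  apply TensorProduct.ext'
  intro x r
  simp

lemma exact_of_rTensor_self (f : A →ₗ[R] B) (g : B →ₗ[R] C)
    (h : Function.Exact (f.rTensor R) (g.rTensor R)) : Function.Exact f g :=
  Function.Exact.of_ladder_linearEquiv_of_exact (e₁ := TensorProduct.rid R A)
    (e₂ := TensorProduct.rid R B) (e₃ := TensorProduct.rid R C)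
    (rid_comp_rTensor f) (rid_comp_rTensor g) h

lemma surjective_of_rTensor_self (f : A →ₗ[R] B)
    (h : Function.Surjective (f.rTensor R)) : Function.Surjective f := by
  intro b
  obtain ⟨x, hx⟩ := h ((TensorProduct.rid R B).symm b)
  refine ⟨TensorProduct.rid R A x, ?_⟩
  have := LinearMap.congr_fun (rid_comp_rTensor f) x
  simp only [LinearMap.coe_comp, LinearEquiv.coe_coe, Function.comp_apply] at this
  rw [this, hx, LinearEquiv.apply_symm_apply]

lemma injective_of_rTensor_self (f : A →ₗ[R] B)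
    (h : Function.Injective (f.rTensor R)) : Function.Injective f := by
  intro a a' haa
  have h1 : f.rTensor R ((TensorProduct.rid R A).symm a) =
      f.rTensor R ((TensorProduct.rid R A).symm a') := by
    apply (TensorProduct.rid R B).injective
    have e1 := LinearMap.congr_fun (rid_comp_rTensor f) ((TensorProduct.rid R A).symm a)
    have e2 := LinearMap.congr_fun (rid_comp_rTensor f) ((TensorProduct.rid R A).symm a')
    simp only [LinearMap.coe_comp, LinearEquiv.coe_coe, Function.comp_apply,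
      LinearEquiv.apply_symm_apply] at e1 e2
    rw [← e1, ← e2, haa]
  exact (TensorProduct.rid R A).symm.injective (h h1)

end modules

section lifts

variable {Y Z A B C P : Type u} [AddCommGroup Y] [Module R Y] [AddCommGroup Z] [Module R Z]
  [AddCommGroup A] [Module R A] [AddCommGroup B] [Module R B] [AddCommGroup C] [Module R C]
  [AddCommGroup P] [Module R P]

lemma pp_lift0 (y : Y →ₗ[R] Z) (z : Z →ₗ[R] A) (a : A →ₗ[R] B)
    (hyz : ∀ (Q : Type u) [AddCommGroup Q] [Module R Q],
      Function.Exact (y.rTensor Q) (z.rTensor Q))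
    (hza : Function.Exact z a) (ha : Function.Surjective a) (hP : PureProj R P)
    (φ : P →ₗ[R] B) : ∃ ψ : P →ₗ[R] A, a ∘ₗ ψ = φ := by
  apply hP a ha ?_ φ
  have h1 : LinearMap.ker a = LinearMap.range z := (LinearMap.exact_iff.1 hza)
  rw [h1]
  exact Groth.Agent.S8773.result R y z hyz

lemma pp_lift (y : Y →ₗ[R] Z) (z : Z →ₗ[R] A) (a : A →ₗ[R] B) (b : B →ₗ[R] C)
    (hyz : ∀ (Q : Type u) [AddCommGroup Q] [Module R Q],
      Function.Exact (y.rTensor Q) (z.rTensor Q))
    (hza : Function.Exact z a) (hab : Function.Exact a b) (hP : PureProj R P)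
    (φ : P →ₗ[R] B) (hφ : b ∘ₗ φ = 0) : ∃ ψ : P →ₗ[R] A, a ∘ₗ ψ = φ := by
  have hmem : ∀ p, φ p ∈ LinearMap.range a := fun p =>
    (hab (φ p)).1 (LinearMap.congr_fun hφ p)
  have hza' : Function.Exact z a.rangeRestrict := by
    intro x
    rw [← hza x]
    constructor
    · intro h
      have := congrArg Subtype.val h
      exact this
    · intro h
      exact Subtype.ext h
  obtain ⟨ψ, hψ⟩ := pp_lift0 y z a.rangeRestrict hyz hza' a.surjective_rangeRestrict hP
    (φ.codRestrict (LinearMap.range a) hmem)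
  refine ⟨ψ, ?_⟩
  ext p
  have := congrArg Subtype.val (LinearMap.congr_fun hψ p)
  exact this

lemma pi_ext {I : Type u} [AddCommGroup I] [Module R I] (a : A →ₗ[R] B) (b : B →ₗ[R] C)
    (hab : ∀ (Q : Type u) [AddCommGroup Q] [Module R Q],
      Function.Exact (a.rTensor Q) (b.rTensor Q))
    (hI : PureInj R I) (φ : B →ₗ[R] I) (hφ : φ ∘ₗ a = 0) : ∃ ψ : C →ₗ[R] I, ψ ∘ₗ b = φ := by
  have hab0 : Function.Exact a b := exact_of_rTensor_self a b (hab R)
  have hker : LinearMap.ker b ≤ LinearMap.ker φ := by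
    intro x hx
    obtain ⟨w, rfl⟩ := (hab0 x).1 hx
    exact LinearMap.congr_fun hφ w
  let φ' : LinearMap.range b →ₗ[R] I :=
    ((LinearMap.ker b).liftQ φ hker) ∘ₗ (b.quotKerEquivRange.symm : _ →ₗ[R] _)
  obtain ⟨ψ, hψ⟩ := hI (LinearMap.range b).subtype (Groth.Agent.S8773.result R a b hab) φ'
  refine ⟨ψ, ?_⟩
  ext x
  have h1 := LinearMap.congr_fun hψ (b.rangeRestrict x)
  have h2 : φ' (b.rangeRestrict x) = φ x := by
    change ((LinearMap.ker b).liftQ φ hker) (b.quotKerEquivRange.symm (b.rangeRestrict x)) = φ x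
    have h3 : b.quotKerEquivRange.symm (b.rangeRestrict x) = Submodule.Quotient.mk x := by
      rw [LinearEquiv.symm_apply_eq]
      rfl
    rw [h3]
    rfl
  rw [← h2, ← h1]
  rfl

end lifts

end Groth.Agent.Helper8.PureRes
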