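import Groth.Agent.Helper8.PureResB

set_option autoImplicit false
open CategoryTheory
universe u

namespace Groth.Agent.Helper8.PureRes

variable {R : Type u} [CommRing R]

/-- universal exactness of an augmented chain complex, at the level of modules -/
structure UE (K : ChainComplex (ModuleCat.{u} R) ℕ) {M : ModuleCat.{u} R}
    (π : K ⟶ (ChainComplex.single₀ (ModuleCat.{u} R)).obj M) : Prop where
  exS : ∀ (Q : Type u) [AddCommGroup Q] [Module R Q] (n : ℕ),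
    Function.Exact (LinearMap.rTensor Q (K.d (n + 2) (n + 1)).hom)
      (LinearMap.rTensor Q (K.d (n + 1) n).hom)
  ex0 : ∀ (Q : Type u) [AddCommGroup Q] [Module R Q],
    Function.Exact (LinearMap.rTensor Q (K.d 1 0).hom) (LinearMap.rTensor Q (π.f 0).hom)
  surj : ∀ (Q : Type u) [AddCommGroup Q] [Module R Q],
    Function.Surjective (LinearMap.rTensor Q (π.f 0).hom)

theorem ue_iff (K : ChainComplex (ModuleCat.{u} R) ℕ) {M : ModuleCat.{u} R}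
    (π : K ⟶ (ChainComplex.single₀ (ModuleCat.{u} R)).obj M) :
    (∀ T : ModuleCat.{u} R, QuasiIso
      (((MonoidalCategory.tensorRight T).mapHomologicalComplex (ComplexShape.down ℕ)).map π)) ↔
      UE K π := by
  constructor
  · intro h
    refine ⟨fun Q _ _ n => ?_, fun Q _ _ => ?_, fun Q _ _ => ?_⟩
    · exact ((quasiIso_tensor_iff K π (ModuleCat.of R Q)).1 (h _)).1 n
    · exact ((quasiIso_tensor_iff K π (ModuleCat.of R Q)).1 (h _)).2.1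
    · exact ((quasiIso_tensor_iff K π (ModuleCat.of R Q)).1 (h _)).2.2
  · intro h T
    exact (quasiIso_tensor_iff K π T).2 ⟨fun n => h.exS T n, h.ex0 T, h.surj T⟩

section catlifts

variable {Y Z A B C P : ModuleCat.{u} R}

lemma pp_lift0_cat (y : Y ⟶ Z) (z : Z ⟶ A) (a : A ⟶ B)
    (hyz : ∀ (Q : Type u) [AddCommGroup Q] [Module R Q],
      Function.Exact (y.hom.rTensor Q) (z.hom.rTensor Q))
    (hza : ∀ (Q : Type u) [AddCommGroup Q] [Module R Q],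
      Function.Exact (z.hom.rTensor Q) (a.hom.rTensor Q))
    (ha : ∀ (Q : Type u) [AddCommGroup Q] [Module R Q],
      Function.Surjective (a.hom.rTensor Q)) (hP : PureProj R P)
    (φ : P ⟶ B) : ∃ ψ : P ⟶ A, ψ ≫ a = φ := by
  obtain ⟨ψ, hψ⟩ := pp_lift0 y.hom z.hom a.hom hyz (exact_of_rTensor_self _ _ (hza R))
    (surjective_of_rTensor_self _ (ha R)) hP φ.hom
  refine ⟨ModuleCat.ofHom ψ, ?_⟩
  apply ModuleCat.hom_ext
  rw [ModuleCat.hom_comp]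
  exact hψ

lemma pp_lift_cat (y : Y ⟶ Z) (z : Z ⟶ A) (a : A ⟶ B) (b : B ⟶ C)
    (hyz : ∀ (Q : Type u) [AddCommGroup Q] [Module R Q],
      Function.Exact (y.hom.rTensor Q) (z.hom.rTensor Q))
    (hza : ∀ (Q : Type u) [AddCommGroup Q] [Module R Q],
      Function.Exact (z.hom.rTensor Q) (a.hom.rTensor Q))
    (hab : ∀ (Q : Type u) [AddCommGroup Q] [Module R Q],
      Function.Exact (a.hom.rTensor Q) (b.hom.rTensor Q)) (hP : PureProj R P)
    (φ : P ⟶ B) (hφ : φ ≫ b = 0) : ∃ ψ : P ⟶ A, ψ ≫ a = φ := by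
  have hφ' : b.hom ∘ₗ φ.hom = 0 := by
    rw [← ModuleCat.hom_comp, hφ]
    rfl
  obtain ⟨ψ, hψ⟩ := pp_lift y.hom z.hom a.hom b.hom hyz (exact_of_rTensor_self _ _ (hza R))
    (exact_of_rTensor_self _ _ (hab R)) hP φ.hom hφ'
  refine ⟨ModuleCat.ofHom ψ, ?_⟩
  apply ModuleCat.hom_ext
  rw [ModuleCat.hom_comp]
  exact hψ

end catlifts

section chainlifts

variable {K : ChainComplex (ModuleCat.{u} R) ℕ} {N : ModuleCat.{u} R}
  {ε : K ⟶ (ChainComplex.single₀ (ModuleCat.{u} R)).obj N} (h : UE K ε)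
  {P : ModuleCat.{u} R} (hP : PureProj R P)

include h hP

lemma UE.lift0 (φ : P ⟶ ((ChainComplex.single₀ (ModuleCat.{u} R)).obj N).X 0) :
    ∃ ψ : P ⟶ K.X 0, ψ ≫ ε.f 0 = φ :=
  pp_lift0_cat (K.d 2 1) (K.d 1 0) (ε.f 0) (fun Q _ _ => h.exS Q 0) (fun Q _ _ => h.ex0 Q)
    (fun Q _ _ => h.surj Q) hP φ

lemma UE.lift1 (φ : P ⟶ K.X 0) (hφ : φ ≫ ε.f 0 = 0) :
    ∃ ψ : P ⟶ K.X 1, ψ ≫ K.d 1 0 = φ :=
  pp_lift_cat (K.d 3 2) (K.d 2 1) (K.d 1 0) (ε.f 0) (fun Q _ _ => h.exS Q 1)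
    (fun Q _ _ => h.exS Q 0) (fun Q _ _ => h.ex0 Q) hP φ hφ

lemma UE.liftS (n : ℕ) (φ : P ⟶ K.X (n + 1)) (hφ : φ ≫ K.d (n + 1) n = 0) :
    ∃ ψ : P ⟶ K.X (n + 2), ψ ≫ K.d (n + 2) (n + 1) = φ :=
  pp_lift_cat (K.d (n + 4) (n + 3)) (K.d (n + 3) (n + 2)) (K.d (n + 2) (n + 1)) (K.d (n + 1) n)
    (fun Q _ _ => h.exS Q (n + 2)) (fun Q _ _ => h.exS Q (n + 1)) (fun Q _ _ => h.exS Q n)
    hP φ hφ

end chainlifts

end Groth.Agent.Helper8.PureRes
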