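import Groth.Agent.Helper8.PureResC

set_option autoImplicit false
open CategoryTheory
universe u

namespace Groth.Agent.Helper8.PureRes

variable {R : Type u} [CommRing R]

theorem exists_chainMap {M N : ModuleCat.{u} R} (f : M ⟶ N)
    (P N' : ChainComplex (ModuleCat.{u} R) ℕ)
    (π : P ⟶ (ChainComplex.single₀ (ModuleCat.{u} R)).obj M)
    (ε : N' ⟶ (ChainComplex.single₀ (ModuleCat.{u} R)).obj N)
    (hP : ∀ n, PureProj R (P.X n)) (hN' : UE N' ε) :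
    ∃ φ : P ⟶ N', φ ≫ ε = π ≫ (ChainComplex.single₀ (ModuleCat.{u} R)).map f := by
  obtain ⟨z, hz⟩ := hN'.lift0 (hP 0) ((π ≫ (ChainComplex.single₀ (ModuleCat.{u} R)).map f).f 0)
  have h1 : (P.d 1 0 ≫ z) ≫ ε.f 0 = 0 := by
    rw [Category.assoc, hz, ← HomologicalComplex.Hom.comm, HomologicalComplex.single_obj_d,
      Limits.comp_zero]
  obtain ⟨o, ho⟩ := hN'.lift1 (hP 1) (P.d 1 0 ≫ z) h1
  have hsucc : ∀ (n : ℕ) (p : Σ' (g : P.X n ⟶ N'.X n) (g' : P.X (n + 1) ⟶ N'.X (n + 1)),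
      g' ≫ N'.d (n + 1) n = P.d (n + 1) n ≫ g),
      ∃ g'' : P.X (n + 2) ⟶ N'.X (n + 2),
        g'' ≫ N'.d (n + 2) (n + 1) = P.d (n + 2) (n + 1) ≫ p.2.1 := by
    rintro n ⟨g, g', w⟩
    apply hN'.liftS (hP (n + 2)) n
    rw [Category.assoc, w, ← Category.assoc, P.d_comp_d, Limits.zero_comp]
  refine ⟨ChainComplex.mkHom P N' z o ho
    (fun n p => ⟨(hsucc n p).choose, (hsucc n p).choose_spec⟩), ?_⟩
  apply HomologicalComplex.to_single_hom_ext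
  rw [HomologicalComplex.comp_f, ChainComplex.mkHom_f_0]
  exact hz

theorem exists_homotopy {N : ModuleCat.{u} R}
    (P N' : ChainComplex (ModuleCat.{u} R) ℕ)
    (ε : N' ⟶ (ChainComplex.single₀ (ModuleCat.{u} R)).obj N)
    (hP : ∀ n, PureProj R (P.X n)) (hN' : UE N' ε)
    (α β : P ⟶ N') (hαβ : α ≫ ε = β ≫ ε) : Nonempty (Homotopy α β) := by
  have he : (α - β) ≫ ε = 0 := by rw [Preadditive.sub_comp, hαβ, sub_self]
  have he0 : (α - β).f 0 ≫ ε.f 0 = 0 := by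
    rw [← HomologicalComplex.comp_f, he]
    rfl
  obtain ⟨z, hz⟩ := hN'.lift1 (hP 0) ((α - β).f 0) he0
  have h1 : ((α - β).f 1 - P.d 1 0 ≫ z) ≫ N'.d 1 0 = 0 := by
    rw [Preadditive.sub_comp, Category.assoc, hz, (α - β).comm 1 0, sub_self]
  obtain ⟨o, ho⟩ := hN'.liftS (hP 1) 0 _ h1
  have hsucc : ∀ (n : ℕ) (p : Σ' (g : P.X n ⟶ N'.X (n + 1)) (g' : P.X (n + 1) ⟶ N'.X (n + 2)),
      (α - β).f (n + 1) = P.d (n + 1) n ≫ g + g' ≫ N'.d (n + 2) (n + 1)),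
      ∃ g'' : P.X (n + 2) ⟶ N'.X (n + 3),
        (α - β).f (n + 2) = P.d (n + 2) (n + 1) ≫ p.2.1 + g'' ≫ N'.d (n + 3) (n + 2) := by
    rintro n ⟨g, g', w⟩
    have h3 : g' ≫ N'.d (n + 2) (n + 1) = (α - β).f (n + 1) - P.d (n + 1) n ≫ g := by
      rw [w]; abel
    have h2 : ((α - β).f (n + 2) - P.d (n + 2) (n + 1) ≫ g') ≫ N'.d (n + 2) (n + 1) = 0 := by
      rw [Preadditive.sub_comp, (α - β).comm (n + 2) (n + 1), Category.assoc, h3,
        Preadditive.comp_sub, ← Category.assoc (P.d (n + 2) (n + 1)), P.d_comp_d,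
        Limits.zero_comp, sub_zero, sub_self]
    obtain ⟨g'', hg''⟩ := hN'.liftS (hP (n + 2)) (n + 1) _ h2
    refine ⟨g'', ?_⟩
    change _ = P.d (n + 2) (n + 1) ≫ g' + g'' ≫ N'.d (n + 3) (n + 2)
    rw [hg'']; abel
  exact ⟨Homotopy.equivSubZero.symm (Homotopy.mkInductive (α - β) z hz.symm o
    (by rw [ho]; abel)
    (fun n p => ⟨(hsucc n p).choose, (hsucc n p).choose_spec⟩))⟩

end Groth.Agent.Helper8.PureRes
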