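import Groth.Agent.Helper8.PureResB

set_option autoImplicit false
open CategoryTheory
universe u

namespace Groth.Agent.Helper8.PureRes

variable {R : Type u} [CommRing R]

/-- universal exactness of a coaugmented cochain complex, at the level of modules -/
structure UE' (K : CochainComplex (ModuleCat.{u} R) ℕ) {M : ModuleCat.{u} R}
    (η : (CochainComplex.single₀ (ModuleCat.{u} R)).obj M ⟶ K) : Prop where
  exS : ∀ (Q : Type u) [AddCommGroup Q] [Module R Q] (n : ℕ),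
    Function.Exact (LinearMap.rTensor Q (K.d n (n + 1)).hom)
      (LinearMap.rTensor Q (K.d (n + 1) (n + 2)).hom)
  ex0 : ∀ (Q : Type u) [AddCommGroup Q] [Module R Q],
    Function.Exact (LinearMap.rTensor Q (η.f 0).hom) (LinearMap.rTensor Q (K.d 0 1).hom)
  inj : ∀ (Q : Type u) [AddCommGroup Q] [Module R Q],
    Function.Injective (LinearMap.rTensor Q (η.f 0).hom)

theorem ue_iff' (K : CochainComplex (ModuleCat.{u} R) ℕ) {M : ModuleCat.{u} R}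
    (η : (CochainComplex.single₀ (ModuleCat.{u} R)).obj M ⟶ K) :
    (∀ T : ModuleCat.{u} R, QuasiIso
      (((MonoidalCategory.tensorRight T).mapHomologicalComplex (ComplexShape.up ℕ)).map η)) ↔
      UE' K η := by
  constructor
  · intro h
    refine ⟨fun Q _ _ n => ?_, fun Q _ _ => ?_, fun Q _ _ => ?_⟩
    · exact ((quasiIso_tensor_iff' K η (ModuleCat.of R Q)).1 (h _)).1 n
    · exact ((quasiIso_tensor_iff' K η (ModuleCat.of R Q)).1 (h _)).2.1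
    · exact ((quasiIso_tensor_iff' K η (ModuleCat.of R Q)).1 (h _)).2.2
  · intro h T
    exact (quasiIso_tensor_iff' K η T).2 ⟨fun n => h.exS T n, h.ex0 T, h.inj T⟩

section catexts

variable {A B C I : ModuleCat.{u} R}

lemma pi_ext0_cat (a : A ⟶ B)
    (ha : ∀ (Q : Type u) [AddCommGroup Q] [Module R Q],
      Function.Injective (a.hom.rTensor Q)) (hI : PureInj R I)
    (φ : A ⟶ I) : ∃ ψ : B ⟶ I, a ≫ ψ = φ := by
  obtain ⟨ψ, hψ⟩ := hI a.hom (fun Q _ _ => ha Q) φ.hom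
  refine ⟨ModuleCat.ofHom ψ, ?_⟩
  apply ModuleCat.hom_ext
  rw [ModuleCat.hom_comp]
  exact hψ

lemma pi_ext_cat (a : A ⟶ B) (b : B ⟶ C)
    (hab : ∀ (Q : Type u) [AddCommGroup Q] [Module R Q],
      Function.Exact (a.hom.rTensor Q) (b.hom.rTensor Q)) (hI : PureInj R I)
    (φ : B ⟶ I) (hφ : a ≫ φ = 0) : ∃ ψ : C ⟶ I, b ≫ ψ = φ := by
  have hφ' : φ.hom ∘ₗ a.hom = 0 := by
    rw [← ModuleCat.hom_comp, hφ]
    rfl
  obtain ⟨ψ, hψ⟩ := pi_ext a.hom b.hom hab hI φ.hom hφ'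
  refine ⟨ModuleCat.ofHom ψ, ?_⟩
  apply ModuleCat.hom_ext
  rw [ModuleCat.hom_comp]
  exact hψ

end catexts

section cochainexts

variable {K : CochainComplex (ModuleCat.{u} R) ℕ} {M : ModuleCat.{u} R}
  {η : (CochainComplex.single₀ (ModuleCat.{u} R)).obj M ⟶ K} (h : UE' K η)
  {I : ModuleCat.{u} R} (hI : PureInj R I)

include h hI

lemma UE'.ext0 (φ : ((CochainComplex.single₀ (ModuleCat.{u} R)).obj M).X 0 ⟶ I) :
    ∃ ψ : K.X 0 ⟶ I, η.f 0 ≫ ψ = φ :=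
  pi_ext0_cat (η.f 0) (fun Q _ _ => h.inj Q) hI φ

lemma UE'.ext1 (φ : K.X 0 ⟶ I) (hφ : η.f 0 ≫ φ = 0) :
    ∃ ψ : K.X 1 ⟶ I, K.d 0 1 ≫ ψ = φ :=
  pi_ext_cat (η.f 0) (K.d 0 1) (fun Q _ _ => h.ex0 Q) hI φ hφ

lemma UE'.extS (n : ℕ) (φ : K.X (n + 1) ⟶ I) (hφ : K.d n (n + 1) ≫ φ = 0) :
    ∃ ψ : K.X (n + 2) ⟶ I, K.d (n + 1) (n + 2) ≫ ψ = φ :=
  pi_ext_cat (K.d n (n + 1)) (K.d (n + 1) (n + 2)) (fun Q _ _ => h.exS Q n) hI φ hφ

end cochainexts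

theorem exists_cochainMap {M N : ModuleCat.{u} R} (f : M ⟶ N)
    (M' I : CochainComplex (ModuleCat.{u} R) ℕ)
    (η : (CochainComplex.single₀ (ModuleCat.{u} R)).obj M ⟶ M')
    (ε : (CochainComplex.single₀ (ModuleCat.{u} R)).obj N ⟶ I)
    (hM' : UE' M' η) (hI : ∀ n, PureInj R (I.X n)) :
    ∃ φ : M' ⟶ I, η ≫ φ = (CochainComplex.single₀ (ModuleCat.{u} R)).map f ≫ ε := by
  obtain ⟨z, hz⟩ := hM'.ext0 (hI 0)
    (((CochainComplex.single₀ (ModuleCat.{u} R)).map f ≫ ε).f 0)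
  have h1 : η.f 0 ≫ (z ≫ I.d 0 1) = 0 := by
    rw [← Category.assoc, hz, HomologicalComplex.Hom.comm, HomologicalComplex.single_obj_d,
      Limits.zero_comp]
  obtain ⟨o, ho⟩ := hM'.ext1 (hI 1) (z ≫ I.d 0 1) h1
  have hsucc : ∀ (n : ℕ) (p : Σ' (g : M'.X n ⟶ I.X n) (g' : M'.X (n + 1) ⟶ I.X (n + 1)),
      g ≫ I.d n (n + 1) = M'.d n (n + 1) ≫ g'),
      ∃ g'' : M'.X (n + 2) ⟶ I.X (n + 2),
        p.2.1 ≫ I.d (n + 1) (n + 2) = M'.d (n + 1) (n + 2) ≫ g'' := by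
    rintro n ⟨g, g', w⟩
    have h2 : M'.d n (n + 1) ≫ (g' ≫ I.d (n + 1) (n + 2)) = 0 := by
      rw [← Category.assoc, ← w, Category.assoc, I.d_comp_d, Limits.comp_zero]
    obtain ⟨g'', hg''⟩ := hM'.extS (hI (n + 2)) n _ h2
    exact ⟨g'', hg''.symm⟩
  refine ⟨CochainComplex.mkHom M' I z o ho.symm
    (fun n p => ⟨(hsucc n p).choose, (hsucc n p).choose_spec⟩), ?_⟩
  apply HomologicalComplex.from_single_hom_ext
  rw [HomologicalComplex.comp_f, CochainComplex.mkHom_f_0]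
  exact hz

theorem exists_homotopy' {M : ModuleCat.{u} R}
    (M' I : CochainComplex (ModuleCat.{u} R) ℕ)
    (η : (CochainComplex.single₀ (ModuleCat.{u} R)).obj M ⟶ M')
    (hM' : UE' M' η) (hI : ∀ n, PureInj R (I.X n))
    (α β : M' ⟶ I) (hαβ : η ≫ α = η ≫ β) : Nonempty (Homotopy α β) := by
  have he : η ≫ (α - β) = 0 := by rw [Preadditive.comp_sub, hαβ, sub_self]
  have he0 : η.f 0 ≫ (α - β).f 0 = 0 := by
    rw [← HomologicalComplex.comp_f, he]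
    rfl
  obtain ⟨z, hz⟩ := hM'.ext1 (hI 0) ((α - β).f 0) he0
  have h1 : M'.d 0 1 ≫ ((α - β).f 1 - z ≫ I.d 0 1) = 0 := by
    rw [Preadditive.comp_sub, ← Category.assoc, hz, (α - β).comm 0 1, sub_self]
  obtain ⟨o, ho⟩ := hM'.extS (hI 1) 0 _ h1
  have hsucc : ∀ (n : ℕ) (p : Σ' (g : M'.X (n + 1) ⟶ I.X n) (g' : M'.X (n + 2) ⟶ I.X (n + 1)),
      (α - β).f (n + 1) = g ≫ I.d n (n + 1) + M'.d (n + 1) (n + 2) ≫ g'),
      ∃ g'' : M'.X (n + 3) ⟶ I.X (n + 2),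
        (α - β).f (n + 2) = p.2.1 ≫ I.d (n + 1) (n + 2) + M'.d (n + 2) (n + 3) ≫ g'' := by
    rintro n ⟨g, g', w⟩
    have h3 : M'.d (n + 1) (n + 2) ≫ g' = (α - β).f (n + 1) - g ≫ I.d n (n + 1) := by
      rw [w]; abel
    have h2 : M'.d (n + 1) (n + 2) ≫ ((α - β).f (n + 2) - g' ≫ I.d (n + 1) (n + 2)) = 0 := by
      rw [Preadditive.comp_sub, ← (α - β).comm (n + 1) (n + 2), ← Category.assoc, h3,
        Preadditive.sub_comp, Category.assoc g, I.d_comp_d, Limits.comp_zero, sub_zero, sub_self]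
    obtain ⟨g'', hg''⟩ := hM'.extS (hI (n + 2)) (n + 1) _ h2
    refine ⟨g'', ?_⟩
    change _ = g' ≫ I.d (n + 1) (n + 2) + M'.d (n + 2) (n + 3) ≫ g''
    rw [hg'']; abel
  exact ⟨Homotopy.equivSubZero.symm (Homotopy.mkCoinductive (α - β) z hz.symm o
    (by rw [ho]; abel)
    (fun n p => ⟨(hsucc n p).choose, (hsucc n p).choose_spec⟩))⟩

end Groth.Agent.Helper8.PureRes
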