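import Groth.Agent.Helper8.PureResC
import Groth.Agent.S8770

set_option autoImplicit false
open CategoryTheory
universe u

namespace Groth.Agent.Helper8.PureRes

variable {R : Type u} [CommRing R]

section splice

variable {A B C D E : Type u} [AddCommGroup A] [Module R A] [AddCommGroup B] [Module R B]
  [AddCommGroup C] [Module R C] [AddCommGroup D] [Module R D] [AddCommGroup E] [Module R E]

lemma splice_exact (p' : A →ₗ[R] B) (i' : B →ₗ[R] C) (p : C →ₗ[R] D) (i : D →ₗ[R] E)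
    (hp' : Function.Surjective p') (hex : Function.Exact i' p) (hi : Function.Injective i) :
    Function.Exact (i' ∘ₗ p') (i ∘ₗ p) := by
  intro x
  constructor
  · intro hx
    have h1 : p x = 0 := hi (by rw [map_zero]; exact hx)
    obtain ⟨b, rfl⟩ := (hex x).1 h1
    obtain ⟨a, rfl⟩ := hp' b
    exact ⟨a, rfl⟩
  · rintro ⟨a, rfl⟩
    change i (p (i' (p' a))) = 0
    rw [(hex (i' (p' a))).2 ⟨_, rfl⟩, map_zero]

lemma splice_exact0 (p' : A →ₗ[R] B) (i' : B →ₗ[R] C) (p : C →ₗ[R] D)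
    (hp' : Function.Surjective p') (hex : Function.Exact i' p) :
    Function.Exact (i' ∘ₗ p') p := by
  intro x
  constructor
  · intro hx
    obtain ⟨b, rfl⟩ := (hex x).1 hx
    obtain ⟨a, rfl⟩ := hp' b
    exact ⟨a, rfl⟩
  · rintro ⟨a, rfl⟩
    exact (hex (i' (p' a))).2 ⟨_, rfl⟩

end splice

/-- "direct summand of a direct sum of finitely presented modules" -/
def IsSummandDFinsuppFP (R : Type u) [CommRing R] (P : Type u) [AddCommGroup P] [Module R P] :
    Prop :=
  ∃ (ι : Type u) (Q : ι → Type u) (_ : ∀ i, AddCommGroup (Q i)) (_ : ∀ i, Module R (Q i)),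
    (∀ i, Module.FinitePresentation R (Q i)) ∧
    ∃ (s : P →ₗ[R] (Π₀ i, Q i)) (r : (Π₀ i, Q i) →ₗ[R] P), r ∘ₗ s = LinearMap.id

/-- a pure cover of `M` by a pure projective module -/
structure Cover (M : ModuleCat.{u} R) where
  src : ModuleCat.{u} R
  g : src ⟶ M
  surj : Function.Surjective g.hom
  ui : CAlgX.UniversallyInjective R (LinearMap.ker g.hom).subtype
  pp : IsSummandDFinsuppFP R src

lemma nonempty_cover (M : ModuleCat.{u} R) : Nonempty (Cover M) := by
  obtain ⟨ι, Q, i1, i2, hfp, g, hsurj, hui⟩ := Groth.Agent.S8770.result R M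
  exact ⟨{ src := ModuleCat.of R (Π₀ i, Q i), g := ModuleCat.ofHom g, surj := hsurj, ui := hui,
           pp := ⟨ι, Q, i1, i2, hfp, LinearMap.id, LinearMap.id, rfl⟩ }⟩

noncomputable def cover (M : ModuleCat.{u} R) : Cover M := Classical.choice (nonempty_cover M)

/-- iterated syzygies -/
noncomputable def syz (M : ModuleCat.{u} R) : ℕ → ModuleCat.{u} R
  | 0 => M
  | n + 1 => ModuleCat.of R (LinearMap.ker (cover (syz M n)).g.hom)

variable (M : ModuleCat.{u} R)

noncomputable def PX (n : ℕ) : ModuleCat.{u} R := (cover (syz M n)).src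

noncomputable def pp (n : ℕ) : PX M n ⟶ syz M n := (cover (syz M n)).g

noncomputable def ii (n : ℕ) : syz M (n + 1) ⟶ PX M n :=
  ModuleCat.ofHom (LinearMap.ker (cover (syz M n)).g.hom).subtype

lemma ii_pp (n : ℕ) : ii M n ≫ pp M n = 0 := by
  apply ModuleCat.hom_ext
  ext x
  exact x.2

noncomputable def dd (n : ℕ) : PX M (n + 1) ⟶ PX M n := pp M (n + 1) ≫ ii M n

lemma dd_dd (n : ℕ) : dd M (n + 1) ≫ dd M n = 0 := by
  unfold dd
  rw [Category.assoc, ← Category.assoc (ii M (n + 1)), ii_pp, Limits.zero_comp, Limits.comp_zero]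

noncomputable def cx : ChainComplex (ModuleCat.{u} R) ℕ :=
  ChainComplex.of (PX M) (dd M) (dd_dd M)

lemma cx_d (n : ℕ) : (cx M).d (n + 1) n = dd M n := ChainComplex.of_d _ _ _

lemma cx_d_pp : (cx M).d 1 0 ≫ (show (cx M).X 0 ⟶ M from pp M 0) = 0 := by
  rw [cx_d M 0]
  change (pp M 1 ≫ ii M 0) ≫ pp M 0 = 0
  rw [Category.assoc, ii_pp, Limits.comp_zero]

noncomputable def aug : cx M ⟶ (ChainComplex.single₀ (ModuleCat.{u} R)).obj M :=
  (ChainComplex.toSingle₀Equiv (cx M) M).symm ⟨pp M 0, cx_d_pp M⟩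

lemma aug_f_zero : (aug M).f 0 = pp M 0 :=
  ChainComplex.toSingle₀Equiv_symm_apply_f_zero _ _

section facts

variable (Q : Type u) [AddCommGroup Q] [Module R Q]

lemma rT_ii_injective (n : ℕ) : Function.Injective (LinearMap.rTensor Q (ii M n).hom) :=
  (cover (syz M n)).ui Q

lemma rT_pp_surjective (n : ℕ) : Function.Surjective (LinearMap.rTensor Q (pp M n).hom) :=
  LinearMap.rTensor_surjective Q (cover (syz M n)).surj

lemma rT_ii_pp_exact (n : ℕ) :
    Function.Exact (LinearMap.rTensor Q (ii M n).hom) (LinearMap.rTensor Q (pp M n).hom) :=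
  rTensor_exact Q (LinearMap.exact_subtype_ker_map (cover (syz M n)).g.hom)
    (cover (syz M n)).surj

lemma rT_dd (n : ℕ) : LinearMap.rTensor Q (dd M n).hom =
    LinearMap.rTensor Q (ii M n).hom ∘ₗ LinearMap.rTensor Q (pp M (n + 1)).hom := by
  unfold dd
  rw [ModuleCat.hom_comp, LinearMap.rTensor_comp]

lemma rT_cx_d (n : ℕ) : LinearMap.rTensor Q ((cx M).d (n + 1) n).hom =
    LinearMap.rTensor Q (ii M n).hom ∘ₗ LinearMap.rTensor Q (pp M (n + 1)).hom :=
  (congrArg (fun f : (cx M).X (n + 1) ⟶ (cx M).X n => LinearMap.rTensor Q (ModuleCat.Hom.hom f))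
    (cx_d M n)).trans (rT_dd M Q n)

lemma rT_aug : LinearMap.rTensor Q ((aug M).f 0).hom = LinearMap.rTensor Q (pp M 0).hom :=
  congrArg (fun f : (cx M).X 0 ⟶ M => LinearMap.rTensor Q (ModuleCat.Hom.hom f)) (aug_f_zero M)

end facts

theorem ue_cx : UE (cx M) (aug M) where
  exS Q _ _ n := by
    rw [rT_cx_d M Q (n + 1), rT_cx_d M Q n]
    exact splice_exact _ _ _ _ (rT_pp_surjective M Q (n + 2)) (rT_ii_pp_exact M Q (n + 1))
      (rT_ii_injective M Q n)
  ex0 Q _ _ := by
    rw [rT_cx_d M Q 0, rT_aug M Q]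
    exact splice_exact0 _ _ _ (rT_pp_surjective M Q 1) (rT_ii_pp_exact M Q 0)
  surj Q _ _ := by
    rw [rT_aug M Q]
    exact rT_pp_surjective M Q 0

theorem exists_pureProjective_resolution :
    ∃ (P : ChainComplex (ModuleCat.{u} R) ℕ)
      (π : P ⟶ (ChainComplex.single₀ (ModuleCat.{u} R)).obj M),
      (∀ n : ℕ, IsSummandDFinsuppFP R (P.X n)) ∧
      ∀ N : ModuleCat.{u} R,
        QuasiIso (((MonoidalCategory.tensorRight N).mapHomologicalComplex
          (ComplexShape.down ℕ)).map π) :=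
  ⟨cx M, aug M, fun n => (cover (syz M n)).pp, (ue_iff _ _).2 (ue_cx M)⟩

end Groth.Agent.Helper8.PureRes
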