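import Groth.Agent.Helper8.PureResE
import Groth.Agent.Helper8.PureResF
import Groth.Agent.S8772

set_option autoImplicit false
open CategoryTheory
universe u

namespace Groth.Agent.Helper8.PureRes

variable {R : Type u} [CommRing R]

lemma splice_exact1 {B C D E : Type u} [AddCommGroup B] [Module R B]
    [AddCommGroup C] [Module R C] [AddCommGroup D] [Module R D] [AddCommGroup E] [Module R E]
    (i' : B →ₗ[R] C) (p : C →ₗ[R] D) (i : D →ₗ[R] E)
    (hex : Function.Exact i' p) (hi : Function.Injective i) :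
    Function.Exact i' (i ∘ₗ p) := by
  intro x
  rw [← hex x]
  constructor
  · intro hx
    exact hi (by rw [map_zero]; exact hx)
  · intro hx
    change i (p x) = 0
    rw [hx, map_zero]

/-- character modules are pure injective -/
lemma pureInj_characterModule (B : Type u) [AddCommGroup B] [Module R B] :
    PureInj R (CharacterModule B) := by
  intro K L _ _ _ _ g hg φ
  exact (rTensor_injective_iff_lcomp_surjective (B := B)).mp (hg B) φ

/-- iterated cosyzygies -/
noncomputable def cosyz (M : ModuleCat.{u} R) : ℕ → ModuleCat.{u} R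
  | 0 => M
  | n + 1 => ModuleCat.of R (CharacterModule (CharacterModule (cosyz M n)) ⧸
      LinearMap.range (PureExt.charEval R (cosyz M n)))

variable (M : ModuleCat.{u} R)

noncomputable def IX (n : ℕ) : ModuleCat.{u} R :=
  ModuleCat.of R (CharacterModule (CharacterModule (cosyz M n)))

noncomputable def jj (n : ℕ) : cosyz M n ⟶ IX M n :=
  ModuleCat.ofHom (PureExt.charEval R (cosyz M n))

noncomputable def qq (n : ℕ) : IX M n ⟶ cosyz M (n + 1) :=
  ModuleCat.ofHom (LinearMap.range (PureExt.charEval R (cosyz M n))).mkQ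

lemma jj_qq (n : ℕ) : jj M n ≫ qq M n = 0 := by
  apply ModuleCat.hom_ext
  ext x
  change (LinearMap.range (PureExt.charEval R (cosyz M n))).mkQ
    (PureExt.charEval R (cosyz M n) x) = 0
  rw [Submodule.mkQ_apply, Submodule.Quotient.mk_eq_zero]
  exact ⟨x, rfl⟩

noncomputable def dd' (n : ℕ) : IX M n ⟶ IX M (n + 1) := qq M n ≫ jj M (n + 1)

lemma dd'_dd' (n : ℕ) : dd' M n ≫ dd' M (n + 1) = 0 := by
  unfold dd'
  rw [Category.assoc, ← Category.assoc (jj M (n + 1)), jj_qq, Limits.zero_comp, Limits.comp_zero]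

noncomputable def cx' : CochainComplex (ModuleCat.{u} R) ℕ :=
  CochainComplex.of (IX M) (dd' M) (dd'_dd' M)

lemma cx'_d (n : ℕ) : (cx' M).d n (n + 1) = dd' M n := CochainComplex.of_d _ _ _

lemma jj_cx'_d : (show M ⟶ (cx' M).X 0 from jj M 0) ≫ (cx' M).d 0 1 = 0 := by
  rw [cx'_d M 0]
  change jj M 0 ≫ (qq M 0 ≫ jj M 1) = 0
  rw [← Category.assoc, jj_qq, Limits.zero_comp]

noncomputable def coaug : (CochainComplex.single₀ (ModuleCat.{u} R)).obj M ⟶ cx' M :=
  (CochainComplex.fromSingle₀Equiv (cx' M) M).symm ⟨jj M 0, jj_cx'_d M⟩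

lemma coaug_f_zero : (coaug M).f 0 = jj M 0 :=
  CochainComplex.fromSingle₀Equiv_symm_apply_f_zero _ _

section facts

variable (Q : Type u) [AddCommGroup Q] [Module R Q]

lemma rT_jj_injective (n : ℕ) : Function.Injective (LinearMap.rTensor Q (jj M n).hom) :=
  Groth.Agent.S8772.result R (cosyz M n) Q

lemma rT_qq_surjective (n : ℕ) : Function.Surjective (LinearMap.rTensor Q (qq M n).hom) :=
  LinearMap.rTensor_surjective Q (Submodule.mkQ_surjective _)

lemma rT_jj_qq_exact (n : ℕ) :
    Function.Exact (LinearMap.rTensor Q (jj M n).hom) (LinearMap.rTensor Q (qq M n).hom) :=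
  rTensor_exact Q (LinearMap.exact_map_mkQ_range (PureExt.charEval R (cosyz M n)))
    (Submodule.mkQ_surjective _)

lemma rT_dd' (n : ℕ) : LinearMap.rTensor Q (dd' M n).hom =
    LinearMap.rTensor Q (jj M (n + 1)).hom ∘ₗ LinearMap.rTensor Q (qq M n).hom := by
  unfold dd'
  rw [ModuleCat.hom_comp, LinearMap.rTensor_comp]

lemma rT_cx'_d (n : ℕ) : LinearMap.rTensor Q ((cx' M).d n (n + 1)).hom =
    LinearMap.rTensor Q (jj M (n + 1)).hom ∘ₗ LinearMap.rTensor Q (qq M n).hom :=
  (congrArg (fun f : (cx' M).X n ⟶ (cx' M).X (n + 1) =>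
    LinearMap.rTensor Q (ModuleCat.Hom.hom f)) (cx'_d M n)).trans (rT_dd' M Q n)

lemma rT_coaug : LinearMap.rTensor Q ((coaug M).f 0).hom = LinearMap.rTensor Q (jj M 0).hom :=
  congrArg (fun f : M ⟶ (cx' M).X 0 => LinearMap.rTensor Q (ModuleCat.Hom.hom f))
    (coaug_f_zero M)

end facts

theorem ue_cx' : UE' (cx' M) (coaug M) where
  exS Q _ _ n := by
    rw [rT_cx'_d M Q n, rT_cx'_d M Q (n + 1)]
    exact splice_exact _ _ _ _ (rT_qq_surjective M Q n) (rT_jj_qq_exact M Q (n + 1))
      (rT_jj_injective M Q (n + 2))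
  ex0 Q _ _ := by
    rw [rT_cx'_d M Q 0, rT_coaug M Q]
    exact splice_exact1 _ _ _ (rT_jj_qq_exact M Q 0) (rT_jj_injective M Q 1)
  inj Q _ _ := by
    rw [rT_coaug M Q]
    exact rT_jj_injective M Q 0

theorem exists_pureInjective_resolution :
    ∃ (I : CochainComplex (ModuleCat.{u} R) ℕ)
      (η : (CochainComplex.single₀ (ModuleCat.{u} R)).obj M ⟶ I),
      (∀ n : ℕ, PureInj R (I.X n)) ∧
      ∀ T : ModuleCat.{u} R,
        QuasiIso (((MonoidalCategory.tensorRight T).mapHomologicalComplex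
          (ComplexShape.up ℕ)).map η) :=
  ⟨cx' M, coaug M, fun n => pureInj_characterModule (CharacterModule (cosyz M n)),
    (ue_iff' _ _).2 (ue_cx' M)⟩

end Groth.Agent.Helper8.PureRes
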