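import Mathlib
import Groth.Agent.Helper8.PureOpen
import Groth.Agent.Helper4.FinLocFree6
import Groth.Agent.Helper4.FinLocFree4
import Groth.Agent.Helper4.QcohGlue

/-!
# Finite flat quasi-coherent modules are locally free iff closed generization-stable sets are open

Scheme version of `PureOpen` (ring version).
-/

set_option autoImplicit false
universe u
open CategoryTheory CategoryTheory.Limits AlgebraicGeometry TopologicalSpace Opposite

namespace Groth.Agent.Helper8.PureSch

open Groth.Agent.Helper8.PureOpen Groth.Agent.Helper4 Groth.Agent.Helper4.StalkDict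

section ring
variable {R : Type u} [CommRing R]

theorem pure_vanIdeal {Z : Set (PrimeSpectrum R)} (hZ : IsClosed Z)
    (hgen : StableUnderGeneralization Z) : (vanIdeal Z).Pure := by
  apply Ideal.Pure.of_inf_eq_mul
  intro J _
  apply le_antisymm
  · rintro x ⟨hxI, hxJ⟩
    obtain ⟨y, hy, hxy⟩ := exists_eq_mul_of_mem_vanIdeal hZ hgen hxI
    have h1 : y * x ∈ vanIdeal Z * J := Ideal.mul_mem_mul hy hxJ
    rwa [mul_comm y x, ← hxy] at h1
  · exact Ideal.mul_le_inf

theorem map_vanIdeal_le {S : Type u} [CommRing S] (ρ : R →+* S) (Z : Set (PrimeSpectrum R)) :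
    (vanIdeal Z).map ρ ≤ vanIdeal (PrimeSpectrum.comap ρ ⁻¹' Z) := by
  rw [Ideal.map_le_iff_le_comap]
  intro a ha
  rw [Ideal.mem_comap, mem_vanIdeal]
  intro p' hp'
  obtain ⟨s, hs, hsa⟩ := mem_vanIdeal.mp ha _ hp'
  exact ⟨ρ s, hs, by rw [← map_mul, hsa, map_zero]⟩

theorem exists_notMem_of_map_mem {S : Type u} [CommRing S] [Algebra R S] (f : R)
    [IsLocalization.Away f S] {Z : Set (PrimeSpectrum R)} {a : R}
    (ha : algebraMap R S a ∈ vanIdeal (PrimeSpectrum.comap (algebraMap R S) ⁻¹' Z))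
    (p : PrimeSpectrum R) (hp : p ∈ Z) (hfp : f ∉ p.asIdeal) :
    ∃ s, s ∉ p.asIdeal ∧ s * a = 0 := by
  have hdisj : Disjoint (Submonoid.powers f : Set R) (p.asIdeal : Set R) := by
    rw [Set.disjoint_left]
    rintro _ ⟨k, rfl⟩ hk
    exact hfp (p.2.mem_of_pow_mem k hk)
  have hprime : (p.asIdeal.map (algebraMap R S)).IsPrime :=
    IsLocalization.isPrime_of_isPrime_disjoint (Submonoid.powers f) S _ p.2 hdisj
  have hcomap : (p.asIdeal.map (algebraMap R S)).comap (algebraMap R S) = p.asIdeal :=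
    IsLocalization.comap_map_of_isPrime_disjoint (Submonoid.powers f) S p.2 hdisj
  let P' : PrimeSpectrum S := ⟨p.asIdeal.map (algebraMap R S), hprime⟩
  have hP' : P' ∈ PrimeSpectrum.comap (algebraMap R S) ⁻¹' Z := by
    show PrimeSpectrum.comap (algebraMap R S) P' ∈ Z
    have : PrimeSpectrum.comap (algebraMap R S) P' = p := PrimeSpectrum.ext hcomap
    rw [this]
    exact hp
  obtain ⟨t', ht', hta⟩ := mem_vanIdeal.mp ha P' hP'
  obtain ⟨t, s, rfl⟩ := IsLocalization.exists_mk'_eq (Submonoid.powers f) t'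
  have ht : t ∉ p.asIdeal := by
    intro htp
    apply ht'
    show IsLocalization.mk' S t s ∈ p.asIdeal.map (algebraMap R S)
    rw [IsLocalization.mk'_mem_map_algebraMap_iff]
    exact ⟨1, Submonoid.one_mem _, by rwa [one_mul]⟩
  have h0 : algebraMap R S (t * a) = 0 := by
    rw [map_mul, ← IsLocalization.mk'_spec S t s, mul_right_comm, hta, zero_mul]
  obtain ⟨c, hc⟩ := (IsLocalization.map_eq_zero_iff (Submonoid.powers f) S _).mp h0
  refine ⟨c * t, ?_, by rw [mul_assoc]; exact hc⟩
  intro hct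
  rcases p.2.mem_or_mem hct with h | h
  · obtain ⟨k, hk⟩ := c.2
    rw [← hk] at h
    exact hfp (p.2.mem_of_pow_mem k h)
  · exact ht h

theorem map_vanIdeal_away {S : Type u} [CommRing S] [Algebra R S] (f : R)
    [IsLocalization.Away f S] {Z : Set (PrimeSpectrum R)} (hZ : IsClosed Z)
    (hgen : StableUnderGeneralization Z) :
    (vanIdeal Z).map (algebraMap R S) =
      vanIdeal (PrimeSpectrum.comap (algebraMap R S) ⁻¹' Z) := by
  apply le_antisymm (map_vanIdeal_le _ _)
  intro b hb
  obtain ⟨a, s, rfl⟩ := IsLocalization.exists_mk'_eq (Submonoid.powers f) b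
  have hunit : ∀ k, IsUnit (algebraMap R S (f ^ k)) := fun k =>
    IsLocalization.map_units S (⟨f ^ k, k, rfl⟩ : Submonoid.powers f)
  have ha : algebraMap R S a ∈ vanIdeal (PrimeSpectrum.comap (algebraMap R S) ⁻¹' Z) := by
    rw [← IsLocalization.mk'_spec S a s]
    exact Ideal.mul_mem_right _ _ hb
  have hrad : f ∈ ((Ideal.span {a}).annihilator ⊔ vanIdeal Z).radical := by
    rw [Ideal.radical_eq_sInf, Ideal.mem_sInf]
    rintro q ⟨hle, hq⟩
    by_contra hfq
    have hqZ : (⟨q, hq⟩ : PrimeSpectrum R) ∈ Z := by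
      rw [← zeroLocus_vanIdeal hZ hgen]
      intro y hy
      exact hle (Ideal.mem_sup_right hy)
    obtain ⟨s', hs', hsa⟩ := exists_notMem_of_map_mem f ha ⟨q, hq⟩ hqZ hfq
    apply hs'
    apply hle
    apply Ideal.mem_sup_left
    rw [Submodule.mem_annihilator_span_singleton]
    exact hsa
  obtain ⟨N, hN⟩ := hrad
  obtain ⟨c, hc, j, hj, hcj⟩ := Submodule.mem_sup.mp hN
  rw [Submodule.mem_annihilator_span_singleton, smul_eq_mul] at hc
  have h1 : f ^ N * a = j * a := by rw [← hcj, add_mul, hc, zero_add]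
  have h2 : algebraMap R S a ∈ (vanIdeal Z).map (algebraMap R S) := by
    have h3 : algebraMap R S (f ^ N) * algebraMap R S a ∈ (vanIdeal Z).map (algebraMap R S) := by
      rw [← map_mul, h1, map_mul]
      exact Ideal.mul_mem_right _ _ (Ideal.mem_map_of_mem _ hj)
    exact (Ideal.unit_mul_mem_iff_mem _ (hunit N)).mp h3
  rw [IsLocalization.mk'_eq_mul_mk'_one]
  exact Ideal.mul_mem_right _ _ h2

theorem flat_of_surjective_of_pure_ker {A B : Type u} [CommRing A] [CommRing B] [Algebra A B]
    (hs : Function.Surjective (algebraMap A B)) (hp : (RingHom.ker (algebraMap A B)).Pure) :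
    Module.Flat A B := by
  let f : A →ₗ[A] B := Algebra.linearMap A B
  have hf : Function.Surjective f := hs
  have hk : LinearMap.ker f = RingHom.ker (algebraMap A B) := by
    ext a
    simp [f, RingHom.mem_ker]
  haveI : Module.Flat A (A ⧸ LinearMap.ker f) := by
    rw [hk]
    exact hp
  exact Module.Flat.of_linearEquiv (f.quotKerEquivOfSurjective hf).symm

end ring

section sch
variable {X : Scheme.{u}}

/-- the preimage of `Z` in the spectrum of an affine open -/
def zOf (Z : Set X) {U : X.Opens} (hU : IsAffineOpen U) : Set (PrimeSpectrum Γ(X, U)) :=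
  {q | hU.fromSpec q ∈ Z}

theorem isClosed_zOf (Z : Set X) (hZ : IsClosed Z) {U : X.Opens} (hU : IsAffineOpen U) :
    IsClosed (zOf Z hU) :=
  hZ.preimage hU.fromSpec.continuous

theorem stableUnderGeneralization_zOf (Z : Set X) (hgen : StableUnderGeneralization Z)
    {U : X.Opens} (hU : IsAffineOpen U) : StableUnderGeneralization (zOf Z hU) := by
  intro q q' h hq
  exact hgen (h.map hU.fromSpec.continuous) hq

theorem zOf_basicOpen (Z : Set X) {U : X.Opens} (hU : IsAffineOpen U) (f : Γ(X, U)) :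
    zOf Z (hU.basicOpen f) =
      PrimeSpectrum.comap (algebraMap Γ(X, U) Γ(X, X.basicOpen f)) ⁻¹' zOf Z hU := by
  ext q
  have h := hU.map_fromSpec (hU.basicOpen f) (homOfLE (X.basicOpen_le f)).op
  have h2 : (hU.basicOpen f).fromSpec q =
      hU.fromSpec (PrimeSpectrum.comap (algebraMap Γ(X, U) Γ(X, X.basicOpen f)) q) := by
    rw [← h]
    rfl
  show (hU.basicOpen f).fromSpec q ∈ Z ↔ _
  rw [h2]
  rfl

/-- the "pure" ideal sheaf of a closed generization-stable subset -/
noncomputable def idealSheaf (Z : Set X) (hZ : IsClosed Z) (hgen : StableUnderGeneralization Z) :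
    X.IdealSheafData where
  ideal U := vanIdeal (zOf Z U.2)
  map_ideal_basicOpen U f := by
    haveI := U.2.isLocalization_basicOpen f
    have h := map_vanIdeal_away (S := Γ(X, X.basicOpen f)) f (isClosed_zOf Z hZ U.2)
      (stableUnderGeneralization_zOf Z hgen U.2)
    rw [← zOf_basicOpen] at h
    exact h

/-- (copied from `Helper7.PinchSch2`) flat sections over an affine open give flat stalks. -/
theorem flat_stalk_of_flat_sections (F : X.Modules) [F.IsQuasicoherent] {U : X.Opens}
    (hU : IsAffineOpen U) (h : Module.Flat Γ(X, U) Γ(F, U)) (y : X) (hy : y ∈ U) :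
    Module.Flat (X.presheaf.stalk y) (F.presheaf.stalk y) := by
  letI := StalkDict.sectionModStalk F y hy
  letI := X.presheaf.algebra_section_stalk ⟨y, hy⟩
  haveI := hU.isLocalization_stalk ⟨y, hy⟩
  haveI := StalkDict.isLocalizedModule_germ hU F y hy
  haveI : IsScalarTower Γ(X, U) (X.presheaf.stalk y) (F.presheaf.stalk y) :=
    IsScalarTower.of_algebraMap_smul (fun r m => rfl)
  exact Module.Flat.of_isLocalizedModule (X.presheaf.stalk y)
    (hU.primeIdealOf ⟨y, hy⟩).asIdeal.primeCompl (StalkDict.germLin F y hy)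

open FinLocFree6 in
set_option backward.isDefEq.respectTransparency false in
theorem isOpen_of_finLocFree (Z : Set X) (hZ : IsClosed Z) (hgen : StableUnderGeneralization Z)
    (H : ∀ F : X.Modules, Coh.IsQCoh F → CohB1.IsFT F → FlatMod.IsFlat F →
      FlatMod.IsFinLocFree F) : IsOpen Z := by
  let I : X.IdealSheafData := idealSheaf Z hZ hgen
  let T : Scheme.{u} := I.subscheme
  let ι : T ⟶ X := I.subschemeι
  haveI : IsClosedImmersion ι := inferInstanceAs (IsClosedImmersion I.subschemeι)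
  haveI : (Coh.structureModule T).IsQuasicoherent :=
    FinLocFree4.isQuasicoherent_of_isFinLocFree _ (FinLocFree6.isFinLocFree_unit (X := T))
  let G : X.Modules := (Scheme.Modules.pushforward ι).obj (Coh.structureModule T)
  haveI hGq : G.IsQuasicoherent := QcohGlue.isQuasicoherent_pushforward ι _
  have hGft : CohB1.IsFT G :=
    FinitePush.isFiniteType_pushforward_of_isFinite ι _
      (FinLocFree2.isFiniteType_of_isFinitePresentation _ FinLocFree6.isFinitePresentation_unit)
  have hsurj : ∀ (U : X.Opens) (hU : IsAffineOpen U), Function.Surjective (ι.app U).hom :=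
    fun U hU => I.subschemeι_app_surjective ⟨U, hU⟩
  have hker : ∀ (U : X.Opens) (hU : IsAffineOpen U),
      RingHom.ker (ι.app U).hom = vanIdeal (zOf Z hU) :=
    fun U hU => I.ker_subschemeι_app ⟨U, hU⟩
  have hflat : FlatMod.IsFlat G := by
    intro x
    obtain ⟨U, hU, hx⟩ := QcohLimits.exists_affine_nhd x
    letI := (ι.app U).hom.toAlgebra
    have hp : (RingHom.ker (ι.app U).hom).Pure := by
      rw [hker U hU]
      exact pure_vanIdeal (isClosed_zOf Z hZ hU) (stableUnderGeneralization_zOf Z hgen hU)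
    have h1 : Module.Flat Γ(X, U) Γ(T, ι ⁻¹ᵁ U) :=
      flat_of_surjective_of_pure_ker (hsurj U hU) hp
    have h2 : Module.Flat Γ(X, U) Γ(G, U) := Module.Flat.of_linearEquiv (pushUnitEquiv ι U)
    exact flat_stalk_of_flat_sections G hU h2 x hx
  have hlf := H G hGq hGft hflat
  rw [isOpen_iff_forall_mem_open]
  intro x hxZ
  obtain ⟨U, hU, n, hxU, ⟨b⟩⟩ := FinLocFree2.exists_affine_basis G hlf x
  have hqx : hU.primeIdealOf ⟨x, hxU⟩ ∈ zOf Z hU := by
    show hU.fromSpec (hU.primeIdealOf ⟨x, hxU⟩) ∈ Z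
    rw [hU.fromSpec_primeIdealOf]
    exact hxZ
  have hzl := zeroLocus_vanIdeal (isClosed_zOf Z hZ hU) (stableUnderGeneralization_zOf Z hgen hU)
  have hJle : vanIdeal (zOf Z hU) ≤ (hU.primeIdealOf ⟨x, hxU⟩).asIdeal := by
    have h := hqx
    rw [← hzl] at h
    exact h
  have hkill : ∀ j ∈ vanIdeal (zOf Z hU), ∀ m : Γ(G, U), j • m = 0 := by
    intro j hj m
    have h0 : (ι.app U).hom j = 0 := by
      rw [← RingHom.mem_ker, hker U hU]
      exact hj
    letI := (ι.app U).hom.toAlgebra
    have h1 : j • m = (pushUnitEquiv ι U).symm (j • pushUnitEquiv ι U m) := by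
      rw [← map_smul, LinearEquiv.symm_apply_apply]
    rw [h1, Algebra.smul_def, RingHom.algebraMap_toAlgebra, h0, zero_mul, map_zero]
  have hn : n ≠ 0 := by
    rintro rfl
    have hsub : Subsingleton Γ(G, U) := b.repr.toEquiv.subsingleton
    letI := (ι.app U).hom.toAlgebra
    have h1 : (1 : Γ(T, ι ⁻¹ᵁ U)) = 0 := by
      have h := hsub.elim ((pushUnitEquiv ι U).symm 1) ((pushUnitEquiv ι U).symm 0)
      exact (pushUnitEquiv ι U).symm.injective h
    have h2 : (1 : Γ(X, U)) ∈ vanIdeal (zOf Z hU) := by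
      rw [← hker U hU, RingHom.mem_ker, map_one]
      exact h1
    exact (hU.primeIdealOf ⟨x, hxU⟩).2.one_notMem (hJle h2)
  have hJ : vanIdeal (zOf Z hU) = ⊥ := by
    rw [eq_bot_iff]
    intro j hj
    have i₀ : Fin n := ⟨0, Nat.pos_of_ne_zero hn⟩
    have h1 := hkill j hj (b i₀)
    have h2 := congrArg (fun z => b.repr z i₀) h1
    simpa using h2
  refine ⟨U, ?_, U.isOpen, hxU⟩
  intro y hy
  have h1 : hU.primeIdealOf ⟨y, hy⟩ ∈ zOf Z hU := by
    rw [← hzl, hJ]
    simp
  have h2 : hU.fromSpec (hU.primeIdealOf ⟨y, hy⟩) ∈ Z := h1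
  rw [hU.fromSpec_primeIdealOf] at h2
  exact h2

end sch

section rank
variable {X : Scheme.{u}} (F : X.Modules) [F.IsQuasicoherent]

/-- rank of the stalk -/
noncomputable def rk (y : X) : ℕ := Module.finrank (X.presheaf.stalk y) (F.presheaf.stalk y)

variable (hft : SheafOfModules.IsFiniteType (R := X.ringCatSheaf) F)
  (hflat : ∀ y : X, Module.Flat (X.presheaf.stalk y) (F.presheaf.stalk y))

include hft hflat in
set_option backward.isDefEq.respectTransparency false in
theorem exists_nhd_rk_le (y₀ : X) : ∃ V : X.Opens, y₀ ∈ V ∧ ∀ y ∈ V, rk F y ≤ rk F y₀ := by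
  obtain ⟨U, hU, hy₀⟩ := QcohLimits.exists_affine_nhd y₀
  haveI : Module.Finite Γ(X, U) Γ(F, U) := SecDict.finite_sections hU F inferInstance hft
  haveI : Module.Flat Γ(X, U) Γ(F, U) :=
    FinLocFree5.flat_sections_of_flat_stalks F hU (fun y _ => hflat y)
  obtain ⟨φ, a, hap, hφ⟩ :=
    PureOpen.exists_map_away_surjective Γ(F, U) (hU.primeIdealOf ⟨y₀, hy₀⟩).asIdeal
  refine ⟨X.basicOpen a, (mem_basicOpen_iff_notMem_primeIdealOf hU y₀ hy₀ a).mpr hap,
    fun y hy => ?_⟩
  have hyU : y ∈ U := X.basicOpen_le a hy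
  have haq := (mem_basicOpen_iff_notMem_primeIdealOf hU y hyU a).mp hy
  have h1 := PureOpen.rankAtStalk_le_of_map_away_surjective Γ(F, U) φ a hφ
    (hU.primeIdealOf ⟨y, hyU⟩) haq
  have e1 : rk F y = _ := FinLocFree5.finrank_stalk_eq_rankAtStalk F hU y hyU
  have e2 : rk F y₀ = _ := FinLocFree5.finrank_stalk_eq_rankAtStalk F hU y₀ hy₀
  rw [e1, e2]
  exact h1

include hft hflat in
set_option backward.isDefEq.respectTransparency false in
theorem rk_eq_of_specializes {y y' : X} (h : y' ⤳ y) : rk F y' = rk F y := by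
  obtain ⟨U, hU, hy⟩ := QcohLimits.exists_affine_nhd y
  have hy' : y' ∈ U := h.mem_open U.isOpen hy
  haveI : Module.Finite Γ(X, U) Γ(F, U) := SecDict.finite_sections hU F inferInstance hft
  haveI : Module.Flat Γ(X, U) Γ(F, U) :=
    FinLocFree5.flat_sections_of_flat_stalks F hU (fun y _ => hflat y)
  have e1 : rk F y' = _ := FinLocFree5.finrank_stalk_eq_rankAtStalk F hU y' hy'
  have e2 : rk F y = _ := FinLocFree5.finrank_stalk_eq_rankAtStalk F hU y hy
  rw [e1, e2]
  apply Module.rankAtStalk_eq_of_le_of_finite_of_flat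
  rw [PrimeSpectrum.le_iff_specializes]
  apply hU.fromSpec.isOpenEmbedding.isInducing.specializes_iff.mp
  rw [hU.fromSpec_primeIdealOf, hU.fromSpec_primeIdealOf]
  exact h

include hft hflat in
theorem isFinLocFree_of_open
    (hopen : ∀ Z : Set X, IsClosed Z → StableUnderGeneralization Z → IsOpen Z) :
    FlatMod.IsFinLocFree F := by
  intro x
  let Z : Set X := {y | rk F x ≤ rk F y}
  have hZc : IsClosed Z := by
    rw [← isOpen_compl_iff, isOpen_iff_forall_mem_open]
    intro y₀ hy₀
    obtain ⟨V, hyV, hV⟩ := exists_nhd_rk_le F hft hflat y₀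
    refine ⟨V, fun y hy => ?_, V.isOpen, hyV⟩
    show ¬ (rk F x ≤ rk F y)
    have h1 : rk F y₀ < rk F x := not_le.mp hy₀
    exact not_le.mpr (lt_of_le_of_lt (hV y hy) h1)
  have hZg : StableUnderGeneralization Z := by
    intro y y' hsp hy
    show rk F x ≤ rk F y'
    rw [rk_eq_of_specializes F hft hflat hsp]
    exact hy
  have hZo := hopen Z hZc hZg
  obtain ⟨V, hxV, hV⟩ := exists_nhd_rk_le F hft hflat x
  let W : X.Opens := V ⊓ ⟨Z, hZo⟩
  have hxW : x ∈ W := ⟨hxV, show x ∈ Z from le_refl (rk F x)⟩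
  obtain ⟨V', n, hxV', hfree⟩ := FinLocFree5.exists_isFreeAlong_of_rank_const F hft hflat x W hxW
    (fun y hy => le_antisymm (hV y hy.1) hy.2)
  exact ⟨V', n, hxV', hfree⟩

end rank

theorem main (X : Scheme.{u}) :
    (∀ F : X.Modules, Coh.IsQCoh F → CohB1.IsFT F → FlatMod.IsFlat F →
        FlatMod.IsFinLocFree F) ↔
      ∀ Z : Set ↑X, IsClosed Z → StableUnderGeneralization Z → IsOpen Z :=
  ⟨fun H Z hZ hgen => isOpen_of_finLocFree Z hZ hgen H,
    fun hopen F hq hft hflat => by
      haveI : F.IsQuasicoherent := hq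
      exact isFinLocFree_of_open F hft hflat hopen⟩

end Groth.Agent.Helper8.PureSch
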