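import Mathlib
import Groth.Agent.Lead.FibreLoc

/-!
# Pushouts of schemes along a closed immersion, part A: good pairs and their coordinate rings

`ι : Z ⟶ X` (a closed immersion in the applications) and `ξ : Z ⟶ T`.  A *good pair* is a pair of
affine opens `V ⊆ X`, `W ⊆ T` with `ι⁻¹ V = ξ⁻¹ W`.  Its coordinate ring is the fibre product
`Γ(V) ×_{Γ(ι⁻¹ V)} Γ(W)`.  We show that the coordinate ring of a *basic refinement*
`(D_V(f), D_W(g))`, `(f, g)` in the fibre product, is the localization at `(f, g)`.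
-/

set_option autoImplicit false
universe u

open CategoryTheory CategoryTheory.Limits AlgebraicGeometry Opposite TopologicalSpace

namespace Groth.Agent.Helper8.Push

variable {X T Z : Scheme.{u}} (ι : Z ⟶ X) (ξ : Z ⟶ T)

/-- A good pair: affine opens `V ⊆ X`, `W ⊆ T` with the same preimage in `Z`. -/
structure GoodPair where
  /-- the affine open of `X` -/
  V : X.Opens
  /-- the affine open of `T` -/
  W : T.Opens
  hV : IsAffineOpen V
  hW : IsAffineOpen W
  h : ι ⁻¹ᵁ V = ξ ⁻¹ᵁ W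

namespace GoodPair

variable {ι ξ}

lemma ext' {k l : GoodPair ι ξ} (h1 : k.V = l.V) (h2 : k.W = l.W) : k = l := by
  cases k; cases l
  simp only at h1 h2
  subst h1 h2
  rfl

variable (k : GoodPair ι ξ)

/-- the preimage of `V` in `Z`. -/
abbrev ZV : Z.Opens := ι ⁻¹ᵁ k.V

lemma le_ξ : k.ZV ≤ ξ ⁻¹ᵁ k.W := k.h.le

/-- restriction of functions from `V` to `ι⁻¹ V`. -/
noncomputable def p : Γ(X, k.V) ⟶ Γ(Z, k.ZV) := ι.appLE k.V k.ZV le_rfl

/-- restriction of functions from `W` to `ι⁻¹ V = ξ⁻¹ W`. -/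
noncomputable def q : Γ(T, k.W) ⟶ Γ(Z, k.ZV) := ξ.appLE k.W k.ZV k.le_ξ

lemma p_res {l k : GoodPair ι ξ} (h1 : l.V ≤ k.V) :
    X.presheaf.map (homOfLE h1).op ≫ l.p =
      k.p ≫ Z.presheaf.map (homOfLE (ι.preimage_mono h1)).op := by
  unfold p
  rw [Scheme.Hom.map_appLE, Scheme.Hom.appLE_map]

lemma q_res {l k : GoodPair ι ξ} (h1 : l.V ≤ k.V) (h2 : l.W ≤ k.W) :
    T.presheaf.map (homOfLE h2).op ≫ l.q =
      k.q ≫ Z.presheaf.map (homOfLE (ι.preimage_mono h1)).op := by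
  unfold q
  rw [Scheme.Hom.map_appLE, Scheme.Hom.appLE_map]

lemma p_res_apply {l k : GoodPair ι ξ} (h1 : l.V ≤ k.V) (x : Γ(X, k.V)) :
    l.p.hom ((X.presheaf.map (homOfLE h1).op).hom x) =
      (Z.presheaf.map (homOfLE (ι.preimage_mono h1)).op).hom (k.p.hom x) :=
  congrArg (fun φ => φ.hom x) (p_res h1)

lemma q_res_apply {l k : GoodPair ι ξ} (h1 : l.V ≤ k.V) (h2 : l.W ≤ k.W) (y : Γ(T, k.W)) :
    l.q.hom ((T.presheaf.map (homOfLE h2).op).hom y) =
      (Z.presheaf.map (homOfLE (ι.preimage_mono h1)).op).hom (k.q.hom y) :=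
  congrArg (fun φ => φ.hom y) (q_res h1 h2)

/-- the fibre product `Γ(V) ×_{Γ(ι⁻¹ V)} Γ(W)` as a subring of the product. -/
noncomputable def ringSub : Subring (Γ(X, k.V) × Γ(T, k.W)) :=
  RingHom.eqLocus (k.p.hom.comp (RingHom.fst _ _)) (k.q.hom.comp (RingHom.snd _ _))

lemma mem_ringSub {x : Γ(X, k.V) × Γ(T, k.W)} :
    x ∈ k.ringSub ↔ k.p.hom x.1 = k.q.hom x.2 := Iff.rfl

/-- the coordinate ring of the chart of the pushout attached to a good pair. -/
noncomputable def R : CommRingCat.{u} := CommRingCat.of k.ringSub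

/-- projection to `Γ(V)`. -/
noncomputable def π₂ : k.R ⟶ Γ(X, k.V) :=
  CommRingCat.ofHom ((RingHom.fst _ _).comp k.ringSub.subtype)

/-- projection to `Γ(W)`. -/
noncomputable def π₁ : k.R ⟶ Γ(T, k.W) :=
  CommRingCat.ofHom ((RingHom.snd _ _).comp k.ringSub.subtype)

/-- constructor for elements of the fibre product. -/
noncomputable def mkR (x : Γ(X, k.V)) (y : Γ(T, k.W)) (h : k.p.hom x = k.q.hom y) : k.R :=
  (⟨(x, y), h⟩ : k.ringSub)

@[simp] lemma π₂_mkR (x : Γ(X, k.V)) (y : Γ(T, k.W)) (h : k.p.hom x = k.q.hom y) :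
    k.π₂.hom (k.mkR x y h) = x := rfl

@[simp] lemma π₁_mkR (x : Γ(X, k.V)) (y : Γ(T, k.W)) (h : k.p.hom x = k.q.hom y) :
    k.π₁.hom (k.mkR x y h) = y := rfl

lemma comm_apply (r : k.R) : k.p.hom (k.π₂.hom r) = k.q.hom (k.π₁.hom r) :=
  (show k.ringSub from r).2

lemma comm : k.π₁ ≫ k.q = k.π₂ ≫ k.p := by
  ext r
  exact (k.comm_apply r).symm

lemma R_ext {r s : k.R} (h1 : k.π₁.hom r = k.π₁.hom s) (h2 : k.π₂.hom r = k.π₂.hom s) : r = s :=
  Subtype.ext (Prod.ext h2 h1)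

lemma R_surj (b : Γ(T, k.W)) (a : Γ(X, k.V)) (h : k.q.hom b = k.p.hom a) :
    ∃ x : k.R, k.π₁.hom x = b ∧ k.π₂.hom x = a :=
  ⟨k.mkR a b h.symm, rfl, rfl⟩

lemma p_surjective [IsClosedImmersion ι] : Function.Surjective k.p.hom := by
  have := ι.app_surjective k.V k.hV
  rw [Scheme.Hom.app_eq_appLE] at this
  exact this

lemma isAffineOpen_ZV [IsClosedImmersion ι] : IsAffineOpen k.ZV := k.hV.preimage ι

/-! ### restriction maps -/

/-- the restriction map between coordinate rings. -/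
noncomputable def resMap (l k : GoodPair ι ξ) (h1 : l.V ≤ k.V) (h2 : l.W ≤ k.W) : k.R ⟶ l.R :=
  CommRingCat.ofHom
    (((RingHom.prodMap (X.presheaf.map (homOfLE h1).op).hom
      (T.presheaf.map (homOfLE h2).op).hom).comp k.ringSub.subtype).codRestrict l.ringSub
      (fun x => by
        rw [mem_ringSub]
        show l.p.hom ((X.presheaf.map (homOfLE h1).op).hom x.1.1) =
          l.q.hom ((T.presheaf.map (homOfLE h2).op).hom x.1.2)
        rw [p_res_apply, q_res_apply h1 h2]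
        exact congrArg _ x.2))

variable {k}

lemma π₂_resMap {l k : GoodPair ι ξ} (h1 : l.V ≤ k.V) (h2 : l.W ≤ k.W) (r : k.R) :
    l.π₂.hom ((resMap l k h1 h2).hom r) = (X.presheaf.map (homOfLE h1).op).hom (k.π₂.hom r) :=
  rfl

lemma π₁_resMap {l k : GoodPair ι ξ} (h1 : l.V ≤ k.V) (h2 : l.W ≤ k.W) (r : k.R) :
    l.π₁.hom ((resMap l k h1 h2).hom r) = (T.presheaf.map (homOfLE h2).op).hom (k.π₁.hom r) :=
  rfl

lemma resMap_π₂ {l k : GoodPair ι ξ} (h1 : l.V ≤ k.V) (h2 : l.W ≤ k.W) :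
    resMap l k h1 h2 ≫ l.π₂ = k.π₂ ≫ X.presheaf.map (homOfLE h1).op := by
  ext r
  rfl

lemma resMap_π₁ {l k : GoodPair ι ξ} (h1 : l.V ≤ k.V) (h2 : l.W ≤ k.W) :
    resMap l k h1 h2 ≫ l.π₁ = k.π₁ ≫ T.presheaf.map (homOfLE h2).op := by
  ext r
  rfl

lemma resMap_comp {m l k : GoodPair ι ξ} (h1 : l.V ≤ k.V) (h2 : l.W ≤ k.W)
    (h3 : m.V ≤ l.V) (h4 : m.W ≤ l.W) :
    resMap l k h1 h2 ≫ resMap m l h3 h4 = resMap m k (h3.trans h1) (h4.trans h2) := by
  ext r
  apply R_ext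
  · show (T.presheaf.map (homOfLE h4).op).hom ((T.presheaf.map (homOfLE h2).op).hom (k.π₁.hom r)) =
      (T.presheaf.map (homOfLE (h4.trans h2)).op).hom (k.π₁.hom r)
    rw [← CommRingCat.comp_apply, ← Functor.map_comp]
    rfl
  · show (X.presheaf.map (homOfLE h3).op).hom ((X.presheaf.map (homOfLE h1).op).hom (k.π₂.hom r)) =
      (X.presheaf.map (homOfLE (h3.trans h1)).op).hom (k.π₂.hom r)
    rw [← CommRingCat.comp_apply, ← Functor.map_comp]
    rfl

lemma resMap_self (k : GoodPair ι ξ) : resMap k k le_rfl le_rfl = 𝟙 k.R := by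
  ext r
  apply R_ext
  · show (T.presheaf.map (homOfLE (le_refl k.W)).op).hom (k.π₁.hom r) = k.π₁.hom r
    have : (homOfLE (le_refl k.W)).op = 𝟙 (op k.W) := rfl
    rw [this, CategoryTheory.Functor.map_id]
    rfl
  · show (X.presheaf.map (homOfLE (le_refl k.V)).op).hom (k.π₂.hom r) = k.π₂.hom r
    have : (homOfLE (le_refl k.V)).op = 𝟙 (op k.V) := rfl
    rw [this, CategoryTheory.Functor.map_id]
    rfl

/-! ### basic refinements -/

lemma refine_aux (k : GoodPair ι ξ) (r : k.R) :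
    ι ⁻¹ᵁ X.basicOpen (k.π₂.hom r) = ξ ⁻¹ᵁ T.basicOpen (k.π₁.hom r) := by
  rw [Scheme.preimage_basicOpen, Scheme.preimage_basicOpen]
  have e : k.p.hom (k.π₂.hom r) = k.q.hom (k.π₁.hom r) := k.comm_apply r
  have e1 : k.p.hom (k.π₂.hom r) = (ι.app k.V).hom (k.π₂.hom r) := by
    unfold p
    rw [Scheme.Hom.appLE_eq_app]
  have e2 : k.q.hom (k.π₁.hom r) =
      (Z.presheaf.map (homOfLE k.le_ξ).op).hom ((ξ.app k.W).hom (k.π₁.hom r)) := rfl
  have e3 : Z.basicOpen ((ι.app k.V).hom (k.π₂.hom r)) =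
      Z.basicOpen ((Z.presheaf.map (homOfLE k.le_ξ).op).hom ((ξ.app k.W).hom (k.π₁.hom r))) := by
    rw [← e1, e, e2]
  refine e3.trans ?_
  rw [Scheme.basicOpen_res]
  exact inf_eq_right.mpr ((Z.basicOpen_le _).trans k.h.ge)

/-- the basic refinement of a good pair attached to an element of its coordinate ring. -/
noncomputable def refine (k : GoodPair ι ξ) (r : k.R) : GoodPair ι ξ where
  V := X.basicOpen (k.π₂.hom r)
  W := T.basicOpen (k.π₁.hom r)
  hV := k.hV.basicOpen _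
  hW := k.hW.basicOpen _
  h := refine_aux k r

lemma refine_V_le (k : GoodPair ι ξ) (r : k.R) : (k.refine r).V ≤ k.V := X.basicOpen_le _

lemma refine_W_le (k : GoodPair ι ξ) (r : k.R) : (k.refine r).W ≤ k.W := T.basicOpen_le _

/-- a basic refinement of `k` contained in `m ⊆ k` is a basic refinement of `m`. -/
lemma basic_of_sub (k m : GoodPair ι ξ) (r : k.R) (h1 : m.V ≤ k.V) (h2 : m.W ≤ k.W)
    (h3 : (k.refine r).V ≤ m.V) (h4 : (k.refine r).W ≤ m.W) :
    k.refine r = m.refine ((resMap m k h1 h2).hom r) := by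
  apply ext'
  · show X.basicOpen (k.π₂.hom r) = X.basicOpen ((X.presheaf.map (homOfLE h1).op).hom (k.π₂.hom r))
    rw [Scheme.basicOpen_res]
    exact (inf_eq_right.mpr h3).symm
  · show T.basicOpen (k.π₁.hom r) = T.basicOpen ((T.presheaf.map (homOfLE h2).op).hom (k.π₁.hom r))
    rw [Scheme.basicOpen_res]
    exact (inf_eq_right.mpr h4).symm

set_option maxHeartbeats 1000000 in
/-- the coordinate ring of a basic refinement is the localization: the restriction map induces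
an open immersion of spectra. -/
theorem isOpenImmersion_resMap_refine [IsClosedImmersion ι] (k : GoodPair ι ξ) (r : k.R) :
    IsOpenImmersion
      (Spec.map (resMap (k.refine r) k (refine_V_le k r) (refine_W_le k r))) := by
  set k' := k.refine r with hk'
  -- the localizations
  letI algA : Algebra Γ(Z, k.ZV) Γ(Z, k'.ZV) :=
    (Z.presheaf.map (homOfLE (ι.preimage_mono (refine_V_le k r))).op).hom.toAlgebra
  have eZ : k'.ZV = Z.basicOpen (k.p.hom (k.π₂.hom r)) := by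
    show ι ⁻¹ᵁ X.basicOpen (k.π₂.hom r) = _
    rw [Scheme.preimage_basicOpen]
    unfold p
    rw [Scheme.Hom.appLE_eq_app]
  haveI locA : IsLocalization.Away (k.p.hom (k.π₂.hom r)) Γ(Z, k'.ZV) :=
    k.isAffineOpen_ZV.isLocalization_of_eq_basicOpen (k.p.hom (k.π₂.hom r))
      (homOfLE (ι.preimage_mono (refine_V_le k r))) eZ
  haveI locB : IsLocalization.Away (k.π₁.hom r) Γ(T, T.basicOpen (k.π₁.hom r)) :=
    k.hW.isLocalization_basicOpen (k.π₁.hom r)
  haveI locA' : IsLocalization.Away (k.π₂.hom r) Γ(X, X.basicOpen (k.π₂.hom r)) :=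
    k.hV.isLocalization_basicOpen (k.π₂.hom r)
  -- the maps out of the localization
  have hu1 : IsUnit (((algebraMap Γ(T, k.W) Γ(T, T.basicOpen (k.π₁.hom r))).comp k.π₁.hom) r) :=
    IsLocalization.Away.algebraMap_isUnit (k.π₁.hom r)
  have hu2 : IsUnit (((algebraMap Γ(X, k.V) Γ(X, X.basicOpen (k.π₂.hom r))).comp k.π₂.hom) r) :=
    IsLocalization.Away.algebraMap_isUnit (k.π₂.hom r)
  let π₁' : Localization.Away r →+* Γ(T, T.basicOpen (k.π₁.hom r)) :=
    IsLocalization.Away.lift r hu1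
  let π₂' : Localization.Away r →+* Γ(X, X.basicOpen (k.π₂.hom r)) :=
    IsLocalization.Away.lift r hu2
  have h₁ : ∀ x, π₁' (algebraMap k.R (Localization.Away r) x) =
      algebraMap Γ(T, k.W) Γ(T, T.basicOpen (k.π₁.hom r)) (k.π₁.hom x) :=
    fun x => IsLocalization.Away.lift_eq r hu1 x
  have h₂ : ∀ x, π₂' (algebraMap k.R (Localization.Away r) x) =
      algebraMap Γ(X, k.V) Γ(X, X.basicOpen (k.π₂.hom r)) (k.π₂.hom x) :=
    fun x => IsLocalization.Away.lift_eq r hu2 x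
  have hq : ∀ x, k'.q.hom (algebraMap Γ(T, k.W) Γ(T, T.basicOpen (k.π₁.hom r)) x) =
      algebraMap Γ(Z, k.ZV) Γ(Z, k'.ZV) (k.q.hom x) :=
    fun x => q_res_apply (l := k') (k := k) (refine_V_le k r) (refine_W_le k r) x
  have hp : ∀ x, k'.p.hom (algebraMap Γ(X, k.V) Γ(X, X.basicOpen (k.π₂.hom r)) x) =
      algebraMap Γ(Z, k.ZV) Γ(Z, k'.ZV) (k.p.hom x) :=
    fun x => p_res_apply (l := k') (k := k) (refine_V_le k r) x
  have hcomm : ∀ x, k.q.hom (k.π₁.hom x) = k.p.hom (k.π₂.hom x) := fun x => (k.comm_apply x).symm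
  -- compatibility on the localization
  have hcompat : ∀ s : Localization.Away r, k'.p.hom (π₂' s) = k'.q.hom (π₁' s) := by
    have : (k'.p.hom.comp π₂') = (k'.q.hom.comp π₁') := by
      apply IsLocalization.ringHom_ext (Submonoid.powers r)
      apply RingHom.ext
      intro x
      exact (congrArg k'.p.hom (h₂ x)).trans ((hp _).trans ((congrArg _ (hcomm x).symm).trans
        ((hq _).symm.trans (congrArg k'.q.hom (h₁ x)).symm)))
    intro s
    exact congrArg (fun φ => φ s) this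
  let φ : Localization.Away r →+* k'.R :=
    (RingHom.prod π₂' π₁').codRestrict k'.ringSub (fun s => hcompat s)
  have hφinj : Function.Injective φ := by
    intro s t hst
    have e1 : π₁' s = π₁' t := congrArg (fun z : k'.ringSub => z.1.2) hst
    have e2 : π₂' s = π₂' t := congrArg (fun z : k'.ringSub => z.1.1) hst
    exact Groth.Agent.Lead.FibreLoc.inj k.π₁.hom k.π₂.hom r π₁' π₂' h₁ h₂
      (fun x y hx hy => k.R_ext hx hy) s t e1 e2
  have hφsurj : Function.Surjective φ := by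
    intro z
    obtain ⟨s, hs1, hs2⟩ := Groth.Agent.Lead.FibreLoc.surj k.π₁.hom k.π₂.hom k.q.hom k.p.hom hcomm r
      π₁' π₂' k'.q.hom k'.p.hom h₁ h₂ hq hp (fun b a h => k.R_surj b a h)
      (k'.π₁.hom z) (k'.π₂.hom z) (k'.comm_apply z).symm
    exact ⟨s, k'.R_ext hs1 hs2⟩
  have hfac : resMap k' k (refine_V_le k r) (refine_W_le k r) =
      CommRingCat.ofHom (algebraMap k.R (Localization.Away r)) ≫ CommRingCat.ofHom φ := by
    ext x
    apply k'.R_ext
    · exact (h₁ x).symm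
    · exact (h₂ x).symm
  haveI : IsIso (CommRingCat.ofHom φ) :=
    (ConcreteCategory.isIso_iff_bijective (CommRingCat.ofHom φ)).mpr ⟨hφinj, hφsurj⟩
  rw [hfac, Spec.map_comp]
  infer_instance

end GoodPair

end Groth.Agent.Helper8.Push
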