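import Mathlib

/-!
# Pushouts of schemes, part J: fibres of integral morphisms inside principal opens

Key algebra lemma: for an integral ring map `φ : B → B'`, a prime `𝔭` of `B` and `x ∈ B'` there is
`c ∈ B'` such that for all primes `z` of `B'` over `𝔭`: `c ∈ z ↔ x ∉ z`.  (A substitute for idempotents of
the zero-dimensional fibre ring.)

Geometric consequence: `j : Z ⟶ Y` integral, `W ⊆ Y` affine open, `U₀ ⊆ Z` affine open containing `j⁻¹ W`,
`y ∈ W`: there is `a ∈ Γ(Z, U₀)` with `j⁻¹{y} ⊆ D(a) ⊆ j⁻¹ W`.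
-/

set_option autoImplicit false
universe u

open CategoryTheory CategoryTheory.Limits AlgebraicGeometry Opposite TopologicalSpace

namespace Groth.Agent.Helper8.Push

open Polynomial in
theorem exists_mem_iff_notMem {B B' : Type*} [CommRing B] [CommRing B'] (φ : B →+* B') (x : B')
    (hx : φ.IsIntegralElem x) (𝔭 : Ideal B) [𝔭.IsPrime] :
    ∃ c : B', ∀ z : Ideal B', z.IsPrime → z.comap φ = 𝔭 → (c ∈ z ↔ x ∉ z) := by
  obtain ⟨p, hp, hpx⟩ := hx
  have hpm : (p.map (Ideal.Quotient.mk 𝔭)).Monic := hp.map _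
  have hpm0 : p.map (Ideal.Quotient.mk 𝔭) ≠ 0 := hpm.ne_zero
  obtain ⟨qb, hqb, hndvd⟩ :=
    Polynomial.exists_eq_pow_rootMultiplicity_mul_and_not_dvd (p.map (Ideal.Quotient.mk 𝔭)) hpm0 0
  set m := (p.map (Ideal.Quotient.mk 𝔭)).rootMultiplicity 0 with hm
  obtain ⟨q, hq⟩ := Polynomial.map_surjective (Ideal.Quotient.mk 𝔭) Ideal.Quotient.mk_surjective qb
  refine ⟨eval₂ φ x q, ?_⟩
  intro z hz hzp
  have h1 : x ^ m * eval₂ φ x q ∈ z := by
    have h0 : (X ^ m * q - p).map (Ideal.Quotient.mk 𝔭) = 0 := by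
      rw [Polynomial.map_sub, Polynomial.map_mul, Polynomial.map_pow, map_X, hq]
      conv_rhs => rw [← sub_self (p.map (Ideal.Quotient.mk 𝔭))]
      conv_lhs => rw [hqb]
      simp
    have hcoef : ∀ n, (X ^ m * q - p).coeff n ∈ 𝔭 := by
      intro n
      have h := congrArg (fun r => r.coeff n) h0
      simp only [coeff_map, coeff_zero] at h
      exact Ideal.Quotient.eq_zero_iff_mem.mp h
    have h2 : eval₂ φ x (X ^ m * q - p) ∈ z := by
      rw [eval₂_eq_sum_range]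
      refine z.sum_mem (fun n _ => ?_)
      refine z.mul_mem_right _ ?_
      have h3 : (X ^ m * q - p).coeff n ∈ z.comap φ := by
        rw [hzp]
        exact hcoef n
      exact h3
    rw [eval₂_sub, eval₂_mul, eval₂_pow, eval₂_X, hpx, sub_zero] at h2
    exact h2
  have h4 : q.coeff 0 ∉ 𝔭 := by
    intro hmem
    apply hndvd
    rw [C_0, sub_zero, X_dvd_iff, ← hq, coeff_map]
    exact Ideal.Quotient.eq_zero_iff_mem.mpr hmem
  have h5 : eval₂ φ x q - φ (q.coeff 0) ∈ Ideal.span {x} := by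
    have h := Polynomial.divX_mul_X_add q
    have h' : eval₂ φ x q = eval₂ φ x q.divX * x + φ (q.coeff 0) := by
      conv_lhs => rw [← h]
      rw [eval₂_add, eval₂_mul, eval₂_X, eval₂_C]
    rw [h', add_sub_cancel_right]
    exact Ideal.mul_mem_left _ _ (Ideal.mem_span_singleton_self x)
  constructor
  · intro hc hxz
    have h6 : eval₂ φ x q - φ (q.coeff 0) ∈ z :=
      ((Ideal.span_singleton_le_iff_mem z).mpr hxz) h5
    have h7 : φ (q.coeff 0) ∈ z := by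
      have h8 := z.sub_mem hc h6
      rwa [sub_sub_cancel] at h8
    have h9 : q.coeff 0 ∈ z.comap φ := h7
    rw [hzp] at h9
    exact h4 h9
  · intro hxz
    rcases hz.mem_or_mem h1 with h | h
    · exact absurd (hz.mem_of_pow_mem _ h) hxz
    · exact h

section Geometry

variable {Z : Scheme.{u}}

/-- points of a basic open of an affine open, in terms of primes. -/
lemma mem_basicOpen_iff_notMem {O : Z.Opens} (hO : IsAffineOpen O) (c : Γ(Z, O)) (z : Z)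
    (hz : z ∈ O) : z ∈ Z.basicOpen c ↔ c ∉ (hO.primeIdealOf ⟨z, hz⟩).asIdeal := by
  have h := hO.fromSpec_preimage_basicOpen c
  have h2 : hO.fromSpec (hO.primeIdealOf ⟨z, hz⟩) = z := hO.fromSpec_primeIdealOf ⟨z, hz⟩
  constructor
  · intro hzc
    have h3 : hO.primeIdealOf ⟨z, hz⟩ ∈ hO.fromSpec ⁻¹ᵁ Z.basicOpen c := by
      show hO.fromSpec (hO.primeIdealOf ⟨z, hz⟩) ∈ Z.basicOpen c
      rw [h2]
      exact hzc
    rw [h] at h3
    exact h3
  · intro hc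
    have h3 : hO.primeIdealOf ⟨z, hz⟩ ∈ hO.fromSpec ⁻¹ᵁ Z.basicOpen c := by
      rw [h]
      exact hc
    have h4 : hO.fromSpec (hO.primeIdealOf ⟨z, hz⟩) ∈ Z.basicOpen c := h3
    rwa [h2] at h4

/-- for `z ∈ O ≤ U₀`: membership in `D(a)` can be tested after restricting `a` to `O`. -/
lemma mem_basicOpen_res {O U₀ : Z.Opens} (hle : O ≤ U₀) (a : Γ(Z, U₀)) (z : Z) (hz : z ∈ O) :
    z ∈ Z.basicOpen ((Z.presheaf.map (homOfLE hle).op).hom a) ↔ z ∈ Z.basicOpen a := by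
  rw [Scheme.basicOpen_res, TopologicalSpace.Opens.mem_inf]
  exact ⟨fun h => h.2, fun h => ⟨hz, h⟩⟩

/-- extension lemma: `O ≤ U₀` affine opens, `D(a₁) ≤ O`, `c ∈ Γ(O)`: then `c * a₁^N` extends to `U₀`. -/
lemma exists_extend {O U₀ : Z.Opens} (hO : IsAffineOpen O) (hU₀ : IsAffineOpen U₀) (hle : O ≤ U₀)
    (a₁ : Γ(Z, U₀)) (hD : Z.basicOpen a₁ ≤ O) (c : Γ(Z, O)) :
    ∃ (N : ℕ) (α : Γ(Z, U₀)), (Z.presheaf.map (homOfLE hle).op).hom α =
      c * ((Z.presheaf.map (homOfLE hle).op).hom a₁) ^ N := by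
  set res := (Z.presheaf.map (homOfLE hle).op).hom with hres
  set rD := (Z.presheaf.map (homOfLE hD).op).hom with hrD
  set rU := (Z.presheaf.map (homOfLE (Z.basicOpen_le a₁)).op).hom with hrU
  have hcomp : ∀ s : Γ(Z, U₀), rD (res s) = rU s := by
    intro s
    rw [hres, hrD, hrU, ← CommRingCat.comp_apply, ← Functor.map_comp]
    rfl
  obtain ⟨n, α₀, hα₀⟩ := exists_eq_pow_mul_of_isAffineOpen Z U₀ hU₀ a₁ (rD c)
  replace hα₀ : rU α₀ = (rU a₁) ^ n * rD c := hα₀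
  -- the difference vanishes on `D(res a₁)`
  have hle' : Z.basicOpen (res a₁) ≤ Z.basicOpen a₁ := by
    rw [hres, Scheme.basicOpen_res]
    exact inf_le_right
  have H : (Z.presheaf.map (homOfLE (Z.basicOpen_le (res a₁))).op).hom
      (res α₀ - (res a₁) ^ n * c) = 0 := by
    have e : (Z.presheaf.map (homOfLE (Z.basicOpen_le (res a₁))).op) =
        (Z.presheaf.map (homOfLE hD).op) ≫ (Z.presheaf.map (homOfLE hle').op) := by
      rw [← Functor.map_comp]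
      rfl
    rw [e, CommRingCat.comp_apply]
    have h0 : (Z.presheaf.map (homOfLE hD).op).hom (res α₀ - (res a₁) ^ n * c) = 0 := by
      show rD (res α₀ - (res a₁) ^ n * c) = 0
      rw [map_sub, map_mul, map_pow, hcomp, hcomp, hα₀, sub_self]
    rw [h0, map_zero]
  obtain ⟨m, hm⟩ := exists_pow_mul_eq_zero_of_res_basicOpen_eq_zero_of_isAffineOpen Z hO
    (res α₀ - (res a₁) ^ n * c) (res a₁) H
  refine ⟨m + n, a₁ ^ m * α₀, ?_⟩
  rw [map_mul, map_pow]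
  have h1 : (res a₁) ^ m * res α₀ = (res a₁) ^ m * ((res a₁) ^ n * c) := by
    rw [mul_sub] at hm
    exact sub_eq_zero.mp hm
  rw [h1, pow_add]
  ring

variable {B : CommRingCat.{u}} {O U₀ : Z.Opens} (hO : IsAffineOpen O) (hU₀ : IsAffineOpen U₀)
  (hle : O ≤ U₀) (φ : B ⟶ Γ(Z, O)) (hφ : φ.hom.IsIntegral) (𝔮 : PrimeSpectrum B)

/-- the fibre over `𝔮`, as a set of points of `Z`. -/
def fibreSet : Set Z := {z | ∃ hz : z ∈ O, (hO.primeIdealOf ⟨z, hz⟩).comap φ.hom = 𝔮}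

include hφ hU₀ hle in
lemma two_set (a₁ a₂ : Γ(Z, U₀)) (h₁ : Z.basicOpen a₁ ≤ O) (h₂ : Z.basicOpen a₂ ≤ O) :
    ∃ a : Γ(Z, U₀), Z.basicOpen a ≤ O ∧
      fibreSet hO φ 𝔮 ∩ ((Z.basicOpen a₁ : Set Z) ∪ (Z.basicOpen a₂ : Set Z)) ⊆
        (Z.basicOpen a : Set Z) := by
  set res := (Z.presheaf.map (homOfLE hle).op).hom with hres
  obtain ⟨c, hc⟩ := exists_mem_iff_notMem φ.hom (res a₂) (hφ _) 𝔮.asIdeal
  obtain ⟨N, α, hα⟩ := exists_extend hO hU₀ hle a₁ h₁ c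
  refine ⟨α * a₁ + a₂, ?_, ?_⟩
  · intro z hz
    have hzU : z ∈ U₀ := Z.basicOpen_le _ hz
    rw [mem_basicOpen_iff_notMem hU₀ _ z hzU] at hz
    by_contra hzO
    have hz1 : a₁ ∈ (hU₀.primeIdealOf ⟨z, hzU⟩).asIdeal := by
      by_contra h
      exact hzO (h₁ ((mem_basicOpen_iff_notMem hU₀ _ z hzU).mpr h))
    have hz2 : a₂ ∈ (hU₀.primeIdealOf ⟨z, hzU⟩).asIdeal := by
      by_contra h
      exact hzO (h₂ ((mem_basicOpen_iff_notMem hU₀ _ z hzU).mpr h))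
    exact hz (Ideal.add_mem _ (Ideal.mul_mem_left _ _ hz1) hz2)
  · rintro z ⟨⟨hzO, hzq⟩, hz12⟩
    have hQ : (hO.primeIdealOf ⟨z, hzO⟩).asIdeal.IsPrime := (hO.primeIdealOf ⟨z, hzO⟩).isPrime
    have hcomap : (hO.primeIdealOf ⟨z, hzO⟩).asIdeal.comap φ.hom = 𝔮.asIdeal := by
      rw [← hzq]
      rfl
    have hcz := hc _ hQ hcomap
    rw [SetLike.mem_coe, ← mem_basicOpen_res hle _ z hzO, mem_basicOpen_iff_notMem hO _ z hzO]
    have hresa : (Z.presheaf.map (homOfLE hle).op).hom (α * a₁ + a₂) =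
        c * (res a₁) ^ (N + 1) + res a₂ := by
      rw [map_add, map_mul, hα, pow_succ]
      ring
    rw [hresa]
    intro hmem
    by_cases hx : res a₂ ∈ (hO.primeIdealOf ⟨z, hzO⟩).asIdeal
    · -- then `z ∉ D(a₂)`, so `z ∈ D(a₁)`
      have hz1 : z ∈ Z.basicOpen a₁ := by
        rcases hz12 with h | h
        · exact h
        · exfalso
          rw [SetLike.mem_coe, ← mem_basicOpen_res hle _ z hzO,
            mem_basicOpen_iff_notMem hO _ z hzO] at h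
          exact h hx
      rw [← mem_basicOpen_res hle _ z hzO, mem_basicOpen_iff_notMem hO _ z hzO] at hz1
      have hcn : c ∉ (hO.primeIdealOf ⟨z, hzO⟩).asIdeal := fun h => (hcz.mp h) hx
      have h3 : c * (res a₁) ^ (N + 1) ∈ (hO.primeIdealOf ⟨z, hzO⟩).asIdeal := by
        have h4 := Ideal.sub_mem _ hmem hx
        rwa [add_sub_cancel_right] at h4
      rcases hQ.mem_or_mem h3 with h | h
      · exact hcn h
      · exact hz1 (hQ.mem_of_pow_mem _ h)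
    · have hcm : c ∈ (hO.primeIdealOf ⟨z, hzO⟩).asIdeal := hcz.mpr hx
      have h3 : res a₂ ∈ (hO.primeIdealOf ⟨z, hzO⟩).asIdeal := by
        have h4 := Ideal.sub_mem _ hmem (Ideal.mul_mem_right ((res a₁) ^ (N + 1)) _ hcm)
        rwa [add_sub_cancel_left] at h4
      exact hx h3

include hφ hU₀ hle in
/-- **the fibre lies in a principal open inside `O`.** -/
theorem exists_basicOpen_fibre :
    ∃ a : Γ(Z, U₀), Z.basicOpen a ≤ O ∧ fibreSet hO φ 𝔮 ⊆ (Z.basicOpen a : Set Z) := by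
  have key : ∃ a : Γ(Z, U₀), Z.basicOpen a ≤ O ∧
      fibreSet hO φ 𝔮 ∩ (O : Set Z) ⊆ (Z.basicOpen a : Set Z) := by
    refine hO.isCompact.induction_on (p := fun S => ∃ a : Γ(Z, U₀), Z.basicOpen a ≤ O ∧
      fibreSet hO φ 𝔮 ∩ S ⊆ (Z.basicOpen a : Set Z)) ?_ ?_ ?_ ?_
    · refine ⟨0, ?_, ?_⟩
      · rw [Scheme.basicOpen_zero]
        exact bot_le
      · rintro z ⟨-, h⟩
        exact absurd h (Set.notMem_empty z)
    · rintro s t hst ⟨a, ha1, ha2⟩
      exact ⟨a, ha1, fun z hz => ha2 ⟨hz.1, hst hz.2⟩⟩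
    · rintro s t ⟨a₁, h₁, h₁'⟩ ⟨a₂, h₂, h₂'⟩
      obtain ⟨a, ha, ha'⟩ := two_set hO hU₀ hle φ hφ 𝔮 a₁ a₂ h₁ h₂
      refine ⟨a, ha, ?_⟩
      rintro z ⟨hzF, hzs | hzt⟩
      · exact ha' ⟨hzF, Or.inl (h₁' ⟨hzF, hzs⟩)⟩
      · exact ha' ⟨hzF, Or.inr (h₂' ⟨hzF, hzt⟩)⟩
    · intro z hz
      obtain ⟨a, ha1, ha2⟩ := hU₀.exists_basicOpen_le (V := O) ⟨z, hz⟩ (hle hz)
      refine ⟨(Z.basicOpen a : Set Z), ?_, a, ha1, fun w hw => hw.2⟩
      exact mem_nhdsWithin_of_mem_nhds ((Z.basicOpen a).isOpen.mem_nhds ha2)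
  obtain ⟨a, ha1, ha2⟩ := key
  exact ⟨a, ha1, fun z hz => ha2 ⟨hz, hz.1⟩⟩

end Geometry

end Groth.Agent.Helper8.Push
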