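import Mathlib
import Groth.Agent.Helper8.PushJ

/-!
# Pushouts of schemes, part AA: prime avoidance tools

* `exists_add_notMem_of_finite`: coset prime avoidance (Davis).
* `exists_basicOpen_finite`: a finite set of points in an open subset of an affine open lies in a
  basic open contained in that open subset.
* `exists_lift_avoid`: lifting a section along a closed immersion while keeping a finite set of points
  in the non-vanishing locus.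
-/

set_option autoImplicit false
universe u

open CategoryTheory CategoryTheory.Limits AlgebraicGeometry Opposite TopologicalSpace

namespace Groth.Agent.Helper8.Push

/-- coset prime avoidance. -/
theorem exists_add_notMem_of_finite {R : Type*} [CommRing R] (I : Ideal R) (S : Set (Ideal R))
    (hS : S.Finite) (hprime : ∀ 𝔭 ∈ S, 𝔭.IsPrime) (hI : ∀ 𝔭 ∈ S, ¬ I ≤ 𝔭) (x : R) :
    ∃ y ∈ I, ∀ 𝔭 ∈ S, x + y ∉ 𝔭 := by
  classical
  set M₁ : Set (Ideal R) := {𝔭 | Maximal (· ∈ S) 𝔭 ∧ x ∈ 𝔭} with hM₁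
  set M₂ : Set (Ideal R) := {𝔭 | Maximal (· ∈ S) 𝔭 ∧ x ∉ 𝔭} with hM₂
  have hM₁S : M₁ ⊆ S := fun 𝔭 h => h.1.1
  have hM₂S : M₂ ⊆ S := fun 𝔭 h => h.1.1
  have hM₁fin : M₁.Finite := hS.subset hM₁S
  have hM₂fin : M₂.Finite := hS.subset hM₂S
  set J : Ideal R := I ⊓ hM₂fin.toFinset.inf id with hJ
  have hJI : J ≤ I := inf_le_left
  have hJM₂ : ∀ 𝔮 ∈ M₂, J ≤ 𝔮 := by
    intro 𝔮 h𝔮
    refine inf_le_right.trans ?_
    exact Finset.inf_le (f := id) (hM₂fin.mem_toFinset.mpr h𝔮)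
  have hJM₁ : ∀ 𝔭 ∈ M₁, ¬ J ≤ 𝔭 := by
    intro 𝔭 h𝔭 hle
    haveI := hprime 𝔭 (hM₁S h𝔭)
    rcases (Ideal.IsPrime.inf_le (hprime 𝔭 (hM₁S h𝔭))).mp hle with h | h
    · exact hI 𝔭 (hM₁S h𝔭) h
    · obtain ⟨𝔮, h𝔮, h𝔮le⟩ := (Ideal.IsPrime.inf_le' (hprime 𝔭 (hM₁S h𝔭))).mp h
      have h𝔮' : 𝔮 ∈ M₂ := hM₂fin.mem_toFinset.mp h𝔮
      have hle' : 𝔭 ≤ 𝔮 := h𝔮'.1.2 h𝔭.1.1 h𝔮le
      exact h𝔮'.2 (hle' h𝔭.2)
  have hnot : ¬ ((J : Set R) ⊆ ⋃ 𝔭 ∈ M₁, (𝔭 : Set R)) := by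
    intro hsub
    obtain ⟨𝔭, h𝔭, hle⟩ := (Ideal.subset_union_prime_finite hM₁fin ⊤ ⊤
      (fun 𝔭 h𝔭 _ _ => hprime 𝔭 (hM₁S h𝔭))).mp hsub
    exact hJM₁ 𝔭 h𝔭 hle
  rw [Set.not_subset] at hnot
  obtain ⟨y, hyJ, hy⟩ := hnot
  refine ⟨y, hJI hyJ, ?_⟩
  intro 𝔭 h𝔭 hmem
  obtain ⟨𝔪, h𝔭𝔪, h𝔪⟩ := hS.exists_le_maximal h𝔭
  have hmem' : x + y ∈ 𝔪 := h𝔭𝔪 hmem
  by_cases hx : x ∈ 𝔪
  · have h𝔪₁ : 𝔪 ∈ M₁ := ⟨h𝔪, hx⟩
    apply hy
    simp only [Set.mem_iUnion]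
    refine ⟨𝔪, h𝔪₁, ?_⟩
    have : y = (x + y) - x := by ring
    rw [this]
    exact 𝔪.sub_mem hmem' hx
  · have h𝔪₂ : 𝔪 ∈ M₂ := ⟨h𝔪, hx⟩
    apply hx
    have hy𝔪 : y ∈ 𝔪 := hJM₂ 𝔪 h𝔪₂ hyJ
    have : x = (x + y) - y := by ring
    rw [this]
    exact 𝔪.sub_mem hmem' hy𝔪

section Geometry

variable {X : Scheme.{u}}

/-- a finite set of points in an open subset `G` of an affine open `U` lies in a basic open of `U`
contained in `G`. -/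
theorem exists_basicOpen_finite {U : X.Opens} (hU : IsAffineOpen U) (G : X.Opens)
    (E : Set X) (hE : E.Finite) (hEU : E ⊆ U) (hEG : E ⊆ G) :
    ∃ f : Γ(X, U), X.basicOpen f ≤ G ∧ E ⊆ X.basicOpen f := by
  classical
  let J : Ideal Γ(X, U) :=
    { carrier := {f | X.basicOpen f ≤ G}
      add_mem' := fun {a b} ha hb => (X.basicOpen_add_le a b).trans (sup_le ha hb)
      zero_mem' := by
        show X.basicOpen (0 : Γ(X, U)) ≤ G
        rw [Scheme.basicOpen_zero]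
        exact bot_le
      smul_mem' := fun c f hf => by
        show X.basicOpen (c • f) ≤ G
        rw [smul_eq_mul, Scheme.basicOpen_mul]
        exact inf_le_right.trans hf }
  haveI : Finite E := hE.to_subtype
  let 𝔭 : E → Ideal Γ(X, U) := fun x => (hU.primeIdealOf ⟨x.1, hEU x.2⟩).asIdeal
  have hSfin : (Set.range 𝔭).Finite := Set.finite_range 𝔭
  have hnot : ¬ ((J : Set Γ(X, U)) ⊆ ⋃ 𝔮 ∈ Set.range 𝔭, (𝔮 : Set Γ(X, U))) := by
    intro hsub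
    obtain ⟨𝔮, ⟨x, rfl⟩, hle⟩ := (Ideal.subset_union_prime_finite hSfin ⊤ ⊤
      (fun 𝔮 h𝔮 _ _ => by
        obtain ⟨x, rfl⟩ := h𝔮
        exact (hU.primeIdealOf ⟨x.1, hEU x.2⟩).isPrime)).mp hsub
    obtain ⟨f, hf1, hf2⟩ := hU.exists_basicOpen_le (V := G) ⟨x.1, hEG x.2⟩ (hEU x.2)
    have hfJ : f ∈ J := hf1
    have : f ∈ 𝔭 x := hle hfJ
    exact (mem_basicOpen_iff_notMem hU f x.1 (hEU x.2)).mp hf2 this
  rw [Set.not_subset] at hnot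
  obtain ⟨f, hfJ, hf⟩ := hnot
  refine ⟨f, hfJ, ?_⟩
  intro x hx
  rw [SetLike.mem_coe, mem_basicOpen_iff_notMem hU f x (hEU hx)]
  intro hmem
  apply hf
  simp only [Set.mem_iUnion]
  exact ⟨𝔭 ⟨x, hx⟩, ⟨⟨x, hx⟩, rfl⟩, hmem⟩

/-- lifting a section along a closed immersion, keeping a finite set in the non-vanishing locus. -/
theorem exists_lift_avoid {Z : Scheme.{u}} (i : Z ⟶ X) [IsClosedImmersion i] {V : X.Opens}
    (hV : IsAffineOpen V) (s : Γ(Z, i ⁻¹ᵁ V)) (E : Set X) (hE : E.Finite) (hEV : E ⊆ V)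
    (hs : ∀ z : Z, i z ∈ E → z ∈ Z.basicOpen s) :
    ∃ f : Γ(X, V), (i.app V).hom f = s ∧ E ⊆ X.basicOpen f := by
  classical
  obtain ⟨f₀, hf₀⟩ := i.app_surjective V hV s
  set I : Ideal Γ(X, V) := RingHom.ker (i.app V).hom with hI
  set E' : Set X := E \ Set.range i with hE'
  have hE'fin : E'.Finite := hE.subset Set.diff_subset
  have hE'V : E' ⊆ V := Set.diff_subset.trans hEV
  haveI : Finite E' := hE'fin.to_subtype
  let 𝔭 : E' → Ideal Γ(X, V) := fun x => (hV.primeIdealOf ⟨x.1, hE'V x.2⟩).asIdeal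
  have hSfin : (Set.range 𝔭).Finite := Set.finite_range 𝔭
  have hprime : ∀ 𝔮 ∈ Set.range 𝔭, 𝔮.IsPrime := by
    rintro 𝔮 ⟨x, rfl⟩
    exact (hV.primeIdealOf ⟨x.1, hE'V x.2⟩).isPrime
  have hopen : IsOpen (Set.range i)ᶜ := i.isClosedEmbedding.isClosed_range.isOpen_compl
  have hnotle : ∀ 𝔮 ∈ Set.range 𝔭, ¬ I ≤ 𝔮 := by
    rintro 𝔮 ⟨x, rfl⟩ hle
    have hxG : x.1 ∈ (⟨(Set.range i)ᶜ, hopen⟩ : X.Opens) := x.2.2
    obtain ⟨f, hf1, hf2⟩ := hV.exists_basicOpen_le (V := ⟨(Set.range i)ᶜ, hopen⟩) ⟨x.1, hxG⟩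
      (hE'V x.2)
    have hbot : Z.basicOpen ((i.app V).hom f) = ⊥ := by
      rw [← Scheme.preimage_basicOpen]
      ext z
      constructor
      · intro hz
        exact absurd ⟨z, rfl⟩ (hf1 hz)
      · intro hz
        exact absurd hz (by simp)
    obtain ⟨n, hn⟩ := (Scheme.isNilpotent_iff_basicOpen_eq_bot_of_isCompact
      (hV.preimage i).isCompact _).mpr hbot
    have hmem : f ^ n ∈ I := by
      rw [hI, RingHom.mem_ker, map_pow]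
      exact hn
    have hf𝔭 : f ∈ 𝔭 x := (hprime _ ⟨x, rfl⟩).mem_of_pow_mem n (hle hmem)
    exact (mem_basicOpen_iff_notMem hV f x.1 (hE'V x.2)).mp hf2 hf𝔭
  obtain ⟨y, hyI, hy⟩ := exists_add_notMem_of_finite I (Set.range 𝔭) hSfin hprime hnotle f₀
  refine ⟨f₀ + y, ?_, ?_⟩
  · rw [map_add, hf₀, (RingHom.mem_ker).mp hyI, add_zero]
  · intro x hx
    by_cases hxi : x ∈ Set.range i
    · obtain ⟨z, rfl⟩ := hxi
      have hz : z ∈ Z.basicOpen s := hs z hx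
      have h2 : z ∈ i ⁻¹ᵁ X.basicOpen (f₀ + y) := by
        rw [Scheme.preimage_basicOpen, map_add, hf₀, (RingHom.mem_ker).mp hyI, add_zero]
        exact hz
      exact h2
    · have hx' : x ∈ E' := ⟨hx, hxi⟩
      rw [SetLike.mem_coe, mem_basicOpen_iff_notMem hV (f₀ + y) x (hEV hx)]
      exact hy _ ⟨⟨x, hx'⟩, rfl⟩

end Geometry

end Groth.Agent.Helper8.Push
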