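import Mathlib
import Groth.Agent.Helper8.PushA
import Groth.Agent.Lead.SchPushoutF

/-!
# Pushouts of schemes along a closed immersion, part B: the affine charts

For a good pair `k = (V, W)` the chart `Spec k.R` receives `V` and `W`; it is the pushout of
`V ⟵ ι⁻¹ V ⟶ W` (by the affine case), and we record the point-set facts needed for the gluing.
-/

set_option autoImplicit false
universe u

open CategoryTheory CategoryTheory.Limits AlgebraicGeometry Opposite TopologicalSpace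

namespace Groth.Agent.Helper8.Push

/-! ### point-set facts for the spectrum of a fibre product of rings -/

section SpecSquare

variable {R B A' A : CommRingCat.{u}} (π₁ : R ⟶ B) (π₂ : R ⟶ A') (q : B ⟶ A) (p : A' ⟶ A)
  (comm : π₁ ≫ q = π₂ ≫ p)
  (Rinj : ∀ x y : R, π₁ x = π₁ y → π₂ x = π₂ y → x = y)
  (Rsurj : ∀ (b : B) (a' : A'), q b = p a' → ∃ x : R, π₁ x = b ∧ π₂ x = a')
  (hp : Function.Surjective p)

include comm Rinj Rsurj hp in
theorem spec_cond_cd :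
    (∀ y₁ y₂ : Spec A', Spec.map π₂ y₁ = Spec.map π₂ y₂ →
      y₁ = y₂ ∨ ∃ z₁ z₂ : Spec A, Spec.map p z₁ = y₁ ∧ Spec.map p z₂ = y₂ ∧
        Spec.map q z₁ = Spec.map q z₂) ∧
    (∀ (w : Spec B) (y : Spec A'), Spec.map π₁ w = Spec.map π₂ y →
      ∃ z : Spec A, Spec.map q z = w ∧ Spec.map p z = y) ∧
    Function.Surjective π₁ := by
  have cx := Groth.Agent.Lead.SchPushout.comm_apply π₁ π₂ q p comm
  letI : Algebra R B := π₁.hom.toAlgebra
  letI : Algebra R A' := π₂.hom.toAlgebra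
  letI : Algebra B A := q.hom.toAlgebra
  letI : Algebra A' A := p.hom.toAlgebra
  letI : Algebra R A := (q.hom.comp π₁.hom).toAlgebra
  haveI : IsScalarTower R B A := IsScalarTower.of_algebraMap_eq (fun x => rfl)
  haveI : IsScalarTower R A' A := IsScalarTower.of_algebraMap_eq (fun x => cx x)
  have hsq : EtMil.IsFibreSquare R B A' A := by
    refine ⟨hp, fun b a' h => ?_⟩
    obtain ⟨x, hx1, hx2⟩ := Rsurj b a' h
    exact ⟨x, ⟨hx1, hx2⟩, fun y hy => Rinj _ _ (hy.1.trans hx1.symm) (hy.2.trans hx2.symm)⟩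
  refine ⟨fun y₁ y₂ h => ?_, fun w y h => ?_, ?_⟩
  · exact Groth.Agent.Helper2.SpecPushout.cond_c hsq y₁ y₂ h
  · exact Groth.Agent.Helper2.SpecPushout.cond_d hsq w y h
  · exact Groth.Agent.Helper7.EtMilH.surjB hsq

end SpecSquare

/-! ### naturality of `isoSpec` -/

section IsoSpec

lemma resLE_isoSpec {A B : Scheme.{u}} (f : A ⟶ B) {U : B.Opens} {V : A.Opens}
    (hU : IsAffineOpen U) (hV : IsAffineOpen V) (e : V ≤ f ⁻¹ᵁ U) :
    f.resLE U V e ≫ hU.isoSpec.hom = hV.isoSpec.hom ≫ Spec.map (f.appLE U V e) := by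
  rw [← cancel_mono hU.fromSpec, Category.assoc, Category.assoc, hU.isoSpec_hom_fromSpec,
    Scheme.Hom.resLE_comp_ι, hU.SpecMap_appLE_fromSpec f hV e, hV.isoSpec_hom_fromSpec_assoc]

lemma homOfLE_isoSpec {A : Scheme.{u}} {U V : A.Opens} (hU : IsAffineOpen U) (hV : IsAffineOpen V)
    (e : V ≤ U) :
    A.homOfLE e ≫ hU.isoSpec.hom = hV.isoSpec.hom ≫ Spec.map (A.presheaf.map (homOfLE e).op) := by
  rw [← cancel_mono hU.fromSpec, Category.assoc, Category.assoc, hU.isoSpec_hom_fromSpec,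
    Scheme.homOfLE_ι, hU.map_fromSpec hV (homOfLE e).op, hV.isoSpec_hom_fromSpec]

end IsoSpec

variable {X T Z : Scheme.{u}} {ι : Z ⟶ X} {ξ : Z ⟶ T}

namespace GoodPair

variable (k : GoodPair ι ξ)

/-- the map from `V` to the chart. -/
noncomputable def aC : (k.V : Scheme.{u}) ⟶ Spec k.R := k.hV.isoSpec.hom ≫ Spec.map k.π₂

/-- the map from `W` to the chart. -/
noncomputable def bC : (k.W : Scheme.{u}) ⟶ Spec k.R := k.hW.isoSpec.hom ≫ Spec.map k.π₁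

/-- the restriction of `ι`. -/
noncomputable def ιk : (k.ZV : Scheme.{u}) ⟶ k.V := ι.resLE k.V k.ZV le_rfl

/-- the restriction of `ξ`. -/
noncomputable def ξk : (k.ZV : Scheme.{u}) ⟶ k.W := ξ.resLE k.W k.ZV k.le_ξ

lemma ιk_ι : k.ιk ≫ k.V.ι = k.ZV.ι ≫ ι := Scheme.Hom.resLE_comp_ι _ _

lemma ξk_ι : k.ξk ≫ k.W.ι = k.ZV.ι ≫ ξ := Scheme.Hom.resLE_comp_ι _ _

lemma ιk_coe (z : k.ZV) : (k.ιk z).1 = ι z.1 := Scheme.Hom.coe_resLE_apply _ _ z

lemma ξk_coe (z : k.ZV) : (k.ξk z).1 = ξ z.1 := Scheme.Hom.coe_resLE_apply _ _ z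

variable [IsClosedImmersion ι]

lemma ιk_isoSpec :
    k.ιk ≫ k.hV.isoSpec.hom = k.isAffineOpen_ZV.isoSpec.hom ≫ Spec.map k.p :=
  resLE_isoSpec ι k.hV k.isAffineOpen_ZV le_rfl

lemma ξk_isoSpec :
    k.ξk ≫ k.hW.isoSpec.hom = k.isAffineOpen_ZV.isoSpec.hom ≫ Spec.map k.q :=
  resLE_isoSpec ξ k.hW k.isAffineOpen_ZV k.le_ξ

lemma ιk_isoSpec_inv_apply (z : Spec Γ(Z, k.ZV)) :
    k.hV.isoSpec.hom (k.ιk (k.isAffineOpen_ZV.isoSpec.inv z)) = Spec.map k.p z := by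
  rw [← Scheme.Hom.comp_apply, k.ιk_isoSpec, Scheme.Hom.comp_apply,
    ← Scheme.Hom.comp_apply k.isAffineOpen_ZV.isoSpec.inv, Iso.inv_hom_id]
  rfl

lemma ξk_isoSpec_inv_apply (z : Spec Γ(Z, k.ZV)) :
    k.hW.isoSpec.hom (k.ξk (k.isAffineOpen_ZV.isoSpec.inv z)) = Spec.map k.q z := by
  rw [← Scheme.Hom.comp_apply, k.ξk_isoSpec, Scheme.Hom.comp_apply,
    ← Scheme.Hom.comp_apply k.isAffineOpen_ZV.isoSpec.inv, Iso.inv_hom_id]
  rfl

lemma specSquare :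
    IsPushout (Spec.map k.p) (Spec.map k.q) (Spec.map k.π₂) (Spec.map k.π₁) :=
  Groth.Agent.Lead.SchPushout.spec_isPushout k.π₁ k.π₂ k.q k.p k.comm
    (fun _ _ h1 h2 => k.R_ext h1 h2) (fun b a h => k.R_surj b a h) k.p_surjective

/-- the chart is the pushout of `V ⟵ ι⁻¹ V ⟶ W`. -/
theorem isPushout_chart : IsPushout k.ιk k.ξk k.aC k.bC := by
  refine IsPushout.of_iso k.specSquare k.isAffineOpen_ZV.isoSpec.symm k.hV.isoSpec.symm
    k.hW.isoSpec.symm (Iso.refl _) ?_ ?_ ?_ ?_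
  · rw [Iso.symm_hom, Iso.symm_hom, Iso.comp_inv_eq, Category.assoc, k.ιk_isoSpec,
      Iso.inv_hom_id_assoc]
  · rw [Iso.symm_hom, Iso.symm_hom, Iso.comp_inv_eq, Category.assoc, k.ξk_isoSpec,
      Iso.inv_hom_id_assoc]
  · rw [Iso.refl_hom, Category.comp_id, Iso.symm_hom]
    unfold aC
    rw [Iso.inv_hom_id_assoc]
  · rw [Iso.refl_hom, Category.comp_id, Iso.symm_hom]
    unfold bC
    rw [Iso.inv_hom_id_assoc]

lemma chart_w : k.ιk ≫ k.aC = k.ξk ≫ k.bC := k.isPushout_chart.w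

/-! ### naturality in the good pair -/

omit [IsClosedImmersion ι] in
lemma aC_resMap {l k : GoodPair ι ξ} (h1 : l.V ≤ k.V) (h2 : l.W ≤ k.W) :
    l.aC ≫ Spec.map (resMap l k h1 h2) = X.homOfLE h1 ≫ k.aC := by
  unfold aC
  rw [Category.assoc, ← Spec.map_comp, resMap_π₂, Spec.map_comp, ← Category.assoc,
    ← homOfLE_isoSpec k.hV l.hV h1, Category.assoc]

omit [IsClosedImmersion ι] in
lemma bC_resMap {l k : GoodPair ι ξ} (h1 : l.V ≤ k.V) (h2 : l.W ≤ k.W) :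
    l.bC ≫ Spec.map (resMap l k h1 h2) = T.homOfLE h2 ≫ k.bC := by
  unfold bC
  rw [Category.assoc, ← Spec.map_comp, resMap_π₁, Spec.map_comp, ← Category.assoc,
    ← homOfLE_isoSpec k.hW l.hW h2, Category.assoc]

omit [IsClosedImmersion ι] in
lemma aC_resMap_apply {l k : GoodPair ι ξ} (h1 : l.V ≤ k.V) (h2 : l.W ≤ k.W) (x : X)
    (hx : x ∈ l.V) :
    Spec.map (resMap l k h1 h2) (l.aC ⟨x, hx⟩) = k.aC ⟨x, h1 hx⟩ := by
  rw [← Scheme.Hom.comp_apply, aC_resMap h1 h2, Scheme.Hom.comp_apply, Scheme.homOfLE_apply']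

omit [IsClosedImmersion ι] in
lemma bC_resMap_apply {l k : GoodPair ι ξ} (h1 : l.V ≤ k.V) (h2 : l.W ≤ k.W) (t : T)
    (ht : t ∈ l.W) :
    Spec.map (resMap l k h1 h2) (l.bC ⟨t, ht⟩) = k.bC ⟨t, h2 ht⟩ := by
  rw [← Scheme.Hom.comp_apply, bC_resMap h1 h2, Scheme.Hom.comp_apply, Scheme.homOfLE_apply']

/-! ### point-set facts for the charts -/

lemma π₁_surjective : Function.Surjective k.π₁.hom := by
  intro b
  obtain ⟨a, ha⟩ := k.p_surjective (k.q.hom b)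
  exact ⟨k.mkR a b ha, rfl⟩

instance : IsClosedImmersion k.bC := by
  haveI : IsClosedImmersion (Spec.map k.π₁) :=
    IsClosedImmersion.spec_of_surjective k.π₁ k.π₁_surjective
  unfold bC
  infer_instance

lemma bC_injective : Function.Injective k.bC := k.bC.isClosedEmbedding.injective

/-- joint surjectivity. -/
lemma chart_surj (s : Spec k.R) : (∃ x : k.V, k.aC x = s) ∨ (∃ t : k.W, k.bC t = s) := by
  obtain ⟨-, hS⟩ := Groth.Agent.Lead.SchPushout.spec_top k.π₁ k.π₂ k.q k.p k.comm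
    (fun _ _ h1 h2 => k.R_ext h1 h2) (fun b a h => k.R_surj b a h) k.p_surjective
  rcases hS s with ⟨y, hy⟩ | ⟨y, hy⟩
  · left
    refine ⟨k.hV.isoSpec.inv y, ?_⟩
    unfold aC
    rw [Scheme.Hom.comp_apply, ← Scheme.Hom.comp_apply k.hV.isoSpec.inv, Iso.inv_hom_id]
    exact hy
  · right
    refine ⟨k.hW.isoSpec.inv y, ?_⟩
    unfold bC
    rw [Scheme.Hom.comp_apply, ← Scheme.Hom.comp_apply k.hW.isoSpec.inv, Iso.inv_hom_id]
    exact hy

lemma iso_injective {A B : Scheme.{u}} (e : A ≅ B) : Function.Injective e.hom := by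
  intro x y h
  have := congrArg e.inv h
  rwa [← Scheme.Hom.comp_apply, ← Scheme.Hom.comp_apply, Iso.hom_inv_id] at this

/-- two points of `V` with the same image in the chart. -/
lemma aC_eq (x₁ x₂ : k.V) (h : k.aC x₁ = k.aC x₂) :
    x₁ = x₂ ∨ ∃ z₁ z₂ : k.ZV, k.ιk z₁ = x₁ ∧ k.ιk z₂ = x₂ ∧ k.ξk z₁ = k.ξk z₂ := by
  obtain ⟨hc, -, -⟩ := spec_cond_cd k.π₁ k.π₂ k.q k.p k.comm
    (fun _ _ h1 h2 => k.R_ext h1 h2) (fun b a h => k.R_surj b a h) k.p_surjective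
  have h' : Spec.map k.π₂ (k.hV.isoSpec.hom x₁) = Spec.map k.π₂ (k.hV.isoSpec.hom x₂) := by
    rw [← Scheme.Hom.comp_apply, ← Scheme.Hom.comp_apply]
    exact h
  rcases hc _ _ h' with h1 | ⟨z₁, z₂, hz₁, hz₂, hz⟩
  · exact Or.inl (iso_injective k.hV.isoSpec h1)
  · right
    refine ⟨k.isAffineOpen_ZV.isoSpec.inv z₁, k.isAffineOpen_ZV.isoSpec.inv z₂, ?_, ?_, ?_⟩
    · apply iso_injective k.hV.isoSpec
      rw [k.ιk_isoSpec_inv_apply]
      exact hz₁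
    · apply iso_injective k.hV.isoSpec
      rw [k.ιk_isoSpec_inv_apply]
      exact hz₂
    · apply iso_injective k.hW.isoSpec
      rw [k.ξk_isoSpec_inv_apply, k.ξk_isoSpec_inv_apply]
      exact hz

/-- a point of `W` and a point of `V` with the same image in the chart. -/
lemma bC_eq_aC (w : k.W) (x : k.V) (h : k.bC w = k.aC x) :
    ∃ z : k.ZV, k.ξk z = w ∧ k.ιk z = x := by
  obtain ⟨-, hd, -⟩ := spec_cond_cd k.π₁ k.π₂ k.q k.p k.comm
    (fun _ _ h1 h2 => k.R_ext h1 h2) (fun b a h => k.R_surj b a h) k.p_surjective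
  have h' : Spec.map k.π₁ (k.hW.isoSpec.hom w) = Spec.map k.π₂ (k.hV.isoSpec.hom x) := by
    rw [← Scheme.Hom.comp_apply, ← Scheme.Hom.comp_apply]
    exact h
  obtain ⟨z, hz1, hz2⟩ := hd _ _ h'
  refine ⟨k.isAffineOpen_ZV.isoSpec.inv z, ?_, ?_⟩
  · apply iso_injective k.hW.isoSpec
    rw [k.ξk_isoSpec_inv_apply]
    exact hz1
  · apply iso_injective k.hV.isoSpec
    rw [k.ιk_isoSpec_inv_apply]
    exact hz2

lemma chart_w_apply (z : k.ZV) : k.aC (k.ιk z) = k.bC (k.ξk z) := by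
  rw [← Scheme.Hom.comp_apply, ← Scheme.Hom.comp_apply, k.chart_w]

/-- the commutativity of the chart square at a point of `Z`, in terms of points of `X`, `T`. -/
lemma chart_w_apply' (z : Z) (hz : ι z ∈ k.V) :
    k.aC ⟨ι z, hz⟩ = k.bC ⟨ξ z, k.le_ξ hz⟩ := by
  have h := k.chart_w_apply ⟨z, hz⟩
  have e1 : k.ιk ⟨z, hz⟩ = ⟨ι z, hz⟩ := Subtype.ext (k.ιk_coe ⟨z, hz⟩)
  have e2 : k.ξk ⟨z, hz⟩ = ⟨ξ z, k.le_ξ hz⟩ := Subtype.ext (k.ξk_coe ⟨z, hz⟩)
  rw [e1, e2] at h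
  exact h

end GoodPair

end Groth.Agent.Helper8.Push
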