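import Mathlib
import Groth.Agent.Helper8.PushB

/-!
# Pushouts of schemes along a closed immersion, part C: refinements of good pairs

The refinement order on good pairs, the shrinking lemmas (two good pairs through a common point
have a common refinement through that point), and the locally directed diagram of charts.
-/

set_option autoImplicit false
universe u

open CategoryTheory CategoryTheory.Limits AlgebraicGeometry Opposite TopologicalSpace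

namespace Groth.Agent.Helper8.Push

variable {X T Z : Scheme.{u}} {ι : Z ⟶ X} {ξ : Z ⟶ T}

namespace GoodPair

/-- the refinement relation: inclusion of both opens, with the restriction map of coordinate
rings inducing an open immersion of spectra. -/
def LE (l k : GoodPair ι ξ) : Prop :=
  l.V ≤ k.V ∧ l.W ≤ k.W ∧
    ∀ (h1 : l.V ≤ k.V) (h2 : l.W ≤ k.W), IsOpenImmersion (Spec.map (resMap l k h1 h2))

instance : Preorder (GoodPair ι ξ) where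
  le := LE
  le_refl k := ⟨le_rfl, le_rfl, fun _ _ => by
    show IsOpenImmersion (Spec.map (resMap k k le_rfl le_rfl))
    rw [resMap_self]
    infer_instance⟩
  le_trans m l k hml hlk := ⟨hml.1.trans hlk.1, hml.2.1.trans hlk.2.1, fun h1 h2 => by
    haveI := hml.2.2 hml.1 hml.2.1
    haveI := hlk.2.2 hlk.1 hlk.2.1
    show IsOpenImmersion (Spec.map (resMap m k (hml.1.trans hlk.1) (hml.2.1.trans hlk.2.1)))
    rw [← resMap_comp hlk.1 hlk.2.1 hml.1 hml.2.1, Spec.map_comp]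
    infer_instance⟩

lemma le_def {l k : GoodPair ι ξ} : l ≤ k ↔ LE l k := Iff.rfl

lemma V_le_of_le {l k : GoodPair ι ξ} (h : l ≤ k) : l.V ≤ k.V := h.1

lemma W_le_of_le {l k : GoodPair ι ξ} (h : l ≤ k) : l.W ≤ k.W := h.2.1

lemma isOpenImmersion_of_le {l k : GoodPair ι ξ} (h : l ≤ k) :
    IsOpenImmersion (Spec.map (resMap l k (V_le_of_le h) (W_le_of_le h))) := h.2.2 _ _

variable [IsClosedImmersion ι]

lemma refine_le (k : GoodPair ι ξ) (r : k.R) : k.refine r ≤ k :=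
  ⟨refine_V_le k r, refine_W_le k r, fun _ _ => isOpenImmersion_resMap_refine k r⟩

omit [IsClosedImmersion ι] in
lemma refine_resMap_V (m k : GoodPair ι ξ) (h1 : m.V ≤ k.V) (h2 : m.W ≤ k.W) (r : k.R) :
    (m.refine ((resMap m k h1 h2).hom r)).V = m.V ⊓ (k.refine r).V :=
  Scheme.basicOpen_res _ _ _

omit [IsClosedImmersion ι] in
lemma refine_resMap_W (m k : GoodPair ι ξ) (h1 : m.V ≤ k.V) (h2 : m.W ≤ k.W) (r : k.R) :
    (m.refine ((resMap m k h1 h2).hom r)).W = m.W ⊓ (k.refine r).W :=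
  Scheme.basicOpen_res _ _ _

/-! ### points outside the closed subscheme -/

lemma exists_ker_basicOpen (m : GoodPair ι ξ) (x : X) (hx : x ∈ m.V)
    (hx' : x ∉ Set.range ι) :
    ∃ β : Γ(X, m.V), m.p.hom β = 0 ∧ x ∈ X.basicOpen β := by
  obtain ⟨𝔭, h𝔭⟩ : ∃ 𝔭 : Spec Γ(X, m.V), m.hV.fromSpec 𝔭 = x := by
    have : x ∈ Set.range m.hV.fromSpec := by
      rw [m.hV.range_fromSpec]
      exact hx
    exact this
  by_contra hcon
  push_neg at hcon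
  have hker : RingHom.ker m.p.hom ≤ 𝔭.asIdeal := by
    intro β hβ
    have h1 := hcon β ((RingHom.mem_ker).mp hβ)
    by_contra hβ'
    apply h1
    have h2 : 𝔭 ∈ (PrimeSpectrum.basicOpen β : Set (PrimeSpectrum Γ(X, m.V))) :=
      (PrimeSpectrum.mem_basicOpen β 𝔭).mpr hβ'
    have h3 : 𝔭 ∈ m.hV.fromSpec ⁻¹ᵁ X.basicOpen β := by
      rw [m.hV.fromSpec_preimage_basicOpen]
      exact h2
    rw [← h𝔭]
    exact h3
  have hrange : 𝔭 ∈ Set.range (PrimeSpectrum.comap m.p.hom) := by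
    rw [_root_.range_comap_of_surjective _ _ m.p_surjective]
    exact hker
  obtain ⟨𝔮, h𝔮⟩ := hrange
  apply hx'
  refine ⟨m.isAffineOpen_ZV.fromSpec 𝔮, ?_⟩
  have hsq := m.hV.SpecMap_appLE_fromSpec ι m.isAffineOpen_ZV le_rfl
  have h4 := congrArg (fun φ : Spec Γ(Z, m.ZV) ⟶ X => φ 𝔮) hsq
  simp only [Scheme.Hom.comp_apply] at h4
  rw [← h4, ← h𝔭]
  exact congrArg m.hV.fromSpec h𝔮

/-! ### shrinking `V` around the closed subscheme -/

lemma exists_shrinkV (m : GoodPair ι ξ) (O : X.Opens) (hO : m.ZV ≤ ι ⁻¹ᵁ O) :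
    ∃ r : m.R, (m.refine r).V ≤ O ∧ (m.refine r).W = m.W := by
  let S₁ : Set Γ(X, m.V) := {α | X.basicOpen α ≤ O}
  let S₂ : Set Γ(X, m.V) := (RingHom.ker m.p.hom : Set Γ(X, m.V))
  have hcov : m.V ≤ ⨆ f : ↥(S₁ ∪ S₂), X.basicOpen f.1 := by
    intro x hx
    by_cases hxr : x ∈ Set.range ι
    · obtain ⟨z, rfl⟩ := hxr
      have hzO : ι z ∈ O := hO hx
      obtain ⟨α, hα1, hα2⟩ := m.hV.exists_basicOpen_le (V := O) ⟨ι z, hzO⟩ hx
      exact Opens.mem_iSup.mpr ⟨⟨α, Or.inl hα1⟩, hα2⟩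
    · obtain ⟨β, hβ1, hβ2⟩ := exists_ker_basicOpen m x hx hxr
      exact Opens.mem_iSup.mpr ⟨⟨β, Or.inr ((RingHom.mem_ker).mpr hβ1)⟩, hβ2⟩
  have hspan : Ideal.span (S₁ ∪ S₂) = ⊤ := m.hV.self_le_iSup_basicOpen_iff.mp hcov
  rw [Ideal.span_union] at hspan
  have h1 : (1 : Γ(X, m.V)) ∈ Ideal.span S₁ ⊔ Ideal.span S₂ := by
    rw [hspan]
    exact Submodule.mem_top
  obtain ⟨a, ha, b, hb, hab⟩ := Submodule.mem_sup.mp h1
  have hb0 : m.p.hom b = 0 := by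
    have : Ideal.span S₂ = RingHom.ker m.p.hom := Ideal.span_eq _
    rw [this] at hb
    exact (RingHom.mem_ker).mp hb
  have ha1 : m.p.hom a = 1 := by
    have := congrArg m.p.hom hab
    rw [map_add, hb0, add_zero, map_one] at this
    exact this
  have haO : X.basicOpen a ≤ O := by
    refine Submodule.span_induction (p := fun a _ => X.basicOpen a ≤ O) ?_ ?_ ?_ ?_ ha
    · intro α hα
      exact hα
    · rw [Scheme.basicOpen_zero]
      exact bot_le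
    · intro α β _ _ hα hβ
      exact (Scheme.basicOpen_add_le X α β).trans (sup_le hα hβ)
    · intro c α _ hα
      rw [smul_eq_mul, Scheme.basicOpen_mul]
      exact inf_le_right.trans hα
  refine ⟨m.mkR a 1 (by rw [ha1, map_one]), haO, ?_⟩
  show T.basicOpen (1 : Γ(T, m.W)) = m.W
  exact Scheme.basicOpen_one _

/-! ### the shrinking lemmas -/

set_option maxHeartbeats 800000 in
/-- two good pairs through a point of `T` have a common refinement through that point. -/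
theorem exists_le_le_of_mem_W (i j : GoodPair ι ξ) (t : T) (hi : t ∈ i.W) (hj : t ∈ j.W) :
    ∃ l : GoodPair ι ξ, l ≤ i ∧ l ≤ j ∧ t ∈ l.W := by
  -- step 1
  obtain ⟨g₁, hg₁le, hg₁t⟩ := i.hW.exists_basicOpen_le (V := i.W ⊓ j.W) ⟨t, ⟨hi, hj⟩⟩ hi
  obtain ⟨f₁, hf₁⟩ := i.p_surjective (i.q.hom g₁)
  set l₁ := i.refine (i.mkR f₁ g₁ hf₁) with hl₁
  have hl₁i : l₁ ≤ i := refine_le i _
  have hl₁W : l₁.W ≤ j.W := hg₁le.trans inf_le_right
  have ht₁ : t ∈ l₁.W := hg₁t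
  -- step 2
  have hO : l₁.ZV ≤ ι ⁻¹ᵁ j.V := l₁.h.le.trans ((ξ.preimage_mono hl₁W).trans j.h.ge)
  obtain ⟨r₂, hr₂V, hr₂W⟩ := exists_shrinkV l₁ j.V hO
  set l₂ := l₁.refine r₂ with hl₂
  have hl₂l₁ : l₂ ≤ l₁ := refine_le l₁ _
  have hl₂W : l₂.W ≤ j.W := hr₂W.le.trans hl₁W
  have ht₂ : t ∈ l₂.W := hr₂W.ge ht₁
  -- step 3
  obtain ⟨g', hg'le, hg't⟩ := j.hW.exists_basicOpen_le (V := l₂.W) ⟨t, ht₂⟩ hj
  obtain ⟨f', hf'⟩ := j.p_surjective (j.q.hom g')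
  set r₃ := j.mkR f' g' hf' with hr₃
  set l₃ := j.refine r₃ with hl₃
  have hl₃j : l₃ ≤ j := refine_le j _
  have hl₃W : l₃.W ≤ l₂.W := hg'le
  have ht₃ : t ∈ l₃.W := hg't
  set l₂' := l₂.refine ((resMap l₂ j hr₂V hl₂W).hom r₃) with hl₂'
  have hl₂'l₂ : l₂' ≤ l₂ := refine_le l₂ _
  have hl₂'V : l₂'.V = l₂.V ⊓ l₃.V := refine_resMap_V l₂ j hr₂V hl₂W r₃
  have hl₂'W : l₂'.W = l₂.W ⊓ l₃.W := refine_resMap_W l₂ j hr₂V hl₂W r₃
  have hO' : l₃.ZV ≤ ι ⁻¹ᵁ l₂.V := l₃.h.le.trans ((ξ.preimage_mono hl₃W).trans l₂.h.ge)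
  obtain ⟨r₄, hr₄V, hr₄W⟩ := exists_shrinkV l₃ l₂.V hO'
  set l₄ := l₃.refine r₄ with hl₄
  have hl₄l₃ : l₄ ≤ l₃ := refine_le l₃ _
  have h1 : l₂'.V ≤ l₃.V := hl₂'V.le.trans inf_le_right
  have h2 : l₂'.W ≤ l₃.W := hl₂'W.le.trans inf_le_right
  have h3 : l₄.V ≤ l₂'.V := by
    rw [hl₂'V]
    exact le_inf hr₄V (refine_V_le l₃ r₄)
  have h4 : l₄.W ≤ l₂'.W := by
    rw [hl₂'W, hr₄W]
    exact le_inf hl₃W le_rfl
  have hbasic : l₄ = l₂'.refine ((resMap l₂' l₃ h1 h2).hom r₄) := basic_of_sub l₃ l₂' r₄ h1 h2 h3 h4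
  have hl₄l₂' : l₄ ≤ l₂' := by
    rw [hbasic]
    exact refine_le l₂' _
  refine ⟨l₄, ?_, hl₄l₃.trans hl₃j, hr₄W.ge ht₃⟩
  exact hl₄l₂'.trans (hl₂'l₂.trans (hl₂l₁.trans hl₁i))

set_option maxHeartbeats 800000 in
/-- two good pairs through a point of `X` outside `Z` have a common refinement through it. -/
theorem exists_le_le_of_mem_V_of_not_range (i j : GoodPair ι ξ) (x : X) (hi : x ∈ i.V)
    (hj : x ∈ j.V) (hx : x ∉ Set.range ι) :
    ∃ l : GoodPair ι ξ, l ≤ i ∧ l ≤ j ∧ x ∈ l.V := by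
  obtain ⟨α, hαle, hαx⟩ := i.hV.exists_basicOpen_le (V := i.V ⊓ j.V) ⟨x, ⟨hi, hj⟩⟩ hi
  obtain ⟨β, hβ0, hβx⟩ := exists_ker_basicOpen i x hi hx
  have hr₁ : i.p.hom (α * β) = i.q.hom 0 := by rw [map_mul, hβ0, mul_zero, map_zero]
  set l₁ := i.refine (i.mkR (α * β) 0 hr₁) with hl₁
  have hl₁i : l₁ ≤ i := refine_le i _
  have hl₁V : l₁.V = X.basicOpen α ⊓ X.basicOpen β := Scheme.basicOpen_mul X α β
  have hl₁W : l₁.W = ⊥ := Scheme.basicOpen_zero T _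
  have hl₁Vj : l₁.V ≤ j.V := hl₁V.le.trans (inf_le_left.trans (hαle.trans inf_le_right))
  have hl₁Wj : l₁.W ≤ j.W := hl₁W.le.trans bot_le
  have hx₁ : x ∈ l₁.V := hl₁V.ge ⟨hαx, hβx⟩
  obtain ⟨α', hα'le, hα'x⟩ := j.hV.exists_basicOpen_le (V := l₁.V) ⟨x, hx₁⟩ hj
  obtain ⟨β', hβ'0, hβ'x⟩ := exists_ker_basicOpen j x hj hx
  have hr₂ : j.p.hom (α' * β') = j.q.hom 0 := by rw [map_mul, hβ'0, mul_zero, map_zero]
  set r₂ := j.mkR (α' * β') 0 hr₂ with hr₂'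
  set l₂ := j.refine r₂ with hl₂
  have hl₂j : l₂ ≤ j := refine_le j _
  have hl₂V : l₂.V = X.basicOpen α' ⊓ X.basicOpen β' := Scheme.basicOpen_mul X α' β'
  have hl₂W : l₂.W = ⊥ := Scheme.basicOpen_zero T _
  have h3 : l₂.V ≤ l₁.V := hl₂V.le.trans (inf_le_left.trans hα'le)
  have h4 : l₂.W ≤ l₁.W := hl₂W.le.trans bot_le
  have hbasic : l₂ = l₁.refine ((resMap l₁ j hl₁Vj hl₁Wj).hom r₂) :=
    basic_of_sub j l₁ r₂ hl₁Vj hl₁Wj h3 h4
  have hl₂l₁ : l₂ ≤ l₁ := by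
    rw [hbasic]
    exact refine_le l₁ _
  exact ⟨l₂, hl₂l₁.trans hl₁i, hl₂j, hl₂V.ge ⟨hα'x, hβ'x⟩⟩

/-- two good pairs through a point of `X` have a common refinement through that point. -/
theorem exists_le_le_of_mem_V (i j : GoodPair ι ξ) (x : X) (hi : x ∈ i.V) (hj : x ∈ j.V) :
    ∃ l : GoodPair ι ξ, l ≤ i ∧ l ≤ j ∧ x ∈ l.V := by
  by_cases hx : x ∈ Set.range ι
  · obtain ⟨z, rfl⟩ := hx
    obtain ⟨l, hli, hlj, hl⟩ := exists_le_le_of_mem_W i j (ξ z) (i.le_ξ hi) (j.le_ξ hj)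
    exact ⟨l, hli, hlj, l.h.ge hl⟩
  · exact exists_le_le_of_mem_V_of_not_range i j x hi hj hx

/-! ### unbundled point-set facts -/

lemma chart_surj' (k : GoodPair ι ξ) (s : Spec k.R) :
    (∃ (x : X) (hx : x ∈ k.V), k.aC ⟨x, hx⟩ = s) ∨ (∃ (t : T) (ht : t ∈ k.W), k.bC ⟨t, ht⟩ = s) := by
  rcases k.chart_surj s with ⟨x, hx⟩ | ⟨t, ht⟩
  · exact Or.inl ⟨x.1, x.2, hx⟩
  · exact Or.inr ⟨t.1, t.2, ht⟩

lemma bC_inj' (k : GoodPair ι ξ) (t t' : T) (ht : t ∈ k.W) (ht' : t' ∈ k.W)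
    (h : k.bC ⟨t, ht⟩ = k.bC ⟨t', ht'⟩) : t = t' :=
  congrArg Subtype.val (k.bC_injective h)

lemma aC_eq' (k : GoodPair ι ξ) (x x' : X) (hx : x ∈ k.V) (hx' : x' ∈ k.V)
    (h : k.aC ⟨x, hx⟩ = k.aC ⟨x', hx'⟩) :
    x = x' ∨ ∃ z z' : Z, ι z = x ∧ ι z' = x' ∧ ξ z = ξ z' := by
  rcases k.aC_eq ⟨x, hx⟩ ⟨x', hx'⟩ h with h1 | ⟨z₁, z₂, hz₁, hz₂, hz⟩
  · exact Or.inl (congrArg Subtype.val h1)
  · right
    refine ⟨z₁.1, z₂.1, ?_, ?_, ?_⟩
    · rw [← k.ιk_coe z₁, hz₁]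
    · rw [← k.ιk_coe z₂, hz₂]
    · rw [← k.ξk_coe z₁, ← k.ξk_coe z₂, hz]

lemma bC_eq_aC' (k : GoodPair ι ξ) (t : T) (x : X) (ht : t ∈ k.W) (hx : x ∈ k.V)
    (h : k.bC ⟨t, ht⟩ = k.aC ⟨x, hx⟩) : ∃ z : Z, ξ z = t ∧ ι z = x := by
  obtain ⟨z, hz1, hz2⟩ := k.bC_eq_aC ⟨t, ht⟩ ⟨x, hx⟩ h
  refine ⟨z.1, ?_, ?_⟩
  · rw [← k.ξk_coe z, hz1]
  · rw [← k.ιk_coe z, hz2]

/-! ### local directedness of the diagram of charts -/

lemma ld_bb (i j : GoodPair ι ξ) (t : T) (hi : t ∈ i.W) (hj : t ∈ j.W) :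
    ∃ (l : GoodPair ι ξ) (hli : l ≤ i) (hlj : l ≤ j) (s : Spec l.R),
      Spec.map (resMap l i (V_le_of_le hli) (W_le_of_le hli)) s = i.bC ⟨t, hi⟩ ∧
      Spec.map (resMap l j (V_le_of_le hlj) (W_le_of_le hlj)) s = j.bC ⟨t, hj⟩ := by
  obtain ⟨l, hli, hlj, hl⟩ := exists_le_le_of_mem_W i j t hi hj
  exact ⟨l, hli, hlj, l.bC ⟨t, hl⟩, bC_resMap_apply _ _ t hl, bC_resMap_apply _ _ t hl⟩

lemma ld_aa (i j : GoodPair ι ξ) (x : X) (hi : x ∈ i.V) (hj : x ∈ j.V) :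
    ∃ (l : GoodPair ι ξ) (hli : l ≤ i) (hlj : l ≤ j) (s : Spec l.R),
      Spec.map (resMap l i (V_le_of_le hli) (W_le_of_le hli)) s = i.aC ⟨x, hi⟩ ∧
      Spec.map (resMap l j (V_le_of_le hlj) (W_le_of_le hlj)) s = j.aC ⟨x, hj⟩ := by
  obtain ⟨l, hli, hlj, hl⟩ := exists_le_le_of_mem_V i j x hi hj
  exact ⟨l, hli, hlj, l.aC ⟨x, hl⟩, aC_resMap_apply _ _ x hl, aC_resMap_apply _ _ x hl⟩

set_option maxHeartbeats 800000 in
theorem locallyDirected_aux {i j k : GoodPair ι ξ} (hik : i ≤ k) (hjk : j ≤ k)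
    (xi : Spec i.R) (xj : Spec j.R)
    (h : Spec.map (resMap i k (V_le_of_le hik) (W_le_of_le hik)) xi =
      Spec.map (resMap j k (V_le_of_le hjk) (W_le_of_le hjk)) xj) :
    ∃ (l : GoodPair ι ξ) (hli : l ≤ i) (hlj : l ≤ j) (s : Spec l.R),
      Spec.map (resMap l i (V_le_of_le hli) (W_le_of_le hli)) s = xi ∧
      Spec.map (resMap l j (V_le_of_le hlj) (W_le_of_le hlj)) s = xj := by
  rcases chart_surj' i xi with ⟨x, hx, rfl⟩ | ⟨t, ht, rfl⟩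
  · rcases chart_surj' j xj with ⟨x', hx', rfl⟩ | ⟨t', ht', rfl⟩
    · rw [aC_resMap_apply, aC_resMap_apply] at h
      rcases aC_eq' k x x' _ _ h with hxx | ⟨z, z', hz, hz', hzz⟩
      · subst hxx
        exact ld_aa i j x hx hx'
      · subst hz hz'
        have e1 : i.aC ⟨ι z, hx⟩ = i.bC ⟨ξ z, i.le_ξ hx⟩ := i.chart_w_apply' z hx
        have e2 : j.aC ⟨ι z', hx'⟩ = j.bC ⟨ξ z', j.le_ξ hx'⟩ := j.chart_w_apply' z' hx'
        have e3 : (⟨ξ z', j.le_ξ hx'⟩ : j.W) = ⟨ξ z, hzz ▸ j.le_ξ hx'⟩ := Subtype.ext hzz.symm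
        rw [e1, e2, e3]
        exact ld_bb i j (ξ z) _ _
    · rw [aC_resMap_apply, bC_resMap_apply] at h
      obtain ⟨z, hz1, hz2⟩ := bC_eq_aC' k t' x _ _ h.symm
      subst hz1 hz2
      have e1 : i.aC ⟨ι z, hx⟩ = i.bC ⟨ξ z, i.le_ξ hx⟩ := i.chart_w_apply' z hx
      rw [e1]
      exact ld_bb i j (ξ z) _ _
  · rcases chart_surj' j xj with ⟨x', hx', rfl⟩ | ⟨t', ht', rfl⟩
    · rw [bC_resMap_apply, aC_resMap_apply] at h
      obtain ⟨z, hz1, hz2⟩ := bC_eq_aC' k t x' _ _ h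
      subst hz1 hz2
      have e2 : j.aC ⟨ι z, hx'⟩ = j.bC ⟨ξ z, j.le_ξ hx'⟩ := j.chart_w_apply' z hx'
      rw [e2]
      exact ld_bb i j (ξ z) _ _
    · rw [bC_resMap_apply, bC_resMap_apply] at h
      have htt := bC_inj' k t t' _ _ h
      subst htt
      exact ld_bb i j t ht ht'

/-! ### the diagram of charts -/

variable (ι ξ) in
/-- the diagram of charts. -/
noncomputable def chartFunctor : GoodPair ι ξ ⥤ Scheme.{u} where
  obj k := Spec k.R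
  map {l k} f := Spec.map (resMap l k (V_le_of_le (leOfHom f)) (W_le_of_le (leOfHom f)))
  map_id k := by
    show Spec.map (resMap k k le_rfl le_rfl) = 𝟙 _
    rw [resMap_self]
    exact Spec.map_id _
  map_comp {m l k} f g := by
    show Spec.map (resMap m k _ _) = Spec.map (resMap m l _ _) ≫ Spec.map (resMap l k _ _)
    rw [← Spec.map_comp, resMap_comp]

instance chartFunctor_isOpenImmersion {l k : GoodPair ι ξ} (f : l ⟶ k) :
    IsOpenImmersion ((chartFunctor ι ξ).map f) :=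
  isOpenImmersion_of_le (leOfHom f)

instance chartFunctor_isLocallyDirected :
    ((chartFunctor ι ξ) ⋙ Scheme.forget).IsLocallyDirected where
  cond {i j k} fi fj xi xj hxij := by
    obtain ⟨l, hli, hlj, s, h1, h2⟩ := locallyDirected_aux (leOfHom fi) (leOfHom fj) xi xj hxij
    exact ⟨l, homOfLE hli, homOfLE hlj, s, h1, h2⟩

end GoodPair

end Groth.Agent.Helper8.Push
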