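import Mathlib
import Groth.Agent.Helper8.PushC

/-!
# Pushouts of schemes along a closed immersion, part D: existence

`ι : Z ⟶ X` a closed immersion, `ξ : Z ⟶ T` a morphism such that every point of `T` lies in the
second component of a good pair.  The colimit of the locally directed diagram of charts is a
pushout of `ι` and `ξ` in the category of schemes.
-/

set_option autoImplicit false
universe u

open CategoryTheory CategoryTheory.Limits AlgebraicGeometry Opposite TopologicalSpace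

namespace Groth.Agent.Helper8.Push

variable {X T Z : Scheme.{u}} (ι : Z ⟶ X) (ξ : Z ⟶ T) [IsClosedImmersion ι]
  (H : ∀ t : T, ∃ k : GoodPair ι ξ, t ∈ k.W)

include H in
lemma exists_mem_V (x : X) : ∃ k : GoodPair ι ξ, x ∈ k.V := by
  by_cases hx : x ∈ Set.range ι
  · obtain ⟨z, rfl⟩ := hx
    obtain ⟨k, hk⟩ := H (ξ z)
    exact ⟨k, k.h.ge hk⟩
  · have hopen : IsOpen (Set.range ι)ᶜ := ι.isClosedEmbedding.isClosed_range.isOpen_compl
    obtain ⟨V, hV, hxV, hVle⟩ := Opens.isBasis_iff_nbhd.mp X.isBasis_affineOpens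
      (U := ⟨(Set.range ι)ᶜ, hopen⟩) (x := x) hx
    refine ⟨⟨V, ⊥, hV, isAffineOpen_bot T, ?_⟩, hxV⟩
    ext z
    constructor
    · intro hz
      exact absurd ⟨z, rfl⟩ (hVle hz)
    · intro hz
      exact absurd hz (by simp)

/-! ### the two locally directed covers -/

/-- the cover of `X` by the first components of good pairs. -/
noncomputable def coverX : X.OpenCover where
  I₀ := GoodPair ι ξ
  X k := k.V
  f k := k.V.ι
  mem₀ := by
    rw [Scheme.presieve₀_mem_precoverage_iff]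
    refine ⟨fun x => ?_, inferInstance⟩
    obtain ⟨k, hk⟩ := exists_mem_V ι ξ H x
    exact ⟨k, ⟨x, hk⟩, rfl⟩

/-- the cover of `T` by the second components of good pairs. -/
noncomputable def coverT : T.OpenCover where
  I₀ := GoodPair ι ξ
  X k := k.W
  f k := k.W.ι
  mem₀ := by
    rw [Scheme.presieve₀_mem_precoverage_iff]
    refine ⟨fun t => ?_, inferInstance⟩
    obtain ⟨k, hk⟩ := H t
    exact ⟨k, ⟨t, hk⟩, rfl⟩

instance : Preorder (coverX ι ξ H).I₀ := inferInstanceAs (Preorder (GoodPair ι ξ))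

instance : Preorder (coverT ι ξ H).I₀ := inferInstanceAs (Preorder (GoodPair ι ξ))

noncomputable instance : (coverX ι ξ H).LocallyDirected where
  trans {i j} hij := X.homOfLE (GoodPair.V_le_of_le (leOfHom hij))
  trans_id i := X.homOfLE_rfl _
  trans_comp hij hjk := (X.homOfLE_homOfLE _ _).symm
  w hij := X.homOfLE_ι _
  directed {i j} x := by
    let φ : pullback ((coverX ι ξ H).f i) ((coverX ι ξ H).f j) ⟶ X :=
      pullback.fst ((coverX ι ξ H).f i) ((coverX ι ξ H).f j) ≫ (coverX ι ξ H).f i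
    let x₀ : X := φ x
    have hi : x₀ ∈ GoodPair.V i :=
      ((pullback.fst ((coverX ι ξ H).f i) ((coverX ι ξ H).f j)) x).2
    have hj : x₀ ∈ GoodPair.V j := by
      have e : x₀ = (pullback.snd ((coverX ι ξ H).f i) ((coverX ι ξ H).f j) ≫
          (coverX ι ξ H).f j) x := by
        show φ x = _
        rw [show φ = pullback.snd ((coverX ι ξ H).f i) ((coverX ι ξ H).f j) ≫
          (coverX ι ξ H).f j from pullback.condition]
      rw [e]
      exact ((pullback.snd ((coverX ι ξ H).f i) ((coverX ι ξ H).f j)) x).2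
    obtain ⟨l, hli, hlj, hl⟩ := GoodPair.exists_le_le_of_mem_V i j x₀ hi hj
    refine ⟨l, homOfLE hli, homOfLE hlj, ⟨x₀, hl⟩, ?_⟩
    apply (pullback.fst ((coverX ι ξ H).f i) ((coverX ι ξ H).f j) ≫
      (coverX ι ξ H).f i).isOpenEmbedding.injective
    rw [← Scheme.Hom.comp_apply, pullback.lift_fst_assoc]
    show (X.homOfLE _ ≫ (GoodPair.V i).ι) ⟨x₀, hl⟩ = x₀
    rw [Scheme.homOfLE_ι]
    rfl
  property_trans hij := by
    show IsOpenImmersion (X.homOfLE _)
    infer_instance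

noncomputable instance : (coverT ι ξ H).LocallyDirected where
  trans {i j} hij := T.homOfLE (GoodPair.W_le_of_le (leOfHom hij))
  trans_id i := T.homOfLE_rfl _
  trans_comp hij hjk := (T.homOfLE_homOfLE _ _).symm
  w hij := T.homOfLE_ι _
  directed {i j} x := by
    let φ : pullback ((coverT ι ξ H).f i) ((coverT ι ξ H).f j) ⟶ T :=
      pullback.fst ((coverT ι ξ H).f i) ((coverT ι ξ H).f j) ≫ (coverT ι ξ H).f i
    let x₀ : T := φ x
    have hi : x₀ ∈ GoodPair.W i :=
      ((pullback.fst ((coverT ι ξ H).f i) ((coverT ι ξ H).f j)) x).2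
    have hj : x₀ ∈ GoodPair.W j := by
      have e : x₀ = (pullback.snd ((coverT ι ξ H).f i) ((coverT ι ξ H).f j) ≫
          (coverT ι ξ H).f j) x := by
        show φ x = _
        rw [show φ = pullback.snd ((coverT ι ξ H).f i) ((coverT ι ξ H).f j) ≫
          (coverT ι ξ H).f j from pullback.condition]
      rw [e]
      exact ((pullback.snd ((coverT ι ξ H).f i) ((coverT ι ξ H).f j)) x).2
    obtain ⟨l, hli, hlj, hl⟩ := GoodPair.exists_le_le_of_mem_W i j x₀ hi hj
    refine ⟨l, homOfLE hli, homOfLE hlj, ⟨x₀, hl⟩, ?_⟩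
    apply (pullback.fst ((coverT ι ξ H).f i) ((coverT ι ξ H).f j) ≫
      (coverT ι ξ H).f i).isOpenEmbedding.injective
    rw [← Scheme.Hom.comp_apply, pullback.lift_fst_assoc]
    show (T.homOfLE _ ≫ (GoodPair.W i).ι) ⟨x₀, hl⟩ = x₀
    rw [Scheme.homOfLE_ι]
    rfl
  property_trans hij := by
    show IsOpenImmersion (T.homOfLE _)
    infer_instance

/-! ### the pushout -/

/-- the pushout scheme: the colimit of the diagram of charts. -/
noncomputable def P : Scheme.{u} := colimit (GoodPair.chartFunctor ι ξ)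

/-- the inclusion of a chart. -/
noncomputable def chart (k : GoodPair ι ξ) : Spec k.R ⟶ P ι ξ :=
  colimit.ι (GoodPair.chartFunctor ι ξ) k

instance (k : GoodPair ι ξ) : IsOpenImmersion (chart ι ξ k) :=
  inferInstanceAs (IsOpenImmersion (colimit.ι (GoodPair.chartFunctor ι ξ) k))

lemma resMap_chart {l k : GoodPair ι ξ} (h : l ≤ k) :
    Spec.map (GoodPair.resMap l k (GoodPair.V_le_of_le h) (GoodPair.W_le_of_le h)) ≫ chart ι ξ k =
      chart ι ξ l :=
  colimit.w (GoodPair.chartFunctor ι ξ) (homOfLE h)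

lemma inl_compat {i j : (coverX ι ξ H).I₀} (hij : i ⟶ j) :
    (coverX ι ξ H).trans hij ≫ GoodPair.aC j ≫ chart ι ξ j = GoodPair.aC i ≫ chart ι ξ i := by
  show X.homOfLE (GoodPair.V_le_of_le (leOfHom hij)) ≫ GoodPair.aC j ≫ chart ι ξ j =
    GoodPair.aC i ≫ chart ι ξ i
  rw [← Category.assoc, ← GoodPair.aC_resMap (GoodPair.V_le_of_le (leOfHom hij))
    (GoodPair.W_le_of_le (leOfHom hij)), Category.assoc, resMap_chart ι ξ (leOfHom hij)]

lemma inr_compat {i j : (coverT ι ξ H).I₀} (hij : i ⟶ j) :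
    (coverT ι ξ H).trans hij ≫ GoodPair.bC j ≫ chart ι ξ j = GoodPair.bC i ≫ chart ι ξ i := by
  show T.homOfLE (GoodPair.W_le_of_le (leOfHom hij)) ≫ GoodPair.bC j ≫ chart ι ξ j =
    GoodPair.bC i ≫ chart ι ξ i
  rw [← Category.assoc, ← GoodPair.bC_resMap (GoodPair.V_le_of_le (leOfHom hij))
    (GoodPair.W_le_of_le (leOfHom hij)), Category.assoc, resMap_chart ι ξ (leOfHom hij)]

/-- the map from `X` to the pushout. -/
noncomputable def inl : X ⟶ P ι ξ :=
  (coverX ι ξ H).glueMorphismsOfLocallyDirected (fun k => GoodPair.aC k ≫ chart ι ξ k)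
    (fun hij => inl_compat ι ξ H hij)

/-- the map from `T` to the pushout. -/
noncomputable def inr : T ⟶ P ι ξ :=
  (coverT ι ξ H).glueMorphismsOfLocallyDirected (fun k => GoodPair.bC k ≫ chart ι ξ k)
    (fun hij => inr_compat ι ξ H hij)

lemma ι_inl (k : GoodPair ι ξ) : k.V.ι ≫ inl ι ξ H = k.aC ≫ chart ι ξ k :=
  (coverX ι ξ H).map_glueMorphismsOfLocallyDirected (fun k => GoodPair.aC k ≫ chart ι ξ k)
    (fun hij => inl_compat ι ξ H hij) k

lemma ι_inr (k : GoodPair ι ξ) : k.W.ι ≫ inr ι ξ H = k.bC ≫ chart ι ξ k :=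
  (coverT ι ξ H).map_glueMorphismsOfLocallyDirected (fun k => GoodPair.bC k ≫ chart ι ξ k)
    (fun hij => inr_compat ι ξ H hij) k

lemma inl_inr_w : ι ≫ inl ι ξ H = ξ ≫ inr ι ξ H := by
  apply Groth.Agent.Lead.SchPushout.hom_ext_of_opens
  intro z
  obtain ⟨k, hk⟩ := H (ξ z)
  refine ⟨k.ZV, k.h.ge hk, ?_⟩
  rw [← Category.assoc, ← k.ιk_ι, Category.assoc, ι_inl, ← Category.assoc, k.chart_w,
    Category.assoc, ← ι_inr, ← Category.assoc, k.ξk_ι, Category.assoc]

/-- the descended morphism on a chart. -/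
noncomputable def descChart {Q : Scheme.{u}} (u : X ⟶ Q) (v : T ⟶ Q) (huv : ι ≫ u = ξ ≫ v)
    (k : GoodPair ι ξ) : Spec k.R ⟶ Q :=
  k.isPushout_chart.desc (k.V.ι ≫ u) (k.W.ι ≫ v) (by
    rw [← Category.assoc, k.ιk_ι, Category.assoc, huv, ← Category.assoc, ← k.ξk_ι, Category.assoc])

lemma aC_descChart {Q : Scheme.{u}} (u : X ⟶ Q) (v : T ⟶ Q) (huv : ι ≫ u = ξ ≫ v)
    (k : GoodPair ι ξ) : k.aC ≫ descChart ι ξ u v huv k = k.V.ι ≫ u :=
  k.isPushout_chart.inl_desc _ _ _

lemma bC_descChart {Q : Scheme.{u}} (u : X ⟶ Q) (v : T ⟶ Q) (huv : ι ≫ u = ξ ≫ v)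
    (k : GoodPair ι ξ) : k.bC ≫ descChart ι ξ u v huv k = k.W.ι ≫ v :=
  k.isPushout_chart.inr_desc _ _ _

lemma resMap_descChart {Q : Scheme.{u}} (u : X ⟶ Q) (v : T ⟶ Q) (huv : ι ≫ u = ξ ≫ v)
    {l k : GoodPair ι ξ} (h : l ≤ k) :
    Spec.map (GoodPair.resMap l k (GoodPair.V_le_of_le h) (GoodPair.W_le_of_le h)) ≫
      descChart ι ξ u v huv k = descChart ι ξ u v huv l := by
  apply l.isPushout_chart.hom_ext
  · rw [← Category.assoc, GoodPair.aC_resMap, Category.assoc, aC_descChart, aC_descChart,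
      ← Category.assoc, Scheme.homOfLE_ι]
  · rw [← Category.assoc, GoodPair.bC_resMap, Category.assoc, bC_descChart, bC_descChart,
      ← Category.assoc, Scheme.homOfLE_ι]

/-- the descended morphism. -/
noncomputable def desc {Q : Scheme.{u}} (u : X ⟶ Q) (v : T ⟶ Q) (huv : ι ≫ u = ξ ≫ v) :
    P ι ξ ⟶ Q :=
  colimit.desc (GoodPair.chartFunctor ι ξ)
    { pt := Q
      ι :=
        { app := fun k => descChart ι ξ u v huv k
          naturality := fun l k f => by
            show Spec.map (GoodPair.resMap l k _ _) ≫ descChart ι ξ u v huv k =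
              descChart ι ξ u v huv l ≫ 𝟙 Q
            rw [Category.comp_id]
            exact resMap_descChart ι ξ u v huv (leOfHom f) } }

lemma chart_desc {Q : Scheme.{u}} (u : X ⟶ Q) (v : T ⟶ Q) (huv : ι ≫ u = ξ ≫ v)
    (k : GoodPair ι ξ) : chart ι ξ k ≫ desc ι ξ u v huv = descChart ι ξ u v huv k :=
  colimit.ι_desc _ k

lemma inl_desc {Q : Scheme.{u}} (u : X ⟶ Q) (v : T ⟶ Q) (huv : ι ≫ u = ξ ≫ v) :
    inl ι ξ H ≫ desc ι ξ u v huv = u := by
  apply (coverX ι ξ H).hom_ext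
  intro k
  show (GoodPair.V k).ι ≫ inl ι ξ H ≫ desc ι ξ u v huv = (GoodPair.V k).ι ≫ u
  rw [← Category.assoc, ι_inl, Category.assoc, chart_desc, aC_descChart]

lemma inr_desc {Q : Scheme.{u}} (u : X ⟶ Q) (v : T ⟶ Q) (huv : ι ≫ u = ξ ≫ v) :
    inr ι ξ H ≫ desc ι ξ u v huv = v := by
  apply (coverT ι ξ H).hom_ext
  intro k
  show (GoodPair.W k).ι ≫ inr ι ξ H ≫ desc ι ξ u v huv = (GoodPair.W k).ι ≫ v
  rw [← Category.assoc, ι_inr, Category.assoc, chart_desc, bC_descChart]

lemma hom_ext {Q : Scheme.{u}} (m m' : P ι ξ ⟶ Q) (h1 : inl ι ξ H ≫ m = inl ι ξ H ≫ m')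
    (h2 : inr ι ξ H ≫ m = inr ι ξ H ≫ m') : m = m' := by
  apply colimit.hom_ext
  intro k
  show chart ι ξ k ≫ m = chart ι ξ k ≫ m'
  apply k.isPushout_chart.hom_ext
  · rw [← Category.assoc, ← ι_inl ι ξ H, Category.assoc, h1, ← Category.assoc, ι_inl,
      Category.assoc]
  · rw [← Category.assoc, ← ι_inr ι ξ H, Category.assoc, h2, ← Category.assoc, ι_inr,
      Category.assoc]

/-- **Existence of pushouts along a closed immersion** (Ferrand): the colimit of the charts is a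
pushout of `ι` and `ξ` in the category of schemes. -/
theorem isPushout : IsPushout ι ξ (inl ι ξ H) (inr ι ξ H) := by
  refine ⟨⟨inl_inr_w ι ξ H⟩, ⟨PushoutCocone.IsColimit.mk (inl_inr_w ι ξ H)
    (fun s => desc ι ξ s.inl s.inr s.condition)
    (fun s => inl_desc ι ξ H s.inl s.inr s.condition)
    (fun s => inr_desc ι ξ H s.inl s.inr s.condition) ?_⟩⟩
  intro s m h1 h2
  apply hom_ext ι ξ H
  · rw [h1, inl_desc]
  · rw [h2, inr_desc]

include H in
theorem exists_isPushout : ∃ (P : Scheme.{u}) (a : X ⟶ P) (b : T ⟶ P), IsPushout ι ξ a b :=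
  ⟨P ι ξ, inl ι ξ H, inr ι ξ H, isPushout ι ξ H⟩

end Groth.Agent.Helper8.Push
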