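import Mathlib
import Groth.Agent.Helper8.PushD

/-!
# Pushouts of schemes along a closed immersion, part F: properties of the pushout

The preimages of the chart opens are the opens of the good pair; `T ⟶ P` is a closed immersion;
the pushout square is cartesian; `X ⟶ P` is a closed immersion when `ξ` is.
-/

set_option autoImplicit false
universe u

open CategoryTheory CategoryTheory.Limits AlgebraicGeometry Opposite TopologicalSpace

namespace Groth.Agent.Helper8.Push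

variable {X T Z : Scheme.{u}} (ι : Z ⟶ X) (ξ : Z ⟶ T) [IsClosedImmersion ι]
  (H : ∀ t : T, ∃ k : GoodPair ι ξ, t ∈ k.W)

lemma inl_apply (k : GoodPair ι ξ) (x : X) (hx : x ∈ k.V) :
    inl ι ξ H x = chart ι ξ k (k.aC ⟨x, hx⟩) := by
  have h := congrArg (fun φ : (k.V : Scheme.{u}) ⟶ P ι ξ => φ ⟨x, hx⟩) (ι_inl ι ξ H k)
  simp only [Scheme.Hom.comp_apply] at h
  exact h

lemma inr_apply (k : GoodPair ι ξ) (t : T) (ht : t ∈ k.W) :
    inr ι ξ H t = chart ι ξ k (k.bC ⟨t, ht⟩) := by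
  have h := congrArg (fun φ : (k.W : Scheme.{u}) ⟶ P ι ξ => φ ⟨t, ht⟩) (ι_inr ι ξ H k)
  simp only [Scheme.Hom.comp_apply] at h
  exact h

lemma chart_eq_chart_iff {i j : GoodPair ι ξ} (xi : Spec i.R) (xj : Spec j.R) :
    chart ι ξ i xi = chart ι ξ j xj ↔
      ∃ (l : GoodPair ι ξ) (hli : l ≤ i) (hlj : l ≤ j) (s : Spec l.R),
        Spec.map (GoodPair.resMap l i (GoodPair.V_le_of_le hli) (GoodPair.W_le_of_le hli)) s = xi ∧
        Spec.map (GoodPair.resMap l j (GoodPair.V_le_of_le hlj) (GoodPair.W_le_of_le hlj)) s = xj := by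
  constructor
  · intro h
    obtain ⟨l, fi, fj, s, h1, h2⟩ :=
      (Scheme.IsLocallyDirected.ι_eq_ι_iff (F := GoodPair.chartFunctor ι ξ)).mp h
    exact ⟨l, leOfHom fi, leOfHom fj, s, h1, h2⟩
  · rintro ⟨l, hli, hlj, s, h1, h2⟩
    exact (Scheme.IsLocallyDirected.ι_eq_ι_iff (F := GoodPair.chartFunctor ι ξ)).mpr
      ⟨l, homOfLE hli, homOfLE hlj, s, h1, h2⟩

/-- the preimage of a chart open in `T`. -/
theorem inr_preimage_chart (k : GoodPair ι ξ) :
    inr ι ξ H ⁻¹ᵁ (chart ι ξ k).opensRange = k.W := by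
  apply le_antisymm
  · rintro t ⟨s, hs⟩
    obtain ⟨k', hk'⟩ := H t
    have hs' : chart ι ξ k s = chart ι ξ k' (k'.bC ⟨t, hk'⟩) := by
      rw [← inr_apply ι ξ H k' t hk']
      exact hs
    obtain ⟨l, hlk, hlk', y, hy1, hy2⟩ := (chart_eq_chart_iff ι ξ s _).mp hs'
    rcases GoodPair.chart_surj' l y with ⟨x, hx, rfl⟩ | ⟨t₂, ht₂, rfl⟩
    · rw [GoodPair.aC_resMap_apply] at hy2
      obtain ⟨z, hz1, hz2⟩ := GoodPair.bC_eq_aC' k' t x _ _ hy2.symm
      subst hz1 hz2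
      exact GoodPair.W_le_of_le hlk (l.le_ξ hx)
    · rw [GoodPair.bC_resMap_apply] at hy2
      have := GoodPair.bC_inj' k' t₂ t _ _ hy2
      subst this
      exact GoodPair.W_le_of_le hlk ht₂
  · intro t ht
    exact ⟨k.bC ⟨t, ht⟩, (inr_apply ι ξ H k t ht).symm⟩

/-- the preimage of a chart open in `X`. -/
theorem inl_preimage_chart (k : GoodPair ι ξ) :
    inl ι ξ H ⁻¹ᵁ (chart ι ξ k).opensRange = k.V := by
  apply le_antisymm
  · rintro x ⟨s, hs⟩
    obtain ⟨k', hk'⟩ := exists_mem_V ι ξ H x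
    have hs' : chart ι ξ k s = chart ι ξ k' (k'.aC ⟨x, hk'⟩) := by
      rw [← inl_apply ι ξ H k' x hk']
      exact hs
    obtain ⟨l, hlk, hlk', y, hy1, hy2⟩ := (chart_eq_chart_iff ι ξ s _).mp hs'
    rcases GoodPair.chart_surj' l y with ⟨x₂, hx₂, rfl⟩ | ⟨t₂, ht₂, rfl⟩
    · rw [GoodPair.aC_resMap_apply] at hy2
      rcases GoodPair.aC_eq' k' x₂ x _ _ hy2 with hxx | ⟨z, z', hz, hz', hzz⟩
      · subst hxx
        exact GoodPair.V_le_of_le hlk hx₂
      · subst hz hz'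
        have h1 : ξ z ∈ l.W := l.le_ξ hx₂
        rw [hzz] at h1
        exact GoodPair.V_le_of_le hlk (l.h.ge h1)
    · rw [GoodPair.bC_resMap_apply] at hy2
      obtain ⟨z, hz1, hz2⟩ := GoodPair.bC_eq_aC' k' t₂ x _ _ hy2
      subst hz1 hz2
      exact GoodPair.V_le_of_le hlk (l.h.ge ht₂)
  · intro x hx
    exact ⟨k.aC ⟨x, hx⟩, (inl_apply ι ξ H k x hx).symm⟩

/-- the square over a chart for `T`. -/
theorem isPullback_inr_chart (k : GoodPair ι ξ) :
    IsPullback k.bC k.W.ι (chart ι ξ k) (inr ι ξ H) :=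
  IsOpenImmersion.isPullback k.bC k.W.ι (chart ι ξ k) (inr ι ξ H) (ι_inr ι ξ H k)
    (by rw [inr_preimage_chart, Scheme.Opens.opensRange_ι])

/-- the square over a chart for `X`. -/
theorem isPullback_inl_chart (k : GoodPair ι ξ) :
    IsPullback k.aC k.V.ι (chart ι ξ k) (inl ι ξ H) :=
  IsOpenImmersion.isPullback k.aC k.V.ι (chart ι ξ k) (inl ι ξ H) (ι_inl ι ξ H k)
    (by rw [inl_preimage_chart, Scheme.Opens.opensRange_ι])

/-- the open cover of the pushout by the charts. -/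
noncomputable def coverP : (P ι ξ).OpenCover :=
  Scheme.IsLocallyDirected.openCover (GoodPair.chartFunctor ι ξ)

/-- a property of morphisms local on the target holds for `T ⟶ P` if it holds for all `W ⟶ chart`. -/
theorem inr_of_isZariskiLocalAtTarget (Q : MorphismProperty Scheme.{u}) [IsZariskiLocalAtTarget Q]
    (h : ∀ k : GoodPair ι ξ, Q k.bC) : Q (inr ι ξ H) := by
  refine (IsZariskiLocalAtTarget.iff_of_openCover (P := Q) (coverP ι ξ)).mpr ?_
  intro (k : GoodPair ι ξ)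
  have hk : IsPullback k.W.ι k.bC (inr ι ξ H) (chart ι ξ k) := (isPullback_inr_chart ι ξ H k).flip
  show Q (pullback.snd (inr ι ξ H) (chart ι ξ k))
  refine (MorphismProperty.cancel_left_of_respectsIso Q hk.isoPullback.hom _).mp ?_
  rw [hk.isoPullback_hom_snd]
  exact h k

theorem inl_of_isZariskiLocalAtTarget (Q : MorphismProperty Scheme.{u}) [IsZariskiLocalAtTarget Q]
    (h : ∀ k : GoodPair ι ξ, Q k.aC) : Q (inl ι ξ H) := by
  refine (IsZariskiLocalAtTarget.iff_of_openCover (P := Q) (coverP ι ξ)).mpr ?_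
  intro (k : GoodPair ι ξ)
  have hk : IsPullback k.V.ι k.aC (inl ι ξ H) (chart ι ξ k) := (isPullback_inl_chart ι ξ H k).flip
  show Q (pullback.snd (inl ι ξ H) (chart ι ξ k))
  refine (MorphismProperty.cancel_left_of_respectsIso Q hk.isoPullback.hom _).mp ?_
  rw [hk.isoPullback_hom_snd]
  exact h k

instance : IsClosedImmersion (inr ι ξ H) :=
  inr_of_isZariskiLocalAtTarget ι ξ H @IsClosedImmersion (fun _ => inferInstance)

/-! ### the chart squares are cartesian -/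

section ChartCartesian

variable {ι ξ}

lemma GoodPair.exists_lift_ring (k : GoodPair ι ξ) {C : CommRingCat.{u}} (α : Γ(X, k.V) ⟶ C)
    (β : Γ(T, k.W) ⟶ C) (h : k.π₂ ≫ α = k.π₁ ≫ β) :
    ∃ γ : Γ(Z, k.ZV) ⟶ C, k.p ≫ γ = α ∧ k.q ≫ γ = β := by
  have hker : RingHom.ker k.p.hom ≤ RingHom.ker α.hom := by
    intro a ha
    have ha0 : k.p.hom a = k.q.hom 0 := by rw [(RingHom.mem_ker).mp ha, map_zero]
    have h1 := congrArg (fun φ => φ.hom (k.mkR a 0 ha0)) h
    simp only [CommRingCat.hom_comp, RingHom.comp_apply] at h1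
    rw [GoodPair.π₂_mkR, GoodPair.π₁_mkR, map_zero] at h1
    exact (RingHom.mem_ker).mpr h1
  let γ₀ : Γ(Z, k.ZV) →+* C :=
    RingHom.liftOfRightInverse k.p.hom (Function.surjInv k.p_surjective)
      (Function.rightInverse_surjInv k.p_surjective) ⟨α.hom, hker⟩
  have hγ : ∀ a, γ₀ (k.p.hom a) = α.hom a := fun a =>
    RingHom.liftOfRightInverse_comp_apply k.p.hom (Function.surjInv k.p_surjective)
      (Function.rightInverse_surjInv k.p_surjective) ⟨α.hom, hker⟩ a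
  refine ⟨CommRingCat.ofHom γ₀, ?_, ?_⟩
  · ext a
    exact hγ a
  · ext b
    obtain ⟨a, ha⟩ := k.p_surjective (k.q.hom b)
    have h1 := congrArg (fun φ => φ.hom (k.mkR a b ha)) h
    simp only [CommRingCat.hom_comp, RingHom.comp_apply] at h1
    rw [GoodPair.π₂_mkR, GoodPair.π₁_mkR] at h1
    show γ₀ (k.q.hom b) = β.hom b
    rw [← ha, hγ, h1]

/-- the square of rings `R → Γ(V), Γ(W) → Γ(ι⁻¹ V)` is a pushout. -/
theorem GoodPair.isPushout_rings (k : GoodPair ι ξ) : IsPushout k.π₂ k.π₁ k.p k.q := by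
  refine ⟨⟨k.comm.symm⟩, ⟨PushoutCocone.IsColimit.mk k.comm.symm
    (fun s => (k.exists_lift_ring s.inl s.inr s.condition).choose)
    (fun s => (k.exists_lift_ring s.inl s.inr s.condition).choose_spec.1)
    (fun s => (k.exists_lift_ring s.inl s.inr s.condition).choose_spec.2) ?_⟩⟩
  intro s m h1 h2
  have h3 := (k.exists_lift_ring s.inl s.inr s.condition).choose_spec.1
  ext c
  obtain ⟨a, rfl⟩ := k.p_surjective c
  have e1 := congrArg (fun φ => φ.hom a) h1
  have e3 := congrArg (fun φ => φ.hom a) h3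
  simp only [CommRingCat.hom_comp, RingHom.comp_apply] at e1 e3
  exact e1.trans e3.symm

/-- the chart square is cartesian. -/
theorem GoodPair.isPullback_chart (k : GoodPair ι ξ) : IsPullback k.ιk k.ξk k.aC k.bC := by
  have h0 : IsPullback (Spec.map k.p) (Spec.map k.q) (Spec.map k.π₂) (Spec.map k.π₁) :=
    isPullback_SpecMap_of_isPushout k.π₂ k.π₁ k.p k.q k.isPushout_rings
  refine IsPullback.of_iso h0 k.isAffineOpen_ZV.isoSpec.symm k.hV.isoSpec.symm
    k.hW.isoSpec.symm (Iso.refl _) ?_ ?_ ?_ ?_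
  · rw [Iso.symm_hom, Iso.symm_hom, Iso.comp_inv_eq, Category.assoc, k.ιk_isoSpec,
      Iso.inv_hom_id_assoc]
  · rw [Iso.symm_hom, Iso.symm_hom, Iso.comp_inv_eq, Category.assoc, k.ξk_isoSpec,
      Iso.inv_hom_id_assoc]
  · rw [Iso.refl_hom, Category.comp_id, Iso.symm_hom]
    unfold GoodPair.aC
    rw [Iso.inv_hom_id_assoc]
  · rw [Iso.refl_hom, Category.comp_id, Iso.symm_hom]
    unfold GoodPair.bC
    rw [Iso.inv_hom_id_assoc]

end ChartCartesian

/-! ### the pushout square is cartesian -/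

section Cartesian

variable {S : Scheme.{u}} (u : S ⟶ X) (v : S ⟶ T) (huv : u ≫ inl ι ξ H = v ≫ inr ι ξ H)

include huv in
lemma preimage_V_le (k : GoodPair ι ξ) : u ⁻¹ᵁ k.V ≤ v ⁻¹ᵁ k.W := by
  intro s hs
  have h1 : inl ι ξ H (u s) ∈ (chart ι ξ k).opensRange := by
    have : u s ∈ inl ι ξ H ⁻¹ᵁ (chart ι ξ k).opensRange := by
      rw [inl_preimage_chart]
      exact hs
    exact this
  have h2 : inr ι ξ H (v s) ∈ (chart ι ξ k).opensRange := by
    have e := congrArg (fun φ : S ⟶ P ι ξ => φ s) huv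
    simp only [Scheme.Hom.comp_apply] at e
    rw [← e]
    exact h1
  have h3 : v s ∈ inr ι ξ H ⁻¹ᵁ (chart ι ξ k).opensRange := h2
  rw [inr_preimage_chart] at h3
  exact h3

/-- the local lift to `Z`. -/
noncomputable def liftChart (k : GoodPair ι ξ) : (u ⁻¹ᵁ k.V : Scheme.{u}) ⟶ Z :=
  (GoodPair.isPullback_chart k).lift (u.resLE k.V (u ⁻¹ᵁ k.V) le_rfl)
    (v.resLE k.W (u ⁻¹ᵁ k.V) (preimage_V_le ι ξ H u v huv k)) (by
      rw [← cancel_mono (chart ι ξ k), Category.assoc, Category.assoc, ← ι_inl ι ξ H k,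
        ← ι_inr ι ξ H k, Scheme.Hom.resLE_comp_ι_assoc, Scheme.Hom.resLE_comp_ι_assoc, huv]) ≫
    k.ZV.ι

lemma liftChart_ι (k : GoodPair ι ξ) :
    liftChart ι ξ H u v huv k ≫ ι = (u ⁻¹ᵁ k.V).ι ≫ u := by
  unfold liftChart
  rw [Category.assoc, ← k.ιk_ι, IsPullback.lift_fst_assoc, Scheme.Hom.resLE_comp_ι]

lemma liftChart_ξ (k : GoodPair ι ξ) :
    liftChart ι ξ H u v huv k ≫ ξ = (u ⁻¹ᵁ k.V).ι ≫ v := by
  unfold liftChart
  rw [Category.assoc, ← k.ξk_ι, IsPullback.lift_snd_assoc, Scheme.Hom.resLE_comp_ι]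

/-- the open cover of `S` by the preimages of the `V`. -/
noncomputable def coverS : S.OpenCover where
  I₀ := GoodPair ι ξ
  X k := u ⁻¹ᵁ k.V
  f k := (u ⁻¹ᵁ k.V).ι
  mem₀ := by
    rw [Scheme.presieve₀_mem_precoverage_iff]
    refine ⟨fun s => ?_, inferInstance⟩
    obtain ⟨k, hk⟩ := exists_mem_V ι ξ H (u s)
    exact ⟨k, ⟨s, hk⟩, rfl⟩

/-- the lift to `Z`. -/
noncomputable def liftZ : S ⟶ Z :=
  (coverS ι ξ H u).glueMorphisms (fun k => liftChart ι ξ H u v huv k) (by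
    intro (i : GoodPair ι ξ) (j : GoodPair ι ξ)
    show pullback.fst (u ⁻¹ᵁ GoodPair.V i).ι (u ⁻¹ᵁ GoodPair.V j).ι ≫ liftChart ι ξ H u v huv i =
      pullback.snd (u ⁻¹ᵁ GoodPair.V i).ι (u ⁻¹ᵁ GoodPair.V j).ι ≫ liftChart ι ξ H u v huv j
    rw [← cancel_mono ι, Category.assoc, Category.assoc, liftChart_ι, liftChart_ι]
    exact pullback.condition_assoc _)

lemma liftZ_ι : liftZ ι ξ H u v huv ≫ ι = u := by
  apply (coverS ι ξ H u).hom_ext
  intro (k : GoodPair ι ξ)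
  show (u ⁻¹ᵁ GoodPair.V k).ι ≫ liftZ ι ξ H u v huv ≫ ι = (u ⁻¹ᵁ GoodPair.V k).ι ≫ u
  have e : (u ⁻¹ᵁ GoodPair.V k).ι ≫ liftZ ι ξ H u v huv = liftChart ι ξ H u v huv k :=
    (coverS ι ξ H u).ι_glueMorphisms _ _ k
  rw [← Category.assoc, e]
  exact liftChart_ι ι ξ H u v huv k

lemma liftZ_ξ : liftZ ι ξ H u v huv ≫ ξ = v := by
  apply (coverS ι ξ H u).hom_ext
  intro (k : GoodPair ι ξ)
  show (u ⁻¹ᵁ GoodPair.V k).ι ≫ liftZ ι ξ H u v huv ≫ ξ = (u ⁻¹ᵁ GoodPair.V k).ι ≫ v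
  have e : (u ⁻¹ᵁ GoodPair.V k).ι ≫ liftZ ι ξ H u v huv = liftChart ι ξ H u v huv k :=
    (coverS ι ξ H u).ι_glueMorphisms _ _ k
  rw [← Category.assoc, e]
  exact liftChart_ξ ι ξ H u v huv k

end Cartesian

/-- the pushout square is cartesian. -/
theorem isPullback : IsPullback ι ξ (inl ι ξ H) (inr ι ξ H) := by
  refine ⟨⟨inl_inr_w ι ξ H⟩, ⟨PullbackCone.IsLimit.mk (inl_inr_w ι ξ H)
    (fun s => liftZ ι ξ H s.fst s.snd s.condition)
    (fun s => liftZ_ι ι ξ H s.fst s.snd s.condition)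
    (fun s => liftZ_ξ ι ξ H s.fst s.snd s.condition) ?_⟩⟩
  intro s m h1 h2
  rw [← cancel_mono ι, h1, liftZ_ι]

/-! ### the case of two closed immersions -/

section TwoClosed

variable [IsClosedImmersion ξ]

section
variable {ι ξ}

omit [IsClosedImmersion ι] in
lemma GoodPair.q_surjective (k : GoodPair ι ξ) : Function.Surjective k.q.hom := by
  have h1 := ξ.app_surjective k.W k.hW
  intro s
  obtain ⟨g, hg⟩ := h1 ((Z.presheaf.map (eqToHom k.h.symm).op).hom s)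
  refine ⟨g, ?_⟩
  show (Z.presheaf.map (homOfLE k.le_ξ).op).hom ((ξ.app k.W).hom g) = s
  rw [show (ξ.app k.W).hom g = (Z.presheaf.map (eqToHom k.h.symm).op).hom s from hg,
    ← CommRingCat.comp_apply, ← Functor.map_comp]
  have : (eqToHom k.h.symm).op ≫ (homOfLE k.le_ξ).op = 𝟙 (op k.ZV) := Subsingleton.elim _ _
  rw [this, CategoryTheory.Functor.map_id]
  rfl

lemma GoodPair.π₂_surjective (k : GoodPair ι ξ) : Function.Surjective k.π₂.hom := by
  intro a
  obtain ⟨b, hb⟩ := k.q_surjective (k.p.hom a)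
  exact ⟨k.mkR a b hb.symm, rfl⟩

instance GoodPair.isClosedImmersion_aC (k : GoodPair ι ξ) : IsClosedImmersion k.aC := by
  haveI : IsClosedImmersion (Spec.map k.π₂) :=
    IsClosedImmersion.spec_of_surjective k.π₂ k.π₂_surjective
  unfold GoodPair.aC
  infer_instance

end

instance : IsClosedImmersion (inl ι ξ H) :=
  inl_of_isZariskiLocalAtTarget ι ξ H @IsClosedImmersion (fun _ => inferInstance)

end TwoClosed

end Groth.Agent.Helper8.Push
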