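import Mathlib
import Groth.Agent.Helper8.PushF

/-!
# Pushouts of schemes, part G: two closed immersions

For closed immersions `i : Z ⟶ X`, `j : Z ⟶ Y` good pairs cover `Y`; hence the pushout exists, the
square is cartesian and both maps into the pushout are closed immersions.
-/

set_option autoImplicit false
universe u

open CategoryTheory CategoryTheory.Limits AlgebraicGeometry Opposite TopologicalSpace

namespace Groth.Agent.Helper8.Push

theorem goodPairs_of_closedImmersions {X Y Z : Scheme.{u}} (i : Z ⟶ X) (j : Z ⟶ Y)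
    [IsClosedImmersion i] [IsClosedImmersion j] :
    ∀ y : Y, ∃ k : GoodPair i j, y ∈ k.W := by
  intro y
  by_cases hy : y ∈ Set.range j
  · obtain ⟨z, rfl⟩ := hy
    obtain ⟨V, hV, hzV, -⟩ := Opens.isBasis_iff_nbhd.mp X.isBasis_affineOpens
      (U := ⊤) (x := i z) trivial
    obtain ⟨W, hW, hzW, -⟩ := Opens.isBasis_iff_nbhd.mp Y.isBasis_affineOpens
      (U := ⊤) (x := j z) trivial
    have hZV : IsAffineOpen (i ⁻¹ᵁ V) := hV.preimage i
    have hZW : IsAffineOpen (j ⁻¹ᵁ W) := hW.preimage j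
    -- step A
    obtain ⟨s, hs1, hs2⟩ := hZV.exists_basicOpen_le (V := j ⁻¹ᵁ W) ⟨z, hzW⟩ hzV
    obtain ⟨f, hf⟩ := i.app_surjective V hV s
    have hV₁ : IsAffineOpen (X.basicOpen f) := hV.basicOpen f
    have eV₁ : i ⁻¹ᵁ X.basicOpen f = Z.basicOpen s := by
      rw [Scheme.preimage_basicOpen, hf]
    -- step B
    have hz₁ : z ∈ i ⁻¹ᵁ X.basicOpen f := by
      rw [eV₁]
      exact hs2
    obtain ⟨s', hs'1, hs'2⟩ := hZW.exists_basicOpen_le (V := i ⁻¹ᵁ X.basicOpen f) ⟨z, hz₁⟩ hzW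
    obtain ⟨g, hg⟩ := j.app_surjective W hW s'
    have eW₁ : j ⁻¹ᵁ Y.basicOpen g = Z.basicOpen s' := by
      rw [Scheme.preimage_basicOpen, hg]
    -- step C
    have hle : i ⁻¹ᵁ X.basicOpen f ≤ j ⁻¹ᵁ W := eV₁.le.trans hs1
    obtain ⟨f₂, hf₂⟩ := i.app_surjective (X.basicOpen f) hV₁
      ((Z.presheaf.map (homOfLE hle).op).hom s')
    have eV₂ : i ⁻¹ᵁ X.basicOpen f₂ = Z.basicOpen s' := by
      rw [Scheme.preimage_basicOpen, hf₂]
      refine (Scheme.basicOpen_res Z s' (homOfLE hle).op).trans ?_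
      exact inf_eq_right.mpr hs'1
    refine ⟨⟨X.basicOpen f₂, Y.basicOpen g, hV₁.basicOpen f₂, hW.basicOpen g, ?_⟩, ?_⟩
    · rw [eV₂, eW₁]
    · show z ∈ j ⁻¹ᵁ Y.basicOpen g
      rw [eW₁]
      exact hs'2
  · have hopen : IsOpen (Set.range j)ᶜ := j.isClosedEmbedding.isClosed_range.isOpen_compl
    obtain ⟨W, hW, hyW, hWle⟩ := Opens.isBasis_iff_nbhd.mp Y.isBasis_affineOpens
      (U := ⟨(Set.range j)ᶜ, hopen⟩) (x := y) hy
    refine ⟨⟨⊥, W, isAffineOpen_bot X, hW, ?_⟩, hyW⟩
    ext z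
    constructor
    · intro hz
      exact absurd hz (by simp)
    · intro hz
      exact absurd ⟨z, rfl⟩ (hWle hz)

/-- the pushout of two closed immersions exists, the square is cartesian and both maps to the
pushout are closed immersions. -/
theorem exists_isPushout_of_closedImmersions {X Y Z : Scheme.{u}} (i : Z ⟶ X) (j : Z ⟶ Y)
    [IsClosedImmersion i] [IsClosedImmersion j] :
    ∃ (P : Scheme.{u}) (a : X ⟶ P) (b : Y ⟶ P), IsPushout i j a b ∧ IsPullback i j a b ∧
      IsClosedImmersion a ∧ IsClosedImmersion b :=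
  ⟨P i j, inl i j (goodPairs_of_closedImmersions i j), inr i j (goodPairs_of_closedImmersions i j),
    isPushout i j _, isPullback i j _, inferInstance, inferInstance⟩

end Groth.Agent.Helper8.Push
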