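import Mathlib
import Groth.Agent.Helper8.PushD

/-!
# Pushouts of schemes along a closed immersion, part E: the standard local hypothesis

`f : X ⟶ Y`, `t : T ⟶ Y` affine, `ξ : Z ⟶ T`, `ι : Z ⟶ X` a closed immersion over `Y`, such that every
point of `Y` has an affine open neighbourhood `U` with an affine open `V ⊆ f⁻¹ U` of `X` containing
the image of the part of `Z` over `U`.  Then good pairs cover `T`.
-/

set_option autoImplicit false
universe u

open CategoryTheory CategoryTheory.Limits AlgebraicGeometry Opposite TopologicalSpace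

namespace Groth.Agent.Helper8.Push

theorem goodPairs_of_std {X Y T Z : Scheme.{u}} (f : X ⟶ Y) (t : T ⟶ Y) (ξ : Z ⟶ T) (ι : Z ⟶ X)
    [IsAffineHom t] (hsq : ι ≫ f = ξ ≫ t)
    (hstd : ∀ y : Y, ∃ U : Y.Opens, IsAffineOpen U ∧ y ∈ U ∧ ∃ V : X.Opens, IsAffineOpen V ∧
      V ≤ f ⁻¹ᵁ U ∧ ∀ z : Z, (ξ ≫ t).base z ∈ U → ι.base z ∈ V) :
    ∀ t' : T, ∃ k : GoodPair ι ξ, t' ∈ k.W := by
  intro t'
  obtain ⟨U, hU, hyU, V, hV, hVle, hz⟩ := hstd (t t')
  refine ⟨⟨V, t ⁻¹ᵁ U, hV, hU.preimage t, ?_⟩, hyU⟩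
  ext z
  constructor
  · intro hzV
    have h1 : f (ι z) ∈ U := hVle hzV
    have h2 : (ι ≫ f) z ∈ U := by
      rw [Scheme.Hom.comp_apply]
      exact h1
    rw [hsq, Scheme.Hom.comp_apply] at h2
    exact h2
  · intro hzW
    have h1 : t (ξ z) ∈ U := hzW
    have h2 : (ξ ≫ t) z ∈ U := by
      rw [Scheme.Hom.comp_apply]
      exact h1
    exact hz z h2

end Groth.Agent.Helper8.Push
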