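import Mathlib
import Groth.Agent.Helper8.PushF
import Groth.Agent.Helper8.PushE

/-!
# Pushouts of schemes, part H: finiteness of `X ⟶ P` when `ξ` is finite; transfer to an arbitrary
pushout.
-/

set_option autoImplicit false
universe u

open CategoryTheory CategoryTheory.Limits AlgebraicGeometry Opposite TopologicalSpace

namespace Groth.Agent.Helper8.Push

variable {X T Z : Scheme.{u}} {ι : Z ⟶ X} {ξ : Z ⟶ T}

/-- `q` is finite when `ξ` is. -/
lemma GoodPair.q_finite [IsFinite ξ] (k : GoodPair ι ξ) : k.q.hom.Finite := by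
  have h1 : (ξ.app k.W).hom.Finite := IsFinite.finite_app ξ k.W k.hW
  have h2 : Function.Surjective (Z.presheaf.map (homOfLE k.le_ξ).op).hom := by
    intro s
    refine ⟨(Z.presheaf.map (eqToHom k.h.symm).op).hom s, ?_⟩
    rw [← CommRingCat.comp_apply, ← Functor.map_comp]
    have : (eqToHom k.h.symm).op ≫ (homOfLE k.le_ξ).op = 𝟙 (op k.ZV) := Subsingleton.elim _ _
    rw [this, CategoryTheory.Functor.map_id]
    rfl
  have h3 : k.q.hom = (Z.presheaf.map (homOfLE k.le_ξ).op).hom.comp (ξ.app k.W).hom := rfl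
  rw [h3]
  exact (RingHom.Finite.of_surjective _ h2).comp h1

/-- the key algebra lemma: `R = A' ×_A B ⟶ A'` is finite when `B ⟶ A` is finite and `A' ⟶ A` is
surjective. -/
lemma GoodPair.π₂_finite [IsClosedImmersion ι] (k : GoodPair ι ξ) (hq : k.q.hom.Finite) :
    k.π₂.hom.Finite := by
  letI := k.π₂.hom.toAlgebra
  letI := k.q.hom.toAlgebra
  have hfin : Module.Finite Γ(T, k.W) Γ(Z, k.ZV) := hq
  obtain ⟨s, hs⟩ := hfin.fg_top
  have hp := k.p_surjective
  choose lift hlift using hp
  classical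
  let S : Submodule k.R Γ(X, k.V) := Submodule.span k.R (insert 1 (lift '' (s : Set Γ(Z, k.ZV))))
  have hsmul : ∀ (r : k.R) (x : Γ(X, k.V)), r • x = k.π₂.hom r * x := fun r x => rfl
  have hsmul' : ∀ (b : Γ(T, k.W)) (a : Γ(Z, k.ZV)), b • a = k.q.hom b * a := fun r x => rfl
  -- kernel of p
  have hker : ∀ x : Γ(X, k.V), k.p.hom x = 0 → x ∈ S := by
    intro x hx
    have h0 : k.p.hom x = k.q.hom 0 := by rw [hx, map_zero]
    have h1 : x = (k.mkR x 0 h0) • (1 : Γ(X, k.V)) := by
      rw [hsmul, mul_one]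
      rfl
    rw [h1]
    exact S.smul_mem _ (Submodule.subset_span (Set.mem_insert _ _))
  have hmain : ∀ a ∈ Submodule.span Γ(T, k.W) (s : Set Γ(Z, k.ZV)),
      ∀ x : Γ(X, k.V), k.p.hom x = a → x ∈ S := by
    intro a ha
    induction ha using Submodule.span_induction with
    | mem a ha =>
      intro x hx
      have h1 : x = (x - lift a) + lift a := by ring
      rw [h1]
      refine S.add_mem (hker _ ?_) (Submodule.subset_span (Set.mem_insert_of_mem _ ⟨a, ha, rfl⟩))
      rw [map_sub, hx, hlift, sub_self]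
    | zero => exact fun x hx => hker x hx
    | add a₁ a₂ _ _ ih₁ ih₂ =>
      intro x hx
      have h1 : x = lift a₁ + (x - lift a₁) := by ring
      rw [h1]
      refine S.add_mem (ih₁ _ (hlift a₁)) (ih₂ _ ?_)
      rw [map_sub, hx, hlift, add_sub_cancel_left]
    | smul b a₁ _ ih =>
      intro x hx
      obtain ⟨r, hr⟩ := k.π₁_surjective b
      have h1 : x = r • lift a₁ + (x - k.π₂.hom r * lift a₁) := by
        rw [hsmul]
        ring
      rw [h1]
      refine S.add_mem (S.smul_mem _ (ih _ (hlift a₁))) (hker _ ?_)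
      rw [map_sub, hx, map_mul, hlift, k.comm_apply, hr, hsmul', sub_self]
  refine ⟨⟨(insert 1 (s.image lift) : Finset Γ(X, k.V)), ?_⟩⟩
  rw [eq_top_iff]
  intro x _
  have h2 : x ∈ S := hmain (k.p.hom x) (by rw [hs]; trivial) x rfl
  have h3 : ((insert 1 (s.image lift) : Finset Γ(X, k.V)) : Set Γ(X, k.V)) =
      insert 1 (lift '' (s : Set Γ(Z, k.ZV))) := by
    push_cast
    rfl
  rw [h3]
  exact h2

instance GoodPair.isFinite_aC [IsClosedImmersion ι] [IsFinite ξ] (k : GoodPair ι ξ) :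
    IsFinite k.aC := by
  haveI : IsFinite (Spec.map k.π₂) := (IsFinite.SpecMap_iff _).mpr (k.π₂_finite k.q_finite)
  unfold GoodPair.aC
  infer_instance

variable (ι ξ) [IsClosedImmersion ι] (H : ∀ t : T, ∃ k : GoodPair ι ξ, t ∈ k.W)

instance isFinite_inl [IsFinite ξ] : IsFinite (inl ι ξ H) :=
  inl_of_isZariskiLocalAtTarget ι ξ H @IsFinite (fun _ => inferInstance)

include H in
/-- transfer to an arbitrary pushout: the conclusions of Ferrand's theorem. -/
theorem of_isPushout {P' : Scheme.{u}} {a : X ⟶ P'} {b : T ⟶ P'} (hP : IsPushout ι ξ a b) :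
    IsPullback ι ξ a b ∧ IsClosedImmersion b ∧ ([IsFinite ξ] → IsFinite a) ∧
      ([IsClosedImmersion ξ] → IsClosedImmersion a) := by
  let e : P ι ξ ≅ P' := (isPushout ι ξ H).isoIsPushout _ _ hP
  have ha : inl ι ξ H ≫ e.hom = a := IsPushout.inl_isoIsPushout_hom _ _ (isPushout ι ξ H) hP
  have hb : inr ι ξ H ≫ e.hom = b := IsPushout.inr_isoIsPushout_hom _ _ (isPushout ι ξ H) hP
  refine ⟨?_, ?_, ?_, ?_⟩
  · exact (isPullback ι ξ H).of_iso (Iso.refl _) (Iso.refl _) (Iso.refl _) e (by simp) (by simp)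
      (by simp [ha]) (by simp [hb])
  · rw [← hb]
    infer_instance
  · intro _
    rw [← ha]
    infer_instance
  · intro _
    rw [← ha]
    infer_instance

end Groth.Agent.Helper8.Push
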