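import Mathlib
import Groth.Agent.Helper8.PushH
import Groth.Agent.Helper8.PushJ

/-!
# Pushouts of schemes, part K: closed immersion + integral morphism

`i : Z ⟶ X` closed immersion, `j : Z ⟶ Y` integral, every fibre of `j` inside the preimage of an
affine open of `X`.  Then good pairs cover `Y`; moreover `X ⟶ P` is integral.
-/

set_option autoImplicit false
universe u

open CategoryTheory CategoryTheory.Limits AlgebraicGeometry Opposite TopologicalSpace

namespace Groth.Agent.Helper8.Push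

theorem goodPairs_of_haff {X Y Z : Scheme.{u}} (i : Z ⟶ X) (j : Z ⟶ Y) [IsClosedImmersion i]
    [IsIntegralHom j]
    (haff : ∀ y : Y, ∃ U : X.Opens, IsAffineOpen U ∧ j ⁻¹' {y} ⊆ i ⁻¹' (U : Set X)) :
    ∀ y : Y, ∃ k : GoodPair i j, y ∈ k.W := by
  intro y
  obtain ⟨U, hU, hFU⟩ := haff y
  have hjc : IsClosedMap j := j.isClosedMap
  -- Step 1
  have hC : IsClosed (j '' ((i ⁻¹ᵁ U : Set Z)ᶜ)) := hjc _ (i ⁻¹ᵁ U).isOpen.isClosed_compl
  have hyC : y ∉ j '' ((i ⁻¹ᵁ U : Set Z)ᶜ) := by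
    rintro ⟨z, hz, rfl⟩
    exact hz (hFU rfl)
  obtain ⟨W, hW, hyW, hWle⟩ := Opens.isBasis_iff_nbhd.mp Y.isBasis_affineOpens
    (U := ⟨(j '' ((i ⁻¹ᵁ U : Set Z)ᶜ))ᶜ, hC.isOpen_compl⟩) (x := y) hyC
  have hle : j ⁻¹ᵁ W ≤ i ⁻¹ᵁ U := by
    intro z hz
    by_contra hzU
    exact hWle hz ⟨z, hzU, rfl⟩
  have hZU : IsAffineOpen (i ⁻¹ᵁ U) := hU.preimage i
  have hZW : IsAffineOpen (j ⁻¹ᵁ W) := hW.preimage j
  -- Step 2
  obtain ⟨a, ha1, ha2⟩ := exists_basicOpen_fibre hZW hZU hle (j.app W)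
    (IsIntegralHom.isIntegral_app j W hW) (hW.primeIdealOf ⟨y, hyW⟩)
  have hF : j ⁻¹' {y} ⊆ (Z.basicOpen a : Set Z) := by
    intro z hz
    apply ha2
    have hzy : j z = y := hz
    have hzW : z ∈ j ⁻¹ᵁ W := by
      show j z ∈ W
      rw [hzy]
      exact hyW
    refine ⟨hzW, ?_⟩
    have h := IsAffineOpen.comap_primeIdealOf_appLE (f := j) W hW (j ⁻¹ᵁ W) hZW le_rfl hzW
    rw [Scheme.Hom.appLE_eq_app] at h
    rw [h]
    congr 1
    exact Subtype.ext hzy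
  -- Step 3
  obtain ⟨f, hf⟩ := i.app_surjective U hU a
  have hU₁ : IsAffineOpen (X.basicOpen f) := hU.basicOpen f
  have eU₁ : i ⁻¹ᵁ X.basicOpen f = Z.basicOpen a := by
    rw [Scheme.preimage_basicOpen, hf]
  -- Step 4
  have hC' : IsClosed (j '' ((Z.basicOpen a : Set Z)ᶜ)) :=
    hjc _ (Z.basicOpen a).isOpen.isClosed_compl
  have hyC' : y ∉ j '' ((Z.basicOpen a : Set Z)ᶜ) := by
    rintro ⟨z, hz, rfl⟩
    exact hz (hF rfl)
  obtain ⟨g, hg1, hg2⟩ := hW.exists_basicOpen_le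
    (V := ⟨(j '' ((Z.basicOpen a : Set Z)ᶜ))ᶜ, hC'.isOpen_compl⟩) ⟨y, hyC'⟩ hyW
  have hle2 : j ⁻¹ᵁ Y.basicOpen g ≤ Z.basicOpen a := by
    intro z hz
    by_contra hza
    exact hg1 hz ⟨z, hza, rfl⟩
  -- Step 5
  have hle3 : i ⁻¹ᵁ X.basicOpen f ≤ j ⁻¹ᵁ W := eU₁.le.trans ha1
  obtain ⟨f', hf'⟩ := i.app_surjective (X.basicOpen f) hU₁
    ((Z.presheaf.map (homOfLE hle3).op).hom ((j.app W).hom g))
  have eV : i ⁻¹ᵁ X.basicOpen f' = j ⁻¹ᵁ Y.basicOpen g := by
    rw [Scheme.preimage_basicOpen, hf']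
    refine (Scheme.basicOpen_res Z _ (homOfLE hle3).op).trans ?_
    rw [← Scheme.preimage_basicOpen, eU₁]
    exact inf_eq_right.mpr hle2
  exact ⟨⟨X.basicOpen f', Y.basicOpen g, hU₁.basicOpen f', hW.basicOpen g, eV⟩, hg2⟩

section Integral

variable {X T Z : Scheme.{u}} {ι : Z ⟶ X} {ξ : Z ⟶ T}

lemma GoodPair.q_integral [IsIntegralHom ξ] (k : GoodPair ι ξ) : k.q.hom.IsIntegral := by
  have h1 : (ξ.app k.W).hom.IsIntegral := IsIntegralHom.isIntegral_app ξ k.W k.hW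
  have h2 : Function.Surjective (Z.presheaf.map (homOfLE k.le_ξ).op).hom := by
    intro s
    refine ⟨(Z.presheaf.map (eqToHom k.h.symm).op).hom s, ?_⟩
    rw [← CommRingCat.comp_apply, ← Functor.map_comp]
    have : (eqToHom k.h.symm).op ≫ (homOfLE k.le_ξ).op = 𝟙 (op k.ZV) := Subsingleton.elim _ _
    rw [this, CategoryTheory.Functor.map_id]
    rfl
  have h3 : k.q.hom = (Z.presheaf.map (homOfLE k.le_ξ).op).hom.comp (ξ.app k.W).hom := rfl
  rw [h3]
  exact RingHom.IsIntegral.trans _ _ h1 (RingHom.isIntegral_of_surjective _ h2)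

lemma GoodPair.π₂_integral [IsClosedImmersion ι] (k : GoodPair ι ξ) (hq : k.q.hom.IsIntegral) :
    k.π₂.hom.IsIntegral := by
  intro x
  rcases subsingleton_or_nontrivial k.R with hs | hn
  · refine ⟨1, Polynomial.monic_one, ?_⟩
    rw [Polynomial.eval₂_one, ← map_one k.π₂.hom, Subsingleton.elim (1 : k.R) 0, map_zero]
  obtain ⟨P, hP, hPx⟩ := hq (k.p.hom x)
  obtain ⟨P', hP'map, -, hP'monic⟩ := Polynomial.lifts_and_natDegree_eq_and_monic
    ((Polynomial.mem_lifts P).mpr (Polynomial.map_surjective k.π₁.hom k.π₁_surjective P)) hP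
  have hpy : k.p.hom (Polynomial.eval₂ k.π₂.hom x P') = 0 := by
    rw [Polynomial.hom_eval₂]
    have hc : k.p.hom.comp k.π₂.hom = k.q.hom.comp k.π₁.hom := by
      ext r
      exact k.comm_apply r
    rw [hc, ← Polynomial.eval₂_map, hP'map]
    exact hPx
  have h0 : k.p.hom (x * Polynomial.eval₂ k.π₂.hom x P') = k.q.hom 0 := by
    rw [map_mul, hpy, mul_zero, map_zero]
  refine ⟨Polynomial.X * P' - Polynomial.C (k.mkR _ 0 h0), ?_, ?_⟩
  · have hd : (0 : WithBot ℕ) ≤ P'.degree := Polynomial.zero_le_degree_iff.mpr hP'monic.ne_zero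
    have hlt : (Polynomial.C (k.mkR _ 0 h0)).degree < (Polynomial.X * P').degree := by
      rw [hP'monic.degree_mul, Polynomial.degree_X]
      refine lt_of_le_of_lt Polynomial.degree_C_le ?_
      calc (0 : WithBot ℕ) < 1 := by norm_num
        _ = 1 + 0 := by simp
        _ ≤ 1 + P'.degree := by gcongr
    exact (Polynomial.monic_X.mul hP'monic).sub_of_left hlt
  · rw [Polynomial.eval₂_sub, Polynomial.eval₂_mul, Polynomial.eval₂_X, Polynomial.eval₂_C]
    exact sub_self _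

instance GoodPair.isIntegralHom_aC [IsClosedImmersion ι] [IsIntegralHom ξ] (k : GoodPair ι ξ) :
    IsIntegralHom k.aC := by
  haveI : IsIntegralHom (Spec.map k.π₂) :=
    IsIntegralHom.SpecMap_iff.mpr (k.π₂_integral k.q_integral)
  unfold GoodPair.aC
  infer_instance

variable (ι ξ) [IsClosedImmersion ι] (H : ∀ t : T, ∃ k : GoodPair ι ξ, t ∈ k.W)

instance isIntegralHom_inl [IsIntegralHom ξ] : IsIntegralHom (inl ι ξ H) :=
  inl_of_isZariskiLocalAtTarget ι ξ H @IsIntegralHom (fun _ => inferInstance)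

include H in
theorem isIntegralHom_of_isPushout [IsIntegralHom ξ] {P' : Scheme.{u}} {a : X ⟶ P'} {b : T ⟶ P'}
    (hP : IsPushout ι ξ a b) : IsIntegralHom a := by
  have ha : inl ι ξ H ≫ ((isPushout ι ξ H).isoIsPushout _ _ hP).hom = a :=
    IsPushout.inl_isoIsPushout_hom _ _ (isPushout ι ξ H) hP
  rw [← ha]
  infer_instance

end Integral

theorem exists_isPushout_of_haff {X Y Z : Scheme.{u}} (i : Z ⟶ X) (j : Z ⟶ Y) [IsClosedImmersion i]
    [IsIntegralHom j]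
    (haff : ∀ y : Y, ∃ U : X.Opens, IsAffineOpen U ∧ j ⁻¹' {y} ⊆ i ⁻¹' (U : Set X)) :
    ∃ (P : Scheme.{u}) (a : X ⟶ P) (b : Y ⟶ P), IsPushout i j a b ∧ IsPullback i j a b ∧
      IsIntegralHom a ∧ IsClosedImmersion b := by
  have H := goodPairs_of_haff i j haff
  exact ⟨P i j, inl i j H, inr i j H, isPushout i j H, isPullback i j H, inferInstance,
    inferInstance⟩

end Groth.Agent.Helper8.Push
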