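import Mathlib
import Groth.Agent.Helper8.PushK

/-!
# Pushouts of schemes, part L: charts form a basis; finite type over a locally Noetherian base
-/

set_option autoImplicit false
universe u

open CategoryTheory CategoryTheory.Limits AlgebraicGeometry Opposite TopologicalSpace

namespace Groth.Agent.Helper8.Push

/-- Artin–Tate for a fibre product of rings. -/
theorem finiteType_of_fibreProduct {Λ R A' B : Type*} [CommRing Λ] [CommRing R] [CommRing A']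
    [CommRing B] [IsNoetherianRing Λ] (φ : Λ →+* R) (π₂ : R →+* A') (π₁ : R →+* B)
    (hinj : ∀ r s : R, π₁ r = π₁ s → π₂ r = π₂ s → r = s)
    (h₂ : (π₂.comp φ).FiniteType) (h₁ : (π₁.comp φ).FiniteType)
    (hf₂ : π₂.Finite) (hf₁ : π₁.Finite) : φ.FiniteType := by
  letI := φ.toAlgebra
  letI := π₂.toAlgebra
  letI := π₁.toAlgebra
  letI := (π₂.comp φ).toAlgebra
  letI := (π₁.comp φ).toAlgebra
  haveI : Algebra.FiniteType Λ A' := h₂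
  haveI : Algebra.FiniteType Λ B := h₁
  haveI : Module.Finite R A' := hf₂
  haveI : Module.Finite R B := hf₁
  haveI : IsScalarTower Λ R (A' × B) := IsScalarTower.of_algebraMap_eq (fun x => rfl)
  have hinj' : Function.Injective (algebraMap R (A' × B)) := by
    intro r s hrs
    have e1 : π₂ r = π₂ s := congrArg Prod.fst hrs
    have e2 : π₁ r = π₁ s := congrArg Prod.snd hrs
    exact hinj r s e2 e1
  exact ⟨fg_of_fg_of_fg Λ R (A' × B) Algebra.FiniteType.out Module.Finite.fg_top hinj'⟩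

section Basis

variable {X T Z : Scheme.{u}} (ι : Z ⟶ X) (ξ : Z ⟶ T) [IsClosedImmersion ι]
  (H : ∀ t : T, ∃ k : GoodPair ι ξ, t ∈ k.W)

/-- `X` and `T` jointly cover the pushout. -/
lemma P_cover (p : P ι ξ) : (∃ x : X, inl ι ξ H x = p) ∨ (∃ t : T, inr ι ξ H t = p) := by
  obtain ⟨k, s, hs⟩ := (coverP ι ξ).exists_eq p
  revert s
  revert k
  intro (k : GoodPair ι ξ) (s : Spec k.R) (hs : chart ι ξ k s = p)
  rcases k.chart_surj s with ⟨x, rfl⟩ | ⟨t, rfl⟩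
  · left
    exact ⟨x.1, by rw [inl_apply ι ξ H k x.1 x.2]; exact hs⟩
  · right
    exact ⟨t.1, by rw [inr_apply ι ξ H k t.1 t.2]; exact hs⟩

lemma chart_opensRange_le (k : GoodPair ι ξ) (O : (P ι ξ).Opens)
    (h1 : k.V ≤ inl ι ξ H ⁻¹ᵁ O) (h2 : k.W ≤ inr ι ξ H ⁻¹ᵁ O) :
    (chart ι ξ k).opensRange ≤ O := by
  rintro _ ⟨s, rfl⟩
  rcases GoodPair.chart_surj' k s with ⟨x, hx, rfl⟩ | ⟨t, ht, rfl⟩
  · rw [← inl_apply ι ξ H k x hx]
    exact h1 hx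
  · rw [← inr_apply ι ξ H k t ht]
    exact h2 ht

theorem exists_chart_le_inr (O : (P ι ξ).Opens) (t : T) (ht : inr ι ξ H t ∈ O) :
    ∃ k : GoodPair ι ξ, t ∈ k.W ∧ k.V ≤ inl ι ξ H ⁻¹ᵁ O ∧ k.W ≤ inr ι ξ H ⁻¹ᵁ O := by
  obtain ⟨k₀, ht₀⟩ := H t
  obtain ⟨g, hgle, hgt⟩ := k₀.hW.exists_basicOpen_le (V := inr ι ξ H ⁻¹ᵁ O) ⟨t, ht⟩ ht₀
  obtain ⟨f, hf⟩ := k₀.p_surjective (k₀.q.hom g)
  set k₁ := k₀.refine (k₀.mkR f g hf) with hk₁
  have hW₁ : k₁.W ≤ inr ι ξ H ⁻¹ᵁ O := hgle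
  have hO : k₁.ZV ≤ ι ⁻¹ᵁ (inl ι ξ H ⁻¹ᵁ O) := by
    intro z hz
    have h1 : ξ z ∈ k₁.W := k₁.le_ξ hz
    have h2 : inr ι ξ H (ξ z) ∈ O := hW₁ h1
    show inl ι ξ H (ι z) ∈ O
    rw [← Scheme.Hom.comp_apply, inl_inr_w, Scheme.Hom.comp_apply]
    exact h2
  obtain ⟨r₂, hr₂V, hr₂W⟩ := GoodPair.exists_shrinkV k₁ (inl ι ξ H ⁻¹ᵁ O) hO
  exact ⟨k₁.refine r₂, hr₂W.ge hgt, hr₂V, hr₂W.le.trans hW₁⟩

/-- the charts form a basis of the topology of the pushout. -/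
theorem exists_chart_le (O : (P ι ξ).Opens) (π : P ι ξ) (hπ : π ∈ O) :
    ∃ k : GoodPair ι ξ, π ∈ (chart ι ξ k).opensRange ∧ k.V ≤ inl ι ξ H ⁻¹ᵁ O ∧
      k.W ≤ inr ι ξ H ⁻¹ᵁ O := by
  rcases P_cover ι ξ H π with ⟨x, rfl⟩ | ⟨t, rfl⟩
  · by_cases hx : x ∈ Set.range ι
    · obtain ⟨z, rfl⟩ := hx
      have e : inl ι ξ H (ι z) = inr ι ξ H (ξ z) := by
        rw [← Scheme.Hom.comp_apply, inl_inr_w, Scheme.Hom.comp_apply]
      rw [e] at hπ ⊢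
      obtain ⟨k, hk, h1, h2⟩ := exists_chart_le_inr ι ξ H O (ξ z) hπ
      exact ⟨k, by rw [inr_apply ι ξ H k _ hk]; exact ⟨_, rfl⟩, h1, h2⟩
    · obtain ⟨k₀, hx₀⟩ := exists_mem_V ι ξ H x
      obtain ⟨α, hαle, hαx⟩ := k₀.hV.exists_basicOpen_le (V := inl ι ξ H ⁻¹ᵁ O) ⟨x, hπ⟩ hx₀
      obtain ⟨β, hβ0, hβx⟩ := GoodPair.exists_ker_basicOpen k₀ x hx₀ hx
      have hr₁ : k₀.p.hom (α * β) = k₀.q.hom 0 := by rw [map_mul, hβ0, mul_zero, map_zero]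
      set k₁ := k₀.refine (k₀.mkR (α * β) 0 hr₁) with hk₁
      have hV₁ : k₁.V = X.basicOpen α ⊓ X.basicOpen β := Scheme.basicOpen_mul X α β
      have hW₁ : k₁.W = ⊥ := Scheme.basicOpen_zero T _
      have hx₁ : x ∈ k₁.V := hV₁.ge ⟨hαx, hβx⟩
      refine ⟨k₁, ?_, hV₁.le.trans (inf_le_left.trans hαle), hW₁.le.trans bot_le⟩
      rw [inl_apply ι ξ H k₁ x hx₁]
      exact ⟨_, rfl⟩
  · obtain ⟨k, hk, h1, h2⟩ := exists_chart_le_inr ι ξ H O t hπ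
    exact ⟨k, by rw [inr_apply ι ξ H k _ hk]; exact ⟨_, rfl⟩, h1, h2⟩

end Basis

section FiniteType

/-- a ring map `φ ≫ ψ` is of finite type if the corresponding morphism of schemes is, up to
isomorphisms and an open immersion at the target. -/
lemma finiteType_comp_of_loft {Λ R C : CommRingCat.{u}} {U S₀ S : Scheme.{u}} (ψ : R ⟶ C)
    (e : U ≅ Spec C) (m : U ⟶ Spec R) (hψ : Spec.map ψ = e.inv ≫ m)
    (g : Spec R ⟶ S₀) (j₀ : S₀ ⟶ S) (e' : S₀ ≅ Spec Λ) (φ : Λ ⟶ R)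
    (hφ : Spec.map φ = g ≫ e'.hom) (h : LocallyOfFiniteType (m ≫ g ≫ j₀)) :
    (φ ≫ ψ).hom.FiniteType := by
  haveI : LocallyOfFiniteType ((m ≫ g) ≫ j₀) := by
    rw [Category.assoc]
    exact h
  haveI : LocallyOfFiniteType (m ≫ g) := locallyOfFiniteType_of_comp (m ≫ g) j₀
  have h1 : Spec.map (φ ≫ ψ) = e.inv ≫ (m ≫ g) ≫ e'.hom := by
    rw [Spec.map_comp, hψ, hφ]
    simp only [Category.assoc]
  have h2 : LocallyOfFiniteType (Spec.map (φ ≫ ψ)) := by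
    rw [h1]
    infer_instance
  exact (HasRingHomProperty.Spec_iff (P := @LocallyOfFiniteType)).mp h2

variable {X T Z : Scheme.{u}} (ι : Z ⟶ X) (ξ : Z ⟶ T) [IsClosedImmersion ι]
  (H : ∀ t : T, ∃ k : GoodPair ι ξ, t ∈ k.W) {S : Scheme.{u}} (r : P ι ξ ⟶ S)

theorem locallyOfFiniteType_chart_comp [IsLocallyNoetherian S] [IsIntegralHom ξ]
    [LocallyOfFiniteType (inl ι ξ H ≫ r)] [LocallyOfFiniteType (inr ι ξ H ≫ r)]
    [LocallyOfFiniteType (ξ ≫ inr ι ξ H ≫ r)] (k : GoodPair ι ξ) (S₀ : S.Opens)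
    (hS₀ : IsAffineOpen S₀) (h1 : k.V ≤ inl ι ξ H ⁻¹ᵁ (r ⁻¹ᵁ S₀))
    (h2 : k.W ≤ inr ι ξ H ⁻¹ᵁ (r ⁻¹ᵁ S₀)) :
    LocallyOfFiniteType (chart ι ξ k ≫ r) := by
  have hrange : Set.range (chart ι ξ k ≫ r) ⊆ Set.range S₀.ι := by
    rintro _ ⟨s, rfl⟩
    rw [Scheme.Opens.range_ι]
    have h3 : chart ι ξ k s ∈ r ⁻¹ᵁ S₀ :=
      chart_opensRange_le ι ξ H k (r ⁻¹ᵁ S₀) h1 h2 ⟨s, rfl⟩
    rw [Scheme.Hom.comp_apply]
    exact h3
  let g : Spec k.R ⟶ S₀ := IsOpenImmersion.lift S₀.ι (chart ι ξ k ≫ r) hrange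
  have hg : g ≫ S₀.ι = chart ι ξ k ≫ r := IsOpenImmersion.lift_fac _ _ _
  let φ : Γ(S, S₀) ⟶ k.R := Spec.preimage (g ≫ hS₀.isoSpec.hom)
  have hφ : Spec.map φ = g ≫ hS₀.isoSpec.hom := Spec.map_preimage _
  haveI hΛ : IsNoetherianRing Γ(S, S₀) := IsLocallyNoetherian.component_noetherian ⟨S₀, hS₀⟩
  -- the three finite type statements
  have e₂ : Spec.map k.π₂ = k.hV.isoSpec.inv ≫ k.aC := by
    unfold GoodPair.aC
    rw [Iso.inv_hom_id_assoc]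
  have e₁ : Spec.map k.π₁ = k.hW.isoSpec.inv ≫ k.bC := by
    unfold GoodPair.bC
    rw [Iso.inv_hom_id_assoc]
  have e₃ : Spec.map (k.π₁ ≫ k.q) = k.isAffineOpen_ZV.isoSpec.inv ≫ (k.ξk ≫ k.bC) := by
    unfold GoodPair.bC
    rw [Spec.map_comp, ← Category.assoc k.ξk, k.ξk_isoSpec, Category.assoc,
      Iso.inv_hom_id_assoc]
  have l₂ : LocallyOfFiniteType (k.aC ≫ g ≫ S₀.ι) := by
    rw [hg, ← Category.assoc, ← ι_inl ι ξ H k, Category.assoc]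
    infer_instance
  have l₁ : LocallyOfFiniteType (k.bC ≫ g ≫ S₀.ι) := by
    rw [hg, ← Category.assoc, ← ι_inr ι ξ H k, Category.assoc]
    infer_instance
  have l₃ : LocallyOfFiniteType ((k.ξk ≫ k.bC) ≫ g ≫ S₀.ι) := by
    rw [hg, Category.assoc, ← Category.assoc k.bC, ← ι_inr ι ξ H k, Category.assoc,
      ← Category.assoc k.ξk, k.ξk_ι, Category.assoc]
    infer_instance
  have f₂ : (φ ≫ k.π₂).hom.FiniteType :=
    finiteType_comp_of_loft k.π₂ k.hV.isoSpec k.aC e₂ g S₀.ι hS₀.isoSpec φ hφ l₂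
  have f₁ : (φ ≫ k.π₁).hom.FiniteType :=
    finiteType_comp_of_loft k.π₁ k.hW.isoSpec k.bC e₁ g S₀.ι hS₀.isoSpec φ hφ l₁
  have f₃ : (φ ≫ k.π₁ ≫ k.q).hom.FiniteType :=
    finiteType_comp_of_loft (k.π₁ ≫ k.q) k.isAffineOpen_ZV.isoSpec (k.ξk ≫ k.bC) e₃ g S₀.ι
      hS₀.isoSpec φ hφ l₃
  have hqft : k.q.hom.FiniteType := by
    have h4 : (φ ≫ k.π₁ ≫ k.q).hom = k.q.hom.comp (φ ≫ k.π₁).hom := rfl
    rw [h4] at f₃
    exact RingHom.FiniteType.of_comp_finiteType f₃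
  have hqf : k.q.hom.Finite := RingHom.IsIntegral.to_finite k.q_integral hqft
  have key : φ.hom.FiniteType :=
    finiteType_of_fibreProduct φ.hom k.π₂.hom k.π₁.hom (fun r s h1 h2 => k.R_ext h1 h2) f₂ f₁
      (k.π₂_finite hqf) (RingHom.Finite.of_surjective _ k.π₁_surjective)
  haveI : LocallyOfFiniteType (Spec.map φ) :=
    (HasRingHomProperty.Spec_iff (P := @LocallyOfFiniteType)).mpr key
  have e₄ : chart ι ξ k ≫ r = Spec.map φ ≫ hS₀.isoSpec.inv ≫ S₀.ι := by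
    rw [hφ, Category.assoc, Iso.hom_inv_id_assoc, hg]
  rw [e₄]
  infer_instance

theorem locallyOfFiniteType_desc [IsLocallyNoetherian S] [IsIntegralHom ξ]
    [LocallyOfFiniteType (inl ι ξ H ≫ r)] [LocallyOfFiniteType (inr ι ξ H ≫ r)]
    [LocallyOfFiniteType (ξ ≫ inr ι ξ H ≫ r)] : LocallyOfFiniteType r := by
  refine IsZariskiLocalAtSource.of_iSup_eq_top (P := @LocallyOfFiniteType)
    (fun k : {k : GoodPair ι ξ // ∃ S₀ : S.Opens, IsAffineOpen S₀ ∧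
      k.V ≤ inl ι ξ H ⁻¹ᵁ (r ⁻¹ᵁ S₀) ∧ k.W ≤ inr ι ξ H ⁻¹ᵁ (r ⁻¹ᵁ S₀)} =>
      (chart ι ξ k.1).opensRange) ?_ ?_
  · rw [eq_top_iff]
    intro π _
    obtain ⟨S₀, hS₀, hπS₀, -⟩ := Opens.isBasis_iff_nbhd.mp S.isBasis_affineOpens
      (U := ⊤) (x := r π) trivial
    obtain ⟨k, hk, h1, h2⟩ := exists_chart_le ι ξ H (r ⁻¹ᵁ S₀) π hπS₀
    exact Opens.mem_iSup.mpr ⟨⟨k, S₀, hS₀, h1, h2⟩, hk⟩
  · rintro ⟨k, S₀, hS₀, h1, h2⟩
    haveI := locallyOfFiniteType_chart_comp ι ξ H r k S₀ hS₀ h1 h2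
    show LocallyOfFiniteType ((chart ι ξ k).opensRange.ι ≫ r)
    rw [← Scheme.Hom.isoOpensRange_inv_comp (chart ι ξ k), Category.assoc]
    infer_instance

include H in
/-- finite type for an arbitrary pushout. -/
theorem locallyOfFiniteType_of_isPushout [IsLocallyNoetherian S] [IsIntegralHom ξ]
    {P' : Scheme.{u}} {a : X ⟶ P'} {b : T ⟶ P'} (hP : IsPushout ι ξ a b) (r' : P' ⟶ S)
    [LocallyOfFiniteType (a ≫ r')] [LocallyOfFiniteType (b ≫ r')]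
    [LocallyOfFiniteType (ξ ≫ b ≫ r')] : LocallyOfFiniteType r' := by
  let e : P ι ξ ≅ P' := (isPushout ι ξ H).isoIsPushout _ _ hP
  have ha : inl ι ξ H ≫ e.hom = a := IsPushout.inl_isoIsPushout_hom _ _ (isPushout ι ξ H) hP
  have hb : inr ι ξ H ≫ e.hom = b := IsPushout.inr_isoIsPushout_hom _ _ (isPushout ι ξ H) hP
  haveI : LocallyOfFiniteType (inl ι ξ H ≫ e.hom ≫ r') := by
    rw [← Category.assoc, ha]
    infer_instance
  haveI : LocallyOfFiniteType (inr ι ξ H ≫ e.hom ≫ r') := by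
    rw [← Category.assoc, hb]
    infer_instance
  haveI : LocallyOfFiniteType (ξ ≫ inr ι ξ H ≫ e.hom ≫ r') := by
    rw [← Category.assoc (inr ι ξ H), hb]
    infer_instance
  haveI := locallyOfFiniteType_desc ι ξ H (e.hom ≫ r')
  have h : r' = e.inv ≫ e.hom ≫ r' := by rw [Iso.inv_hom_id_assoc]
  rw [h]
  infer_instance

end FiniteType

end Groth.Agent.Helper8.Push
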