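import Mathlib
import Groth.Agent.Helper8.PushL

/-!
# Pushouts of schemes, part M: separatedness, universal closedness, quasi-compactness

General lemmas for a scheme `P'` covered by the images of two morphisms `a : X ⟶ P'`, `b : T ⟶ P'`,
then the application to pushouts.
-/

set_option autoImplicit false
universe u

open CategoryTheory CategoryTheory.Limits AlgebraicGeometry Opposite TopologicalSpace

namespace Groth.Agent.Helper8.Push

section General

variable {X T P' S : Scheme.{u}}

lemma comp_diagonal_eq (a : X ⟶ P') (r : P' ⟶ S) :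
    a ≫ pullback.diagonal r = pullback.diagonal (a ≫ r) ≫
      pullback.map (a ≫ r) (a ≫ r) r r a a (𝟙 S) ((Category.comp_id _).trans rfl)
        ((Category.comp_id _).trans rfl) := by
  apply pullback.hom_ext
  · rw [Category.assoc, Category.assoc, pullback.diagonal_fst, Category.comp_id, pullback.lift_fst,
      ← Category.assoc, pullback.diagonal_fst, Category.id_comp]
  · rw [Category.assoc, Category.assoc, pullback.diagonal_snd, Category.comp_id, pullback.lift_snd,
      ← Category.assoc, pullback.diagonal_snd, Category.id_comp]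

theorem isClosed_range_comp_diagonal (a : X ⟶ P') (r : P' ⟶ S) [UniversallyClosed a]
    [IsSeparated (a ≫ r)] : IsClosed (Set.range (a ≫ pullback.diagonal r)) := by
  set m := pullback.map (a ≫ r) (a ≫ r) r r a a (𝟙 S) ((Category.comp_id _).trans rfl)
        ((Category.comp_id _).trans rfl) with hm_def
  haveI hm : UniversallyClosed m :=
    MorphismProperty.pullbackMap (P := @UniversallyClosed) (f := a ≫ r) (g := a ≫ r) (f' := r)
      (g' := r) ‹UniversallyClosed a› ‹UniversallyClosed a› rfl rfl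
  rw [comp_diagonal_eq a r]
  have h : Set.range (pullback.diagonal (a ≫ r) ≫ m) = m '' Set.range (pullback.diagonal (a ≫ r)) := by
    ext y
    constructor
    · rintro ⟨x, rfl⟩
      exact ⟨pullback.diagonal (a ≫ r) x, ⟨x, rfl⟩, (Scheme.Hom.comp_apply _ _ _).symm⟩
    · rintro ⟨_, ⟨x, rfl⟩, rfl⟩
      exact ⟨x, Scheme.Hom.comp_apply _ _ _⟩
  rw [h]
  exact m.isClosedMap _ (pullback.diagonal (a ≫ r)).isClosedEmbedding.isClosed_range

variable (a : X ⟶ P') (b : T ⟶ P') (hsurj : ∀ π : P', (∃ x, a x = π) ∨ (∃ t, b t = π))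
  (r : P' ⟶ S)

include hsurj

theorem isSeparated_of_jointly_surjective [UniversallyClosed a] [UniversallyClosed b]
    [IsSeparated (a ≫ r)] [IsSeparated (b ≫ r)] : IsSeparated r := by
  constructor
  apply IsClosedImmersion.of_isPreimmersion
  have h : Set.range (pullback.diagonal r) =
      Set.range (a ≫ pullback.diagonal r) ∪ Set.range (b ≫ pullback.diagonal r) := by
    ext y
    constructor
    · rintro ⟨π, rfl⟩
      rcases hsurj π with ⟨x, rfl⟩ | ⟨t, rfl⟩
      · left
        exact ⟨x, Scheme.Hom.comp_apply _ _ _⟩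
      · right
        exact ⟨t, Scheme.Hom.comp_apply _ _ _⟩
    · rintro (⟨x, rfl⟩ | ⟨t, rfl⟩)
      · exact ⟨a x, (Scheme.Hom.comp_apply _ _ _).symm⟩
      · exact ⟨b t, (Scheme.Hom.comp_apply _ _ _).symm⟩
  rw [h]
  exact (isClosed_range_comp_diagonal a r).union (isClosed_range_comp_diagonal b r)

theorem quasiCompact_of_jointly_surjective [QuasiCompact (a ≫ r)] [QuasiCompact (b ≫ r)] :
    QuasiCompact r := by
  constructor
  intro U hU hUc
  have h : r ⁻¹' U = a '' ((a ≫ r) ⁻¹' U) ∪ b '' ((b ≫ r) ⁻¹' U) := by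
    ext π
    constructor
    · intro hπ
      rcases hsurj π with ⟨x, rfl⟩ | ⟨t, rfl⟩
      · left
        refine ⟨x, ?_, rfl⟩
        show (a ≫ r) x ∈ U
        rw [Scheme.Hom.comp_apply]
        exact hπ
      · right
        refine ⟨t, ?_, rfl⟩
        show (b ≫ r) t ∈ U
        rw [Scheme.Hom.comp_apply]
        exact hπ
    · rintro (⟨x, hx, rfl⟩ | ⟨t, ht, rfl⟩)
      · have hx' : (a ≫ r) x ∈ U := hx
        rw [Scheme.Hom.comp_apply] at hx'
        exact hx'
      · have ht' : (b ≫ r) t ∈ U := ht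
        rw [Scheme.Hom.comp_apply] at ht'
        exact ht'
  rw [h]
  exact ((QuasiCompact.isCompact_preimage (f := a ≫ r) U hU hUc).image a.continuous).union
    ((QuasiCompact.isCompact_preimage (f := b ≫ r) U hU hUc).image b.continuous)

theorem universallyClosed_of_jointly_surjective [UniversallyClosed (a ≫ r)]
    [UniversallyClosed (b ≫ r)] : UniversallyClosed r := by
  constructor
  intro X' Y' i₁ i₂ f' Hpb
  have h₁ := UniversallyClosed.universally_isClosedMap _ _ _
    ((IsPullback.of_hasPullback i₁ a).paste_horiz Hpb)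
  have h₂ := UniversallyClosed.universally_isClosedMap _ _ _
    ((IsPullback.of_hasPullback i₁ b).paste_horiz Hpb)
  intro C hC
  have h : f' '' C = (pullback.fst i₁ a ≫ f') '' (pullback.fst i₁ a ⁻¹' C) ∪
      (pullback.fst i₁ b ≫ f') '' (pullback.fst i₁ b ⁻¹' C) := by
    ext y
    constructor
    · rintro ⟨x', hx', rfl⟩
      rcases hsurj (i₁ x') with ⟨x, hx⟩ | ⟨t, ht⟩
      · obtain ⟨w, hw1, hw2⟩ := Scheme.Pullback.exists_preimage_pullback (f := i₁) (g := a) x' x hx.symm
        left
        refine ⟨w, ?_, ?_⟩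
        · show pullback.fst i₁ a w ∈ C
          rw [hw1]
          exact hx'
        · rw [Scheme.Hom.comp_apply, hw1]
      · obtain ⟨w, hw1, hw2⟩ := Scheme.Pullback.exists_preimage_pullback (f := i₁) (g := b) x' t ht.symm
        right
        refine ⟨w, ?_, ?_⟩
        · show pullback.fst i₁ b w ∈ C
          rw [hw1]
          exact hx'
        · rw [Scheme.Hom.comp_apply, hw1]
    · rintro (⟨w, hw, rfl⟩ | ⟨w, hw, rfl⟩)
      · exact ⟨_, hw, (Scheme.Hom.comp_apply _ _ _).symm⟩
      · exact ⟨_, hw, (Scheme.Hom.comp_apply _ _ _).symm⟩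
  rw [h]
  exact (h₁ _ (hC.preimage (pullback.fst i₁ a).continuous)).union
    (h₂ _ (hC.preimage (pullback.fst i₁ b).continuous))

theorem quasiSeparated_of_jointly_surjective [QuasiCompact a] [QuasiCompact b]
    [QuasiSeparated (a ≫ r)] [QuasiSeparated (b ≫ r)] : QuasiSeparated r := by
  constructor
  have ha : QuasiCompact (a ≫ pullback.diagonal r) := by
    rw [comp_diagonal_eq a r]
    haveI : QuasiCompact (pullback.map (a ≫ r) (a ≫ r) r r a a (𝟙 S)
        ((Category.comp_id _).trans rfl) ((Category.comp_id _).trans rfl)) :=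
      MorphismProperty.pullbackMap (P := @QuasiCompact) (f := a ≫ r) (g := a ≫ r) (f' := r)
        (g' := r) ‹QuasiCompact a› ‹QuasiCompact a› rfl rfl
    infer_instance
  have hb : QuasiCompact (b ≫ pullback.diagonal r) := by
    rw [comp_diagonal_eq b r]
    haveI : QuasiCompact (pullback.map (b ≫ r) (b ≫ r) r r b b (𝟙 S)
        ((Category.comp_id _).trans rfl) ((Category.comp_id _).trans rfl)) :=
      MorphismProperty.pullbackMap (P := @QuasiCompact) (f := b ≫ r) (g := b ≫ r) (f' := r)
        (g' := r) ‹QuasiCompact b› ‹QuasiCompact b› rfl rfl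
    infer_instance
  exact quasiCompact_of_jointly_surjective a b hsurj (pullback.diagonal r)

end General

section Pushout

variable {X T Z : Scheme.{u}} (ι : Z ⟶ X) (ξ : Z ⟶ T) [IsClosedImmersion ι]
  (H : ∀ t : T, ∃ k : GoodPair ι ξ, t ∈ k.W)

include H in
/-- joint surjectivity for an arbitrary pushout. -/
theorem jointly_surjective_of_isPushout {P' : Scheme.{u}} {a : X ⟶ P'} {b : T ⟶ P'}
    (hP : IsPushout ι ξ a b) (π : P') : (∃ x, a x = π) ∨ (∃ t, b t = π) := by
  let e : P ι ξ ≅ P' := (isPushout ι ξ H).isoIsPushout _ _ hP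
  have ha : inl ι ξ H ≫ e.hom = a := IsPushout.inl_isoIsPushout_hom _ _ (isPushout ι ξ H) hP
  have hb : inr ι ξ H ≫ e.hom = b := IsPushout.inr_isoIsPushout_hom _ _ (isPushout ι ξ H) hP
  have hπ : e.hom (e.inv π) = π := by
    rw [← Scheme.Hom.comp_apply, Iso.inv_hom_id]
    rfl
  rcases P_cover ι ξ H (e.inv π) with ⟨x, hx⟩ | ⟨t, ht⟩
  · left
    refine ⟨x, ?_⟩
    rw [← ha, Scheme.Hom.comp_apply, hx, hπ]
  · right
    refine ⟨t, ?_⟩
    rw [← hb, Scheme.Hom.comp_apply, ht, hπ]

end Pushout

end Groth.Agent.Helper8.Push
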