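import Mathlib

/-!
# Pushouts of schemes, part N: being a pushout square is local on the target

`ι : Z ⟶ X`, `ξ : Z ⟶ T`, `a : X ⟶ F`, `b : T ⟶ F` a commutative square of schemes and `ℬ` a basis of
opens of `F` such that the restriction of the square over every `U ∈ ℬ` is a pushout square.  Then
the square is a pushout square.
-/

set_option autoImplicit false
universe u

open CategoryTheory CategoryTheory.Limits AlgebraicGeometry Opposite TopologicalSpace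

namespace Groth.Agent.Helper8.Push

section LC

variable {X T Z F : Scheme.{u}} (ι : Z ⟶ X) (ξ : Z ⟶ T) (a : X ⟶ F) (b : T ⟶ F)
  (w : ι ≫ a = ξ ≫ b)

include w in
lemma preimage_le (U : F.Opens) : ι ⁻¹ᵁ (a ⁻¹ᵁ U) ≤ ξ ⁻¹ᵁ (b ⁻¹ᵁ U) := by
  intro z hz
  show b (ξ z) ∈ U
  have h : a (ι z) ∈ U := hz
  rw [← Scheme.Hom.comp_apply, ← w, Scheme.Hom.comp_apply]
  exact h

/-- the restriction of the square over an open `U` of the target is a pushout square. -/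
def LocalPO (U : F.Opens) : Prop :=
  IsPushout (ι ∣_ (a ⁻¹ᵁ U)) (ξ.resLE (b ⁻¹ᵁ U) (ι ⁻¹ᵁ (a ⁻¹ᵁ U)) (preimage_le ι ξ a b w U))
    (a ∣_ U) (b ∣_ U)

lemma morphismRestrict_homOfLE {X F : Scheme.{u}} (a : X ⟶ F) {U U' : F.Opens} (h : U ≤ U') :
    (a ∣_ U) ≫ F.homOfLE h = X.homOfLE (a.preimage_mono h) ≫ (a ∣_ U') := by
  rw [← cancel_mono U'.ι, Category.assoc, Category.assoc, Scheme.homOfLE_ι, morphismRestrict_ι,
    morphismRestrict_ι, ← Category.assoc, Scheme.homOfLE_ι]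

variable (ℬ : Set F.Opens)
  (hℬ : ∀ (O : F.Opens) (π : F), π ∈ O → ∃ U ∈ ℬ, π ∈ U ∧ U ≤ O)

/-- the open cover of `F` by the members of the basis. -/
noncomputable def basisCover : F.OpenCover where
  I₀ := ℬ
  X U := U.1
  f U := U.1.ι
  mem₀ := by
    rw [Scheme.presieve₀_mem_precoverage_iff]
    refine ⟨fun π => ?_, inferInstance⟩
    obtain ⟨U, hU, hπ, -⟩ := hℬ ⊤ π trivial
    exact ⟨⟨U, hU⟩, ⟨π, hπ⟩, rfl⟩

instance : Preorder (basisCover ℬ hℬ).I₀ := inferInstanceAs (Preorder ℬ)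

noncomputable instance : (basisCover ℬ hℬ).LocallyDirected where
  trans {i j} hij := F.homOfLE (leOfHom hij)
  trans_id i := F.homOfLE_rfl _
  trans_comp hij hjk := (F.homOfLE_homOfLE _ _).symm
  w hij := F.homOfLE_ι _
  directed {i j} x := by
    let φ : pullback ((basisCover ℬ hℬ).f i) ((basisCover ℬ hℬ).f j) ⟶ F :=
      pullback.fst ((basisCover ℬ hℬ).f i) ((basisCover ℬ hℬ).f j) ≫ (basisCover ℬ hℬ).f i
    let x₀ : F := φ x
    have hi : x₀ ∈ i.1 :=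
      ((pullback.fst ((basisCover ℬ hℬ).f i) ((basisCover ℬ hℬ).f j)) x).2
    have hj : x₀ ∈ j.1 := by
      have e : x₀ = (pullback.snd ((basisCover ℬ hℬ).f i) ((basisCover ℬ hℬ).f j) ≫
          (basisCover ℬ hℬ).f j) x := by
        show φ x = _
        rw [show φ = pullback.snd ((basisCover ℬ hℬ).f i) ((basisCover ℬ hℬ).f j) ≫
          (basisCover ℬ hℬ).f j from pullback.condition]
      rw [e]
      exact ((pullback.snd ((basisCover ℬ hℬ).f i) ((basisCover ℬ hℬ).f j)) x).2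
    obtain ⟨l, hl, hx₀l, hle⟩ := hℬ (i.1 ⊓ j.1) x₀ ⟨hi, hj⟩
    refine ⟨⟨l, hl⟩, homOfLE (hle.trans inf_le_left), homOfLE (hle.trans inf_le_right),
      ⟨x₀, hx₀l⟩, ?_⟩
    apply (pullback.fst ((basisCover ℬ hℬ).f i) ((basisCover ℬ hℬ).f j) ≫
      (basisCover ℬ hℬ).f i).isOpenEmbedding.injective
    rw [← Scheme.Hom.comp_apply, pullback.lift_fst_assoc]
    show (F.homOfLE _ ≫ i.1.ι) ⟨x₀, hx₀l⟩ = x₀
    rw [Scheme.homOfLE_ι]
    rfl
  property_trans hij := by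
    show IsOpenImmersion (F.homOfLE _)
    infer_instance

variable (hloc : ∀ U ∈ ℬ, LocalPO ι ξ a b w U)
  {Q : Scheme.{u}} (u : X ⟶ Q) (v : T ⟶ Q) (huv : ι ≫ u = ξ ≫ v)

include huv in
lemma localDesc_aux (U : F.Opens) :
    (ι ∣_ (a ⁻¹ᵁ U)) ≫ (a ⁻¹ᵁ U).ι ≫ u =
      ξ.resLE (b ⁻¹ᵁ U) (ι ⁻¹ᵁ (a ⁻¹ᵁ U)) (preimage_le ι ξ a b w U) ≫ (b ⁻¹ᵁ U).ι ≫ v := by
  rw [← Category.assoc, morphismRestrict_ι, Category.assoc, huv, ← Category.assoc (ξ.resLE _ _ _),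
    Scheme.Hom.resLE_comp_ι, Category.assoc]

/-- the local descent of a pair of compatible maps. -/
noncomputable def localDesc (U : ℬ) : (U.1 : Scheme.{u}) ⟶ Q :=
  (hloc U.1 U.2).desc ((a ⁻¹ᵁ U.1).ι ≫ u) ((b ⁻¹ᵁ U.1).ι ≫ v) (localDesc_aux ι ξ a b w u v huv U.1)

lemma a_localDesc (U : ℬ) :
    (a ∣_ U.1) ≫ localDesc ι ξ a b w ℬ hloc u v huv U = (a ⁻¹ᵁ U.1).ι ≫ u :=
  (hloc U.1 U.2).inl_desc _ _ _

lemma b_localDesc (U : ℬ) :
    (b ∣_ U.1) ≫ localDesc ι ξ a b w ℬ hloc u v huv U = (b ⁻¹ᵁ U.1).ι ≫ v :=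
  (hloc U.1 U.2).inr_desc _ _ _

lemma localDesc_compat {U U' : ℬ} (h : U.1 ≤ U'.1) :
    F.homOfLE h ≫ localDesc ι ξ a b w ℬ hloc u v huv U' =
      localDesc ι ξ a b w ℬ hloc u v huv U := by
  apply (hloc U.1 U.2).hom_ext
  · rw [← Category.assoc, morphismRestrict_homOfLE a h, Category.assoc, a_localDesc, a_localDesc,
      ← Category.assoc, Scheme.homOfLE_ι]
  · rw [← Category.assoc, morphismRestrict_homOfLE b h, Category.assoc, b_localDesc, b_localDesc,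
      ← Category.assoc, Scheme.homOfLE_ι]

/-- the glued descent. -/
noncomputable def globalDesc : F ⟶ Q :=
  (basisCover ℬ hℬ).glueMorphismsOfLocallyDirected
    (fun U => localDesc ι ξ a b w ℬ hloc u v huv U)
    (fun {U U'} hij => localDesc_compat ι ξ a b w ℬ hloc u v huv (leOfHom hij))

lemma ι_globalDesc (U : ℬ) :
    U.1.ι ≫ globalDesc ι ξ a b w ℬ hℬ hloc u v huv = localDesc ι ξ a b w ℬ hloc u v huv U :=
  (basisCover ℬ hℬ).map_glueMorphismsOfLocallyDirected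
    (fun U => localDesc ι ξ a b w ℬ hloc u v huv U)
    (fun {U U'} hij => localDesc_compat ι ξ a b w ℬ hloc u v huv (leOfHom hij)) U

lemma a_globalDesc : a ≫ globalDesc ι ξ a b w ℬ hℬ hloc u v huv = u := by
  apply Scheme.hom_ext_of_forall
  intro x
  obtain ⟨U, hU, hxU, -⟩ := hℬ ⊤ (a x) trivial
  refine ⟨a ⁻¹ᵁ U, hxU, ?_⟩
  rw [← Category.assoc, ← morphismRestrict_ι, Category.assoc,
    ι_globalDesc ι ξ a b w ℬ hℬ hloc u v huv ⟨U, hU⟩]
  exact a_localDesc ι ξ a b w ℬ hloc u v huv ⟨U, hU⟩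

lemma b_globalDesc : b ≫ globalDesc ι ξ a b w ℬ hℬ hloc u v huv = v := by
  apply Scheme.hom_ext_of_forall
  intro x
  obtain ⟨U, hU, hxU, -⟩ := hℬ ⊤ (b x) trivial
  refine ⟨b ⁻¹ᵁ U, hxU, ?_⟩
  rw [← Category.assoc, ← morphismRestrict_ι, Category.assoc,
    ι_globalDesc ι ξ a b w ℬ hℬ hloc u v huv ⟨U, hU⟩]
  exact b_localDesc ι ξ a b w ℬ hloc u v huv ⟨U, hU⟩

include hℬ hloc in
lemma global_hom_ext (m m' : F ⟶ Q) (h1 : a ≫ m = a ≫ m') (h2 : b ≫ m = b ≫ m') : m = m' := by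
  apply Scheme.hom_ext_of_forall
  intro π
  obtain ⟨U, hU, hπU, -⟩ := hℬ ⊤ π trivial
  refine ⟨U, hπU, ?_⟩
  apply (hloc U hU).hom_ext
  · rw [← Category.assoc, morphismRestrict_ι, Category.assoc, h1, ← Category.assoc,
      ← Category.assoc, morphismRestrict_ι]
  · rw [← Category.assoc, morphismRestrict_ι, Category.assoc, h2, ← Category.assoc,
      ← Category.assoc, morphismRestrict_ι]

include hℬ hloc in
/-- **being a pushout square is local on the target.** -/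
theorem isPushout_of_local : IsPushout ι ξ a b := by
  refine ⟨⟨w⟩, ⟨PushoutCocone.IsColimit.mk _
    (fun s => globalDesc ι ξ a b w ℬ hℬ hloc s.inl s.inr s.condition) ?_ ?_ ?_⟩⟩
  · intro s
    exact a_globalDesc ι ξ a b w ℬ hℬ hloc s.inl s.inr s.condition
  · intro s
    exact b_globalDesc ι ξ a b w ℬ hℬ hloc s.inl s.inr s.condition
  · intro s m h1 h2
    apply global_hom_ext ι ξ a b w ℬ hℬ hloc
    · rw [h1, a_globalDesc]
    · rw [h2, b_globalDesc]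

end LC

end Groth.Agent.Helper8.Push
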