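import Mathlib

/-!
# Pushouts of schemes, part O: global sections of a pushout square form a fibre product

If `IsPushout ι ξ a b` in schemes then `Γ(P) → Γ(X) × Γ(T) ⇉ Γ(Z)` is exact (global sections are
morphisms to the affine line).
-/

set_option autoImplicit false
universe u

open CategoryTheory CategoryTheory.Limits AlgebraicGeometry Opposite TopologicalSpace

namespace Groth.Agent.Helper8.Push

/-- the coordinate ring of the affine line over the integers, in universe `u`. -/
noncomputable abbrev A1Ring : CommRingCat.{u} := CommRingCat.of (Polynomial (ULift.{u} ℤ))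

/-- the ring map from `ℤ[t]` determined by an element. -/
noncomputable def evalHom {R : CommRingCat.{u}} (x : R) : A1Ring.{u} ⟶ R :=
  CommRingCat.ofHom (Polynomial.eval₂RingHom
    ((Int.castRingHom R).comp (ULift.ringEquiv (R := ℤ)).toRingHom) x)

lemma evalHom_X {R : CommRingCat.{u}} (x : R) :
    (evalHom x).hom (Polynomial.X : Polynomial (ULift.{u} ℤ)) = x := by
  show Polynomial.eval₂ _ x Polynomial.X = x
  exact Polynomial.eval₂_X _ _

lemma ulift_int_hom_ext {S : Type*} [Semiring S] (f g : ULift.{u} ℤ →+* S) : f = g := by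
  have h : f.comp (ULift.ringEquiv (R := ℤ)).symm.toRingHom =
      g.comp (ULift.ringEquiv (R := ℤ)).symm.toRingHom := Subsingleton.elim _ _
  ext z
  have h' := congrArg (fun φ : ℤ →+* S => φ (ULift.ringEquiv z)) h
  simp only [RingHom.comp_apply, RingEquiv.toRingHom_eq_coe, RingHom.coe_coe,
    RingEquiv.symm_apply_apply] at h'
  exact h'

lemma evalHom_ext {R : CommRingCat.{u}} (φ ψ : A1Ring.{u} ⟶ R)
    (h : φ.hom (Polynomial.X : Polynomial (ULift.{u} ℤ)) = ψ.hom Polynomial.X) : φ = ψ := by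
  apply CommRingCat.hom_ext
  apply Polynomial.ringHom_ext
  · intro z
    exact congrArg (fun χ : ULift.{u} ℤ →+* R => χ z)
      (ulift_int_hom_ext (φ.hom.comp Polynomial.C) (ψ.hom.comp Polynomial.C))
  · exact h

/-- the morphism to the affine line attached to a global section. -/
noncomputable def secHom {X : Scheme.{u}} (x : Γ(X, ⊤)) : X ⟶ Spec A1Ring.{u} :=
  X.toSpecΓ ≫ Spec.map (evalHom x)

lemma comp_secHom {X Y : Scheme.{u}} (f : Y ⟶ X) (x : Γ(X, ⊤)) :
    f ≫ secHom x = secHom (f.appTop.hom x) := by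
  unfold secHom
  rw [Scheme.toSpecΓ_naturality_assoc, ← Spec.map_comp]
  congr 2
  apply evalHom_ext
  rw [CommRingCat.hom_comp, RingHom.comp_apply, evalHom_X, evalHom_X]

lemma secHom_injective {X : Scheme.{u}} (x x' : Γ(X, ⊤)) (h : secHom x = secHom x') : x = x' := by
  have h1 : ∀ y : Γ(X, ⊤), (secHom y).appTop = (Scheme.ΓSpecIso A1Ring.{u}).hom ≫ evalHom y := by
    intro y
    unfold secHom
    rw [Scheme.Hom.comp_appTop, Scheme.toSpecΓ_appTop, Scheme.ΓSpecIso_naturality]
  have h2 : (Scheme.ΓSpecIso A1Ring.{u}).hom ≫ evalHom x =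
      (Scheme.ΓSpecIso A1Ring.{u}).hom ≫ evalHom x' := by
    rw [← h1, ← h1, h]
  have h3 : evalHom x = evalHom x' := (cancel_epi _).mp h2
  have h4 : (evalHom x).hom (Polynomial.X : Polynomial (ULift.{u} ℤ)) =
      (evalHom x').hom Polynomial.X := by rw [h3]
  rwa [evalHom_X, evalHom_X] at h4

lemma exists_eq_secHom {X : Scheme.{u}} (d : X ⟶ Spec A1Ring.{u}) :
    ∃ c : Γ(X, ⊤), d = secHom c := by
  refine ⟨((Scheme.ΓSpecIso A1Ring.{u}).inv ≫ d.appTop).hom Polynomial.X, ?_⟩
  have h1 : d ≫ Spec.map (Scheme.ΓSpecIso A1Ring.{u}).hom = X.toSpecΓ ≫ Spec.map d.appTop := by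
    rw [SpecMap_ΓSpecIso_hom, Scheme.toSpecΓ_naturality]
  have h2 : d = X.toSpecΓ ≫ Spec.map ((Scheme.ΓSpecIso A1Ring.{u}).inv ≫ d.appTop) := by
    rw [Spec.map_comp, ← Category.assoc, ← h1, Category.assoc, ← Spec.map_comp,
      Iso.inv_hom_id, Spec.map_id, Category.comp_id]
  conv_lhs => rw [h2]
  unfold secHom
  congr 2
  apply evalHom_ext
  rw [evalHom_X]

/-- **global sections of a pushout square of schemes form a fibre product of rings.** -/
theorem sections_exact_of_isPushout {X T Z P : Scheme.{u}} {ι : Z ⟶ X} {ξ : Z ⟶ T} {a : X ⟶ P}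
    {b : T ⟶ P} (h : IsPushout ι ξ a b) :
    (∀ c c' : Γ(P, ⊤), b.appTop.hom c = b.appTop.hom c' → a.appTop.hom c = a.appTop.hom c' →
      c = c') ∧
    (∀ (y : Γ(T, ⊤)) (x : Γ(X, ⊤)), ξ.appTop.hom y = ι.appTop.hom x →
      ∃ c : Γ(P, ⊤), b.appTop.hom c = y ∧ a.appTop.hom c = x) := by
  constructor
  · intro c c' hb ha
    apply secHom_injective
    apply h.hom_ext
    · rw [comp_secHom, comp_secHom, ha]
    · rw [comp_secHom, comp_secHom, hb]
  · intro y x hxy
    have hw : ι ≫ secHom x = ξ ≫ secHom y := by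
      rw [comp_secHom, comp_secHom, hxy]
    obtain ⟨c, hc⟩ := exists_eq_secHom (h.desc (secHom x) (secHom y) hw)
    refine ⟨c, ?_, ?_⟩
    · apply secHom_injective
      rw [← comp_secHom, ← hc, h.inr_desc]
    · apply secHom_injective
      rw [← comp_secHom, ← hc, h.inl_desc]

end Groth.Agent.Helper8.Push
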