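import Mathlib
import Groth.Agent.Lead.SchPushoutF

/-!
# Pushouts of schemes, part P: affine recognition and the flat base change algebra

* `isPushout_of_isAffine`: a commutative square of affine schemes whose global sections form a fibre
  product of rings (with `Γ(X) → Γ(Z)` surjective) is a pushout square of schemes.
* `flat_fibreProduct`: tensoring a fibre product of rings with a flat algebra gives a fibre product.
* `flat_fibreProduct_cat`: the same, for pushout squares in `CommRingCat`.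
-/

set_option autoImplicit false
universe u

open CategoryTheory CategoryTheory.Limits AlgebraicGeometry Opposite TopologicalSpace TensorProduct

namespace Groth.Agent.Helper8.Push

theorem isPushout_of_isAffine {X T Z F : Scheme.{u}} [IsAffine X] [IsAffine T] [IsAffine Z]
    [IsAffine F] (ι : Z ⟶ X) (ξ : Z ⟶ T) (a : X ⟶ F) (b : T ⟶ F) (w : ι ≫ a = ξ ≫ b)
    (hι : Function.Surjective ι.appTop.hom)
    (hinj : ∀ c c' : Γ(F, ⊤), b.appTop.hom c = b.appTop.hom c' →
      a.appTop.hom c = a.appTop.hom c' → c = c')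
    (hsurj : ∀ (y : Γ(T, ⊤)) (x : Γ(X, ⊤)), ξ.appTop.hom y = ι.appTop.hom x →
      ∃ c : Γ(F, ⊤), b.appTop.hom c = y ∧ a.appTop.hom c = x) :
    IsPushout ι ξ a b := by
  have comm : b.appTop ≫ ξ.appTop = a.appTop ≫ ι.appTop := by
    rw [← Scheme.Hom.comp_appTop, ← Scheme.Hom.comp_appTop, w]
  have h := Groth.Agent.Lead.SchPushout.spec_isPushout b.appTop a.appTop ξ.appTop ι.appTop comm
    hinj hsurj hι
  refine IsPushout.of_iso h Z.isoSpec.symm X.isoSpec.symm T.isoSpec.symm F.isoSpec.symm ?_ ?_ ?_ ?_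
  · exact Scheme.isoSpec_inv_naturality ι
  · exact Scheme.isoSpec_inv_naturality ξ
  · exact Scheme.isoSpec_inv_naturality a
  · exact Scheme.isoSpec_inv_naturality b

section Algebra

variable {R₀ A' B A C : Type*} [CommRing R₀] [CommRing A'] [CommRing B] [CommRing A] [CommRing C]
  [Algebra R₀ A'] [Algebra R₀ B] [Algebra R₀ A] [Algebra R₀ C] [Module.Flat R₀ C]
  (p : A' →ₐ[R₀] A) (q : B →ₐ[R₀] A)
  (hinj : ∀ r r' : R₀, algebraMap R₀ A' r = algebraMap R₀ A' r' →
    algebraMap R₀ B r = algebraMap R₀ B r' → r = r')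
  (hsurj : ∀ (x : A') (y : B), p x = q y →
    ∃ r : R₀, algebraMap R₀ A' r = x ∧ algebraMap R₀ B r = y)

/-- the map `r ↦ (r, r)`. -/
noncomputable def diagMap : R₀ →ₗ[R₀] A' × B :=
  LinearMap.toSpanSingleton R₀ (A' × B) (1, 1)

/-- the map `(x, y) ↦ p x - q y`. -/
noncomputable def diffMap : A' × B →ₗ[R₀] A :=
  p.toLinearMap ∘ₗ LinearMap.fst R₀ A' B - q.toLinearMap ∘ₗ LinearMap.snd R₀ A' B

lemma diagMap_apply (r : R₀) :
    (diagMap : R₀ →ₗ[R₀] A' × B) r = (algebraMap R₀ A' r, algebraMap R₀ B r) := by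
  show r • ((1, 1) : A' × B) = _
  rw [Prod.smul_mk, Algebra.smul_def, Algebra.smul_def, mul_one, mul_one]

lemma diffMap_apply (x : A') (y : B) : diffMap p q (x, y) = p x - q y := rfl

include hinj in
lemma diagMap_injective : Function.Injective (diagMap : R₀ →ₗ[R₀] A' × B) := by
  intro r r' h
  rw [diagMap_apply, diagMap_apply] at h
  exact hinj r r' (congrArg Prod.fst h) (congrArg Prod.snd h)

include hsurj in
lemma diag_diff_exact : Function.Exact (diagMap : R₀ →ₗ[R₀] A' × B) (diffMap p q) := by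
  rintro ⟨x, y⟩
  rw [diffMap_apply, sub_eq_zero]
  constructor
  · intro h
    obtain ⟨r, hr1, hr2⟩ := hsurj x y h
    exact ⟨r, by rw [diagMap_apply, hr1, hr2]⟩
  · rintro ⟨r, hr⟩
    rw [diagMap_apply] at hr
    have h1 : algebraMap R₀ A' r = x := congrArg Prod.fst hr
    have h2 : algebraMap R₀ B r = y := congrArg Prod.snd hr
    rw [← h1, ← h2, p.commutes, q.commutes]

lemma diffMap_rTensor (m : (A' × B) ⊗[R₀] C) :
    (diffMap p q).rTensor C m =
      p.toLinearMap.rTensor C (TensorProduct.prodLeft R₀ R₀ A' B C m).1 -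
        q.toLinearMap.rTensor C (TensorProduct.prodLeft R₀ R₀ A' B C m).2 := by
  induction m using TensorProduct.induction_on with
  | zero => simp
  | tmul xy c =>
    obtain ⟨x, y⟩ := xy
    rw [LinearMap.rTensor_tmul, TensorProduct.prodLeft_tmul, LinearMap.rTensor_tmul,
      LinearMap.rTensor_tmul, diffMap_apply, TensorProduct.sub_tmul]
    rfl
  | add m₁ m₂ h₁ h₂ =>
    rw [map_add, map_add, h₁, h₂, Prod.fst_add, Prod.snd_add, map_add, map_add]
    abel

include hinj hsurj in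
/-- **tensoring a fibre product of rings with a flat algebra.** -/
theorem flat_fibreProduct :
    (∀ c c' : C, (1 : A') ⊗ₜ[R₀] c = (1 : A') ⊗ₜ[R₀] c' →
      (1 : B) ⊗ₜ[R₀] c = (1 : B) ⊗ₜ[R₀] c' → c = c') ∧
    (∀ (t₁ : A' ⊗[R₀] C) (t₂ : B ⊗[R₀] C),
      p.toLinearMap.rTensor C t₁ = q.toLinearMap.rTensor C t₂ →
      ∃ c : C, (1 : A') ⊗ₜ[R₀] c = t₁ ∧ (1 : B) ⊗ₜ[R₀] c = t₂) := by
  have hI : Function.Injective ((diagMap : R₀ →ₗ[R₀] A' × B).rTensor C) :=
    Module.Flat.rTensor_preserves_injective_linearMap _ (diagMap_injective hinj)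
  have hE : Function.Exact ((diagMap : R₀ →ₗ[R₀] A' × B).rTensor C) ((diffMap p q).rTensor C) :=
    Module.Flat.rTensor_exact C (diag_diff_exact p q hsurj)
  have hdiag : ∀ c : C, TensorProduct.prodLeft R₀ R₀ A' B C
      ((diagMap : R₀ →ₗ[R₀] A' × B).rTensor C ((1 : R₀) ⊗ₜ[R₀] c)) =
        ((1 : A') ⊗ₜ[R₀] c, (1 : B) ⊗ₜ[R₀] c) := by
    intro c
    rw [LinearMap.rTensor_tmul, diagMap_apply, map_one, map_one, TensorProduct.prodLeft_tmul]
  have hone : ∀ τ : R₀ ⊗[R₀] C, τ = (1 : R₀) ⊗ₜ[R₀] (TensorProduct.lid R₀ C τ) := by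
    intro τ
    apply (TensorProduct.lid R₀ C).injective
    rw [TensorProduct.lid_tmul, one_smul]
  constructor
  · intro c c' h1 h2
    have h3 : (diagMap : R₀ →ₗ[R₀] A' × B).rTensor C ((1 : R₀) ⊗ₜ[R₀] c) =
        (diagMap : R₀ →ₗ[R₀] A' × B).rTensor C ((1 : R₀) ⊗ₜ[R₀] c') := by
      apply (TensorProduct.prodLeft R₀ R₀ A' B C).injective
      rw [hdiag, hdiag, h1, h2]
    have h4 := hI h3
    have h5 := congrArg (TensorProduct.lid R₀ C) h4
    rwa [TensorProduct.lid_tmul, TensorProduct.lid_tmul, one_smul, one_smul] at h5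
  · intro t₁ t₂ h
    set m := (TensorProduct.prodLeft R₀ R₀ A' B C).symm (t₁, t₂) with hm
    have hm' : TensorProduct.prodLeft R₀ R₀ A' B C m = (t₁, t₂) := by
      rw [hm, LinearEquiv.apply_symm_apply]
    have h0 : (diffMap p q).rTensor C m = 0 := by
      rw [diffMap_rTensor, hm', h, sub_self]
    obtain ⟨τ, hτ⟩ := (hE m).mp h0
    refine ⟨TensorProduct.lid R₀ C τ, ?_, ?_⟩
    · have h6 := hdiag (TensorProduct.lid R₀ C τ)
      rw [← hone τ, hτ, hm'] at h6
      exact (congrArg Prod.fst h6).symm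
    · have h6 := hdiag (TensorProduct.lid R₀ C τ)
      rw [← hone τ, hτ, hm'] at h6
      exact (congrArg Prod.snd h6).symm

end Algebra

end Groth.Agent.Helper8.Push
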