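import Mathlib
import Groth.Agent.Helper8.PushP

/-!
# Pushouts of schemes, part Q: flat base change of a fibre product of rings, categorical form
-/

set_option autoImplicit false
universe u

open CategoryTheory CategoryTheory.Limits AlgebraicGeometry Opposite TopologicalSpace TensorProduct

namespace Groth.Agent.Helper8.Push

set_option maxHeartbeats 800000 in
theorem flat_fibreProduct_cat {R₀ A' B A C C₁ C₂ C₀ : CommRingCat.{u}}
    (α : R₀ ⟶ A') (β : R₀ ⟶ B) (p : A' ⟶ A) (q : B ⟶ A) (comm : α ≫ p = β ≫ q)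
    (γ : R₀ ⟶ C) (hγ : γ.hom.Flat)
    (i₁ : A' ⟶ C₁) (j₁ : C ⟶ C₁) (h₁ : IsPushout α γ i₁ j₁)
    (i₂ : B ⟶ C₂) (j₂ : C ⟶ C₂) (h₂ : IsPushout β γ i₂ j₂)
    (i₀ : A ⟶ C₀) (j₀ : C ⟶ C₀) (h₀ : IsPushout (α ≫ p) γ i₀ j₀)
    (p' : C₁ ⟶ C₀) (q' : C₂ ⟶ C₀)
    (hp1 : i₁ ≫ p' = p ≫ i₀) (hp2 : j₁ ≫ p' = j₀) (hq1 : i₂ ≫ q' = q ≫ i₀) (hq2 : j₂ ≫ q' = j₀)
    (hinj : ∀ r r' : R₀, α.hom r = α.hom r' → β.hom r = β.hom r' → r = r')
    (hsurj : ∀ (x : A') (y : B), p.hom x = q.hom y → ∃ r : R₀, α.hom r = x ∧ β.hom r = y) :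
    (∀ c c' : C, j₁.hom c = j₁.hom c' → j₂.hom c = j₂.hom c' → c = c') ∧
    (∀ (x₁ : C₁) (x₂ : C₂), p'.hom x₁ = q'.hom x₂ →
      ∃ c : C, j₁.hom c = x₁ ∧ j₂.hom c = x₂) := by
  letI : Algebra R₀ A' := α.hom.toAlgebra
  letI : Algebra R₀ B := β.hom.toAlgebra
  letI : Algebra R₀ A := (α ≫ p).hom.toAlgebra
  letI : Algebra R₀ C := γ.hom.toAlgebra
  haveI : Module.Flat R₀ C := hγ
  have hcomm : ∀ r : R₀, q.hom (β.hom r) = p.hom (α.hom r) := fun r =>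
    (congrArg (fun φ : R₀ ⟶ A => φ.hom r) comm).symm
  let pₐ : A' →ₐ[R₀] A := { p.hom with commutes' := fun r => rfl }
  let qₐ : B →ₐ[R₀] A := { q.hom with commutes' := fun r => hcomm r }
  obtain ⟨hI, hS⟩ := flat_fibreProduct (C := C) pₐ qₐ hinj hsurj
  -- the tensor pushouts
  have t₁ : IsPushout α γ
      (CommRingCat.ofHom (S := A' ⊗[R₀] C) Algebra.TensorProduct.includeLeftRingHom)
      (CommRingCat.ofHom (S := A' ⊗[R₀] C) Algebra.TensorProduct.includeRight.toRingHom) :=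
    CommRingCat.isPushout_tensorProduct R₀ A' C
  have t₂ : IsPushout β γ
      (CommRingCat.ofHom (S := B ⊗[R₀] C) Algebra.TensorProduct.includeLeftRingHom)
      (CommRingCat.ofHom (S := B ⊗[R₀] C) Algebra.TensorProduct.includeRight.toRingHom) :=
    CommRingCat.isPushout_tensorProduct R₀ B C
  have t₀ : IsPushout (α ≫ p) γ
      (CommRingCat.ofHom (S := A ⊗[R₀] C) Algebra.TensorProduct.includeLeftRingHom)
      (CommRingCat.ofHom (S := A ⊗[R₀] C) Algebra.TensorProduct.includeRight.toRingHom) :=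
    CommRingCat.isPushout_tensorProduct R₀ A C
  let e₁ := h₁.isoIsPushout _ _ t₁
  let e₂ := h₂.isoIsPushout _ _ t₂
  let e₀ := h₀.isoIsPushout _ _ t₀
  have e₁i : i₁ ≫ e₁.hom = _ := IsPushout.inl_isoIsPushout_hom _ _ h₁ t₁
  have e₁j : j₁ ≫ e₁.hom = _ := IsPushout.inr_isoIsPushout_hom _ _ h₁ t₁
  have e₂i : i₂ ≫ e₂.hom = _ := IsPushout.inl_isoIsPushout_hom _ _ h₂ t₂
  have e₂j : j₂ ≫ e₂.hom = _ := IsPushout.inr_isoIsPushout_hom _ _ h₂ t₂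
  have e₀i : i₀ ≫ e₀.hom = _ := IsPushout.inl_isoIsPushout_hom _ _ h₀ t₀
  have e₀j : j₀ ≫ e₀.hom = _ := IsPushout.inr_isoIsPushout_hom _ _ h₀ t₀
  have e₁j' : ∀ c : C, e₁.hom.hom (j₁.hom c) = (1 : A') ⊗ₜ[R₀] c := fun c =>
    congrArg (fun φ : C ⟶ CommRingCat.of (A' ⊗[R₀] C) => φ.hom c) e₁j
  have e₂j' : ∀ c : C, e₂.hom.hom (j₂.hom c) = (1 : B) ⊗ₜ[R₀] c := fun c =>
    congrArg (fun φ : C ⟶ CommRingCat.of (B ⊗[R₀] C) => φ.hom c) e₂j
  have e₁inj : Function.Injective e₁.hom.hom :=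
    ((ConcreteCategory.isIso_iff_bijective e₁.hom).mp inferInstance).1
  have e₂inj : Function.Injective e₂.hom.hom :=
    ((ConcreteCategory.isIso_iff_bijective e₂.hom).mp inferInstance).1
  constructor
  · intro c c' hc1 hc2
    apply hI c c'
    · rw [← e₁j', ← e₁j', hc1]
    · rw [← e₂j', ← e₂j', hc2]
  · intro x₁ x₂ hx
    let Mp : CommRingCat.of (A' ⊗[R₀] C) ⟶ CommRingCat.of (A ⊗[R₀] C) :=
      CommRingCat.ofHom (Algebra.TensorProduct.map pₐ (AlgHom.id R₀ C)).toRingHom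
    let Mq : CommRingCat.of (B ⊗[R₀] C) ⟶ CommRingCat.of (A ⊗[R₀] C) :=
      CommRingCat.ofHom (Algebra.TensorProduct.map qₐ (AlgHom.id R₀ C)).toRingHom
    have key₁ : e₁.hom ≫ Mp = p' ≫ e₀.hom := by
      apply h₁.hom_ext
      · rw [← Category.assoc, e₁i, ← Category.assoc, hp1, Category.assoc, e₀i]
        ext x
        show Algebra.TensorProduct.map pₐ (AlgHom.id R₀ C) (x ⊗ₜ[R₀] (1 : C)) = p.hom x ⊗ₜ[R₀] (1 : C)
        rw [Algebra.TensorProduct.map_tmul]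
        rfl
      · rw [← Category.assoc, e₁j, ← Category.assoc, hp2, e₀j]
        ext c
        show Algebra.TensorProduct.map pₐ (AlgHom.id R₀ C) ((1 : A') ⊗ₜ[R₀] c) = (1 : A) ⊗ₜ[R₀] c
        rw [Algebra.TensorProduct.map_tmul, map_one]
        rfl
    have key₂ : e₂.hom ≫ Mq = q' ≫ e₀.hom := by
      apply h₂.hom_ext
      · rw [← Category.assoc, e₂i, ← Category.assoc, hq1, Category.assoc, e₀i]
        ext x
        show Algebra.TensorProduct.map qₐ (AlgHom.id R₀ C) (x ⊗ₜ[R₀] (1 : C)) = q.hom x ⊗ₜ[R₀] (1 : C)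
        rw [Algebra.TensorProduct.map_tmul]
        rfl
      · rw [← Category.assoc, e₂j, ← Category.assoc, hq2, e₀j]
        ext c
        show Algebra.TensorProduct.map qₐ (AlgHom.id R₀ C) ((1 : B) ⊗ₜ[R₀] c) = (1 : A) ⊗ₜ[R₀] c
        rw [Algebra.TensorProduct.map_tmul, map_one]
        rfl
    have h3 : pₐ.toLinearMap.rTensor C (e₁.hom.hom x₁) = qₐ.toLinearMap.rTensor C (e₂.hom.hom x₂) := by
      have h4 : (e₁.hom ≫ Mp).hom x₁ = (e₂.hom ≫ Mq).hom x₂ := by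
        rw [key₁, key₂]
        show e₀.hom.hom (p'.hom x₁) = e₀.hom.hom (q'.hom x₂)
        rw [hx]
      exact h4
    obtain ⟨c, hc1, hc2⟩ := hS _ _ h3
    refine ⟨c, e₁inj ?_, e₂inj ?_⟩
    · rw [e₁j', hc1]
    · rw [e₂j', hc2]

end Groth.Agent.Helper8.Push
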