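import Mathlib
import Groth.Agent.Helper8.PushM
import Groth.Agent.Helper8.PushN
import Groth.Agent.Helper8.PushO
import Groth.Agent.Helper8.PushQ

/-!
# Pushouts of schemes, part R: flat pullback of the pushout square

`q : F ⟶ P` flat, where `P` is the pushout of `ι : Z ⟶ X` (closed immersion) and `ξ : Z ⟶ T` built from
good pairs.  Then the pullback of the pushout square along `q` is again a pushout square.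
-/

set_option autoImplicit false
universe u

open CategoryTheory CategoryTheory.Limits AlgebraicGeometry Opposite TopologicalSpace

namespace Groth.Agent.Helper8.Push

variable {X T Z : Scheme.{u}} (ι : Z ⟶ X) (ξ : Z ⟶ T) [IsClosedImmersion ι]
  (H : ∀ t : T, ∃ k : GoodPair ι ξ, t ∈ k.W)

instance GoodPair.isAffine_V (k : GoodPair ι ξ) : IsAffine (k.V : Scheme.{u}) := k.hV

instance GoodPair.isAffine_W (k : GoodPair ι ξ) : IsAffine (k.W : Scheme.{u}) := k.hW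

instance GoodPair.isAffine_ZV (k : GoodPair ι ξ) : IsAffine (k.ZV : Scheme.{u}) :=
  k.isAffineOpen_ZV

instance isAffineHom_inl : IsAffineHom (inl ι ξ H) :=
  inl_of_isZariskiLocalAtTarget ι ξ H @IsAffineHom (fun _ => inferInstance)

variable {F X' T' Z' : Scheme.{u}} (q : F ⟶ P ι ξ) [Flat q]
  (pX : X' ⟶ X) (a' : X' ⟶ F) (hX' : IsPullback pX a' (inl ι ξ H) q)
  (pT : T' ⟶ T) (b' : T' ⟶ F) (hT' : IsPullback pT b' (inr ι ξ H) q)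
  (pZ : Z' ⟶ Z) (ι' : Z' ⟶ X') (hZ' : IsPullback pZ ι' ι pX)
  (ξ' : Z' ⟶ T') (hξ1 : ξ' ≫ pT = pZ ≫ ξ) (hξ2 : ι' ≫ a' = ξ' ≫ b')

include hX' hT' hZ' hξ1 in
set_option maxHeartbeats 1600000 in
theorem localPO_of_flat (k : GoodPair ι ξ) (U : F.Opens) (hU : IsAffineOpen U)
    (hUk : U ≤ q ⁻¹ᵁ (chart ι ξ k).opensRange) : LocalPO ι' ξ' a' b' hξ2 U := by
  haveI : IsAffine (U : Scheme.{u}) := hU
  have hVk : k.V ≤ inl ι ξ H ⁻¹ᵁ (chart ι ξ k).opensRange := (inl_preimage_chart ι ξ H k).ge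
  have hWk : k.W ≤ inr ι ξ H ⁻¹ᵁ (chart ι ξ k).opensRange := (inr_preimage_chart ι ξ H k).ge
  have hXUV : a' ⁻¹ᵁ U ≤ pX ⁻¹ᵁ k.V := by
    intro x hx
    have h1 : q (a' x) ∈ (chart ι ξ k).opensRange := hUk hx
    have h2 : inl ι ξ H (pX x) = q (a' x) := by
      rw [← Scheme.Hom.comp_apply, ← Scheme.Hom.comp_apply, hX'.w]
    show pX x ∈ k.V
    rw [← inl_preimage_chart ι ξ H k]
    show inl ι ξ H (pX x) ∈ (chart ι ξ k).opensRange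
    rw [h2]
    exact h1
  have hTUW : b' ⁻¹ᵁ U ≤ pT ⁻¹ᵁ k.W := by
    intro x hx
    have h1 : q (b' x) ∈ (chart ι ξ k).opensRange := hUk hx
    have h2 : inr ι ξ H (pT x) = q (b' x) := by
      rw [← Scheme.Hom.comp_apply, ← Scheme.Hom.comp_apply, hT'.w]
    show pT x ∈ k.W
    rw [← inr_preimage_chart ι ξ H k]
    show inr ι ξ H (pT x) ∈ (chart ι ξ k).opensRange
    rw [h2]
    exact h1
  have hZUZV : ι' ⁻¹ᵁ (a' ⁻¹ᵁ U) ≤ pZ ⁻¹ᵁ k.ZV := by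
    intro z hz
    show ι (pZ z) ∈ k.V
    rw [← Scheme.Hom.comp_apply, hZ'.w, Scheme.Hom.comp_apply]
    exact hXUV hz
  have hZT : ι' ⁻¹ᵁ (a' ⁻¹ᵁ U) ≤ ξ' ⁻¹ᵁ (b' ⁻¹ᵁ U) := preimage_le ι' ξ' a' b' hξ2 U
  -- the chart iso
  let ck : ((chart ι ξ k).opensRange : Scheme.{u}) ≅ Spec k.R := (chart ι ξ k).isoOpensRange.symm
  have hck : ck.hom ≫ chart ι ξ k = (chart ι ξ k).opensRange.ι :=
    (chart ι ξ k).isoOpensRange_inv_comp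
  let qU : (U : Scheme.{u}) ⟶ Spec k.R := q.resLE (chart ι ξ k).opensRange U hUk ≫ ck.hom
  have hqU : qU ≫ chart ι ξ k = U.ι ≫ q := by
    show (q.resLE (chart ι ξ k).opensRange U hUk ≫ ck.hom) ≫ chart ι ξ k = U.ι ≫ q
    rw [Category.assoc, hck, Scheme.Hom.resLE_comp_ι]
  have haC : (inl ι ξ H).resLE (chart ι ξ k).opensRange k.V hVk ≫ ck.hom = k.aC := by
    rw [← cancel_mono (chart ι ξ k), Category.assoc, hck, Scheme.Hom.resLE_comp_ι, ι_inl]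
  have hbC : (inr ι ξ H).resLE (chart ι ξ k).opensRange k.W hWk ≫ ck.hom = k.bC := by
    rw [← cancel_mono (chart ι ξ k), Category.assoc, hck, Scheme.Hom.resLE_comp_ι, ι_inr]
  -- restricted pullback squares
  have pbX : IsPullback (pX.resLE k.V (a' ⁻¹ᵁ U) hXUV) (a'.resLE U (a' ⁻¹ᵁ U) le_rfl) k.aC qU := by
    have h0 := Scheme.Hom.isPullback_resLE hX' hUk hVk (UY := a' ⁻¹ᵁ U)
      (inf_eq_right.mpr hXUV).symm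
    exact h0.of_iso (Iso.refl _) (Iso.refl _) (Iso.refl _) ck (by simp) (by simp)
      (by rw [Iso.refl_hom, Category.id_comp, haC]) (by rw [Iso.refl_hom, Category.id_comp])
  have pbT : IsPullback (pT.resLE k.W (b' ⁻¹ᵁ U) hTUW) (b'.resLE U (b' ⁻¹ᵁ U) le_rfl) k.bC qU := by
    have h0 := Scheme.Hom.isPullback_resLE hT' hUk hWk (UY := b' ⁻¹ᵁ U)
      (inf_eq_right.mpr hTUW).symm
    exact h0.of_iso (Iso.refl _) (Iso.refl _) (Iso.refl _) ck (by simp) (by simp)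
      (by rw [Iso.refl_hom, Category.id_comp, hbC]) (by rw [Iso.refl_hom, Category.id_comp])
  have pbZ0 : IsPullback (pZ.resLE k.ZV (ι' ⁻¹ᵁ (a' ⁻¹ᵁ U)) hZUZV)
      (ι'.resLE (a' ⁻¹ᵁ U) (ι' ⁻¹ᵁ (a' ⁻¹ᵁ U)) le_rfl) k.ιk (pX.resLE k.V (a' ⁻¹ᵁ U) hXUV) :=
    Scheme.Hom.isPullback_resLE hZ' hXUV (le_refl k.ZV) (UY := ι' ⁻¹ᵁ (a' ⁻¹ᵁ U))
      (inf_eq_right.mpr hZUZV).symm
  have pbZ : IsPullback (pZ.resLE k.ZV (ι' ⁻¹ᵁ (a' ⁻¹ᵁ U)) hZUZV)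
      (ι'.resLE (a' ⁻¹ᵁ U) (ι' ⁻¹ᵁ (a' ⁻¹ᵁ U)) le_rfl ≫ a'.resLE U (a' ⁻¹ᵁ U) le_rfl)
      (k.ιk ≫ k.aC) qU := (pbZ0.flip.paste_horiz pbX.flip).flip
  -- affineness
  haveI : IsAffine ((a' ⁻¹ᵁ U : X'.Opens) : Scheme.{u}) := IsAffine.of_isPullback pbX
  haveI : IsAffine ((b' ⁻¹ᵁ U : T'.Opens) : Scheme.{u}) := IsAffine.of_isPullback pbT
  haveI : IsAffine ((ι' ⁻¹ᵁ (a' ⁻¹ᵁ U) : Z'.Opens) : Scheme.{u}) := IsAffine.of_isPullback pbZ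
  -- ring pushouts
  have h₁ := isPushout_appTop_of_isPullback pbX
  have h₂ := isPushout_appTop_of_isPullback pbT
  have h₀ := isPushout_appTop_of_isPullback pbZ
  rw [Scheme.Hom.comp_appTop] at h₀
  -- flatness
  have hflat : qU.appTop.hom.Flat := by
    haveI : Flat (qU ≫ chart ι ξ k) := by
      rw [hqU]
      infer_instance
    have h3 : Flat qU := MorphismProperty.of_postcomp (W := @Flat)
      (W' := MorphismProperty.monomorphisms Scheme.{u}) qU (chart ι ξ k)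
      (MorphismProperty.monomorphisms.infer_property _) inferInstance
    exact (HasRingHomProperty.iff_of_isAffine (P := @Flat)).mp h3
  -- exactness on the chart
  obtain ⟨hinj₀, hsurj₀⟩ := sections_exact_of_isPushout k.isPushout_chart
  have comm : k.aC.appTop ≫ k.ιk.appTop = k.bC.appTop ≫ k.ξk.appTop := by
    rw [← Scheme.Hom.comp_appTop, ← Scheme.Hom.comp_appTop, k.chart_w]
  -- compatibilities
  have hp1 : (pX.resLE k.V (a' ⁻¹ᵁ U) hXUV).appTop ≫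
      (ι'.resLE (a' ⁻¹ᵁ U) (ι' ⁻¹ᵁ (a' ⁻¹ᵁ U)) le_rfl).appTop =
      k.ιk.appTop ≫ (pZ.resLE k.ZV (ι' ⁻¹ᵁ (a' ⁻¹ᵁ U)) hZUZV).appTop := by
    rw [← Scheme.Hom.comp_appTop, ← Scheme.Hom.comp_appTop, pbZ0.w]
  have hp2 : (a'.resLE U (a' ⁻¹ᵁ U) le_rfl).appTop ≫
      (ι'.resLE (a' ⁻¹ᵁ U) (ι' ⁻¹ᵁ (a' ⁻¹ᵁ U)) le_rfl).appTop =
      (ι'.resLE (a' ⁻¹ᵁ U) (ι' ⁻¹ᵁ (a' ⁻¹ᵁ U)) le_rfl ≫ a'.resLE U (a' ⁻¹ᵁ U) le_rfl).appTop := by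
    rw [Scheme.Hom.comp_appTop]
  have hw1 : ξ'.resLE (b' ⁻¹ᵁ U) (ι' ⁻¹ᵁ (a' ⁻¹ᵁ U)) hZT ≫ pT.resLE k.W (b' ⁻¹ᵁ U) hTUW =
      pZ.resLE k.ZV (ι' ⁻¹ᵁ (a' ⁻¹ᵁ U)) hZUZV ≫ k.ξk := by
    rw [← cancel_mono k.W.ι, Category.assoc, Category.assoc, Scheme.Hom.resLE_comp_ι,
      Scheme.Hom.resLE_comp_ι_assoc, k.ξk_ι, Scheme.Hom.resLE_comp_ι_assoc, hξ1]
  have hw2 : ι'.resLE (a' ⁻¹ᵁ U) (ι' ⁻¹ᵁ (a' ⁻¹ᵁ U)) le_rfl ≫ a'.resLE U (a' ⁻¹ᵁ U) le_rfl =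
      ξ'.resLE (b' ⁻¹ᵁ U) (ι' ⁻¹ᵁ (a' ⁻¹ᵁ U)) hZT ≫ b'.resLE U (b' ⁻¹ᵁ U) le_rfl := by
    rw [← cancel_mono U.ι, Category.assoc, Category.assoc, Scheme.Hom.resLE_comp_ι,
      Scheme.Hom.resLE_comp_ι_assoc, Scheme.Hom.resLE_comp_ι, Scheme.Hom.resLE_comp_ι_assoc, hξ2]
  have hq1 : (pT.resLE k.W (b' ⁻¹ᵁ U) hTUW).appTop ≫
      (ξ'.resLE (b' ⁻¹ᵁ U) (ι' ⁻¹ᵁ (a' ⁻¹ᵁ U)) hZT).appTop =
      k.ξk.appTop ≫ (pZ.resLE k.ZV (ι' ⁻¹ᵁ (a' ⁻¹ᵁ U)) hZUZV).appTop := by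
    rw [← Scheme.Hom.comp_appTop, ← Scheme.Hom.comp_appTop, hw1]
  have hq2 : (b'.resLE U (b' ⁻¹ᵁ U) le_rfl).appTop ≫
      (ξ'.resLE (b' ⁻¹ᵁ U) (ι' ⁻¹ᵁ (a' ⁻¹ᵁ U)) hZT).appTop =
      (ι'.resLE (a' ⁻¹ᵁ U) (ι' ⁻¹ᵁ (a' ⁻¹ᵁ U)) le_rfl ≫ a'.resLE U (a' ⁻¹ᵁ U) le_rfl).appTop := by
    rw [← Scheme.Hom.comp_appTop, hw2]
  obtain ⟨hI, hS⟩ := flat_fibreProduct_cat k.aC.appTop k.bC.appTop k.ιk.appTop k.ξk.appTop comm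
    qU.appTop hflat _ _ h₁ _ _ h₂ _ _ h₀ _ _ hp1 hp2 hq1 hq2
    (fun r r' h1 h2 => hinj₀ r r' h2 h1)
    (fun x y hxy => by
      obtain ⟨c, hc1, hc2⟩ := hsurj₀ y x hxy.symm
      exact ⟨c, hc2, hc1⟩)
  -- closed immersion
  haveI : IsClosedImmersion ι' := MorphismProperty.of_isPullback (P := @IsClosedImmersion) hZ'
    inferInstance
  have hcl : IsClosedImmersion (ι'.resLE (a' ⁻¹ᵁ U) (ι' ⁻¹ᵁ (a' ⁻¹ᵁ U)) le_rfl) := by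
    rw [Scheme.Hom.resLE_eq_morphismRestrict]
    infer_instance
  have hιs : Function.Surjective (ι'.resLE (a' ⁻¹ᵁ U) (ι' ⁻¹ᵁ (a' ⁻¹ᵁ U)) le_rfl).appTop.hom :=
    (IsClosedImmersion.isAffine_surjective_of_isAffine _).2
  have hres := isPushout_of_isAffine (ι'.resLE (a' ⁻¹ᵁ U) (ι' ⁻¹ᵁ (a' ⁻¹ᵁ U)) le_rfl)
    (ξ'.resLE (b' ⁻¹ᵁ U) (ι' ⁻¹ᵁ (a' ⁻¹ᵁ U)) hZT) (a'.resLE U (a' ⁻¹ᵁ U) le_rfl)
    (b'.resLE U (b' ⁻¹ᵁ U) le_rfl) hw2 hιs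
    (fun c c' h1 h2 => hI c c' h2 h1)
    (fun y x hxy => by
      obtain ⟨c, hc1, hc2⟩ := hS x y hxy.symm
      exact ⟨c, hc2, hc1⟩)
  unfold LocalPO
  rw [← Scheme.Hom.resLE_eq_morphismRestrict, ← Scheme.Hom.resLE_eq_morphismRestrict,
    ← Scheme.Hom.resLE_eq_morphismRestrict]
  exact hres

end Groth.Agent.Helper8.Push
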