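import Mathlib
import Groth.Agent.Helper8.PushR

/-!
# Pushouts of schemes, part S: flat pullback of a pushout square, global statements
-/

set_option autoImplicit false
universe u

open CategoryTheory CategoryTheory.Limits AlgebraicGeometry Opposite TopologicalSpace

namespace Groth.Agent.Helper8.Push

variable {X T Z : Scheme.{u}} (ι : Z ⟶ X) (ξ : Z ⟶ T) [IsClosedImmersion ι]
  (H : ∀ t : T, ∃ k : GoodPair ι ξ, t ∈ k.W)

section Model

variable {F X' T' Z' : Scheme.{u}} (q : F ⟶ P ι ξ) [Flat q]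
  (pX : X' ⟶ X) (a' : X' ⟶ F) (hX' : IsPullback pX a' (inl ι ξ H) q)
  (pT : T' ⟶ T) (b' : T' ⟶ F) (hT' : IsPullback pT b' (inr ι ξ H) q)
  (pZ : Z' ⟶ Z) (ι' : Z' ⟶ X') (hZ' : IsPullback pZ ι' ι pX)
  (ξ' : Z' ⟶ T') (hξ1 : ξ' ≫ pT = pZ ≫ ξ) (hξ2 : ι' ≫ a' = ξ' ≫ b')

include hX' hT' hZ' hξ1 hξ2 in
/-- flat pullback of the model pushout square is a pushout square. -/
theorem isPushout_of_flat_model : IsPushout ι' ξ' a' b' := by
  refine isPushout_of_local ι' ξ' a' b' hξ2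
    {U : F.Opens | IsAffineOpen U ∧ ∃ k : GoodPair ι ξ, U ≤ q ⁻¹ᵁ (chart ι ξ k).opensRange} ?_ ?_
  · intro O π hπ
    obtain ⟨k, hk, -, -⟩ := exists_chart_le ι ξ H ⊤ (q π) trivial
    have hπ' : π ∈ O ⊓ q ⁻¹ᵁ (chart ι ξ k).opensRange := ⟨hπ, hk⟩
    obtain ⟨U, hU, hπU, hUle⟩ := Opens.isBasis_iff_nbhd.mp F.isBasis_affineOpens hπ'
    exact ⟨U, ⟨hU, k, hUle.trans inf_le_right⟩, hπU, hUle.trans inf_le_left⟩
  · rintro U ⟨hU, k, hUk⟩
    exact localPO_of_flat ι ξ H q pX a' hX' pT b' hT' pZ ι' hZ' ξ' hξ1 hξ2 k U hU hUk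

end Model

section General

variable {P' : Scheme.{u}} {a : X ⟶ P'} {b : T ⟶ P'} (hP : IsPushout ι ξ a b)
  {F X' T' Z' : Scheme.{u}} (q : F ⟶ P') [Flat q]
  (pX : X' ⟶ X) (a' : X' ⟶ F) (hX' : IsPullback pX a' a q)
  (pT : T' ⟶ T) (b' : T' ⟶ F) (hT' : IsPullback pT b' b q)
  (pZ : Z' ⟶ Z) (ι' : Z' ⟶ X') (hZ' : IsPullback pZ ι' ι pX)
  (ξ' : Z' ⟶ T') (hξ1 : ξ' ≫ pT = pZ ≫ ξ) (hξ2 : ι' ≫ a' = ξ' ≫ b')

include H hP hX' hT' hZ' hξ1 hξ2 in
/-- **flat pullback of a pushout square (with good pairs) is a pushout square.** -/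
theorem isPushout_of_flat : IsPushout ι' ξ' a' b' := by
  let e : P ι ξ ≅ P' := (isPushout ι ξ H).isoIsPushout _ _ hP
  have ha : inl ι ξ H ≫ e.hom = a := IsPushout.inl_isoIsPushout_hom _ _ (isPushout ι ξ H) hP
  have hb : inr ι ξ H ≫ e.hom = b := IsPushout.inr_isoIsPushout_hom _ _ (isPushout ι ξ H) hP
  have ha' : a ≫ e.inv = inl ι ξ H := by rw [← ha, Category.assoc, Iso.hom_inv_id, Category.comp_id]
  have hb' : b ≫ e.inv = inr ι ξ H := by rw [← hb, Category.assoc, Iso.hom_inv_id, Category.comp_id]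
  haveI : Flat (q ≫ e.inv) := inferInstance
  have hX'' : IsPullback pX a' (inl ι ξ H) (q ≫ e.inv) :=
    hX'.of_iso (Iso.refl _) (Iso.refl _) (Iso.refl _) e.symm (by simp) (by simp)
      (by rw [Iso.symm_hom, Iso.refl_hom, Category.id_comp, ha'])
      (by rw [Iso.symm_hom, Iso.refl_hom, Category.id_comp])
  have hT'' : IsPullback pT b' (inr ι ξ H) (q ≫ e.inv) :=
    hT'.of_iso (Iso.refl _) (Iso.refl _) (Iso.refl _) e.symm (by simp) (by simp)
      (by rw [Iso.symm_hom, Iso.refl_hom, Category.id_comp, hb'])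
      (by rw [Iso.symm_hom, Iso.refl_hom, Category.id_comp])
  exact isPushout_of_flat_model ι ξ H (q ≫ e.inv) pX a' hX'' pT b' hT'' pZ ι' hZ' ξ' hξ1 hξ2

end General

section OverForm

variable {P' : Scheme.{u}} {a : X ⟶ P'} {b : T ⟶ P'} (hP : IsPushout ι ξ a b)
  {F : Scheme.{u}} (q : F ⟶ P') [Flat q]

include H in
/-- the statement in terms of `Over.pullback`. -/
theorem isPushout_overPullback_of_flat :
    IsPushout ((Over.pullback q).map (Over.homMk ι rfl : Over.mk (ι ≫ a) ⟶ Over.mk a)).left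
      ((Over.pullback q).map (Over.homMk ξ hP.w.symm : Over.mk (ι ≫ a) ⟶ Over.mk b)).left
      ((Over.pullback q).obj (Over.mk a)).hom ((Over.pullback q).obj (Over.mk b)).hom := by
  have hsnd : ((Over.pullback q).map (Over.homMk ι rfl : Over.mk (ι ≫ a) ⟶ Over.mk a)).left ≫
      pullback.snd a q = pullback.snd (ι ≫ a) q := by
    simp only [Over.pullback_map_left, Over.homMk_left, Over.mk_hom]
    exact pullback.lift_snd _ _ _
  have hfst : ((Over.pullback q).map (Over.homMk ι rfl : Over.mk (ι ≫ a) ⟶ Over.mk a)).left ≫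
      pullback.fst a q = pullback.fst (ι ≫ a) q ≫ ι := by
    simp only [Over.pullback_map_left, Over.homMk_left, Over.mk_hom]
    exact pullback.lift_fst _ _ _
  have hsnd' : ((Over.pullback q).map (Over.homMk ξ hP.w.symm : Over.mk (ι ≫ a) ⟶ Over.mk b)).left ≫
      pullback.snd b q = pullback.snd (ι ≫ a) q := by
    simp only [Over.pullback_map_left, Over.homMk_left, Over.mk_hom]
    exact pullback.lift_snd _ _ _
  have hfst' : ((Over.pullback q).map (Over.homMk ξ hP.w.symm : Over.mk (ι ≫ a) ⟶ Over.mk b)).left ≫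
      pullback.fst b q = pullback.fst (ι ≫ a) q ≫ ξ := by
    simp only [Over.pullback_map_left, Over.homMk_left, Over.mk_hom]
    exact pullback.lift_fst _ _ _
  have hZ' : IsPullback (pullback.fst (ι ≫ a) q)
      ((Over.pullback q).map (Over.homMk ι rfl : Over.mk (ι ≫ a) ⟶ Over.mk a)).left ι
      (pullback.fst a q) := by
    have t : IsPullback
        (((Over.pullback q).map (Over.homMk ι rfl : Over.mk (ι ≫ a) ⟶ Over.mk a)).left ≫
          pullback.snd a q) (pullback.fst (ι ≫ a) q) q (ι ≫ a) := by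
      rw [hsnd]
      exact (IsPullback.of_hasPullback (ι ≫ a) q).flip
    exact (IsPullback.of_right t hfst (IsPullback.of_hasPullback a q).flip).flip
  exact isPushout_of_flat ι ξ H hP q (pullback.fst a q) (pullback.snd a q)
    (IsPullback.of_hasPullback a q) (pullback.fst b q) (pullback.snd b q)
    (IsPullback.of_hasPullback b q) (pullback.fst (ι ≫ a) q) _ hZ' _ hfst' (hsnd.trans hsnd'.symm)

end OverForm

end Groth.Agent.Helper8.Push
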