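import Mathlib
import Groth.Agent.Helper8.PushQ
import Groth.Agent.Helper8.FlatKer

/-!
# Pushouts of schemes, part U: base change of a fibre product of rings without flatness

* `rightExact_fibreProduct(_cat)`: for `R₀ = A' ×_A B` with `A' → A` surjective and any `R₀`-algebra `C`,
  every compatible pair in `(A' ⊗ C) × (B ⊗ C)` comes from `C` (right exactness of `⊗`).
* `inj_of_flat_cat`: if moreover everything lives over a ring `R` with `A` flat over `R`, then for any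
  `R → R'` the map `R₀ ⊗_R R' → (A' ⊗_R R') × (B ⊗_R R')` is injective (purity).
-/

set_option autoImplicit false
universe u

open CategoryTheory CategoryTheory.Limits AlgebraicGeometry Opposite TopologicalSpace TensorProduct

namespace Groth.Agent.Helper8.Push

section RightExact

variable {R₀ A' B A C : Type*} [CommRing R₀] [CommRing A'] [CommRing B] [CommRing A] [CommRing C]
  [Algebra R₀ A'] [Algebra R₀ B] [Algebra R₀ A] [Algebra R₀ C]
  (p : A' →ₐ[R₀] A) (q : B →ₐ[R₀] A)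
  (hsurj : ∀ (x : A') (y : B), p x = q y →
    ∃ r : R₀, algebraMap R₀ A' r = x ∧ algebraMap R₀ B r = y)

lemma diffMap_rTensor' (m : (A' × B) ⊗[R₀] C) :
    (diffMap p q).rTensor C m =
      p.toLinearMap.rTensor C (TensorProduct.prodLeft R₀ R₀ A' B C m).1 -
        q.toLinearMap.rTensor C (TensorProduct.prodLeft R₀ R₀ A' B C m).2 := by
  induction m using TensorProduct.induction_on with
  | zero => simp
  | tmul xy c =>
    obtain ⟨x, y⟩ := xy
    rw [LinearMap.rTensor_tmul, TensorProduct.prodLeft_tmul, LinearMap.rTensor_tmul,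
      LinearMap.rTensor_tmul, diffMap_apply, TensorProduct.sub_tmul]
    rfl
  | add m₁ m₂ h₁ h₂ =>
    rw [map_add, map_add, h₁, h₂, Prod.fst_add, Prod.snd_add, map_add, map_add]
    abel

lemma diffMap_surjective (hp : Function.Surjective p) : Function.Surjective (diffMap p q) := by
  intro y
  obtain ⟨x, rfl⟩ := hp y
  exact ⟨(x, 0), by rw [diffMap_apply, map_zero, sub_zero]⟩

include hsurj in
/-- **right exactness for a fibre product of rings**: no flatness needed for the surjectivity half. -/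
theorem rightExact_fibreProduct (hp : Function.Surjective p)
    (t₁ : A' ⊗[R₀] C) (t₂ : B ⊗[R₀] C)
    (h : p.toLinearMap.rTensor C t₁ = q.toLinearMap.rTensor C t₂) :
    ∃ c : C, (1 : A') ⊗ₜ[R₀] c = t₁ ∧ (1 : B) ⊗ₜ[R₀] c = t₂ := by
  have hE : Function.Exact ((diagMap : R₀ →ₗ[R₀] A' × B).rTensor C) ((diffMap p q).rTensor C) :=
    rTensor_exact C (diag_diff_exact p q hsurj) (diffMap_surjective p q hp)
  have hdiag : ∀ c : C, TensorProduct.prodLeft R₀ R₀ A' B C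
      ((diagMap : R₀ →ₗ[R₀] A' × B).rTensor C ((1 : R₀) ⊗ₜ[R₀] c)) =
        ((1 : A') ⊗ₜ[R₀] c, (1 : B) ⊗ₜ[R₀] c) := by
    intro c
    rw [LinearMap.rTensor_tmul, diagMap_apply, map_one, map_one, TensorProduct.prodLeft_tmul]
  have hone : ∀ τ : R₀ ⊗[R₀] C, τ = (1 : R₀) ⊗ₜ[R₀] (TensorProduct.lid R₀ C τ) := by
    intro τ
    apply (TensorProduct.lid R₀ C).injective
    rw [TensorProduct.lid_tmul, one_smul]
  set m := (TensorProduct.prodLeft R₀ R₀ A' B C).symm (t₁, t₂) with hm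
  have hm' : TensorProduct.prodLeft R₀ R₀ A' B C m = (t₁, t₂) := by
    rw [hm, LinearEquiv.apply_symm_apply]
  have h0 : (diffMap p q).rTensor C m = 0 := by
    rw [diffMap_rTensor', hm', h, sub_self]
  obtain ⟨τ, hτ⟩ := (hE m).mp h0
  refine ⟨TensorProduct.lid R₀ C τ, ?_, ?_⟩
  · have h6 := hdiag (TensorProduct.lid R₀ C τ)
    rw [← hone τ, hτ, hm'] at h6
    exact (congrArg Prod.fst h6).symm
  · have h6 := hdiag (TensorProduct.lid R₀ C τ)
    rw [← hone τ, hτ, hm'] at h6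
    exact (congrArg Prod.snd h6).symm

end RightExact

set_option maxHeartbeats 800000 in
/-- categorical form of `rightExact_fibreProduct`. -/
theorem rightExact_fibreProduct_cat {R₀ A' B A C C₁ C₂ C₀ : CommRingCat.{u}}
    (α : R₀ ⟶ A') (β : R₀ ⟶ B) (p : A' ⟶ A) (q : B ⟶ A) (comm : α ≫ p = β ≫ q)
    (hp : Function.Surjective p.hom)
    (γ : R₀ ⟶ C)
    (i₁ : A' ⟶ C₁) (j₁ : C ⟶ C₁) (h₁ : IsPushout α γ i₁ j₁)
    (i₂ : B ⟶ C₂) (j₂ : C ⟶ C₂) (h₂ : IsPushout β γ i₂ j₂)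
    (i₀ : A ⟶ C₀) (j₀ : C ⟶ C₀) (h₀ : IsPushout (α ≫ p) γ i₀ j₀)
    (p' : C₁ ⟶ C₀) (q' : C₂ ⟶ C₀)
    (hp1 : i₁ ≫ p' = p ≫ i₀) (hp2 : j₁ ≫ p' = j₀) (hq1 : i₂ ≫ q' = q ≫ i₀) (hq2 : j₂ ≫ q' = j₀)
    (hsurj : ∀ (x : A') (y : B), p.hom x = q.hom y → ∃ r : R₀, α.hom r = x ∧ β.hom r = y) :
    ∀ (x₁ : C₁) (x₂ : C₂), p'.hom x₁ = q'.hom x₂ →
      ∃ c : C, j₁.hom c = x₁ ∧ j₂.hom c = x₂ := by
  letI : Algebra R₀ A' := α.hom.toAlgebra
  letI : Algebra R₀ B := β.hom.toAlgebra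
  letI : Algebra R₀ A := (α ≫ p).hom.toAlgebra
  letI : Algebra R₀ C := γ.hom.toAlgebra
  have hcomm : ∀ r : R₀, q.hom (β.hom r) = p.hom (α.hom r) := fun r =>
    (congrArg (fun φ : R₀ ⟶ A => φ.hom r) comm).symm
  let pₐ : A' →ₐ[R₀] A := { p.hom with commutes' := fun r => rfl }
  let qₐ : B →ₐ[R₀] A := { q.hom with commutes' := fun r => hcomm r }
  have hS := rightExact_fibreProduct (C := C) pₐ qₐ hsurj hp
  -- the tensor pushouts
  have t₁ : IsPushout α γ
      (CommRingCat.ofHom (S := A' ⊗[R₀] C) Algebra.TensorProduct.includeLeftRingHom)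
      (CommRingCat.ofHom (S := A' ⊗[R₀] C) Algebra.TensorProduct.includeRight.toRingHom) :=
    CommRingCat.isPushout_tensorProduct R₀ A' C
  have t₂ : IsPushout β γ
      (CommRingCat.ofHom (S := B ⊗[R₀] C) Algebra.TensorProduct.includeLeftRingHom)
      (CommRingCat.ofHom (S := B ⊗[R₀] C) Algebra.TensorProduct.includeRight.toRingHom) :=
    CommRingCat.isPushout_tensorProduct R₀ B C
  have t₀ : IsPushout (α ≫ p) γ
      (CommRingCat.ofHom (S := A ⊗[R₀] C) Algebra.TensorProduct.includeLeftRingHom)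
      (CommRingCat.ofHom (S := A ⊗[R₀] C) Algebra.TensorProduct.includeRight.toRingHom) :=
    CommRingCat.isPushout_tensorProduct R₀ A C
  let e₁ := h₁.isoIsPushout _ _ t₁
  let e₂ := h₂.isoIsPushout _ _ t₂
  let e₀ := h₀.isoIsPushout _ _ t₀
  have e₁i : i₁ ≫ e₁.hom = _ := IsPushout.inl_isoIsPushout_hom _ _ h₁ t₁
  have e₁j : j₁ ≫ e₁.hom = _ := IsPushout.inr_isoIsPushout_hom _ _ h₁ t₁
  have e₂i : i₂ ≫ e₂.hom = _ := IsPushout.inl_isoIsPushout_hom _ _ h₂ t₂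
  have e₂j : j₂ ≫ e₂.hom = _ := IsPushout.inr_isoIsPushout_hom _ _ h₂ t₂
  have e₀i : i₀ ≫ e₀.hom = _ := IsPushout.inl_isoIsPushout_hom _ _ h₀ t₀
  have e₀j : j₀ ≫ e₀.hom = _ := IsPushout.inr_isoIsPushout_hom _ _ h₀ t₀
  have e₁j' : ∀ c : C, e₁.hom.hom (j₁.hom c) = (1 : A') ⊗ₜ[R₀] c := fun c =>
    congrArg (fun φ : C ⟶ CommRingCat.of (A' ⊗[R₀] C) => φ.hom c) e₁j
  have e₂j' : ∀ c : C, e₂.hom.hom (j₂.hom c) = (1 : B) ⊗ₜ[R₀] c := fun c =>
    congrArg (fun φ : C ⟶ CommRingCat.of (B ⊗[R₀] C) => φ.hom c) e₂j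
  have e₁inj : Function.Injective e₁.hom.hom :=
    ((ConcreteCategory.isIso_iff_bijective e₁.hom).mp inferInstance).1
  have e₂inj : Function.Injective e₂.hom.hom :=
    ((ConcreteCategory.isIso_iff_bijective e₂.hom).mp inferInstance).1
  intro x₁ x₂ hx
  let Mp : CommRingCat.of (A' ⊗[R₀] C) ⟶ CommRingCat.of (A ⊗[R₀] C) :=
    CommRingCat.ofHom (Algebra.TensorProduct.map pₐ (AlgHom.id R₀ C)).toRingHom
  let Mq : CommRingCat.of (B ⊗[R₀] C) ⟶ CommRingCat.of (A ⊗[R₀] C) :=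
    CommRingCat.ofHom (Algebra.TensorProduct.map qₐ (AlgHom.id R₀ C)).toRingHom
  have key₁ : e₁.hom ≫ Mp = p' ≫ e₀.hom := by
    apply h₁.hom_ext
    · rw [← Category.assoc, e₁i, ← Category.assoc, hp1, Category.assoc, e₀i]
      ext x
      show Algebra.TensorProduct.map pₐ (AlgHom.id R₀ C) (x ⊗ₜ[R₀] (1 : C)) = p.hom x ⊗ₜ[R₀] (1 : C)
      rw [Algebra.TensorProduct.map_tmul]
      rfl
    · rw [← Category.assoc, e₁j, ← Category.assoc, hp2, e₀j]
      ext c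
      show Algebra.TensorProduct.map pₐ (AlgHom.id R₀ C) ((1 : A') ⊗ₜ[R₀] c) = (1 : A) ⊗ₜ[R₀] c
      rw [Algebra.TensorProduct.map_tmul, map_one]
      rfl
  have key₂ : e₂.hom ≫ Mq = q' ≫ e₀.hom := by
    apply h₂.hom_ext
    · rw [← Category.assoc, e₂i, ← Category.assoc, hq1, Category.assoc, e₀i]
      ext x
      show Algebra.TensorProduct.map qₐ (AlgHom.id R₀ C) (x ⊗ₜ[R₀] (1 : C)) = q.hom x ⊗ₜ[R₀] (1 : C)
      rw [Algebra.TensorProduct.map_tmul]
      rfl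
    · rw [← Category.assoc, e₂j, ← Category.assoc, hq2, e₀j]
      ext c
      show Algebra.TensorProduct.map qₐ (AlgHom.id R₀ C) ((1 : B) ⊗ₜ[R₀] c) = (1 : A) ⊗ₜ[R₀] c
      rw [Algebra.TensorProduct.map_tmul, map_one]
      rfl
  have h3 : pₐ.toLinearMap.rTensor C (e₁.hom.hom x₁) = qₐ.toLinearMap.rTensor C (e₂.hom.hom x₂) := by
    have h4 : (e₁.hom ≫ Mp).hom x₁ = (e₂.hom ≫ Mq).hom x₂ := by
      rw [key₁, key₂]
      show e₀.hom.hom (p'.hom x₁) = e₀.hom.hom (q'.hom x₂)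
      rw [hx]
    exact h4
  obtain ⟨c, hc1, hc2⟩ := hS _ _ h3
  refine ⟨c, e₁inj ?_, e₂inj ?_⟩
  · rw [e₁j', hc1]
  · rw [e₂j', hc2]

section Purity

set_option maxHeartbeats 800000 in
/-- **purity for a fibre product with flat quotient**: `R₀ = A' ×_A B` over a base ring `R` with `A`
flat over `R` and `A' → A` surjective.  For any `R → R'`, the map
`R₀ ⊗_R R' → (A' ⊗_R R') × (B ⊗_R R')` is injective.  Stated with pushouts in `CommRingCat`:
`C = R₀ ⊗_R R'`, `C₁ = A' ⊗_{R₀} C`, `C₂ = B ⊗_{R₀} C`. -/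
theorem inj_of_flat_cat {R R' R₀ A' B A C C₁ C₂ : CommRingCat.{u}}
    (σ : R ⟶ R₀) (ρ : R ⟶ R') (γ : R₀ ⟶ C) (δ : R' ⟶ C) (hC : IsPushout σ ρ γ δ)
    (α : R₀ ⟶ A') (β : R₀ ⟶ B) (p : A' ⟶ A) (q : B ⟶ A) (comm : α ≫ p = β ≫ q)
    (hp : Function.Surjective p.hom) (hflat : (σ ≫ α ≫ p).hom.Flat)
    (i₁ : A' ⟶ C₁) (j₁ : C ⟶ C₁) (h₁ : IsPushout α γ i₁ j₁)
    (i₂ : B ⟶ C₂) (j₂ : C ⟶ C₂) (h₂ : IsPushout β γ i₂ j₂)
    (hinj : ∀ r r' : R₀, α.hom r = α.hom r' → β.hom r = β.hom r' → r = r')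
    (hsurj : ∀ (x : A') (y : B), p.hom x = q.hom y → ∃ r : R₀, α.hom r = x ∧ β.hom r = y) :
    ∀ c c' : C, j₁.hom c = j₁.hom c' → j₂.hom c = j₂.hom c' → c = c' := by
  letI : Algebra R R₀ := σ.hom.toAlgebra
  letI : Algebra R R' := ρ.hom.toAlgebra
  letI : Algebra R A' := (σ ≫ α).hom.toAlgebra
  letI : Algebra R B := (σ ≫ β).hom.toAlgebra
  letI : Algebra R A := (σ ≫ α ≫ p).hom.toAlgebra
  haveI : Module.Flat R A := hflat
  have hcomm : ∀ r : R₀, q.hom (β.hom r) = p.hom (α.hom r) := fun r =>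
    (congrArg (fun φ : R₀ ⟶ A => φ.hom r) comm).symm
  let αₐ : R₀ →ₐ[R] A' := { α.hom with commutes' := fun r => rfl }
  let βₐ : R₀ →ₐ[R] B := { β.hom with commutes' := fun r => rfl }
  let pₐ : A' →ₐ[R] A := { p.hom with commutes' := fun r => rfl }
  let qₐ : B →ₐ[R] A := { q.hom with commutes' := fun r => hcomm (σ.hom r) }
  -- the exact sequence of `R`-modules
  let ii : R₀ →ₗ[R] A' × B := αₐ.toLinearMap.prod βₐ.toLinearMap
  let gg : A' × B →ₗ[R] A := pₐ.toLinearMap.coprod (-qₐ.toLinearMap)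
  have hii : ∀ r : R₀, ii r = (α.hom r, β.hom r) := fun r => rfl
  have hgg : ∀ (x : A') (y : B), gg (x, y) = p.hom x - q.hom y := by
    intro x y
    show p.hom x + -(q.hom y) = _
    ring
  have hi : Function.Injective ii := by
    intro r r' h
    rw [hii, hii] at h
    exact hinj r r' (congrArg Prod.fst h) (congrArg Prod.snd h)
  have hg : Function.Surjective gg := by
    intro y
    obtain ⟨x, rfl⟩ := hp y
    exact ⟨(x, 0), by rw [hgg, map_zero, sub_zero]⟩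
  have hex : Function.Exact ii gg := by
    rintro ⟨x, y⟩
    rw [hgg, sub_eq_zero]
    constructor
    · intro h
      obtain ⟨r, hr1, hr2⟩ := hsurj x y h
      exact ⟨r, by rw [hii, hr1, hr2]⟩
    · rintro ⟨r, hr⟩
      rw [hii] at hr
      have h1 : α.hom r = x := congrArg Prod.fst hr
      have h2 : β.hom r = y := congrArg Prod.snd hr
      rw [← h1, ← h2, hcomm]
  have hpure : Function.Injective (ii.lTensor R') :=
    FlatKer.lTensor_injective_of_flat_coker ii gg hi hg hex R'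
  -- the tensor pushouts
  have t : IsPushout ρ σ
      (CommRingCat.ofHom (S := R' ⊗[R] R₀) Algebra.TensorProduct.includeLeftRingHom)
      (CommRingCat.ofHom (S := R' ⊗[R] R₀) Algebra.TensorProduct.includeRight.toRingHom) :=
    CommRingCat.isPushout_tensorProduct R R' R₀
  have t₁ : IsPushout ρ (σ ≫ α)
      (CommRingCat.ofHom (S := R' ⊗[R] A') Algebra.TensorProduct.includeLeftRingHom)
      (CommRingCat.ofHom (S := R' ⊗[R] A') Algebra.TensorProduct.includeRight.toRingHom) :=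
    CommRingCat.isPushout_tensorProduct R R' A'
  have t₂ : IsPushout ρ (σ ≫ β)
      (CommRingCat.ofHom (S := R' ⊗[R] B) Algebra.TensorProduct.includeLeftRingHom)
      (CommRingCat.ofHom (S := R' ⊗[R] B) Algebra.TensorProduct.includeRight.toRingHom) :=
    CommRingCat.isPushout_tensorProduct R R' B
  -- pasted pushouts
  have s₁ : IsPushout ρ (σ ≫ α) (δ ≫ j₁) i₁ := (hC.paste_horiz h₁).flip
  have s₂ : IsPushout ρ (σ ≫ β) (δ ≫ j₂) i₂ := (hC.paste_horiz h₂).flip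
  let e := hC.flip.isoIsPushout _ _ t
  let e₁ := s₁.isoIsPushout _ _ t₁
  let e₂ := s₂.isoIsPushout _ _ t₂
  have eδ : δ ≫ e.hom = _ := IsPushout.inl_isoIsPushout_hom _ _ hC.flip t
  have eγ : γ ≫ e.hom = _ := IsPushout.inr_isoIsPushout_hom _ _ hC.flip t
  have e₁δ : (δ ≫ j₁) ≫ e₁.hom = _ := IsPushout.inl_isoIsPushout_hom _ _ s₁ t₁
  have e₁i : i₁ ≫ e₁.hom = _ := IsPushout.inr_isoIsPushout_hom _ _ s₁ t₁
  have e₂δ : (δ ≫ j₂) ≫ e₂.hom = _ := IsPushout.inl_isoIsPushout_hom _ _ s₂ t₂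
  have e₂i : i₂ ≫ e₂.hom = _ := IsPushout.inr_isoIsPushout_hom _ _ s₂ t₂
  let Mα : CommRingCat.of (R' ⊗[R] R₀) ⟶ CommRingCat.of (R' ⊗[R] A') :=
    CommRingCat.ofHom (Algebra.TensorProduct.map (AlgHom.id R R') αₐ).toRingHom
  let Mβ : CommRingCat.of (R' ⊗[R] R₀) ⟶ CommRingCat.of (R' ⊗[R] B) :=
    CommRingCat.ofHom (Algebra.TensorProduct.map (AlgHom.id R R') βₐ).toRingHom
  have key₁ : e.hom ≫ Mα = j₁ ≫ e₁.hom := by
    apply hC.flip.hom_ext
    · rw [← Category.assoc, eδ, ← Category.assoc, e₁δ]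
      ext x
      show Algebra.TensorProduct.map (AlgHom.id R R') αₐ (x ⊗ₜ[R] (1 : R₀)) = x ⊗ₜ[R] (1 : A')
      rw [Algebra.TensorProduct.map_tmul, map_one]
      rfl
    · rw [← Category.assoc, eγ, ← Category.assoc, ← h₁.w, Category.assoc, e₁i]
      ext x
      show Algebra.TensorProduct.map (AlgHom.id R R') αₐ ((1 : R') ⊗ₜ[R] x) =
        (1 : R') ⊗ₜ[R] α.hom x
      rw [Algebra.TensorProduct.map_tmul, map_one]
      rfl
  have key₂ : e.hom ≫ Mβ = j₂ ≫ e₂.hom := by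
    apply hC.flip.hom_ext
    · rw [← Category.assoc, eδ, ← Category.assoc, e₂δ]
      ext x
      show Algebra.TensorProduct.map (AlgHom.id R R') βₐ (x ⊗ₜ[R] (1 : R₀)) = x ⊗ₜ[R] (1 : B)
      rw [Algebra.TensorProduct.map_tmul, map_one]
      rfl
    · rw [← Category.assoc, eγ, ← Category.assoc, ← h₂.w, Category.assoc, e₂i]
      ext x
      show Algebra.TensorProduct.map (AlgHom.id R R') βₐ ((1 : R') ⊗ₜ[R] x) =
        (1 : R') ⊗ₜ[R] β.hom x
      rw [Algebra.TensorProduct.map_tmul, map_one]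
      rfl
  have einj : Function.Injective e.hom.hom :=
    ((ConcreteCategory.isIso_iff_bijective e.hom).mp inferInstance).1
  have hprod : ∀ τ : R' ⊗[R] R₀, TensorProduct.prodRight R R R' A' B (ii.lTensor R' τ) =
      (αₐ.toLinearMap.lTensor R' τ, βₐ.toLinearMap.lTensor R' τ) := by
    intro τ
    induction τ using TensorProduct.induction_on with
    | zero =>
      rw [map_zero, map_zero, map_zero, map_zero]
      rfl
    | tmul x r =>
      rw [LinearMap.lTensor_tmul, TensorProduct.prodRight_tmul, LinearMap.lTensor_tmul,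
        LinearMap.lTensor_tmul]
      rfl
    | add m₁ m₂ h₁ h₂ =>
      rw [map_add, map_add, h₁, h₂, map_add, map_add, Prod.mk_add_mk]
  have hMα : ∀ τ : R' ⊗[R] R₀, Mα.hom τ = αₐ.toLinearMap.lTensor R' τ := by
    intro τ
    induction τ using TensorProduct.induction_on with
    | zero => simp
    | tmul x r =>
      show Algebra.TensorProduct.map (AlgHom.id R R') αₐ (x ⊗ₜ[R] r) = _
      rw [Algebra.TensorProduct.map_tmul, LinearMap.lTensor_tmul]
      rfl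
    | add m₁ m₂ h₁ h₂ => rw [map_add, map_add, h₁, h₂]
  have hMβ : ∀ τ : R' ⊗[R] R₀, Mβ.hom τ = βₐ.toLinearMap.lTensor R' τ := by
    intro τ
    induction τ using TensorProduct.induction_on with
    | zero => simp
    | tmul x r =>
      show Algebra.TensorProduct.map (AlgHom.id R R') βₐ (x ⊗ₜ[R] r) = _
      rw [Algebra.TensorProduct.map_tmul, LinearMap.lTensor_tmul]
      rfl
    | add m₁ m₂ h₁ h₂ => rw [map_add, map_add, h₁, h₂]
  intro c c' hc1 hc2
  apply einj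
  apply hpure
  apply (TensorProduct.prodRight R R R' A' B).injective
  rw [hprod, hprod, ← hMα, ← hMα, ← hMβ, ← hMβ]
  have k1 : ∀ c : C, Mα.hom (e.hom.hom c) = e₁.hom.hom (j₁.hom c) := fun c =>
    congrArg (fun φ : C ⟶ CommRingCat.of (R' ⊗[R] A') => φ.hom c) key₁
  have k2 : ∀ c : C, Mβ.hom (e.hom.hom c) = e₂.hom.hom (j₂.hom c) := fun c =>
    congrArg (fun φ : C ⟶ CommRingCat.of (R' ⊗[R] B) => φ.hom c) key₂
  rw [k1, k1, k2, k2, hc1, hc2]

end Purity

end Groth.Agent.Helper8.Push
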