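import Mathlib
import Groth.Agent.Helper8.PushS
import Groth.Agent.Helper8.PushU

/-!
# Pushouts of schemes, part V: pullback of a pushout square along an arbitrary morphism

* `isPushout_of_affine_pullback`: affine case; the pulled back square is a pushout as soon as
  `Γ(P') → Γ(X') × Γ(T')` is injective.
* `localPO_of_isPushout`, `localPO_of_le`, `isPushout_of_openCover`: restriction to opens; being a
  pushout is local on the target for open covers (in the presence of good pairs).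
* `isPushout_pullback_of_local_inj`: the general statement.
-/

set_option autoImplicit false
universe u

open CategoryTheory CategoryTheory.Limits AlgebraicGeometry Opposite TopologicalSpace

namespace Groth.Agent.Helper8.Push

section Affine

theorem isPushout_of_affine_pullback {X T Z P : Scheme.{u}} [IsAffine X] [IsAffine T] [IsAffine Z]
    [IsAffine P] (ι : Z ⟶ X) (ξ : Z ⟶ T) (a : X ⟶ P) (b : T ⟶ P) [IsClosedImmersion ι]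
    (hP : IsPushout ι ξ a b)
    {P' X' T' Z' : Scheme.{u}} [IsAffine P'] (pP : P' ⟶ P)
    (pX : X' ⟶ X) (a' : X' ⟶ P') (hX' : IsPullback pX a' a pP)
    (pT : T' ⟶ T) (b' : T' ⟶ P') (hT' : IsPullback pT b' b pP)
    (pZ : Z' ⟶ Z) (ι' : Z' ⟶ X') (hZ' : IsPullback pZ ι' ι pX)
    (ξ' : Z' ⟶ T') (hξ1 : ξ' ≫ pT = pZ ≫ ξ) (hξ2 : ι' ≫ a' = ξ' ≫ b')
    (hinj : ∀ c c' : Γ(P', ⊤), a'.appTop.hom c = a'.appTop.hom c' →
      b'.appTop.hom c = b'.appTop.hom c' → c = c') :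
    IsPushout ι' ξ' a' b' := by
  haveI : IsAffine X' := IsAffine.of_isPullback hX'
  haveI : IsAffine T' := IsAffine.of_isPullback hT'
  haveI : IsAffine Z' := IsAffine.of_isPullback hZ'
  have pbZ : IsPullback pZ (ι' ≫ a') (ι ≫ a) pP := (hZ'.flip.paste_horiz hX'.flip).flip
  have h₁ := isPushout_appTop_of_isPullback hX'
  have h₂ := isPushout_appTop_of_isPullback hT'
  have h₀ := isPushout_appTop_of_isPullback pbZ
  rw [Scheme.Hom.comp_appTop] at h₀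
  obtain ⟨hinj₀, hsurj₀⟩ := sections_exact_of_isPushout hP
  have comm : a.appTop ≫ ι.appTop = b.appTop ≫ ξ.appTop := by
    rw [← Scheme.Hom.comp_appTop, ← Scheme.Hom.comp_appTop, hP.w]
  have hιs₀ : Function.Surjective ι.appTop.hom :=
    (IsClosedImmersion.isAffine_surjective_of_isAffine _).2
  have hp1 : pX.appTop ≫ ι'.appTop = ι.appTop ≫ pZ.appTop := by
    rw [← Scheme.Hom.comp_appTop, ← Scheme.Hom.comp_appTop, hZ'.w]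
  have hp2 : a'.appTop ≫ ι'.appTop = (ι' ≫ a').appTop := by rw [Scheme.Hom.comp_appTop]
  have hq1 : pT.appTop ≫ ξ'.appTop = ξ.appTop ≫ pZ.appTop := by
    rw [← Scheme.Hom.comp_appTop, ← Scheme.Hom.comp_appTop, hξ1]
  have hq2 : b'.appTop ≫ ξ'.appTop = (ι' ≫ a').appTop := by
    rw [← Scheme.Hom.comp_appTop, hξ2]
  have hS := rightExact_fibreProduct_cat a.appTop b.appTop ι.appTop ξ.appTop comm hιs₀
    pP.appTop _ _ h₁ _ _ h₂ _ _ h₀ _ _ hp1 hp2 hq1 hq2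
    (fun x y hxy => by
      obtain ⟨c, hc1, hc2⟩ := hsurj₀ y x hxy.symm
      exact ⟨c, hc2, hc1⟩)
  haveI : IsClosedImmersion ι' := MorphismProperty.of_isPullback (P := @IsClosedImmersion) hZ'
    inferInstance
  have hιs : Function.Surjective ι'.appTop.hom :=
    (IsClosedImmersion.isAffine_surjective_of_isAffine _).2
  exact isPushout_of_isAffine ι' ξ' a' b' hξ2 hιs (fun c c' h1 h2 => hinj c c' h2 h1)
    (fun y x hxy => by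
      obtain ⟨c, hc1, hc2⟩ := hS x y hxy.symm
      exact ⟨c, hc2, hc1⟩)

end Affine

section Restrict

lemma isPullback_morphismRestrict_homOfLE {X F : Scheme.{u}} (a : X ⟶ F) {U O : F.Opens}
    (h : U ≤ O) :
    IsPullback (X.homOfLE (a.preimage_mono h)) (a ∣_ U) (a ∣_ O) (F.homOfLE h) := by
  refine IsPullback.of_right ?_ (morphismRestrict_homOfLE a h).symm
    (isPullback_morphismRestrict a O).flip
  rw [Scheme.homOfLE_ι, Scheme.homOfLE_ι]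
  exact (isPullback_morphismRestrict a U).flip

/-- the trivial good pair of a span of affine schemes. -/
def GoodPair.top {X T Z : Scheme.{u}} (ι : Z ⟶ X) (ξ : Z ⟶ T) [IsAffine X] [IsAffine T] :
    GoodPair ι ξ where
  V := ⊤
  W := ⊤
  hV := isAffineOpen_top X
  hW := isAffineOpen_top T
  h := rfl

variable {X T Z F : Scheme.{u}} (ι : Z ⟶ X) (ξ : Z ⟶ T) (a : X ⟶ F) (b : T ⟶ F)
  (w : ι ≫ a = ξ ≫ b)

lemma restrict_w (U : F.Opens) :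
    (ι ∣_ (a ⁻¹ᵁ U)) ≫ (a ∣_ U) =
      ξ.resLE (b ⁻¹ᵁ U) (ι ⁻¹ᵁ (a ⁻¹ᵁ U)) (preimage_le ι ξ a b w U) ≫ (b ∣_ U) := by
  rw [← cancel_mono U.ι, Category.assoc, Category.assoc, morphismRestrict_ι, morphismRestrict_ι,
    morphismRestrict_ι_assoc, Scheme.Hom.resLE_comp_ι_assoc, w]

variable [IsClosedImmersion ι]

/-- a pushout square (with good pairs) restricts to a pushout square over every open. -/
theorem localPO_of_isPushout (H : ∀ t : T, ∃ k : GoodPair ι ξ, t ∈ k.W)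
    (hP : IsPushout ι ξ a b) (O : F.Opens) : LocalPO ι ξ a b hP.w O := by
  unfold LocalPO
  exact isPushout_of_flat ι ξ H hP O.ι (a ⁻¹ᵁ O).ι (a ∣_ O) (isPullback_morphismRestrict a O).flip
    (b ⁻¹ᵁ O).ι (b ∣_ O) (isPullback_morphismRestrict b O).flip
    (ι ⁻¹ᵁ (a ⁻¹ᵁ O)).ι (ι ∣_ (a ⁻¹ᵁ O)) (isPullback_morphismRestrict ι (a ⁻¹ᵁ O)).flip
    (ξ.resLE (b ⁻¹ᵁ O) (ι ⁻¹ᵁ (a ⁻¹ᵁ O)) (preimage_le ι ξ a b hP.w O))
    (Scheme.Hom.resLE_comp_ι _ _) (restrict_w ι ξ a b hP.w O)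

/-- `LocalPO` passes to smaller opens (in the presence of good pairs). -/
theorem localPO_of_le {O U : F.Opens} (hUO : U ≤ O) (hO : LocalPO ι ξ a b w O)
    (HO : ∀ t : ((b ⁻¹ᵁ O : T.Opens) : Scheme.{u}), ∃ k : GoodPair (ι ∣_ (a ⁻¹ᵁ O))
      (ξ.resLE (b ⁻¹ᵁ O) (ι ⁻¹ᵁ (a ⁻¹ᵁ O)) (preimage_le ι ξ a b w O)), t ∈ k.W) :
    LocalPO ι ξ a b w U := by
  unfold LocalPO at hO ⊢
  refine isPushout_of_flat _ _ HO hO (F.homOfLE hUO)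
    (X.homOfLE (a.preimage_mono hUO)) (a ∣_ U) (isPullback_morphismRestrict_homOfLE a hUO)
    (T.homOfLE (b.preimage_mono hUO)) (b ∣_ U) (isPullback_morphismRestrict_homOfLE b hUO)
    (Z.homOfLE (ι.preimage_mono (a.preimage_mono hUO))) (ι ∣_ (a ⁻¹ᵁ U))
    (isPullback_morphismRestrict_homOfLE ι (a.preimage_mono hUO))
    (ξ.resLE (b ⁻¹ᵁ U) (ι ⁻¹ᵁ (a ⁻¹ᵁ U)) (preimage_le ι ξ a b w U)) ?_ (restrict_w ι ξ a b w U)
  rw [← cancel_mono (b ⁻¹ᵁ O).ι, Category.assoc, Category.assoc, Scheme.homOfLE_ι,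
    Scheme.Hom.resLE_comp_ι, Scheme.Hom.resLE_comp_ι, Scheme.homOfLE_ι_assoc]

/-- being a pushout square is local on the target for open covers (with good pairs). -/
theorem isPushout_of_openCover
    (hcov : ∀ π : F, ∃ O : F.Opens, π ∈ O ∧ LocalPO ι ξ a b w O ∧
      ∀ t : ((b ⁻¹ᵁ O : T.Opens) : Scheme.{u}), ∃ k : GoodPair (ι ∣_ (a ⁻¹ᵁ O))
        (ξ.resLE (b ⁻¹ᵁ O) (ι ⁻¹ᵁ (a ⁻¹ᵁ O)) (preimage_le ι ξ a b w O)), t ∈ k.W) :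
    IsPushout ι ξ a b := by
  refine isPushout_of_local ι ξ a b w
    {U : F.Opens | ∃ O : F.Opens, U ≤ O ∧ LocalPO ι ξ a b w O ∧
      ∀ t : ((b ⁻¹ᵁ O : T.Opens) : Scheme.{u}), ∃ k : GoodPair (ι ∣_ (a ⁻¹ᵁ O))
        (ξ.resLE (b ⁻¹ᵁ O) (ι ⁻¹ᵁ (a ⁻¹ᵁ O)) (preimage_le ι ξ a b w O)), t ∈ k.W} ?_ ?_
  · intro O₁ π hπ
    obtain ⟨O, hπO, hO, HO⟩ := hcov π
    exact ⟨O₁ ⊓ O, ⟨O, inf_le_right, hO, HO⟩, ⟨hπ, hπO⟩, inf_le_left⟩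
  · rintro U ⟨O, hUO, hO, HO⟩
    exact localPO_of_le ι ξ a b w hUO hO HO

include w in
omit [IsClosedImmersion ι] in
lemma dummy_w : ι ≫ a = ξ ≫ b := w

end Restrict

section General

variable {X T Z F : Scheme.{u}} (ι : Z ⟶ X) (ξ : Z ⟶ T) (a : X ⟶ F) (b : T ⟶ F)
  [IsClosedImmersion ι] (H : ∀ t : T, ∃ k : GoodPair ι ξ, t ∈ k.W)

include H in
lemma isAffineHom_of_isPushout (hP : IsPushout ι ξ a b) : IsAffineHom a := by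
  let e : P ι ξ ≅ F := (isPushout ι ξ H).isoIsPushout _ _ hP
  have ha : inl ι ξ H ≫ e.hom = a := IsPushout.inl_isoIsPushout_hom _ _ (isPushout ι ξ H) hP
  rw [← ha]
  infer_instance

include H in
set_option maxHeartbeats 1600000 in
/-- **pullback of a Ferrand pushout square along an arbitrary morphism**: it is a pushout square as
soon as, locally on `P'`, functions on `P'` are determined by their pullbacks to `X'` and `T'`. -/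
theorem isPushout_pullback_of_local_inj (hP : IsPushout ι ξ a b)
    {P' X' T' Z' : Scheme.{u}} (pP : P' ⟶ F)
    (pX : X' ⟶ X) (a' : X' ⟶ P') (hX' : IsPullback pX a' a pP)
    (pT : T' ⟶ T) (b' : T' ⟶ P') (hT' : IsPullback pT b' b pP)
    (pZ : Z' ⟶ Z) (ι' : Z' ⟶ X') (hZ' : IsPullback pZ ι' ι pX)
    (ξ' : Z' ⟶ T') (hξ1 : ξ' ≫ pT = pZ ≫ ξ) (hξ2 : ι' ≫ a' = ξ' ≫ b')
    (hloc : ∀ π : P', ∃ (O : F.Opens) (O' : P'.Opens), IsAffineOpen O ∧ IsAffineOpen O' ∧ π ∈ O' ∧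
      O' ≤ pP ⁻¹ᵁ O ∧ ∀ c c' : Γ((O' : Scheme.{u}), ⊤),
        (a'.resLE O' (a' ⁻¹ᵁ O') le_rfl).appTop.hom c = (a'.resLE O' (a' ⁻¹ᵁ O') le_rfl).appTop.hom c' →
        (b'.resLE O' (b' ⁻¹ᵁ O') le_rfl).appTop.hom c = (b'.resLE O' (b' ⁻¹ᵁ O') le_rfl).appTop.hom c' →
        c = c') :
    IsPushout ι' ξ' a' b' := by
  haveI : IsClosedImmersion ι' := MorphismProperty.of_isPullback (P := @IsClosedImmersion) hZ'
    inferInstance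
  haveI : IsAffineHom a := isAffineHom_of_isPushout ι ξ a b H hP
  haveI : IsClosedImmersion b := (of_isPushout ι ξ H hP).2.1
  refine isPushout_of_openCover ι' ξ' a' b' hξ2 ?_
  intro π
  obtain ⟨O, O', hO, hO', hπ, hle, hinj⟩ := hloc π
  haveI : IsAffine (O : Scheme.{u}) := hO
  haveI : IsAffine (O' : Scheme.{u}) := hO'
  haveI : IsAffine ((a ⁻¹ᵁ O : X.Opens) : Scheme.{u}) := hO.preimage a
  haveI : IsAffine ((b ⁻¹ᵁ O : T.Opens) : Scheme.{u}) := hO.preimage b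
  haveI : IsAffine ((ι ⁻¹ᵁ (a ⁻¹ᵁ O) : Z.Opens) : Scheme.{u}) := (hO.preimage a).preimage ι
  have hXle : a' ⁻¹ᵁ O' ≤ pX ⁻¹ᵁ (a ⁻¹ᵁ O) := by
    intro x hx
    show a (pX x) ∈ O
    rw [← Scheme.Hom.comp_apply, hX'.w, Scheme.Hom.comp_apply]
    exact hle hx
  have hTle : b' ⁻¹ᵁ O' ≤ pT ⁻¹ᵁ (b ⁻¹ᵁ O) := by
    intro x hx
    show b (pT x) ∈ O
    rw [← Scheme.Hom.comp_apply, hT'.w, Scheme.Hom.comp_apply]
    exact hle hx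
  have hZle : ι' ⁻¹ᵁ (a' ⁻¹ᵁ O') ≤ pZ ⁻¹ᵁ (ι ⁻¹ᵁ (a ⁻¹ᵁ O)) := by
    intro z hz
    show ι (pZ z) ∈ a ⁻¹ᵁ O
    rw [← Scheme.Hom.comp_apply, hZ'.w, Scheme.Hom.comp_apply]
    exact hXle hz
  have hZT : ι' ⁻¹ᵁ (a' ⁻¹ᵁ O') ≤ ξ' ⁻¹ᵁ (b' ⁻¹ᵁ O') := preimage_le ι' ξ' a' b' hξ2 O'
  have pbX : IsPullback (pX.resLE (a ⁻¹ᵁ O) (a' ⁻¹ᵁ O') hXle) (a'.resLE O' (a' ⁻¹ᵁ O') le_rfl)
      (a.resLE O (a ⁻¹ᵁ O) le_rfl) (pP.resLE O O' hle) :=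
    Scheme.Hom.isPullback_resLE hX' hle le_rfl (UY := a' ⁻¹ᵁ O') (inf_eq_right.mpr hXle).symm
  have pbT : IsPullback (pT.resLE (b ⁻¹ᵁ O) (b' ⁻¹ᵁ O') hTle) (b'.resLE O' (b' ⁻¹ᵁ O') le_rfl)
      (b.resLE O (b ⁻¹ᵁ O) le_rfl) (pP.resLE O O' hle) :=
    Scheme.Hom.isPullback_resLE hT' hle le_rfl (UY := b' ⁻¹ᵁ O') (inf_eq_right.mpr hTle).symm
  have pbZ : IsPullback (pZ.resLE (ι ⁻¹ᵁ (a ⁻¹ᵁ O)) (ι' ⁻¹ᵁ (a' ⁻¹ᵁ O')) hZle)
      (ι'.resLE (a' ⁻¹ᵁ O') (ι' ⁻¹ᵁ (a' ⁻¹ᵁ O')) le_rfl)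
      (ι.resLE (a ⁻¹ᵁ O) (ι ⁻¹ᵁ (a ⁻¹ᵁ O)) le_rfl) (pX.resLE (a ⁻¹ᵁ O) (a' ⁻¹ᵁ O') hXle) :=
    Scheme.Hom.isPullback_resLE hZ' hXle le_rfl (UY := ι' ⁻¹ᵁ (a' ⁻¹ᵁ O'))
      (inf_eq_right.mpr hZle).symm
  haveI : IsAffine ((a' ⁻¹ᵁ O' : X'.Opens) : Scheme.{u}) := IsAffine.of_isPullback pbX
  haveI : IsAffine ((b' ⁻¹ᵁ O' : T'.Opens) : Scheme.{u}) := IsAffine.of_isPullback pbT
  -- the pushout square over `O`
  have hPO := localPO_of_isPushout ι ξ a b H hP O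
  unfold LocalPO at hPO
  rw [← Scheme.Hom.resLE_eq_morphismRestrict, ← Scheme.Hom.resLE_eq_morphismRestrict,
    ← Scheme.Hom.resLE_eq_morphismRestrict] at hPO
  haveI : IsClosedImmersion (ι.resLE (a ⁻¹ᵁ O) (ι ⁻¹ᵁ (a ⁻¹ᵁ O)) le_rfl) := by
    rw [Scheme.Hom.resLE_eq_morphismRestrict]
    infer_instance
  have hw1 : ξ'.resLE (b' ⁻¹ᵁ O') (ι' ⁻¹ᵁ (a' ⁻¹ᵁ O')) hZT ≫ pT.resLE (b ⁻¹ᵁ O) (b' ⁻¹ᵁ O') hTle =
      pZ.resLE (ι ⁻¹ᵁ (a ⁻¹ᵁ O)) (ι' ⁻¹ᵁ (a' ⁻¹ᵁ O')) hZle ≫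
        ξ.resLE (b ⁻¹ᵁ O) (ι ⁻¹ᵁ (a ⁻¹ᵁ O)) (preimage_le ι ξ a b hP.w O) := by
    rw [← cancel_mono (b ⁻¹ᵁ O).ι, Category.assoc, Category.assoc, Scheme.Hom.resLE_comp_ι,
      Scheme.Hom.resLE_comp_ι_assoc, Scheme.Hom.resLE_comp_ι, Scheme.Hom.resLE_comp_ι_assoc, hξ1]
  have hw2 : ι'.resLE (a' ⁻¹ᵁ O') (ι' ⁻¹ᵁ (a' ⁻¹ᵁ O')) le_rfl ≫ a'.resLE O' (a' ⁻¹ᵁ O') le_rfl =
      ξ'.resLE (b' ⁻¹ᵁ O') (ι' ⁻¹ᵁ (a' ⁻¹ᵁ O')) hZT ≫ b'.resLE O' (b' ⁻¹ᵁ O') le_rfl := by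
    rw [← cancel_mono O'.ι, Category.assoc, Category.assoc, Scheme.Hom.resLE_comp_ι,
      Scheme.Hom.resLE_comp_ι_assoc, Scheme.Hom.resLE_comp_ι, Scheme.Hom.resLE_comp_ι_assoc, hξ2]
  have hres := isPushout_of_affine_pullback _ _ _ _ hPO (pP.resLE O O' hle) _ _ pbX _ _ pbT _ _ pbZ
    (ξ'.resLE (b' ⁻¹ᵁ O') (ι' ⁻¹ᵁ (a' ⁻¹ᵁ O')) hZT) hw1 hw2 hinj
  refine ⟨O', hπ, ?_, ?_⟩
  · unfold LocalPO
    rw [← Scheme.Hom.resLE_eq_morphismRestrict, ← Scheme.Hom.resLE_eq_morphismRestrict,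
      ← Scheme.Hom.resLE_eq_morphismRestrict]
    exact hres
  · intro t
    exact ⟨GoodPair.top _ _, trivial⟩

end General

end Groth.Agent.Helper8.Push
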