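import Mathlib
import Groth.Agent.Helper8.PushV

/-!
# Pushouts of schemes, part W: arbitrary base change of a Ferrand pushout with `Z` flat over the base

* `isPushout_baseChange_of_flat`: `X ⊔_Z T = P → S` with `Z` flat over `S`; then for every `S' → S`
  the base changed square is a pushout square.
* `flat_of_isPushout`: if `X`, `T`, `Z` are flat over `S` then so is `P`.
-/

set_option autoImplicit false
universe u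

open CategoryTheory CategoryTheory.Limits AlgebraicGeometry Opposite TopologicalSpace TensorProduct

namespace Groth.Agent.Helper8.Push

section Algebra

/-- a fibre product of flat algebras over a flat algebra along a surjection is flat. -/
theorem flat_of_fibreProduct_cat {R R₀ A' B A : CommRingCat.{u}}
    (σ : R ⟶ R₀) (α : R₀ ⟶ A') (β : R₀ ⟶ B) (p : A' ⟶ A) (q : B ⟶ A) (comm : α ≫ p = β ≫ q)
    (hp : Function.Surjective p.hom) (hflat : (σ ≫ α ≫ p).hom.Flat)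
    (hflat₁ : (σ ≫ α).hom.Flat) (hflat₂ : (σ ≫ β).hom.Flat)
    (hinj : ∀ r r' : R₀, α.hom r = α.hom r' → β.hom r = β.hom r' → r = r')
    (hsurj : ∀ (x : A') (y : B), p.hom x = q.hom y → ∃ r : R₀, α.hom r = x ∧ β.hom r = y) :
    σ.hom.Flat := by
  letI : Algebra R R₀ := σ.hom.toAlgebra
  letI : Algebra R A' := (σ ≫ α).hom.toAlgebra
  letI : Algebra R B := (σ ≫ β).hom.toAlgebra
  letI : Algebra R A := (σ ≫ α ≫ p).hom.toAlgebra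
  haveI : Module.Flat R A := hflat
  haveI : Module.Flat R A' := hflat₁
  haveI : Module.Flat R B := hflat₂
  haveI : Module.Flat R (A' × B) := FlatKer.flat_prod
  have hcomm : ∀ r : R₀, q.hom (β.hom r) = p.hom (α.hom r) := fun r =>
    (congrArg (fun φ : R₀ ⟶ A => φ.hom r) comm).symm
  let αₐ : R₀ →ₐ[R] A' := { α.hom with commutes' := fun r => rfl }
  let βₐ : R₀ →ₐ[R] B := { β.hom with commutes' := fun r => rfl }
  let pₐ : A' →ₐ[R] A := { p.hom with commutes' := fun r => rfl }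
  let qₐ : B →ₐ[R] A := { q.hom with commutes' := fun r => hcomm (σ.hom r) }
  let ii : R₀ →ₗ[R] A' × B := αₐ.toLinearMap.prod βₐ.toLinearMap
  let gg : A' × B →ₗ[R] A := pₐ.toLinearMap.coprod (-qₐ.toLinearMap)
  have hii : ∀ r : R₀, ii r = (α.hom r, β.hom r) := fun r => rfl
  have hgg : ∀ (x : A') (y : B), gg (x, y) = p.hom x - q.hom y := by
    intro x y
    show p.hom x + -(q.hom y) = _
    ring
  have hi : Function.Injective ii := by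
    intro r r' h
    rw [hii, hii] at h
    exact hinj r r' (congrArg Prod.fst h) (congrArg Prod.snd h)
  have hg : Function.Surjective gg := by
    intro y
    obtain ⟨x, rfl⟩ := hp y
    exact ⟨(x, 0), by rw [hgg, map_zero, sub_zero]⟩
  have hex : Function.Exact ii gg := by
    rintro ⟨x, y⟩
    rw [hgg, sub_eq_zero]
    constructor
    · intro h
      obtain ⟨r, hr1, hr2⟩ := hsurj x y h
      exact ⟨r, by rw [hii, hr1, hr2]⟩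
    · rintro ⟨r, hr⟩
      rw [hii] at hr
      have h1 : α.hom r = x := congrArg Prod.fst hr
      have h2 : β.hom r = y := congrArg Prod.snd hr
      rw [← h1, ← h2, hcomm]
  have : Module.Flat R R₀ := FlatKer.flat_ker ii gg hi hg hex
  exact this

end Algebra

section Local

variable {X T Z F : Scheme.{u}} (ι : Z ⟶ X) (ξ : Z ⟶ T) (a : X ⟶ F) (b : T ⟶ F)
  [IsClosedImmersion ι] (H : ∀ t : T, ∃ k : GoodPair ι ξ, t ∈ k.W)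

include H in
/-- the restriction of a pushout square over an open, in `resLE` form. -/
theorem isPushout_resLE_of_isPushout (hP : IsPushout ι ξ a b) (O : F.Opens) :
    IsPushout (ι.resLE (a ⁻¹ᵁ O) (ι ⁻¹ᵁ (a ⁻¹ᵁ O)) le_rfl)
      (ξ.resLE (b ⁻¹ᵁ O) (ι ⁻¹ᵁ (a ⁻¹ᵁ O)) (preimage_le ι ξ a b hP.w O))
      (a.resLE O (a ⁻¹ᵁ O) le_rfl) (b.resLE O (b ⁻¹ᵁ O) le_rfl) := by
  have hPO := localPO_of_isPushout ι ξ a b H hP O
  unfold LocalPO at hPO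
  rw [← Scheme.Hom.resLE_eq_morphismRestrict, ← Scheme.Hom.resLE_eq_morphismRestrict,
    ← Scheme.Hom.resLE_eq_morphismRestrict] at hPO
  exact hPO

/-- flatness of a morphism to `S` restricted to affine opens, on global sections. -/
lemma flat_appTop_resLE {Y S : Scheme.{u}} (m : Y ⟶ S) [Flat m] {W : S.Opens} {V : Y.Opens}
    (hW : IsAffineOpen W) (hV : IsAffineOpen V) (e : V ≤ m ⁻¹ᵁ W) :
    (m.resLE W V e).appTop.hom.Flat := by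
  haveI : IsAffine (W : Scheme.{u}) := hW
  haveI : IsAffine (V : Scheme.{u}) := hV
  have h : Flat (m.resLE W V e) := IsZariskiLocalAtSource.resLE e inferInstance
  exact (HasRingHomProperty.iff_of_isAffine (P := @Flat)).mp h

end Local

section Main

variable {X T Z F : Scheme.{u}} (ι : Z ⟶ X) (ξ : Z ⟶ T) (a : X ⟶ F) (b : T ⟶ F)
  [IsClosedImmersion ι] (H : ∀ t : T, ∃ k : GoodPair ι ξ, t ∈ k.W)

include H in
set_option maxHeartbeats 1600000 in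
/-- **arbitrary base change of a Ferrand pushout square with `Z` flat over the base.** -/
theorem isPushout_baseChange_of_flat (hP : IsPushout ι ξ a b)
    {S S' : Scheme.{u}} (s : F ⟶ S) (g : S' ⟶ S) [Flat (ι ≫ a ≫ s)]
    {P' X' T' Z' : Scheme.{u}} (pP : P' ⟶ F) (sP' : P' ⟶ S') (hP' : IsPullback pP sP' s g)
    (pX : X' ⟶ X) (a' : X' ⟶ P') (hX' : IsPullback pX a' a pP)
    (pT : T' ⟶ T) (b' : T' ⟶ P') (hT' : IsPullback pT b' b pP)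
    (pZ : Z' ⟶ Z) (ι' : Z' ⟶ X') (hZ' : IsPullback pZ ι' ι pX)
    (ξ' : Z' ⟶ T') (hξ1 : ξ' ≫ pT = pZ ≫ ξ) (hξ2 : ι' ≫ a' = ξ' ≫ b') :
    IsPushout ι' ξ' a' b' := by
  haveI : IsAffineHom a := isAffineHom_of_isPushout ι ξ a b H hP
  haveI : IsClosedImmersion b := (of_isPushout ι ξ H hP).2.1
  refine isPushout_pullback_of_local_inj ι ξ a b H hP pP pX a' hX' pT b' hT' pZ ι' hZ' ξ' hξ1 hξ2 ?_
  intro π
  have hπW₀ : s (pP π) ∈ (⊤ : S.Opens) := trivial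
  obtain ⟨W, hW, hπW, -⟩ := Opens.isBasis_iff_nbhd.mp S.isBasis_affineOpens hπW₀
  have hπW' : sP' π ∈ g ⁻¹ᵁ W := by
    show g (sP' π) ∈ W
    rw [← Scheme.Hom.comp_apply, ← hP'.w, Scheme.Hom.comp_apply]
    exact hπW
  obtain ⟨W', hW', hπW'', hW'le⟩ := Opens.isBasis_iff_nbhd.mp S'.isBasis_affineOpens hπW'
  have hπO₀ : pP π ∈ s ⁻¹ᵁ W := hπW
  obtain ⟨O, hO, hπO, hOle⟩ := Opens.isBasis_iff_nbhd.mp F.isBasis_affineOpens hπO₀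
  have pbP : IsPullback (pP.resLE O (pP ⁻¹ᵁ O ⊓ sP' ⁻¹ᵁ W') inf_le_left)
      (sP'.resLE W' (pP ⁻¹ᵁ O ⊓ sP' ⁻¹ᵁ W') inf_le_right) (s.resLE W O hOle)
      (g.resLE W W' hW'le) :=
    Scheme.Hom.isPullback_resLE hP' hW'le hOle (UY := pP ⁻¹ᵁ O ⊓ sP' ⁻¹ᵁ W') rfl
  haveI : IsAffine (W : Scheme.{u}) := hW
  haveI : IsAffine (W' : Scheme.{u}) := hW'
  haveI : IsAffine (O : Scheme.{u}) := hO
  have hO' : IsAffine ((pP ⁻¹ᵁ O ⊓ sP' ⁻¹ᵁ W' : P'.Opens) : Scheme.{u}) := IsAffine.of_isPullback pbP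
  haveI := hO'
  refine ⟨O, pP ⁻¹ᵁ O ⊓ sP' ⁻¹ᵁ W', hO, hO', ⟨hπO, hπW''⟩, inf_le_left, ?_⟩
  -- abbreviations
  have hle : pP ⁻¹ᵁ O ⊓ sP' ⁻¹ᵁ W' ≤ pP ⁻¹ᵁ O := inf_le_left
  haveI : IsAffine ((a ⁻¹ᵁ O : X.Opens) : Scheme.{u}) := hO.preimage a
  haveI : IsAffine ((b ⁻¹ᵁ O : T.Opens) : Scheme.{u}) := hO.preimage b
  haveI : IsAffine ((ι ⁻¹ᵁ (a ⁻¹ᵁ O) : Z.Opens) : Scheme.{u}) := (hO.preimage a).preimage ι
  have hXle : a' ⁻¹ᵁ (pP ⁻¹ᵁ O ⊓ sP' ⁻¹ᵁ W') ≤ pX ⁻¹ᵁ (a ⁻¹ᵁ O) := by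
    intro x hx
    show a (pX x) ∈ O
    rw [← Scheme.Hom.comp_apply, hX'.w, Scheme.Hom.comp_apply]
    exact hle hx
  have hTle : b' ⁻¹ᵁ (pP ⁻¹ᵁ O ⊓ sP' ⁻¹ᵁ W') ≤ pT ⁻¹ᵁ (b ⁻¹ᵁ O) := by
    intro x hx
    show b (pT x) ∈ O
    rw [← Scheme.Hom.comp_apply, hT'.w, Scheme.Hom.comp_apply]
    exact hle hx
  have pbX : IsPullback (pX.resLE (a ⁻¹ᵁ O) (a' ⁻¹ᵁ (pP ⁻¹ᵁ O ⊓ sP' ⁻¹ᵁ W')) hXle)
      (a'.resLE (pP ⁻¹ᵁ O ⊓ sP' ⁻¹ᵁ W') (a' ⁻¹ᵁ (pP ⁻¹ᵁ O ⊓ sP' ⁻¹ᵁ W')) le_rfl)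
      (a.resLE O (a ⁻¹ᵁ O) le_rfl) (pP.resLE O (pP ⁻¹ᵁ O ⊓ sP' ⁻¹ᵁ W') hle) :=
    Scheme.Hom.isPullback_resLE hX' hle le_rfl (UY := a' ⁻¹ᵁ (pP ⁻¹ᵁ O ⊓ sP' ⁻¹ᵁ W'))
      (inf_eq_right.mpr hXle).symm
  have pbT : IsPullback (pT.resLE (b ⁻¹ᵁ O) (b' ⁻¹ᵁ (pP ⁻¹ᵁ O ⊓ sP' ⁻¹ᵁ W')) hTle)
      (b'.resLE (pP ⁻¹ᵁ O ⊓ sP' ⁻¹ᵁ W') (b' ⁻¹ᵁ (pP ⁻¹ᵁ O ⊓ sP' ⁻¹ᵁ W')) le_rfl)
      (b.resLE O (b ⁻¹ᵁ O) le_rfl) (pP.resLE O (pP ⁻¹ᵁ O ⊓ sP' ⁻¹ᵁ W') hle) :=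
    Scheme.Hom.isPullback_resLE hT' hle le_rfl (UY := b' ⁻¹ᵁ (pP ⁻¹ᵁ O ⊓ sP' ⁻¹ᵁ W'))
      (inf_eq_right.mpr hTle).symm
  have hPO := isPushout_resLE_of_isPushout ι ξ a b H hP O
  obtain ⟨hinj₀, hsurj₀⟩ := sections_exact_of_isPushout hPO
  haveI : IsClosedImmersion (ι.resLE (a ⁻¹ᵁ O) (ι ⁻¹ᵁ (a ⁻¹ᵁ O)) le_rfl) := by
    rw [Scheme.Hom.resLE_eq_morphismRestrict]
    infer_instance
  have hp : Function.Surjective (ι.resLE (a ⁻¹ᵁ O) (ι ⁻¹ᵁ (a ⁻¹ᵁ O)) le_rfl).appTop.hom :=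
    (IsClosedImmersion.isAffine_surjective_of_isAffine _).2
  have comm : (a.resLE O (a ⁻¹ᵁ O) le_rfl).appTop ≫
      (ι.resLE (a ⁻¹ᵁ O) (ι ⁻¹ᵁ (a ⁻¹ᵁ O)) le_rfl).appTop =
      (b.resLE O (b ⁻¹ᵁ O) le_rfl).appTop ≫
      (ξ.resLE (b ⁻¹ᵁ O) (ι ⁻¹ᵁ (a ⁻¹ᵁ O)) (preimage_le ι ξ a b hP.w O)).appTop := by
    rw [← Scheme.Hom.comp_appTop, ← Scheme.Hom.comp_appTop, hPO.w]
  -- flatness
  have hZW : ι ⁻¹ᵁ (a ⁻¹ᵁ O) ≤ (ι ≫ a ≫ s) ⁻¹ᵁ W := by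
    intro z hz
    have h1 : a (ι z) ∈ O := hz
    have h2 : s (a (ι z)) ∈ W := hOle h1
    exact h2
  have hfl := flat_appTop_resLE (ι ≫ a ≫ s) hW ((hO.preimage a).preimage ι) hZW
  have hcomp : (ι ≫ a ≫ s).resLE W (ι ⁻¹ᵁ (a ⁻¹ᵁ O)) hZW =
      ι.resLE (a ⁻¹ᵁ O) (ι ⁻¹ᵁ (a ⁻¹ᵁ O)) le_rfl ≫ a.resLE O (a ⁻¹ᵁ O) le_rfl ≫
        s.resLE W O hOle := by
    rw [← cancel_mono (Scheme.Opens.ι W), Scheme.Hom.resLE_comp_ι, Category.assoc, Category.assoc,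
      Scheme.Hom.resLE_comp_ι, Scheme.Hom.resLE_comp_ι_assoc, Scheme.Hom.resLE_comp_ι_assoc]
  have hflat : ((s.resLE W O hOle).appTop ≫ (a.resLE O (a ⁻¹ᵁ O) le_rfl).appTop ≫
      (ι.resLE (a ⁻¹ᵁ O) (ι ⁻¹ᵁ (a ⁻¹ᵁ O)) le_rfl).appTop).hom.Flat := by
    rw [hcomp, Scheme.Hom.comp_appTop, Scheme.Hom.comp_appTop, Category.assoc] at hfl
    exact hfl
  exact inj_of_flat_cat (s.resLE W O hOle).appTop (g.resLE W W' hW'le).appTop _ _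
    (isPushout_appTop_of_isPullback pbP) _ _ _ _ comm hp hflat _ _
    (isPushout_appTop_of_isPullback pbX) _ _ (isPushout_appTop_of_isPullback pbT)
    (fun r r' h1 h2 => hinj₀ r r' h2 h1)
    (fun x y hxy => by
      obtain ⟨c, hc1, hc2⟩ := hsurj₀ y x hxy.symm
      exact ⟨c, hc2, hc1⟩)

include H in
set_option maxHeartbeats 1600000 in
/-- the pushout is flat over the base if the three pieces are. -/
theorem flat_of_isPushout (hP : IsPushout ι ξ a b)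
    {S : Scheme.{u}} (s : F ⟶ S) [Flat (ι ≫ a ≫ s)] [Flat (a ≫ s)] [Flat (b ≫ s)] : Flat s := by
  haveI : IsAffineHom a := isAffineHom_of_isPushout ι ξ a b H hP
  haveI : IsClosedImmersion b := (of_isPushout ι ξ H hP).2.1
  rw [IsZariskiLocalAtSource.iff_exists_resLE (P := @Flat)]
  intro x
  have hxW₀ : s x ∈ (⊤ : S.Opens) := trivial
  obtain ⟨W, hW, hxW, -⟩ := Opens.isBasis_iff_nbhd.mp S.isBasis_affineOpens hxW₀
  have hxO₀ : x ∈ s ⁻¹ᵁ W := hxW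
  obtain ⟨O, hO, hxO, hOle⟩ := Opens.isBasis_iff_nbhd.mp F.isBasis_affineOpens hxO₀
  refine ⟨W, O, hxO, hOle, ?_⟩
  haveI : IsAffine (W : Scheme.{u}) := hW
  haveI : IsAffine (O : Scheme.{u}) := hO
  haveI : IsAffine ((a ⁻¹ᵁ O : X.Opens) : Scheme.{u}) := hO.preimage a
  haveI : IsAffine ((b ⁻¹ᵁ O : T.Opens) : Scheme.{u}) := hO.preimage b
  haveI : IsAffine ((ι ⁻¹ᵁ (a ⁻¹ᵁ O) : Z.Opens) : Scheme.{u}) := (hO.preimage a).preimage ι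
  have hPO := isPushout_resLE_of_isPushout ι ξ a b H hP O
  obtain ⟨hinj₀, hsurj₀⟩ := sections_exact_of_isPushout hPO
  haveI : IsClosedImmersion (ι.resLE (a ⁻¹ᵁ O) (ι ⁻¹ᵁ (a ⁻¹ᵁ O)) le_rfl) := by
    rw [Scheme.Hom.resLE_eq_morphismRestrict]
    infer_instance
  have hp : Function.Surjective (ι.resLE (a ⁻¹ᵁ O) (ι ⁻¹ᵁ (a ⁻¹ᵁ O)) le_rfl).appTop.hom :=
    (IsClosedImmersion.isAffine_surjective_of_isAffine _).2
  have comm : (a.resLE O (a ⁻¹ᵁ O) le_rfl).appTop ≫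
      (ι.resLE (a ⁻¹ᵁ O) (ι ⁻¹ᵁ (a ⁻¹ᵁ O)) le_rfl).appTop =
      (b.resLE O (b ⁻¹ᵁ O) le_rfl).appTop ≫
      (ξ.resLE (b ⁻¹ᵁ O) (ι ⁻¹ᵁ (a ⁻¹ᵁ O)) (preimage_le ι ξ a b hP.w O)).appTop := by
    rw [← Scheme.Hom.comp_appTop, ← Scheme.Hom.comp_appTop, hPO.w]
  -- flatness of the three pieces
  have hZW : ι ⁻¹ᵁ (a ⁻¹ᵁ O) ≤ (ι ≫ a ≫ s) ⁻¹ᵁ W := by
    intro z hz
    have h1 : a (ι z) ∈ O := hz
    have h2 : s (a (ι z)) ∈ W := hOle h1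
    exact h2
  have hXW : a ⁻¹ᵁ O ≤ (a ≫ s) ⁻¹ᵁ W := by
    intro z hz
    have h1 : a z ∈ O := hz
    have h2 : s (a z) ∈ W := hOle h1
    exact h2
  have hTW : b ⁻¹ᵁ O ≤ (b ≫ s) ⁻¹ᵁ W := by
    intro z hz
    have h1 : b z ∈ O := hz
    have h2 : s (b z) ∈ W := hOle h1
    exact h2
  have hfl := flat_appTop_resLE (ι ≫ a ≫ s) hW ((hO.preimage a).preimage ι) hZW
  have hfl₁ := flat_appTop_resLE (a ≫ s) hW (hO.preimage a) hXW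
  have hfl₂ := flat_appTop_resLE (b ≫ s) hW (hO.preimage b) hTW
  have hcomp : (ι ≫ a ≫ s).resLE W (ι ⁻¹ᵁ (a ⁻¹ᵁ O)) hZW =
      ι.resLE (a ⁻¹ᵁ O) (ι ⁻¹ᵁ (a ⁻¹ᵁ O)) le_rfl ≫ a.resLE O (a ⁻¹ᵁ O) le_rfl ≫
        s.resLE W O hOle := by
    rw [← cancel_mono (Scheme.Opens.ι W), Scheme.Hom.resLE_comp_ι, Category.assoc, Category.assoc,
      Scheme.Hom.resLE_comp_ι, Scheme.Hom.resLE_comp_ι_assoc, Scheme.Hom.resLE_comp_ι_assoc]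
  have hcomp₁ : (a ≫ s).resLE W (a ⁻¹ᵁ O) hXW = a.resLE O (a ⁻¹ᵁ O) le_rfl ≫ s.resLE W O hOle := by
    rw [← cancel_mono (Scheme.Opens.ι W), Scheme.Hom.resLE_comp_ι, Category.assoc,
      Scheme.Hom.resLE_comp_ι, Scheme.Hom.resLE_comp_ι_assoc]
  have hcomp₂ : (b ≫ s).resLE W (b ⁻¹ᵁ O) hTW = b.resLE O (b ⁻¹ᵁ O) le_rfl ≫ s.resLE W O hOle := by
    rw [← cancel_mono (Scheme.Opens.ι W), Scheme.Hom.resLE_comp_ι, Category.assoc,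
      Scheme.Hom.resLE_comp_ι, Scheme.Hom.resLE_comp_ι_assoc]
  have hflat : ((s.resLE W O hOle).appTop ≫ (a.resLE O (a ⁻¹ᵁ O) le_rfl).appTop ≫
      (ι.resLE (a ⁻¹ᵁ O) (ι ⁻¹ᵁ (a ⁻¹ᵁ O)) le_rfl).appTop).hom.Flat := by
    rw [hcomp, Scheme.Hom.comp_appTop, Scheme.Hom.comp_appTop, Category.assoc] at hfl
    exact hfl
  have hflat₁ : ((s.resLE W O hOle).appTop ≫ (a.resLE O (a ⁻¹ᵁ O) le_rfl).appTop).hom.Flat := by
    rw [hcomp₁, Scheme.Hom.comp_appTop] at hfl₁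
    exact hfl₁
  have hflat₂ : ((s.resLE W O hOle).appTop ≫ (b.resLE O (b ⁻¹ᵁ O) le_rfl).appTop).hom.Flat := by
    rw [hcomp₂, Scheme.Hom.comp_appTop] at hfl₂
    exact hfl₂
  have key := flat_of_fibreProduct_cat (s.resLE W O hOle).appTop _ _ _ _ comm hp hflat hflat₁ hflat₂
    (fun r r' h1 h2 => hinj₀ r r' h2 h1)
    (fun x y hxy => by
      obtain ⟨c, hc1, hc2⟩ := hsurj₀ y x hxy.symm
      exact ⟨c, hc2, hc1⟩)
  exact (HasRingHomProperty.iff_of_isAffine (P := @Flat)).mpr key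

end Main

end Groth.Agent.Helper8.Push
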