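import Mathlib
import Groth.Prelude.Def_W4c3jacimperfPinch
import Groth.Agent.Helper8.PushW
import Groth.Agent.Helper8.PushE

/-!
# Pushouts of schemes, part Z: base change of a pinching with projective cokernel
-/

set_option autoImplicit false
universe u

open CategoryTheory CategoryTheory.Limits AlgebraicGeometry Opposite TopologicalSpace TensorProduct

namespace Groth.Agent.Helper8.Push

section Algebra

set_option maxHeartbeats 800000 in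
/-- purity from a flat cokernel of `B → A`: the map `R₀ ⊗_R R' → A' ⊗_R R'` is injective. -/
theorem inj_of_flat_coker_cat {R R' R₀ A' B A C C₁ : CommRingCat.{u}}
    (σ : R ⟶ R₀) (ρ : R ⟶ R') (γ : R₀ ⟶ C) (δ : R' ⟶ C) (hC : IsPushout σ ρ γ δ)
    (α : R₀ ⟶ A') (β : R₀ ⟶ B) (p : A' ⟶ A) (q : B ⟶ A) (comm : α ≫ p = β ≫ q)
    (hq : Function.Injective q.hom)
    (i₁ : A' ⟶ C₁) (j₁ : C ⟶ C₁) (h₁ : IsPushout α γ i₁ j₁)
    (hinj : ∀ r r' : R₀, α.hom r = α.hom r' → β.hom r = β.hom r' → r = r')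
    (hsurj : ∀ (x : A') (y : B), p.hom x = q.hom y → ∃ r : R₀, α.hom r = x ∧ β.hom r = y)
    (N : Type u) [AddCommGroup N] [Module R N] [Module.Flat R N]
    (ψ : A →+ N) (hψl : ∀ (r : R) (x : A), ψ ((σ ≫ α ≫ p).hom r * x) = r • ψ x)
    (hψs : Function.Surjective (ψ ∘ p.hom)) (hψk : ∀ x : A, ψ x = 0 ↔ x ∈ Set.range q.hom) :
    Function.Injective j₁.hom := by
  letI : Algebra R R₀ := σ.hom.toAlgebra
  letI : Algebra R R' := ρ.hom.toAlgebra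
  letI : Algebra R A' := (σ ≫ α).hom.toAlgebra
  have hcomm : ∀ r : R₀, q.hom (β.hom r) = p.hom (α.hom r) := fun r =>
    (congrArg (fun φ : R₀ ⟶ A => φ.hom r) comm).symm
  let αₐ : R₀ →ₐ[R] A' := { α.hom with commutes' := fun r => rfl }
  let ψ' : A' →ₗ[R] N :=
    { toFun := fun x => ψ (p.hom x)
      map_add' := fun x y => by rw [map_add, map_add]
      map_smul' := fun r x => by
        show ψ (p.hom (r • x)) = r • ψ (p.hom x)
        rw [Algebra.smul_def, map_mul, ← hψl]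
        rfl }
  have hα : Function.Injective αₐ.toLinearMap := by
    intro r r' h
    have h' : α.hom r = α.hom r' := h
    refine hinj r r' h' (hq ?_)
    rw [hcomm, hcomm, h']
  have hex : Function.Exact αₐ.toLinearMap ψ' := by
    intro x
    show ψ (p.hom x) = 0 ↔ x ∈ Set.range αₐ.toLinearMap
    rw [hψk]
    constructor
    · rintro ⟨y, hy⟩
      obtain ⟨r, hr, -⟩ := hsurj x y hy.symm
      exact ⟨r, hr⟩
    · rintro ⟨r, rfl⟩
      exact ⟨β.hom r, hcomm r⟩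
  have hpure : Function.Injective (αₐ.toLinearMap.lTensor R') :=
    FlatKer.lTensor_injective_of_flat_coker αₐ.toLinearMap ψ' hα hψs hex R'
  have t : IsPushout ρ σ
      (CommRingCat.ofHom (S := R' ⊗[R] R₀) Algebra.TensorProduct.includeLeftRingHom)
      (CommRingCat.ofHom (S := R' ⊗[R] R₀) Algebra.TensorProduct.includeRight.toRingHom) :=
    CommRingCat.isPushout_tensorProduct R R' R₀
  have t₁ : IsPushout ρ (σ ≫ α)
      (CommRingCat.ofHom (S := R' ⊗[R] A') Algebra.TensorProduct.includeLeftRingHom)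
      (CommRingCat.ofHom (S := R' ⊗[R] A') Algebra.TensorProduct.includeRight.toRingHom) :=
    CommRingCat.isPushout_tensorProduct R R' A'
  have s₁ : IsPushout ρ (σ ≫ α) (δ ≫ j₁) i₁ := (hC.paste_horiz h₁).flip
  let e := hC.flip.isoIsPushout _ _ t
  let e₁ := s₁.isoIsPushout _ _ t₁
  have eδ : δ ≫ e.hom = _ := IsPushout.inl_isoIsPushout_hom _ _ hC.flip t
  have eγ : γ ≫ e.hom = _ := IsPushout.inr_isoIsPushout_hom _ _ hC.flip t
  have e₁δ : (δ ≫ j₁) ≫ e₁.hom = _ := IsPushout.inl_isoIsPushout_hom _ _ s₁ t₁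
  have e₁i : i₁ ≫ e₁.hom = _ := IsPushout.inr_isoIsPushout_hom _ _ s₁ t₁
  let Mα : CommRingCat.of (R' ⊗[R] R₀) ⟶ CommRingCat.of (R' ⊗[R] A') :=
    CommRingCat.ofHom (Algebra.TensorProduct.map (AlgHom.id R R') αₐ).toRingHom
  have key₁ : e.hom ≫ Mα = j₁ ≫ e₁.hom := by
    apply hC.flip.hom_ext
    · rw [← Category.assoc, eδ, ← Category.assoc, e₁δ]
      ext x
      show Algebra.TensorProduct.map (AlgHom.id R R') αₐ (x ⊗ₜ[R] (1 : R₀)) = x ⊗ₜ[R] (1 : A')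
      rw [Algebra.TensorProduct.map_tmul, map_one]
      rfl
    · rw [← Category.assoc, eγ, ← Category.assoc, ← h₁.w, Category.assoc, e₁i]
      ext x
      show Algebra.TensorProduct.map (AlgHom.id R R') αₐ ((1 : R') ⊗ₜ[R] x) =
        (1 : R') ⊗ₜ[R] α.hom x
      rw [Algebra.TensorProduct.map_tmul, map_one]
      rfl
  have einj : Function.Injective e.hom.hom :=
    ((ConcreteCategory.isIso_iff_bijective e.hom).mp inferInstance).1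
  have hMα : ∀ τ : R' ⊗[R] R₀, Mα.hom τ = αₐ.toLinearMap.lTensor R' τ := by
    intro τ
    induction τ using TensorProduct.induction_on with
    | zero => simp
    | tmul x r =>
      show Algebra.TensorProduct.map (AlgHom.id R R') αₐ (x ⊗ₜ[R] r) = _
      rw [Algebra.TensorProduct.map_tmul, LinearMap.lTensor_tmul]
      rfl
    | add m₁ m₂ h₁ h₂ => rw [map_add, map_add, h₁, h₂]
  have k1 : ∀ c : C, Mα.hom (e.hom.hom c) = e₁.hom.hom (j₁.hom c) := fun c =>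
    congrArg (fun φ : C ⟶ CommRingCat.of (R' ⊗[R] A') => φ.hom c) key₁
  intro c c' hc
  apply einj
  apply hpure
  rw [← hMα, ← hMα, k1, k1, hc]

end Algebra

section CokerData

/-- the flat module and the map to it extracted from `Pinch.CokerProjective`, in the form needed by
`inj_of_flat_coker_cat`. -/
theorem coker_data {Y T Z : Scheme.{u}} (t : T ⟶ Y) (ξ : Z ⟶ T) (U : Y.Opens)
    (hproj : @Pinch.CokerProjective Γ(Y, U) Γ(Z, (ξ ≫ t) ⁻¹ᵁ U) Γ(T, t ⁻¹ᵁ U) _ _ _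
      ((ξ ≫ t).app U).hom.toAlgebra (ξ.app (t ⁻¹ᵁ U)).hom)
    (WT : T.Opens) (WZ : Z.Opens) (hWT : WT = t ⁻¹ᵁ U) (hWZ : WZ = (ξ ≫ t) ⁻¹ᵁ U)
    (e : WZ ≤ ξ ⁻¹ᵁ WT) (e' : WZ ≤ (ξ ≫ t) ⁻¹ᵁ U) :
    ∃ (N : Type u) (_ : AddCommGroup N) (_ : Module Γ(Y, U) N) (_ : Module.Flat Γ(Y, U) N)
      (ψ : Γ((WZ : Scheme.{u}), ⊤) →+ N),
      (∀ (r : Γ(Y, U)) (x : Γ((WZ : Scheme.{u}), ⊤)),
        ψ ((U.topIso.inv ≫ ((ξ ≫ t).resLE U WZ e').appTop).hom r * x) = r • ψ x) ∧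
      Function.Surjective ψ ∧
      ∀ x, ψ x = 0 ↔ x ∈ Set.range (ξ.resLE WT WZ e).appTop.hom := by
  subst hWT hWZ
  letI : Algebra Γ(Y, U) Γ(Z, (ξ ≫ t) ⁻¹ᵁ U) := ((ξ ≫ t).app U).hom.toAlgebra
  let c : Γ(T, t ⁻¹ᵁ U) →+* Γ(Z, (ξ ≫ t) ⁻¹ᵁ U) := (ξ.app (t ⁻¹ᵁ U)).hom
  haveI : Module.Projective Γ(Y, U) (Γ(Z, (ξ ≫ t) ⁻¹ᵁ U) ⧸
      Submodule.span Γ(Y, U) (Set.range c)) := hproj
  -- the span is the range
  have hspan : ∀ y : Γ(Z, (ξ ≫ t) ⁻¹ᵁ U),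
      y ∈ Submodule.span Γ(Y, U) (Set.range c) ↔ y ∈ Set.range c := by
    intro y
    constructor
    · intro hy
      induction hy using Submodule.span_induction with
      | mem x hx => exact hx
      | zero => exact ⟨0, map_zero _⟩
      | add x y _ _ hx hy =>
        obtain ⟨x', rfl⟩ := hx
        obtain ⟨y', rfl⟩ := hy
        exact ⟨x' + y', map_add _ _ _⟩
      | smul r x _ hx =>
        obtain ⟨x', rfl⟩ := hx
        refine ⟨(t.app U).hom r * x', ?_⟩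
        rw [map_mul, Algebra.smul_def]
        rfl
    · intro hy
      exact Submodule.subset_span hy
  have keyA : U.topIso.inv ≫ ((ξ ≫ t).resLE U ((ξ ≫ t) ⁻¹ᵁ U) e').appTop ≫
      ((ξ ≫ t) ⁻¹ᵁ U).topIso.hom = (ξ ≫ t).app U := by
    have h1 : ((ξ ≫ t).resLE U ((ξ ≫ t) ⁻¹ᵁ U) e').appTop =
        U.topIso.hom ≫ (ξ ≫ t).appLE U ((ξ ≫ t) ⁻¹ᵁ U) e' ≫ ((ξ ≫ t) ⁻¹ᵁ U).topIso.inv :=
      Scheme.Hom.resLE_app_top _ _
    rw [h1]
    simp only [Category.assoc, Iso.inv_hom_id, Category.comp_id, Iso.inv_hom_id_assoc]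
    exact Scheme.Hom.appLE_eq_app _
  have keyB : (ξ.resLE (t ⁻¹ᵁ U) ((ξ ≫ t) ⁻¹ᵁ U) e).appTop ≫ ((ξ ≫ t) ⁻¹ᵁ U).topIso.hom =
      (t ⁻¹ᵁ U).topIso.hom ≫ ξ.app (t ⁻¹ᵁ U) := by
    have h1 : (ξ.resLE (t ⁻¹ᵁ U) ((ξ ≫ t) ⁻¹ᵁ U) e).appTop =
        (t ⁻¹ᵁ U).topIso.hom ≫ ξ.appLE (t ⁻¹ᵁ U) ((ξ ≫ t) ⁻¹ᵁ U) e ≫
          ((ξ ≫ t) ⁻¹ᵁ U).topIso.inv :=
      Scheme.Hom.resLE_app_top _ _
    rw [h1]
    simp only [Category.assoc, Iso.inv_hom_id, Category.comp_id]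
    congr 1
    exact Scheme.Hom.appLE_eq_app _
  have keyA' : ∀ r : Γ(Y, U), ((ξ ≫ t) ⁻¹ᵁ U).topIso.hom.hom
      ((U.topIso.inv ≫ ((ξ ≫ t).resLE U ((ξ ≫ t) ⁻¹ᵁ U) e').appTop).hom r) =
      ((ξ ≫ t).app U).hom r := fun r =>
    congrArg (fun φ : Γ(Y, U) ⟶ Γ(Z, (ξ ≫ t) ⁻¹ᵁ U) => φ.hom r)
      ((Category.assoc _ _ _).trans keyA)
  have keyB' : ∀ y : Γ(((t ⁻¹ᵁ U : T.Opens) : Scheme.{u}), ⊤),
      ((ξ ≫ t) ⁻¹ᵁ U).topIso.hom.hom ((ξ.resLE (t ⁻¹ᵁ U) ((ξ ≫ t) ⁻¹ᵁ U) e).appTop.hom y) =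
      c ((t ⁻¹ᵁ U).topIso.hom.hom y) := fun y =>
    congrArg (fun φ : Γ(((t ⁻¹ᵁ U : T.Opens) : Scheme.{u}), ⊤) ⟶ Γ(Z, (ξ ≫ t) ⁻¹ᵁ U) => φ.hom y) keyB
  have εAbij : Function.Bijective ((ξ ≫ t) ⁻¹ᵁ U).topIso.hom.hom :=
    (ConcreteCategory.isIso_iff_bijective ((ξ ≫ t) ⁻¹ᵁ U).topIso.hom).mp inferInstance
  have εBbij : Function.Bijective (t ⁻¹ᵁ U).topIso.hom.hom :=
    (ConcreteCategory.isIso_iff_bijective (t ⁻¹ᵁ U).topIso.hom).mp inferInstance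
  refine ⟨Γ(Z, (ξ ≫ t) ⁻¹ᵁ U) ⧸ Submodule.span Γ(Y, U) (Set.range c),
    inferInstance, inferInstance, inferInstance,
    (Submodule.mkQ (Submodule.span Γ(Y, U) (Set.range c))).toAddMonoidHom.comp
      ((ξ ≫ t) ⁻¹ᵁ U).topIso.hom.hom.toAddMonoidHom, ?_, ?_, ?_⟩
  · intro r x
    show Submodule.Quotient.mk (((ξ ≫ t) ⁻¹ᵁ U).topIso.hom.hom (_ * x)) =
      r • Submodule.Quotient.mk (((ξ ≫ t) ⁻¹ᵁ U).topIso.hom.hom x)
    rw [map_mul, keyA', ← Submodule.Quotient.mk_smul, Algebra.smul_def]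
    rfl
  · intro n
    obtain ⟨y, rfl⟩ := Submodule.Quotient.mk_surjective _ n
    obtain ⟨x, rfl⟩ := εAbij.2 y
    exact ⟨x, rfl⟩
  · intro x
    show Submodule.Quotient.mk (((ξ ≫ t) ⁻¹ᵁ U).topIso.hom.hom x) = 0 ↔ _
    rw [Submodule.Quotient.mk_eq_zero, hspan]
    constructor
    · rintro ⟨y, hy⟩
      obtain ⟨y', rfl⟩ := εBbij.2 y
      refine ⟨y', εAbij.1 ?_⟩
      rw [keyB', hy]
    · rintro ⟨y', rfl⟩
      exact ⟨_, (keyB' y').symm⟩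

end CokerData

section Chart

variable {X T Z F : Scheme.{u}} (ι : Z ⟶ X) (ξ : Z ⟶ T) (a : X ⟶ F) (b : T ⟶ F)
  [IsClosedImmersion ι] (H : ∀ t : T, ∃ k : GoodPair ι ξ, t ∈ k.W)

include H in
/-- every good pair is cut out by an affine open of the pushout. -/
theorem exists_affineOpen_of_goodPair (hP : IsPushout ι ξ a b) (k : GoodPair ι ξ) :
    ∃ O : F.Opens, IsAffineOpen O ∧ a ⁻¹ᵁ O = k.V ∧ b ⁻¹ᵁ O = k.W := by
  let e : P ι ξ ≅ F := (isPushout ι ξ H).isoIsPushout _ _ hP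
  have ha : inl ι ξ H ≫ e.hom = a := IsPushout.inl_isoIsPushout_hom _ _ (isPushout ι ξ H) hP
  have hb : inr ι ξ H ≫ e.hom = b := IsPushout.inr_isoIsPushout_hom _ _ (isPushout ι ξ H) hP
  have ha' : a ≫ e.inv = inl ι ξ H := by rw [← ha, Category.assoc, Iso.hom_inv_id, Category.comp_id]
  have hb' : b ≫ e.inv = inr ι ξ H := by rw [← hb, Category.assoc, Iso.hom_inv_id, Category.comp_id]
  refine ⟨e.inv ⁻¹ᵁ (chart ι ξ k).opensRange, ?_, ?_, ?_⟩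
  · exact (isAffineOpen_opensRange (chart ι ξ k)).preimage_of_isIso e.inv
  · show (a ≫ e.inv) ⁻¹ᵁ (chart ι ξ k).opensRange = k.V
    rw [ha', inl_preimage_chart]
  · show (b ≫ e.inv) ⁻¹ᵁ (chart ι ξ k).opensRange = k.W
    rw [hb', inr_preimage_chart]

end Chart

end Groth.Agent.Helper8.Push
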