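import Mathlib
import Groth.Agent.Helper8.PushAA
import Groth.Agent.Helper8.PushZ
import Groth.Agent.Helper8.PushG
import Groth.Agent.Helper8.PushM

/-!
# Pushouts of schemes, part AB: finite sets of points in affine opens of a pushout of closed immersions
-/

set_option autoImplicit false
universe u

open CategoryTheory CategoryTheory.Limits AlgebraicGeometry Opposite TopologicalSpace

namespace Groth.Agent.Helper8.Push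

/-- for two closed immersions, finite sets of points in affine opens can be put into a good pair. -/
theorem exists_goodPair_finite {X Y Z : Scheme.{u}} (i : Z ⟶ X) (j : Z ⟶ Y)
    [IsClosedImmersion i] [IsClosedImmersion j]
    (EX : Set X) (EY : Set Y) (hEX : EX.Finite) (hEY : EY.Finite)
    (hE : ∀ z : Z, i z ∈ EX ↔ j z ∈ EY)
    {V : X.Opens} (hV : IsAffineOpen V) (hEV : EX ⊆ V) {W : Y.Opens} (hW : IsAffineOpen W)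
    (hEW : EY ⊆ W) :
    ∃ k : GoodPair i j, EX ⊆ k.V ∧ EY ⊆ k.W := by
  have hEZfin : (i ⁻¹' EX).Finite := hEX.preimage i.isClosedEmbedding.injective.injOn
  have hZV : IsAffineOpen (i ⁻¹ᵁ V) := hV.preimage i
  have hZW : IsAffineOpen (j ⁻¹ᵁ W) := hW.preimage j
  have hEZV : i ⁻¹' EX ⊆ (i ⁻¹ᵁ V : Z.Opens) := fun z hz => hEV hz
  have hEZW : i ⁻¹' EX ⊆ (j ⁻¹ᵁ W : Z.Opens) := fun z hz => hEW ((hE z).mp hz)
  -- step A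
  obtain ⟨s, hs1, hs2⟩ := exists_basicOpen_finite hZV (j ⁻¹ᵁ W) (i ⁻¹' EX) hEZfin hEZV hEZW
  obtain ⟨f, hf, hfE⟩ := exists_lift_avoid i hV s EX hEX hEV (fun z hz => hs2 hz)
  have hV₁ : IsAffineOpen (X.basicOpen f) := hV.basicOpen f
  have eV₁ : i ⁻¹ᵁ X.basicOpen f = Z.basicOpen s := by
    rw [Scheme.preimage_basicOpen, hf]
  -- step B
  have hEZ₁ : i ⁻¹' EX ⊆ (i ⁻¹ᵁ X.basicOpen f : Z.Opens) := by
    rw [eV₁]
    exact hs2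
  obtain ⟨s', hs'1, hs'2⟩ := exists_basicOpen_finite hZW (i ⁻¹ᵁ X.basicOpen f) (i ⁻¹' EX) hEZfin
    hEZW hEZ₁
  obtain ⟨g, hg, hgE⟩ := exists_lift_avoid j hW s' EY hEY hEW
    (fun z hz => hs'2 ((hE z).mpr hz))
  have eW₁ : j ⁻¹ᵁ Y.basicOpen g = Z.basicOpen s' := by
    rw [Scheme.preimage_basicOpen, hg]
  -- step C
  have hle : i ⁻¹ᵁ X.basicOpen f ≤ j ⁻¹ᵁ W := eV₁.le.trans hs1
  have hbo : Z.basicOpen ((Z.presheaf.map (homOfLE hle).op).hom s') = Z.basicOpen s' :=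
    (Scheme.basicOpen_res Z s' (homOfLE hle).op).trans (inf_eq_right.mpr hs'1)
  obtain ⟨f₂, hf₂, hf₂E⟩ := exists_lift_avoid i hV₁ ((Z.presheaf.map (homOfLE hle).op).hom s') EX hEX
    hfE (fun z hz => by
      rw [hbo]
      exact hs'2 hz)
  have eV₂ : i ⁻¹ᵁ X.basicOpen f₂ = Z.basicOpen s' := by
    rw [Scheme.preimage_basicOpen, hf₂]
    exact hbo
  exact ⟨⟨X.basicOpen f₂, Y.basicOpen g, hV₁.basicOpen f₂, hW.basicOpen g, by rw [eV₂, eW₁]⟩,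
    hf₂E, hgE⟩

theorem finite_set_in_affineOpen {Y X₁ X₂ X : Scheme.{u}} (θ₁ : Y ⟶ X₁) (θ₂ : Y ⟶ X₂)
    [IsClosedImmersion θ₁] [IsClosedImmersion θ₂]
    (φ₁ : X₁ ⟶ X) (φ₂ : X₂ ⟶ X) (hX : IsPushout θ₁ θ₂ φ₁ φ₂)
    (E : Set ↥X) (hE : E.Finite)
    (h₁ : ∃ U₁ : X₁.Opens, IsAffineOpen U₁ ∧ φ₁ ⁻¹' E ⊆ (U₁ : Set ↥X₁))
    (h₂ : ∃ U₂ : X₂.Opens, IsAffineOpen U₂ ∧ φ₂ ⁻¹' E ⊆ (U₂ : Set ↥X₂)) :
    ∃ U : X.Opens, IsAffineOpen U ∧ E ⊆ (U : Set ↥X) := by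
  have H := goodPairs_of_closedImmersions θ₁ θ₂
  obtain ⟨-, hb, -, ha⟩ := of_isPushout θ₁ θ₂ H hX
  haveI : IsClosedImmersion φ₂ := hb
  haveI : IsClosedImmersion φ₁ := ha
  obtain ⟨U₁, hU₁, hE₁⟩ := h₁
  obtain ⟨U₂, hU₂, hE₂⟩ := h₂
  have hfin₁ : (φ₁ ⁻¹' E).Finite := hE.preimage φ₁.isClosedEmbedding.injective.injOn
  have hfin₂ : (φ₂ ⁻¹' E).Finite := hE.preimage φ₂.isClosedEmbedding.injective.injOn
  have hcomp : ∀ z : Y, θ₁ z ∈ φ₁ ⁻¹' E ↔ θ₂ z ∈ φ₂ ⁻¹' E := by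
    intro z
    show φ₁ (θ₁ z) ∈ E ↔ φ₂ (θ₂ z) ∈ E
    rw [← Scheme.Hom.comp_apply, ← Scheme.Hom.comp_apply, hX.w]
  obtain ⟨k, hkV, hkW⟩ := exists_goodPair_finite θ₁ θ₂ _ _ hfin₁ hfin₂ hcomp hU₁ hE₁ hU₂ hE₂
  obtain ⟨O, hO, hOV, hOW⟩ := exists_affineOpen_of_goodPair θ₁ θ₂ φ₁ φ₂ H hX k
  refine ⟨O, hO, ?_⟩
  intro e he
  rcases jointly_surjective_of_isPushout θ₁ θ₂ H hX e with ⟨x, rfl⟩ | ⟨t, rfl⟩
  · have h : x ∈ φ₁ ⁻¹ᵁ O := by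
      rw [hOV]
      exact hkV he
    exact h
  · have h : t ∈ φ₂ ⁻¹ᵁ O := by
      rw [hOW]
      exact hkW he
    exact h

end Groth.Agent.Helper8.Push
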