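import Mathlib

/-!
# Pushouts of schemes, part AC: a square of schemes which is a pushout of ringed spaces is a pushout
of schemes
-/

set_option autoImplicit false
universe u

open CategoryTheory CategoryTheory.Limits AlgebraicGeometry Opposite TopologicalSpace

namespace Groth.Agent.Helper8.Push

/-- the forgetful functor from schemes to sheafed spaces. -/
noncomputable abbrev FSh : Scheme.{u} ⥤ SheafedSpace CommRingCat.{u} :=
  Scheme.forgetToLocallyRingedSpace ⋙ LocallyRingedSpace.forgetToSheafedSpace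

/-- the forgetful functor from sheafed spaces to topological spaces. -/
noncomputable abbrev TSh : SheafedSpace.{u+1, u, u} CommRingCat.{u} ⥤ TopCat.{u} :=
  SheafedSpace.forget CommRingCat.{u}

theorem jointly_surjective_of_isPushout_sheafedSpace {X Z Z' X' : Scheme.{u}} (ι : Z ⟶ X)
    (q : Z ⟶ Z') (π : X ⟶ X') (ι' : Z' ⟶ X')
    (hpo : IsPushout (FSh.map ι) (FSh.map q) (FSh.map π) (FSh.map ι')) (x' : X') :
    (∃ x, π x = x') ∨ (∃ z', ι' z' = x') := by
  have h1 := hpo.map TSh
  obtain ⟨j, y, hy⟩ := Concrete.isColimit_exists_rep _ h1.isColimit x'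
  rcases j with _ | _ | _
  · left
    refine ⟨ι y, ?_⟩
    rw [← hy]
    simp
    rfl
  · left
    exact ⟨y, hy⟩
  · right
    exact ⟨y, hy⟩

lemma isLocalHom_eqToHom_comp {A B C : CommRingCat.{u}} (h : A = B) (g : B ⟶ C)
    [hg : IsLocalHom g.hom] : IsLocalHom (eqToHom h ≫ g).hom := by
  subst h
  rw [eqToHom_refl, Category.id_comp]
  exact hg

/-- a morphism of sheafed spaces between schemes whose precompositions with a jointly surjective pair of
morphisms of schemes are morphisms of schemes is local on stalks. -/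
theorem isLocalHom_stalkMap_of_comp {X Z' X' Q : Scheme.{u}} (π : X ⟶ X') (u : X ⟶ Q)
    (d₀ : FSh.obj X' ⟶ FSh.obj Q) (h1 : FSh.map π ≫ d₀ = FSh.map u) (x : X) :
    IsLocalHom (d₀.hom.stalkMap (π x)).hom := by
  have e1 : (FSh.map π).hom ≫ d₀.hom = (FSh.map u).hom := congrArg InducedCategory.Hom.hom h1
  have e2 := PresheafedSpace.stalkMap.congr_hom _ _ e1 x
  rw [PresheafedSpace.stalkMap.comp] at e2
  haveI : IsLocalHom ((FSh.map u).hom.stalkMap x).hom := u.toLRSHom.prop x
  have hloc : IsLocalHom ((d₀.hom.stalkMap ((FSh.map π).hom.base x) ≫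
      (FSh.map π).hom.stalkMap x).hom) := by
    rw [e2]
    exact isLocalHom_eqToHom_comp _ _
  have hloc' : IsLocalHom (((FSh.map π).hom.stalkMap x).hom.comp
      (d₀.hom.stalkMap ((FSh.map π).hom.base x)).hom) := hloc
  exact isLocalHom_of_comp (d₀.hom.stalkMap ((FSh.map π).hom.base x)).hom
    ((FSh.map π).hom.stalkMap x).hom

theorem isPushout_of_isPushout_sheafedSpace {X Z Z' X' : Scheme.{u}} (ι : Z ⟶ X)
    (q : Z ⟶ Z') (π : X ⟶ X') (ι' : Z' ⟶ X')
    (hpo : IsPushout (FSh.map ι) (FSh.map q) (FSh.map π) (FSh.map ι')) :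
    IsPushout ι q π ι' := by
  have w : ι ≫ π = q ≫ ι' := FSh.map_injective (by
    rw [Functor.map_comp, Functor.map_comp]
    exact hpo.w)
  -- the descent morphism
  have key : ∀ (Q : Scheme.{u}) (u : X ⟶ Q) (v : Z' ⟶ Q) (huv : ι ≫ u = q ≫ v),
      ∃ d : X' ⟶ Q, π ≫ d = u ∧ ι' ≫ d = v := by
    intro Q u v huv
    have huv' : FSh.map ι ≫ FSh.map u = FSh.map q ≫ FSh.map v := by
      rw [← Functor.map_comp, ← Functor.map_comp, huv]
    set d₀ := hpo.desc (FSh.map u) (FSh.map v) huv' with hd₀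
    have h1 : FSh.map π ≫ d₀ = FSh.map u := hpo.inl_desc _ _ _
    have h2 : FSh.map ι' ≫ d₀ = FSh.map v := hpo.inr_desc _ _ _
    have hlocal : ∀ x' : X', IsLocalHom (d₀.hom.stalkMap x').hom := by
      intro x'
      rcases jointly_surjective_of_isPushout_sheafedSpace ι q π ι' hpo x' with ⟨x, rfl⟩ | ⟨z', rfl⟩
      · exact isLocalHom_stalkMap_of_comp (Z' := Z') π u d₀ h1 x
      · exact isLocalHom_stalkMap_of_comp (Z' := Z') ι' v d₀ h2 z'
    let d : X' ⟶ Q := Scheme.Hom.mk (LocallyRingedSpace.Hom.mk d₀.hom hlocal)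
    have hd : FSh.map d = d₀ := rfl
    refine ⟨d, FSh.map_injective ?_, FSh.map_injective ?_⟩
    · rw [Functor.map_comp, hd, h1]
    · rw [Functor.map_comp, hd, h2]
  choose D hD1 hD2 using key
  refine ⟨⟨w⟩, ⟨PushoutCocone.IsColimit.mk _
    (fun s => D s.pt s.inl s.inr s.condition) ?_ ?_ ?_⟩⟩
  · intro s
    exact hD1 _ _ _ _
  · intro s
    exact hD2 _ _ _ _
  · intro s m h1 h2
    apply FSh.map_injective
    apply hpo.hom_ext
    · rw [← Functor.map_comp, ← Functor.map_comp, h1, hD1]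
    · rw [← Functor.map_comp, ← Functor.map_comp, h2, hD2]

end Groth.Agent.Helper8.Push
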