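import Mathlib
import Groth.Agent.Helper8.PushW

/-!
# Pushouts of schemes, part X: base change along a closed immersion and an affine morphism
-/

set_option autoImplicit false
universe u

open CategoryTheory CategoryTheory.Limits AlgebraicGeometry Opposite TopologicalSpace

namespace Groth.Agent.Helper8.Push

/-- the base change square of `pullback.map … m (𝟙 S') (𝟙 S)` is cartesian. -/
theorem isPullback_pullback_map {A B S S' : Scheme.{u}} (m : A ⟶ B) (sB : B ⟶ S) (sA : A ⟶ S)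
    (g : S' ⟶ S) (h1 : sA ≫ 𝟙 S = m ≫ sB) (h2 : g ≫ 𝟙 S = 𝟙 S' ≫ g) :
    IsPullback (pullback.fst sA g) (pullback.map sA g sB g m (𝟙 S') (𝟙 S) h1 h2) m
      (pullback.fst sB g) := by
  have hfst : pullback.map sA g sB g m (𝟙 S') (𝟙 S) h1 h2 ≫ pullback.fst sB g =
      pullback.fst sA g ≫ m := pullback.lift_fst _ _ _
  have hsnd : pullback.map sA g sB g m (𝟙 S') (𝟙 S) h1 h2 ≫ pullback.snd sB g =
      pullback.snd sA g := (pullback.lift_snd _ _ _).trans (Category.comp_id _)
  have sA_eq : sA = m ≫ sB := by rw [← h1, Category.comp_id]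
  have t : IsPullback (pullback.map sA g sB g m (𝟙 S') (𝟙 S) h1 h2 ≫ pullback.snd sB g)
      (pullback.fst sA g) g (m ≫ sB) := by
    rw [hsnd, ← sA_eq]
    exact (IsPullback.of_hasPullback sA g).flip
  exact (IsPullback.of_right t hfst (IsPullback.of_hasPullback sB g).flip).flip

/-- good pairs for a square with affine `f` and closed immersion `j`. -/
theorem goodPairs_of_affine_closed {X₀ X Y₀ Y : Scheme.{u}} (i : X₀ ⟶ X) (f₀ : X₀ ⟶ Y₀) (f : X ⟶ Y)
    [IsAffineHom f] (j : Y₀ ⟶ Y) [IsAffineHom j] (w : i ≫ f = f₀ ≫ j) :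
    ∀ t : Y₀, ∃ k : GoodPair i f₀, t ∈ k.W := by
  intro t
  have ht₀ : j t ∈ (⊤ : Y.Opens) := trivial
  obtain ⟨O, hO, htO, -⟩ := Opens.isBasis_iff_nbhd.mp Y.isBasis_affineOpens ht₀
  refine ⟨⟨f ⁻¹ᵁ O, j ⁻¹ᵁ O, hO.preimage f, hO.preimage j, ?_⟩, htO⟩
  show (i ≫ f) ⁻¹ᵁ O = (f₀ ≫ j) ⁻¹ᵁ O
  rw [w]

theorem isPushout_baseChange_closed_affine {X₀ X Y₀ Y S S' : Scheme.{u}}
    (i : X₀ ⟶ X) [IsClosedImmersion i] (f₀ : X₀ ⟶ Y₀) (f : X ⟶ Y) [IsAffineHom f]
    (j : Y₀ ⟶ Y) [IsClosedImmersion j] (hpo : IsPushout i f₀ f j)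
    (q : Y ⟶ S) [Flat ((i ≫ f) ≫ q)] (g : S' ⟶ S) :
    IsPushout
      (pullback.map ((i ≫ f) ≫ q) g (f ≫ q) g i (𝟙 S') (𝟙 S)
        ((Category.comp_id _).trans (Category.assoc i f q))
        ((Category.comp_id g).trans (Category.id_comp g).symm))
      (pullback.map ((i ≫ f) ≫ q) g (j ≫ q) g f₀ (𝟙 S') (𝟙 S)
        ((Category.comp_id _).trans ((congrArg (fun t => t ≫ q) hpo.w).trans (Category.assoc f₀ j q)))
        ((Category.comp_id g).trans (Category.id_comp g).symm))
      (pullback.map (f ≫ q) g q g f (𝟙 S') (𝟙 S)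
        (Category.comp_id _) ((Category.comp_id g).trans (Category.id_comp g).symm))
      (pullback.map (j ≫ q) g q g j (𝟙 S') (𝟙 S)
        (Category.comp_id _) ((Category.comp_id g).trans (Category.id_comp g).symm)) := by
  haveI : Flat (i ≫ f ≫ q) := by
    rw [← Category.assoc]
    infer_instance
  have H := goodPairs_of_affine_closed i f₀ f j hpo.w
  refine isPushout_baseChange_of_flat i f₀ f j H hpo q g (pullback.fst q g) (pullback.snd q g)
    (IsPullback.of_hasPullback q g)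
    (pullback.fst (f ≫ q) g) _ (isPullback_pullback_map f q (f ≫ q) g _ _)
    (pullback.fst (j ≫ q) g) _ (isPullback_pullback_map j q (j ≫ q) g _ _)
    (pullback.fst ((i ≫ f) ≫ q) g) _ (isPullback_pullback_map i (f ≫ q) ((i ≫ f) ≫ q) g _ _)
    _ ?_ ?_
  · exact pullback.lift_fst _ _ _
  · apply pullback.hom_ext
    · simp only [Category.assoc, pullback.map]
      rw [pullback.lift_fst, pullback.lift_fst, pullback.lift_fst_assoc, pullback.lift_fst_assoc,
        Category.assoc, Category.assoc, hpo.w, Category.assoc]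
    · simp only [Category.assoc, pullback.map]
      rw [pullback.lift_snd, pullback.lift_snd, pullback.lift_snd_assoc, pullback.lift_snd_assoc]

end Groth.Agent.Helper8.Push
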