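import Mathlib
import Groth.Agent.Helper8.PushW
import Groth.Agent.Helper8.PushK

/-!
# Pushouts of schemes, part Y: pinching along a finite flat surjection, flatness and base change
-/

set_option autoImplicit false
universe u

open CategoryTheory CategoryTheory.Limits AlgebraicGeometry Opposite TopologicalSpace

namespace Groth.Agent.Helper8.Push

/-- good pairs from an affine map to the pushout. -/
theorem goodPairs_of_affine_inl {X Y Y' P : Scheme.{u}} (i : Y ⟶ X) [IsClosedImmersion i]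
    (h : Y ⟶ Y') [IsIntegralHom h] (q : X ⟶ P) [IsAffineHom q] (j : Y' ⟶ P)
    (w : i ≫ q = h ≫ j) : ∀ y' : Y', ∃ k : GoodPair i h, y' ∈ k.W := by
  apply goodPairs_of_haff i h
  intro y'
  have ht₀ : j y' ∈ (⊤ : P.Opens) := trivial
  obtain ⟨O, hO, htO, -⟩ := Opens.isBasis_iff_nbhd.mp P.isBasis_affineOpens ht₀
  refine ⟨q ⁻¹ᵁ O, hO.preimage q, ?_⟩
  intro y hy
  have hy' : h y = y' := hy
  show q (i y) ∈ O
  rw [← Scheme.Hom.comp_apply, w, Scheme.Hom.comp_apply, hy']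
  exact htO

theorem flat_and_isPushout_baseChange
    {S X Y Y' P T XT YT Y'T PT : Scheme.{u}}
    (i : Y ⟶ X) [IsClosedImmersion i] (h : Y ⟶ Y') [IsFinite h] [Flat h]
    (q : X ⟶ P) [IsAffineHom q] (j : Y' ⟶ P) (hP : IsPushout i h q j)
    (sP : P ⟶ S) [Flat (q ≫ sP)] [Flat (j ≫ sP)] (g : T ⟶ S)
    (pP : PT ⟶ P) (sPT : PT ⟶ T) (hPT : IsPullback pP sPT sP g)
    (pX : XT ⟶ X) (qT : XT ⟶ PT) (hXT : IsPullback pX qT q pP)
    (pY' : Y'T ⟶ Y') (jT : Y'T ⟶ PT) (hY'T : IsPullback pY' jT j pP)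
    (pY : YT ⟶ Y) (iT : YT ⟶ XT) (hYT : IsPullback pY iT i pX)
    (hT : YT ⟶ Y'T) (hhT₁ : hT ≫ pY' = pY ≫ h) (hhT₂ : hT ≫ jT = iT ≫ qT) :
    Flat sP ∧ IsPushout iT hT qT jT := by
  have H := goodPairs_of_affine_inl i h q j hP.w
  haveI : Flat (i ≫ q ≫ sP) := by
    rw [← Category.assoc, hP.w, Category.assoc]
    infer_instance
  exact ⟨flat_of_isPushout i h q j H hP sP,
    isPushout_baseChange_of_flat i h q j H hP sP g pP sPT hPT pX qT hXT pY' jT hY'T pY iT hYT hT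
      hhT₁ hhT₂.symm⟩

end Groth.Agent.Helper8.Push
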