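import Mathlib
import Groth.Agent.Helper8.PushAC
import Groth.Agent.Helper8.PushW
import Groth.Agent.Helper8.PushX
import Groth.Agent.Helper8.PushY
import Groth.Agent.Helper8.PushO

/-!
# Pushouts of schemes, part AD: sections of the pushout over the base

If `P = X ⊔_Z T` (Ferrand pushout, `ξ : Z ⟶ T` flat surjective) maps to `B` and
`𝒪_B(U) → 𝒪_X((a ≫ s)⁻¹ U)` is an isomorphism then so is `𝒪_B(U) → 𝒪_P(s⁻¹ U)`.
-/

set_option autoImplicit false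
universe u

open CategoryTheory CategoryTheory.Limits AlgebraicGeometry Opposite TopologicalSpace

namespace Groth.Agent.Helper8.Push

/-- an epimorphism of schemes is injective on global sections. -/
lemma appTop_injective_of_epi {X Y : Scheme.{u}} (f : X ⟶ Y) [Epi f] :
    Function.Injective f.appTop.hom := by
  intro y y' h
  apply secHom_injective
  rw [← cancel_epi f, comp_secHom, comp_secHom, h]

section Core

variable {X T Z P B : Scheme.{u}} (ι : Z ⟶ X) (ξ : Z ⟶ T) (a : X ⟶ P) (b : T ⟶ P)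
  [IsClosedImmersion ι] (H : ∀ t : T, ∃ k : GoodPair ι ξ, t ∈ k.W)

include H in
set_option maxHeartbeats 1600000 in
theorem isIso_app_of_isPushout (hP : IsPushout ι ξ a b) [Flat ξ] [Surjective ξ]
    (s : P ⟶ B) (t : X ⟶ B) (ht : a ≫ s = t) (U : B.Opens) (hiso : IsIso (t.app U)) :
    IsIso (s.app U) := by
  subst ht
  have hres := isPushout_resLE_of_isPushout ι ξ a b H hP (s ⁻¹ᵁ U)
  obtain ⟨hinj₀, hsurj₀⟩ := sections_exact_of_isPushout hres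
  have comm : (a.resLE (s ⁻¹ᵁ U) (a ⁻¹ᵁ (s ⁻¹ᵁ U)) le_rfl).appTop ≫
      (ι.resLE (a ⁻¹ᵁ (s ⁻¹ᵁ U)) (ι ⁻¹ᵁ (a ⁻¹ᵁ (s ⁻¹ᵁ U))) le_rfl).appTop =
      (b.resLE (s ⁻¹ᵁ U) (b ⁻¹ᵁ (s ⁻¹ᵁ U)) le_rfl).appTop ≫
      (ξ.resLE (b ⁻¹ᵁ (s ⁻¹ᵁ U)) (ι ⁻¹ᵁ (a ⁻¹ᵁ (s ⁻¹ᵁ U)))
        (preimage_le ι ξ a b hP.w (s ⁻¹ᵁ U))).appTop := by
    rw [← Scheme.Hom.comp_appTop, ← Scheme.Hom.comp_appTop, hres.w]
  -- the restriction of `ξ` is flat and surjective, hence an epimorphism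
  haveI hfl : Flat (ξ.resLE (b ⁻¹ᵁ (s ⁻¹ᵁ U)) (ι ⁻¹ᵁ (a ⁻¹ᵁ (s ⁻¹ᵁ U)))
      (preimage_le ι ξ a b hP.w (s ⁻¹ᵁ U))) :=
    IsZariskiLocalAtSource.resLE _ inferInstance
  haveI hsj : Surjective (ξ.resLE (b ⁻¹ᵁ (s ⁻¹ᵁ U)) (ι ⁻¹ᵁ (a ⁻¹ᵁ (s ⁻¹ᵁ U)))
      (preimage_le ι ξ a b hP.w (s ⁻¹ᵁ U))) := by
    constructor
    intro y
    obtain ⟨z, hz⟩ := Scheme.Hom.surjective ξ y.1
    have hz' : z ∈ ι ⁻¹ᵁ (a ⁻¹ᵁ (s ⁻¹ᵁ U)) := by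
      show s (a (ι z)) ∈ U
      rw [← Scheme.Hom.comp_apply ι a, hP.w, Scheme.Hom.comp_apply, hz]
      exact y.2
    refine ⟨⟨z, hz'⟩, ?_⟩
    apply Subtype.ext
    rw [Scheme.Hom.coe_resLE_apply]
    exact hz
  haveI : Epi (ξ.resLE (b ⁻¹ᵁ (s ⁻¹ᵁ U)) (ι ⁻¹ᵁ (a ⁻¹ᵁ (s ⁻¹ᵁ U)))
      (preimage_le ι ξ a b hP.w (s ⁻¹ᵁ U))) := Flat.epi_of_flat_of_surjective _
  have hξinj := appTop_injective_of_epi (ξ.resLE (b ⁻¹ᵁ (s ⁻¹ᵁ U)) (ι ⁻¹ᵁ (a ⁻¹ᵁ (s ⁻¹ᵁ U)))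
      (preimage_le ι ξ a b hP.w (s ⁻¹ᵁ U)))
  -- the two comparison maps
  set φ : Γ(B, U) ⟶ Γ((s ⁻¹ᵁ U : P.Opens), ⊤) := s.app U ≫ (s ⁻¹ᵁ U).topIso.inv with hφ
  have h1 : (a.resLE (s ⁻¹ᵁ U) (a ⁻¹ᵁ (s ⁻¹ᵁ U)) le_rfl).appTop =
      (s ⁻¹ᵁ U).topIso.hom ≫ a.appLE (s ⁻¹ᵁ U) (a ⁻¹ᵁ (s ⁻¹ᵁ U)) le_rfl ≫
        (a ⁻¹ᵁ (s ⁻¹ᵁ U)).topIso.inv := Scheme.Hom.resLE_app_top _ _
  have hψ : φ ≫ (a.resLE (s ⁻¹ᵁ U) (a ⁻¹ᵁ (s ⁻¹ᵁ U)) le_rfl).appTop =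
      (a ≫ s).app U ≫ (a ⁻¹ᵁ (s ⁻¹ᵁ U)).topIso.inv := by
    rw [h1, hφ, Scheme.Hom.appLE_eq_app, Scheme.Hom.comp_app]
    simp only [Category.assoc, Iso.inv_hom_id_assoc]
    exact (Category.assoc _ _ _).symm
  haveI hψiso : IsIso (φ ≫ (a.resLE (s ⁻¹ᵁ U) (a ⁻¹ᵁ (s ⁻¹ᵁ U)) le_rfl).appTop) := by
    rw [hψ]
    infer_instance
  have hψbij := (ConcreteCategory.isIso_iff_bijective
    (φ ≫ (a.resLE (s ⁻¹ᵁ U) (a ⁻¹ᵁ (s ⁻¹ᵁ U)) le_rfl).appTop)).mp hψiso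
  have hφbij : Function.Bijective φ := by
    constructor
    · intro r r' hr
      apply hψbij.1
      show (a.resLE (s ⁻¹ᵁ U) (a ⁻¹ᵁ (s ⁻¹ᵁ U)) le_rfl).appTop (φ r) =
        (a.resLE (s ⁻¹ᵁ U) (a ⁻¹ᵁ (s ⁻¹ᵁ U)) le_rfl).appTop (φ r')
      rw [hr]
    · intro c
      obtain ⟨r, hr⟩ := hψbij.2 ((a.resLE (s ⁻¹ᵁ U) (a ⁻¹ᵁ (s ⁻¹ᵁ U)) le_rfl).appTop c)
      have hr' : (a.resLE (s ⁻¹ᵁ U) (a ⁻¹ᵁ (s ⁻¹ᵁ U)) le_rfl).appTop.hom (φ.hom r) =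
          (a.resLE (s ⁻¹ᵁ U) (a ⁻¹ᵁ (s ⁻¹ᵁ U)) le_rfl).appTop.hom c := hr
      refine ⟨r, ?_⟩
      apply hinj₀ _ _ ?_ hr'
      apply hξinj
      have e1 := congrArg (fun m => m.hom (φ.hom r)) comm
      have e2 := congrArg (fun m => m.hom c) comm
      simp only [CommRingCat.hom_comp, RingHom.comp_apply] at e1 e2
      rw [← e1, ← e2, hr']
  haveI : IsIso φ := (ConcreteCategory.isIso_iff_bijective φ).mpr hφbij
  have hs : s.app U = φ ≫ (s ⁻¹ᵁ U).topIso.hom := by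
    rw [hφ, Category.assoc, Iso.inv_hom_id, Category.comp_id]
  rw [hs]
  infer_instance

end Core

section Main

set_option maxHeartbeats 1600000 in
theorem isIso_app_snd_of_pinching {S X Z Z' X' : Scheme.{u}}
    (fX : X ⟶ S) (fZ' : Z' ⟶ S) (fX' : X' ⟶ S) (ι : Z ⟶ X) (q : Z ⟶ Z') (π : X ⟶ X')
    (ι' : Z' ⟶ X')
    [IsClosedImmersion ι] [IsFinite q] [Flat q] [Surjective q] [IsAffineHom π]
    (hq : q ≫ fZ' = ι ≫ fX) (hπ : π ≫ fX' = fX) (hι' : ι' ≫ fX' = fZ')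
    (hsch : IsPushout ι q π ι') [Flat (ι ≫ fX)]
    (T : Scheme.{u}) (g : T ⟶ S) (U : T.Opens) (hX : IsIso ((pullback.snd fX g).app U)) :
    IsIso ((pullback.snd fX' g).app U) := by
  have H := goodPairs_of_affine_inl ι q π ι' hsch.w
  haveI : Flat (ι ≫ π ≫ fX') := by
    rw [hπ]
    infer_instance
  have e2 : g ≫ 𝟙 S = 𝟙 T ≫ g := (Category.comp_id g).trans (Category.id_comp g).symm
  have eX : fX ≫ 𝟙 S = π ≫ fX' := by rw [Category.comp_id, hπ]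
  have eZ' : fZ' ≫ 𝟙 S = ι' ≫ fX' := by rw [Category.comp_id, hι']
  have eZ : (ι ≫ fX) ≫ 𝟙 S = ι ≫ fX := Category.comp_id _
  have eq : (ι ≫ fX) ≫ 𝟙 S = q ≫ fZ' := by rw [Category.comp_id, hq]
  have hXT := isPullback_pullback_map π fX' fX g eX e2
  have hZ'T := isPullback_pullback_map ι' fX' fZ' g eZ' e2
  have hZT := isPullback_pullback_map ι fX (ι ≫ fX) g eZ e2
  have hqT := isPullback_pullback_map q fZ' (ι ≫ fX) g eq e2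
  have hξ1 : pullback.map (ι ≫ fX) g fZ' g q (𝟙 T) (𝟙 S) eq e2 ≫ pullback.fst fZ' g =
      pullback.fst (ι ≫ fX) g ≫ q := pullback.lift_fst _ _ _
  have hξ2 : pullback.map (ι ≫ fX) g fX g ι (𝟙 T) (𝟙 S) eZ e2 ≫
      pullback.map fX g fX' g π (𝟙 T) (𝟙 S) eX e2 =
      pullback.map (ι ≫ fX) g fZ' g q (𝟙 T) (𝟙 S) eq e2 ≫
      pullback.map fZ' g fX' g ι' (𝟙 T) (𝟙 S) eZ' e2 := by
    apply pullback.hom_ext
    · simp only [Category.assoc, pullback.map]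
      rw [pullback.lift_fst, pullback.lift_fst, pullback.lift_fst_assoc, pullback.lift_fst_assoc,
        Category.assoc, Category.assoc, hsch.w]
    · simp only [Category.assoc, pullback.map]
      rw [pullback.lift_snd, pullback.lift_snd, pullback.lift_snd_assoc, pullback.lift_snd_assoc]
  have hPT := isPushout_baseChange_of_flat ι q π ι' H hsch fX' g (pullback.fst fX' g)
    (pullback.snd fX' g) (IsPullback.of_hasPullback fX' g)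
    (pullback.fst fX g) _ hXT (pullback.fst fZ' g) _ hZ'T (pullback.fst (ι ≫ fX) g) _ hZT
    _ hξ1 hξ2
  haveI : IsClosedImmersion (pullback.map (ι ≫ fX) g fX g ι (𝟙 T) (𝟙 S) eZ e2) :=
    MorphismProperty.of_isPullback hZT inferInstance
  haveI : IsFinite (pullback.map (ι ≫ fX) g fZ' g q (𝟙 T) (𝟙 S) eq e2) :=
    MorphismProperty.of_isPullback hqT inferInstance
  haveI : Flat (pullback.map (ι ≫ fX) g fZ' g q (𝟙 T) (𝟙 S) eq e2) :=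
    MorphismProperty.of_isPullback hqT inferInstance
  haveI : Surjective (pullback.map (ι ≫ fX) g fZ' g q (𝟙 T) (𝟙 S) eq e2) :=
    MorphismProperty.of_isPullback hqT inferInstance
  haveI : IsAffineHom (pullback.map fX g fX' g π (𝟙 T) (𝟙 S) eX e2) :=
    MorphismProperty.of_isPullback hXT inferInstance
  have HT := goodPairs_of_affine_inl _ _ _ _ hPT.w
  have hsnd : pullback.map fX g fX' g π (𝟙 T) (𝟙 S) eX e2 ≫ pullback.snd fX' g =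
      pullback.snd fX g := (pullback.lift_snd _ _ _).trans (Category.comp_id _)
  exact isIso_app_of_isPushout _ _ _ _ HT hPT (pullback.snd fX' g) (pullback.snd fX g) hsnd U hX

end Main

end Groth.Agent.Helper8.Push
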