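import Mathlib
import Groth.Agent.Helper8.PushZ
import Groth.Agent.Helper8.PushW
import Groth.Agent.Helper8.PushM
import Groth.Agent.Helper8.MilAlgB

/-!
# Finite étale covers of a Ferrand pushout, part A: local-to-global tools
-/

set_option autoImplicit false
universe u

open CategoryTheory CategoryTheory.Limits AlgebraicGeometry Opposite TopologicalSpace

namespace Groth.Agent.Helper8.Push

/-- restriction of a commutative square of schemes to opens. -/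
lemma comm_resLE {A B C D : Scheme.{u}} (f : A ⟶ B) (g : B ⟶ D) (f' : A ⟶ C) (g' : C ⟶ D)
    (w : f ≫ g = f' ≫ g') {UD : D.Opens} {UB : B.Opens} {UC : C.Opens} {UA : A.Opens}
    (e1 : UA ≤ f ⁻¹ᵁ UB) (e2 : UB ≤ g ⁻¹ᵁ UD) (e3 : UA ≤ f' ⁻¹ᵁ UC) (e4 : UC ≤ g' ⁻¹ᵁ UD) :
    f.resLE UB UA e1 ≫ g.resLE UD UB e2 = f'.resLE UC UA e3 ≫ g'.resLE UD UC e4 := by
  rw [← cancel_mono (Scheme.Opens.ι UD), Category.assoc, Category.assoc, Scheme.Hom.resLE_comp_ι,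
    Scheme.Hom.resLE_comp_ι_assoc, Scheme.Hom.resLE_comp_ι, Scheme.Hom.resLE_comp_ι_assoc, w]

/-- a triangle version. -/
lemma comm_resLE' {A B D : Scheme.{u}} (f : A ⟶ B) (g : B ⟶ D) (k : A ⟶ D)
    (w : f ≫ g = k) {UD : D.Opens} {UB : B.Opens} {UA : A.Opens}
    (e1 : UA ≤ f ⁻¹ᵁ UB) (e2 : UB ≤ g ⁻¹ᵁ UD) (e3 : UA ≤ k ⁻¹ᵁ UD) :
    f.resLE UB UA e1 ≫ g.resLE UD UB e2 = k.resLE UD UA e3 := by
  rw [← cancel_mono (Scheme.Opens.ι UD), Category.assoc, Scheme.Hom.resLE_comp_ι,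
    Scheme.Hom.resLE_comp_ι_assoc, Scheme.Hom.resLE_comp_ι, w]

set_option maxHeartbeats 1600000 in
/-- a commutative square of schemes which is, over each affine open of the base, a pushout square on
global sections of affine pieces, is cartesian. -/
theorem isPullback_of_local_isPushout {X₁ P₁ X P : Scheme.{u}} (a₁ : X₁ ⟶ P₁) (fX : X₁ ⟶ X)
    (h : P₁ ⟶ P) (a : X ⟶ P) (w : a₁ ≫ h = fX ≫ a)
    (hloc : ∀ O : P.Opens, IsAffineOpen O → IsAffineOpen (h ⁻¹ᵁ O) ∧ IsAffineOpen (a ⁻¹ᵁ O) ∧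
      IsAffineOpen (a₁ ⁻¹ᵁ (h ⁻¹ᵁ O)) ∧
      ∀ hle : a₁ ⁻¹ᵁ (h ⁻¹ᵁ O) ≤ fX ⁻¹ᵁ (a ⁻¹ᵁ O),
      IsPushout (h.resLE O (h ⁻¹ᵁ O) le_rfl).appTop (a.resLE O (a ⁻¹ᵁ O) le_rfl).appTop
        (a₁.resLE (h ⁻¹ᵁ O) (a₁ ⁻¹ᵁ (h ⁻¹ᵁ O)) le_rfl).appTop
        (fX.resLE (a ⁻¹ᵁ O) (a₁ ⁻¹ᵁ (h ⁻¹ᵁ O)) hle).appTop) :
    IsPullback a₁ fX h a := by
  have hpre : ∀ O : P.Opens, a₁ ⁻¹ᵁ (h ⁻¹ᵁ O) = fX ⁻¹ᵁ (a ⁻¹ᵁ O) := by
    intro O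
    show (a₁ ≫ h) ⁻¹ᵁ O = (fX ≫ a) ⁻¹ᵁ O
    rw [w]
  set u : X₁ ⟶ pullback h a := pullback.lift a₁ fX w with hu
  have hu1 : u ≫ pullback.fst h a = a₁ := pullback.lift_fst _ _ _
  have hu2 : u ≫ pullback.snd h a = fX := pullback.lift_snd _ _ _
  suffices hiso : IsIso u from
    IsPullback.of_iso_pullback ⟨w⟩ (asIso u) hu1 hu2
  -- the cover of the pullback
  let UQ : P.affineOpens → (pullback h a).Opens := fun O =>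
    pullback.fst h a ⁻¹ᵁ (h ⁻¹ᵁ O.1) ⊓ pullback.snd h a ⁻¹ᵁ (a ⁻¹ᵁ O.1)
  have hcov : iSup UQ = ⊤ := by
    rw [eq_top_iff]
    intro x _
    have hx₀ : h (pullback.fst h a x) ∈ (⊤ : P.Opens) := trivial
    obtain ⟨O, hO, hxO, -⟩ := Opens.isBasis_iff_nbhd.mp P.isBasis_affineOpens hx₀
    rw [Opens.mem_iSup]
    refine ⟨⟨O, hO⟩, hxO, ?_⟩
    show a (pullback.snd h a x) ∈ O
    rw [← Scheme.Hom.comp_apply, ← pullback.condition, Scheme.Hom.comp_apply]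
    exact hxO
  rw [← MorphismProperty.isomorphisms.iff,
    IsZariskiLocalAtTarget.iff_of_iSup_eq_top (P := MorphismProperty.isomorphisms Scheme.{u}) UQ hcov]
  rintro ⟨O, hO⟩
  obtain ⟨hO₁, hOX, hOX₁, hpo⟩ := hloc O hO
  haveI : IsAffine (O : Scheme.{u}) := hO
  haveI : IsAffine ((h ⁻¹ᵁ O : P₁.Opens) : Scheme.{u}) := hO₁
  haveI : IsAffine ((a ⁻¹ᵁ O : X.Opens) : Scheme.{u}) := hOX
  haveI : IsAffine ((a₁ ⁻¹ᵁ (h ⁻¹ᵁ O) : X₁.Opens) : Scheme.{u}) := hOX₁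
  have pbQ : IsPullback
      ((pullback.fst h a).resLE (h ⁻¹ᵁ O) (UQ ⟨O, hO⟩) inf_le_left)
      ((pullback.snd h a).resLE (a ⁻¹ᵁ O) (UQ ⟨O, hO⟩) inf_le_right)
      (h.resLE O (h ⁻¹ᵁ O) le_rfl) (a.resLE O (a ⁻¹ᵁ O) le_rfl) :=
    Scheme.Hom.isPullback_resLE (IsPullback.of_hasPullback h a) le_rfl le_rfl rfl
  haveI hUQ : IsAffine ((UQ ⟨O, hO⟩ : (pullback h a).Opens) : Scheme.{u}) :=
    IsAffine.of_isPullback pbQ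
  have PQ := isPushout_appTop_of_isPullback pbQ
  have eW : u ⁻¹ᵁ (UQ ⟨O, hO⟩) = a₁ ⁻¹ᵁ (h ⁻¹ᵁ O) := by
    ext x
    constructor
    · intro hx
      have h1 : pullback.fst h a (u x) ∈ h ⁻¹ᵁ O := hx.1
      rw [← Scheme.Hom.comp_apply, hu1] at h1
      exact h1
    · intro hx
      refine ⟨?_, ?_⟩
      · show pullback.fst h a (u x) ∈ h ⁻¹ᵁ O
        rw [← Scheme.Hom.comp_apply, hu1]
        exact hx
      · show pullback.snd h a (u x) ∈ a ⁻¹ᵁ O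
        rw [← Scheme.Hom.comp_apply, hu2]
        have : x ∈ fX ⁻¹ᵁ (a ⁻¹ᵁ O) := (hpre O).le hx
        exact this
  have key : ∀ (W : X₁.Opens) (hW : W = u ⁻¹ᵁ (UQ ⟨O, hO⟩)),
      IsAffine (W : Scheme.{u}) ∧ IsIso (u.resLE (UQ ⟨O, hO⟩) W hW.le).appTop := by
    intro W hW
    obtain rfl : W = a₁ ⁻¹ᵁ (h ⁻¹ᵁ O) := hW.trans eW
    refine ⟨hOX₁, ?_⟩
    have PX := hpo (hpre O).le
    have e1 : u.resLE (UQ ⟨O, hO⟩) (a₁ ⁻¹ᵁ (h ⁻¹ᵁ O)) hW.le ≫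
        (pullback.fst h a).resLE (h ⁻¹ᵁ O) (UQ ⟨O, hO⟩) inf_le_left =
        a₁.resLE (h ⁻¹ᵁ O) (a₁ ⁻¹ᵁ (h ⁻¹ᵁ O)) le_rfl := comm_resLE' _ _ _ hu1 _ _ _
    have e2 : u.resLE (UQ ⟨O, hO⟩) (a₁ ⁻¹ᵁ (h ⁻¹ᵁ O)) hW.le ≫
        (pullback.snd h a).resLE (a ⁻¹ᵁ O) (UQ ⟨O, hO⟩) inf_le_right =
        fX.resLE (a ⁻¹ᵁ O) (a₁ ⁻¹ᵁ (h ⁻¹ᵁ O)) (hpre O).le := comm_resLE' _ _ _ hu2 _ _ _
    have e1' := congrArg Scheme.Hom.appTop e1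
    have e2' := congrArg Scheme.Hom.appTop e2
    rw [Scheme.Hom.comp_appTop] at e1' e2'
    have hm : (u.resLE (UQ ⟨O, hO⟩) (a₁ ⁻¹ᵁ (h ⁻¹ᵁ O)) hW.le).appTop =
        (PQ.isoIsPushout _ _ PX).hom := by
      apply PQ.hom_ext
      · rw [e1', IsPushout.inl_isoIsPushout_hom]
      · rw [e2', IsPushout.inr_isoIsPushout_hom]
    rw [hm]
    infer_instance
  obtain ⟨hW1, hW2⟩ := key (u ⁻¹ᵁ (UQ ⟨O, hO⟩)) rfl
  rw [Scheme.Hom.resLE_eq_morphismRestrict] at hW2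
  haveI := hW1
  exact (HasAffineProperty.iff_of_isAffine
    (P := MorphismProperty.isomorphisms Scheme.{u})).mpr ⟨hW1, hW2⟩

end Groth.Agent.Helper8.Push
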