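import Mathlib
import Groth.Agent.Helper8.PushFEtA

/-!
# Finite étale covers of a Ferrand pushout, part B: the local computation
-/

set_option autoImplicit false
universe u

open CategoryTheory CategoryTheory.Limits AlgebraicGeometry Opposite TopologicalSpace

namespace Groth.Agent.Helper8.Push

lemma finite_appTop_resLE {Y S : Scheme.{u}} (m : Y ⟶ S) [IsFinite m] {W : S.Opens}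
    (hW : IsAffineOpen W) (V : Y.Opens) (hV : V = m ⁻¹ᵁ W) :
    (m.resLE W V hV.le).appTop.hom.Finite := by
  subst hV
  haveI : IsAffine (W : Scheme.{u}) := hW
  rw [Scheme.Hom.resLE_eq_morphismRestrict]
  have h1 : IsFinite (m ∣_ W) := IsZariskiLocalAtTarget.restrict (P := @IsFinite) inferInstance W
  exact ((HasAffineProperty.iff_of_isAffine (P := @IsFinite)).mp h1).2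

lemma etale_appTop_resLE {Y S : Scheme.{u}} (m : Y ⟶ S) [Etale m] {W : S.Opens} {V : Y.Opens}
    (hW : IsAffineOpen W) (hV : IsAffineOpen V) (e : V ≤ m ⁻¹ᵁ W) :
    (m.resLE W V e).appTop.hom.Etale := by
  haveI : IsAffine (W : Scheme.{u}) := hW
  haveI : IsAffine (V : Scheme.{u}) := hV
  have h : Etale (m.resLE W V e) := IsZariskiLocalAtSource.resLE e inferInstance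
  exact (HasRingHomProperty.iff_of_isAffine (P := @Etale)).mp h

section

variable {X T Z P : Scheme.{u}} (ι : Z ⟶ X) (ξ : Z ⟶ T) (a : X ⟶ P) (b : T ⟶ P)
  {X₁ T₁ Z₁ P₁ : Scheme.{u}} (ι₁ : Z₁ ⟶ X₁) (ξ₁ : Z₁ ⟶ T₁) (a₁ : X₁ ⟶ P₁) (b₁ : T₁ ⟶ P₁)
  (fX : X₁ ⟶ X) (fT : T₁ ⟶ T) (fZ : Z₁ ⟶ Z) (h : P₁ ⟶ P)

lemma pre_a (ha : a₁ ≫ h = fX ≫ a) (O : P.Opens) :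
    a₁ ⁻¹ᵁ (h ⁻¹ᵁ O) = fX ⁻¹ᵁ (a ⁻¹ᵁ O) := by
  show (a₁ ≫ h) ⁻¹ᵁ O = (fX ≫ a) ⁻¹ᵁ O
  rw [ha]

lemma pre_z (hXw : ι₁ ≫ fX = fZ ≫ ι) (ha : a₁ ≫ h = fX ≫ a) (O : P.Opens) :
    ι₁ ⁻¹ᵁ (a₁ ⁻¹ᵁ (h ⁻¹ᵁ O)) = fZ ⁻¹ᵁ (ι ⁻¹ᵁ (a ⁻¹ᵁ O)) := by
  show (ι₁ ≫ a₁ ≫ h) ⁻¹ᵁ O = (fZ ≫ ι ≫ a) ⁻¹ᵁ O
  rw [ha, ← Category.assoc, hXw, Category.assoc]

variable [IsClosedImmersion ι₁] (H₁ : ∀ t : T₁, ∃ k : GoodPair ι₁ ξ₁, t ∈ k.W)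

include H₁ in
theorem isAffineOpen_preimage_of_isPushout (w : ι ≫ a = ξ ≫ b) (hP₁ : IsPushout ι₁ ξ₁ a₁ b₁)
    [IsAffineHom a] [IsAffineHom b] [IsAffineHom fX] [IsAffineHom fT]
    (hXw : ι₁ ≫ fX = fZ ≫ ι) (hTw : ξ₁ ≫ fT = fZ ≫ ξ) (ha : a₁ ≫ h = fX ≫ a)
    (hb : b₁ ≫ h = fT ≫ b) (O : P.Opens) (hO : IsAffineOpen O) :
    IsAffineOpen (h ⁻¹ᵁ O) := by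
  have heq : ι₁ ⁻¹ᵁ (fX ⁻¹ᵁ (a ⁻¹ᵁ O)) = ξ₁ ⁻¹ᵁ (fT ⁻¹ᵁ (b ⁻¹ᵁ O)) := by
    show (ι₁ ≫ fX ≫ a) ⁻¹ᵁ O = (ξ₁ ≫ fT ≫ b) ⁻¹ᵁ O
    rw [← Category.assoc, hXw, Category.assoc, w, ← Category.assoc, ← hTw, Category.assoc]
  let k₁ : GoodPair ι₁ ξ₁ :=
    ⟨fX ⁻¹ᵁ (a ⁻¹ᵁ O), fT ⁻¹ᵁ (b ⁻¹ᵁ O), (hO.preimage a).preimage fX, (hO.preimage b).preimage fT,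
      heq⟩
  obtain ⟨O', hO', h1, h2⟩ := exists_affineOpen_of_goodPair ι₁ ξ₁ a₁ b₁ H₁ hP₁ k₁
  have h1' : a₁ ⁻¹ᵁ O' = fX ⁻¹ᵁ (a ⁻¹ᵁ O) := h1
  have h2' : b₁ ⁻¹ᵁ O' = fT ⁻¹ᵁ (b ⁻¹ᵁ O) := h2
  have : O' = h ⁻¹ᵁ O := by
    ext t
    rcases jointly_surjective_of_isPushout ι₁ ξ₁ H₁ hP₁ t with ⟨x, rfl⟩ | ⟨y, rfl⟩
    · have e1 : a₁ x ∈ O' ↔ x ∈ a₁ ⁻¹ᵁ O' := Iff.rfl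
      have e2 : a₁ x ∈ h ⁻¹ᵁ O ↔ x ∈ a₁ ⁻¹ᵁ (h ⁻¹ᵁ O) := Iff.rfl
      show a₁ x ∈ O' ↔ a₁ x ∈ h ⁻¹ᵁ O
      rw [e1, e2, h1', pre_a a a₁ fX h ha]
    · have e1 : b₁ y ∈ O' ↔ y ∈ b₁ ⁻¹ᵁ O' := Iff.rfl
      have e2 : b₁ y ∈ h ⁻¹ᵁ O ↔ y ∈ b₁ ⁻¹ᵁ (h ⁻¹ᵁ O) := Iff.rfl
      show b₁ y ∈ O' ↔ b₁ y ∈ h ⁻¹ᵁ O
      rw [e1, e2, h2', pre_a b b₁ fT h hb]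
  rw [← this]
  exact hO'

variable [IsClosedImmersion ι] (H : ∀ t : T, ∃ k : GoodPair ι ξ, t ∈ k.W)

include H H₁ in
set_option maxHeartbeats 3200000 in
/-- the local computation: over an affine open of the lower pushout, the map between the pushouts is
finite étale on sections and both squares are pushouts of rings. -/
theorem local_finite_etale (hP : IsPushout ι ξ a b) (hP₁ : IsPushout ι₁ ξ₁ a₁ b₁)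
    (hX : IsPullback ι₁ fZ fX ι) (hT : IsPullback ξ₁ fZ fT ξ)
    (ha : a₁ ≫ h = fX ≫ a) (hb : b₁ ≫ h = fT ≫ b)
    [IsFinite fX] [Etale fX] [IsFinite fT] [Etale fT] (O : P.Opens) (hO : IsAffineOpen O) :
    IsAffineOpen (h ⁻¹ᵁ O) ∧
    (h.resLE O (h ⁻¹ᵁ O) le_rfl).appTop.hom.Finite ∧
    (h.resLE O (h ⁻¹ᵁ O) le_rfl).appTop.hom.Etale ∧
    (∀ hle : a₁ ⁻¹ᵁ (h ⁻¹ᵁ O) ≤ fX ⁻¹ᵁ (a ⁻¹ᵁ O),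
      IsPushout (a.resLE O (a ⁻¹ᵁ O) le_rfl).appTop (h.resLE O (h ⁻¹ᵁ O) le_rfl).appTop
        (fX.resLE (a ⁻¹ᵁ O) (a₁ ⁻¹ᵁ (h ⁻¹ᵁ O)) hle).appTop
        (a₁.resLE (h ⁻¹ᵁ O) (a₁ ⁻¹ᵁ (h ⁻¹ᵁ O)) le_rfl).appTop) ∧
    (∀ hle : b₁ ⁻¹ᵁ (h ⁻¹ᵁ O) ≤ fT ⁻¹ᵁ (b ⁻¹ᵁ O),
      IsPushout (b.resLE O (b ⁻¹ᵁ O) le_rfl).appTop (h.resLE O (h ⁻¹ᵁ O) le_rfl).appTop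
        (fT.resLE (b ⁻¹ᵁ O) (b₁ ⁻¹ᵁ (h ⁻¹ᵁ O)) hle).appTop
        (b₁.resLE (h ⁻¹ᵁ O) (b₁ ⁻¹ᵁ (h ⁻¹ᵁ O)) le_rfl).appTop) := by
  haveI : IsAffineHom a := isAffineHom_of_isPushout ι ξ a b H hP
  haveI : IsClosedImmersion b := (of_isPushout ι ξ H hP).2.1
  haveI : IsAffineHom a₁ := isAffineHom_of_isPushout ι₁ ξ₁ a₁ b₁ H₁ hP₁
  haveI : IsClosedImmersion b₁ := (of_isPushout ι₁ ξ₁ H₁ hP₁).2.1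
  have hO₁ : IsAffineOpen (h ⁻¹ᵁ O) :=
    isAffineOpen_preimage_of_isPushout ι ξ a b ι₁ ξ₁ a₁ b₁ fX fT fZ h H₁ hP.w hP₁ hX.w hT.w ha hb O hO
  -- affineness of all pieces
  haveI : IsAffine (O : Scheme.{u}) := hO
  haveI : IsAffine ((h ⁻¹ᵁ O : P₁.Opens) : Scheme.{u}) := hO₁
  haveI : IsAffine ((a ⁻¹ᵁ O : X.Opens) : Scheme.{u}) := hO.preimage a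
  haveI : IsAffine ((b ⁻¹ᵁ O : T.Opens) : Scheme.{u}) := hO.preimage b
  haveI : IsAffine ((ι ⁻¹ᵁ (a ⁻¹ᵁ O) : Z.Opens) : Scheme.{u}) := (hO.preimage a).preimage ι
  haveI : IsAffine ((a₁ ⁻¹ᵁ (h ⁻¹ᵁ O) : X₁.Opens) : Scheme.{u}) := hO₁.preimage a₁
  haveI : IsAffine ((b₁ ⁻¹ᵁ (h ⁻¹ᵁ O) : T₁.Opens) : Scheme.{u}) := hO₁.preimage b₁
  haveI : IsAffine ((ι₁ ⁻¹ᵁ (a₁ ⁻¹ᵁ (h ⁻¹ᵁ O)) : Z₁.Opens) : Scheme.{u}) :=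
    (hO₁.preimage a₁).preimage ι₁
  -- inequalities between opens
  have hlea : a₁ ⁻¹ᵁ (h ⁻¹ᵁ O) ≤ fX ⁻¹ᵁ (a ⁻¹ᵁ O) := (pre_a a a₁ fX h ha O).le
  have hleb : b₁ ⁻¹ᵁ (h ⁻¹ᵁ O) ≤ fT ⁻¹ᵁ (b ⁻¹ᵁ O) := (pre_a b b₁ fT h hb O).le
  have hlez : ι₁ ⁻¹ᵁ (a₁ ⁻¹ᵁ (h ⁻¹ᵁ O)) ≤ fZ ⁻¹ᵁ (ι ⁻¹ᵁ (a ⁻¹ᵁ O)) :=
    (pre_z ι a ι₁ a₁ fX fZ h hX.w ha O).le
  have hleξ : ι ⁻¹ᵁ (a ⁻¹ᵁ O) ≤ ξ ⁻¹ᵁ (b ⁻¹ᵁ O) := preimage_le ι ξ a b hP.w O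
  have hleξ₁ : ι₁ ⁻¹ᵁ (a₁ ⁻¹ᵁ (h ⁻¹ᵁ O)) ≤ ξ₁ ⁻¹ᵁ (b₁ ⁻¹ᵁ (h ⁻¹ᵁ O)) :=
    preimage_le ι₁ ξ₁ a₁ b₁ hP₁.w (h ⁻¹ᵁ O)
  -- the two restricted pushout squares
  have hres := isPushout_resLE_of_isPushout ι ξ a b H hP O
  have hres₁ := isPushout_resLE_of_isPushout ι₁ ξ₁ a₁ b₁ H₁ hP₁ (h ⁻¹ᵁ O)
  obtain ⟨hinj₀, hsurj₀⟩ := sections_exact_of_isPushout hres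
  obtain ⟨hinj₁, hsurj₁⟩ := sections_exact_of_isPushout hres₁
  haveI : IsClosedImmersion (ι.resLE (a ⁻¹ᵁ O) (ι ⁻¹ᵁ (a ⁻¹ᵁ O)) le_rfl) := by
    rw [Scheme.Hom.resLE_eq_morphismRestrict]
    infer_instance
  haveI : IsClosedImmersion (ι₁.resLE (a₁ ⁻¹ᵁ (h ⁻¹ᵁ O)) (ι₁ ⁻¹ᵁ (a₁ ⁻¹ᵁ (h ⁻¹ᵁ O))) le_rfl) := by
    rw [Scheme.Hom.resLE_eq_morphismRestrict]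
    infer_instance
  have hp : Function.Surjective (ι.resLE (a ⁻¹ᵁ O) (ι ⁻¹ᵁ (a ⁻¹ᵁ O)) le_rfl).appTop.hom :=
    (IsClosedImmersion.isAffine_surjective_of_isAffine _).2
  have hp₁ : Function.Surjective
      (ι₁.resLE (a₁ ⁻¹ᵁ (h ⁻¹ᵁ O)) (ι₁ ⁻¹ᵁ (a₁ ⁻¹ᵁ (h ⁻¹ᵁ O))) le_rfl).appTop.hom :=
    (IsClosedImmersion.isAffine_surjective_of_isAffine _).2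
  have comm : (a.resLE O (a ⁻¹ᵁ O) le_rfl).appTop ≫
      (ι.resLE (a ⁻¹ᵁ O) (ι ⁻¹ᵁ (a ⁻¹ᵁ O)) le_rfl).appTop =
      (b.resLE O (b ⁻¹ᵁ O) le_rfl).appTop ≫
      (ξ.resLE (b ⁻¹ᵁ O) (ι ⁻¹ᵁ (a ⁻¹ᵁ O)) hleξ).appTop := by
    rw [← Scheme.Hom.comp_appTop, ← Scheme.Hom.comp_appTop, hres.w]
  have comm₁ : (a₁.resLE (h ⁻¹ᵁ O) (a₁ ⁻¹ᵁ (h ⁻¹ᵁ O)) le_rfl).appTop ≫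
      (ι₁.resLE (a₁ ⁻¹ᵁ (h ⁻¹ᵁ O)) (ι₁ ⁻¹ᵁ (a₁ ⁻¹ᵁ (h ⁻¹ᵁ O))) le_rfl).appTop =
      (b₁.resLE (h ⁻¹ᵁ O) (b₁ ⁻¹ᵁ (h ⁻¹ᵁ O)) le_rfl).appTop ≫
      (ξ₁.resLE (b₁ ⁻¹ᵁ (h ⁻¹ᵁ O)) (ι₁ ⁻¹ᵁ (a₁ ⁻¹ᵁ (h ⁻¹ᵁ O))) hleξ₁).appTop := by
    rw [← Scheme.Hom.comp_appTop, ← Scheme.Hom.comp_appTop, hres₁.w]
  -- the vertical compatibilities
  have c1 : (a.resLE O (a ⁻¹ᵁ O) le_rfl).appTop ≫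
      (fX.resLE (a ⁻¹ᵁ O) (a₁ ⁻¹ᵁ (h ⁻¹ᵁ O)) hlea).appTop =
      (h.resLE O (h ⁻¹ᵁ O) le_rfl).appTop ≫
      (a₁.resLE (h ⁻¹ᵁ O) (a₁ ⁻¹ᵁ (h ⁻¹ᵁ O)) le_rfl).appTop := by
    rw [← Scheme.Hom.comp_appTop, ← Scheme.Hom.comp_appTop]
    exact congrArg Scheme.Hom.appTop (comm_resLE fX a a₁ h ha.symm _ _ _ _)
  have c2 : (b.resLE O (b ⁻¹ᵁ O) le_rfl).appTop ≫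
      (fT.resLE (b ⁻¹ᵁ O) (b₁ ⁻¹ᵁ (h ⁻¹ᵁ O)) hleb).appTop =
      (h.resLE O (h ⁻¹ᵁ O) le_rfl).appTop ≫
      (b₁.resLE (h ⁻¹ᵁ O) (b₁ ⁻¹ᵁ (h ⁻¹ᵁ O)) le_rfl).appTop := by
    rw [← Scheme.Hom.comp_appTop, ← Scheme.Hom.comp_appTop]
    exact congrArg Scheme.Hom.appTop (comm_resLE fT b b₁ h hb.symm _ _ _ _)
  have c3 : (ι.resLE (a ⁻¹ᵁ O) (ι ⁻¹ᵁ (a ⁻¹ᵁ O)) le_rfl).appTop ≫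
      (fZ.resLE (ι ⁻¹ᵁ (a ⁻¹ᵁ O)) (ι₁ ⁻¹ᵁ (a₁ ⁻¹ᵁ (h ⁻¹ᵁ O))) hlez).appTop =
      (fX.resLE (a ⁻¹ᵁ O) (a₁ ⁻¹ᵁ (h ⁻¹ᵁ O)) hlea).appTop ≫
      (ι₁.resLE (a₁ ⁻¹ᵁ (h ⁻¹ᵁ O)) (ι₁ ⁻¹ᵁ (a₁ ⁻¹ᵁ (h ⁻¹ᵁ O))) le_rfl).appTop := by
    rw [← Scheme.Hom.comp_appTop, ← Scheme.Hom.comp_appTop]
    exact congrArg Scheme.Hom.appTop (comm_resLE fZ ι ι₁ fX hX.w.symm _ _ _ _)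
  have c4 : (ξ.resLE (b ⁻¹ᵁ O) (ι ⁻¹ᵁ (a ⁻¹ᵁ O)) hleξ).appTop ≫
      (fZ.resLE (ι ⁻¹ᵁ (a ⁻¹ᵁ O)) (ι₁ ⁻¹ᵁ (a₁ ⁻¹ᵁ (h ⁻¹ᵁ O))) hlez).appTop =
      (fT.resLE (b ⁻¹ᵁ O) (b₁ ⁻¹ᵁ (h ⁻¹ᵁ O)) hleb).appTop ≫
      (ξ₁.resLE (b₁ ⁻¹ᵁ (h ⁻¹ᵁ O)) (ι₁ ⁻¹ᵁ (a₁ ⁻¹ᵁ (h ⁻¹ᵁ O))) hleξ₁).appTop := by
    rw [← Scheme.Hom.comp_appTop, ← Scheme.Hom.comp_appTop]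
    exact congrArg Scheme.Hom.appTop (comm_resLE fZ ξ ξ₁ fT hT.w.symm _ _ _ _)
  -- the two restricted pullback squares
  have pbX : IsPullback (ι₁.resLE (a₁ ⁻¹ᵁ (h ⁻¹ᵁ O)) (ι₁ ⁻¹ᵁ (a₁ ⁻¹ᵁ (h ⁻¹ᵁ O))) le_rfl)
      (fZ.resLE (ι ⁻¹ᵁ (a ⁻¹ᵁ O)) (ι₁ ⁻¹ᵁ (a₁ ⁻¹ᵁ (h ⁻¹ᵁ O))) hlez)
      (fX.resLE (a ⁻¹ᵁ O) (a₁ ⁻¹ᵁ (h ⁻¹ᵁ O)) hlea)
      (ι.resLE (a ⁻¹ᵁ O) (ι ⁻¹ᵁ (a ⁻¹ᵁ O)) le_rfl) :=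
    Scheme.Hom.isPullback_resLE hX le_rfl hlea (UY := ι₁ ⁻¹ᵁ (a₁ ⁻¹ᵁ (h ⁻¹ᵁ O)))
      (inf_eq_left.mpr hlez).symm
  have hUY : ι₁ ⁻¹ᵁ (a₁ ⁻¹ᵁ (h ⁻¹ᵁ O)) =
      ξ₁ ⁻¹ᵁ (b₁ ⁻¹ᵁ (h ⁻¹ᵁ O)) ⊓ fZ ⁻¹ᵁ (ι ⁻¹ᵁ (a ⁻¹ᵁ O)) := by
    have e : ι₁ ⁻¹ᵁ (a₁ ⁻¹ᵁ (h ⁻¹ᵁ O)) = ξ₁ ⁻¹ᵁ (b₁ ⁻¹ᵁ (h ⁻¹ᵁ O)) := by
      show (ι₁ ≫ a₁) ⁻¹ᵁ (h ⁻¹ᵁ O) = (ξ₁ ≫ b₁) ⁻¹ᵁ (h ⁻¹ᵁ O)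
      rw [hP₁.w]
    rw [← e]
    exact (inf_eq_left.mpr hlez).symm
  have pbT : IsPullback (ξ₁.resLE (b₁ ⁻¹ᵁ (h ⁻¹ᵁ O)) (ι₁ ⁻¹ᵁ (a₁ ⁻¹ᵁ (h ⁻¹ᵁ O))) hleξ₁)
      (fZ.resLE (ι ⁻¹ᵁ (a ⁻¹ᵁ O)) (ι₁ ⁻¹ᵁ (a₁ ⁻¹ᵁ (h ⁻¹ᵁ O))) hlez)
      (fT.resLE (b ⁻¹ᵁ O) (b₁ ⁻¹ᵁ (h ⁻¹ᵁ O)) hleb)
      (ξ.resLE (b ⁻¹ᵁ O) (ι ⁻¹ᵁ (a ⁻¹ᵁ O)) hleξ) :=
    Scheme.Hom.isPullback_resLE hT hleξ hleb (UY := ι₁ ⁻¹ᵁ (a₁ ⁻¹ᵁ (h ⁻¹ᵁ O))) hUY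
  have po1 := (isPushout_appTop_of_isPullback pbX).flip
  have po2 := (isPushout_appTop_of_isPullback pbT).flip
  -- finiteness and étaleness of the pieces
  have h1 := finite_appTop_resLE fX (hO.preimage a) (a₁ ⁻¹ᵁ (h ⁻¹ᵁ O)) (pre_a a a₁ fX h ha O)
  have h1' := etale_appTop_resLE fX (hO.preimage a) (hO₁.preimage a₁) hlea
  have h2 := finite_appTop_resLE fT (hO.preimage b) (b₁ ⁻¹ᵁ (h ⁻¹ᵁ O)) (pre_a b b₁ fT h hb O)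
  have h2' := etale_appTop_resLE fT (hO.preimage b) (hO₁.preimage b₁) hleb
  obtain ⟨r1, r2, r3, r4⟩ := MilAlg.finite_etale_fibreProduct_cat
    (a.resLE O (a ⁻¹ᵁ O) le_rfl).appTop (b.resLE O (b ⁻¹ᵁ O) le_rfl).appTop
    (ι.resLE (a ⁻¹ᵁ O) (ι ⁻¹ᵁ (a ⁻¹ᵁ O)) le_rfl).appTop
    (ξ.resLE (b ⁻¹ᵁ O) (ι ⁻¹ᵁ (a ⁻¹ᵁ O)) hleξ).appTop comm hp
    (fun r r' e1 e2 => hinj₀ r r' e2 e1)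
    (fun x y hxy => by
      obtain ⟨c, hc1, hc2⟩ := hsurj₀ y x hxy.symm
      exact ⟨c, hc2, hc1⟩)
    (a₁.resLE (h ⁻¹ᵁ O) (a₁ ⁻¹ᵁ (h ⁻¹ᵁ O)) le_rfl).appTop
    (b₁.resLE (h ⁻¹ᵁ O) (b₁ ⁻¹ᵁ (h ⁻¹ᵁ O)) le_rfl).appTop
    (ι₁.resLE (a₁ ⁻¹ᵁ (h ⁻¹ᵁ O)) (ι₁ ⁻¹ᵁ (a₁ ⁻¹ᵁ (h ⁻¹ᵁ O))) le_rfl).appTop
    (ξ₁.resLE (b₁ ⁻¹ᵁ (h ⁻¹ᵁ O)) (ι₁ ⁻¹ᵁ (a₁ ⁻¹ᵁ (h ⁻¹ᵁ O))) hleξ₁).appTop comm₁ hp₁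
    (fun r r' e1 e2 => hinj₁ r r' e2 e1)
    (fun x y hxy => by
      obtain ⟨c, hc1, hc2⟩ := hsurj₁ y x hxy.symm
      exact ⟨c, hc2, hc1⟩)
    (h.resLE O (h ⁻¹ᵁ O) le_rfl).appTop
    (fX.resLE (a ⁻¹ᵁ O) (a₁ ⁻¹ᵁ (h ⁻¹ᵁ O)) hlea).appTop
    (fT.resLE (b ⁻¹ᵁ O) (b₁ ⁻¹ᵁ (h ⁻¹ᵁ O)) hleb).appTop
    (fZ.resLE (ι ⁻¹ᵁ (a ⁻¹ᵁ O)) (ι₁ ⁻¹ᵁ (a₁ ⁻¹ᵁ (h ⁻¹ᵁ O))) hlez).appTop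
    c1 c2 c3 c4 po1 po2 h1 h1' h2 h2'
  exact ⟨hO₁, r1, r2, fun _ => r3, fun _ => r4⟩

end

end Groth.Agent.Helper8.Push
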