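import Mathlib
import Groth.Prelude.Def_FEt
import Groth.Agent.Helper8.PushFEtB
import Groth.Agent.Helper8.PushK

/-!
# Finite étale covers of a Ferrand pushout, part C: glueing finite étale covers
-/

set_option autoImplicit false
universe u

open CategoryTheory CategoryTheory.Limits AlgebraicGeometry Opposite TopologicalSpace

namespace Groth.Agent.Helper8.Push

section

variable {X T Z P : Scheme.{u}} (ι : Z ⟶ X) (ξ : Z ⟶ T) (a : X ⟶ P) (b : T ⟶ P)
  {X₁ T₁ Z₁ P₁ : Scheme.{u}} (ι₁ : Z₁ ⟶ X₁) (ξ₁ : Z₁ ⟶ T₁) (a₁ : X₁ ⟶ P₁) (b₁ : T₁ ⟶ P₁)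
  (fX : X₁ ⟶ X) (fT : T₁ ⟶ T) (fZ : Z₁ ⟶ Z) (h : P₁ ⟶ P)
  [IsClosedImmersion ι₁] (H₁ : ∀ t : T₁, ∃ k : GoodPair ι₁ ξ₁, t ∈ k.W)
  [IsClosedImmersion ι] (H : ∀ t : T, ∃ k : GoodPair ι ξ, t ∈ k.W)

include H H₁ in
set_option maxHeartbeats 1600000 in
/-- a map of Ferrand pushout squares whose `X`- and `T`-components are finite étale and cartesian
over `Z` is finite étale with cartesian `X`- and `T`-squares. -/
theorem finite_etale_and_isPullback (hP : IsPushout ι ξ a b) (hP₁ : IsPushout ι₁ ξ₁ a₁ b₁)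
    (hX : IsPullback ι₁ fZ fX ι) (hT : IsPullback ξ₁ fZ fT ξ)
    (ha : a₁ ≫ h = fX ≫ a) (hb : b₁ ≫ h = fT ≫ b)
    [IsFinite fX] [Etale fX] [IsFinite fT] [Etale fT] :
    IsFinite h ∧ Etale h ∧ IsPullback a₁ fX h a ∧ IsPullback b₁ fT h b := by
  haveI : IsAffineHom a := isAffineHom_of_isPushout ι ξ a b H hP
  haveI : IsClosedImmersion b := (of_isPushout ι ξ H hP).2.1
  haveI : IsAffineHom a₁ := isAffineHom_of_isPushout ι₁ ξ₁ a₁ b₁ H₁ hP₁
  haveI : IsClosedImmersion b₁ := (of_isPushout ι₁ ξ₁ H₁ hP₁).2.1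
  have L := fun (O : P.Opens) (hO : IsAffineOpen O) =>
    local_finite_etale ι ξ a b ι₁ ξ₁ a₁ b₁ fX fT fZ h H₁ H hP hP₁ hX hT ha hb O hO
  refine ⟨?_, ?_, ?_, ?_⟩
  · refine (HasAffineProperty.iff_of_iSup_eq_top (P := @IsFinite) (fun O : P.affineOpens => O)
      (iSup_affineOpens_eq_top P)).mpr (fun O => ?_)
    obtain ⟨l1, l2, -⟩ := L O.1 O.2
    rw [Scheme.Hom.resLE_eq_morphismRestrict] at l2
    exact ⟨l1, l2⟩
  · refine (IsZariskiLocalAtTarget.iff_of_iSup_eq_top (P := @Etale)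
      (fun O : P.affineOpens => O.1) (iSup_affineOpens_eq_top P)).mpr (fun O => ?_)
    obtain ⟨l1, -, l3, -⟩ := L O.1 O.2
    haveI : IsAffine ((O.1 : P.Opens) : Scheme.{u}) := O.2
    haveI : IsAffine ((h ⁻¹ᵁ O.1 : P₁.Opens) : Scheme.{u}) := l1
    rw [Scheme.Hom.resLE_eq_morphismRestrict] at l3
    exact (HasRingHomProperty.iff_of_isAffine (P := @Etale)).mpr l3
  · refine isPullback_of_local_isPushout a₁ fX h a ha (fun O hO => ?_)
    obtain ⟨l1, -, -, l4, -⟩ := L O hO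
    exact ⟨l1, hO.preimage a, l1.preimage a₁, fun hle => (l4 hle).flip⟩
  · refine isPullback_of_local_isPushout b₁ fT h b hb (fun O hO => ?_)
    obtain ⟨l1, -, -, -, l5⟩ := L O hO
    exact ⟨l1, hO.preimage b, l1.preimage b₁, fun hle => (l5 hle).flip⟩

end

set_option maxHeartbeats 1600000 in
/-- **finite étale covers descend to a Ferrand pushout.** -/
theorem exists_fet_of_isPushout {Z X Y W : Scheme.{u}} (i : Z ⟶ X) [IsClosedImmersion i]
    (j : Z ⟶ Y) [IsIntegralHom j]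
    (h3 : ∀ y : Y, ∃ U : X.Opens, IsAffineOpen U ∧ ∀ z : Z, j.base z = y → i.base z ∈ U)
    (a : X ⟶ W) (b : Y ⟶ W) (hpo : IsPushout i j a b)
    (U : FEt.Cat X) (V : FEt.Cat Y) (e : (FEt.restrict i).obj U ≅ (FEt.restrict j).obj V) :
    ∃ T : FEt.Cat W, Nonempty ((FEt.restrict a).obj T ≅ U) ∧
      Nonempty ((FEt.restrict b).obj T ≅ V) := by
  have H : ∀ y : Y, ∃ k : GoodPair i j, y ∈ k.W := goodPairs_of_haff i j (fun y => by
    obtain ⟨O, hO, hO'⟩ := h3 y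
    exact ⟨O, hO, fun z hz => hO' z hz⟩)
  haveI : IsFinite U.hom := U.prop.1
  haveI : Etale U.hom := U.prop.2
  haveI : IsFinite V.hom := V.prop.1
  haveI : Etale V.hom := V.prop.2
  -- the iso of the restrictions to `Z`
  let eL : pullback U.hom i ≅ pullback V.hom j :=
    (MorphismProperty.Over.forget FEt.prop ⊤ Z ⋙ Over.forget Z).mapIso e
  have heL : eL.hom ≫ pullback.snd V.hom j = pullback.snd U.hom i := Over.w e.hom.hom
  have hX : IsPullback (pullback.fst U.hom i) (pullback.snd U.hom i) U.hom i :=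
    IsPullback.of_hasPullback U.hom i
  have hTw : (eL.hom ≫ pullback.fst V.hom j) ≫ V.hom = pullback.snd U.hom i ≫ j := by
    rw [Category.assoc, pullback.condition, ← Category.assoc, heL]
  have hT : IsPullback (eL.hom ≫ pullback.fst V.hom j) (pullback.snd U.hom i) V.hom j :=
    IsPullback.of_iso_pullback ⟨hTw⟩ eL rfl heL
  have H₁ : ∀ v : V.left, ∃ k : GoodPair (pullback.fst U.hom i) (eL.hom ≫ pullback.fst V.hom j),
      v ∈ k.W := goodPairs_of_haff _ _ (fun v => by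
    obtain ⟨O, hO, hO'⟩ := h3 (V.hom v)
    refine ⟨U.hom ⁻¹ᵁ O, hO.preimage U.hom, fun z hz => ?_⟩
    have hz' : (eL.hom ≫ pullback.fst V.hom j) z = v := hz
    show U.hom (pullback.fst U.hom i z) ∈ O
    rw [← Scheme.Hom.comp_apply, hX.w, Scheme.Hom.comp_apply]
    apply hO'
    show j (pullback.snd U.hom i z) = V.hom v
    rw [← Scheme.Hom.comp_apply, ← hTw, Scheme.Hom.comp_apply, hz'])
  have hP₁ := isPushout (pullback.fst U.hom i) (eL.hom ≫ pullback.fst V.hom j) H₁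
  have hcompat : pullback.fst U.hom i ≫ U.hom ≫ a =
      (eL.hom ≫ pullback.fst V.hom j) ≫ V.hom ≫ b := by
    rw [← Category.assoc, hX.w, Category.assoc, hpo.w, ← Category.assoc (eL.hom ≫ _), hTw,
      Category.assoc]
  obtain ⟨hfin, het, pbX, pbT⟩ := finite_etale_and_isPullback i j a b
    (pullback.fst U.hom i) (eL.hom ≫ pullback.fst V.hom j)
    (inl (pullback.fst U.hom i) (eL.hom ≫ pullback.fst V.hom j) H₁)
    (inr (pullback.fst U.hom i) (eL.hom ≫ pullback.fst V.hom j) H₁)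
    U.hom V.hom (pullback.snd U.hom i) (hP₁.desc (U.hom ≫ a) (V.hom ≫ b) hcompat) H₁ H hpo hP₁ hX hT
    (hP₁.inl_desc _ _ _) (hP₁.inr_desc _ _ _)
  refine ⟨MorphismProperty.Over.mk ⊤ (hP₁.desc (U.hom ≫ a) (V.hom ≫ b) hcompat) ⟨hfin, het⟩, ?_, ?_⟩
  · exact ⟨MorphismProperty.Over.isoMk pbX.isoPullback.symm pbX.isoPullback_inv_snd⟩
  · exact ⟨MorphismProperty.Over.isoMk pbT.isoPullback.symm pbT.isoPullback_inv_snd⟩

end Groth.Agent.Helper8.Push
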