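import Mathlib
import Groth.Agent.Helper9.TorsorTriv

/-!
# Change of structure group along a homomorphism which is an isomorphism over `η ⟶ X`

`g : G ⟶ G'` a homomorphism of `X`-groups which becomes an isomorphism after base change along
`j : η ⟶ X`, `f : P ⟶ P'` a `g`-equivariant morphism of pseudo-torsors.  Points of `P` over `η`-schemes
are determined by their images in `P'` (`unique_lift`), points of `P'` lift as soon as `P` has a point
(`exists_lift`), and a section of `P'` gives a point of `P` over `η` as soon as `P` has a point over a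
flat affine cover of `η` (`hasSectionOver_of_push`).
-/

set_option autoImplicit false

namespace Groth.Agent.Helper8.PushGen

open CategoryTheory CategoryTheory.Limits MonoidalCategory CartesianMonoidalCategory MonObj
  AlgebraicGeometry

universe u

variable {X : Scheme.{u}} {G G' P P' : Over X} [GrpObj G] [GrpObj G'] (g : G ⟶ G') [IsMonHom g]
  (a : AlgGrp.Action G P) (a' : AlgGrp.Action G' P')
  (hps : IsIso (lift a.act (snd G P))) (hps' : IsIso (lift a'.act (snd G' P')))
  (f : P ⟶ P') (hf : a.act ≫ f = lift (fst G P ≫ g) (snd G P ≫ f) ≫ a'.act)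
  {E : Scheme.{u}} (j : E ⟶ X) (hg : IsIso ((Over.pullback j).map g))

include hf in
omit [IsMonHom g] in
lemma act_comp {T : Over X} (h : T ⟶ G) (q : T ⟶ P) :
    (lift h q ≫ a.act) ≫ f = lift (h ≫ g) (q ≫ f) ≫ a'.act := by
  rw [Category.assoc, hf, ← Category.assoc, comp_lift, lift_fst_assoc, lift_snd_assoc]

omit [IsMonHom g] in
lemma one_act' {T : Over X} (y : T ⟶ P') : lift (toUnit T ≫ η[G']) y ≫ a'.act = y := by
  rw [← lift_whiskerRight, Category.assoc, a'.one_act, lift_leftUnitor_hom]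

include hg in
omit [IsMonHom g] [GrpObj G] [GrpObj G'] in
lemma pts_injective (W : Over E) (h₁ h₂ : (Over.map j).obj W ⟶ G) (h : h₁ ≫ g = h₂ ≫ g) :
    h₁ = h₂ := by
  haveI := hg
  apply ((Over.mapPullbackAdj j).homEquiv W G).injective
  have := congrArg ((Over.mapPullbackAdj j).homEquiv W G') h
  rw [Adjunction.homEquiv_naturality_right, Adjunction.homEquiv_naturality_right,
    cancel_mono] at this
  exact this

include hg in
omit [IsMonHom g] [GrpObj G] [GrpObj G'] in
lemma pts_surjective (W : Over E) (g' : (Over.map j).obj W ⟶ G') :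
    ∃ h : (Over.map j).obj W ⟶ G, h ≫ g = g' := by
  haveI := hg
  refine ⟨((Over.mapPullbackAdj j).homEquiv W G).symm
    (((Over.mapPullbackAdj j).homEquiv W G') g' ≫ inv ((Over.pullback j).map g)), ?_⟩
  rw [← Adjunction.homEquiv_naturality_right_symm, Category.assoc, IsIso.inv_hom_id,
    Category.comp_id, Equiv.symm_apply_apply]

include hps hps' hf hg in
/-- points of `P` over `η`-schemes are determined by their images in `P'` -/
lemma unique_lift (W : Over E) (q₁ q₂ : (Over.map j).obj W ⟶ P) (h : q₁ ≫ f = q₂ ≫ f) :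
    q₁ = q₂ := by
  let k : (Over.map j).obj W ⟶ G := lift q₁ q₂ ≫ Groth.Agent.Helper9.TorsorTriv.dv a hps
  have h1 : lift k q₂ ≫ a.act = q₁ := Groth.Agent.Helper9.TorsorTriv.act_dv a hps q₁ q₂
  have h2 : lift (k ≫ g) (q₂ ≫ f) ≫ a'.act = q₂ ≫ f := by
    rw [← act_comp g a a' f hf, h1, h]
  have h3 : k ≫ g = toUnit ((Over.map j).obj W) ≫ η[G'] := by
    have e1 := Groth.Agent.Helper9.TorsorTriv.dv_act a' hps' (k ≫ g) (q₂ ≫ f)
    have e2 := Groth.Agent.Helper9.TorsorTriv.dv_act a' hps' (toUnit ((Over.map j).obj W) ≫ η[G']) (q₂ ≫ f)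
    rw [h2] at e1
    rw [one_act' a'] at e2
    rw [← e1, e2]
  have h4 : k = toUnit ((Over.map j).obj W) ≫ η[G] := by
    apply pts_injective g j hg W
    rw [h3, Category.assoc, IsMonHom.one_hom]
  rw [← h1, h4]
  rw [← lift_whiskerRight, Category.assoc, a.one_act, lift_leftUnitor_hom]

include hps' hf hg in
omit [IsMonHom g] in
/-- points of `P'` over `η`-schemes lift to `P` as soon as `P` has a point -/
lemma exists_lift (W : Over E) (q₀ : (Over.map j).obj W ⟶ P) (y : (Over.map j).obj W ⟶ P') :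
    ∃ q : (Over.map j).obj W ⟶ P, q ≫ f = y := by
  let g' : (Over.map j).obj W ⟶ G' :=
    lift y (q₀ ≫ f) ≫ Groth.Agent.Helper9.TorsorTriv.dv a' hps'
  have h1 : lift g' (q₀ ≫ f) ≫ a'.act = y :=
    Groth.Agent.Helper9.TorsorTriv.act_dv a' hps' y (q₀ ≫ f)
  obtain ⟨h, hh⟩ := pts_surjective g j hg W g'
  refine ⟨lift h q₀ ≫ a.act, ?_⟩
  rw [act_comp g a a' f hf, hh, h1]

include hps hps' hf hg in
/-- a section of `P'` gives a point of `P` over `η` as soon as `P` has a point over a flat
affine cover of `η` -/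
theorem hasSectionOver_of_push {T : Scheme.{u}} (τ : T ⟶ E) [IsAffine T] [IsAffine E] [Flat τ]
    [Surjective τ] (q₀ : T ⟶ P.left) (hq₀ : q₀ ≫ P.hom = τ ≫ j)
    (σ' : X ⟶ P'.left) (hσ' : σ' ≫ P'.hom = 𝟙 X) : NonAbH1.HasSectionOver P j := by
  let s' : 𝟙_ (Over X) ⟶ P' := Over.homMk σ' hσ'
  let W : Over E := Over.mk τ
  let Q₀ : (Over.map j).obj W ⟶ P := Over.homMk q₀ hq₀
  obtain ⟨q, hq⟩ := exists_lift g a a' hps' f hf j hg W Q₀ (toUnit _ ≫ s')
  -- the kernel pair
  let W₂ : Over E := Over.mk (pullback.fst τ τ ≫ τ)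
  let pr₁ : (Over.map j).obj W₂ ⟶ (Over.map j).obj W := Over.homMk (pullback.fst τ τ) rfl
  let pr₂ : (Over.map j).obj W₂ ⟶ (Over.map j).obj W := Over.homMk (pullback.snd τ τ) (by
    show pullback.snd τ τ ≫ τ ≫ j = (pullback.fst τ τ ≫ τ) ≫ j
    rw [← Category.assoc, ← pullback.condition])
  have h1 : pr₁ ≫ q = pr₂ ≫ q := by
    apply unique_lift g a a' hps hps' f hf j hg W₂
    rw [Category.assoc, Category.assoc, hq, ← Category.assoc, ← Category.assoc]
    congr 1
    exact toUnit_unique _ _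
  have h2 : pullback.fst τ τ ≫ q.left = pullback.snd τ τ ≫ q.left :=
    congrArg (fun k => k.left) h1
  haveI : IsRegularEpi τ := isRegularEpi_of_flat_of_surjective_of_isAffine τ
  obtain ⟨u, hu⟩ := IsRegularEpi.exists_of_isKernelPair τ (IsPullback.of_hasPullback τ τ) q.left h2
  refine ⟨u, ?_⟩
  haveI : Epi τ := Flat.epi_of_flat_of_surjective τ
  rw [← cancel_epi τ, ← Category.assoc, hu]
  exact Over.w q

end Groth.Agent.Helper8.PushGen
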