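import Mathlib
import Groth.Agent.Helper8.PushF
import Groth.Agent.Lead.Thick4

/-!
# Pushouts of schemes, part I: pushout along a thickening of an affine morphism

`t : X ⟶ X'` a surjective closed immersion, `f : X ⟶ Y` affine.  Good pairs cover `Y`: for `W ⊆ Y`
affine open, `f⁻¹ W` is affine open in `X`, the open `V ⊆ X'` with the same underlying set is affine
because a thickening of an affine scheme is affine (lead's `Thick4`).
-/

set_option autoImplicit false
universe u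

open CategoryTheory CategoryTheory.Limits AlgebraicGeometry Opposite TopologicalSpace

namespace Groth.Agent.Helper8.Push

section

variable {X T Z : Scheme.{u}} (ι : Z ⟶ X) (ξ : Z ⟶ T) [IsClosedImmersion ι]
  (H : ∀ t : T, ∃ k : GoodPair ι ξ, t ∈ k.W)

/-- `X` and `T` jointly cover the pushout. -/
lemma P_surj (p : P ι ξ) : (∃ x : X, inl ι ξ H x = p) ∨ (∃ t : T, inr ι ξ H t = p) := by
  obtain ⟨k, s, hs⟩ := (coverP ι ξ).exists_eq p
  revert s
  revert k
  intro (k : GoodPair ι ξ) (s : Spec k.R) (hs : chart ι ξ k s = p)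
  rcases k.chart_surj s with ⟨x, rfl⟩ | ⟨t, rfl⟩
  · left
    exact ⟨x.1, by rw [inl_apply ι ξ H k x.1 x.2]; exact hs⟩
  · right
    exact ⟨t.1, by rw [inr_apply ι ξ H k t.1 t.2]; exact hs⟩

lemma inr_surjective (hι : Function.Surjective ι) : Function.Surjective (inr ι ξ H) := by
  intro p
  rcases P_surj ι ξ H p with ⟨x, rfl⟩ | ⟨t, rfl⟩
  · obtain ⟨z, rfl⟩ := hι x
    refine ⟨ξ z, ?_⟩
    rw [← Scheme.Hom.comp_apply, ← inl_inr_w, Scheme.Hom.comp_apply]
  · exact ⟨t, rfl⟩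

end

theorem goodPairs_of_thickening {X X' Y : Scheme.{u}} (t : X ⟶ X') [IsClosedImmersion t]
    (ht : Function.Surjective t) (f : X ⟶ Y) [IsAffineHom f] :
    ∀ y : Y, ∃ k : GoodPair t f, y ∈ k.W := by
  intro y
  obtain ⟨W, hW, hyW, -⟩ := Opens.isBasis_iff_nbhd.mp Y.isBasis_affineOpens
    (U := ⊤) (x := y) trivial
  have hh : IsHomeomorph t := isHomeomorph_iff_isEmbedding_surjective.mpr ⟨t.isEmbedding, ht⟩
  let V : X'.Opens := ⟨t '' (f ⁻¹ᵁ W : Set X), hh.isOpenMap _ (f ⁻¹ᵁ W).isOpen⟩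
  have hV : t ⁻¹ᵁ V = f ⁻¹ᵁ W := by
    ext x
    show t x ∈ t '' _ ↔ _
    exact hh.injective.mem_set_image
  have hU : IsAffineOpen (t ⁻¹ᵁ V) := by
    rw [hV]
    exact hW.preimage f
  haveI : IsAffine (t ⁻¹ᵁ V : Scheme.{u}) := hU
  have hsurj : Function.Surjective (t ∣_ V) := by
    rintro ⟨v, hv⟩
    obtain ⟨x, hx, rfl⟩ := hv
    have hx' : x ∈ t ⁻¹ᵁ V := by
      rw [hV]
      exact hx
    exact ⟨⟨x, hx'⟩, Subtype.ext (morphismRestrict_base_coe t V ⟨x, hx'⟩)⟩
  have hVaff : IsAffineOpen V := Groth.Agent.Lead.Thick.isAffine_of_thickening (t ∣_ V) hsurj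
  exact ⟨⟨V, W, hVaff, hW, hV⟩, hyW⟩

theorem exists_isPushout_of_thickening {X X' Y : Scheme.{u}} (t : X ⟶ X') [IsClosedImmersion t]
    (ht : Function.Surjective t) (f : X ⟶ Y) [IsAffineHom f] :
    ∃ (Y' : Scheme.{u}) (f' : X' ⟶ Y') (b : Y ⟶ Y'), IsPushout t f f' b ∧ IsPullback t f f' b ∧
      IsClosedImmersion b ∧ Function.Surjective b := by
  have H := goodPairs_of_thickening t ht f
  exact ⟨P t f, inl t f H, inr t f H, isPushout t f H, isPullback t f H, inferInstance,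
    inr_surjective t f H ht⟩

end Groth.Agent.Helper8.Push
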