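import Mathlib
import Groth.Agent.Helper8.PushFEtB
import Groth.Agent.Helper8.MilAlgG

/-!
# Morphisms between Ferrand pushouts: local computation for finite type, flat, finitely presented,
smooth and étale
-/

set_option autoImplicit false
universe u

open CategoryTheory CategoryTheory.Limits AlgebraicGeometry Opposite TopologicalSpace

namespace Groth.Agent.Helper8.Push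

section

variable {X T Z P : Scheme.{u}} (ι : Z ⟶ X) (ξ : Z ⟶ T) (a : X ⟶ P) (b : T ⟶ P)
  {X₁ T₁ Z₁ P₁ : Scheme.{u}} (ι₁ : Z₁ ⟶ X₁) (ξ₁ : Z₁ ⟶ T₁) (a₁ : X₁ ⟶ P₁) (b₁ : T₁ ⟶ P₁)
  (fX : X₁ ⟶ X) (fT : T₁ ⟶ T) (fZ : Z₁ ⟶ Z) (h : P₁ ⟶ P)

variable [IsClosedImmersion ι₁] (H₁ : ∀ t : T₁, ∃ k : GoodPair ι₁ ξ₁, t ∈ k.W)
variable [IsClosedImmersion ι] (H : ∀ t : T, ∃ k : GoodPair ι ξ, t ∈ k.W)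

include H H₁ in
set_option maxHeartbeats 3200000 in
/-- the local computation: over affine opens `O' ⊆ h⁻¹ O` of the two pushouts, the five properties
of `Γ(O) → Γ(O')` are equivalent to those of the two pieces. -/
theorem local_properties_iff (hP : IsPushout ι ξ a b) (hP₁ : IsPushout ι₁ ξ₁ a₁ b₁)
    (hX : IsPullback ι₁ fZ fX ι) (hT : IsPullback ξ₁ fZ fT ξ)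
    (ha : a₁ ≫ h = fX ≫ a) (hb : b₁ ≫ h = fT ≫ b)
    (O : P.Opens) (hO : IsAffineOpen O) (O' : P₁.Opens) (hO' : IsAffineOpen O')
    (e : O' ≤ h ⁻¹ᵁ O)
    (hlea : a₁ ⁻¹ᵁ O' ≤ fX ⁻¹ᵁ (a ⁻¹ᵁ O)) (hleb : b₁ ⁻¹ᵁ O' ≤ fT ⁻¹ᵁ (b ⁻¹ᵁ O)) :
    ((h.resLE O O' e).appTop.hom.FiniteType ↔
      (fT.resLE (b ⁻¹ᵁ O) (b₁ ⁻¹ᵁ O') hleb).appTop.hom.FiniteType ∧
      (fX.resLE (a ⁻¹ᵁ O) (a₁ ⁻¹ᵁ O') hlea).appTop.hom.FiniteType) ∧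
    ((h.resLE O O' e).appTop.hom.Flat ↔
      (fT.resLE (b ⁻¹ᵁ O) (b₁ ⁻¹ᵁ O') hleb).appTop.hom.Flat ∧
      (fX.resLE (a ⁻¹ᵁ O) (a₁ ⁻¹ᵁ O') hlea).appTop.hom.Flat) ∧
    ((h.resLE O O' e).appTop.hom.Flat ∧ (h.resLE O O' e).appTop.hom.FinitePresentation ↔
      ((fT.resLE (b ⁻¹ᵁ O) (b₁ ⁻¹ᵁ O') hleb).appTop.hom.Flat ∧
        (fT.resLE (b ⁻¹ᵁ O) (b₁ ⁻¹ᵁ O') hleb).appTop.hom.FinitePresentation) ∧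
      ((fX.resLE (a ⁻¹ᵁ O) (a₁ ⁻¹ᵁ O') hlea).appTop.hom.Flat ∧
        (fX.resLE (a ⁻¹ᵁ O) (a₁ ⁻¹ᵁ O') hlea).appTop.hom.FinitePresentation)) ∧
    ((h.resLE O O' e).appTop.hom.Smooth ↔
      (fT.resLE (b ⁻¹ᵁ O) (b₁ ⁻¹ᵁ O') hleb).appTop.hom.Smooth ∧
      (fX.resLE (a ⁻¹ᵁ O) (a₁ ⁻¹ᵁ O') hlea).appTop.hom.Smooth) ∧
    ((h.resLE O O' e).appTop.hom.Etale ↔
      (fT.resLE (b ⁻¹ᵁ O) (b₁ ⁻¹ᵁ O') hleb).appTop.hom.Etale ∧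
      (fX.resLE (a ⁻¹ᵁ O) (a₁ ⁻¹ᵁ O') hlea).appTop.hom.Etale) := by
  haveI : IsAffineHom a := isAffineHom_of_isPushout ι ξ a b H hP
  haveI : IsClosedImmersion b := (of_isPushout ι ξ H hP).2.1
  haveI : IsAffineHom a₁ := isAffineHom_of_isPushout ι₁ ξ₁ a₁ b₁ H₁ hP₁
  haveI : IsClosedImmersion b₁ := (of_isPushout ι₁ ξ₁ H₁ hP₁).2.1
  -- affineness of all pieces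
  haveI : IsAffine (O : Scheme.{u}) := hO
  haveI : IsAffine (O' : Scheme.{u}) := hO'
  haveI : IsAffine ((a ⁻¹ᵁ O : X.Opens) : Scheme.{u}) := hO.preimage a
  haveI : IsAffine ((b ⁻¹ᵁ O : T.Opens) : Scheme.{u}) := hO.preimage b
  haveI : IsAffine ((ι ⁻¹ᵁ (a ⁻¹ᵁ O) : Z.Opens) : Scheme.{u}) := (hO.preimage a).preimage ι
  haveI : IsAffine ((a₁ ⁻¹ᵁ O' : X₁.Opens) : Scheme.{u}) := hO'.preimage a₁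
  haveI : IsAffine ((b₁ ⁻¹ᵁ O' : T₁.Opens) : Scheme.{u}) := hO'.preimage b₁
  haveI : IsAffine ((ι₁ ⁻¹ᵁ (a₁ ⁻¹ᵁ O') : Z₁.Opens) : Scheme.{u}) :=
    (hO'.preimage a₁).preimage ι₁
  -- inequalities between opens
  have hlez : ι₁ ⁻¹ᵁ (a₁ ⁻¹ᵁ O') ≤ fZ ⁻¹ᵁ (ι ⁻¹ᵁ (a ⁻¹ᵁ O)) := by
    intro z hz
    show a (ι (fZ z)) ∈ O
    have h1 : a (fX (ι₁ z)) ∈ O := hlea hz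
    have h2 : ι (fZ z) = fX (ι₁ z) := by
      rw [← Scheme.Hom.comp_apply, ← Scheme.Hom.comp_apply, hX.w]
    rw [h2]
    exact h1
  have hleξ : ι ⁻¹ᵁ (a ⁻¹ᵁ O) ≤ ξ ⁻¹ᵁ (b ⁻¹ᵁ O) := preimage_le ι ξ a b hP.w O
  have hleξ₁ : ι₁ ⁻¹ᵁ (a₁ ⁻¹ᵁ O') ≤ ξ₁ ⁻¹ᵁ (b₁ ⁻¹ᵁ O') :=
    preimage_le ι₁ ξ₁ a₁ b₁ hP₁.w O'
  -- the two restricted pushout squares
  have hres := isPushout_resLE_of_isPushout ι ξ a b H hP O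
  have hres₁ := isPushout_resLE_of_isPushout ι₁ ξ₁ a₁ b₁ H₁ hP₁ O'
  obtain ⟨hinj₀, hsurj₀⟩ := sections_exact_of_isPushout hres
  obtain ⟨hinj₁, hsurj₁⟩ := sections_exact_of_isPushout hres₁
  haveI : IsClosedImmersion (ι.resLE (a ⁻¹ᵁ O) (ι ⁻¹ᵁ (a ⁻¹ᵁ O)) le_rfl) := by
    rw [Scheme.Hom.resLE_eq_morphismRestrict]
    infer_instance
  haveI : IsClosedImmersion (ι₁.resLE (a₁ ⁻¹ᵁ O') (ι₁ ⁻¹ᵁ (a₁ ⁻¹ᵁ O')) le_rfl) := by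
    rw [Scheme.Hom.resLE_eq_morphismRestrict]
    infer_instance
  have hp : Function.Surjective (ι.resLE (a ⁻¹ᵁ O) (ι ⁻¹ᵁ (a ⁻¹ᵁ O)) le_rfl).appTop.hom :=
    (IsClosedImmersion.isAffine_surjective_of_isAffine _).2
  have hp₁ : Function.Surjective
      (ι₁.resLE (a₁ ⁻¹ᵁ O') (ι₁ ⁻¹ᵁ (a₁ ⁻¹ᵁ O')) le_rfl).appTop.hom :=
    (IsClosedImmersion.isAffine_surjective_of_isAffine _).2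
  have comm : (a.resLE O (a ⁻¹ᵁ O) le_rfl).appTop ≫
      (ι.resLE (a ⁻¹ᵁ O) (ι ⁻¹ᵁ (a ⁻¹ᵁ O)) le_rfl).appTop =
      (b.resLE O (b ⁻¹ᵁ O) le_rfl).appTop ≫
      (ξ.resLE (b ⁻¹ᵁ O) (ι ⁻¹ᵁ (a ⁻¹ᵁ O)) hleξ).appTop := by
    rw [← Scheme.Hom.comp_appTop, ← Scheme.Hom.comp_appTop, hres.w]
  have comm₁ : (a₁.resLE O' (a₁ ⁻¹ᵁ O') le_rfl).appTop ≫
      (ι₁.resLE (a₁ ⁻¹ᵁ O') (ι₁ ⁻¹ᵁ (a₁ ⁻¹ᵁ O')) le_rfl).appTop =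
      (b₁.resLE O' (b₁ ⁻¹ᵁ O') le_rfl).appTop ≫
      (ξ₁.resLE (b₁ ⁻¹ᵁ O') (ι₁ ⁻¹ᵁ (a₁ ⁻¹ᵁ O')) hleξ₁).appTop := by
    rw [← Scheme.Hom.comp_appTop, ← Scheme.Hom.comp_appTop, hres₁.w]
  -- the vertical compatibilities
  have c1 : (a.resLE O (a ⁻¹ᵁ O) le_rfl).appTop ≫
      (fX.resLE (a ⁻¹ᵁ O) (a₁ ⁻¹ᵁ O') hlea).appTop =
      (h.resLE O O' e).appTop ≫ (a₁.resLE O' (a₁ ⁻¹ᵁ O') le_rfl).appTop := by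
    rw [← Scheme.Hom.comp_appTop, ← Scheme.Hom.comp_appTop]
    exact congrArg Scheme.Hom.appTop (comm_resLE fX a a₁ h ha.symm _ _ _ _)
  have c2 : (b.resLE O (b ⁻¹ᵁ O) le_rfl).appTop ≫
      (fT.resLE (b ⁻¹ᵁ O) (b₁ ⁻¹ᵁ O') hleb).appTop =
      (h.resLE O O' e).appTop ≫ (b₁.resLE O' (b₁ ⁻¹ᵁ O') le_rfl).appTop := by
    rw [← Scheme.Hom.comp_appTop, ← Scheme.Hom.comp_appTop]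
    exact congrArg Scheme.Hom.appTop (comm_resLE fT b b₁ h hb.symm _ _ _ _)
  have c3 : (ι.resLE (a ⁻¹ᵁ O) (ι ⁻¹ᵁ (a ⁻¹ᵁ O)) le_rfl).appTop ≫
      (fZ.resLE (ι ⁻¹ᵁ (a ⁻¹ᵁ O)) (ι₁ ⁻¹ᵁ (a₁ ⁻¹ᵁ O')) hlez).appTop =
      (fX.resLE (a ⁻¹ᵁ O) (a₁ ⁻¹ᵁ O') hlea).appTop ≫
      (ι₁.resLE (a₁ ⁻¹ᵁ O') (ι₁ ⁻¹ᵁ (a₁ ⁻¹ᵁ O')) le_rfl).appTop := by
    rw [← Scheme.Hom.comp_appTop, ← Scheme.Hom.comp_appTop]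
    exact congrArg Scheme.Hom.appTop (comm_resLE fZ ι ι₁ fX hX.w.symm _ _ _ _)
  have c4 : (ξ.resLE (b ⁻¹ᵁ O) (ι ⁻¹ᵁ (a ⁻¹ᵁ O)) hleξ).appTop ≫
      (fZ.resLE (ι ⁻¹ᵁ (a ⁻¹ᵁ O)) (ι₁ ⁻¹ᵁ (a₁ ⁻¹ᵁ O')) hlez).appTop =
      (fT.resLE (b ⁻¹ᵁ O) (b₁ ⁻¹ᵁ O') hleb).appTop ≫
      (ξ₁.resLE (b₁ ⁻¹ᵁ O') (ι₁ ⁻¹ᵁ (a₁ ⁻¹ᵁ O')) hleξ₁).appTop := by
    rw [← Scheme.Hom.comp_appTop, ← Scheme.Hom.comp_appTop]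
    exact congrArg Scheme.Hom.appTop (comm_resLE fZ ξ ξ₁ fT hT.w.symm _ _ _ _)
  -- the two restricted pullback squares
  have pbX : IsPullback (ι₁.resLE (a₁ ⁻¹ᵁ O') (ι₁ ⁻¹ᵁ (a₁ ⁻¹ᵁ O')) le_rfl)
      (fZ.resLE (ι ⁻¹ᵁ (a ⁻¹ᵁ O)) (ι₁ ⁻¹ᵁ (a₁ ⁻¹ᵁ O')) hlez)
      (fX.resLE (a ⁻¹ᵁ O) (a₁ ⁻¹ᵁ O') hlea)
      (ι.resLE (a ⁻¹ᵁ O) (ι ⁻¹ᵁ (a ⁻¹ᵁ O)) le_rfl) :=
    Scheme.Hom.isPullback_resLE hX le_rfl hlea (UY := ι₁ ⁻¹ᵁ (a₁ ⁻¹ᵁ O'))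
      (inf_eq_left.mpr hlez).symm
  have hUY : ι₁ ⁻¹ᵁ (a₁ ⁻¹ᵁ O') = ξ₁ ⁻¹ᵁ (b₁ ⁻¹ᵁ O') ⊓ fZ ⁻¹ᵁ (ι ⁻¹ᵁ (a ⁻¹ᵁ O)) := by
    have e' : ι₁ ⁻¹ᵁ (a₁ ⁻¹ᵁ O') = ξ₁ ⁻¹ᵁ (b₁ ⁻¹ᵁ O') := by
      show (ι₁ ≫ a₁) ⁻¹ᵁ O' = (ξ₁ ≫ b₁) ⁻¹ᵁ O'
      rw [hP₁.w]
    rw [← e']
    exact (inf_eq_left.mpr hlez).symm
  have pbT : IsPullback (ξ₁.resLE (b₁ ⁻¹ᵁ O') (ι₁ ⁻¹ᵁ (a₁ ⁻¹ᵁ O')) hleξ₁)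
      (fZ.resLE (ι ⁻¹ᵁ (a ⁻¹ᵁ O)) (ι₁ ⁻¹ᵁ (a₁ ⁻¹ᵁ O')) hlez)
      (fT.resLE (b ⁻¹ᵁ O) (b₁ ⁻¹ᵁ O') hleb)
      (ξ.resLE (b ⁻¹ᵁ O) (ι ⁻¹ᵁ (a ⁻¹ᵁ O)) hleξ) :=
    Scheme.Hom.isPullback_resLE hT hleξ hleb (UY := ι₁ ⁻¹ᵁ (a₁ ⁻¹ᵁ O')) hUY
  have po1 := (isPushout_appTop_of_isPullback pbX).flip
  have po2 := (isPushout_appTop_of_isPullback pbT).flip
  exact MilAlg.properties_iff_cat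
    (a.resLE O (a ⁻¹ᵁ O) le_rfl).appTop (b.resLE O (b ⁻¹ᵁ O) le_rfl).appTop
    (ι.resLE (a ⁻¹ᵁ O) (ι ⁻¹ᵁ (a ⁻¹ᵁ O)) le_rfl).appTop
    (ξ.resLE (b ⁻¹ᵁ O) (ι ⁻¹ᵁ (a ⁻¹ᵁ O)) hleξ).appTop comm hp
    (fun r r' e1 e2 => hinj₀ r r' e2 e1)
    (fun x y hxy => by
      obtain ⟨c, hc1, hc2⟩ := hsurj₀ y x hxy.symm
      exact ⟨c, hc2, hc1⟩)
    (a₁.resLE O' (a₁ ⁻¹ᵁ O') le_rfl).appTop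
    (b₁.resLE O' (b₁ ⁻¹ᵁ O') le_rfl).appTop
    (ι₁.resLE (a₁ ⁻¹ᵁ O') (ι₁ ⁻¹ᵁ (a₁ ⁻¹ᵁ O')) le_rfl).appTop
    (ξ₁.resLE (b₁ ⁻¹ᵁ O') (ι₁ ⁻¹ᵁ (a₁ ⁻¹ᵁ O')) hleξ₁).appTop comm₁ hp₁
    (fun r r' e1 e2 => hinj₁ r r' e2 e1)
    (fun x y hxy => by
      obtain ⟨c, hc1, hc2⟩ := hsurj₁ y x hxy.symm
      exact ⟨c, hc2, hc1⟩)
    (h.resLE O O' e).appTop
    (fX.resLE (a ⁻¹ᵁ O) (a₁ ⁻¹ᵁ O') hlea).appTop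
    (fT.resLE (b ⁻¹ᵁ O) (b₁ ⁻¹ᵁ O') hleb).appTop
    (fZ.resLE (ι ⁻¹ᵁ (a ⁻¹ᵁ O)) (ι₁ ⁻¹ᵁ (a₁ ⁻¹ᵁ O')) hlez).appTop
    c1 c2 c3 c4 po1 po2

end

end Groth.Agent.Helper8.Push
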