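import Mathlib
import Groth.Agent.Helper8.PushFEtA

/-!
# A commutative square of schemes which is, on pairs of affine charts, a pushout square of rings,
is cartesian (version with charts on source and target)
-/

set_option autoImplicit false
universe u

open CategoryTheory CategoryTheory.Limits AlgebraicGeometry Opposite TopologicalSpace

namespace Groth.Agent.Helper8.Push

set_option maxHeartbeats 1600000 in
theorem isPullback_of_local_isPushout' {X₁ P₁ X P : Scheme.{u}} (a₁ : X₁ ⟶ P₁) (fX : X₁ ⟶ X)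
    (h : P₁ ⟶ P) (a : X ⟶ P) (w : a₁ ≫ h = fX ≫ a)
    (hloc : ∀ (O : P.Opens) (O' : P₁.Opens), IsAffineOpen O → IsAffineOpen O' →
      ∀ e : O' ≤ h ⁻¹ᵁ O, IsAffineOpen (a ⁻¹ᵁ O) ∧ IsAffineOpen (a₁ ⁻¹ᵁ O') ∧
      ∀ hle : a₁ ⁻¹ᵁ O' ≤ fX ⁻¹ᵁ (a ⁻¹ᵁ O),
      IsPushout (h.resLE O O' e).appTop (a.resLE O (a ⁻¹ᵁ O) le_rfl).appTop
        (a₁.resLE O' (a₁ ⁻¹ᵁ O') le_rfl).appTop
        (fX.resLE (a ⁻¹ᵁ O) (a₁ ⁻¹ᵁ O') hle).appTop) :
    IsPullback a₁ fX h a := by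
  have hpre : ∀ (O : P.Opens) (O' : P₁.Opens), O' ≤ h ⁻¹ᵁ O →
      a₁ ⁻¹ᵁ O' ≤ fX ⁻¹ᵁ (a ⁻¹ᵁ O) := by
    intro O O' e x hx
    show a (fX x) ∈ O
    have h1 : h (a₁ x) ∈ O := e hx
    have h2 : a (fX x) = h (a₁ x) := by
      rw [← Scheme.Hom.comp_apply, ← Scheme.Hom.comp_apply, w]
    rw [h2]
    exact h1
  set u : X₁ ⟶ pullback h a := pullback.lift a₁ fX w with hu
  have hu1 : u ≫ pullback.fst h a = a₁ := pullback.lift_fst _ _ _
  have hu2 : u ≫ pullback.snd h a = fX := pullback.lift_snd _ _ _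
  suffices hiso : IsIso u from
    IsPullback.of_iso_pullback ⟨w⟩ (asIso u) hu1 hu2
  -- the cover of the pullback
  let I := {p : P.Opens × P₁.Opens // IsAffineOpen p.1 ∧ IsAffineOpen p.2 ∧ p.2 ≤ h ⁻¹ᵁ p.1}
  let UQ : I → (pullback h a).Opens := fun p =>
    pullback.fst h a ⁻¹ᵁ p.1.2 ⊓ pullback.snd h a ⁻¹ᵁ (a ⁻¹ᵁ p.1.1)
  have hcov : iSup UQ = ⊤ := by
    rw [eq_top_iff]
    intro x _
    have hx₀ : h (pullback.fst h a x) ∈ (⊤ : P.Opens) := trivial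
    obtain ⟨O, hO, hxO, -⟩ := Opens.isBasis_iff_nbhd.mp P.isBasis_affineOpens hx₀
    have hx₁ : pullback.fst h a x ∈ h ⁻¹ᵁ O := hxO
    obtain ⟨O', hO', hxO', hle⟩ := Opens.isBasis_iff_nbhd.mp P₁.isBasis_affineOpens hx₁
    rw [Opens.mem_iSup]
    refine ⟨⟨(O, O'), hO, hO', hle⟩, hxO', ?_⟩
    show a (pullback.snd h a x) ∈ O
    rw [← Scheme.Hom.comp_apply, ← pullback.condition, Scheme.Hom.comp_apply]
    exact hxO
  rw [← MorphismProperty.isomorphisms.iff,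
    IsZariskiLocalAtTarget.iff_of_iSup_eq_top (P := MorphismProperty.isomorphisms Scheme.{u}) UQ hcov]
  rintro ⟨⟨O, O'⟩, hO, hO', e⟩
  obtain ⟨hOX, hOX₁, hpo⟩ := hloc O O' hO hO' e
  haveI : IsAffine (O : Scheme.{u}) := hO
  haveI : IsAffine (O' : Scheme.{u}) := hO'
  haveI : IsAffine ((a ⁻¹ᵁ O : X.Opens) : Scheme.{u}) := hOX
  haveI : IsAffine ((a₁ ⁻¹ᵁ O' : X₁.Opens) : Scheme.{u}) := hOX₁
  set Q : (pullback h a).Opens := pullback.fst h a ⁻¹ᵁ O' ⊓ pullback.snd h a ⁻¹ᵁ (a ⁻¹ᵁ O)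
    with hQ
  show MorphismProperty.isomorphisms Scheme.{u} (u ∣_ Q)
  have pbQ : IsPullback
      ((pullback.fst h a).resLE O' Q inf_le_left)
      ((pullback.snd h a).resLE (a ⁻¹ᵁ O) Q inf_le_right)
      (h.resLE O O' e) (a.resLE O (a ⁻¹ᵁ O) le_rfl) :=
    Scheme.Hom.isPullback_resLE (IsPullback.of_hasPullback h a) le_rfl e rfl
  haveI hUQ : IsAffine ((Q : (pullback h a).Opens) : Scheme.{u}) :=
    IsAffine.of_isPullback pbQ
  have PQ := isPushout_appTop_of_isPullback pbQ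
  have eW : u ⁻¹ᵁ Q = a₁ ⁻¹ᵁ O' := by
    ext x
    constructor
    · intro hx
      have h1 : pullback.fst h a (u x) ∈ O' := hx.1
      rw [← Scheme.Hom.comp_apply, hu1] at h1
      exact h1
    · intro hx
      refine ⟨?_, ?_⟩
      · show pullback.fst h a (u x) ∈ O'
        rw [← Scheme.Hom.comp_apply, hu1]
        exact hx
      · show pullback.snd h a (u x) ∈ a ⁻¹ᵁ O
        rw [← Scheme.Hom.comp_apply, hu2]
        exact hpre O O' e hx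
  have key : ∀ (W : X₁.Opens) (hW : W = u ⁻¹ᵁ Q),
      IsAffine (W : Scheme.{u}) ∧ IsIso (u.resLE Q W hW.le).appTop := by
    intro W hW
    obtain rfl : W = a₁ ⁻¹ᵁ O' := hW.trans eW
    refine ⟨hOX₁, ?_⟩
    have PX := hpo (hpre O O' e)
    have e1 : u.resLE Q (a₁ ⁻¹ᵁ O') hW.le ≫
        (pullback.fst h a).resLE O' Q inf_le_left =
        a₁.resLE O' (a₁ ⁻¹ᵁ O') le_rfl := comm_resLE' _ _ _ hu1 _ _ _
    have e2 : u.resLE Q (a₁ ⁻¹ᵁ O') hW.le ≫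
        (pullback.snd h a).resLE (a ⁻¹ᵁ O) Q inf_le_right =
        fX.resLE (a ⁻¹ᵁ O) (a₁ ⁻¹ᵁ O') (hpre O O' e) := comm_resLE' _ _ _ hu2 _ _ _
    have e1' := congrArg Scheme.Hom.appTop e1
    have e2' := congrArg Scheme.Hom.appTop e2
    rw [Scheme.Hom.comp_appTop] at e1' e2'
    have hm : (u.resLE Q (a₁ ⁻¹ᵁ O') hW.le).appTop =
        (PQ.isoIsPushout _ _ PX).hom := by
      apply PQ.hom_ext
      · rw [e1', IsPushout.inl_isoIsPushout_hom]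
      · rw [e2', IsPushout.inr_isoIsPushout_hom]
    rw [hm]
    infer_instance
  obtain ⟨hW1, hW2⟩ := key (u ⁻¹ᵁ Q) rfl
  rw [Scheme.Hom.resLE_eq_morphismRestrict] at hW2
  haveI := hW1
  exact (HasAffineProperty.iff_of_isAffine
    (P := MorphismProperty.isomorphisms Scheme.{u})).mpr ⟨hW1, hW2⟩

end Groth.Agent.Helper8.Push
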