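import Mathlib
import Groth.Agent.Helper8.PushK
import Groth.Agent.Helper8.PushFEtA

/-!
# Pushouts of schemes: the fibre condition lifts along separated locally quasi-finite morphisms

* `exists_notMem_of_isCompact_fibre`: ring lemma (compact family of primes in a fibre of an integral map
  can be avoided by one element of an ideal avoided by each of them).
* `exists_affineOpen_fibre`: for `i : Z ⟶ X` closed immersion, `j : Z ⟶ Y` integral, cartesian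
  squares over them with `f : X' ⟶ X` separated and locally quasi-finite, and a good pair downstairs
  around `g y'`, the fibre `j'⁻¹ y'` lies in the preimage of an affine open of `X'`.
  Uses Zariski's main theorem (Mathlib).
-/

set_option autoImplicit false
universe u

open CategoryTheory CategoryTheory.Limits AlgebraicGeometry Opposite TopologicalSpace

namespace Groth.Agent.Helper8.Push

/-- avoiding a compact family of primes lying in one fibre of an integral map. -/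
theorem exists_notMem_of_isCompact_fibre {Rb E B : Type*} [CommRing Rb] [CommRing E] [CommRing B]
    (ψ : Rb →+* E) (hψ : Function.Surjective ψ) (σ : B →+* E) (hσ : σ.IsIntegral)
    (𝔭 : Ideal B) [𝔭.IsPrime] (J : Ideal Rb) (𝒯 : Set (PrimeSpectrum Rb)) (h𝒯 : IsCompact 𝒯)
    (hpt : ∀ 𝔮 ∈ 𝒯, ∃ z : Ideal E, z.IsPrime ∧ z.comap ψ = 𝔮.asIdeal ∧ z.comap σ = 𝔭)
    (hJ : ∀ 𝔮 ∈ 𝒯, ¬ J ≤ 𝔮.asIdeal) :
    ∃ s ∈ J, ∀ 𝔮 ∈ 𝒯, s ∉ 𝔮.asIdeal := by
  have key : ∃ s ∈ J, ∀ 𝔮 ∈ 𝒯, 𝔮 ∈ 𝒯 → s ∉ 𝔮.asIdeal := by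
    refine h𝒯.induction_on (p := fun S => ∃ s ∈ J, ∀ 𝔮 ∈ 𝒯, 𝔮 ∈ S → s ∉ 𝔮.asIdeal) ?_ ?_ ?_ ?_
    · exact ⟨0, J.zero_mem, fun _ _ h => absurd h (Set.notMem_empty _)⟩
    · rintro S S' hSS' ⟨s, hs, hs'⟩
      exact ⟨s, hs, fun 𝔮 h𝔮 h => hs' 𝔮 h𝔮 (hSS' h)⟩
    · rintro S₁ S₂ ⟨s₁, hs₁, hs₁'⟩ ⟨s₂, hs₂, hs₂'⟩
      obtain ⟨cb, hcb⟩ := exists_mem_iff_notMem σ (ψ s₁) (hσ _) 𝔭
      obtain ⟨c, rfl⟩ := hψ cb
      refine ⟨s₁ + c * s₂, J.add_mem hs₁ (J.mul_mem_left _ hs₂), ?_⟩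
      intro 𝔮 h𝔮 hS hmem
      obtain ⟨z, hz, hzψ, hzσ⟩ := hpt 𝔮 h𝔮
      have tr : ∀ r : Rb, r ∈ 𝔮.asIdeal ↔ ψ r ∈ z := by
        intro r
        rw [← hzψ]
        rfl
      have hc := hcb z hz hzσ
      rw [tr, map_add, map_mul] at hmem
      by_cases h1 : ψ s₁ ∈ z
      · have hcn : ψ c ∉ z := fun h => (hc.mp h) h1
        have h2 : ψ c * ψ s₂ ∈ z := by
          have := z.sub_mem hmem h1
          rwa [add_sub_cancel_left] at this
        have h3 : ψ s₂ ∈ z := (hz.mem_or_mem h2).resolve_left hcn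
        rcases hS with h | h
        · exact hs₁' 𝔮 h𝔮 h ((tr _).mpr h1)
        · exact hs₂' 𝔮 h𝔮 h ((tr _).mpr h3)
      · have hcm : ψ c ∈ z := hc.mpr h1
        have h2 : ψ s₁ ∈ z := by
          have := z.sub_mem hmem (z.mul_mem_right (ψ s₂) hcm)
          rwa [add_sub_cancel_right] at this
        exact h1 h2
    · intro 𝔮 h𝔮
      obtain ⟨s, hsJ, hs𝔮⟩ := SetLike.not_le_iff_exists.mp (hJ 𝔮 h𝔮)
      refine ⟨(PrimeSpectrum.basicOpen s : Set (PrimeSpectrum Rb)), ?_, s, hsJ, ?_⟩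
      · exact mem_nhdsWithin_of_mem_nhds ((PrimeSpectrum.basicOpen s).isOpen.mem_nhds hs𝔮)
      · intro 𝔮' _ h
        exact h
  obtain ⟨s, hs, hs'⟩ := key
  exact ⟨s, hs, fun 𝔮 h𝔮 => hs' 𝔮 h𝔮 h𝔮⟩

section Dict

/-- the prime of global sections at a point of an affine scheme. -/
noncomputable def pt (S : Scheme.{u}) [IsAffine S] (x : S) : PrimeSpectrum Γ(S, ⊤) :=
  S.isoSpec.hom x

lemma pt_continuous (S : Scheme.{u}) [IsAffine S] : Continuous (pt S) :=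
  S.isoSpec.hom.continuous

lemma pt_map {S S' : Scheme.{u}} [IsAffine S] [IsAffine S'] (φ : S ⟶ S') (x : S) :
    pt S' (φ x) = PrimeSpectrum.comap φ.appTop.hom (pt S x) := by
  have e := Scheme.isoSpec_hom_naturality φ
  have e' := congrArg (fun m : S ⟶ Spec Γ(S', ⊤) => m x) e
  simp only [Scheme.Hom.comp_apply] at e'
  exact e'.symm

lemma mem_basicOpen_iff_pt (S : Scheme.{u}) [IsAffine S] (s : Γ(S, ⊤)) (x : S) :
    x ∈ S.basicOpen s ↔ s ∉ (pt S x).asIdeal := by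
  rw [← Scheme.map_PrimeSpectrum_basicOpen_of_affine S s]
  rfl

end Dict

section LemmaA

lemma isIntegralHom_resLE {Z Y : Scheme.{u}} (j : Z ⟶ Y) [IsIntegralHom j] (W : Y.Opens)
    (V : Z.Opens) (hV : V = j ⁻¹ᵁ W) : IsIntegralHom (j.resLE W V hV.le) := by
  subst hV
  rw [Scheme.Hom.resLE_eq_morphismRestrict]
  exact IsZariskiLocalAtTarget.restrict (P := @IsIntegralHom) inferInstance W

lemma isClosedImmersion_resLE {Z X : Scheme.{u}} (i : Z ⟶ X) [IsClosedImmersion i] (V : X.Opens) :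
    IsClosedImmersion (i.resLE V (i ⁻¹ᵁ V) le_rfl) := by
  rw [Scheme.Hom.resLE_eq_morphismRestrict]
  infer_instance

lemma resLE_apply_val {A B : Scheme.{u}} (f : A ⟶ B) (U : B.Opens) (V : A.Opens)
    (e : V ≤ f ⁻¹ᵁ U) (x : V) : ((f.resLE U V e) x).1 = f x.1 := by
  have h := congrArg (fun m : (V : Scheme.{u}) ⟶ B => m x) (Scheme.Hom.resLE_comp_ι f e)
  simp only [Scheme.Hom.comp_apply] at h
  exact h

/-- a compact subset of an open of a scheme lies in a quasi-compact open inside it. -/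
lemma exists_isCompact_opens_between {X : Scheme.{u}} (T : Set X) (hT : IsCompact T) (O : X.Opens)
    (hTO : T ⊆ O) : ∃ V : X.Opens, IsCompact (V : Set X) ∧ V ≤ O ∧ T ⊆ V := by
  have key : ∃ V : X.Opens, IsCompact (V : Set X) ∧ V ≤ O ∧ T ∩ T ⊆ V := by
    refine hT.induction_on (p := fun S => ∃ V : X.Opens, IsCompact (V : Set X) ∧ V ≤ O ∧
      T ∩ S ⊆ V) ?_ ?_ ?_ ?_
    · exact ⟨⊥, by simp, bot_le, by simp⟩
    · rintro S S' hSS' ⟨V, h1, h2, h3⟩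
      exact ⟨V, h1, h2, fun x hx => h3 ⟨hx.1, hSS' hx.2⟩⟩
    · rintro S₁ S₂ ⟨V₁, h1, h2, h3⟩ ⟨V₂, h1', h2', h3'⟩
      refine ⟨V₁ ⊔ V₂, ?_, sup_le h2 h2', ?_⟩
      · rw [Opens.coe_sup]
        exact h1.union h1'
      · rintro x ⟨hxT, hx | hx⟩
        · exact Or.inl (h3 ⟨hxT, hx⟩)
        · exact Or.inr (h3' ⟨hxT, hx⟩)
    · intro x hx
      obtain ⟨V, hV, hxV, hVO⟩ := Opens.isBasis_iff_nbhd.mp X.isBasis_affineOpens (hTO hx)
      refine ⟨(V : Set X), mem_nhdsWithin_of_mem_nhds (V.isOpen.mem_nhds hxV), V, ?_, hVO,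
        fun y hy => hy.2⟩
      exact IsAffineOpen.isCompact hV
  obtain ⟨V, h1, h2, h3⟩ := key
  exact ⟨V, h1, h2, fun x hx => h3 ⟨hx, hx⟩⟩

variable {X Y Z X' Y' Z' : Scheme.{u}} (i : Z ⟶ X) (j : Z ⟶ Y) [IsClosedImmersion i]
  [IsIntegralHom j]
  (i' : Z' ⟶ X') (j' : Z' ⟶ Y') (f : X' ⟶ X) (g : Y' ⟶ Y) (h : Z' ⟶ Z)

set_option maxHeartbeats 3200000 in
/-- **the fibre condition upstairs.** -/
theorem exists_affineOpen_fibre (hXw : h ≫ i = i' ≫ f) (hYw : h ≫ j = j' ≫ g)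
    [QuasiCompact j'] [IsSeparated f] [LocallyQuasiFinite f] [LocallyOfFiniteType f]
    (k : GoodPair i j) (y' : Y') (hy' : g y' ∈ k.W) :
    ∃ U' : X'.Opens, IsAffineOpen U' ∧ j' ⁻¹' {y'} ⊆ i' ⁻¹' (U' : Set X') := by
  -- the fibre
  set F : Set Z' := j' ⁻¹' {y'} with hF
  have hFc : IsCompact F := j'.isCompact_preimage_singleton y'
  have hFZ : ∀ z' ∈ F, h z' ∈ i ⁻¹ᵁ k.V := by
    intro z' hz'
    rw [k.h]
    show j (h z') ∈ k.W
    have e1 : j (h z') = g (j' z') := by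
      rw [← Scheme.Hom.comp_apply, ← Scheme.Hom.comp_apply, hYw]
    rw [e1, show j' z' = y' from hz']
    exact hy'
  have hFX : i' '' F ⊆ (f ⁻¹ᵁ k.V : X'.Opens) := by
    rintro _ ⟨z', hz', rfl⟩
    show f (i' z') ∈ k.V
    have e1 : f (i' z') = i (h z') := by
      rw [← Scheme.Hom.comp_apply, ← Scheme.Hom.comp_apply, hXw]
    rw [e1]
    exact hFZ z' hz'
  -- a quasi-compact open around the image of the fibre
  obtain ⟨V, hVc, hVle, hTV⟩ := exists_isCompact_opens_between (i' '' F)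
    (hFc.image i'.continuous) (f ⁻¹ᵁ k.V) hFX
  haveI : IsAffine (k.V : Scheme.{u}) := k.hV
  haveI : IsAffine (k.W : Scheme.{u}) := k.hW
  haveI : IsAffine ((i ⁻¹ᵁ k.V : Z.Opens) : Scheme.{u}) := k.hV.preimage i
  haveI : CompactSpace ((V : Scheme.{u}) : Type u) := isCompact_iff_compactSpace.mp hVc
  -- the quasi-finite morphism and its normalization
  set fV : (V : Scheme.{u}) ⟶ (k.V : Scheme.{u}) := f.resLE k.V V hVle with hfV
  haveI : LocallyQuasiFinite fV := IsZariskiLocalAtSource.resLE hVle inferInstance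
  haveI : LocallyOfFiniteType fV := IsZariskiLocalAtSource.resLE hVle inferInstance
  haveI : IsSeparated fV := by
    rw [hfV, Scheme.Hom.resLE]
    infer_instance
  haveI : QuasiCompact fV := (HasAffineProperty.iff_of_isAffine (P := @QuasiCompact)).mpr
    inferInstance
  set N := fV.normalization with hN
  set ν : (V : Scheme.{u}) ⟶ N := fV.toNormalization with hν
  set ρ : N ⟶ (k.V : Scheme.{u}) := fV.fromNormalization with hρ
  have hνρ : ν ≫ ρ = fV := fV.toNormalization_fromNormalization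
  haveI : IsOpenImmersion ν := inferInstance
  haveI : IsIntegralHom ρ := inferInstance
  haveI : IsAffine N := isAffine_of_isAffineHom ρ
  -- the part over `Z`
  set iZ : ((i ⁻¹ᵁ k.V : Z.Opens) : Scheme.{u}) ⟶ (k.V : Scheme.{u}) :=
    i.resLE k.V (i ⁻¹ᵁ k.V) le_rfl with hiZ
  haveI : IsClosedImmersion iZ := isClosedImmersion_resLE i k.V
  set jZ : ((i ⁻¹ᵁ k.V : Z.Opens) : Scheme.{u}) ⟶ (k.W : Scheme.{u}) :=
    j.resLE k.W (i ⁻¹ᵁ k.V) k.h.le with hjZ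
  haveI : IsIntegralHom jZ := isIntegralHom_resLE j k.W (i ⁻¹ᵁ k.V) k.h
  set NZ := pullback ρ iZ with hNZ
  set p₁ : NZ ⟶ N := pullback.fst ρ iZ with hp₁
  set p₂ : NZ ⟶ ((i ⁻¹ᵁ k.V : Z.Opens) : Scheme.{u}) := pullback.snd ρ iZ with hp₂
  haveI : IsClosedImmersion p₁ := inferInstance
  haveI : IsIntegralHom p₂ := inferInstance
  haveI : IsAffine NZ := inferInstance
  haveI : IsIntegralHom (p₂ ≫ jZ) := inferInstance
  have hσ : (p₂ ≫ jZ).appTop.hom.IsIntegral :=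
    IsIntegralHom.isIntegral_app (p₂ ≫ jZ) ⊤ (isAffineOpen_top _)
  have hψ : Function.Surjective p₁.appTop.hom :=
    (IsClosedImmersion.isAffine_surjective_of_isAffine p₁).2
  -- the map from the part of `Z'` over `V`
  have hZle : i' ⁻¹ᵁ V ≤ h ⁻¹ᵁ (i ⁻¹ᵁ k.V) := by
    intro z' hz'
    show i (h z') ∈ k.V
    have e1 : i (h z') = f (i' z') := by
      rw [← Scheme.Hom.comp_apply, ← Scheme.Hom.comp_apply, hXw]
    rw [e1]
    exact hVle hz'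
  have hcomm : (i'.resLE V (i' ⁻¹ᵁ V) le_rfl ≫ ν) ≫ ρ =
      h.resLE (i ⁻¹ᵁ k.V) (i' ⁻¹ᵁ V) hZle ≫ iZ := by
    rw [Category.assoc, hνρ]
    exact comm_resLE i' f h i hXw.symm _ _ _ _
  set m : ((i' ⁻¹ᵁ V : Z'.Opens) : Scheme.{u}) ⟶ NZ :=
    pullback.lift (i'.resLE V (i' ⁻¹ᵁ V) le_rfl ≫ ν) (h.resLE (i ⁻¹ᵁ k.V) (i' ⁻¹ᵁ V) hZle) hcomm
    with hm
  have hm1 : m ≫ p₁ = i'.resLE V (i' ⁻¹ᵁ V) le_rfl ≫ ν := pullback.lift_fst _ _ _
  have hm2 : m ≫ p₂ = h.resLE (i ⁻¹ᵁ k.V) (i' ⁻¹ᵁ V) hZle := pullback.lift_snd _ _ _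
  -- the fibre inside `i'⁻¹ V`
  set FV : Set ↥(i' ⁻¹ᵁ V) := (Subtype.val : ↥(i' ⁻¹ᵁ V) → Z') ⁻¹' F with hFV
  have hFVc : IsCompact FV := by
    refine Topology.IsInducing.isCompact_preimage' Topology.IsInducing.subtypeVal hFc ?_
    intro z' hz'
    exact ⟨⟨z', hTV ⟨z', hz', rfl⟩⟩, rfl⟩
  set w₀ : ↥k.W := ⟨g y', hy'⟩ with hw₀
  set 𝒯 : Set (PrimeSpectrum Γ(N, ⊤)) := (fun ζ => pt N (p₁ (m ζ))) '' FV with h𝒯
  have h𝒯c : IsCompact 𝒯 :=
    hFVc.image ((pt_continuous N).comp (p₁.continuous.comp m.continuous))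
  -- the ideal of functions whose nonvanishing locus lies in the range of `ν`
  let J : Ideal Γ(N, ⊤) :=
    { carrier := {s | N.basicOpen s ≤ ν.opensRange}
      zero_mem' := by
        show N.basicOpen 0 ≤ ν.opensRange
        rw [Scheme.basicOpen_zero]
        exact bot_le
      add_mem' := by
        intro a b ha hb x hx
        rw [mem_basicOpen_iff_pt] at hx
        by_cases hax : a ∈ (pt N x).asIdeal
        · have hbx : b ∉ (pt N x).asIdeal := fun hb' => hx ((pt N x).asIdeal.add_mem hax hb')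
          exact hb ((mem_basicOpen_iff_pt N b x).mpr hbx)
        · exact ha ((mem_basicOpen_iff_pt N a x).mpr hax)
      smul_mem' := by
        intro c a ha x hx
        rw [mem_basicOpen_iff_pt] at hx
        have hax : a ∉ (pt N x).asIdeal := fun ha' => hx ((pt N x).asIdeal.mul_mem_left c ha')
        exact ha ((mem_basicOpen_iff_pt N a x).mpr hax) }
  have hJmem : ∀ s, s ∈ J ↔ N.basicOpen s ≤ ν.opensRange := fun s => Iff.rfl
  have hpt : ∀ 𝔮 ∈ 𝒯, ∃ z : Ideal Γ(NZ, ⊤), z.IsPrime ∧ z.comap p₁.appTop.hom = 𝔮.asIdeal ∧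
      z.comap (p₂ ≫ jZ).appTop.hom = (pt (k.W : Scheme.{u}) w₀).asIdeal := by
    rintro _ ⟨ζ, hζ, rfl⟩
    refine ⟨(pt NZ (m ζ)).asIdeal, (pt NZ (m ζ)).isPrime, ?_, ?_⟩
    · show _ = (pt N (p₁ (m ζ))).asIdeal
      rw [pt_map p₁ (m ζ)]
      rfl
    · have e1 : (p₂ ≫ jZ) (m ζ) = w₀ := by
        apply Subtype.ext
        rw [Scheme.Hom.comp_apply, hjZ, resLE_apply_val, ← Scheme.Hom.comp_apply, hm2,
          resLE_apply_val]
        show j (h ζ.1) = g y'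
        have e2 : j (h ζ.1) = g (j' ζ.1) := by
          rw [← Scheme.Hom.comp_apply, ← Scheme.Hom.comp_apply, hYw]
        rw [e2, show j' ζ.1 = y' from hζ]
      rw [← e1, pt_map (p₂ ≫ jZ) (m ζ)]
      rfl
  have hJ : ∀ 𝔮 ∈ 𝒯, ¬ J ≤ 𝔮.asIdeal := by
    rintro _ ⟨ζ, hζ, rfl⟩ hle
    have hx : p₁ (m ζ) ∈ ν.opensRange := by
      rw [← Scheme.Hom.comp_apply, hm1, Scheme.Hom.comp_apply]
      exact ⟨_, rfl⟩
    obtain ⟨_, ⟨s, rfl⟩, hxs, hsle⟩ := Opens.isBasis_iff_nbhd.mp (isBasis_basicOpen N) hx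
    have hsJ : s ∈ J := (hJmem s).mpr hsle
    exact (mem_basicOpen_iff_pt N s _).mp hxs (hle hsJ)
  obtain ⟨s, hsJ, hs⟩ := exists_notMem_of_isCompact_fibre p₁.appTop.hom hψ (p₂ ≫ jZ).appTop.hom hσ
    (pt (k.W : Scheme.{u}) w₀).asIdeal J 𝒯 h𝒯c hpt hJ
  -- the affine open
  have hUN : IsAffineOpen (N.basicOpen s) := (isAffineOpen_top N).basicOpen s
  have hsle : N.basicOpen s ≤ ν.opensRange := (hJmem s).mp hsJ
  have hU1 : IsAffineOpen (ν ⁻¹ᵁ N.basicOpen s) := by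
    rw [← Scheme.Hom.isAffineOpen_iff_of_isOpenImmersion ν,
      Scheme.Hom.image_preimage_eq_opensRange_inf, inf_eq_right.mpr hsle]
    exact hUN
  refine ⟨V.ι ''ᵁ (ν ⁻¹ᵁ N.basicOpen s), hU1.image_of_isOpenImmersion V.ι, ?_⟩
  intro z' hz'
  have hz'V : z' ∈ i' ⁻¹ᵁ V := hTV ⟨z', hz', rfl⟩
  set ζ : ↥(i' ⁻¹ᵁ V) := ⟨z', hz'V⟩ with hζ
  have hζF : ζ ∈ FV := hz'
  have h1 : s ∉ (pt N (p₁ (m ζ))).asIdeal := hs _ ⟨ζ, hζF, rfl⟩
  rw [← mem_basicOpen_iff_pt, ← Scheme.Hom.comp_apply, hm1, Scheme.Hom.comp_apply] at h1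
  refine ⟨(i'.resLE V (i' ⁻¹ᵁ V) le_rfl) ζ, h1, ?_⟩
  exact resLE_apply_val i' V (i' ⁻¹ᵁ V) le_rfl ζ

end LemmaA

end Groth.Agent.Helper8.Push
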