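import Mathlib
import Groth.Agent.Helper8.PushPropA
import Groth.Agent.Helper8.PushG

/-!
# Morphisms between pushouts along closed immersions: finite type, flat, finitely presented,
smooth and étale are detected on the two pieces
-/

set_option autoImplicit false
universe u

open CategoryTheory CategoryTheory.Limits AlgebraicGeometry Opposite TopologicalSpace

namespace Groth.Agent.Helper8.Push

section Charts

variable {W : MorphismProperty Scheme.{u}}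
  {Q : ∀ {R S : Type u} [CommRing R] [CommRing S], (R →+* S) → Prop} [HasRingHomProperty W Q]

lemma of_forall_exists_affine_resLE [W.RespectsRight @IsOpenImmersion] {X Y : Scheme.{u}}
    (f : X ⟶ Y)
    (Hx : ∀ x : X, ∃ (U : Y.Opens) (V : X.Opens) (e : V ≤ f ⁻¹ᵁ U),
      IsAffineOpen U ∧ IsAffineOpen V ∧ x ∈ V ∧ Q (f.resLE U V e).appTop.hom) : W f := by
  rw [IsZariskiLocalAtSource.iff_exists_resLE (P := W)]
  intro x
  obtain ⟨U, V, e, hU, hV, hx, hQ⟩ := Hx x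
  haveI : IsAffine (U : Scheme.{u}) := hU
  haveI : IsAffine (V : Scheme.{u}) := hV
  exact ⟨U, V, hx, e, (HasRingHomProperty.iff_of_isAffine (P := W)).mpr hQ⟩

lemma appTop_resLE_of {X Y : Scheme.{u}} (f : X ⟶ Y) (hf : W f) {U : Y.Opens} {V : X.Opens}
    (hU : IsAffineOpen U) (hV : IsAffineOpen V) (e : V ≤ f ⁻¹ᵁ U) :
    Q (f.resLE U V e).appTop.hom := by
  haveI : IsAffine (U : Scheme.{u}) := hU
  haveI : IsAffine (V : Scheme.{u}) := hV
  have h : W (f.resLE U V e) := IsZariskiLocalAtSource.resLE e hf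
  exact (HasRingHomProperty.iff_of_isAffine (P := W)).mp h

end Charts

lemma exists_affine_pair {P₁ P : Scheme.{u}} (h : P₁ ⟶ P) (π : P₁) :
    ∃ (O : P.Opens) (O' : P₁.Opens), IsAffineOpen O ∧ IsAffineOpen O' ∧ π ∈ O' ∧
      O' ≤ h ⁻¹ᵁ O := by
  obtain ⟨O, hO, hπO, -⟩ := Opens.isBasis_iff_nbhd.mp P.isBasis_affineOpens
    (U := ⊤) (x := h π) trivial
  obtain ⟨O', hO', hπO', hle⟩ := Opens.isBasis_iff_nbhd.mp P₁.isBasis_affineOpens
    (U := h ⁻¹ᵁ O) (x := π) hπO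
  exact ⟨O, O', hO, hO', hπO', hle⟩

section Assembly

variable {X T P : Scheme.{u}} (a : X ⟶ P) (b : T ⟶ P)
  {X₁ T₁ P₁ : Scheme.{u}} (a₁ : X₁ ⟶ P₁) (b₁ : T₁ ⟶ P₁)
  (fX : X₁ ⟶ X) (fT : T₁ ⟶ T) (h : P₁ ⟶ P)
  [IsAffineHom a] [IsAffineHom b] [IsAffineHom a₁] [IsAffineHom b₁]
  {W₁ W₂ : MorphismProperty Scheme.{u}}
  {Q₁ Q₂ : ∀ {R S : Type u} [CommRing R] [CommRing S], (R →+* S) → Prop}
  [HasRingHomProperty W₁ Q₁] [HasRingHomProperty W₂ Q₂]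
  [W₁.RespectsRight @IsOpenImmersion] [W₂.RespectsRight @IsOpenImmersion]

omit [IsAffineHom a] [IsAffineHom a₁] [IsAffineHom b] [IsAffineHom b₁] in
lemma pre_le (ha : a₁ ≫ h = fX ≫ a) (O : P.Opens) (O' : P₁.Opens) (e : O' ≤ h ⁻¹ᵁ O) :
    a₁ ⁻¹ᵁ O' ≤ fX ⁻¹ᵁ (a ⁻¹ᵁ O) := by
  intro x hx
  show a (fX x) ∈ O
  have h1 : h (a₁ x) ∈ O := e hx
  have h2 : a (fX x) = h (a₁ x) := by
    rw [← Scheme.Hom.comp_apply, ← Scheme.Hom.comp_apply, ha]
  rw [h2]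
  exact h1

set_option maxHeartbeats 1600000 in
theorem global_iff (ha : a₁ ≫ h = fX ≫ a) (hb : b₁ ≫ h = fT ≫ b)
    (hloc : ∀ (O : P.Opens) (O' : P₁.Opens), IsAffineOpen O → IsAffineOpen O' →
      ∀ (e : O' ≤ h ⁻¹ᵁ O) (hlea : a₁ ⁻¹ᵁ O' ≤ fX ⁻¹ᵁ (a ⁻¹ᵁ O))
        (hleb : b₁ ⁻¹ᵁ O' ≤ fT ⁻¹ᵁ (b ⁻¹ᵁ O)),
      (Q₁ (h.resLE O O' e).appTop.hom ∧ Q₂ (h.resLE O O' e).appTop.hom ↔
        (Q₁ (fT.resLE (b ⁻¹ᵁ O) (b₁ ⁻¹ᵁ O') hleb).appTop.hom ∧
          Q₂ (fT.resLE (b ⁻¹ᵁ O) (b₁ ⁻¹ᵁ O') hleb).appTop.hom) ∧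
        (Q₁ (fX.resLE (a ⁻¹ᵁ O) (a₁ ⁻¹ᵁ O') hlea).appTop.hom ∧
          Q₂ (fX.resLE (a ⁻¹ᵁ O) (a₁ ⁻¹ᵁ O') hlea).appTop.hom))) :
    (W₁ h ∧ W₂ h) ↔ (W₁ fX ∧ W₂ fX) ∧ (W₁ fT ∧ W₂ fT) := by
  constructor
  · rintro ⟨h1, h2⟩
    have keyX : ∀ x : X₁, ∃ (U : X.Opens) (V : X₁.Opens) (e : V ≤ fX ⁻¹ᵁ U),
        IsAffineOpen U ∧ IsAffineOpen V ∧ x ∈ V ∧ Q₁ (fX.resLE U V e).appTop.hom ∧
          Q₂ (fX.resLE U V e).appTop.hom := by
      intro x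
      obtain ⟨O, O', hO, hO', hπ, e⟩ := exists_affine_pair h (a₁ x)
      have key := (hloc O O' hO hO' e (pre_le a a₁ fX h ha O O' e)
        (pre_le b b₁ fT h hb O O' e)).mp
        ⟨appTop_resLE_of h h1 hO hO' e, appTop_resLE_of h h2 hO hO' e⟩
      exact ⟨a ⁻¹ᵁ O, a₁ ⁻¹ᵁ O', pre_le a a₁ fX h ha O O' e, hO.preimage a, hO'.preimage a₁, hπ,
        key.2.1, key.2.2⟩
    have keyT : ∀ x : T₁, ∃ (U : T.Opens) (V : T₁.Opens) (e : V ≤ fT ⁻¹ᵁ U),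
        IsAffineOpen U ∧ IsAffineOpen V ∧ x ∈ V ∧ Q₁ (fT.resLE U V e).appTop.hom ∧
          Q₂ (fT.resLE U V e).appTop.hom := by
      intro x
      obtain ⟨O, O', hO, hO', hπ, e⟩ := exists_affine_pair h (b₁ x)
      have key := (hloc O O' hO hO' e (pre_le a a₁ fX h ha O O' e)
        (pre_le b b₁ fT h hb O O' e)).mp
        ⟨appTop_resLE_of h h1 hO hO' e, appTop_resLE_of h h2 hO hO' e⟩
      exact ⟨b ⁻¹ᵁ O, b₁ ⁻¹ᵁ O', pre_le b b₁ fT h hb O O' e, hO.preimage b, hO'.preimage b₁, hπ,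
        key.1.1, key.1.2⟩
    refine ⟨⟨?_, ?_⟩, ⟨?_, ?_⟩⟩
    · refine of_forall_exists_affine_resLE (W := W₁) fX (fun x => ?_)
      obtain ⟨U, V, e, hU, hV, hx, k1, -⟩ := keyX x
      exact ⟨U, V, e, hU, hV, hx, k1⟩
    · refine of_forall_exists_affine_resLE (W := W₂) fX (fun x => ?_)
      obtain ⟨U, V, e, hU, hV, hx, -, k2⟩ := keyX x
      exact ⟨U, V, e, hU, hV, hx, k2⟩
    · refine of_forall_exists_affine_resLE (W := W₁) fT (fun x => ?_)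
      obtain ⟨U, V, e, hU, hV, hx, k1, -⟩ := keyT x
      exact ⟨U, V, e, hU, hV, hx, k1⟩
    · refine of_forall_exists_affine_resLE (W := W₂) fT (fun x => ?_)
      obtain ⟨U, V, e, hU, hV, hx, -, k2⟩ := keyT x
      exact ⟨U, V, e, hU, hV, hx, k2⟩
  · rintro ⟨⟨h1, h2⟩, ⟨h3, h4⟩⟩
    have key : ∀ π : P₁, ∃ (U : P.Opens) (V : P₁.Opens) (e : V ≤ h ⁻¹ᵁ U),
        IsAffineOpen U ∧ IsAffineOpen V ∧ π ∈ V ∧ Q₁ (h.resLE U V e).appTop.hom ∧
          Q₂ (h.resLE U V e).appTop.hom := by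
      intro π
      obtain ⟨O, O', hO, hO', hπ, e⟩ := exists_affine_pair h π
      have key := (hloc O O' hO hO' e (pre_le a a₁ fX h ha O O' e)
        (pre_le b b₁ fT h hb O O' e)).mpr
        ⟨⟨appTop_resLE_of fT h3 (hO.preimage b) (hO'.preimage b₁) _,
          appTop_resLE_of fT h4 (hO.preimage b) (hO'.preimage b₁) _⟩,
         ⟨appTop_resLE_of fX h1 (hO.preimage a) (hO'.preimage a₁) _,
          appTop_resLE_of fX h2 (hO.preimage a) (hO'.preimage a₁) _⟩⟩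
      exact ⟨O, O', e, hO, hO', hπ, key.1, key.2⟩
    refine ⟨?_, ?_⟩
    · refine of_forall_exists_affine_resLE (W := W₁) h (fun x => ?_)
      obtain ⟨U, V, e, hU, hV, hx, k1, -⟩ := key x
      exact ⟨U, V, e, hU, hV, hx, k1⟩
    · refine of_forall_exists_affine_resLE (W := W₂) h (fun x => ?_)
      obtain ⟨U, V, e, hU, hV, hx, -, k2⟩ := key x
      exact ⟨U, V, e, hU, hV, hx, k2⟩

omit [HasRingHomProperty W₂ Q₂] [W₂.RespectsRight @IsOpenImmersion] in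
theorem global_iff_single (ha : a₁ ≫ h = fX ≫ a) (hb : b₁ ≫ h = fT ≫ b)
    (hloc : ∀ (O : P.Opens) (O' : P₁.Opens), IsAffineOpen O → IsAffineOpen O' →
      ∀ (e : O' ≤ h ⁻¹ᵁ O) (hlea : a₁ ⁻¹ᵁ O' ≤ fX ⁻¹ᵁ (a ⁻¹ᵁ O))
        (hleb : b₁ ⁻¹ᵁ O' ≤ fT ⁻¹ᵁ (b ⁻¹ᵁ O)),
      (Q₁ (h.resLE O O' e).appTop.hom ↔
        Q₁ (fT.resLE (b ⁻¹ᵁ O) (b₁ ⁻¹ᵁ O') hleb).appTop.hom ∧
        Q₁ (fX.resLE (a ⁻¹ᵁ O) (a₁ ⁻¹ᵁ O') hlea).appTop.hom)) :
    W₁ h ↔ W₁ fX ∧ W₁ fT := by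
  have := global_iff (W₁ := W₁) (W₂ := W₁) (Q₁ := Q₁) (Q₂ := Q₁) a b a₁ b₁ fX fT h ha hb
    (fun O O' hO hO' e hlea hleb => by
      rw [and_self, and_self, and_self]
      exact hloc O O' hO hO' e hlea hleb)
  rw [and_self, and_self, and_self] at this
  exact this

end Assembly

instance respectsRight_locallyOfFiniteType :
    MorphismProperty.RespectsRight @LocallyOfFiniteType.{u} @IsOpenImmersion :=
  ⟨fun i hi f hf => by
    haveI : IsOpenImmersion i := hi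
    haveI : LocallyOfFiniteType f := hf
    infer_instance⟩

instance respectsRight_locallyOfFinitePresentation :
    MorphismProperty.RespectsRight @LocallyOfFinitePresentation.{u} @IsOpenImmersion :=
  ⟨fun i hi f hf => by
    haveI : IsOpenImmersion i := hi
    haveI : LocallyOfFinitePresentation f := hf
    infer_instance⟩

instance respectsRight_etale :
    MorphismProperty.RespectsRight @Etale.{u} @IsOpenImmersion :=
  ⟨fun i hi f hf => by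
    haveI : IsOpenImmersion i := hi
    haveI : Etale f := hf
    infer_instance⟩

set_option maxHeartbeats 1600000 in
/-- **map between pushouts along closed immersions**: `h` has one of the five properties iff both
pieces have it. -/
theorem properties_of_map_between_pushouts {X Y Z P X' Y' Z' P' : Scheme.{u}}
    (i : Z ⟶ X) (j : Z ⟶ Y) [IsClosedImmersion i] [IsClosedImmersion j] (a : X ⟶ P) (b : Y ⟶ P)
    (hP : IsPushout i j a b)
    (f : X' ⟶ X) (g : Y' ⟶ Y) (i' : Z' ⟶ X') (j' : Z' ⟶ Y') (c : Z' ⟶ Z)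
    (hX : IsPullback i' c f i) (hY : IsPullback j' c g j)
    (a' : X' ⟶ P') (b' : Y' ⟶ P') (hP' : IsPushout i' j' a' b') (h : P' ⟶ P)
    (ha : a' ≫ h = f ≫ a) (hb : b' ≫ h = g ≫ b) :
    (LocallyOfFiniteType h ↔ LocallyOfFiniteType f ∧ LocallyOfFiniteType g) ∧
    (Flat h ↔ Flat f ∧ Flat g) ∧
    ((Flat h ∧ LocallyOfFinitePresentation h) ↔
      (Flat f ∧ LocallyOfFinitePresentation f) ∧ (Flat g ∧ LocallyOfFinitePresentation g)) ∧
    (Smooth h ↔ Smooth f ∧ Smooth g) ∧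
    (Etale h ↔ Etale f ∧ Etale g) := by
  haveI : IsClosedImmersion i' :=
    MorphismProperty.of_isPullback (P := @IsClosedImmersion) hX.flip inferInstance
  haveI : IsClosedImmersion j' :=
    MorphismProperty.of_isPullback (P := @IsClosedImmersion) hY.flip inferInstance
  have H := goodPairs_of_closedImmersions i j
  have H₁ := goodPairs_of_closedImmersions i' j'
  haveI : IsAffineHom a := isAffineHom_of_isPushout i j a b H hP
  haveI : IsClosedImmersion b := (of_isPushout i j H hP).2.1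
  haveI : IsAffineHom a' := isAffineHom_of_isPushout i' j' a' b' H₁ hP'
  haveI : IsClosedImmersion b' := (of_isPushout i' j' H₁ hP').2.1
  have hloc := fun (O : P.Opens) (O' : P'.Opens) (hO : IsAffineOpen O) (hO' : IsAffineOpen O')
    (e : O' ≤ h ⁻¹ᵁ O) (hlea : a' ⁻¹ᵁ O' ≤ f ⁻¹ᵁ (a ⁻¹ᵁ O))
    (hleb : b' ⁻¹ᵁ O' ≤ g ⁻¹ᵁ (b ⁻¹ᵁ O)) =>
    local_properties_iff i j a b i' j' a' b' f g c h H₁ H hP hP' hX hY ha hb O hO O' hO' e hlea hleb
  refine ⟨?_, ?_, ?_, ?_, ?_⟩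
  · exact global_iff_single (W₁ := @LocallyOfFiniteType) (Q₁ := RingHom.FiniteType) a b a' b' f g h
      ha hb (fun O O' hO hO' e hlea hleb => (hloc O O' hO hO' e hlea hleb).1)
  · exact global_iff_single (W₁ := @Flat) (Q₁ := RingHom.Flat) a b a' b' f g h
      ha hb (fun O O' hO hO' e hlea hleb => (hloc O O' hO hO' e hlea hleb).2.1)
  · exact global_iff (W₁ := @Flat) (Q₁ := RingHom.Flat) (W₂ := @LocallyOfFinitePresentation)
      (Q₂ := RingHom.FinitePresentation) a b a' b' f g h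
      ha hb (fun O O' hO hO' e hlea hleb => (hloc O O' hO hO' e hlea hleb).2.2.1)
  · exact global_iff_single (W₁ := @Smooth) (Q₁ := RingHom.Smooth) a b a' b' f g h
      ha hb (fun O O' hO hO' e hlea hleb => (hloc O O' hO hO' e hlea hleb).2.2.2.1)
  · exact global_iff_single (W₁ := @Etale) (Q₁ := RingHom.Etale) a b a' b' f g h
      ha hb (fun O O' hO hO' e hlea hleb => (hloc O O' hO hO' e hlea hleb).2.2.2.2)

end Groth.Agent.Helper8.Push
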