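import Mathlib
import Groth.Agent.Helper8.PushPropB
import Groth.Agent.Helper8.PushLqfB
import Groth.Agent.Helper8.PushLqfC
import Groth.Agent.Helper8.PushLqfD

/-!
# Pushouts along a closed immersion and an integral morphism are functorial for separated locally
quasi-finite morphisms
-/

set_option autoImplicit false
universe u

open CategoryTheory CategoryTheory.Limits AlgebraicGeometry Opposite TopologicalSpace

namespace Groth.Agent.Helper8.Push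

section Assembly

variable {X T P : Scheme.{u}} (a : X ⟶ P) (b : T ⟶ P)
  {X₁ T₁ P₁ : Scheme.{u}} (a₁ : X₁ ⟶ P₁) (b₁ : T₁ ⟶ P₁)
  (fX : X₁ ⟶ X) (fT : T₁ ⟶ T) (h : P₁ ⟶ P)
  [IsAffineHom a] [IsAffineHom b] [IsAffineHom a₁] [IsAffineHom b₁]
  {W₁ : MorphismProperty Scheme.{u}}
  {Q₁ : ∀ {R S : Type u} [CommRing R] [CommRing S], (R →+* S) → Prop}
  [HasRingHomProperty W₁ Q₁] [W₁.RespectsRight @IsOpenImmersion]

/-- one-directional assembly from charts. -/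
theorem global_of_local (ha : a₁ ≫ h = fX ≫ a) (hb : b₁ ≫ h = fT ≫ b)
    (hloc : ∀ (O : P.Opens) (O' : P₁.Opens), IsAffineOpen O → IsAffineOpen O' →
      ∀ (e : O' ≤ h ⁻¹ᵁ O) (hlea : a₁ ⁻¹ᵁ O' ≤ fX ⁻¹ᵁ (a ⁻¹ᵁ O))
        (hleb : b₁ ⁻¹ᵁ O' ≤ fT ⁻¹ᵁ (b ⁻¹ᵁ O)),
      Q₁ (fT.resLE (b ⁻¹ᵁ O) (b₁ ⁻¹ᵁ O') hleb).appTop.hom →
      Q₁ (fX.resLE (a ⁻¹ᵁ O) (a₁ ⁻¹ᵁ O') hlea).appTop.hom →
      Q₁ (h.resLE O O' e).appTop.hom)
    (hfX : W₁ fX) (hfT : W₁ fT) : W₁ h := by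
  refine of_forall_exists_affine_resLE (W := W₁) h (fun π => ?_)
  obtain ⟨O, O', hO, hO', hπ, e⟩ := exists_affine_pair h π
  refine ⟨O, O', e, hO, hO', hπ, ?_⟩
  exact hloc O O' hO hO' e (pre_le a a₁ fX h ha O O' e) (pre_le b b₁ fT h hb O O' e)
    (appTop_resLE_of fT hfT (hO.preimage b) (hO'.preimage b₁) _)
    (appTop_resLE_of fX hfX (hO.preimage a) (hO'.preimage a₁) _)

end Assembly

set_option maxHeartbeats 3200000 in
/-- **S1465.** -/
theorem pushout_functorial_lqf {X Y Z X' Y' Z' : Scheme.{u}}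
    (i : Z ⟶ X) [IsClosedImmersion i] (j : Z ⟶ Y) [IsIntegralHom j]
    (h3 : ∀ y : Y, ∃ U : X.Opens, IsAffineOpen U ∧ j ⁻¹' {y} ⊆ (i ⁻¹ᵁ U : Set ↑Z))
    (i' : Z' ⟶ X') (j' : Z' ⟶ Y') (f : X' ⟶ X) (g : Y' ⟶ Y) (h : Z' ⟶ Z)
    (hX : IsPullback h i' i f) (hY : IsPullback h j' j g)
    [IsSeparated f] [LocallyQuasiFinite f] [LocallyOfFiniteType f] [IsSeparated g]
    [LocallyQuasiFinite g] [LocallyOfFiniteType g] :
    ∃ (W W' : Scheme.{u}) (a : Y ⟶ W) (b : X ⟶ W) (a' : Y' ⟶ W') (b' : X' ⟶ W') (k : W' ⟶ W),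
      IsPushout j i a b ∧ IsPushout j' i' a' b' ∧ a' ≫ k = g ≫ a ∧ b' ≫ k = f ≫ b ∧
      IsSeparated k ∧ LocallyQuasiFinite k ∧ LocallyOfFiniteType k ∧ IsPullback g a' a k ∧
      IsPullback f b' b k := by
  haveI : IsClosedImmersion i' :=
    MorphismProperty.of_isPullback (P := @IsClosedImmersion) hX inferInstance
  haveI : IsIntegralHom j' :=
    MorphismProperty.of_isPullback (P := @IsIntegralHom) hY inferInstance
  have H := goodPairs_of_haff i j (fun y => by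
    obtain ⟨U, hU, hF⟩ := h3 y
    exact ⟨U, hU, hF⟩)
  have haff' : ∀ y' : Y', ∃ U' : X'.Opens, IsAffineOpen U' ∧
      j' ⁻¹' {y'} ⊆ i' ⁻¹' (U' : Set X') := by
    intro y'
    obtain ⟨k, hk⟩ := H (g y')
    exact exists_affineOpen_fibre i j i' j' f g h hX.w hY.w k y' hk
  have H₁ := goodPairs_of_haff i' j' haff'
  have hP := isPushout i j H
  have hP₁ := isPushout i' j' H₁
  have hcomm : i' ≫ f ≫ inl i j H = j' ≫ g ≫ inr i j H := by
    rw [← Category.assoc, ← hX.w, ← Category.assoc, ← hY.w, Category.assoc, Category.assoc, hP.w]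
  set k : P i' j' ⟶ P i j := hP₁.desc (f ≫ inl i j H) (g ≫ inr i j H) hcomm with hk
  have ha : inl i' j' H₁ ≫ k = f ≫ inl i j H := hP₁.inl_desc _ _ _
  have hb : inr i' j' H₁ ≫ k = g ≫ inr i j H := hP₁.inr_desc _ _ _
  -- the local computation
  have hloc := fun (O : (P i j).Opens) (O' : (P i' j').Opens) (hO : IsAffineOpen O)
      (hO' : IsAffineOpen O') (e : O' ≤ k ⁻¹ᵁ O)
      (hlea : inl i' j' H₁ ⁻¹ᵁ O' ≤ f ⁻¹ᵁ (inl i j H ⁻¹ᵁ O))
      (hleb : inr i' j' H₁ ⁻¹ᵁ O' ≤ g ⁻¹ᵁ (inr i j H ⁻¹ᵁ O)) =>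
    local_apply i j (inl i j H) (inr i j H) i' j' (inl i' j' H₁) (inr i' j' H₁) f g h k H₁ H
      (fun {R₀ A' B D' C' D} α β α' β' σ₀ σ₁ σ₂ =>
        (σ₂.hom.QuasiFinite → σ₁.hom.QuasiFinite → σ₀.hom.QuasiFinite) ∧
        IsPushout α σ₀ σ₁ α' ∧ IsPushout β σ₀ σ₂ β')
      (fun α β p q c hp hi hs α' β' p' q' c' hp' hi' hs' σ₀ σ₁ σ₂ σ₃ c1 c2 c3 c4 po1 po2 =>
        MilAlg.quasiFinite_isPushout_cat α β p q c hp hi hs α' β' p' q' c' hp' hi' hs' σ₀ σ₁ σ₂ σ₃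
          c1 c2 c3 c4 po1 po2)
      hP hP₁ hX.flip hY.flip ha hb O hO O' hO' e hlea hleb
  have hlocP := fun (O : (P i j).Opens) (O' : (P i' j').Opens) (hO : IsAffineOpen O)
      (hO' : IsAffineOpen O') (e : O' ≤ k ⁻¹ᵁ O)
      (hlea : inl i' j' H₁ ⁻¹ᵁ O' ≤ f ⁻¹ᵁ (inl i j H ⁻¹ᵁ O))
      (hleb : inr i' j' H₁ ⁻¹ᵁ O' ≤ g ⁻¹ᵁ (inr i j H ⁻¹ᵁ O)) =>
    local_properties_iff i j (inl i j H) (inr i j H) i' j' (inl i' j' H₁) (inr i' j' H₁) f g h k
      H₁ H hP hP₁ hX.flip hY.flip ha hb O hO O' hO' e hlea hleb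
  -- finite type
  have hft : LocallyOfFiniteType k :=
    (global_iff_single (W₁ := @LocallyOfFiniteType) (Q₁ := RingHom.FiniteType)
      (inl i j H) (inr i j H) (inl i' j' H₁) (inr i' j' H₁) f g k ha hb
      (fun O O' hO hO' e hlea hleb => (hlocP O O' hO hO' e hlea hleb).1)).mpr
      ⟨inferInstance, inferInstance⟩
  -- quasi-finite
  have hqf : LocallyQuasiFinite k :=
    global_of_local (W₁ := @LocallyQuasiFinite) (Q₁ := RingHom.QuasiFinite)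
      (inl i j H) (inr i j H) (inl i' j' H₁) (inr i' j' H₁) f g k ha hb
      (fun O O' hO hO' e hlea hleb => (hloc O O' hO hO' e hlea hleb).1) inferInstance inferInstance
  -- separated
  haveI : IsSeparated (inl i' j' H₁ ≫ k) := by
    rw [ha]
    infer_instance
  haveI : IsSeparated (inr i' j' H₁ ≫ k) := by
    rw [hb]
    infer_instance
  have hsep : IsSeparated k :=
    isSeparated_of_jointly_surjective (inl i' j' H₁) (inr i' j' H₁)
      (jointly_surjective_of_isPushout i' j' H₁ hP₁) k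
  -- the cartesian squares
  have pbX : IsPullback (inl i' j' H₁) f k (inl i j H) :=
    isPullback_of_local_isPushout' (inl i' j' H₁) f k (inl i j H) ha
      (fun O O' hO hO' e => ⟨hO.preimage _, hO'.preimage _, fun hle =>
        ((hloc O O' hO hO' e hle (pre_le (inr i j H) (inr i' j' H₁) g k hb O O' e)).2.1).flip⟩)
  have pbY : IsPullback (inr i' j' H₁) g k (inr i j H) :=
    isPullback_of_local_isPushout' (inr i' j' H₁) g k (inr i j H) hb
      (fun O O' hO hO' e => ⟨hO.preimage _, hO'.preimage _, fun hle =>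
        ((hloc O O' hO hO' e (pre_le (inl i j H) (inl i' j' H₁) f k ha O O' e) hle).2.2).flip⟩)
  exact ⟨P i j, P i' j', inr i j H, inl i j H, inr i' j' H₁, inl i' j' H₁, k, hP.flip,
    hP₁.flip, hb, ha, hsep, hqf, hft, pbY.flip, pbX.flip⟩

end Groth.Agent.Helper8.Push
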