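import Mathlib
import Groth.Agent.Helper8.PushS
import Groth.Agent.Helper8.PushG

/-!
# Pushouts of schemes, part T: flat base change of a pushout of closed immersions in `Over S`
-/

set_option autoImplicit false
universe u

open CategoryTheory CategoryTheory.Limits AlgebraicGeometry Opposite TopologicalSpace

namespace Groth.Agent.Helper8.Push

/-- the base change square of `(Over.pullback g).map φ` is cartesian. -/
theorem isPullback_overPullback_map {S S' : Scheme.{u}} (g : S' ⟶ S) {A B : Over S} (φ : A ⟶ B) :
    IsPullback (pullback.fst A.hom g) ((Over.pullback g).map φ).left φ.left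
      (pullback.fst B.hom g) := by
  have hsnd : ((Over.pullback g).map φ).left ≫ pullback.snd B.hom g = pullback.snd A.hom g := by
    simp only [Over.pullback_map_left]
    exact pullback.lift_snd _ _ _
  have hfst : ((Over.pullback g).map φ).left ≫ pullback.fst B.hom g =
      pullback.fst A.hom g ≫ φ.left := by
    simp only [Over.pullback_map_left]
    exact pullback.lift_fst _ _ _
  have t : IsPullback (((Over.pullback g).map φ).left ≫ pullback.snd B.hom g)
      (pullback.fst A.hom g) g (φ.left ≫ B.hom) := by
    rw [hsnd, Over.w φ]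
    exact (IsPullback.of_hasPullback A.hom g).flip
  exact (IsPullback.of_right t hfst (IsPullback.of_hasPullback B.hom g).flip).flip

/-- **flat base change of a pushout of two closed immersions in `Over S`.** -/
theorem isPushout_closedImmersions_flat_baseChange
    {S S' : Scheme.{u}} (g : S' ⟶ S) [Flat g]
    {Y X₁ X₂ X : Over S} (θ₁ : Y ⟶ X₁) (θ₂ : Y ⟶ X₂)
    [IsClosedImmersion θ₁.left] [IsClosedImmersion θ₂.left]
    (φ₁ : X₁ ⟶ X) (φ₂ : X₂ ⟶ X) (hX : IsPushout θ₁ θ₂ φ₁ φ₂) :
    IsPushout ((Over.pullback g).map θ₁) ((Over.pullback g).map θ₂)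
      ((Over.pullback g).map φ₁) ((Over.pullback g).map φ₂) := by
  haveI : PreservesColimitsOfSize.{0, 0} (Over.forget S) :=
    (Over.forgetAdjStar S).leftAdjoint_preservesColimits
  have hXl : IsPushout θ₁.left θ₂.left φ₁.left φ₂.left := hX.map (Over.forget S)
  have e : (Over.pullback g).map θ₁ ≫ (Over.pullback g).map φ₁ =
      (Over.pullback g).map θ₂ ≫ (Over.pullback g).map φ₂ := by
    rw [← Functor.map_comp, ← Functor.map_comp, hX.w]
  have el : ((Over.pullback g).map θ₁).left ≫ ((Over.pullback g).map φ₁).left =
      ((Over.pullback g).map θ₂).left ≫ ((Over.pullback g).map φ₂).left := by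
    rw [← Over.comp_left, ← Over.comp_left, e]
  have hξ1 : ((Over.pullback g).map θ₂).left ≫ pullback.fst X₂.hom g =
      pullback.fst Y.hom g ≫ θ₂.left := by
    simp only [Over.pullback_map_left]
    exact pullback.lift_fst _ _ _
  refine IsPushout.of_map (Over.forget S') e ?_
  exact isPushout_of_flat θ₁.left θ₂.left (goodPairs_of_closedImmersions θ₁.left θ₂.left) hXl
    (pullback.fst X.hom g) (pullback.fst X₁.hom g) ((Over.pullback g).map φ₁).left
    (isPullback_overPullback_map g φ₁) (pullback.fst X₂.hom g) ((Over.pullback g).map φ₂).left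
    (isPullback_overPullback_map g φ₂) (pullback.fst Y.hom g) ((Over.pullback g).map θ₁).left
    (isPullback_overPullback_map g θ₁) ((Over.pullback g).map θ₂).left hξ1 el

end Groth.Agent.Helper8.Push
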