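import Mathlib
import Groth.Agent.Helper8.PushZ
import Groth.Agent.Helper8.PushT

/-!
# Pushouts of schemes, part Z2: base change of a pinching with projective cokernel, main theorem
-/

set_option autoImplicit false
universe u

open CategoryTheory CategoryTheory.Limits AlgebraicGeometry Opposite TopologicalSpace TensorProduct

namespace Groth.Agent.Helper8.Push

set_option maxHeartbeats 3200000 in
theorem isPushout_baseChange_of_cokerProjective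
    {X Y T Z : Scheme.{u}} (f : X ⟶ Y) (t : T ⟶ Y) (ξ : Z ⟶ T) (ι : Z ⟶ X)
    [IsAffineHom t] [IsClosedImmersion ι] (hsq : ι ≫ f = ξ ≫ t)
    (hstd : ∀ y : Y, ∃ U : Y.Opens, IsAffineOpen U ∧ y ∈ U ∧ ∃ V : X.Opens, IsAffineOpen V ∧
      V ≤ f ⁻¹ᵁ U ∧ ∀ z : Z, (ξ ≫ t).base z ∈ U → ι.base z ∈ V)
    {P : Scheme.{u}} (a : X ⟶ P) (b : T ⟶ P) (hP : IsPushout ι ξ a b)
    [Flat ξ] [Surjective ξ]
    (hv : ∀ U : Y.affineOpens, @Pinch.CokerProjective Γ(Y, U) Γ(Z, (ξ ≫ t) ⁻¹ᵁ U) Γ(T, t ⁻¹ᵁ U) _ _ _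
      ((ξ ≫ t).app U).hom.toAlgebra (ξ.app (t ⁻¹ᵁ U)).hom)
    (p : P ⟶ Y) (hap : a ≫ p = f) (hbp : b ≫ p = t) {Y' : Scheme.{u}} (g : Y' ⟶ Y)
    {P' X' T' Z' : Scheme.{u}} (pP : P' ⟶ P) (sP' : P' ⟶ Y') (hP' : IsPullback pP sP' p g)
    (pX : X' ⟶ X) (a' : X' ⟶ P') (hX' : IsPullback pX a' a pP)
    (pT : T' ⟶ T) (b' : T' ⟶ P') (hT' : IsPullback pT b' b pP)
    (pZ : Z' ⟶ Z) (ι' : Z' ⟶ X') (hZ' : IsPullback pZ ι' ι pX)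
    (ξ' : Z' ⟶ T') (hξ1 : ξ' ≫ pT = pZ ≫ ξ) (hξ2 : ι' ≫ a' = ξ' ≫ b') :
    IsPushout ι' ξ' a' b' := by
  have H := goodPairs_of_std f t ξ ι hsq hstd
  haveI : IsAffineHom a := isAffineHom_of_isPushout ι ξ a b H hP
  haveI : IsClosedImmersion b := (of_isPushout ι ξ H hP).2.1
  refine isPushout_pullback_of_local_inj ι ξ a b H hP pP pX a' hX' pT b' hT' pZ ι' hZ' ξ' hξ1 hξ2 ?_
  intro π
  obtain ⟨U, hU, hyU, V, hV, hVle, hzV⟩ := hstd (p (pP π))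
  have hk : ι ⁻¹ᵁ V = ξ ⁻¹ᵁ (t ⁻¹ᵁ U) := by
    ext z
    constructor
    · intro hz
      have h1 : f (ι z) ∈ U := hVle hz
      have h2 : (ι ≫ f) z ∈ U := by
        rw [Scheme.Hom.comp_apply]
        exact h1
      rw [hsq, Scheme.Hom.comp_apply] at h2
      exact h2
    · intro hzW
      have h1 : t (ξ z) ∈ U := hzW
      have h2 : (ξ ≫ t) z ∈ U := by
        rw [Scheme.Hom.comp_apply]
        exact h1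
      exact hzV z h2
  obtain ⟨O, hO, hOV, hOW⟩ := exists_affineOpen_of_goodPair ι ξ a b H hP
    ⟨V, t ⁻¹ᵁ U, hV, hU.preimage t, hk⟩
  have hOV' : a ⁻¹ᵁ O = V := hOV
  have hOW' : b ⁻¹ᵁ O = t ⁻¹ᵁ U := hOW
  by_cases hπO : pP π ∈ O
  · -- Case A: the point lies in the chart
    have hOle : O ≤ p ⁻¹ᵁ U := by
      intro x hx
      rcases jointly_surjective_of_isPushout ι ξ H hP x with ⟨x', rfl⟩ | ⟨τ, rfl⟩
      · have h1 : x' ∈ a ⁻¹ᵁ O := hx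
        rw [hOV'] at h1
        have h2 : f x' ∈ U := hVle h1
        show p (a x') ∈ U
        rw [← Scheme.Hom.comp_apply, hap]
        exact h2
      · have h1 : τ ∈ b ⁻¹ᵁ O := hx
        rw [hOW'] at h1
        show p (b τ) ∈ U
        rw [← Scheme.Hom.comp_apply, hbp]
        exact h1
    have hπU' : sP' π ∈ g ⁻¹ᵁ U := by
      show g (sP' π) ∈ U
      rw [← Scheme.Hom.comp_apply, ← hP'.w, Scheme.Hom.comp_apply]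
      exact hyU
    obtain ⟨U', hU', hπU'', hU'le⟩ := Opens.isBasis_iff_nbhd.mp Y'.isBasis_affineOpens hπU'
    have pbP : IsPullback (pP.resLE O (pP ⁻¹ᵁ O ⊓ sP' ⁻¹ᵁ U') inf_le_left)
        (sP'.resLE U' (pP ⁻¹ᵁ O ⊓ sP' ⁻¹ᵁ U') inf_le_right) (p.resLE U O hOle)
        (g.resLE U U' hU'le) :=
      Scheme.Hom.isPullback_resLE hP' hU'le hOle (UY := pP ⁻¹ᵁ O ⊓ sP' ⁻¹ᵁ U') rfl
    haveI : IsAffine (U : Scheme.{u}) := hU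
    haveI : IsAffine (U' : Scheme.{u}) := hU'
    haveI : IsAffine (O : Scheme.{u}) := hO
    have hO' : IsAffine ((pP ⁻¹ᵁ O ⊓ sP' ⁻¹ᵁ U' : P'.Opens) : Scheme.{u}) :=
      IsAffine.of_isPullback pbP
    haveI := hO'
    refine ⟨O, pP ⁻¹ᵁ O ⊓ sP' ⁻¹ᵁ U', hO, hO', ⟨hπO, hπU''⟩, inf_le_left, ?_⟩
    have hle : pP ⁻¹ᵁ O ⊓ sP' ⁻¹ᵁ U' ≤ pP ⁻¹ᵁ O := inf_le_left
    haveI : IsAffine ((a ⁻¹ᵁ O : X.Opens) : Scheme.{u}) := hO.preimage a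
    haveI : IsAffine ((b ⁻¹ᵁ O : T.Opens) : Scheme.{u}) := hO.preimage b
    haveI : IsAffine ((ι ⁻¹ᵁ (a ⁻¹ᵁ O) : Z.Opens) : Scheme.{u}) := (hO.preimage a).preimage ι
    have hXle : a' ⁻¹ᵁ (pP ⁻¹ᵁ O ⊓ sP' ⁻¹ᵁ U') ≤ pX ⁻¹ᵁ (a ⁻¹ᵁ O) := by
      intro x hx
      show a (pX x) ∈ O
      rw [← Scheme.Hom.comp_apply, hX'.w, Scheme.Hom.comp_apply]
      exact hle hx
    have pbX : IsPullback (pX.resLE (a ⁻¹ᵁ O) (a' ⁻¹ᵁ (pP ⁻¹ᵁ O ⊓ sP' ⁻¹ᵁ U')) hXle)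
        (a'.resLE (pP ⁻¹ᵁ O ⊓ sP' ⁻¹ᵁ U') (a' ⁻¹ᵁ (pP ⁻¹ᵁ O ⊓ sP' ⁻¹ᵁ U')) le_rfl)
        (a.resLE O (a ⁻¹ᵁ O) le_rfl) (pP.resLE O (pP ⁻¹ᵁ O ⊓ sP' ⁻¹ᵁ U') hle) :=
      Scheme.Hom.isPullback_resLE hX' hle le_rfl (UY := a' ⁻¹ᵁ (pP ⁻¹ᵁ O ⊓ sP' ⁻¹ᵁ U'))
        (inf_eq_right.mpr hXle).symm
    have hPO := isPushout_resLE_of_isPushout ι ξ a b H hP O
    obtain ⟨hinj₀, hsurj₀⟩ := sections_exact_of_isPushout hPO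
    have comm : (a.resLE O (a ⁻¹ᵁ O) le_rfl).appTop ≫
        (ι.resLE (a ⁻¹ᵁ O) (ι ⁻¹ᵁ (a ⁻¹ᵁ O)) le_rfl).appTop =
        (b.resLE O (b ⁻¹ᵁ O) le_rfl).appTop ≫
        (ξ.resLE (b ⁻¹ᵁ O) (ι ⁻¹ᵁ (a ⁻¹ᵁ O)) (preimage_le ι ξ a b hP.w O)).appTop := by
      rw [← Scheme.Hom.comp_appTop, ← Scheme.Hom.comp_appTop, hPO.w]
    haveI : IsClosedImmersion (ι.resLE (a ⁻¹ᵁ O) (ι ⁻¹ᵁ (a ⁻¹ᵁ O)) le_rfl) := by
      rw [Scheme.Hom.resLE_eq_morphismRestrict]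
      infer_instance
    have hp : Function.Surjective (ι.resLE (a ⁻¹ᵁ O) (ι ⁻¹ᵁ (a ⁻¹ᵁ O)) le_rfl).appTop.hom :=
      (IsClosedImmersion.isAffine_surjective_of_isAffine _).2
    -- identification of the opens
    have hWZ : ι ⁻¹ᵁ (a ⁻¹ᵁ O) = (ξ ≫ t) ⁻¹ᵁ U := by
      rw [hOV']
      exact hk
    have hZle : ι ⁻¹ᵁ (a ⁻¹ᵁ O) ≤ ξ ⁻¹ᵁ (b ⁻¹ᵁ O) := preimage_le ι ξ a b hP.w O
    have e' : ι ⁻¹ᵁ (a ⁻¹ᵁ O) ≤ (ξ ≫ t) ⁻¹ᵁ U := hWZ.le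
    -- injectivity of `ξ` on sections
    haveI : Surjective (ξ.resLE (b ⁻¹ᵁ O) (ι ⁻¹ᵁ (a ⁻¹ᵁ O)) hZle) := ⟨by
      rintro ⟨τ, hτ⟩
      obtain ⟨z, rfl⟩ := ξ.surjective τ
      have hz : z ∈ ι ⁻¹ᵁ (a ⁻¹ᵁ O) := by
        rw [hWZ]
        rw [hOW'] at hτ
        exact hτ
      exact ⟨⟨z, hz⟩, Subtype.ext (Scheme.Hom.coe_resLE_apply _ _ _)⟩⟩
    have hq : Function.Injective
        (ξ.resLE (b ⁻¹ᵁ O) (ι ⁻¹ᵁ (a ⁻¹ᵁ O)) hZle).appTop.hom :=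
      ((Flat.flat_and_surjective_iff_faithfullyFlat_of_isAffine _).mp
        ⟨inferInstance, inferInstance⟩).injective
    obtain ⟨N, _, _, _, ψ, hψl, hψs, hψk⟩ := coker_data t ξ U (hv ⟨U, hU⟩) (b ⁻¹ᵁ O)
      (ι ⁻¹ᵁ (a ⁻¹ᵁ O)) hOW' hWZ hZle e'
    have hC' : IsPushout (U.topIso.inv ≫ (p.resLE U O hOle).appTop)
        (U.topIso.inv ≫ (g.resLE U U' hU'le).appTop)
        (pP.resLE O (pP ⁻¹ᵁ O ⊓ sP' ⁻¹ᵁ U') inf_le_left).appTop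
        (sP'.resLE U' (pP ⁻¹ᵁ O ⊓ sP' ⁻¹ᵁ U') inf_le_right).appTop :=
      (isPushout_appTop_of_isPullback pbP).of_iso U.topIso (Iso.refl _) (Iso.refl _) (Iso.refl _)
        (by rw [Iso.refl_hom, Category.comp_id, Iso.hom_inv_id_assoc])
        (by rw [Iso.refl_hom, Category.comp_id, Iso.hom_inv_id_assoc])
        (by rw [Iso.refl_hom, Iso.refl_hom, Category.comp_id, Category.id_comp])
        (by rw [Iso.refl_hom, Iso.refl_hom, Category.comp_id, Category.id_comp])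
    have hcomp : (ξ ≫ t).resLE U (ι ⁻¹ᵁ (a ⁻¹ᵁ O)) e' =
        ι.resLE (a ⁻¹ᵁ O) (ι ⁻¹ᵁ (a ⁻¹ᵁ O)) le_rfl ≫ a.resLE O (a ⁻¹ᵁ O) le_rfl ≫
          p.resLE U O hOle := by
      rw [← cancel_mono (Scheme.Opens.ι U), Scheme.Hom.resLE_comp_ι, Category.assoc,
        Category.assoc, Scheme.Hom.resLE_comp_ι, Scheme.Hom.resLE_comp_ι_assoc,
        Scheme.Hom.resLE_comp_ι_assoc, hap, hsq]
    have hσ : (U.topIso.inv ≫ (p.resLE U O hOle).appTop) ≫ (a.resLE O (a ⁻¹ᵁ O) le_rfl).appTop ≫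
        (ι.resLE (a ⁻¹ᵁ O) (ι ⁻¹ᵁ (a ⁻¹ᵁ O)) le_rfl).appTop =
        U.topIso.inv ≫ ((ξ ≫ t).resLE U (ι ⁻¹ᵁ (a ⁻¹ᵁ O)) e').appTop := by
      rw [hcomp]
      simp only [Scheme.Hom.comp_appTop, Category.assoc]
    have hψl' : ∀ (r : Γ(Y, U)) (x : Γ(((ι ⁻¹ᵁ (a ⁻¹ᵁ O) : Z.Opens) : Scheme.{u}), ⊤)),
        ψ (((U.topIso.inv ≫ (p.resLE U O hOle).appTop) ≫ (a.resLE O (a ⁻¹ᵁ O) le_rfl).appTop ≫
          (ι.resLE (a ⁻¹ᵁ O) (ι ⁻¹ᵁ (a ⁻¹ᵁ O)) le_rfl).appTop).hom r * x) = r • ψ x := by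
      intro r x
      rw [hσ]
      exact hψl r x
    have hj := inj_of_flat_coker_cat (U.topIso.inv ≫ (p.resLE U O hOle).appTop)
      (U.topIso.inv ≫ (g.resLE U U' hU'le).appTop) _ _ hC' _ _ _ _ comm hq _ _
      (isPushout_appTop_of_isPullback pbX)
      (fun r r' h1 h2 => hinj₀ r r' h2 h1)
      (fun x y hxy => by
        obtain ⟨c, hc1, hc2⟩ := hsurj₀ y x hxy.symm
        exact ⟨c, hc2, hc1⟩)
      N ψ hψl' (hψs.comp hp) hψk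
    intro c c' h1 _
    exact hj h1
  · -- Case B: the point lies outside the image of `T`
    have hnot : pP π ∉ Set.range b := by
      rintro ⟨τ, hτ⟩
      apply hπO
      have h0 : p (b τ) = p (pP π) := by rw [hτ]
      rw [← Scheme.Hom.comp_apply, hbp] at h0
      have h1 : t τ ∈ U := by
        rw [h0]
        exact hyU
      have h2 : τ ∈ b ⁻¹ᵁ O := by
        rw [hOW']
        exact h1
      rw [← hτ]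
      exact h2
    have hcl : IsClosed (Set.range b) := b.isClosedEmbedding.isClosed_range
    have hπOc : pP π ∈ (⟨(Set.range b)ᶜ, hcl.isOpen_compl⟩ : P.Opens) := hnot
    obtain ⟨O₂, hO₂, hπO₂, hO₂le⟩ := Opens.isBasis_iff_nbhd.mp P.isBasis_affineOpens hπOc
    have hπ' : π ∈ pP ⁻¹ᵁ O₂ := hπO₂
    obtain ⟨O₂', hO₂', hπO₂', hO₂'le⟩ := Opens.isBasis_iff_nbhd.mp P'.isBasis_affineOpens hπ'
    refine ⟨O₂, O₂', hO₂, hO₂', hπO₂', hO₂'le, ?_⟩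
    haveI : IsEmpty ((b ⁻¹ᵁ O₂ : T.Opens) : Scheme.{u}) :=
      ⟨fun τ => hO₂le τ.2 (Set.mem_range_self τ.1)⟩
    have hPO := isPushout_resLE_of_isPushout ι ξ a b H hP O₂
    haveI : IsIso (ξ.resLE (b ⁻¹ᵁ O₂) (ι ⁻¹ᵁ (a ⁻¹ᵁ O₂)) (preimage_le ι ξ a b hP.w O₂)) :=
      isIso_of_isEmpty _
    haveI : IsIso (a.resLE O₂ (a ⁻¹ᵁ O₂) le_rfl) := hPO.isIso_inl_of_isIso
    have hXle : a' ⁻¹ᵁ O₂' ≤ pX ⁻¹ᵁ (a ⁻¹ᵁ O₂) := by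
      intro x hx
      show a (pX x) ∈ O₂
      rw [← Scheme.Hom.comp_apply, hX'.w, Scheme.Hom.comp_apply]
      exact hO₂'le hx
    have pbX : IsPullback (pX.resLE (a ⁻¹ᵁ O₂) (a' ⁻¹ᵁ O₂') hXle)
        (a'.resLE O₂' (a' ⁻¹ᵁ O₂') le_rfl)
        (a.resLE O₂ (a ⁻¹ᵁ O₂) le_rfl) (pP.resLE O₂ O₂' hO₂'le) :=
      Scheme.Hom.isPullback_resLE hX' hO₂'le le_rfl (UY := a' ⁻¹ᵁ O₂')
        (inf_eq_right.mpr hXle).symm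
    haveI : IsIso (a'.resLE O₂' (a' ⁻¹ᵁ O₂') le_rfl) := pbX.isIso_snd_of_isIso
    have hj : Function.Injective (a'.resLE O₂' (a' ⁻¹ᵁ O₂') le_rfl).appTop.hom :=
      ((ConcreteCategory.isIso_iff_bijective (a'.resLE O₂' (a' ⁻¹ᵁ O₂') le_rfl).appTop).mp
        (inferInstanceAs (IsIso ((a'.resLE O₂' (a' ⁻¹ᵁ O₂') le_rfl).app ⊤)))).1
    intro c c' h1 _
    exact hj h1

end Groth.Agent.Helper8.Push
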