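import Mathlib
import Groth.Agent.Helper8.PushZ2

/-!
# Pushouts of schemes, part Z3: the `Over.pullback` form of the base change theorem
-/

set_option autoImplicit false
universe u

open CategoryTheory CategoryTheory.Limits AlgebraicGeometry Opposite TopologicalSpace

namespace Groth.Agent.Helper8.Push

theorem isPushout_overPullback_of_cokerProjective
    {X Y T Z : Scheme.{u}} (f : X ⟶ Y) (t : T ⟶ Y) (ξ : Z ⟶ T) (ι : Z ⟶ X)
    [IsAffineHom t] [IsClosedImmersion ι] (hsq : ι ≫ f = ξ ≫ t)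
    (hstd : ∀ y : Y, ∃ U : Y.Opens, IsAffineOpen U ∧ y ∈ U ∧ ∃ V : X.Opens, IsAffineOpen V ∧
      V ≤ f ⁻¹ᵁ U ∧ ∀ z : Z, (ξ ≫ t).base z ∈ U → ι.base z ∈ V)
    {P : Scheme.{u}} (a : X ⟶ P) (b : T ⟶ P) (hP : IsPushout ι ξ a b)
    [Flat ξ] [Surjective ξ]
    (hv : ∀ U : Y.affineOpens, @Pinch.CokerProjective Γ(Y, U) Γ(Z, (ξ ≫ t) ⁻¹ᵁ U) Γ(T, t ⁻¹ᵁ U) _ _ _
      ((ξ ≫ t).app U).hom.toAlgebra (ξ.app (t ⁻¹ᵁ U)).hom)
    (p : P ⟶ Y) (hap : a ≫ p = f) (hbp : b ≫ p = t) {Y' : Scheme.{u}} (g : Y' ⟶ Y) :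
    IsPushout ((Over.pullback g).map (Over.homMk ι hsq : Over.mk (ξ ≫ t) ⟶ Over.mk f)).left
      ((Over.pullback g).map (Over.homMk ξ rfl : Over.mk (ξ ≫ t) ⟶ Over.mk t)).left
      ((Over.pullback g).map (Over.homMk a hap : Over.mk f ⟶ Over.mk p)).left
      ((Over.pullback g).map (Over.homMk b hbp : Over.mk t ⟶ Over.mk p)).left := by
  have hξ1 : ((Over.pullback g).map (Over.homMk ξ rfl : Over.mk (ξ ≫ t) ⟶ Over.mk t)).left ≫
      pullback.fst t g = pullback.fst (ξ ≫ t) g ≫ ξ := by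
    simp only [Over.pullback_map_left, Over.homMk_left, Over.mk_hom]
    exact pullback.lift_fst _ _ _
  have e : (Over.pullback g).map (Over.homMk ι hsq : Over.mk (ξ ≫ t) ⟶ Over.mk f) ≫
      (Over.pullback g).map (Over.homMk a hap : Over.mk f ⟶ Over.mk p) =
      (Over.pullback g).map (Over.homMk ξ rfl : Over.mk (ξ ≫ t) ⟶ Over.mk t) ≫
      (Over.pullback g).map (Over.homMk b hbp : Over.mk t ⟶ Over.mk p) := by
    rw [← Functor.map_comp, ← Functor.map_comp]
    congr 1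
    ext
    exact hP.w
  have el : ((Over.pullback g).map (Over.homMk ι hsq : Over.mk (ξ ≫ t) ⟶ Over.mk f)).left ≫
      ((Over.pullback g).map (Over.homMk a hap : Over.mk f ⟶ Over.mk p)).left =
      ((Over.pullback g).map (Over.homMk ξ rfl : Over.mk (ξ ≫ t) ⟶ Over.mk t)).left ≫
      ((Over.pullback g).map (Over.homMk b hbp : Over.mk t ⟶ Over.mk p)).left := by
    rw [← Over.comp_left, ← Over.comp_left, e]
  exact isPushout_baseChange_of_cokerProjective f t ξ ι hsq hstd a b hP hv p hap hbp g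
    (pullback.fst p g) (pullback.snd p g) (IsPullback.of_hasPullback p g)
    (pullback.fst f g) _
    (isPullback_overPullback_map g (Over.homMk a hap : Over.mk f ⟶ Over.mk p))
    (pullback.fst t g) _
    (isPullback_overPullback_map g (Over.homMk b hbp : Over.mk t ⟶ Over.mk p))
    (pullback.fst (ξ ≫ t) g) _
    (isPullback_overPullback_map g (Over.homMk ι hsq : Over.mk (ξ ≫ t) ⟶ Over.mk f))
    _ hξ1 el

end Groth.Agent.Helper8.Push
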