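import Mathlib
import Groth.Prelude
import Groth.Agent.Helper8.QFSch

set_option autoImplicit false
open CategoryTheory CategoryTheory.Limits AlgebraicGeometry Opposite TopologicalSpace
universe u

namespace Groth.Agent.Helper8.QFEt

/-- **S1379**. -/
theorem main {S₁ S : Scheme.{u}} (g : S₁ ⟶ S) [Flat g] [LocallyOfFinitePresentation g]
    [Surjective g] (s : S) :
    ∃ (S' V : Scheme.{u}) (e : S' ⟶ S) (π : V ⟶ S'), Etale e ∧ s ∈ Set.range ⇑e ∧
      Surjective π ∧ IsFinite π ∧ Flat π ∧ LocallyOfFinitePresentation π ∧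
      ∀ v : ↑V, ∃ (W : V.Opens) (r : ↑W ⟶ S₁), v ∈ W ∧ r ≫ g = W.ι ≫ π ≫ e := by
  obtain ⟨x, rfl⟩ := g.surjective s
  obtain ⟨T, k, h, hT, hc, h1, h2, h3, ⟨t, ht⟩⟩ := QFSch.exists_local_sch g x
  haveI : IsSeparated (k ≫ terminal.from S) := by
    rw [terminal.comp_from]
    infer_instance
  haveI : IsSeparated k := IsSeparated.of_comp k (terminal.from S)
  obtain ⟨U, e₀, he₀, ⟨u₀, hu₀⟩, V, W, v, hVW, hfin, hv⟩ :=
    exists_etale_isCompl_of_quasiFiniteAt k ht (k.quasiFiniteAt t)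
  -- the finite flat piece
  let π₀ : (V : Scheme.{u}) ⟶ U := V.ι ≫ pullback.snd k e₀
  haveI : IsFinite π₀ := hfin
  haveI : Flat π₀ := inferInstance
  haveI : LocallyOfFinitePresentation π₀ := inferInstance
  have hopen : IsOpen (Set.range π₀) := π₀.isOpenMap.isOpen_range
  let U' : U.Opens := ⟨Set.range π₀, hopen⟩
  have hsurj : Surjective (π₀ ∣_ U') := by
    refine ⟨fun y => ?_⟩
    obtain ⟨z, hz⟩ := y.2
    have hzmem : z ∈ π₀ ⁻¹ᵁ U' := ⟨z, rfl⟩
    refine ⟨⟨z, hzmem⟩, ?_⟩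
    apply Subtype.ext
    rw [morphismRestrict_base_coe]
    exact hz
  refine ⟨U', (π₀ ⁻¹ᵁ U' : (V : Scheme.{u}).Opens), U'.ι ≫ e₀, π₀ ∣_ U', inferInstance, ?_, hsurj,
    inferInstance, inferInstance, inferInstance, ?_⟩
  · -- `s` is in the range
    have h5 : e₀ (π₀ v) = g x := by
      show e₀ ((V.ι ≫ pullback.snd k e₀) v) = g x
      rw [← Scheme.Hom.comp_apply, Category.assoc, ← pullback.condition, ← Category.assoc,
        Scheme.Hom.comp_apply, Scheme.Hom.comp_apply]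
      have : (pullback.fst k e₀) (V.ι v) = t := hv
      rw [this, ht]
    refine ⟨⟨π₀ v, ⟨v, rfl⟩⟩, ?_⟩
    rw [Scheme.Hom.comp_apply]
    exact h5
  · intro w
    refine ⟨⊤, (⊤ : (π₀ ⁻¹ᵁ U' : (V : Scheme.{u}).Opens).toScheme.Opens).ι ≫ (π₀ ⁻¹ᵁ U').ι ≫ V.ι ≫
      pullback.fst k e₀ ≫ h, trivial, ?_⟩
    simp only [Category.assoc]
    rw [hc, pullback.condition, ← Category.assoc V.ι, morphismRestrict_ι_assoc]

end Groth.Agent.Helper8.QFEt
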