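import Groth.Prelude.Def_WittGrp
import Mathlib.RingTheory.Ideal.Quotient.Defs
import Mathlib.RingTheory.Ideal.Quotient.Operations

set_option autoImplicit false
universe u

namespace Groth.Agent.Helper8.QFSplit

open WittGrp

variable (p : ℕ) [hpp : Fact p.Prime] (m : ℕ) (R : Type u) [CommRing R] (hp : (p : R) = 0)

theorem p_mul (w : TruncatedWittVector p (m + 1) R) :
    (p : TruncatedWittVector p (m + 1) R) * w =
      shift p (Nat.le_succ m) (frob p m hp (TruncatedWittVector.truncate (Nat.le_succ m) w)) := by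
  rcases subsingleton_or_nontrivial R with hR | hR
  · exact TruncatedWittVector.ext fun i => Subsingleton.elim _ _
  · have : CharP R p := (CharP.charP_iff_prime_eq_zero hpp.out).mpr hp
    obtain ⟨X, rfl⟩ := WittVector.truncate_surjective p (m + 1) R w
    rw [TruncatedWittVector.truncate_wittVector_truncate, frob_truncate, shift_truncate]
    have : m + 1 - m = 1 := by omega
    rw [this, Function.iterate_one, WittVector.verschiebung_frobenius, mul_comm, map_mul, map_natCast]

theorem shift_mul (x : TruncatedWittVector p m R) (z : TruncatedWittVector p (m + 1) R) :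
    shift p (Nat.le_succ m) x * z =
      shift p (Nat.le_succ m) (x * frob p m hp (TruncatedWittVector.truncate (Nat.le_succ m) z)) := by
  rcases subsingleton_or_nontrivial R with hR | hR
  · exact TruncatedWittVector.ext fun i => Subsingleton.elim _ _
  · have : CharP R p := (CharP.charP_iff_prime_eq_zero hpp.out).mpr hp
    obtain ⟨X, rfl⟩ := WittVector.truncate_surjective p m R x
    obtain ⟨Z, rfl⟩ := WittVector.truncate_surjective p (m + 1) R z
    rw [TruncatedWittVector.truncate_wittVector_truncate, frob_truncate, ← map_mul, shift_truncate,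
      shift_truncate]
    have : m + 1 - m = 1 := by omega
    rw [this, Function.iterate_one, WittVector.verschiebung_mul_frobenius, map_mul]

theorem shift_coeff_zero (x : TruncatedWittVector p m R) :
    (shift p (Nat.le_succ m) x).coeff 0 = 0 := by
  rw [coeff_shift]
  have : ¬ (m + 1 - m ≤ ((0 : Fin (m+1)) : ℕ)) := by simp
  rw [dif_neg this]

theorem shift_coeff_succ (x : TruncatedWittVector p m R) (i : Fin m) :
    (shift p (Nat.le_succ m) x).coeff i.succ = x.coeff i := by
  rw [coeff_shift]
  have : (m + 1 - m ≤ ((i.succ : Fin (m+1)) : ℕ)) := by simp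
  rw [dif_pos this]
  congr 1
  ext
  simp

theorem shift_inj : Function.Injective (shift (R := R) p (Nat.le_succ m)) := by
  intro x y h
  refine TruncatedWittVector.ext fun i => ?_
  rw [← shift_coeff_succ p m R x i, ← shift_coeff_succ p m R y i, h]

theorem exists_shift (w : TruncatedWittVector p (m + 1) R) (h : w.coeff 0 = 0) :
    ∃ x, w = shift p (Nat.le_succ m) x := by
  refine ⟨TruncatedWittVector.mk p fun i => w.coeff i.succ, TruncatedWittVector.ext fun i => ?_⟩
  refine Fin.cases ?_ (fun j => ?_) i
  · rw [h, shift_coeff_zero]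
  · rw [shift_coeff_succ, TruncatedWittVector.coeff_mk]

theorem main (hm : 0 < m)
    (σ : TruncatedWittVector p m R →+ R) (h1 : σ 1 = 1)
    (hF : ∀ x y : TruncatedWittVector p m R, σ (WittGrp.frob p m hp x * y) = x.coeff ⟨0, hm⟩ * σ y)
    (I : Ideal (TruncatedWittVector p (m + 1) R))
    (hI : I = Ideal.span (WittGrp.shift p (Nat.le_succ m) '' {x : TruncatedWittVector p m R | σ x = 0})) :
    (∀ w : TruncatedWittVector p (m + 1) R,
        Ideal.Quotient.mk I w ∈ Ideal.span ({(p : TruncatedWittVector p (m + 1) R ⧸ I)} : Set _) ↔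
          w.coeff 0 = 0) ∧
    (∀ q : TruncatedWittVector p (m + 1) R ⧸ I,
        (p : TruncatedWittVector p (m + 1) R ⧸ I) * q = 0 ↔
          q ∈ Ideal.span ({(p : TruncatedWittVector p (m + 1) R ⧸ I)} : Set _)) := by
  -- I is exactly the image of ker σ
  have hIel : ∀ w ∈ I, ∃ x, σ x = 0 ∧ w = shift p (Nat.le_succ m) x := by
    intro w hw
    rw [hI] at hw
    induction hw using Submodule.span_induction with
    | mem w hw =>
      obtain ⟨x, hx, rfl⟩ := hw
      exact ⟨x, hx, rfl⟩
    | zero => exact ⟨0, map_zero σ, (map_zero _).symm⟩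
    | add a b _ _ ha hb =>
      obtain ⟨x, hx, rfl⟩ := ha
      obtain ⟨y, hy, rfl⟩ := hb
      exact ⟨x + y, by rw [map_add, hx, hy, add_zero], (map_add _ _ _).symm⟩
    | smul z a _ ha =>
      obtain ⟨x, hx, rfl⟩ := ha
      refine ⟨x * frob p m hp (TruncatedWittVector.truncate (Nat.le_succ m) z), ?_, ?_⟩
      · rw [mul_comm, hF, hx, mul_zero]
      · rw [smul_eq_mul, mul_comm, shift_mul]
  have hImem : ∀ x, σ x = 0 → shift p (Nat.le_succ m) x ∈ I := by
    intro x hx
    rw [hI]
    exact Ideal.subset_span ⟨x, hx, rfl⟩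
  have hσF : ∀ t : TruncatedWittVector p m R, σ (frob p m hp t) = t.coeff ⟨0, hm⟩ := by
    intro t
    have := hF t 1
    rwa [mul_one, h1, mul_one] at this
  have htr0 : ∀ w : TruncatedWittVector p (m + 1) R,
      (TruncatedWittVector.truncate (Nat.le_succ m) w).coeff ⟨0, hm⟩ = w.coeff 0 := by
    intro w
    rw [TruncatedWittVector.coeff_truncate]
    rfl
  have part1 : ∀ w : TruncatedWittVector p (m + 1) R,
        Ideal.Quotient.mk I w ∈ Ideal.span ({(p : TruncatedWittVector p (m + 1) R ⧸ I)} : Set _) ↔
          w.coeff 0 = 0 := by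
    intro w
    constructor
    · intro h
      rw [Ideal.mem_span_singleton'] at h
      obtain ⟨q, hq⟩ := h
      obtain ⟨u, rfl⟩ := Ideal.Quotient.mk_surjective q
      have h2 : Ideal.Quotient.mk I (u * (p : TruncatedWittVector p (m + 1) R)) = Ideal.Quotient.mk I w := by
        rw [map_mul, map_natCast, hq]
      rw [Ideal.Quotient.eq] at h2
      obtain ⟨x, hx, hx2⟩ := hIel _ h2
      have : w = shift p (Nat.le_succ m)
          (frob p m hp (TruncatedWittVector.truncate (Nat.le_succ m) u) - x) := by
        rw [map_sub, ← p_mul, ← hx2]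
        ring
      rw [this, shift_coeff_zero]
    · intro h
      obtain ⟨x, rfl⟩ := exists_shift p m R w h
      obtain ⟨u, hu⟩ := TruncatedWittVector.truncate_surjective (p := p) (R := R) (Nat.le_succ m)
        (TruncatedWittVector.mk p fun _ => σ x)
      rw [Ideal.mem_span_singleton']
      refine ⟨Ideal.Quotient.mk I u, ?_⟩
      rw [← map_natCast (Ideal.Quotient.mk I), ← map_mul, Ideal.Quotient.eq, mul_comm, p_mul p m R hp, hu,
        ← map_sub]
      apply hImem
      rw [map_sub, hσF, TruncatedWittVector.coeff_mk, sub_self]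
  refine ⟨part1, ?_⟩
  intro q
  obtain ⟨w, rfl⟩ := Ideal.Quotient.mk_surjective q
  rw [part1, ← map_natCast (Ideal.Quotient.mk I), ← map_mul, Ideal.Quotient.eq_zero_iff_mem, p_mul p m R hp]
  constructor
  · intro h
    obtain ⟨x, hx, hx2⟩ := hIel _ h
    have := shift_inj p m R hx2
    rw [← htr0, ← hσF, this, hx]
  · intro h
    apply hImem
    rw [hσF, htr0, h]

theorem mulshift (hm : 0 < m)
    (σ : TruncatedWittVector p m R →+ R)
    (hF : ∀ x y : TruncatedWittVector p m R, σ (WittGrp.frob p m hp x * y) = x.coeff ⟨0, hm⟩ * σ y)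
    (y : TruncatedWittVector p (m + 1) R) (x : TruncatedWittVector p m R) (hx : σ x = 0) :
    ∃ x' : TruncatedWittVector p m R, σ x' = 0 ∧
      y * WittGrp.shift p (Nat.le_succ m) x = WittGrp.shift p (Nat.le_succ m) x' := by
  refine ⟨x * frob p m hp (TruncatedWittVector.truncate (Nat.le_succ m) y), ?_, ?_⟩
  · rw [mul_comm, hF, hx, mul_zero]
  · rw [mul_comm, shift_mul]

end Groth.Agent.Helper8.QFSplit
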