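import Groth.Agent.Helper8.QLin
import Mathlib.FieldTheory.IsAlgClosed.Basic
import Mathlib.RingTheory.TensorProduct.Basic
import Mathlib.LinearAlgebra.TensorProduct.Basis
import Mathlib.RingTheory.Flat.Basic
import Mathlib.RingTheory.Flat.FaithfullyFlat.Basic
import Mathlib.Algebra.CharP.Algebra
import Mathlib.FieldTheory.Finite.Basic

set_option autoImplicit false

namespace Groth.Agent.Helper8.QLinBC

open scoped TensorProduct
open Module Submodule Groth.Agent.Helper8.QLin Polynomial

/-- solutions of `x^p = x` in a field of characteristic `p` are the natural number casts -/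
theorem exists_natCast_of_pow_eq {K : Type*} [Field K] (p : ℕ) [Fact p.Prime] [CharP K p]
    (x : K) (hx : x ^ p = x) : ∃ n : ℕ, x = (n : K) := by
  classical
  have hp : p.Prime := Fact.out
  set P : K[X] := X ^ p - X with hP
  have hP0 : P ≠ 0 := FiniteField.X_pow_card_sub_X_ne_zero K hp.one_lt
  have hdeg : P.natDegree = p := FiniteField.X_pow_card_sub_X_natDegree_eq K hp.one_lt
  set S : Finset K := (Finset.range p).image (fun n : ℕ => (n : K)) with hS
  have hScard : S.card = p := by
    rw [hS, Finset.card_image_of_injOn, Finset.card_range]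
    intro a ha b hb hab
    exact CharP.natCast_injOn_Iio K p (by simpa using ha) (by simpa using hb) hab
  have hSsub : S ⊆ P.roots.toFinset := by
    intro y hy
    obtain ⟨n, _, rfl⟩ := Finset.mem_image.mp hy
    rw [Multiset.mem_toFinset, mem_roots hP0, IsRoot, hP, eval_sub, eval_pow, eval_X, sub_eq_zero]
    exact map_natCast (frobenius K p) n
  have hcard : P.roots.toFinset.card ≤ S.card := by
    calc P.roots.toFinset.card ≤ Multiset.card P.roots := Multiset.toFinset_card_le _
      _ ≤ P.natDegree := card_roots' P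
      _ = S.card := by rw [hdeg, hScard]
  have hEq := Finset.eq_of_subset_of_card_le hSsub hcard
  have hxroot : x ∈ P.roots.toFinset := by
    rw [Multiset.mem_toFinset, mem_roots hP0, IsRoot, hP, eval_sub, eval_pow, eval_X, sub_eq_zero]
    exact hx
  rw [← hEq] at hxroot
  obtain ⟨n, _, rfl⟩ := Finset.mem_image.mp hxroot
  exact ⟨n, rfl⟩

universe u

theorem main {k k' V : Type u} [Field k] [IsAlgClosed k] [Field k']
    [IsAlgClosed k'] [Algebra k k'] (p : ℕ) [Fact p.Prime] [CharP k p]
    [AddCommGroup V] [Module k V] [FiniteDimensional k V] (F : V →+ V)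
    (hF : ∀ (c : k) (v : V), F (c • v) = c ^ p • F v)
    (F' : k' ⊗[k] V →+ k' ⊗[k] V) (hF' : ∀ (c : k') (v : V), F' (c ⊗ₜ[k] v) = (c ^ p) ⊗ₜ[k] F v) :
    Set.BijOn (fun v : V => (1 : k') ⊗ₜ[k] v) {v : V | F v = v} {w : k' ⊗[k] V | F' w = w} := by
  have hF1 : ∀ (c : k) (v : V), F (c • v) = c ^ (p ^ 1) • F v := by simpa using hF
  haveI : CharP k' p := charP_of_injective_algebraMap (algebraMap k k').injective p
  have hsm : ∀ (c : k') (y : V), c ⊗ₜ[k] y = c • ((1 : k') ⊗ₜ[k] y) := by
    intro c y
    rw [TensorProduct.smul_tmul', smul_eq_mul, mul_one]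
  refine ⟨?_, ?_, ?_⟩
  · intro v hv
    have hv' : F v = v := hv
    show F' ((1 : k') ⊗ₜ[k] v) = (1 : k') ⊗ₜ[k] v
    rw [hF', one_pow, hv']
  · intro v _ v' _ h
    let e := Module.finBasis k V
    have h' : (1 : k') ⊗ₜ[k] v = (1 : k') ⊗ₜ[k] v' := h
    apply e.repr.injective
    ext i
    have h2 := congrArg (fun x => (e.baseChange k').repr x i) h'
    simp only [Basis.baseChange_repr_tmul] at h2
    rw [Algebra.smul_def, Algebra.smul_def, mul_one, mul_one] at h2
    exact (algebraMap k k').injective h2
  · intro w hw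
    have hw' : F' w = w := hw
    set g := toSemi p 1 F hF1 with hg
    obtain ⟨N, _, hNss, _⟩ := exists_ssPart_eq g
    set W := ssPart g with hW
    set g' := restr g W (fun _ hx => map_mem_ssPart g hx) with hg'
    obtain ⟨b, hb⟩ := exists_basis_fixed g' p 1 one_pos (hσ p 1) (ssPart_semisimple g)
    have hbF : ∀ i, F (b i : V) = (b i : V) := fun i => congrArg Subtype.val (hb i)
    set T : Submodule k' (k' ⊗[k] V) :=
      span k' (Set.range fun i => (1 : k') ⊗ₜ[k] (b i : V)) with hT
    have hWT : ∀ y ∈ W, (1 : k') ⊗ₜ[k] y ∈ T := by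
      intro y hy
      have h1 := congrArg Subtype.val (b.sum_repr ⟨y, hy⟩)
      rw [Submodule.coe_sum] at h1
      simp only [Submodule.coe_smul] at h1
      rw [← h1, TensorProduct.tmul_sum]
      refine Submodule.sum_mem _ (fun i _ => ?_)
      rw [TensorProduct.tmul_smul, ← algebraMap_smul k' (b.repr ⟨y, hy⟩ i)]
      exact Submodule.smul_mem _ _ (subset_span ⟨i, rfl⟩)
    have hiter : ∀ (n : ℕ) (c : k') (v : V), F'^[n] (c ⊗ₜ[k] v) = (c ^ (p ^ n)) ⊗ₜ[k] (F^[n] v) := by
      intro n
      induction n with
      | zero => intro c v; simp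
      | succ n ih =>
        intro c v
        rw [Function.iterate_succ_apply', ih, hF', Function.iterate_succ_apply', ← pow_mul,
          ← pow_succ]
    have hFN : ∀ x : k' ⊗[k] V, F'^[N] x ∈ T := by
      intro x
      induction x using TensorProduct.induction_on with
      | zero => rw [iterate_map_zero]; exact zero_mem _
      | tmul c v =>
        rw [hiter, hsm]
        refine Submodule.smul_mem _ _ (hWT _ ?_)
        rw [hNss]
        exact subset_span ⟨v, rfl⟩
      | add x y hx hy => rw [iterate_map_add]; exact add_mem hx hy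
    have hwT : w ∈ T := by
      have := hFN w
      rwa [Function.iterate_fixed hw' N] at this
    obtain ⟨c, hc⟩ := (mem_span_range_iff_exists_fun k').mp hwT
    -- linear independence
    have hli : LinearIndependent k' (fun i => (1 : k') ⊗ₜ[k] (b i : V)) := by
      have hinj : Function.Injective (LinearMap.baseChange k' W.subtype) := by
        rw [LinearMap.baseChange_eq_ltensor]
        exact Module.Flat.lTensor_preserves_injective_linearMap (M := k') W.subtype
          W.injective_subtype
      have := (b.baseChange k').linearIndependent.map' (LinearMap.baseChange k' W.subtype)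
        (LinearMap.ker_eq_bot.mpr hinj)
      have hfun : (fun i => (1 : k') ⊗ₜ[k] (b i : V)) =
          (LinearMap.baseChange k' W.subtype) ∘ (b.baseChange k') := by
        funext i
        rw [Function.comp_apply, Basis.baseChange_apply, LinearMap.baseChange_tmul]
        rfl
      rw [hfun]
      exact this
    have hFw : F' w = ∑ i, (c i) ^ p • ((1 : k') ⊗ₜ[k] (b i : V)) := by
      rw [← hc, map_sum]
      refine Finset.sum_congr rfl (fun i _ => ?_)
      rw [← hsm, hF', hbF, hsm]
    have hcp : ∀ i, c i ^ p = c i := by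
      have h0 : ∑ i, (c i ^ p - c i) • ((1 : k') ⊗ₜ[k] (b i : V)) = 0 := by
        have e1 : ∑ i, (c i ^ p - c i) • ((1 : k') ⊗ₜ[k] (b i : V)) =
            ∑ i, (c i ^ p • ((1 : k') ⊗ₜ[k] (b i : V)) - c i • ((1 : k') ⊗ₜ[k] (b i : V))) :=
          Finset.sum_congr rfl (fun i _ => sub_smul (R := k') (M := k' ⊗[k] V) _ _ _)
        rw [e1, Finset.sum_sub_distrib, ← hFw, hc, hw', sub_self]
      intro i
      have := Fintype.linearIndependent_iff.mp hli _ h0 i
      exact sub_eq_zero.mp this
    choose n hn using fun i => exists_natCast_of_pow_eq p (c i) (hcp i)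
    refine ⟨∑ i, (n i : k) • (b i : V), ?_, ?_⟩
    · show F (∑ i, (n i : k) • (b i : V)) = ∑ i, (n i : k) • (b i : V)
      rw [map_sum]
      refine Finset.sum_congr rfl (fun i _ => ?_)
      rw [hF, hbF]
      congr 1
      exact map_natCast (frobenius k p) (n i)
    · show (1 : k') ⊗ₜ[k] (∑ i, (n i : k) • (b i : V)) = w
      rw [TensorProduct.tmul_sum, ← hc]
      refine Finset.sum_congr rfl (fun i _ => ?_)
      rw [TensorProduct.tmul_smul, ← algebraMap_smul k' ((n i : k)), map_natCast, hn i]

end Groth.Agent.Helper8.QLinBC
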