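import Groth.Agent.Helper8.QPatchRing

/-! Quillen patching: the colimit cocone in `CommRingCat` and the limit cone in `Scheme`. -/

set_option autoImplicit false
universe u
open CategoryTheory CategoryTheory.Limits AlgebraicGeometry Polynomial Opposite

namespace Groth.Agent.Helper8.QPatchColim
open Groth.Agent.Helper8.QPatchRing

variable {A : Type u} [CommRing A] (s : A) (L : Type u) [CommRing L] [Algebra A L]

instance : IsDirected (ULift.{u} ℕ) (· ≤ ·) :=
  ⟨fun a b => ⟨⟨max a.down b.down⟩, le_max_left a.down b.down, le_max_right a.down b.down⟩⟩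

instance : IsFiltered (ULift.{u} ℕ) := isFiltered_of_directed_le_nonempty _

lemma tau_sub_comp {i j k : ℕ} (hij : i ≤ j) (hjk : j ≤ k) :
    (tau s (k - j)).comp (tau s (j - i)) = tau s (k - i) := by
  rw [tau_comp]
  congr 1
  omega

/-- the diagram `A[X] → A[X] → ⋯` along `X ↦ sX` -/
noncomputable def F : ULift.{u} ℕ ⥤ CommRingCat.{u} where
  obj _ := CommRingCat.of A[X]
  map {i j} _ := CommRingCat.ofHom (tau s (j.down - i.down))
  map_id i := by
    rw [Nat.sub_self, tau_zero]
    rfl
  map_comp {i j k} f g := by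
    have hij : i.down ≤ j.down := (leOfHom f : i ≤ j)
    have hjk : j.down ≤ k.down := (leOfHom g : j ≤ k)
    rw [← CommRingCat.ofHom_comp, tau_sub_comp s hij hjk]

variable [IsLocalization.Away s L]

lemma phi_tau' {i j : ℕ} (h : i ≤ j) (q : A[X]) :
    phi s L j (tau s (j - i) q) = phi s L i q := by
  obtain ⟨m, rfl⟩ := Nat.exists_eq_add_of_le h
  rw [Nat.add_sub_cancel_left]
  exact phi_tau s L i m q

/-- the cocone with point `A ×_L L[X]` -/
noncomputable def cocone : Cocone (F s) where
  pt := CommRingCat.of (Cp (A := A) L)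
  ι :=
    { app := fun i => CommRingCat.ofHom (phi s L i.down)
      naturality := fun i j f => by
        have hij : i.down ≤ j.down := (leOfHom f : i ≤ j)
        ext q
        exact phi_tau' s L hij q }

/-- it is a colimit -/
noncomputable def isColimit : IsColimit (cocone s L) := by
  haveI : ReflectsColimit (F s) (forget CommRingCat.{u}) :=
    reflectsColimit_of_reflectsIsomorphisms _ _
  apply isColimitOfReflects (forget CommRingCat.{u})
  apply Types.FilteredColimit.isColimitOf'
  · intro x
    obtain ⟨n, q, h⟩ := phi_surj s L x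
    exact ⟨⟨n⟩, q, h.symm⟩
  · intro i x y h
    obtain ⟨m, hm⟩ := phi_inj s L i.down x y h
    refine ⟨⟨i.down + m⟩, homOfLE (Nat.le_add_right _ _), ?_⟩
    have : (⟨i.down + m⟩ : ULift.{u} ℕ).down - i.down = m := Nat.add_sub_cancel_left ..
    change tau s ((⟨i.down + m⟩ : ULift.{u} ℕ).down - i.down) x =
      tau s ((⟨i.down + m⟩ : ULift.{u} ℕ).down - i.down) y
    rw [this]
    exact hm

/-- the diagram of schemes -/
noncomputable def D : (ULift.{u} ℕ)ᵒᵖ ⥤ Scheme.{u} := (F s).op ⋙ Scheme.Spec

/-- the cone over it -/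
noncomputable def cone : Cone (D s) := Scheme.Spec.mapCone (cocone s L).op

/-- it is a limit cone -/
noncomputable def isLimit : IsLimit (cone s L) :=
  isLimitOfPreserves Scheme.Spec (isColimit s L).op

lemma D_obj (i : (ULift.{u} ℕ)ᵒᵖ) : (D s).obj i = Spec (CommRingCat.of A[X]) := rfl

lemma D_map {i j : (ULift.{u} ℕ)ᵒᵖ} (f : i ⟶ j) :
    (D s).map f = Spec.map (CommRingCat.ofHom (tau s (i.unop.down - j.unop.down))) := rfl

lemma cone_pt : (cone s L).pt = Spec (CommRingCat.of (Cp (A := A) L)) := rfl

lemma cone_π (i : (ULift.{u} ℕ)ᵒᵖ) :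
    (cone s L).π.app i = Spec.map (CommRingCat.ofHom (phi s L i.unop.down)) := rfl

end Groth.Agent.Helper8.QPatchColim
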