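import Groth.Agent.Helper8.QPatchPts

/-! Quillen patching for group schemes locally of finite presentation: main assembly. -/

set_option autoImplicit false
universe u
open CategoryTheory CategoryTheory.Limits AlgebraicGeometry Polynomial Opposite
open MonoidalCategory CartesianMonoidalCategory MonObj GrpObj

namespace Groth.Agent.Helper8.QPatchMain
open Groth.Agent.Helper8.QPatchRing Groth.Agent.Helper8.QPatchQ1 Groth.Agent.Helper8.QPatchPts

section RingMaps
variable (C' : Type u) [CommRing C']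

/-- `X ↦ 0` -/
noncomputable def cz : C'[X] →+* C'[X] := (C : C' →+* C'[X]).comp (evalRingHom (0 : C'))
/-- `Z ↦ d` -/
noncomputable def spec (d : C') : C'[X][X] →+* C'[X] := evalRingHom (C d : C'[X])
/-- `X ↦ dX` -/
noncomputable def scl (d : C') : C'[X] →+* C'[X] := eval₂RingHom C (C d * X)
/-- `X ↦ (1 - Z) X` -/
noncomputable def mu : C'[X] →+* C'[X][X] :=
  eval₂RingHom ((C : C'[X] →+* C'[X][X]).comp C) ((1 - X) * C X)
/-- `X ↦ Z X` -/
noncomputable def nu : C'[X] →+* C'[X][X] :=
  eval₂RingHom ((C : C'[X] →+* C'[X][X]).comp C) (X * C X)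

variable {C'}

lemma ev0_comp_cz : (evalRingHom (0 : C')).comp (cz C') = evalRingHom (0 : C') := by
  refine Polynomial.ringHom_ext (fun a => by simp [cz]) (by simp [cz])

lemma spec_comp_C (d : C') : (spec C' d).comp (C : C'[X] →+* C'[X][X]) = RingHom.id _ := by
  ext <;> simp [spec]

lemma spec_comp_mu (d : C') : (spec C' d).comp (mu C') = scl C' (1 - d) := by
  refine Polynomial.ringHom_ext (fun a => by simp [spec, mu, scl]) (by simp [spec, mu, scl])

lemma spec_comp_nu (d : C') : (spec C' d).comp (nu C') = scl C' d := by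
  refine Polynomial.ringHom_ext (fun a => by simp [spec, nu, scl]) (by simp [spec, nu, scl])

lemma cz_comp_scl (d : C') : (cz C').comp (scl C' d) = cz C' := by
  refine Polynomial.ringHom_ext (fun a => by simp [cz, scl]) (by simp [cz, scl])

lemma ev0_comp_C : (evalRingHom (0 : C'[X])).comp (C : C'[X] →+* C'[X][X]) = RingHom.id _ := by
  ext <;> simp

lemma ev0_comp_mu : (evalRingHom (0 : C'[X])).comp (mu C') = RingHom.id _ := by
  refine Polynomial.ringHom_ext (fun a => by simp [mu]) (by simp [mu])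

lemma ev0_comp_nu : (evalRingHom (0 : C'[X])).comp (nu C') = cz C' := by
  refine Polynomial.ringHom_ext (fun a => by simp [nu, cz]) (by simp [nu, cz])

lemma map_comp_cz {A B : Type u} [CommRing A] [CommRing B] (f : A →+* B) :
    (mapRingHom f).comp (cz A) = (cz B).comp (mapRingHom f) := by
  refine Polynomial.ringHom_ext (fun a => by simp [cz]) (by simp [cz])

lemma map_comp_spec {A B : Type u} [CommRing A] [CommRing B] (f : A →+* B) (d : A) :
    (mapRingHom f).comp (spec A d) = (spec B (f d)).comp (mapRingHom (mapRingHom f)) := by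
  refine Polynomial.ringHom_ext (fun a => by simp [spec]) (by simp [spec])

lemma spec_comp_scl (d e : C') :
    (spec C' d).comp (eval₂RingHom (C : C'[X] →+* C'[X][X]) (C (C e) * X)) = spec C' (e * d) := by
  refine Polynomial.ringHom_ext (fun a => by simp [spec]) (by simp [spec])

end RingMaps

section Morphisms

variable {R : Type u} [CommRing R] (C' : Type u) [CommRing C'] [Algebra R C']

/-- `X ↦ 0`, `Spec C' → Spec C'[X]` -/
noncomputable def eP : pt R C' ⟶ pt R C'[X] :=
  pmr (R := R) (evalRingHom (0 : C')) (fun r => by simp [Polynomial.algebraMap_apply])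

/-- `X ↦ 0` as an endomorphism of `Spec C'[X]` -/
noncomputable def czP : pt R C'[X] ⟶ pt R C'[X] :=
  pmr (R := R) (cz C') (fun r => by simp [cz, Polynomial.algebraMap_apply])

/-- `Z ↦ d` -/
noncomputable def specP (d : C') : pt R C'[X] ⟶ pt R C'[X][X] :=
  pmr (R := R) (spec C' d) (fun r => by simp [spec, Polynomial.algebraMap_apply])

/-- `X ↦ dX` -/
noncomputable def sclP (d : C') : pt R C'[X] ⟶ pt R C'[X] :=
  pmr (R := R) (scl C' d) (fun r => by simp [scl, Polynomial.algebraMap_apply])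

/-- constants in `Z` -/
noncomputable def incP : pt R C'[X][X] ⟶ pt R C'[X] :=
  pmr (R := R) (C : C'[X] →+* C'[X][X]) (fun r => by simp [Polynomial.algebraMap_apply])

/-- `X ↦ (1 - Z) X` -/
noncomputable def muP : pt R C'[X][X] ⟶ pt R C'[X] :=
  pmr (R := R) (mu C') (fun r => by simp [mu, Polynomial.algebraMap_apply])

/-- `X ↦ Z X` -/
noncomputable def nuP : pt R C'[X][X] ⟶ pt R C'[X] :=
  pmr (R := R) (nu C') (fun r => by simp [nu, Polynomial.algebraMap_apply])

/-- the structure map `Spec C'[X] → Spec C'` -/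
noncomputable def piP : pt R C'[X] ⟶ pt R C' :=
  pmr (R := R) (C : C' →+* C'[X]) (fun r => by simp [Polynomial.algebraMap_apply])

variable (A B : Type u) [CommRing A] [CommRing B] [Algebra R A] [Algebra R B] [Algebra A B]
  [IsScalarTower R A B]

/-- coefficientwise `A → B` -/
noncomputable def mapP : pt R B[X] ⟶ pt R A[X] :=
  pmr (R := R) (mapRingHom (algebraMap A B)) (fun r => by
    simp [Polynomial.algebraMap_apply, ← IsScalarTower.algebraMap_apply])

lemma pmr_comp_eq {C₁ C₂ C₃ C₄ : Type u} [CommRing C₁] [CommRing C₂] [CommRing C₃] [CommRing C₄]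
    [Algebra R C₁] [Algebra R C₂] [Algebra R C₃] [Algebra R C₄]
    (φ₁ : C₁ →+* C₂) (hφ₁) (ψ₁ : C₂ →+* C₄) (hψ₁) (φ₂ : C₁ →+* C₃) (hφ₂) (ψ₂ : C₃ →+* C₄) (hψ₂)
    (h : ψ₁.comp φ₁ = ψ₂.comp φ₂) :
    pmr (R := R) ψ₁ hψ₁ ≫ pmr (R := R) φ₁ hφ₁ = pmr (R := R) ψ₂ hψ₂ ≫ pmr (R := R) φ₂ hφ₂ := by
  apply Over.OverMorphism.ext
  rw [Over.comp_left, Over.comp_left, pmr_left, pmr_left, pmr_left, pmr_left, ← Spec.map_comp,
    ← Spec.map_comp, ← CommRingCat.ofHom_comp, ← CommRingCat.ofHom_comp, h]

end Morphisms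

section Half

variable {R : Type u} [CommRing R] (G : Over (Spec (CommRingCat.of R))) [GrpObj G]
  [LocallyOfFinitePresentation G.hom]
  (A B : Type u) [CommRing A] [CommRing B] [Algebra R A] [Algebra R B] [Algebra A B]
  [IsScalarTower R A B] (s₀ : R) [IsLocalization.Away (algebraMap R A s₀) B]

theorem half (w : pt R B[X][X] ⟶ G) (hw : eP (R := R) B[X] ≫ w = 1) :
    ∃ N : ℕ, ∀ c : R, ∃ g₁ : pt R A[X] ⟶ G, eP (R := R) A ≫ g₁ = 1 ∧
      mapP (R := R) A B ≫ g₁ =
        (specP (R := R) B (algebraMap R B (s₀ ^ N * c)) ≫ w) *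
          (czP (R := R) B ≫ specP (R := R) B (algebraMap R B (s₀ ^ N * c)) ≫ w)⁻¹ := by
  letI : Algebra A[X] B[X] := Polynomial.algebra A B
  have hdef : algebraMap A[X] B[X] = mapRingHom (algebraMap A B) := rfl
  haveI : IsScalarTower R A[X] B[X] := IsScalarTower.of_algebraMap_eq (fun r => by
    rw [Polynomial.algebraMap_apply, Polynomial.algebraMap_apply, hdef, coe_mapRingHom, map_C,
      ← IsScalarTower.algebraMap_apply])
  haveI : IsLocalization.Away (C (algebraMap R A s₀) : A[X]) B[X] :=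
    away_polynomial (algebraMap R A s₀) B
  obtain ⟨N, k, hk⟩ := Q1' (R := R) G (C (algebraMap R A s₀) : A[X]) B[X] w (eP (R := R) B[X])
    rfl hw
  have hPsi : ∀ r, (Psi (A := A[X]) B[X]) (algebraMap R A[X][X] r) = algebraMap R B[X][X] r := by
    intro r
    simp [Psi, hdef, Polynomial.algebraMap_apply, ← IsScalarTower.algebraMap_apply]
  have hscl : ∀ r, (sclL (C (algebraMap R A s₀) : A[X]) B[X] N) (algebraMap R B[X][X] r) =
      algebraMap R B[X][X] r := by
    intro r
    simp [Polynomial.algebraMap_apply]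
  have hk' : pmr (R := R) (Psi (A := A[X]) B[X]) hPsi ≫ k =
      pmr (R := R) (sclL (C (algebraMap R A s₀) : A[X]) B[X] N) hscl ≫ w :=
    Over.OverMorphism.ext hk
  refine ⟨N, fun c => ?_⟩
  refine ⟨(specP (R := R) A (algebraMap R A c) ≫ k) *
    (czP (R := R) A ≫ specP (R := R) A (algebraMap R A c) ≫ k)⁻¹, ?_, ?_⟩
  · have h1 : eP (R := R) A ≫ czP (R := R) A = eP (R := R) A := by
      apply pmr_comp
      exact ev0_comp_cz
    rw [MonObj.comp_mul, GrpObj.comp_inv, ← Category.assoc (eP (R := R) A) (czP (R := R) A), h1,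
      mul_inv_cancel]
  · have h1 : mapP (R := R) A B ≫ specP (R := R) A (algebraMap R A c) ≫ k =
        specP (R := R) B (algebraMap R B (s₀ ^ N * c)) ≫ w := by
      have e1 : mapP (R := R) A B ≫ specP (R := R) A (algebraMap R A c) =
          specP (R := R) B (algebraMap R B c) ≫ pmr (R := R) (Psi (A := A[X]) B[X]) hPsi := by
        apply pmr_comp_eq
        rw [map_comp_spec, ← IsScalarTower.algebraMap_apply]
        rfl
      have e2 : specP (R := R) B (algebraMap R B c) ≫
          pmr (R := R) (sclL (C (algebraMap R A s₀) : A[X]) B[X] N) hscl =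
          specP (R := R) B (algebraMap R B (s₀ ^ N * c)) := by
        apply pmr_comp
        have : (sclL (C (algebraMap R A s₀) : A[X]) B[X] N) =
            eval₂RingHom (C : B[X] →+* B[X][X]) (C (C (algebraMap R B (s₀ ^ N))) * X) := by
          unfold sclL
          congr 3
          rw [hdef, coe_mapRingHom, map_C, ← IsScalarTower.algebraMap_apply, ← C_pow, ← map_pow]
        rw [this, spec_comp_scl, ← map_mul]
      rw [← Category.assoc, e1, Category.assoc, hk', ← Category.assoc, e2]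
    have h2 : mapP (R := R) A B ≫ czP (R := R) A = czP (R := R) B ≫ mapP (R := R) A B := by
      apply pmr_comp_eq
      exact map_comp_cz _
    rw [MonObj.comp_mul, GrpObj.comp_inv, h1,
      ← Category.assoc (mapP (R := R) A B) (czP (R := R) A), h2, Category.assoc, h1]

end Half

section Main

theorem main
    (R : Type u) [CommRing R]
    (G : Over (Spec (CommRingCat.of R))) [GrpObj G] [LocallyOfFinitePresentation G.hom]
    (r r' : R) (hrr : Ideal.span ({r, r'} : Set R) = ⊤)
    (A A' B : Type u) [CommRing A] [CommRing A'] [CommRing B] [Algebra R A] [Algebra R A'] [Algebra R B]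
    [IsLocalization.Away r A] [IsLocalization.Away r' A'] [IsLocalization.Away (r * r') B]
    [Algebra A B] [Algebra A' B] [IsScalarTower R A B] [IsScalarTower R A' B]
    (eA : pt R A ⟶ pt R A[X])
    (heA : eA.left = Spec.map (CommRingCat.ofHom (Polynomial.evalRingHom (0 : A))))
    (eA' : pt R A' ⟶ pt R A'[X])
    (heA' : eA'.left = Spec.map (CommRingCat.ofHom (Polynomial.evalRingHom (0 : A'))))
    (eB : pt R B ⟶ pt R B[X])
    (heB : eB.left = Spec.map (CommRingCat.ofHom (Polynomial.evalRingHom (0 : B))))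
    (tA : pt R B[X] ⟶ pt R A[X])
    (htA : tA.left = Spec.map (CommRingCat.ofHom (Polynomial.mapRingHom (algebraMap A B))))
    (tA' : pt R B[X] ⟶ pt R A'[X])
    (htA' : tA'.left = Spec.map (CommRingCat.ofHom (Polynomial.mapRingHom (algebraMap A' B))))
    (g : pt R B[X] ⟶ G) (hg : eB ≫ g = 1) :
    ∃ (g₁ : pt R A[X] ⟶ G) (g₂ : pt R A'[X] ⟶ G),
      eA ≫ g₁ = 1 ∧ eA' ≫ g₂ = 1 ∧ g = (tA ≫ g₁) * (tA' ≫ g₂) := by
  obtain rfl : eA = eP (R := R) A := Over.OverMorphism.ext heA
  obtain rfl : eA' = eP (R := R) A' := Over.OverMorphism.ext heA'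
  obtain rfl : eB = eP (R := R) B := Over.OverMorphism.ext heB
  obtain rfl : tA = mapP (R := R) A B := Over.OverMorphism.ext htA
  obtain rfl : tA' = mapP (R := R) A' B := Over.OverMorphism.ext htA'
  haveI : IsLocalization.Away (algebraMap R A r') B := away_of_away_mul r r' A B
  haveI : IsLocalization.Away (algebraMap R A' r) B := by
    haveI : IsLocalization.Away (r' * r) B := by rw [mul_comm]; infer_instance
    exact away_of_away_mul r' r A' B
  -- `X ↦ 0` kills `g`
  have hcz : czP (R := R) B ≫ g = 1 := by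
    have : czP (R := R) B = piP (R := R) B ≫ eP (R := R) B := by
      symm
      apply pmr_comp
      rfl
    rw [this, Category.assoc, hg, MonObj.comp_one]
  -- the two elements over `B[X][Z]`
  have hu : eP (R := R) B[X] ≫ ((incP (R := R) B ≫ g) * (muP (R := R) B ≫ g)⁻¹) = 1 := by
    have h1 : eP (R := R) B[X] ≫ incP (R := R) B = 𝟙 _ := by
      rw [eP, incP, pmr_comp _ _ _ _ (RingHom.id _) (fun _ => rfl) ev0_comp_C]
      exact pmr_eq_id _ _ rfl
    have h2 : eP (R := R) B[X] ≫ muP (R := R) B = 𝟙 _ := by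
      rw [eP, muP, pmr_comp _ _ _ _ (RingHom.id _) (fun _ => rfl) ev0_comp_mu]
      exact pmr_eq_id _ _ rfl
    rw [MonObj.comp_mul, GrpObj.comp_inv, ← Category.assoc, ← Category.assoc, h1, h2,
      Category.id_comp, mul_inv_cancel]
  have hv : eP (R := R) B[X] ≫ (nuP (R := R) B ≫ g) = 1 := by
    have h1 : eP (R := R) B[X] ≫ nuP (R := R) B = czP (R := R) B := by
      apply pmr_comp
      exact ev0_comp_nu
    rw [← Category.assoc, h1, hcz]
  obtain ⟨N₁, H₁⟩ := half (R := R) G A B r' _ hu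
  obtain ⟨N₂, H₂⟩ := half (R := R) G A' B r _ hv
  obtain ⟨α, β, hαβ⟩ : ∃ α β : R, α * r ^ N₂ + β * r' ^ N₁ = 1 := by
    have h1 : (1 : R) ∈ Ideal.span ({r, r'} : Set R) := by rw [hrr]; trivial
    obtain ⟨a, b, hab⟩ := Ideal.mem_span_pair.1 h1
    have hc : IsCoprime r r' := ⟨a, b, hab⟩
    exact (hc.pow : IsCoprime (r ^ N₂) (r' ^ N₁))
  obtain ⟨g₁, hg₁, hg₁'⟩ := H₁ β
  obtain ⟨g₂, hg₂, hg₂'⟩ := H₂ α
  refine ⟨g₁, g₂, hg₁, hg₂, ?_⟩
  rw [hg₁', hg₂']
  -- abbreviations
  have hd : (1 : B) - algebraMap R B (r' ^ N₁ * β) = algebraMap R B (r ^ N₂ * α) := by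
    rw [← map_one (algebraMap R B), ← map_sub]
    congr 1
    rw [← hαβ]; ring
  have e1 : ∀ d : B, specP (R := R) B d ≫ incP (R := R) B = 𝟙 _ := fun d => by
    rw [specP, incP, pmr_comp _ _ _ _ (RingHom.id _) (fun _ => rfl) (spec_comp_C d)]
    exact pmr_eq_id _ _ rfl
  have e2 : ∀ d : B, specP (R := R) B d ≫ muP (R := R) B = sclP (R := R) B (1 - d) := fun d => by
    apply pmr_comp
    exact spec_comp_mu d
  have e3 : ∀ d : B, specP (R := R) B d ≫ nuP (R := R) B = sclP (R := R) B d := fun d => by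
    apply pmr_comp
    exact spec_comp_nu d
  have e4 : ∀ d : B, czP (R := R) B ≫ sclP (R := R) B d = czP (R := R) B := fun d => by
    apply pmr_comp
    exact cz_comp_scl d
  have f1 : specP (R := R) B (algebraMap R B (r' ^ N₁ * β)) ≫
      ((incP (R := R) B ≫ g) * (muP (R := R) B ≫ g)⁻¹) =
      g * (sclP (R := R) B (algebraMap R B (r ^ N₂ * α)) ≫ g)⁻¹ := by
    rw [MonObj.comp_mul, GrpObj.comp_inv, ← Category.assoc, ← Category.assoc, e1, e2,
      Category.id_comp, hd]
  have f2 : specP (R := R) B (algebraMap R B (r ^ N₂ * α)) ≫ (nuP (R := R) B ≫ g) =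
      sclP (R := R) B (algebraMap R B (r ^ N₂ * α)) ≫ g := by
    rw [← Category.assoc, e3]
  have f3 : czP (R := R) B ≫ (sclP (R := R) B (algebraMap R B (r ^ N₂ * α)) ≫ g) = 1 := by
    rw [← Category.assoc, e4, hcz]
  rw [f1, f2, MonObj.comp_mul, GrpObj.comp_inv, f3, hcz]
  group

end Main

end Groth.Agent.Helper8.QPatchMain
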