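import Groth.Agent.Helper8.QPatchQ1

/-! Quillen patching: functor of points conveniences, localization lemma and Q1 for group points. -/

set_option autoImplicit false
universe u
open CategoryTheory CategoryTheory.Limits AlgebraicGeometry Polynomial Opposite
open MonoidalCategory CartesianMonoidalCategory MonObj GrpObj

namespace Groth.Agent.Helper8.QPatchPts
open Groth.Agent.Helper8.QPatchRing Groth.Agent.Helper8.QPatchQ1

section Loc

/-- `B = R[1/(r r')]` is the localization of `A = R[1/r]` away from `r'` -/
theorem away_of_away_mul {R : Type u} [CommRing R] (r r' : R) (A B : Type u) [CommRing A]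
    [CommRing B] [Algebra R A] [Algebra R B] [Algebra A B] [IsScalarTower R A B]
    [IsLocalization.Away r A] [IsLocalization.Away (r * r') B] :
    IsLocalization.Away (algebraMap R A r') B := by
  let T := Localization.Away (algebraMap R A r')
  haveI : IsLocalization.Away (r * r') T := inferInstance
  let e₀ : T ≃ₐ[R] B := IsLocalization.algEquiv (Submonoid.powers (r * r')) T B
  have hcomm : ∀ a : A, e₀ (algebraMap A T a) = algebraMap A B a := by
    intro a
    have : (e₀ : T →+* B).comp (algebraMap A T) = algebraMap A B := by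
      apply IsLocalization.ringHom_ext (Submonoid.powers r)
      ext x
      simp only [RingHom.comp_apply, RingHom.coe_coe]
      rw [← IsScalarTower.algebraMap_apply, ← IsScalarTower.algebraMap_apply, e₀.commutes]
    exact congrArg (fun f => f a) this
  let e : T ≃ₐ[A] B := AlgEquiv.ofRingEquiv (f := e₀.toRingEquiv) hcomm
  exact IsLocalization.isLocalization_of_algEquiv (Submonoid.powers (algebraMap R A r')) e

end Loc

section PolyLoc
attribute [local instance] Polynomial.algebra

variable {A : Type u} [CommRing A] (s : A) (B : Type u) [CommRing B] [Algebra A B]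
  [IsLocalization.Away s B]

theorem away_polynomial : IsLocalization.Away (C s : A[X]) B[X] := by
  have := Polynomial.isLocalization (Submonoid.powers s) B
  rw [Submonoid.map_powers] at this
  exact this

end PolyLoc

variable {R : Type u} [CommRing R]

/-- the `R`-scheme `Spec C` -/
noncomputable abbrev pt (R : Type u) [CommRing R] (C : Type u) [CommRing C] [Algebra R C] :
    Over (Spec (CommRingCat.of R)) :=
  Over.mk (Spec.map (CommRingCat.ofHom (algebraMap R C)))

section pmr
variable {C C' C'' : Type u} [CommRing C] [CommRing C'] [CommRing C''] [Algebra R C] [Algebra R C']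
  [Algebra R C'']

/-- the morphism of `R`-schemes attached to a ring hom compatible with the `R`-structures -/
noncomputable def pmr (φ : C →+* C') (hφ : ∀ r, φ (algebraMap R C r) = algebraMap R C' r) :
    pt R C' ⟶ pt R C :=
  Over.homMk (Spec.map (CommRingCat.ofHom φ)) (by
    dsimp
    rw [← Spec.map_comp, ← CommRingCat.ofHom_comp]
    congr 2
    exact RingHom.ext hφ)

@[simp] lemma pmr_left (φ : C →+* C') (hφ) : (pmr (R := R) φ hφ).left = Spec.map (CommRingCat.ofHom φ) := rfl

lemma eq_pmr (e : pt R C' ⟶ pt R C) (φ : C →+* C') (hφ)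
    (he : e.left = Spec.map (CommRingCat.ofHom φ)) : e = pmr (R := R) φ hφ :=
  Over.OverMorphism.ext he

lemma pmr_congr {φ φ' : C →+* C'} (h : φ = φ') (hφ hφ') : pmr (R := R) φ hφ = pmr (R := R) φ' hφ' := by
  subst h; rfl

lemma pmr_comp (φ : C →+* C') (hφ) (ψ : C' →+* C'') (hψ) (χ : C →+* C'') (hχ)
    (h : ψ.comp φ = χ) :
    pmr (R := R) ψ hψ ≫ pmr (R := R) φ hφ = pmr (R := R) χ hχ := by
  apply Over.OverMorphism.ext
  rw [Over.comp_left, pmr_left, pmr_left, pmr_left, ← Spec.map_comp, ← CommRingCat.ofHom_comp, h]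

lemma pmr_eq_id (φ : C →+* C) (hφ) (h : φ = RingHom.id C) : pmr (R := R) φ hφ = 𝟙 _ := by
  apply Over.OverMorphism.ext
  rw [pmr_left, h]
  exact Spec.map_id _

end pmr

section Q1'

variable (G : Over (Spec (CommRingCat.of R))) [GrpObj G] [LocallyOfFinitePresentation G.hom]
  {A : Type u} [CommRing A] (s : A) (L : Type u) [CommRing L] [Algebra A L]
  [IsLocalization.Away s L] [Algebra R A] [Algebra R L] [IsScalarTower R A L]

theorem Q1' (h : pt R L[X] ⟶ G) (e : pt R L ⟶ pt R L[X])
    (he : e.left = Spec.map (CommRingCat.ofHom (evalRingHom (0 : L)))) (h0 : e ≫ h = 1) :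
    ∃ (N : ℕ) (k : pt R A[X] ⟶ G),
      Spec.map (CommRingCat.ofHom (Psi (A := A) L)) ≫ k.left =
        Spec.map (CommRingCat.ofHom (sclL s L N)) ≫ h.left := by
  let w : pt R L ⟶ pt R A := pmr (R := R) (algebraMap A L)
    (fun r => (IsScalarTower.algebraMap_apply R A L r).symm)
  have hcompat : Spec.map (CommRingCat.ofHom (evalRingHom (0 : L))) ≫ h.left =
      Spec.map (CommRingCat.ofHom (algebraMap A L)) ≫ (1 : pt R A ⟶ G).left := by
    have h1 : (e ≫ h).left = (w ≫ (1 : pt R A ⟶ G)).left := by
      rw [h0, MonObj.comp_one]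
    rw [Over.comp_left, Over.comp_left, he] at h1
    exact h1
  obtain ⟨N, k₀, hk, hk'⟩ := Q1 (R := R) G.hom s L h.left (Over.w h) (1 : pt R A ⟶ G).left
    (Over.w (1 : pt R A ⟶ G)) hcompat
  exact ⟨N, Over.homMk k₀ hk, hk'⟩

end Q1'

end Groth.Agent.Helper8.QPatchPts
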