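import Groth.Agent.Helper8.QPatchColim
import Groth.Agent.Lead.SchPushoutF

/-! Quillen patching: the key lemma Q1 at the level of schemes. -/

set_option autoImplicit false
universe u
open CategoryTheory CategoryTheory.Limits AlgebraicGeometry Polynomial Opposite

namespace Groth.Agent.Helper8.QPatchQ1
open Groth.Agent.Helper8.QPatchRing Groth.Agent.Helper8.QPatchColim

variable {R : Type u} [CommRing R] {Y : Scheme.{u}} (f : Y ⟶ Spec (CommRingCat.of R))
  [LocallyOfFinitePresentation f]
  {A : Type u} [CommRing A] (s : A) (L : Type u) [CommRing L] [Algebra A L]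
  [IsLocalization.Away s L] [Algebra R A] [Algebra R L] [IsScalarTower R A L]

/-- the structure map `R → A ×_L L[X]` -/
noncomputable def rho : R →+* Cp (A := A) L :=
  ((algebraMap R A).prod (algebraMap R L[X])).codRestrict (Cp (A := A) L) (fun r => by
    rw [mem_Cp]
    change algebraMap A L (algebraMap R A r) = (algebraMap R L[X] r).eval 0
    rw [Polynomial.algebraMap_apply, eval_C, ← IsScalarTower.algebraMap_apply])

lemma pi1_rho (r : R) : pi1 L (rho (R := R) (A := A) L r) = algebraMap R A r := rfl
lemma pi2_rho (r : R) : pi2 L (rho (R := R) (A := A) L r) = algebraMap R L[X] r := rfl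

lemma phi_algebraMap (n : ℕ) (r : R) :
    phi s L n (algebraMap R A[X] r) = rho (R := R) (A := A) L r := by
  apply pi_ext
  · rw [pi1_phi, pi1_rho, Polynomial.algebraMap_apply, eval_C]
  · rw [pi2_phi, pi2_rho, Polynomial.algebraMap_apply, Phi_C, Polynomial.algebraMap_apply,
      ← IsScalarTower.algebraMap_apply]

lemma tau_algebraMap (n : ℕ) (r : R) : tau s n (algebraMap R A[X] r) = algebraMap R A[X] r := by
  rw [Polynomial.algebraMap_apply, tau_C]

/-- the structure transformation of the diagram -/
noncomputable def t : D s ⟶ (Functor.const _).obj (Spec (CommRingCat.of R)) where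
  app _ := Spec.map (CommRingCat.ofHom (algebraMap R A[X]))
  naturality i j g := by
    have e : Spec.map (CommRingCat.ofHom (tau s (i.unop.down - j.unop.down))) ≫
        Spec.map (CommRingCat.ofHom (algebraMap R A[X])) =
        Spec.map (CommRingCat.ofHom (algebraMap R A[X])) := by
      rw [← Spec.map_comp, ← CommRingCat.ofHom_comp]
      congr 2
      exact RingHom.ext (fun r => tau_algebraMap s _ r)
    exact e.trans (Category.comp_id _).symm

include f in
theorem Q1
    (h : Spec (CommRingCat.of L[X]) ⟶ Y)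
    (hh : h ≫ f = Spec.map (CommRingCat.ofHom (algebraMap R L[X])))
    (v : Spec (CommRingCat.of A) ⟶ Y)
    (hv : v ≫ f = Spec.map (CommRingCat.ofHom (algebraMap R A)))
    (hcompat : Spec.map (CommRingCat.ofHom (evalRingHom (0 : L))) ≫ h =
      Spec.map (CommRingCat.ofHom (algebraMap A L)) ≫ v) :
    ∃ (N : ℕ) (k : Spec (CommRingCat.of A[X]) ⟶ Y),
      k ≫ f = Spec.map (CommRingCat.ofHom (algebraMap R A[X])) ∧
      Spec.map (CommRingCat.ofHom (Psi (A := A) L)) ≫ k =
        Spec.map (CommRingCat.ofHom (sclL s L N)) ≫ h := by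
  -- the pushout square
  have hpo : IsPushout (Spec.map (CommRingCat.ofHom (evalRingHom (0 : L))))
      (Spec.map (CommRingCat.ofHom (algebraMap A L)))
      (Spec.map (CommRingCat.ofHom (pi2 (A := A) L)))
      (Spec.map (CommRingCat.ofHom (pi1 (A := A) L))) := by
    apply Groth.Agent.Lead.SchPushout.spec_isPushout
    · ext c
      exact pi_comm L c
    · intro x y h1 h2
      exact pi_ext L h1 h2
    · intro b a' hba
      exact ⟨⟨(b, a'), hba⟩, rfl, rfl⟩
    · intro l
      exact ⟨C l, eval_C⟩
  let a : Spec (CommRingCat.of (Cp (A := A) L)) ⟶ Y := hpo.desc h v hcompat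
  have ha1 : Spec.map (CommRingCat.ofHom (pi2 (A := A) L)) ≫ a = h := hpo.inl_desc _ _ _
  have ha2 : Spec.map (CommRingCat.ofHom (pi1 (A := A) L)) ≫ a = v := hpo.inr_desc _ _ _
  have haf : a ≫ f = Spec.map (CommRingCat.ofHom (rho (R := R) (A := A) L)) := by
    apply hpo.hom_ext
    · rw [reassoc_of% ha1, hh, ← Spec.map_comp, ← CommRingCat.ofHom_comp]
      rfl
    · rw [reassoc_of% ha2, hv, ← Spec.map_comp, ← CommRingCat.ofHom_comp]
      rfl
  haveI : ∀ {i j : (ULift.{u} ℕ)ᵒᵖ} (g : i ⟶ j), IsAffineHom ((D s).map g) := fun {i j} g => by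
    show IsAffineHom (Spec.map (CommRingCat.ofHom (tau s (i.unop.down - j.unop.down))))
    infer_instance
  haveI : ∀ i, CompactSpace ((D s).obj i) := fun i => by
    show CompactSpace (Spec (CommRingCat.of A[X]))
    infer_instance
  haveI : ∀ i, QuasiSeparatedSpace ((D s).obj i) := fun i => by
    show QuasiSeparatedSpace (Spec (CommRingCat.of A[X]))
    infer_instance
  have ha : (cone s L).π ≫ t (R := R) s = (Functor.const _).map (a ≫ f) := by
    ext i : 2
    have e : Spec.map (CommRingCat.ofHom (phi s L i.unop.down)) ≫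
        Spec.map (CommRingCat.ofHom (algebraMap R A[X])) =
        Spec.map (CommRingCat.ofHom (rho (R := R) (A := A) L)) := by
      rw [← Spec.map_comp, ← CommRingCat.ofHom_comp]
      congr 2
      exact RingHom.ext (fun r => phi_algebraMap s L _ r)
    exact e.trans haf.symm
  obtain ⟨i, k₀, hk1, hk2⟩ := Scheme.exists_π_app_comp_eq_of_locallyOfFinitePresentation
    (D s) (t (R := R) s) f (cone s L) (isLimit s L) a ha
  have hk1' : Spec.map (CommRingCat.ofHom (phi s L i.unop.down)) ≫
      (show Spec (CommRingCat.of A[X]) ⟶ Y from k₀) = a := hk1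
  refine ⟨i.unop.down, k₀, hk2, ?_⟩
  have e : Spec.map (CommRingCat.ofHom (sclL s L i.unop.down)) ≫
      Spec.map (CommRingCat.ofHom (pi2 (A := A) L)) ≫
      Spec.map (CommRingCat.ofHom (phi s L i.unop.down)) =
      Spec.map (CommRingCat.ofHom (Psi (A := A) L)) := by
    rw [← Spec.map_comp, ← Spec.map_comp, ← CommRingCat.ofHom_comp, ← CommRingCat.ofHom_comp,
      ← sclL_comp_Phi s L i.unop.down]
    rfl
  change Spec.map (CommRingCat.ofHom (Psi (A := A) L)) ≫
      (show Spec (CommRingCat.of A[X]) ⟶ Y from k₀) = _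
  rw [← e, ← ha1, ← hk1']
  simp only [Category.assoc]

end Groth.Agent.Helper8.QPatchQ1
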