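import Mathlib

/-! Quillen patching, ring-level part: `A[X]` along `X ↦ sX` has colimit `A ×_L L[X]`
(`L = A[1/s]`). -/

set_option autoImplicit false
universe u
open Polynomial

namespace Groth.Agent.Helper8.QPatchRing

variable {A : Type u} [CommRing A] (s : A) (L : Type u) [CommRing L] [Algebra A L]

/-- `X ↦ s^n X` -/
noncomputable def tau (n : ℕ) : A[X] →+* A[X] := eval₂RingHom C (C (s ^ n) * X)

@[simp] lemma tau_C (n : ℕ) (a : A) : tau s n (C a) = C a := by simp [tau]
@[simp] lemma tau_X (n : ℕ) : tau s n X = C (s ^ n) * X := by simp [tau]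

lemma tau_zero : tau s 0 = RingHom.id _ := by
  ext <;> simp [tau]

lemma tau_comp (m n : ℕ) : (tau s m).comp (tau s n) = tau s (n + m) := by
  refine Polynomial.ringHom_ext (fun a => by simp) ?_
  simp only [RingHom.comp_apply, tau_X, map_mul, tau_C, pow_add]
  rw [mul_assoc]

lemma tau_tau (m n : ℕ) (q : A[X]) : tau s m (tau s n q) = tau s (n + m) q := by
  rw [← tau_comp]; rfl

/-- coefficients to `L` -/
noncomputable def Psi : A[X] →+* L[X] := mapRingHom (algebraMap A L)

@[simp] lemma Psi_C (a : A) : Psi L (C a) = C (algebraMap A L a) := by simp [Psi]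
@[simp] lemma Psi_X : Psi (A := A) L X = X := by simp [Psi]

variable [IsLocalization.Away s L]

/-- the inverse of `s` in `L` -/
noncomputable def inv : L := IsLocalization.Away.invSelf (S := L) s

lemma s_mul_inv : algebraMap A L s * inv s L = 1 := IsLocalization.Away.mul_invSelf s

lemma inv_mul_s : inv s L * algebraMap A L s = 1 := by rw [mul_comm]; exact s_mul_inv s L

lemma inv_pow_mul (n : ℕ) : inv s L ^ n * algebraMap A L s ^ n = 1 := by
  rw [← mul_pow, inv_mul_s, one_pow]

/-- `q ↦ q(X / s^n)` with coefficients in `L` -/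
noncomputable def Phi (n : ℕ) : A[X] →+* L[X] :=
  eval₂RingHom (C.comp (algebraMap A L)) (C (inv s L ^ n) * X)

@[simp] lemma Phi_C (n : ℕ) (a : A) : Phi s L n (C a) = C (algebraMap A L a) := by simp [Phi]
@[simp] lemma Phi_X (n : ℕ) : Phi s L n X = C (inv s L ^ n) * X := by simp [Phi]

lemma Phi_zero : Phi s L 0 = Psi L := by
  ext <;> simp

/-- `X ↦ s^n X` on `L[X]` -/
noncomputable def sclL (n : ℕ) : L[X] →+* L[X] := eval₂RingHom C (C (algebraMap A L s ^ n) * X)

@[simp] lemma sclL_C (n : ℕ) (a : L) : sclL s L n (C a) = C a := by simp [sclL]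
@[simp] lemma sclL_X (n : ℕ) : sclL s L n X = C (algebraMap A L s ^ n) * X := by simp [sclL]

lemma sclL_comp_Phi (n : ℕ) : (sclL s L n).comp (Phi s L n) = Psi L := by
  ext
  · simp
  · simp only [RingHom.comp_apply, Phi_X, map_mul, sclL_C, sclL_X, Psi_X]
    rw [← mul_assoc, ← C_mul, inv_pow_mul, C_1, one_mul]

lemma Phi_comp_tau (n m : ℕ) : (Phi s L (n + m)).comp (tau s m) = Phi s L n := by
  ext
  · simp
  · simp only [RingHom.comp_apply, tau_X, map_mul, Phi_C, Phi_X]
    rw [← mul_assoc, ← C_mul, map_pow, pow_add, mul_comm (inv s L ^ n), ← mul_assoc,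
      mul_comm (algebraMap A L s ^ m), inv_pow_mul, one_mul]

lemma Phi_tau (n m : ℕ) (q : A[X]) : Phi s L (n + m) (tau s m q) = Phi s L n q := by
  rw [← Phi_comp_tau s L n m]; rfl

lemma eval_zero_Phi (n : ℕ) (q : A[X]) : (Phi s L n q).eval 0 = algebraMap A L (q.eval 0) := by
  have : (evalRingHom (0 : L)).comp (Phi s L n) = (algebraMap A L).comp (evalRingHom (0 : A)) := by
    ext <;> simp
  exact congrArg (fun f => f q) this

/-- the fibre product ring `A ×_L L[X]` -/
noncomputable def Cp : Subring (A × L[X]) :=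
  ((algebraMap A L).comp (RingHom.fst A L[X])).eqLocus
    ((evalRingHom (0 : L)).comp (RingHom.snd A L[X]))

lemma mem_Cp (c : A × L[X]) : c ∈ Cp (A := A) L ↔ algebraMap A L c.1 = c.2.eval 0 := Iff.rfl

/-- first projection -/
noncomputable def pi1 : Cp (A := A) L →+* A := (RingHom.fst A L[X]).comp (Cp (A := A) L).subtype
/-- second projection -/
noncomputable def pi2 : Cp (A := A) L →+* L[X] := (RingHom.snd A L[X]).comp (Cp (A := A) L).subtype

lemma pi_comm (c : Cp (A := A) L) : algebraMap A L (pi1 L c) = (pi2 L c).eval 0 := c.2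

lemma pi_ext {c c' : Cp (A := A) L} (h1 : pi1 L c = pi1 L c') (h2 : pi2 L c = pi2 L c') : c = c' :=
  Subtype.ext (Prod.ext h1 h2)

/-- the cocone maps -/
noncomputable def phi (n : ℕ) : A[X] →+* Cp (A := A) L :=
  ((evalRingHom (0 : A)).prod (Phi s L n)).codRestrict (Cp (A := A) L) (fun q => by
    rw [mem_Cp]
    exact (eval_zero_Phi s L n q).symm)

@[simp] lemma pi1_phi (n : ℕ) (q : A[X]) : pi1 L (phi s L n q) = q.eval 0 := rfl
@[simp] lemma pi2_phi (n : ℕ) (q : A[X]) : pi2 L (phi s L n q) = Phi s L n q := rfl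

lemma eval_zero_tau (m : ℕ) (q : A[X]) : (tau s m q).eval 0 = q.eval 0 := by
  have : (evalRingHom (0 : A)).comp (tau s m) = evalRingHom (0 : A) := by
    ext <;> simp
  exact congrArg (fun f => f q) this

lemma phi_tau (n m : ℕ) (q : A[X]) : phi s L (n + m) (tau s m q) = phi s L n q := by
  apply pi_ext
  · simp [eval_zero_tau]
  · simp [Phi_tau]

omit [IsLocalization.Away s L] in
lemma exists_denom [IsLocalization.Away s L] (p : L[X]) :
    ∃ (m : ℕ) (q₀ : A[X]), C (algebraMap A L s) ^ m * p = Psi L q₀ := by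
  induction p using Polynomial.induction_on' with
  | add p p' hp hp' =>
    obtain ⟨m, q, hq⟩ := hp
    obtain ⟨m', q', hq'⟩ := hp'
    refine ⟨m + m', C (s ^ m') * q + C (s ^ m) * q', ?_⟩
    have e1 : ∀ k : ℕ, Psi L (C (s ^ k)) = C (algebraMap A L s) ^ k := fun k => by
      rw [Psi_C, map_pow, C_pow]
    rw [map_add, map_mul, map_mul, e1, e1, ← hq, ← hq', pow_add]
    ring
  | monomial n l =>
    obtain ⟨m, a, ha⟩ := IsLocalization.Away.surj s l
    refine ⟨m, monomial n a, ?_⟩
    rw [← C_pow, C_mul_monomial, Psi, coe_mapRingHom, map_monomial, mul_comm, ha]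

lemma exists_pow_mul_eq_zero (d : A[X]) (hd : Psi L d = 0) : ∃ m : ℕ, C (s ^ m) * d = 0 := by
  have h : ∀ i, ∃ m : ℕ, s ^ m * d.coeff i = 0 := by
    intro i
    have hi : algebraMap A L (d.coeff i) = 0 := by
      have := congrArg (fun p => p.coeff i) hd
      simpa [Psi] using this
    obtain ⟨⟨_, m, rfl⟩, hm⟩ := (IsLocalization.map_eq_zero_iff (Submonoid.powers s) L _).1 hi
    exact ⟨m, hm⟩
  choose m hm using h
  refine ⟨d.support.sup m, ?_⟩
  ext i
  rw [coeff_C_mul, coeff_zero]
  by_cases hi : i ∈ d.support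
  · have hle : m i ≤ d.support.sup m := Finset.le_sup hi
    obtain ⟨k, hk⟩ := Nat.exists_eq_add_of_le hle
    rw [hk, pow_add, mul_comm (s ^ m i), mul_assoc, hm, mul_zero]
  · rw [notMem_support_iff.1 hi, mul_zero]

lemma phi_surj (c : Cp (A := A) L) : ∃ (n : ℕ) (q : A[X]), phi s L n q = c := by
  obtain ⟨m, q₀, hq₀⟩ := exists_denom s L (pi2 L c)
  set p := pi2 L c with hp
  set a := pi1 L c with ha
  have hc : algebraMap A L a = p.eval 0 := pi_comm L c
  -- p = C(inv^m) * (Psi (divX q₀) * X) + C (alg a)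
  have h1 : C (algebraMap A L s) ^ m * p = Psi L (divX q₀) * X + C (algebraMap A L (q₀.coeff 0)) := by
    rw [hq₀]
    conv_lhs => rw [← divX_mul_X_add q₀]
    simp
  have h2 : p = C (inv s L ^ m) * (Psi L (divX q₀) * X) +
      C (inv s L ^ m * algebraMap A L (q₀.coeff 0)) := by
    have : p = C (inv s L ^ m) * (C (algebraMap A L s) ^ m * p) := by
      rw [← mul_assoc, ← C_pow, ← C_mul, inv_pow_mul, C_1, one_mul]
    rw [this, h1, mul_add, C_mul]
  have h3 : p.eval 0 = inv s L ^ m * algebraMap A L (q₀.coeff 0) := by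
    rw [h2]; simp
  refine ⟨m, C a + X * tau s m (divX q₀), ?_⟩
  apply pi_ext
  · rw [pi1_phi]; simp [ha]
  · rw [pi2_phi, ← hp, map_add, map_mul, Phi_C, Phi_X]
    have : Phi s L m (tau s m (divX q₀)) = Psi L (divX q₀) := by
      have := Phi_tau s L 0 m (divX q₀)
      rw [zero_add] at this
      rw [this, Phi_zero]
    rw [this, hc, h3]
    conv_rhs => rw [h2]
    ring

lemma phi_inj (n : ℕ) (x y : A[X]) (h : phi s L n x = phi s L n y) :
    ∃ m : ℕ, tau s m x = tau s m y := by
  have hd : phi s L n (x - y) = 0 := by rw [map_sub, h, sub_self]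
  have h1 : (x - y).eval 0 = 0 := by
    have := congrArg (pi1 L) hd
    simpa using this
  have h2 : Phi s L n (x - y) = 0 := by
    have := congrArg (pi2 L) hd
    simpa using this
  have h3 : Psi L (x - y) = 0 := by
    rw [← sclL_comp_Phi s L n, RingHom.comp_apply, h2, map_zero]
  obtain ⟨m, hm⟩ := exists_pow_mul_eq_zero s L (x - y) h3
  refine ⟨m, ?_⟩
  rw [← sub_eq_zero, ← map_sub]
  have h4 : x - y = divX (x - y) * X := by
    conv_lhs => rw [← divX_mul_X_add (x - y)]
    rw [coeff_zero_eq_eval_zero, h1, C_0, add_zero]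
  rw [h4, map_mul, tau_X]
  have h5 : tau s m (divX (x - y)) * (C (s ^ m) * X) = tau s m (C (s ^ m) * divX (x - y)) * X := by
    rw [map_mul, tau_C]; ring
  rw [h5, ← divX_C_mul, hm, divX_zero, map_zero, zero_mul]

end Groth.Agent.Helper8.QPatchRing
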