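import Mathlib

set_option autoImplicit false

namespace Groth.Agent.Helper8.QSym
open Finsupp

/-- A finitely supported function on `Fin n` as an ordered sum of singles over its support. -/
lemma exists_strictMono_repr {n : ℕ} (e : Fin n →₀ ℕ) :
    ∃ (ℓ : ℕ) (i : Fin ℓ → Fin n) (a : Fin ℓ → ℕ), StrictMono i ∧ (∀ t, 0 < a t) ∧
      e = ∑ t : Fin ℓ, Finsupp.single (i t) (a t) := by
  classical
  refine ⟨e.support.card, fun t => e.support.orderEmbOfFin rfl t,
    fun t => e (e.support.orderEmbOfFin rfl t), (e.support.orderEmbOfFin rfl).strictMono, ?_, ?_⟩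
  · intro t
    have : e.support.orderEmbOfFin rfl t ∈ e.support := Finset.orderEmbOfFin_mem _ _ _
    exact Nat.pos_of_ne_zero (Finsupp.mem_support_iff.1 this)
  · conv_lhs => rw [← Finsupp.sum_single e]
    rw [Finsupp.sum]
    have := Finset.map_orderEmbOfFin_univ e.support rfl
    conv_lhs => rw [← this]
    rw [Finset.sum_map]
    rfl

lemma sum_single_val {n ℓ : ℕ} (i : Fin ℓ → Fin n) (a : Fin ℓ → ℕ) :
    Finsupp.mapDomain Fin.val (∑ t : Fin ℓ, Finsupp.single (i t) (a t)) =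
      ∑ t : Fin ℓ, Finsupp.single ((i t : Fin n) : ℕ) (a t) := by
  rw [Finsupp.mapDomain_finsetSum]
  simp only [Finsupp.mapDomain_single]

lemma sum_single_map {n m ℓ : ℕ} (φ : Fin n → Fin m) (i : Fin ℓ → Fin n) (a : Fin ℓ → ℕ) :
    Finsupp.mapDomain φ (∑ t : Fin ℓ, Finsupp.single (i t) (a t)) =
      ∑ t : Fin ℓ, Finsupp.single (φ (i t)) (a t) := by
  rw [Finsupp.mapDomain_finsetSum]
  simp only [Finsupp.mapDomain_single]

def IsQS (F : MvPowerSeries ℕ ℤ) : Prop :=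
  ∀ (ℓ : ℕ) (i j : Fin ℓ → ℕ) (a : Fin ℓ → ℕ), StrictMono i → StrictMono j → (∀ t, 0 < a t) →
    MvPowerSeries.coeff (∑ t : Fin ℓ, Finsupp.single (i t) (a t)) F =
      MvPowerSeries.coeff (∑ t : Fin ℓ, Finsupp.single (j t) (a t)) F

theorem partA (F : MvPowerSeries ℕ ℤ) (hF : IsQS F) (n m : ℕ) (φ : Fin n ↪o Fin m)
    (e : Fin n →₀ ℕ) :
    MvPowerSeries.coeff (Finsupp.mapDomain Fin.val e) F =
      MvPowerSeries.coeff (Finsupp.mapDomain Fin.val (Finsupp.mapDomain φ e)) F := by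
  obtain ⟨ℓ, i, a, hi, ha, rfl⟩ := exists_strictMono_repr e
  rw [sum_single_map, sum_single_val, sum_single_val]
  apply hF ℓ _ _ a _ _ ha
  · intro s t hst; exact hi hst
  · intro s t hst; exact φ.strictMono (hi hst)

/-- bound on the support -/
noncomputable def bd (e : ℕ →₀ ℕ) : ℕ := e.support.sup (fun x => x + 1)

lemma lt_bd (e : ℕ →₀ ℕ) (x : ℕ) (hx : x ∈ e.support) : x < bd e := by
  have : x + 1 ≤ bd e := Finset.le_sup (f := fun x => x + 1) hx
  omega

lemma bd_le (e : ℕ →₀ ℕ) (N : ℕ) (h : ∀ x ∈ e.support, x < N) : bd e ≤ N := by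
  apply Finset.sup_le
  intro x hx
  exact h x hx

/-- pull back to `Fin N` -/
noncomputable def pb (N : ℕ) (e : ℕ →₀ ℕ) : Fin N →₀ ℕ :=
  Finsupp.comapDomain Fin.val e Fin.val_injective.injOn

lemma pb_apply (N : ℕ) (e : ℕ →₀ ℕ) (x : Fin N) : pb N e x = e x := rfl

lemma map_pb (N : ℕ) (e : ℕ →₀ ℕ) (h : ∀ x ∈ e.support, x < N) :
    Finsupp.mapDomain Fin.val (pb N e) = e := by
  apply Finsupp.mapDomain_comapDomain _ Fin.val_injective
  intro x hx
  exact ⟨⟨x, h x hx⟩, rfl⟩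

lemma pb_map (N : ℕ) (e : Fin N →₀ ℕ) : pb N (Finsupp.mapDomain Fin.val e) = e :=
  Finsupp.comapDomain_mapDomain _ Fin.val_injective e

lemma support_map_lt (N : ℕ) (e : Fin N →₀ ℕ) :
    ∀ x ∈ (Finsupp.mapDomain Fin.val e).support, x < N := by
  classical
  intro x hx
  have := Finsupp.mapDomain_support hx
  obtain ⟨y, _, rfl⟩ := Finset.mem_image.1 this
  exact y.2

lemma castLE_pb (N₀ N : ℕ) (h : N₀ ≤ N) (e : ℕ →₀ ℕ) (he : ∀ x ∈ e.support, x < N₀) :
    Finsupp.mapDomain (Fin.castLEOrderEmb h) (pb N₀ e) = pb N e := by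
  ext x
  by_cases hx : (x : ℕ) < N₀
  · have : x = Fin.castLEOrderEmb h ⟨x, hx⟩ := by ext; simp
    rw [this, Finsupp.mapDomain_apply (Fin.castLEOrderEmb h).injective]
    simp [pb_apply]
  · rw [Finsupp.mapDomain_of_notMem_range]
    · rw [pb_apply]
      by_contra hne
      exact hx (he x (Finsupp.mem_support_iff.2 (Ne.symm hne)))
    · rintro ⟨y, rfl⟩
      apply hx
      simp

section partB
variable (d : ℕ) (f : (n : ℕ) → MvPolynomial (Fin n) ℤ)
  (hcompat : ∀ (n m : ℕ) (φ : Fin n ↪o Fin m) (e : Fin n →₀ ℕ),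
        MvPolynomial.coeff e (f n) = MvPolynomial.coeff (Finsupp.mapDomain φ e) (f m))

/-- the limit series -/
noncomputable def lim : MvPowerSeries ℕ ℤ := fun e => MvPolynomial.coeff (pb (bd e) e) (f (bd e))

include hcompat in
lemma lim_eq (e : ℕ →₀ ℕ) (N : ℕ) (h : ∀ x ∈ e.support, x < N) :
    MvPowerSeries.coeff e (lim f) = MvPolynomial.coeff (pb N e) (f N) := by
  rw [MvPowerSeries.coeff_apply]
  show MvPolynomial.coeff (pb (bd e) e) (f (bd e)) = _
  rw [hcompat (bd e) N (Fin.castLEOrderEmb (bd_le e N h)) (pb (bd e) e),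
    castLE_pb _ _ _ e (lt_bd e)]

include hcompat in
lemma lim_restrict (n : ℕ) (e : Fin n →₀ ℕ) :
    MvPowerSeries.coeff (Finsupp.mapDomain Fin.val e) (lim f) = MvPolynomial.coeff e (f n) := by
  rw [lim_eq f hcompat _ n (support_map_lt n e), pb_map]

include hcompat in
lemma lim_qs : IsQS (lim f) := by
  intro ℓ i j a hi hj ha
  set N := (Finset.univ.sup i ⊔ Finset.univ.sup j) + 1 with hN
  have hiN : ∀ t, i t < N := fun t => by
    have : i t ≤ Finset.univ.sup i := Finset.le_sup (f := i) (Finset.mem_univ t)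
    have h2 : Finset.univ.sup i ≤ Finset.univ.sup i ⊔ Finset.univ.sup j := le_sup_left
    omega
  have hjN : ∀ t, j t < N := fun t => by
    have : j t ≤ Finset.univ.sup j := Finset.le_sup (f := j) (Finset.mem_univ t)
    have h2 : Finset.univ.sup j ≤ Finset.univ.sup i ⊔ Finset.univ.sup j := le_sup_right
    omega
  set e₀ : Fin ℓ →₀ ℕ := ∑ t : Fin ℓ, Finsupp.single t (a t) with he₀
  have key : ∀ (k : Fin ℓ → ℕ) (hk : StrictMono k) (hkN : ∀ t, k t < N),
      MvPowerSeries.coeff (∑ t : Fin ℓ, Finsupp.single (k t) (a t)) (lim f) =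
        MvPolynomial.coeff e₀ (f ℓ) := by
    intro k hk hkN
    let φ : Fin ℓ ↪o Fin N := OrderEmbedding.ofStrictMono (fun t => ⟨k t, hkN t⟩)
      (fun s t hst => hk hst)
    have h1 : (∑ t : Fin ℓ, Finsupp.single (k t) (a t)) =
        Finsupp.mapDomain Fin.val (Finsupp.mapDomain φ e₀) := by
      rw [he₀, sum_single_map, sum_single_val]
      rfl
    rw [h1, lim_restrict f hcompat, ← hcompat]
  rw [key i hi hiN, key j hj hjN]

end partB

theorem main (d : ℕ) :
    (∀ F : MvPowerSeries ℕ ℤ,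
      (∀ (ℓ : ℕ) (i j : Fin ℓ → ℕ) (a : Fin ℓ → ℕ), StrictMono i → StrictMono j → (∀ t, 0 < a t) →
        MvPowerSeries.coeff (∑ t : Fin ℓ, Finsupp.single (i t) (a t)) F =
          MvPowerSeries.coeff (∑ t : Fin ℓ, Finsupp.single (j t) (a t)) F) →
      (∀ e : ℕ →₀ ℕ, MvPowerSeries.coeff e F ≠ 0 → e.degree = d) →
      ∀ (n m : ℕ) (φ : Fin n ↪o Fin m) (e : Fin n →₀ ℕ),
        MvPowerSeries.coeff (Finsupp.mapDomain Fin.val e) F =
          MvPowerSeries.coeff (Finsupp.mapDomain Fin.val (Finsupp.mapDomain φ e)) F) ∧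
    (∀ f : (n : ℕ) → MvPolynomial (Fin n) ℤ,
      (∀ n, (f n).IsHomogeneous d) →
      (∀ (n m : ℕ) (φ : Fin n ↪o Fin m) (e : Fin n →₀ ℕ),
        MvPolynomial.coeff e (f n) = MvPolynomial.coeff (Finsupp.mapDomain φ e) (f m)) →
      ∃! F : MvPowerSeries ℕ ℤ,
        (∀ (ℓ : ℕ) (i j : Fin ℓ → ℕ) (a : Fin ℓ → ℕ), StrictMono i → StrictMono j → (∀ t, 0 < a t) →
          MvPowerSeries.coeff (∑ t : Fin ℓ, Finsupp.single (i t) (a t)) F =
            MvPowerSeries.coeff (∑ t : Fin ℓ, Finsupp.single (j t) (a t)) F) ∧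
        (∀ e : ℕ →₀ ℕ, MvPowerSeries.coeff e F ≠ 0 → e.degree = d) ∧
        (∀ (n : ℕ) (e : Fin n →₀ ℕ),
          MvPowerSeries.coeff (Finsupp.mapDomain Fin.val e) F = MvPolynomial.coeff e (f n))) := by
  constructor
  · intro F hF _ n m φ e
    exact partA F hF n m φ e
  · intro f hhom hcompat
    refine ⟨lim f, ⟨lim_qs f hcompat, ?_, lim_restrict f hcompat⟩, ?_⟩
    · intro e he
      rw [lim_eq f hcompat e (bd e) (lt_bd e)] at he
      have h1 : (pb (bd e) e).degree = d := by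
        rw [Finsupp.degree_eq_weight_one]; exact hhom (bd e) he
      rw [← map_pb (bd e) e (lt_bd e), Finsupp.degree_mapDomain]
      exact h1
    · rintro F' ⟨_, _, hF'⟩
      ext e
      rw [lim_eq f hcompat e (bd e) (lt_bd e), ← hF' (bd e) (pb (bd e) e), map_pb (bd e) e (lt_bd e)]

end Groth.Agent.Helper8.QSym
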