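import Mathlib
import Groth.Prelude.Def_HTop
import Groth.Prelude.Def_SGA1
import Groth.Prelude.Def_CAlg2
import Groth.Agent.S1454
import Groth.Agent.Helper8.SubtrNoethB
import Groth.Agent.Helper8.HCovNoeth

set_option autoImplicit false
universe u
open CategoryTheory CategoryTheory.Limits AlgebraicGeometry

namespace Groth.Agent.Helper8.QfhDom

theorem univSubmersive_of_universallyOpen {X Y : Scheme.{u}} (φ : X ⟶ Y) [UniversallyOpen φ]
    [Surjective φ] : SGA1.UnivSubmersive φ := by
  intro X' Y' i₁ i₂ f' hpb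
  haveI : Surjective f' := MorphismProperty.of_isPullback (P := @Surjective) hpb.flip inferInstance
  haveI : UniversallyOpen f' :=
    MorphismProperty.of_isPullback (P := @UniversallyOpen) hpb.flip inferInstance
  exact IsOpenMap.isQuotientMap f'.isOpenMap f'.continuous f'.surjective

theorem univSubmersive_of_comp {W X Y : Scheme.{u}} (p : W ⟶ X) (g : X ⟶ Y)
    (h : SGA1.UnivSubmersive (p ≫ g)) : SGA1.UnivSubmersive g := by
  intro X' Y' f' i₂ g' sq
  have top : IsPullback (pullback.fst p f') (pullback.snd p f') p f' :=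
    IsPullback.of_hasPullback _ _
  have big : IsPullback (pullback.fst p f') (pullback.snd p f' ≫ g') (p ≫ g) i₂ :=
    top.paste_vert sq.flip
  have hq : Topology.IsQuotientMap (pullback.snd p f' ≫ g') := h _ _ _ big.flip
  change Topology.IsQuotientMap g'
  refine Topology.IsQuotientMap.of_comp (f := pullback.snd p f') (pullback.snd p f').continuous
    g'.continuous ?_
  have h2 : ⇑g' ∘ ⇑(pullback.snd p f') = ⇑(pullback.snd p f' ≫ g') := by
    ext z; simp
  rw [h2]; exact hq

theorem isGenericPoint_apply_genericPoint {U X : Scheme.{u}} [IrreducibleSpace U]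
    (f : U ⟶ X) [IsDominant f] : IsGenericPoint (f (genericPoint U)) (Set.univ : Set X) := by
  show closure {f (genericPoint U)} = Set.univ
  rw [Set.eq_univ_iff_forall]
  intro x
  have h1 : x ∈ closure (Set.range f) := f.denseRange x
  have h2 : Set.range f ⊆ closure {f (genericPoint U)} := by
    rintro _ ⟨u, rfl⟩
    have h3 : genericPoint U ⤳ u := genericPoint_specializes u
    exact (h3.map f.continuous).mem_closed isClosed_closure (subset_closure rfl)
  exact closure_minimal h2 isClosed_closure h1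

/-- every generic point of an irreducible component of a coproduct of irreducible schemes, all
dominating the irreducible `X`, maps to the generic point of `X` -/
theorem hdom_sigma {X : Scheme.{u}} [IrreducibleSpace X] {J : Type u} (U : J → Scheme.{u})
    [∀ j, IrreducibleSpace (U j)] (f : ∀ j, U j ⟶ X) (hd : ∀ j, IsDominant (f j)) :
    ∀ Z ∈ irreducibleComponents ↑(∐ U), ∀ x : ↑(∐ U), IsGenericPoint x Z →
      ∃ W ∈ irreducibleComponents ↑X, IsGenericPoint ((Sigma.desc f) x) W := by
  intro Z hZ x hx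
  obtain ⟨j, u, rfl⟩ : ∃ (j : J) (u : U j), (Sigma.ι U j) u = x := (sigmaOpenCover U).exists_eq x
  haveI := hd j
  have hxZ : closure {(Sigma.ι U j) u} = Z := hx
  have hsub : Z ⊆ closure {(Sigma.ι U j) (genericPoint (U j))} := by
    rw [← hxZ]
    apply closure_minimal _ isClosed_closure
    rw [Set.singleton_subset_iff]
    have h3 : genericPoint (U j) ⤳ u := genericPoint_specializes u
    exact (h3.map (Sigma.ι U j).continuous).mem_closed isClosed_closure (subset_closure rfl)
  have hirr : IsIrreducible (closure {(Sigma.ι U j) (genericPoint (U j))}) :=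
    isIrreducible_singleton.closure
  have heq : closure {(Sigma.ι U j) (genericPoint (U j))} = Z :=
    Set.Subset.antisymm (hZ.2 hirr hsub) hsub
  have hgen : IsGenericPoint ((Sigma.ι U j) (genericPoint (U j))) Z := heq
  have hpt : (Sigma.ι U j) u = (Sigma.ι U j) (genericPoint (U j)) := hx.eq hgen
  refine ⟨Set.univ, ?_, ?_⟩
  · rw [irreducibleComponents_eq_singleton]; rfl
  · have h5 : (Sigma.desc f) ((Sigma.ι U j) u) = f j (genericPoint (U j)) := by
      rw [hpt, ← Scheme.Hom.comp_apply, Sigma.ι_desc]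
    show IsGenericPoint ((Sigma.desc f) ((Sigma.ι U j) u)) Set.univ
    rw [h5]
    exact isGenericPoint_apply_genericPoint (f j)

theorem exists_dominant_of_univSubmersive {X : Scheme.{u}} [IsNoetherian X] [IrreducibleSpace X]
    (E : PreZeroHypercover.{u} X) [Finite E.I₀] [∀ i, QuasiCompact (E.f i)]
    (h : SGA1.UnivSubmersive (Sigma.desc E.f)) (x : X) :
    ∃ (i : E.I₀) (u : E.X i), IsDominant (E.f i) ∧ E.f i u = x := by
  haveI : QuasiCompact (Sigma.desc E.f) := HCovNoeth.quasiCompact_sigmaDesc E.f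
  have h1 : Subtr.UnivSSubtrusive (Sigma.desc E.f) := (SubtrNoethB.main70 _).mp h
  have h2 : Subtr.IsSSubtrusive (Sigma.desc E.f) := MorphismProperty.universally_le _ _ h1
  obtain ⟨a, a', haa, ha, ha'⟩ := h2 (genericPoint_specializes x)
  obtain ⟨i, u, rfl⟩ : ∃ (i : E.I₀) (u : E.X i), (Sigma.ι E.X i) u = a :=
    (sigmaOpenCover E.X).exists_eq a
  have hmem : a' ∈ Set.range (Sigma.ι E.X i) :=
    haa.mem_open (Sigma.ι E.X i).isOpenEmbedding.isOpen_range
      (show (Sigma.ι E.X i) u ∈ Set.range (Sigma.ι E.X i) from ⟨u, rfl⟩)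
  obtain ⟨u', rfl⟩ := hmem
  refine ⟨i, u, ?_, ?_⟩
  · have h3 : E.f i u' = genericPoint X := by
      rw [← ha', ← Scheme.Hom.comp_apply, Sigma.ι_desc]
    constructor
    intro y
    have h4 : y ∈ closure {E.f i u'} := by
      rw [h3]; exact (genericPoint_specializes y).mem_closure
    have h5 : ({E.f i u'} : Set X) ⊆ Set.range (E.f i) := by
      rw [Set.singleton_subset_iff]; exact ⟨u', rfl⟩
    exact closure_mono h5 h4
  · rw [← ha]
    show E.f i u = (Sigma.desc E.f) ((Sigma.ι E.X i) u)
    rw [← Scheme.Hom.comp_apply, Sigma.ι_desc]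

theorem second {X : Scheme.{u}} [IsNoetherian X] [IrreducibleSpace ↥X]
    (hX : ∀ x : X, CAlg2.IsGeomUnibranch (X.presheaf.stalk x)) (E : PreZeroHypercover.{u} X)
    [∀ i, LocallyOfFiniteType (E.f i)] [∀ i, LocallyQuasiFinite (E.f i)]
    [∀ i, IrreducibleSpace ↥(E.X i)]
    (H : ∀ x : X, ∃ (i : E.I₀) (u : E.X i), IsDominant (E.f i) ∧ E.f i u = x) :
    SGA1.UnivSubmersive
      (Sigma.desc fun j : {i : E.I₀ // IsDominant (E.f i)} => E.f j.1) := by
  haveI : LocallyQuasiFinite
      (Sigma.desc fun j : {i : E.I₀ // IsDominant (E.f i)} => E.f j.1) :=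
    IsZariskiLocalAtSource.sigmaDesc (P := @LocallyQuasiFinite) (fun j => inferInstance)
  haveI : LocallyOfFiniteType
      (Sigma.desc fun j : {i : E.I₀ // IsDominant (E.f i)} => E.f j.1) :=
    IsZariskiLocalAtSource.sigmaDesc (P := @LocallyOfFiniteType) (fun j => inferInstance)
  haveI : UniversallyOpen
      (Sigma.desc fun j : {i : E.I₀ // IsDominant (E.f i)} => E.f j.1) :=
    Groth.Agent.S1454.result _ hX
      (hdom_sigma (fun j : {i : E.I₀ // IsDominant (E.f i)} => E.X j.1)
        (fun j => E.f j.1) (fun j => j.2))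
  haveI : Surjective
      (Sigma.desc fun j : {i : E.I₀ // IsDominant (E.f i)} => E.f j.1) := ⟨fun x => by
    obtain ⟨i, u, hd, rfl⟩ := H x
    refine ⟨(Sigma.ι (fun j : {i : E.I₀ // IsDominant (E.f i)} => E.X j.1) ⟨i, hd⟩) u, ?_⟩
    rw [← Scheme.Hom.comp_apply, Sigma.ι_desc]⟩
  exact univSubmersive_of_universallyOpen _

theorem main {X : Scheme.{u}} [IsNoetherian X] [IrreducibleSpace ↥X]
    (hX : ∀ x : X, CAlg2.IsGeomUnibranch (X.presheaf.stalk x)) (E : PreZeroHypercover.{u} X)
    [Finite E.I₀] [∀ i, LocallyOfFiniteType (E.f i)] [∀ i, QuasiCompact (E.f i)]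
    [∀ i, LocallyQuasiFinite (E.f i)] [∀ i, IrreducibleSpace ↥(E.X i)] :
    (SGA1.UnivSubmersive (Sigma.desc E.f) ↔
      ∀ x : X, ∃ (i : E.I₀) (u : E.X i), IsDominant (E.f i) ∧ E.f i u = x) ∧
    ((∀ x : X, ∃ (i : E.I₀) (u : E.X i), IsDominant (E.f i) ∧ E.f i u = x) →
      SGA1.UnivSubmersive
        (Sigma.desc fun j : {i : E.I₀ // IsDominant (E.f i)} => E.f j.1)) := by
  refine ⟨⟨fun h x => exists_dominant_of_univSubmersive E h x, fun H => ?_⟩,
    fun H => second hX E H⟩
  have hσ : Sigma.desc (fun j : {i : E.I₀ // IsDominant (E.f i)} => Sigma.ι E.X j.1) ≫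
      Sigma.desc E.f =
      Sigma.desc fun j : {i : E.I₀ // IsDominant (E.f i)} => E.f j.1 := by
    apply Sigma.hom_ext
    intro j
    rw [Sigma.ι_desc_assoc, Sigma.ι_desc, Sigma.ι_desc]
  refine univSubmersive_of_comp
    (Sigma.desc (fun j : {i : E.I₀ // IsDominant (E.f i)} => Sigma.ι E.X j.1)) (Sigma.desc E.f) ?_
  rw [hσ]
  exact second hX E H

end Groth.Agent.Helper8.QfhDom
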