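import Groth.Prelude.Def_W4c4chowquasisplitPn
import Mathlib

/-!
# The truncated algebra `QsChow.P n`: decomposition `P = B + B ε₂` and the annihilator of `ε₁`
-/

set_option autoImplicit false

namespace Groth.Agent.Helper8.QsChowA

open MvPolynomial QsChow

variable (n : ℕ)

theorem numVars_pos : 0 < numVars n := by unfold numVars; omega

theorem two_le_numVars (hn : 2 ≤ n) : 2 ≤ numVars n := by unfold numVars; omega

/-- The index of `ε₁`. -/
def i0 : Fin (numVars n) := ⟨0, numVars_pos n⟩

theorem eps_succ (i : Fin (numVars n)) :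
    eps n (i.val + 1) = Ideal.Quotient.mk (truncIdeal n) (X i) := by
  unfold eps
  rw [dif_pos ⟨Nat.succ_pos _, i.isLt⟩]
  congr 2

theorem eps_one : eps n 1 = Ideal.Quotient.mk (truncIdeal n) (X (i0 n)) := eps_succ n (i0 n)

theorem two_eq_zero : (2 : P n) = 0 := by
  rw [← map_ofNat (algebraMap (ZMod 2) (P n)) 2, show (2 : ZMod 2) = 0 from by decide, map_zero]

theorem eps_one_pow : eps n 1 ^ n = 0 := by
  rw [eps_one, ← map_pow, Ideal.Quotient.eq_zero_iff_mem]
  refine Ideal.subset_span ⟨i0 n, ?_⟩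
  simp [bound, i0]

theorem genImage_zero (i : Fin (numVars n)) (hi : i.val = 0) : genImage n (some i) = eps n 1 := by
  simp [genImage, hi]

theorem genImage_one (i : Fin (numVars n)) (hi : i.val = 1) :
    genImage n (some i) = eps n 2 ^ 2 + eps n 1 * eps n 2 := by
  simp [genImage, hi]

theorem genImage_ge (i : Fin (numVars n)) (hi : 2 ≤ i.val) :
    genImage n (some i) = eps n (i.val + 1) + eps n 1 ^ (2 * (i.val + 1) - 4) * eps n 2 := by
  have h0 : i.val ≠ 0 := by omega
  have h1 : i.val ≠ 1 := by omega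
  simp [genImage, h0, h1]

/-- Every element of `P` is `u + v ε₂` with `u, v` in any subalgebra containing the `ē_j`. -/
theorem exists_decomp (hn : 2 ≤ n) (B : Subalgebra (ZMod 2) (P n))
    (hB : ∀ i : Fin (numVars n), genImage n (some i) ∈ B) (y : P n) :
    ∃ u ∈ B, ∃ v ∈ B, y = u + v * eps n 2 := by
  have h2 := two_eq_zero n
  have hs := two_le_numVars n hn
  have he1 : eps n 1 ∈ B := by
    have := hB ⟨0, by omega⟩
    rwa [genImage_zero n _ rfl] at this
  have hE2 : eps n 2 ^ 2 + eps n 1 * eps n 2 ∈ B := by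
    have := hB ⟨1, by omega⟩
    rwa [genImage_one n _ rfl] at this
  let M : Subalgebra (ZMod 2) (P n) :=
    { carrier := {y | ∃ u ∈ B, ∃ v ∈ B, y = u + v * eps n 2}
      mul_mem' := by
        rintro _ _ ⟨u, hu, v, hv, rfl⟩ ⟨u', hu', v', hv', rfl⟩
        refine ⟨u * u' + v * v' * (eps n 2 ^ 2 + eps n 1 * eps n 2),
          B.add_mem (B.mul_mem hu hu') (B.mul_mem (B.mul_mem hv hv') hE2),
          u * v' + v * u' + v * v' * eps n 1,
          B.add_mem (B.add_mem (B.mul_mem hu hv') (B.mul_mem hv hu'))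
            (B.mul_mem (B.mul_mem hv hv') he1), ?_⟩
        linear_combination (-(v * v' * eps n 1 * eps n 2)) * h2
      add_mem' := by
        rintro _ _ ⟨u, hu, v, hv, rfl⟩ ⟨u', hu', v', hv', rfl⟩
        exact ⟨u + u', B.add_mem hu hu', v + v', B.add_mem hv hv', by ring⟩
      algebraMap_mem' := fun r =>
        ⟨algebraMap _ _ r, B.algebraMap_mem r, 0, B.zero_mem, by simp⟩ }
  have hX : ∀ i : Fin (numVars n), Ideal.Quotient.mk (truncIdeal n) (X i) ∈ M := by
    intro i
    rw [← eps_succ]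
    rcases Nat.lt_or_ge i.val 2 with h | h
    · rcases Nat.lt_or_ge i.val 1 with h' | h'
      · have hi : i.val = 0 := by omega
        rw [hi]
        exact ⟨eps n 1, he1, 0, B.zero_mem, by simp⟩
      · have hi : i.val = 1 := by omega
        rw [hi]
        exact ⟨0, B.zero_mem, 1, B.one_mem, by simp⟩
    · refine ⟨genImage n (some i), hB i, eps n 1 ^ (2 * (i.val + 1) - 4), B.pow_mem he1 _, ?_⟩
      rw [genImage_ge n i h]
      linear_combination (-(eps n 1 ^ (2 * (i.val + 1) - 4) * eps n 2)) * h2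
  have hall : ∀ p : FreeP n, Ideal.Quotient.mk (truncIdeal n) p ∈ M := by
    intro p
    induction p using MvPolynomial.induction_on with
    | C a => exact M.algebraMap_mem a
    | add p q hp hq => rw [map_add]; exact M.add_mem hp hq
    | mul_X p i hp => rw [map_mul]; exact M.mul_mem hp (hX i)
  obtain ⟨p, rfl⟩ := Ideal.Quotient.mk_surjective y
  exact hall p

theorem mem_truncIdeal_iff (p : FreeP n) :
    p ∈ truncIdeal n ↔ ∀ m ∈ p.support, ∃ i, bound n i ≤ m i := by
  have hfun : (fun i : Fin (numVars n) => (X i : FreeP n) ^ bound n i) =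
      (fun s => monomial s (1 : ZMod 2)) ∘ (fun i => Finsupp.single i (bound n i)) := by
    funext i
    simp [X_pow_eq_monomial]
  unfold truncIdeal
  rw [hfun, Set.range_comp, mem_ideal_span_monomial_image]
  constructor
  · intro h m hm
    obtain ⟨_, ⟨i, rfl⟩, hi⟩ := h m hm
    exact ⟨i, Finsupp.single_le_iff.mp hi⟩
  · intro h m hm
    obtain ⟨i, hi⟩ := h m hm
    exact ⟨_, ⟨i, rfl⟩, Finsupp.single_le_iff.mpr hi⟩

/-- The annihilator of `ε₁` in `P` is generated by `ε₁^(n-1)`. -/
theorem exists_eq_pow_mul_of_eps_mul_eq_zero (hn : 1 ≤ n) (v : P n) (hv : eps n 1 * v = 0) :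
    ∃ w : P n, v = eps n 1 ^ (n - 1) * w := by
  classical
  obtain ⟨p, rfl⟩ := Ideal.Quotient.mk_surjective v
  rw [eps_one, ← map_mul, Ideal.Quotient.eq_zero_iff_mem, mem_truncIdeal_iff] at hv
  set S₂ := p.support.filter (fun m => n - 1 ≤ m (i0 n)) with hS₂
  set q : FreeP n := ∑ m ∈ S₂, monomial (m - Finsupp.single (i0 n) (n - 1)) (coeff m p) with hq
  refine ⟨Ideal.Quotient.mk (truncIdeal n) q, ?_⟩
  rw [eps_one, ← map_pow, ← map_mul, Ideal.Quotient.eq, mem_truncIdeal_iff]
  -- the difference is the sum over the monomials with small `i0`-exponent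
  have hdiff : p - X (i0 n) ^ (n - 1) * q =
      ∑ m ∈ p.support.filter (fun m => ¬ n - 1 ≤ m (i0 n)), monomial m (coeff m p) := by
    have h1 : X (i0 n) ^ (n - 1) * q = ∑ m ∈ S₂, monomial m (coeff m p) := by
      rw [hq, Finset.mul_sum]
      refine Finset.sum_congr rfl fun m hm => ?_
      have hle : Finsupp.single (i0 n) (n - 1) ≤ m :=
        Finsupp.single_le_iff.mpr (Finset.mem_filter.mp hm).2
      rw [X_pow_eq_monomial, monomial_mul, one_mul, add_tsub_cancel_of_le hle]
    have hp : p = ∑ m ∈ S₂, monomial m (coeff m p) +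
        ∑ m ∈ p.support.filter (fun m => ¬ n - 1 ≤ m (i0 n)), monomial m (coeff m p) := by
      rw [hS₂, Finset.sum_filter_add_sum_filter_not]
      exact p.as_sum
    rw [h1]
    exact sub_eq_of_eq_add' hp
  rw [hdiff]
  intro m hm
  have hm' := MvPolynomial.support_sum hm
  rw [Finset.mem_biUnion] at hm'
  obtain ⟨m', hm'f, hmm'⟩ := hm'
  have hmeq : m = m' := Finset.mem_singleton.mp (support_monomial_subset hmm')
  subst hmeq
  rw [Finset.mem_filter] at hm'f
  obtain ⟨hms, hsmall⟩ := hm'f
  have hmem : Finsupp.single (i0 n) 1 + m ∈ (X (i0 n) * p).support := by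
    rw [mem_support_iff, coeff_X_mul]
    exact mem_support_iff.mp hms
  obtain ⟨i, hi⟩ := hv _ hmem
  refine ⟨i, ?_⟩
  by_cases hii : i = i0 n
  · exfalso
    subst hii
    have hb : bound n (i0 n) = n := by simp [bound, i0]
    rw [hb] at hi
    simp only [Finsupp.coe_add, Pi.add_apply, Finsupp.single_eq_same] at hi
    omega
  · rw [Finsupp.add_apply, Finsupp.single_eq_of_ne hii, zero_add] at hi
    exact hi

end Groth.Agent.Helper8.QsChowA
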