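import Groth.Agent.Helper8.QsChowA

/-!
# The involution `τ` on `QsChow.P n`: its fixed subalgebra and the image of `1 + τ`
-/

set_option autoImplicit false

namespace Groth.Agent.Helper8.QsChowA

open MvPolynomial QsChow

variable (n : ℕ) (hn : 2 ≤ n)
  (τ : QsChow.P n →ₐ[ZMod 2] QsChow.P n) (hτ1 : τ (QsChow.eps n 1) = QsChow.eps n 1)
  (hτ : ∀ j : ℕ, 2 ≤ j → j ≤ QsChow.numVars n →
    τ (QsChow.eps n j) = QsChow.eps n j + QsChow.eps n 1 ^ (2 * j - 3))

include hn hτ in
theorem tau_eps_two : τ (eps n 2) = eps n 2 + eps n 1 := by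
  rw [hτ 2 le_rfl (two_le_numVars n hn)]
  norm_num

include hn hτ1 hτ in
theorem tau_genImage (o : Option (Fin (numVars n))) : τ (genImage n o) = genImage n o := by
  have h2 := two_eq_zero n
  have ht2 := tau_eps_two n hn τ hτ
  cases o with
  | none =>
    show τ (eps n 1 ^ (n - 1) * eps n 2) = eps n 1 ^ (n - 1) * eps n 2
    rw [map_mul, map_pow, hτ1, ht2, mul_add, ← pow_succ,
      show n - 1 + 1 = n from by omega, eps_one_pow, add_zero]
  | some i =>
    rcases Nat.lt_or_ge i.val 2 with h | h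
    · rcases Nat.lt_or_ge i.val 1 with h' | h'
      · rw [genImage_zero n i (by omega), hτ1]
      · rw [genImage_one n i (by omega), map_add, map_mul, map_pow, hτ1, ht2]
        linear_combination (eps n 1 * eps n 2 + eps n 1 ^ 2) * h2
    · rw [genImage_ge n i h, map_add, map_mul, map_pow, hτ1, ht2,
        hτ (i.val + 1) (by omega) i.isLt]
      have hp : eps n 1 ^ (2 * (i.val + 1) - 3) = eps n 1 ^ (2 * (i.val + 1) - 4) * eps n 1 := by
        rw [← pow_succ]
        congr 1
        omega
      rw [hp]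
      linear_combination (eps n 1 ^ (2 * (i.val + 1) - 4) * eps n 1) * h2

include hn hτ1 hτ in
theorem range_phi_le : (phi n).range ≤ AlgHom.equalizer τ (AlgHom.id (ZMod 2) (P n)) := by
  unfold phi
  rw [← Algebra.adjoin_range_eq_range_aeval]
  apply Algebra.adjoin_le
  rintro _ ⟨o, rfl⟩
  exact tau_genImage n hn τ hτ1 hτ o

theorem genImage_mem_range (o : Option (Fin (numVars n))) : genImage n o ∈ (phi n).range :=
  ⟨X o, by simp [phi]⟩

include hn hτ1 hτ in
/-- `range φ` is the subalgebra of `τ`-fixed elements. -/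
theorem range_phi_eq : (phi n).range = AlgHom.equalizer τ (AlgHom.id (ZMod 2) (P n)) := by
  have h2 := two_eq_zero n
  have ht2 := tau_eps_two n hn τ hτ
  refine le_antisymm (range_phi_le n hn τ hτ1 hτ) ?_
  intro y hy
  rw [AlgHom.mem_equalizer] at hy
  have hfix : ∀ z ∈ (phi n).range, τ z = z := fun z hz =>
    (AlgHom.mem_equalizer _ _ _).mp (range_phi_le n hn τ hτ1 hτ hz)
  obtain ⟨u, hu, v, hv, rfl⟩ := exists_decomp n hn (phi n).range
    (fun i => genImage_mem_range n (some i)) y
  -- `ε₁ v = 0`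
  have hv0 : eps n 1 * v = 0 := by
    have h := hy
    rw [map_add, map_mul, hfix u hu, hfix v hv, ht2] at h
    simp only [AlgHom.coe_id, id_eq] at h
    linear_combination h
  obtain ⟨w, hw⟩ := exists_eq_pow_mul_of_eps_mul_eq_zero n (by omega) v hv0
  obtain ⟨u', hu', v', hv', rfl⟩ := exists_decomp n hn (phi n).range
    (fun i => genImage_mem_range n (some i)) w
  have hx : eps n 1 ^ (n - 1) * eps n 2 ∈ (phi n).range := genImage_mem_range n none
  have he1 : eps n 1 ∈ (phi n).range := by
    have := genImage_mem_range n (some ⟨0, numVars_pos n⟩)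
    rwa [genImage_zero n _ rfl] at this
  have hE2 : eps n 2 ^ 2 + eps n 1 * eps n 2 ∈ (phi n).range := by
    have := genImage_mem_range n (some ⟨1, by have := two_le_numVars n hn; omega⟩)
    rwa [genImage_one n _ rfl] at this
  have hpow : eps n 1 ^ (n - 1) * eps n 1 = 0 := by
    rw [← pow_succ, show n - 1 + 1 = n from by omega, eps_one_pow]
  have key : v * eps n 2 = (eps n 1 ^ (n - 1) * eps n 2) * u' +
      v' * eps n 1 ^ (n - 1) * (eps n 2 ^ 2 + eps n 1 * eps n 2) := by
    rw [hw]
    linear_combination (-(v' * eps n 2)) * hpow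
  rw [key]
  exact Subalgebra.add_mem _ hu (Subalgebra.add_mem _ (Subalgebra.mul_mem _ hx hu')
    (Subalgebra.mul_mem _ (Subalgebra.mul_mem _ hv' (Subalgebra.pow_mem _ he1 _)) hE2))

include hn hτ1 hτ in
/-- The image of `1 + τ` is `ε₁` times the fixed subalgebra. -/
theorem range_add_tau :
    Set.range (fun y : P n => y + τ y) =
      (fun z : P n => eps n 1 * z) '' (AlgHom.equalizer τ (AlgHom.id (ZMod 2) (P n)) : Set (P n)) := by
  have h2 := two_eq_zero n
  have ht2 := tau_eps_two n hn τ hτ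
  apply Set.eq_of_subset_of_subset
  · rintro _ ⟨y, rfl⟩
    obtain ⟨u, hu, v, hv, rfl⟩ := exists_decomp n hn
      (AlgHom.equalizer τ (AlgHom.id (ZMod 2) (P n)))
      (fun i => (AlgHom.mem_equalizer _ _ _).mpr (tau_genImage n hn τ hτ1 hτ (some i))) y
    refine ⟨v, hv, ?_⟩
    have hu' : τ u = u := (AlgHom.mem_equalizer _ _ _).mp hu
    have hv' : τ v = v := (AlgHom.mem_equalizer _ _ _).mp hv
    show eps n 1 * v = u + v * eps n 2 + τ (u + v * eps n 2)
    rw [map_add, map_mul, hu', hv', ht2]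
    linear_combination (-(u + v * eps n 2)) * h2
  · rintro _ ⟨z, hz, rfl⟩
    have hz' : τ z = z := (AlgHom.mem_equalizer _ _ _).mp hz
    refine ⟨eps n 2 * z, ?_⟩
    show eps n 2 * z + τ (eps n 2 * z) = eps n 1 * z
    rw [map_mul, hz', ht2]
    linear_combination (eps n 2 * z) * h2

end Groth.Agent.Helper8.QsChowA
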