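import Groth.Agent.Helper8.QsChowB

/-!
# `QsChow`: divisibility of `y + τ y` by powers of `ε₁` inside the fixed subalgebra
-/

set_option autoImplicit false

namespace Groth.Agent.Helper8.QsChowA

open MvPolynomial QsChow

variable (n : ℕ) (hn : 2 ≤ n)
  (τ : QsChow.P n →ₐ[ZMod 2] QsChow.P n) (hτ1 : τ (QsChow.eps n 1) = QsChow.eps n 1)
  (hτ : ∀ j : ℕ, 2 ≤ j → j ≤ QsChow.numVars n →
    τ (QsChow.eps n j) = QsChow.eps n j + QsChow.eps n 1 ^ (2 * j - 3))

include hn hτ1 hτ in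
theorem add_tau_fixed_multiple (m : ℕ) (hm1 : 1 ≤ m) (hmn : m ≤ n) (y : P n)
    (hy : y + τ y ∈ Ideal.span ({eps n 1 ^ m} : Set (P n))) :
    ∃ z : P n, τ z = z ∧ y + τ y = eps n 1 ^ m * z := by
  have h2 := two_eq_zero n
  have ht2 := tau_eps_two n hn τ hτ
  have hB : ∀ i : Fin (numVars n),
      genImage n (some i) ∈ AlgHom.equalizer τ (AlgHom.id (ZMod 2) (P n)) :=
    fun i => (AlgHom.mem_equalizer _ _ _).mpr (tau_genImage n hn τ hτ1 hτ (some i))
  obtain ⟨w, hw⟩ := Ideal.mem_span_singleton'.mp hy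
  obtain ⟨u, hu, v, hv, rfl⟩ := exists_decomp n hn _ hB y
  have hu' : τ u = u := (AlgHom.mem_equalizer _ _ _).mp hu
  have hv' : τ v = v := (AlgHom.mem_equalizer _ _ _).mp hv
  have hsum : u + v * eps n 2 + τ (u + v * eps n 2) = eps n 1 * v := by
    rw [map_add, map_mul, hu', hv', ht2]
    linear_combination (u + v * eps n 2) * h2
  rw [hsum] at hw ⊢
  have hpm : eps n 1 ^ m = eps n 1 * eps n 1 ^ (m - 1) := by
    rw [← pow_succ', show m - 1 + 1 = m from by omega]
  have h0 : eps n 1 * (v - w * eps n 1 ^ (m - 1)) = 0 := by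
    rw [hpm] at hw
    linear_combination -hw
  obtain ⟨w', hw'⟩ := exists_eq_pow_mul_of_eps_mul_eq_zero n (by omega) _ h0
  have hpn : eps n 1 ^ (n - 1) = eps n 1 ^ (m - 1) * eps n 1 ^ (n - m) := by
    rw [← pow_add]
    congr 1
    omega
  obtain ⟨a, ha, b, hb, hab⟩ := exists_decomp n hn _ hB (w + eps n 1 ^ (n - m) * w')
  have ha' : τ a = a := (AlgHom.mem_equalizer _ _ _).mp ha
  have hb' : τ b = b := (AlgHom.mem_equalizer _ _ _).mp hb
  have hv1 : v = eps n 1 ^ (m - 1) * (a + b * eps n 2) := by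
    rw [← hab]
    rw [hpn] at hw'
    linear_combination hw'
  have hb0 : eps n 1 ^ m * b = 0 := by
    have h := hv'
    rw [hv1, map_mul, map_pow, hτ1, map_add, map_mul, ha', hb', ht2] at h
    rw [hpm]
    linear_combination h
  refine ⟨a, ha', ?_⟩
  rw [hv1, hpm]
  rw [hpm] at hb0
  linear_combination (eps n 2) * hb0

end Groth.Agent.Helper8.QsChowA
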