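import Mathlib
import Groth.Prelude.Def_W4c2gaugesfzipsQuiet
import Groth.Prelude.Def_Frob
import Groth.Agent.Lead.QuietA

/-!
# Helper8: ring-level lemmas on root towers (transport, composition, Frobenius section)
-/

set_option autoImplicit false
set_option linter.style.haveILetI false
universe u
open Polynomial

namespace Groth.Agent.Helper8.QuietComp

open Quiet

/-- in a `0`-step tower the inverse equivalence is the algebra map -/
theorem algebraMap_algEquiv {A B : Type u} [CommRing A] [CommRing B] [Algebra A B]
    (e : B ≃ₐ[A] A) (b : B) : algebraMap A B (e b) = b := by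
  have h : e (algebraMap A B (e b)) = e b := by
    rw [e.commutes]; rfl
  exact e.injective h

/-- semilinear transport of root towers along a pair of compatible ring isomorphisms -/
theorem isRootTower_of_ringEquiv (p : ℕ) : ∀ (n : ℕ) (A B A' B' : Type u) [CommRing A] [CommRing B]
    [CommRing A'] [CommRing B'] [Algebra A B] [Algebra A' B'] (α : A ≃+* A') (β : B ≃+* B')
    (_ : ∀ a, β (algebraMap A B a) = algebraMap A' B' (α a)),
    IsRootTower p n A B → IsRootTower p n A' B'
  | 0, A, B, A', B', _, _, _, _, _, _, α, β, hc, h => by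
      obtain ⟨e⟩ := h
      refine ⟨{ (β.symm.trans (e.toRingEquiv.trans α)) with commutes' := fun a' => ?_ }⟩
      obtain ⟨a, rfl⟩ := α.surjective a'
      change α (e (β.symm (algebraMap A' B' (α a)))) = α a
      rw [← hc, β.symm_apply_apply, e.commutes]
      rfl
  | n + 1, A, B, A', B', _, _, _, _, _, _, α, β, hc, h => by
      obtain ⟨a, inst, tower, hB⟩ := h
      letI := inst
      have hassoc : Associated ((X ^ p - C a : A[X]).map (α : A →+* A'))
          (X ^ p - C (α a) : A'[X]) := by
        simp
      let ρ : RootRing p A a ≃+* RootRing p A' (α a) := AdjoinRoot.mapRingEquiv α _ _ hassoc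
      have hρ : ∀ a'' : A', ρ.symm (AdjoinRoot.of (X ^ p - C (α a) : A'[X]) a'')
          = AdjoinRoot.of (X ^ p - C a : A[X]) (α.symm a'') := by
        intro a''
        apply ρ.injective
        rw [ρ.apply_symm_apply]
        have h0 : ρ (AdjoinRoot.of (X ^ p - C a : A[X]) (α.symm a''))
            = AdjoinRoot.of (X ^ p - C (α a) : A'[X]) ((α : A →+* A') (α.symm a'')) :=
          AdjoinRoot.map_of (α : A →+* A') _ _ hassoc.symm.dvd (α.symm a'')
        rw [h0]
        simp
      letI algR' : Algebra (RootRing p A' (α a)) B' :=
        ((β : B →+* B').comp ((algebraMap (RootRing p A a) B).comp (ρ.symm : _ →+* _))).toAlgebra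
      haveI : IsScalarTower A' (RootRing p A' (α a)) B' :=
        IsScalarTower.of_algebraMap_eq (fun x => by
          change algebraMap A' B' x
            = β (algebraMap (RootRing p A a) B (ρ.symm (AdjoinRoot.of _ x)))
          rw [hρ]
          have h1 : algebraMap (RootRing p A a) B (AdjoinRoot.of _ (α.symm x))
              = algebraMap A B (α.symm x) :=
            (IsScalarTower.algebraMap_apply A (RootRing p A a) B (α.symm x)).symm
          rw [h1, hc, α.apply_symm_apply])
      refine ⟨α a, algR', inferInstance, isRootTower_of_ringEquiv p n _ B _ B' ρ β ?_ hB⟩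
      intro r
      change β (algebraMap _ B r) = β (algebraMap _ B (ρ.symm (ρ r)))
      rw [ρ.symm_apply_apply]

/-- composition of root towers -/
theorem isRootTower_trans (p : ℕ) : ∀ (n m : ℕ) (A B C : Type u) [CommRing A] [CommRing B]
    [CommRing C] [Algebra A B] [Algebra B C] [Algebra A C] [IsScalarTower A B C],
    IsRootTower p n A B → IsRootTower p m B C → IsRootTower p (m + n) A C
  | 0, m, A, B, C, _, _, _, _, _, _, _, h, h' => by
      obtain ⟨e⟩ := h
      refine isRootTower_of_ringEquiv p m B C A C e.toRingEquiv (RingEquiv.refl C) ?_ h'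
      intro b
      change algebraMap B C b = algebraMap A C (e b)
      rw [IsScalarTower.algebraMap_apply A B C, algebraMap_algEquiv]
  | n + 1, m, A, B, C, _, _, _, _, _, _, _, h, h' => by
      obtain ⟨a, inst, tower, hB⟩ := h
      letI := inst
      letI algRC : Algebra (RootRing p A a) C :=
        ((algebraMap B C).comp (algebraMap (RootRing p A a) B)).toAlgebra
      haveI : IsScalarTower (RootRing p A a) B C := IsScalarTower.of_algebraMap_eq (fun _ => rfl)
      haveI : IsScalarTower A (RootRing p A a) C := IsScalarTower.of_algebraMap_eq (fun x => by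
        change algebraMap A C x = algebraMap B C (algebraMap (RootRing p A a) B (algebraMap A _ x))
        rw [← IsScalarTower.algebraMap_apply A (RootRing p A a) B,
          ← IsScalarTower.algebraMap_apply A B C])
      exact ⟨a, algRC, inferInstance, isRootTower_trans p n m _ B C hB h'⟩

/-- the Frobenius-type section of a root tower in characteristic `p` -/
theorem exists_psi (p : ℕ) [Fact p.Prime] : ∀ (n : ℕ) (A B : Type u) [CommRing A] [CommRing B]
    [Algebra A B] (_ : (p : A) = 0), IsRootTower p n A B →
    ∃ ψ : B →+* A, (∀ b, algebraMap A B (ψ b) = b ^ p ^ n) ∧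
      (∀ a, ψ (algebraMap A B a) = a ^ p ^ n)
  | 0, A, B, _, _, _, _, h => by
      obtain ⟨e⟩ := h
      refine ⟨(e : B →+* A), fun b => ?_, fun a => ?_⟩
      · rw [pow_zero, pow_one]
        exact algebraMap_algEquiv e b
      · rw [pow_zero, pow_one]
        exact e.commutes a
  | n + 1, A, B, _, _, _, hpA, h => by
      obtain ⟨a, inst, tower, hB⟩ := h
      letI := inst
      have hpR : (p : RootRing p A a) = 0 := by
        have := congrArg (algebraMap A (RootRing p A a)) hpA
        simpa using this
      obtain ⟨ψ', h1, h2⟩ := exists_psi p n (RootRing p A a) B hpR hB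
      let ψ₁ : RootRing p A a →+* A :=
        AdjoinRoot.lift (FrobSch.powHom p A hpA) a (by
          simp [eval₂_sub, eval₂_pow])
      have hψ₁of : ∀ c : A, ψ₁ (AdjoinRoot.of _ c) = c ^ p := fun c => by
        simp [ψ₁]
      have hψ₁root : ψ₁ (AdjoinRoot.root _) = a := by
        simp [ψ₁]
      have hroot : (AdjoinRoot.root (X ^ p - C a : A[X])) ^ p = AdjoinRoot.of _ a := by
        have := AdjoinRoot.eval₂_root (X ^ p - C a : A[X])
        rw [eval₂_sub, eval₂_pow, eval₂_X, eval₂_C, sub_eq_zero] at this
        exact this
      have hcomp : (AdjoinRoot.of (X ^ p - C a : A[X])).comp ψ₁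
          = FrobSch.powHom p (RootRing p A a) hpR := by
        apply AdjoinRoot.ringHom_ext
        · ext c
          simp [hψ₁of]
        · simp [hψ₁root, hroot]
      have hkey : ∀ r : RootRing p A a, AdjoinRoot.of _ (ψ₁ r) = r ^ p := fun r => by
        have := congrArg (fun φ => φ r) hcomp
        simpa using this
      refine ⟨ψ₁.comp ψ', fun b => ?_, fun c => ?_⟩
      · change algebraMap A B (ψ₁ (ψ' b)) = _
        rw [IsScalarTower.algebraMap_apply A (RootRing p A a) B]
        change algebraMap _ B (AdjoinRoot.of _ (ψ₁ (ψ' b))) = _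
        rw [hkey, map_pow, h1, ← pow_mul, ← pow_succ]
      · change ψ₁ (ψ' (algebraMap A B c)) = _
        rw [IsScalarTower.algebraMap_apply A (RootRing p A a) B, h2, map_pow]
        change (ψ₁ (AdjoinRoot.of _ c)) ^ p ^ n = _
        rw [hψ₁of, ← pow_mul, ← pow_succ']

end Groth.Agent.Helper8.QuietComp
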