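import Mathlib
import Groth.Prelude.Def_W4c2gaugesfzipsQuiet
import Groth.Prelude.Def_Frob
import Groth.Agent.Lead.QuietD
import Groth.Agent.Helper8.QuietCompA
import Groth.Agent.Helper8.PerfModelA

/-!
# Helper8: scheme-level lemmas on `p`-th root morphisms: restriction of towers, Frobenius section,
surjectivity, composition
-/

set_option autoImplicit false
set_option linter.style.haveILetI false
universe u
open CategoryTheory Limits AlgebraicGeometry TensorProduct FrobSch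

namespace Groth.Agent.Helper8.QuietComp

open Quiet Groth.Agent.Lead.QuietBC Groth.Agent.Helper8.PerfModel

/-- precise form of base change of root towers (after `Lead.QuietBC.isPthRoot_of_isPullback`) -/
theorem tower_restrict (p : ℕ) {V Z T P : Scheme.{u}} (r : V ⟶ Z) (h : T ⟶ Z)
    (h' : P ⟶ V) (r' : P ⟶ T) (H : IsPullback h' r' r h) (U : Z.Opens) (hU : IsAffineOpen U)
    (hUaff : IsAffineOpen (r ⁻¹ᵁ U)) (n : ℕ)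
    (hn : letI := (r.app U).hom.toAlgebra; IsRootTower p n Γ(Z, U) Γ(V, r ⁻¹ᵁ U))
    (W : T.Opens) (hW : IsAffineOpen W) (hWU : W ≤ h ⁻¹ᵁ U) :
    IsAffineOpen (r' ⁻¹ᵁ W) ∧
      (letI := (r'.app W).hom.toAlgebra; IsRootTower p n Γ(T, W) Γ(P, r' ⁻¹ᵁ W)) := by
  have hUY : r' ⁻¹ᵁ W = h' ⁻¹ᵁ (r ⁻¹ᵁ U) ⊓ r' ⁻¹ᵁ W := by
    refine (inf_eq_right.mpr ?_).symm
    calc r' ⁻¹ᵁ W ≤ r' ⁻¹ᵁ (h ⁻¹ᵁ U) := r'.preimage_mono hWU
      _ = h' ⁻¹ᵁ (r ⁻¹ᵁ U) := by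
        rw [← Scheme.Hom.comp_preimage, ← Scheme.Hom.comp_preimage, H.w]
  have hUSX : r ⁻¹ᵁ U ≤ r ⁻¹ᵁ U := le_rfl
  have hiso := isIso_pushoutSection_of_isAffineOpen H hWU hUSX hUY hU hW hUaff
  have hpush := (isIso_pushoutSection_iff H hWU hUSX hUY).mp hiso
  have hWaff : IsAffineOpen (r' ⁻¹ᵁ W) := by
    haveI : IsAffine (U : Scheme.{u}) := hU
    haveI : IsAffine (W : Scheme.{u}) := hW
    haveI : IsAffine ((r ⁻¹ᵁ U : V.Opens) : Scheme.{u}) := hUaff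
    exact .of_isIso (Scheme.Hom.isPullback_resLE H hWU hUSX hUY).isoPullback.hom
  refine ⟨hWaff, ?_⟩
  -- algebra structures
  letI algAB : Algebra Γ(Z, U) Γ(V, r ⁻¹ᵁ U) := (r.app U).hom.toAlgebra
  letI algAA' : Algebra Γ(Z, U) Γ(T, W) := (h.appLE U W hWU).hom.toAlgebra
  letI algA'S : Algebra Γ(T, W) Γ(P, r' ⁻¹ᵁ W) := (r'.app W).hom.toAlgebra
  letI algBS : Algebra Γ(V, r ⁻¹ᵁ U) Γ(P, r' ⁻¹ᵁ W) :=
    (h'.appLE (r ⁻¹ᵁ U) (r' ⁻¹ᵁ W) (by rw [hUY]; exact inf_le_left)).hom.toAlgebra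
  letI algAS : Algebra Γ(Z, U) Γ(P, r' ⁻¹ᵁ W) :=
    ((r'.app W).hom.comp (h.appLE U W hWU).hom).toAlgebra
  haveI : IsScalarTower Γ(Z, U) Γ(T, W) Γ(P, r' ⁻¹ᵁ W) :=
    IsScalarTower.of_algebraMap_eq (fun _ => rfl)
  have hpush' : IsPushout (r.app U) (h.appLE U W hWU)
      (h'.appLE (r ⁻¹ᵁ U) (r' ⁻¹ᵁ W) (by rw [hUY]; exact inf_le_left)) (r'.app W) := by
    have := hpush
    rwa [Scheme.Hom.appLE_eq_app, Scheme.Hom.appLE_eq_app] at this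
  haveI : IsScalarTower Γ(Z, U) Γ(V, r ⁻¹ᵁ U) Γ(P, r' ⁻¹ᵁ W) :=
    IsScalarTower.of_algebraMap_eq (fun x => by
      have := congrArg (fun φ => φ.hom x) hpush'.w
      simp only [CommRingCat.hom_comp, RingHom.comp_apply] at this
      exact this.symm)
  have hP : Algebra.IsPushout Γ(Z, U) Γ(T, W) Γ(V, r ⁻¹ᵁ U) Γ(P, r' ⁻¹ᵁ W) := by
    rw [← CommRingCat.isPushout_iff_isPushout]
    exact hpush'.flip
  have hT := isRootTower_baseChange p n Γ(Z, U) Γ(V, r ⁻¹ᵁ U) Γ(T, W) hn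
  exact isRootTower_of_algEquiv p n _ _ _
    (Algebra.IsPushout.equiv Γ(Z, U) Γ(T, W) Γ(V, r ⁻¹ᵁ U) Γ(P, r' ⁻¹ᵁ W)) hT

variable (p : ℕ) [Fact p.Prime]

theorem frobPow_appTop (U : Scheme.{u}) [IsCharP U p] (n : ℕ) (s : Γ(U, ⊤)) :
    (frobPow p U n).appTop s = s ^ p ^ n := by
  induction n with
  | zero => simp
  | succ k ih =>
    rw [frobPow_succ, Scheme.Hom.comp_appTop]
    change (frob U p).appTop ((frobPow p U k).appTop s) = _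
    rw [ih, frob_appTop, ← pow_mul, ← pow_succ]

theorem frobPow_apply (U : Scheme.{u}) [IsCharP U p] (n : ℕ) (x : U) :
    frobPow p U n x = x := by
  induction n with
  | zero => simp
  | succ k ih =>
    rw [frobPow_succ, Scheme.Hom.comp_apply, frob_apply, ih]

/-- a root tower between affine schemes of characteristic `p` admits a Frobenius section -/
theorem exists_section {V₀ U : Scheme.{u}} [IsAffine V₀] [IsAffine U] [IsCharP U p] [IsCharP V₀ p]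
    (r₀ : V₀ ⟶ U) (n : ℕ)
    (hn : letI := (r₀.app ⊤).hom.toAlgebra; IsRootTower p n Γ(U, ⊤) Γ(V₀, r₀ ⁻¹ᵁ ⊤)) :
    ∃ s₀ : U ⟶ V₀, s₀ ≫ r₀ = frobPow p U n ∧ r₀ ≫ s₀ = frobPow p V₀ n := by
  letI := (r₀.app ⊤).hom.toAlgebra
  obtain ⟨ψ, h1, h2⟩ := exists_psi p n Γ(U, ⊤) Γ(V₀, r₀ ⁻¹ᵁ ⊤) IsCharP.natCast_eq_zero hn
  let ψ' : Γ(V₀, ⊤) ⟶ Γ(U, ⊤) := CommRingCat.ofHom ψ
  obtain ⟨s₀, hs₀def⟩ : ∃ s₀ : U ⟶ V₀, s₀ = U.toSpecΓ ≫ Spec.map ψ' ≫ V₀.isoSpec.inv := ⟨_, rfl⟩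
  have hs₀ : s₀.appTop = ψ' := by
    have e1 : s₀ ≫ V₀.toSpecΓ = U.toSpecΓ ≫ Spec.map ψ' := by
      rw [hs₀def, Category.assoc, Category.assoc, Scheme.isoSpec_inv_toSpecΓ, Category.comp_id]
    rw [Scheme.toSpecΓ_naturality, cancel_epi] at e1
    exact Spec.map_injective e1
  refine ⟨s₀, ?_, ?_⟩
  · apply ext_of_isAffine
    rw [Scheme.Hom.comp_appTop, hs₀]
    ext x
    change ψ (r₀.appTop x) = (frobPow p U n).appTop x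
    rw [frobPow_appTop]
    exact h2 x
  · apply ext_of_isAffine
    rw [Scheme.Hom.comp_appTop, hs₀]
    ext b
    change r₀.appTop (ψ b) = (frobPow p V₀ n).appTop b
    rw [frobPow_appTop]
    exact h1 b

/-- `p`-th root morphisms over a base of characteristic `p` are surjective -/
theorem IsPthRoot.surjective {X Y : Scheme.{u}} [IsCharP X p] (f : Y ⟶ X) (hf : IsPthRoot p f)
    (x : X) : ∃ y : Y, f y = x := by
  haveI : IsCharP Y p := IsCharP.of_hom f p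
  obtain ⟨U₁, hxU₁, hU₁aff, n, hn⟩ := hf x
  haveI : IsAffine (U₁.1 : Scheme.{u}) := U₁.2
  haveI : IsAffine ((f ⁻¹ᵁ U₁.1 : Y.Opens) : Scheme.{u}) := hU₁aff
  haveI : IsCharP (U₁.1 : Scheme.{u}) p := IsCharP.of_hom U₁.1.ι p
  haveI : IsCharP ((f ⁻¹ᵁ U₁.1 : Y.Opens) : Scheme.{u}) p := IsCharP.of_hom (f ⁻¹ᵁ U₁.1).ι p
  obtain ⟨-, hT⟩ := tower_restrict p f U₁.1.ι (f ⁻¹ᵁ U₁.1).ι (f ∣_ U₁.1)
    (isPullback_morphismRestrict f U₁.1).flip U₁.1 U₁.2 hU₁aff n hn ⊤ (isAffineOpen_top _)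
    (by simp)
  obtain ⟨s₀, hs1, -⟩ := exists_section p (f ∣_ U₁.1) n hT
  refine ⟨(f ⁻¹ᵁ U₁.1).ι (s₀ ⟨x, hxU₁⟩), ?_⟩
  rw [← Scheme.Hom.comp_apply, ← morphismRestrict_ι, Scheme.Hom.comp_apply,
    ← Scheme.Hom.comp_apply s₀, hs1, frobPow_apply]
  rfl

/-- composition of `p`-th root morphisms over a base of characteristic `p` -/
theorem isPthRoot_comp {X Y Z : Scheme.{u}} [IsCharP X p] (f : Y ⟶ X)
    (g : Z ⟶ Y) (hf : IsPthRoot p f) (hg : IsPthRoot p g) : IsPthRoot p (g ≫ f) := by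
  intro x
  obtain ⟨y, rfl⟩ := IsPthRoot.surjective p f hf x
  obtain ⟨U₁, hxU₁, hU₁aff, n, hn⟩ := hf (f y)
  obtain ⟨U₂, hyU₂, hU₂aff, m, hm⟩ := hg y
  obtain ⟨b₁, b₂, hb, hyb⟩ := exists_basicOpen_le_affine_inter hU₁aff U₂.2 y ⟨hxU₁, hyU₂⟩
  letI algf := (f.app U₁.1).hom.toAlgebra
  obtain ⟨ψ, h1, -⟩ := exists_psi p n Γ(X, U₁.1) Γ(Y, f ⁻¹ᵁ U₁.1) (natCast_eq_zero_app X p U₁.1) hn
  obtain ⟨a, ha⟩ : ∃ a, a = ψ b₁ := ⟨_, rfl⟩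
  have hpre : f ⁻¹ᵁ (X.basicOpen a) = Y.basicOpen b₁ := by
    rw [Scheme.preimage_basicOpen]
    have h2 : (f.app U₁.1).hom a = b₁ ^ p ^ n := by rw [ha]; exact h1 b₁
    rw [h2, Scheme.basicOpen_pow Y b₁ (pow_pos (Fact.out : p.Prime).pos n)]
  have hU₃aff : IsAffineOpen (X.basicOpen a) := U₁.2.basicOpen a
  have hU₃le : X.basicOpen a ≤ U₁.1 := X.basicOpen_le a
  have hxU₃ : f y ∈ X.basicOpen a := by
    change y ∈ f ⁻¹ᵁ (X.basicOpen a)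
    rw [hpre]
    exact hyb
  obtain ⟨hA1, hT1⟩ := tower_restrict p f (𝟙 X) (𝟙 Y) f (IsPullback.of_horiz_isIso ⟨by simp⟩)
    U₁.1 U₁.2 hU₁aff n hn (X.basicOpen a) hU₃aff (by simpa using hU₃le)
  have hle2 : f ⁻¹ᵁ (X.basicOpen a) ≤ U₂.1 := by
    rw [hpre, hb]
    exact Y.basicOpen_le b₂
  obtain ⟨hA2, hT2⟩ := tower_restrict p g (𝟙 Y) (𝟙 Z) g (IsPullback.of_horiz_isIso ⟨by simp⟩)
    U₂.1 U₂.2 hU₂aff m hm (f ⁻¹ᵁ (X.basicOpen a)) hA1 (by simpa using hle2)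
  refine ⟨⟨X.basicOpen a, hU₃aff⟩, hxU₃, hA2, m + n, ?_⟩
  letI algAB : Algebra Γ(X, X.basicOpen a) Γ(Y, f ⁻¹ᵁ X.basicOpen a) :=
    (f.app (X.basicOpen a)).hom.toAlgebra
  letI algBC : Algebra Γ(Y, f ⁻¹ᵁ X.basicOpen a) Γ(Z, g ⁻¹ᵁ (f ⁻¹ᵁ X.basicOpen a)) :=
    (g.app (f ⁻¹ᵁ X.basicOpen a)).hom.toAlgebra
  letI algAC : Algebra Γ(X, X.basicOpen a) Γ(Z, g ⁻¹ᵁ (f ⁻¹ᵁ X.basicOpen a)) :=
    ((g ≫ f).app (X.basicOpen a)).hom.toAlgebra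
  haveI : IsScalarTower Γ(X, X.basicOpen a) Γ(Y, f ⁻¹ᵁ X.basicOpen a)
      Γ(Z, g ⁻¹ᵁ (f ⁻¹ᵁ X.basicOpen a)) :=
    IsScalarTower.of_algebraMap_eq (fun _ => rfl)
  have key := isRootTower_trans p n m Γ(X, X.basicOpen a) Γ(Y, f ⁻¹ᵁ X.basicOpen a)
    Γ(Z, g ⁻¹ᵁ (f ⁻¹ᵁ X.basicOpen a)) hT1 hT2
  exact key

end Groth.Agent.Helper8.QuietComp
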