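import Mathlib
import Groth.Prelude.Def_W4c2gaugesfzipsQuiet
import Groth.Prelude.Def_Frob
import Groth.Agent.Helper8.QuietCompB
import Groth.Agent.Helper5.FrobUH2
import Groth.Agent.Helper5.UnivHomeo1

/-!
# Helper8: composition of quasi-etale morphisms
-/

set_option autoImplicit false
set_option linter.style.haveILetI false
universe u
open CategoryTheory Limits AlgebraicGeometry TensorProduct FrobSch MorphismProperty

namespace Groth.Agent.Helper8.QuietComp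

open Quiet Groth.Agent.Lead.QuietBC Groth.Agent.Helper8.PerfModel

/-- An étale, universally injective, surjective morphism is an isomorphism
(as in `Helper7.Perf.isIso_of_etale_of_universallyInjective`). -/
theorem isIso_of_etale_of_universallyInjective {X Y : Scheme.{u}} (h : X ⟶ Y) [Etale h]
    [UniversallyInjective h] [Surjective h] : IsIso h := by
  have h1 : Surjective (pullback.diagonal h) := (UniversallyInjective.iff_diagonal h).1 ‹_›
  have h2 : IsOpenImmersion (pullback.diagonal h) := inferInstance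
  have h3 : IsIso (pullback.diagonal h) :=
    (isIso_iff_isOpenImmersion_and_surjective _).2 ⟨h2, h1⟩
  have h4 : Mono h := (pullback.isIso_diagonal_iff h).1 h3
  have h5 : IsOpenImmersion h := IsOpenImmersion.of_flat_of_mono h
  exact (isIso_iff_isOpenImmersion_and_surjective _).2 ⟨h5, ‹_›⟩

variable (p : ℕ) [Fact p.Prime]

/-- for an étale morphism in characteristic `p` the Frobenius square is cartesian -/
theorem isPullback_frob_of_etale {Z Y : Scheme.{u}} [IsCharP Y p] [IsCharP Z p] (e : Z ⟶ Y)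
    [Etale e] : IsPullback (frob Z p) e e (frob Y p) := by
  have h1 : Etale (pullback.snd e (frob Y p)) := inferInstance
  have h2 : Etale (relFrob e p) :=
    MorphismProperty.of_postcomp (W := @Etale) (W' := @Etale) (relFrob e p)
      (pullback.snd e (frob Y p)) h1 (by rw [relFrob_snd]; infer_instance)
  have h3 := (Groth.Agent.Helper5.FrobUH.s14930 p e).1
  rw [Groth.Agent.Helper5.UnivHomeo.isUnivHomeo_iff] at h3
  obtain ⟨-, h4, h5⟩ := h3
  haveI : IsIso (relFrob e p) := isIso_of_etale_of_universallyInjective (relFrob e p)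
  exact IsPullback.of_iso_pullback ⟨frob_comp p e⟩ (asIso (relFrob e p)) (relFrob_fst e p)
    (relFrob_snd e p)

theorem isPullback_frobPow_of_etale {Z Y : Scheme.{u}} [IsCharP Y p] [IsCharP Z p] (e : Z ⟶ Y)
    [Etale e] (n : ℕ) : IsPullback (frobPow p Z n) e e (frobPow p Y n) := by
  induction n with
  | zero =>
    rw [frobPow_zero, frobPow_zero]
    exact IsPullback.of_horiz_isIso ⟨by simp⟩
  | succ k ih =>
    rw [frobPow_succ, frobPow_succ]
    exact (isPullback_frob_of_etale p e).paste_horiz ih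

/-- descent of an étale scheme along a `p`-th root morphism with a Frobenius section -/
theorem core {Y Z' V₀ U₀ : Scheme.{u}} [IsCharP V₀ p] [IsCharP U₀ p] (e₂ : Z' ⟶ Y) [Etale e₂]
    (j : V₀ ⟶ Y) (r₀ : V₀ ⟶ U₀) (hr₀ : IsPthRoot p r₀) (s₀ : U₀ ⟶ V₀) (n : ℕ)
    (hs2 : r₀ ≫ s₀ = frobPow p V₀ n) :
    ∃ (Z'' : Scheme.{u}) (ρ : pullback e₂ j ⟶ Z'') (e'' : Z'' ⟶ U₀),
      IsPthRoot p ρ ∧ Etale e'' ∧ ρ ≫ e'' = pullback.snd e₂ j ≫ r₀ := by
  haveI : IsCharP (pullback e₂ j) p := IsCharP.of_hom (pullback.snd e₂ j) p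
  have hFP := isPullback_frobPow_of_etale p (pullback.snd e₂ j) n
  have hw : frobPow p (pullback e₂ j) n ≫ pullback.snd e₂ j
      = (pullback.snd e₂ j ≫ r₀) ≫ s₀ := by
    rw [Category.assoc, hs2, frobPow_comp]
  obtain ⟨ρ, hρ⟩ : ∃ ρ, ρ = pullback.lift (frobPow p (pullback e₂ j) n)
    (pullback.snd e₂ j ≫ r₀) hw := ⟨_, rfl⟩
  have h1 : ρ ≫ pullback.fst (pullback.snd e₂ j) s₀ = frobPow p (pullback e₂ j) n := by
    rw [hρ, pullback.lift_fst]
  have h2 : ρ ≫ pullback.snd (pullback.snd e₂ j) s₀ = pullback.snd e₂ j ≫ r₀ := by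
    rw [hρ, pullback.lift_snd]
  refine ⟨pullback (pullback.snd e₂ j) s₀, ρ, pullback.snd _ _, ?_, inferInstance, h2⟩
  have right : IsPullback (pullback.fst (pullback.snd e₂ j) s₀)
      (pullback.snd (pullback.snd e₂ j) s₀) (pullback.snd e₂ j) s₀ := IsPullback.of_hasPullback _ _
  have outer : IsPullback (ρ ≫ pullback.fst (pullback.snd e₂ j) s₀) (pullback.snd e₂ j)
      (pullback.snd e₂ j) (r₀ ≫ s₀) := by
    rw [h1, hs2]
    exact hFP
  have left : IsPullback ρ (pullback.snd e₂ j) (pullback.snd (pullback.snd e₂ j) s₀) r₀ :=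
    IsPullback.of_right outer h2 right
  exact isPthRoot_of_isPullback p r₀ (pullback.snd _ s₀) (pullback.snd e₂ j) ρ left.flip hr₀

/-- restriction of a `p`-th root morphism from an open subscheme to an open of the target,
realised again on an open subscheme -/
theorem open_part {Z Z' Z'₀ : Scheme.{u}} (W : Z.Opens) (r₂ : (W : Scheme.{u}) ⟶ Z')
    (hr₂ : IsPthRoot p r₂) (i : Z'₀ ⟶ Z') [IsOpenImmersion i] (z' : (W : Scheme.{u}))
    (hz : r₂ z' ∈ Set.range i) :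
    ∃ (W₁ : Z.Opens) (k : (W₁ : Scheme.{u}) ⟶ Z'₀) (ι' : (W₁ : Scheme.{u}) ⟶ (W : Scheme.{u})),
      IsPthRoot p k ∧ W.ι z' ∈ W₁ ∧ ι' ≫ W.ι = W₁.ι ∧ k ≫ i = ι' ≫ r₂ := by
  obtain ⟨t, ht⟩ := hz
  obtain ⟨q, hq1, hq2⟩ := Scheme.Pullback.exists_preimage_pullback (f := r₂) (g := i) z' t ht.symm
  obtain ⟨kk, hkk⟩ : ∃ kk : pullback r₂ i ⟶ Z, kk = pullback.fst r₂ i ≫ W.ι := ⟨_, rfl⟩
  haveI : IsOpenImmersion kk := by rw [hkk]; infer_instance
  refine ⟨kk.opensRange, kk.isoOpensRange.inv ≫ pullback.snd r₂ i,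
    kk.isoOpensRange.inv ≫ pullback.fst r₂ i, ?_, ?_, ?_, ?_⟩
  · have H : IsPullback (kk.isoOpensRange.inv ≫ pullback.fst r₂ i)
        (kk.isoOpensRange.inv ≫ pullback.snd r₂ i) r₂ i :=
      IsPullback.of_iso_pullback
        ⟨by rw [Category.assoc, Category.assoc, pullback.condition]⟩ kk.isoOpensRange.symm
        (by simp) (by simp)
    exact isPthRoot_of_isPullback p r₂ i _ _ H hr₂
  · refine ⟨q, ?_⟩
    rw [hkk, Scheme.Hom.comp_apply, hq1]
  · rw [Category.assoc, ← hkk]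
    exact kk.isoOpensRange_inv_comp
  · rw [Category.assoc, Category.assoc, pullback.condition]

/-- composition of quasi-etale morphisms -/
theorem main {X Y Z : Scheme.{u}} [IsCharP X p] (f : Y ⟶ X) (g : Z ⟶ Y)
    (hf : IsQuiet p f) (hg : IsQuiet p g) : IsQuiet p (g ≫ f) := by
  intro z
  obtain ⟨W, Z', r₂, e₂, hzW, hr₂, he₂, hre₂⟩ := hg z
  obtain ⟨V, Y', r, e, hyV, hr, he, hre⟩ := hf (g z)
  haveI := he₂
  haveI := he
  haveI : IsCharP Y p := IsCharP.of_hom f p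
  haveI : IsCharP Y' p := IsCharP.of_hom e p
  obtain ⟨U, hrU, hV₀aff, n, hn⟩ := hr (r ⟨g z, hyV⟩)
  haveI : IsAffine (U.1 : Scheme.{u}) := U.2
  haveI : IsAffine ((r ⁻¹ᵁ U.1 : (V : Scheme.{u}).Opens) : Scheme.{u}) := hV₀aff
  haveI : IsCharP (U.1 : Scheme.{u}) p := IsCharP.of_hom U.1.ι p
  haveI : IsCharP ((r ⁻¹ᵁ U.1 : (V : Scheme.{u}).Opens) : Scheme.{u}) p :=
    IsCharP.of_hom ((r ⁻¹ᵁ U.1).ι ≫ r) p
  have Hres : IsPullback (r ⁻¹ᵁ U.1).ι (r ∣_ U.1) r U.1.ι :=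
    (isPullback_morphismRestrict r U.1).flip
  obtain ⟨-, hT⟩ := tower_restrict p r U.1.ι (r ⁻¹ᵁ U.1).ι (r ∣_ U.1) Hres U.1 U.2 hV₀aff n hn ⊤
    (isAffineOpen_top _) (by simp)
  obtain ⟨s₀, hs1, hs2⟩ := exists_section p (r ∣_ U.1) n hT
  have hr₀ : IsPthRoot p (r ∣_ U.1) := isPthRoot_of_isPullback p r U.1.ι _ _ Hres hr
  obtain ⟨j, hj⟩ : ∃ j : ((r ⁻¹ᵁ U.1 : (V : Scheme.{u}).Opens) : Scheme.{u}) ⟶ Y,
    j = (r ⁻¹ᵁ U.1).ι ≫ V.ι := ⟨_, rfl⟩
  haveI : IsOpenImmersion j := by rw [hj]; infer_instance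
  obtain ⟨Z'', ρ, e'', hρ, he'', hρe⟩ := core p e₂ j (r ∣_ U.1) hr₀ s₀ n hs2
  haveI := he''
  -- the point
  have hpt : r₂ ⟨z, hzW⟩ ∈ Set.range (pullback.fst e₂ j) := by
    have hjv : e₂ (r₂ ⟨z, hzW⟩) = j ⟨⟨g z, hyV⟩, hrU⟩ := by
      rw [← Scheme.Hom.comp_apply, hre₂, hj]
      rfl
    obtain ⟨q, hq1, -⟩ := Scheme.Pullback.exists_preimage_pullback (f := e₂) (g := j) _ _ hjv
    exact ⟨q, hq1⟩
  obtain ⟨W₁, k, ι', hk, hzW₁, hι', hki⟩ :=
    open_part p W r₂ hr₂ (pullback.fst e₂ j) ⟨z, hzW⟩ hpt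
  haveI : IsCharP Z'' p := IsCharP.of_hom (e'' ≫ U.1.ι) p
  refine ⟨W₁, Z'', k ≫ ρ, e'' ≫ U.1.ι ≫ e, hzW₁, isPthRoot_comp p ρ k hρ hk, inferInstance, ?_⟩
  calc (k ≫ ρ) ≫ e'' ≫ U.1.ι ≫ e
      = k ≫ (ρ ≫ e'') ≫ U.1.ι ≫ e := by simp only [Category.assoc]
    _ = k ≫ pullback.snd e₂ j ≫ ((r ∣_ U.1) ≫ U.1.ι) ≫ e := by
        rw [hρe]; simp only [Category.assoc]
    _ = k ≫ pullback.snd e₂ j ≫ (r ⁻¹ᵁ U.1).ι ≫ (r ≫ e) := by
        rw [morphismRestrict_ι]; simp only [Category.assoc]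
    _ = k ≫ (pullback.snd e₂ j ≫ j) ≫ f := by
        have hjf : j ≫ f = (r ⁻¹ᵁ U.1).ι ≫ V.ι ≫ f := by rw [hj, Category.assoc]
        rw [hre]; simp only [Category.assoc, hjf]
    _ = (k ≫ pullback.fst e₂ j) ≫ e₂ ≫ f := by
        rw [← pullback.condition]; simp only [Category.assoc]
    _ = ι' ≫ (r₂ ≫ e₂) ≫ f := by
        rw [hki]; simp only [Category.assoc]
    _ = (ι' ≫ W.ι) ≫ g ≫ f := by
        rw [hre₂]; simp only [Category.assoc]
    _ = W₁.ι ≫ g ≫ f := by rw [hι']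

end Groth.Agent.Helper8.QuietComp
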