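import Mathlib
import Groth.Prelude.Def_W4c2gaugesfzipsQuiet
import Groth.Agent.Lead.QuietB
import Groth.Agent.Helper8.QuietCompA

/-!
# Helper8: lifting root towers along a surjection of base rings (with pushout square)
-/

set_option autoImplicit false
set_option linter.style.haveILetI false
universe u
open Polynomial CategoryTheory Limits

namespace Groth.Agent.Helper8.QuietThick

open Quiet Groth.Agent.Lead.QuietBC Groth.Agent.Helper8.QuietComp

/-- change of (propositionally equal) algebra structure -/
theorem isRootTower_congr_alg (p n : ℕ) {A B : Type u} [CommRing A] [CommRing B]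
    (inst1 inst2 : Algebra A B)
    (h : ∀ a, @algebraMap A B _ _ inst1 a = @algebraMap A B _ _ inst2 a)
    (H : @IsRootTower p n A B _ _ inst1) : @IsRootTower p n A B _ _ inst2 :=
  @isRootTower_of_ringEquiv p n A B A B _ _ _ _ inst1 inst2 (RingEquiv.refl A) (RingEquiv.refl B)
    (fun a => h a) H

section BC

variable (p : ℕ) {A : Type u} [CommRing A] (a : A) (A' : Type u) [CommRing A'] [Algebra A A']

theorem root_pow : (AdjoinRoot.root (X ^ p - C a : A[X])) ^ p = AdjoinRoot.of _ a := by
  have := AdjoinRoot.eval₂_root (X ^ p - C a : A[X])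
  rw [eval₂_sub, eval₂_pow, eval₂_X, eval₂_C, sub_eq_zero] at this
  exact this

theorem theta_surjective (hs : Function.Surjective (algebraMap A A')) :
    Function.Surjective (theta p a A') := by
  intro y
  induction y using AdjoinRoot.induction_on with
  | ih q =>
    obtain ⟨q', rfl⟩ := Polynomial.map_surjective (algebraMap A A') hs q
    refine ⟨AdjoinRoot.mk _ q', ?_⟩
    induction q' using Polynomial.induction_on' with
    | add f g hf hg => simp only [map_add, Polynomial.map_add, hf, hg]
    | monomial k c =>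
      rw [← C_mul_X_pow_eq_monomial]
      simp only [map_mul, map_pow, Polynomial.map_mul, Polynomial.map_pow, Polynomial.map_C,
        Polynomial.map_X, AdjoinRoot.mk_C, AdjoinRoot.mk_X, theta_of, theta_root]

/-- base change of an elementary root extraction, as a pushout square of rings -/
theorem isPushout_rootRing :
    IsPushout (CommRingCat.ofHom (algebraMap A A'))
      (CommRingCat.ofHom (AdjoinRoot.of (X ^ p - C a : A[X])))
      (CommRingCat.ofHom (AdjoinRoot.of (X ^ p - C (algebraMap A A' a) : A'[X])))
      (CommRingCat.ofHom (theta p a A')) := by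
  have w : CommRingCat.ofHom (algebraMap A A') ≫
      CommRingCat.ofHom (AdjoinRoot.of (X ^ p - C (algebraMap A A' a) : A'[X])) =
      CommRingCat.ofHom (AdjoinRoot.of (X ^ p - C a : A[X])) ≫
        CommRingCat.ofHom (theta p a A') := by
    ext x
    simp
  have hcond : ∀ (s : PushoutCocone (CommRingCat.ofHom (algebraMap A A'))
      (CommRingCat.ofHom (AdjoinRoot.of (X ^ p - C a : A[X])))) (x : A),
      s.inl.hom (algebraMap A A' x) = s.inr.hom (AdjoinRoot.of _ x) := fun s x => by
    have := congrArg (fun φ => φ.hom x) s.condition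
    exact this
  have hev : ∀ (s : PushoutCocone (CommRingCat.ofHom (algebraMap A A'))
      (CommRingCat.ofHom (AdjoinRoot.of (X ^ p - C a : A[X])))),
      (X ^ p - C (algebraMap A A' a) : A'[X]).eval₂ s.inl.hom
        (s.inr.hom (AdjoinRoot.root (X ^ p - C a : A[X]))) = 0 := fun s => by
    rw [eval₂_sub, eval₂_pow, eval₂_X, eval₂_C, hcond, ← map_pow, root_pow, sub_self]
  refine IsPushout.of_isColimit (PushoutCocone.IsColimit.mk w
    (fun s => CommRingCat.ofHom (AdjoinRoot.lift s.inl.hom
      (s.inr.hom (AdjoinRoot.root (X ^ p - C a : A[X]))) (hev s))) ?_ ?_ ?_)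
  · intro s
    ext x
    simp
  · intro s
    ext x
    · simp [hcond]
    · simp
  · intro s m h1 h2
    ext x
    · have := congrArg (fun φ => φ.hom x) h1
      simpa using this
    · have := congrArg (fun φ => φ.hom (AdjoinRoot.root (X ^ p - C a : A[X]))) h2
      simpa using this

end BC

/-- lifting a root tower along a surjection of base rings, with a pushout square -/
theorem exists_lift_tower (p : ℕ) : ∀ (n : ℕ) (At A₀ B₀ : Type u) [CommRing At] [CommRing A₀]
    [CommRing B₀] (π : At →+* A₀) (ι₀ : A₀ →+* B₀) (_ : Function.Surjective π)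
    (_ : letI := ι₀.toAlgebra; IsRootTower p n A₀ B₀),
    ∃ (Bt : Type u) (_ : CommRing Bt) (ιt : At →+* Bt) (π' : Bt →+* B₀),
      (letI := ιt.toAlgebra; IsRootTower p n At Bt) ∧
      IsPushout (CommRingCat.ofHom π) (CommRingCat.ofHom ιt) (CommRingCat.ofHom ι₀)
        (CommRingCat.ofHom π')
  | 0, At, A₀, B₀, _, _, _, π, ι₀, hπ, h => by
      letI := ι₀.toAlgebra
      obtain ⟨e⟩ := h
      have hbij : Function.Bijective ι₀ := by
        have h1 : ∀ b, ι₀ (e b) = b := fun b => algebraMap_algEquiv e b
        have h2 : ∀ a, e (ι₀ a) = a := fun a => e.commutes a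
        exact ⟨fun x y hxy => by rw [← h2 x, ← h2 y, hxy], fun b => ⟨e b, h1 b⟩⟩
      haveI : IsIso (CommRingCat.ofHom ι₀) :=
        (ConcreteCategory.isIso_iff_bijective _).mpr hbij
      refine ⟨At, inferInstance, RingHom.id At, ι₀.comp π, ?_, ?_⟩
      · exact ⟨{ (RingEquiv.refl At) with commutes' := fun _ => rfl }⟩
      · haveI : IsIso (CommRingCat.ofHom (RingHom.id At)) :=
          inferInstanceAs (IsIso (𝟙 (CommRingCat.of At)))
        exact IsPushout.of_vert_isIso ⟨by ext x; rfl⟩
  | n + 1, At, A₀, B₀, _, _, _, π, ι₀, hπ, h => by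
      letI algA₀B₀ := ι₀.toAlgebra
      obtain ⟨a₀, inst, tower, hB⟩ := h
      obtain ⟨at', rfl⟩ := hπ a₀
      letI algπ : Algebra At A₀ := π.toAlgebra
      have hθ : Function.Surjective (theta p at' A₀) := theta_surjective p at' A₀ hπ
      have hB' : @IsRootTower p n (RootRing p A₀ (algebraMap At A₀ at')) B₀ _ _
          (@algebraMap _ B₀ _ _ inst).toAlgebra :=
        isRootTower_congr_alg p n inst _ (fun _ => rfl) hB
      obtain ⟨Bt, instBt, ιt', π', hT, hP⟩ := exists_lift_tower p n (RootRing p At at')
        (RootRing p A₀ (algebraMap At A₀ at')) B₀ (theta p at' A₀) (@algebraMap _ B₀ _ _ inst) hθ hB'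
      refine ⟨Bt, instBt, ιt'.comp (AdjoinRoot.of _), π', ?_, ?_⟩
      · letI := (ιt'.comp (AdjoinRoot.of (X ^ p - C at' : At[X]))).toAlgebra
        letI algRB : Algebra (RootRing p At at') Bt := ιt'.toAlgebra
        exact ⟨at', algRB, IsScalarTower.of_algebraMap_eq (fun _ => rfl), hT⟩
      · have h1 := (isPushout_rootRing p at' A₀).paste_vert hP
        have e2 : CommRingCat.ofHom (AdjoinRoot.of (X ^ p - C (algebraMap At A₀ at') : A₀[X])) ≫
            CommRingCat.ofHom (@algebraMap _ B₀ _ _ inst) = CommRingCat.ofHom ι₀ := by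
          ext x
          exact (IsScalarTower.algebraMap_apply A₀ (RootRing p A₀ (algebraMap At A₀ at')) B₀ x).symm
        rw [e2] at h1
        exact h1

end Groth.Agent.Helper8.QuietThick
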