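import Mathlib
import Groth.Prelude.Def_W4c2gaugesfzipsQuiet
import Groth.Prelude.Def_Frob
import Groth.Agent.Lead.QuietD
import Groth.Agent.Helper8.QuietCompB
import Groth.Agent.Helper8.QuietThickA

/-!
# Helper8: lifting `p`-th root morphisms along a closed immersion (locally)
-/

set_option autoImplicit false
set_option linter.style.haveILetI false
universe u
open CategoryTheory Limits AlgebraicGeometry

namespace Groth.Agent.Helper8.QuietThick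

open Quiet Groth.Agent.Lead.QuietBC Groth.Agent.Helper8.QuietComp

/-- `Spec` of a root tower is a `p`-th root morphism -/
theorem isPthRoot_SpecMap (p : ℕ) {A B : Type u} [CommRing A] [CommRing B] (φ : A →+* B) (n : ℕ)
    (h : letI := φ.toAlgebra; IsRootTower p n A B) :
    IsPthRoot p (Spec.map (CommRingCat.ofHom φ)) := by
  intro x
  let hR : A ≃+* Γ(Spec (CommRingCat.of A), ⊤) :=
    (Scheme.ΓSpecIso (CommRingCat.of A)).symm.commRingCatIsoToRingEquiv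
  let hS : B ≃+* Γ(Spec (CommRingCat.of B), ⊤) :=
    (Scheme.ΓSpecIso (CommRingCat.of B)).symm.commRingCatIsoToRingEquiv
  have hnat : ∀ a : A, (Spec.map (CommRingCat.ofHom φ)).appTop (hR a) = hS (φ a) := by
    intro a
    have := congrArg (fun m => m.hom a)
      (Scheme.ΓSpecIso_inv_naturality (CommRingCat.ofHom φ))
    exact this.symm
  refine ⟨⟨⊤, isAffineOpen_top _⟩, trivial,
    (isAffineOpen_top _).preimage (Spec.map (CommRingCat.ofHom φ)), n, ?_⟩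
  letI := φ.toAlgebra
  letI : Algebra Γ(Spec (CommRingCat.of A), ⊤) Γ(Spec (CommRingCat.of B), ⊤) :=
    ((Spec.map (CommRingCat.ofHom φ)).appTop).hom.toAlgebra
  exact isRootTower_of_ringEquiv p n A B Γ(Spec (CommRingCat.of A), ⊤)
    Γ(Spec (CommRingCat.of B), ⊤) hR hS (fun a => (hnat a).symm) h

theorem isPthRoot_comp_iso (p : ℕ) {P T T' : Scheme.{u}} (f : P ⟶ T) (g : T ⟶ T') [IsIso g]
    (hf : IsPthRoot p f) : IsPthRoot p (f ≫ g) :=
  isPthRoot_of_isPullback p f (inv g) (𝟙 P) (f ≫ g) (IsPullback.of_horiz_isIso ⟨by simp⟩) hf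

theorem isPthRoot_iso_comp (p : ℕ) {P' P T : Scheme.{u}} (g : P' ⟶ P) [IsIso g] (f : P ⟶ T)
    (hf : IsPthRoot p f) : IsPthRoot p (g ≫ f) :=
  isPthRoot_of_isPullback p f (𝟙 T) g (g ≫ f) (IsPullback.of_horiz_isIso ⟨by simp⟩) hf

/-- local lifting of a `p`-th root morphism along a closed immersion of the target -/
theorem exists_lift_pthRoot (p : ℕ) {Y' Yt V₁ : Scheme.{u}} (i' : Y' ⟶ Yt) [IsClosedImmersion i']
    (r : V₁ ⟶ Y') (hr : IsPthRoot p r) (v : V₁) :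
    ∃ (V : V₁.Opens) (Ut : Yt.Opens) (T' : Scheme.{u}) (rt : T' ⟶ (Ut : Scheme.{u}))
      (j : (V : Scheme.{u}) ⟶ T'),
      v ∈ V ∧ IsPthRoot p rt ∧ IsPullback j (V.ι ≫ r) (rt ≫ Ut.ι) i' := by
  obtain ⟨U₀, hvU₀, hU₀aff, n, hn⟩ := hr (r v)
  obtain ⟨O, hO⟩ : ∃ O : Yt.Opens, i' ⁻¹ᵁ O = U₀.1 := by
    have hemb : Topology.IsInducing i' := i'.isClosedEmbedding.isInducing
    obtain ⟨O, hOopen, hOpre⟩ := hemb.isOpen_iff.mp U₀.1.2
    exact ⟨⟨O, hOopen⟩, TopologicalSpace.Opens.ext hOpre⟩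
  have hmemO : i' (r v) ∈ O := by
    have : r v ∈ i' ⁻¹ᵁ O := by rw [hO]; exact hvU₀
    exact this
  obtain ⟨Ut, hUtaff, hmemUt, hUtO⟩ :=
    exists_isAffineOpen_mem_and_subset (x := i' (r v)) (U := O) hmemO
  have hW₀aff : IsAffineOpen (i' ⁻¹ᵁ Ut) := hUtaff.preimage i'
  have hW₀le : i' ⁻¹ᵁ Ut ≤ U₀.1 := by
    rw [← hO]
    exact i'.preimage_mono hUtO
  obtain ⟨hVaff, hT⟩ := tower_restrict p r (𝟙 Y') (𝟙 V₁) r
    (IsPullback.of_horiz_isIso ⟨by simp⟩) U₀.1 U₀.2 hU₀aff n hn (i' ⁻¹ᵁ Ut) hW₀aff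
    (by simpa using hW₀le)
  obtain ⟨Bt, instBt, ιt, π', hTt, hP⟩ := exists_lift_tower p n Γ(Yt, Ut) Γ(Y', i' ⁻¹ᵁ Ut)
    Γ(V₁, r ⁻¹ᵁ (i' ⁻¹ᵁ Ut)) (i'.app Ut).hom (r.app (i' ⁻¹ᵁ Ut)).hom
    (i'.app_surjective Ut hUtaff) hT
  letI := instBt
  have hSpec := isPullback_SpecMap_of_isPushout _ _ _ _ hP
  have S2 : IsPullback (Spec.map (i'.app Ut)) hW₀aff.fromSpec hUtaff.fromSpec i' := by
    apply IsOpenImmersion.isPullback
    · have := IsAffineOpen.SpecMap_appLE_fromSpec i' hUtaff hW₀aff le_rfl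
      rw [Scheme.Hom.appLE_eq_app] at this  
      exact this.symm
    · rw [IsAffineOpen.opensRange_fromSpec, IsAffineOpen.opensRange_fromSpec]
  have hSpec' : IsPullback (Spec.map (CommRingCat.ofHom π')) (Spec.map (r.app (i' ⁻¹ᵁ Ut)))
      (Spec.map (CommRingCat.ofHom ιt)) (Spec.map (i'.app Ut)) := hSpec.flip
  have S12 := hSpec'.paste_vert S2
  have hVr : (r ⁻¹ᵁ (i' ⁻¹ᵁ Ut)).ι ≫ r
      = hVaff.isoSpec.hom ≫ Spec.map (r.app (i' ⁻¹ᵁ Ut)) ≫ hW₀aff.fromSpec := by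
    have := IsAffineOpen.SpecMap_appLE_fromSpec r hW₀aff hVaff le_rfl
    rw [Scheme.Hom.appLE_eq_app] at this  
    rw [this, IsAffineOpen.isoSpec_hom_fromSpec_assoc]
  refine ⟨r ⁻¹ᵁ (i' ⁻¹ᵁ Ut), Ut, Spec (CommRingCat.of Bt),
    Spec.map (CommRingCat.ofHom ιt) ≫ hUtaff.isoSpec.inv,
    hVaff.isoSpec.hom ≫ Spec.map (CommRingCat.ofHom π'), hmemUt,
    isPthRoot_comp_iso p _ _ (isPthRoot_SpecMap p ιt n hTt), ?_⟩
  rw [hVr, Category.assoc, IsAffineOpen.isoSpec_inv_ι]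
  exact IsPullback.of_iso S12 hVaff.isoSpec.symm (Iso.refl _) (Iso.refl _) (Iso.refl _)
    (by simp) (by simp) (by simp) (by simp)

end Groth.Agent.Helper8.QuietThick
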