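import Mathlib
import Groth.Prelude.Def_W4c2gaugesfzipsQuiet
import Groth.Prelude.Def_Frob
import Groth.Agent.Helper8.QuietThickB
import Groth.Agent.Helper5.TopInv6

/-!
# Helper8: quasi-etale schemes over a thickening lift locally
-/

set_option autoImplicit false
set_option linter.style.haveILetI false
universe u
open CategoryTheory Limits AlgebraicGeometry

namespace Groth.Agent.Helper8.QuietThick

open Quiet Groth.Agent.Lead.QuietBC

/-- a `p`-th root morphism followed by an étale morphism is quasi-etale -/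
theorem isQuiet_comp_etale (p : ℕ) {T' Y'' T : Scheme.{u}} (rt : T' ⟶ Y'') (e : Y'' ⟶ T) [Etale e]
    (hrt : IsPthRoot p rt) : IsQuiet p (rt ≫ e) := by
  intro t
  haveI : IsIso (⊤ : T'.Opens).ι := (inferInstance : IsIso (Scheme.topIso T').hom)
  exact ⟨⊤, Y'', (⊤ : T'.Opens).ι ≫ rt, e, trivial, isPthRoot_iso_comp p _ rt hrt, inferInstance,
    by rw [Category.assoc]⟩

theorem main (p : ℕ) {T U U' : Scheme.{u}} (i : U ⟶ T) [IsClosedImmersion i] [Surjective i]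
    (f' : U' ⟶ U) (hf' : IsQuiet p f') (u : U') :
    ∃ (V : U'.Opens) (T' : Scheme.{u}) (q : T' ⟶ T) (j : (V : Scheme.{u}) ⟶ T'),
      u ∈ V ∧ IsQuiet p q ∧ IsPullback j (V.ι ≫ f') q i := by
  obtain ⟨V₁, Y', r, e, huV₁, hr, he, hre⟩ := hf' u
  haveI := he
  haveI : Etale (Over.mk e).hom := he
  obtain ⟨W, hW, ⟨φ⟩⟩ := Groth.Agent.Helper5.TopInv.exists_etale_lift i (X₀ := Over.mk e)
  haveI := hW
  obtain ⟨i', hi'⟩ : ∃ i' : Y' ⟶ W.left, i' = φ.inv.left ≫ pullback.fst W.hom i := ⟨_, rfl⟩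
  have hφ2 : φ.inv.left ≫ pullback.snd W.hom i = e := Over.w φ.inv
  haveI : IsIso φ.inv.left := inferInstanceAs (IsIso ((Over.forget U).map φ.inv))
  haveI : IsClosedImmersion i' := by rw [hi']; infer_instance
  have Hbot : IsPullback i' e W.hom i := by
    refine IsPullback.of_iso_pullback ⟨?_⟩ (asIso φ.inv.left) ?_ ?_
    · rw [hi', Category.assoc, pullback.condition, ← Category.assoc, hφ2]
    · rw [hi']; rfl
    · exact hφ2
  obtain ⟨V, Ut, T', rt, j, hvV, hrt, Htop⟩ := exists_lift_pthRoot p i' r hr ⟨u, huV₁⟩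
  have Hbig : IsPullback j ((V.ι ≫ r) ≫ e) ((rt ≫ Ut.ι) ≫ W.hom) i := Htop.paste_vert Hbot
  obtain ⟨kk, hkk⟩ : ∃ kk : (V : Scheme.{u}) ⟶ U', kk = V.ι ≫ V₁.ι := ⟨_, rfl⟩
  haveI : IsOpenImmersion kk := by rw [hkk]; infer_instance
  have hq : IsQuiet p ((rt ≫ Ut.ι) ≫ W.hom) := by
    rw [Category.assoc]
    exact isQuiet_comp_etale p rt (Ut.ι ≫ W.hom) hrt
  refine ⟨kk.opensRange, T', (rt ≫ Ut.ι) ≫ W.hom, kk.isoOpensRange.inv ≫ j,
    ⟨⟨⟨u, huV₁⟩, hvV⟩, by rw [hkk]; rfl⟩, hq, ?_⟩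
  have h1 : kk.opensRange.ι ≫ f' = kk.isoOpensRange.inv ≫ ((V.ι ≫ r) ≫ e) := by
    have hkf : kk ≫ f' = (V.ι ≫ r) ≫ e := by
      rw [hkk, Category.assoc, Category.assoc, hre]
    rw [← kk.isoOpensRange_inv_comp, Category.assoc, hkf]
  rw [h1]
  exact IsPullback.of_iso Hbig kk.isoOpensRange (Iso.refl _) (Iso.refl _) (Iso.refl _)
    (by simp) (by simp) (by simp) (by simp)

end Groth.Agent.Helper8.QuietThick
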