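import Mathlib
import Groth.Prelude.Def_QuotSh

set_option autoImplicit false
universe u
open CategoryTheory CategoryTheory.Limits AlgebraicGeometry MonoidalCategory Opposite

namespace Groth.Agent.Helper8.QuotA

open QuotSh

variable (K : Precoverage Scheme.{u}) {S : Scheme.{u}}

/-- morphisms from `rep V` to a sheaf are sections over `V` -/
noncomputable def repEquiv (V : Over S) (Q : Sh K S) : (rep K V ⟶ Q) ≃ Q.val.obj (op V) :=
  ((sheafificationAdjunction (J K S) (Type (u + 1))).homEquiv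
    (yoneda.obj V ⋙ uliftFunctor.{u + 1, u}) Q).trans uliftYonedaEquiv.{u + 1}

lemma repEquiv_comp {V W : Over S} (g : V ⟶ W) (Q : Sh K S) (τ : rep K W ⟶ Q) :
    repEquiv K V Q (repMap K g ≫ τ) = Q.val.map g.op (repEquiv K W Q τ) := by
  unfold repEquiv
  simp only [Equiv.trans_apply]
  rw [Adjunction.homEquiv_naturality_left]
  exact (uliftYonedaEquiv_naturality _ g.op).symm


lemma repMap_comp {V W X : Over S} (g : V ⟶ W) (h : W ⟶ X) :
    repMap K g ≫ repMap K h = repMap K (g ≫ h) := by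
  rw [← Functor.map_comp, ← Functor.whiskerRight_comp, ← yoneda.map_comp]

lemma singleton_mem {T Z : Over S} (p : Z ⟶ T) [Flat p.left] [Surjective p.left]
    [LocallyOfFinitePresentation p.left] :
    Sieve.generate (Presieve.singleton p) ∈ J Scheme.fppfPrecoverage S T := by
  rw [GrothendieckTopology.mem_over_iff]
  have h1 : Sieve.generate (Presieve.singleton p) =
      Sieve.ofArrows (fun _ : PUnit.{1} => Z) (fun _ => p) := by
    rw [Sieve.ofArrows, Presieve.ofArrows_pUnit]
  rw [h1, Sieve.overEquiv_ofArrows]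
  have h2 : Sieve.ofArrows (fun _ : PUnit.{1} => Z.left) (fun _ => p.left) =
      Sieve.generate (Presieve.singleton p.left) := by
    rw [Sieve.ofArrows, Presieve.ofArrows_pUnit]
  rw [h2]
  exact Precoverage.generate_mem_toGrothendieck p.left.singleton_mem_fppfPrecoverage

open CartesianMonoidalCategory in
theorem main {R U : Over S} (s t : R ⟶ U)
    (T Z : Over S) (i : Z ⟶ U ⊗ T)
    [Flat (i ≫ snd U T).left] [Surjective (i ≫ snd U T).left]
    [LocallyOfFinitePresentation (i ≫ snd U T).left]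
    (hZZ : ∀ (T' : Over S) (z₁ z₂ : T' ⟶ Z), z₁ ≫ i ≫ snd U T = z₂ ≫ i ≫ snd U T →
      ∃ r : T' ⟶ R, r ≫ s = z₁ ≫ i ≫ fst U T ∧ r ≫ t = z₂ ≫ i ≫ fst U T) :
    ∃! σ : QuotSh.rep Scheme.fppfPrecoverage T ⟶ QuotSh.quot Scheme.fppfPrecoverage s t,
      QuotSh.repMap Scheme.fppfPrecoverage (i ≫ fst U T) ≫ QuotSh.quotπ Scheme.fppfPrecoverage s t =
        QuotSh.repMap Scheme.fppfPrecoverage (i ≫ snd U T) ≫ σ := by
  let K := Scheme.fppfPrecoverage.{u}
  let Q : Sh K S := quot K s t
  let p : Z ⟶ T := i ≫ snd U T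
  let τ : rep K Z ⟶ Q := repMap K (i ≫ fst U T) ≫ quotπ K s t
  have hsheaf : Presieve.IsSheafFor Q.val (Presieve.singleton p) := by
    rw [Presieve.isSheafFor_iff_generate]
    exact ((isSheaf_iff_isSheaf_of_type _ _).1 Q.cond) _ (singleton_mem p)
  rw [Presieve.isSheafFor_singleton] at hsheaf
  obtain ⟨y, hy, hyu⟩ := hsheaf (repEquiv K Z Q τ) (by
    intro T' z₁ z₂ hz
    rw [← repEquiv_comp, ← repEquiv_comp]
    congr 1
    obtain ⟨r, hr₁, hr₂⟩ := hZZ T' z₁ z₂ hz
    change repMap K z₁ ≫ repMap K (i ≫ fst U T) ≫ quotπ K s t =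
      repMap K z₂ ≫ repMap K (i ≫ fst U T) ≫ quotπ K s t
    rw [← Category.assoc, ← Category.assoc, repMap_comp, repMap_comp, ← hr₁, ← hr₂,
      ← repMap_comp, ← repMap_comp, Category.assoc, Category.assoc, quot_condition])
  refine ⟨(repEquiv K T Q).symm y, ?_, ?_⟩
  · apply (repEquiv K Z Q).injective
    change repEquiv K Z Q τ = repEquiv K Z Q (repMap K p ≫ (repEquiv K T Q).symm y)
    refine ((repEquiv_comp K p Q _).trans ?_).symm
    rw [Equiv.apply_symm_apply]
    exact hy
  · intro σ' hσ'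
    rw [Equiv.eq_symm_apply]
    apply hyu
    refine (repEquiv_comp K p Q σ').symm.trans ?_
    exact congrArg (repEquiv K Z Q) hσ'.symm

end Groth.Agent.Helper8.QuotA
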