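import Mathlib
import Groth.Agent.Helper8.GeomReg6
import Groth.Agent.Helper2.H1Inj
set_option autoImplicit false
universe u

namespace Groth.Agent.Helper8.QuotJac
open TensorProduct Groth.Agent.Helper8.GeomReg

section congr
variable {A S : Type u} [CommRing A] [CommRing S] [Algebra A S]

theorem adic_of_pow_le (𝔫 𝔮 : Ideal S) (h : ∃ m : ℕ, 𝔮 ^ m ≤ 𝔫)
    (hq : CAlgX.IsAdicFormallySmooth A S 𝔮) : CAlgX.IsAdicFormallySmooth A S 𝔫 := by
  obtain ⟨m, hm⟩ := h
  intro E _ _ N hN ψ ⟨t, ht⟩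
  refine hq E N hN ψ ⟨m * t, fun x hx => ht x ?_⟩
  rw [pow_mul] at hx
  exact Ideal.pow_right_mono hm t hx

end congr

section suff
variable {A B : Type u} [CommRing A] [CommRing B] [Algebra A B] (I J : Ideal B)
  (R : Type u) [CommRing R] [Algebra (B ⧸ J) R] [Algebra B R] [IsScalarTower B (B ⧸ J) R]
  (hR : Function.Surjective (algebraMap (B ⧸ J) R))

include hR in
theorem smallLift_of_leftInverse (hB : CAlgX.IsAdicFormallySmooth A B I)
    (hn : ∃ n : ℕ, (I.map (Ideal.Quotient.mk J)) ^ n ≤ RingHom.ker (algebraMap (B ⧸ J) R))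
    (g : R ⊗[B] ((B ⧸ J) ⊗[B] Ω[B⁄A]) →ₗ[R]
      R ⊗[B] (RingHom.ker (algebraMap B (B ⧸ J))).Cotangent)
    (hg : g ∘ₗ LinearMap.baseChange R (KaehlerDifferential.kerCotangentToTensor A B (B ⧸ J)) =
      LinearMap.id) :
    SmallLift A (B ⧸ J) (RingHom.ker (algebraMap (B ⧸ J) R)) 1 := by
  obtain ⟨n, hn⟩ := hn
  intro E F _ _ _ _ π hπ hsq γ ⟨t, ht⟩ hcond
  let γB : B →ₐ[A] F := γ.comp (Ideal.Quotient.mkₐ A J)
  obtain ⟨χ₀, hχ₀⟩ := Groth.Agent.Helper2.H1Inj.lift_of_surjective I hB π hπ hsq γB ⟨n * t, by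
    intro x hx
    change γ (Ideal.Quotient.mk J x) = 0
    apply ht
    have h1 : Ideal.Quotient.mk J x ∈ (I.map (Ideal.Quotient.mk J)) ^ (n * t) := by
      rw [← Ideal.map_pow]
      exact Ideal.mem_map_of_mem _ hx
    rw [pow_mul] at h1
    exact Ideal.pow_right_mono hn t h1⟩
  have hχ₀a : ∀ b, π (χ₀ b) = γ (Ideal.Quotient.mk J b) := fun b => congr($hχ₀ b)
  set N : Ideal E := RingHom.ker (π : E →+* F) with hN
  have hNN : ∀ x ∈ N, ∀ y ∈ N, x * y = 0 := by
    intro x hx y hy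
    have : x * y ∈ N ^ 2 := by rw [pow_two]; exact Ideal.mul_mem_mul hx hy
    rwa [hsq] at this
  letI modB : Module B N := Module.compHom N (χ₀ : B →+* E)
  have hsmulB : ∀ (b : B) (j : N), ((b • j : N) : E) = χ₀ b * (j : E) := fun b j => rfl
  haveI : IsScalarTower A B N := by
    refine ⟨fun a b j => ?_⟩
    apply Subtype.ext
    rw [hsmulB, Submodule.coe_smul_of_tower, hsmulB, map_smul, smul_mul_assoc]
  have hBR : Function.Surjective (algebraMap B R) := by
    rw [IsScalarTower.algebraMap_eq B (B ⧸ J) R]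
    exact hR.comp Ideal.Quotient.mk_surjective
  have hkill : ∀ b : B, algebraMap B R b = 0 → ∀ j : N, b • j = 0 := by
    intro b hb j
    apply Subtype.ext
    rw [hsmulB, Submodule.coe_zero]
    refine hcond (Ideal.Quotient.mk J b) ?_ (χ₀ b) (hχ₀a b) j j.2
    rw [pow_one, RingHom.mem_ker, ← hb, IsScalarTower.algebraMap_apply B (B ⧸ J) R]
    rfl
  -- the `R`-module structure
  have htors : Module.IsTorsionBySet B N (RingHom.ker (algebraMap B R) : Set B) :=
    fun j b => hkill b.1 b.2 j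
  letI modQ : Module (B ⧸ RingHom.ker (algebraMap B R)) N := htors.module
  have hmk : ∀ (b : B) (j : N), (Ideal.Quotient.mk (RingHom.ker (algebraMap B R)) b) • j = b • j :=
    fun b j => rfl
  let e : R ≃+* B ⧸ RingHom.ker (algebraMap B R) :=
    (RingHom.quotientKerEquivOfSurjective hBR).symm
  have he : ∀ b, e (algebraMap B R b) = Ideal.Quotient.mk _ b := fun b => by
    apply (RingHom.quotientKerEquivOfSurjective hBR).injective
    rw [RingEquiv.apply_symm_apply]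
    rfl
  letI modR : Module R N := Module.compHom N (e : R →+* B ⧸ RingHom.ker (algebraMap B R))
  have hRsmul : ∀ (b : B) (j : N), (algebraMap B R b) • j = b • j := fun b j => by
    change e (algebraMap B R b) • j = b • j
    rw [he, hmk]
  haveI : IsScalarTower B R N := by
    refine ⟨fun b z j => ?_⟩
    obtain ⟨b', rfl⟩ := hBR z
    rw [Algebra.smul_def, ← map_mul, hRsmul, hRsmul, mul_smul]
  -- the linear map on the conormal module
  have hJk : ∀ b ∈ RingHom.ker (algebraMap B (B ⧸ J)), χ₀ b ∈ N := by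
    intro b hb
    rw [hN, RingHom.mem_ker]
    change π (χ₀ b) = 0
    rw [hχ₀a]
    have : Ideal.Quotient.mk J b = 0 := hb
    rw [this, map_zero]
  let ℓ₀ : RingHom.ker (algebraMap B (B ⧸ J)) →ₗ[B] N :=
    { toFun := fun b => ⟨χ₀ b.1, hJk b.1 b.2⟩
      map_add' := fun a b => by
        apply Subtype.ext
        simp only [Submodule.coe_add, map_add]
      map_smul' := fun a b => by
        apply Subtype.ext
        rw [RingHom.id_apply, hsmulB]
        simp only [Submodule.coe_smul, smul_eq_mul, map_mul] }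
  let ℓ : (RingHom.ker (algebraMap B (B ⧸ J))).Cotangent →ₗ[B] N :=
    Submodule.liftQ _ ℓ₀ (by
      rw [Submodule.smul_le]
      intro a ha b _
      rw [LinearMap.mem_ker, map_smul]
      apply Subtype.ext
      rw [hsmulB, Submodule.coe_zero]
      exact hNN _ (hJk a ha) _ (ℓ₀ b).2)
  have hℓ : ∀ b, ℓ ((RingHom.ker (algebraMap B (B ⧸ J))).toCotangent b) = ℓ₀ b := fun b => rfl
  let ℓR : R ⊗[B] (RingHom.ker (algebraMap B (B ⧸ J))).Cotangent →ₗ[R] N :=
    LinearMap.liftBaseChange R ℓ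
  let ℓ' : R ⊗[B] ((B ⧸ J) ⊗[B] Ω[B⁄A]) →ₗ[R] N := ℓR ∘ₗ g
  let D : Derivation A B N :=
    ((ℓ'.restrictScalars B) ∘ₗ (TensorProduct.mk B R ((B ⧸ J) ⊗[B] Ω[B⁄A]) 1) ∘ₗ
      (TensorProduct.mk B (B ⧸ J) Ω[B⁄A] 1)).compDer (KaehlerDifferential.D A B)
  have hD : ∀ b, D b = ℓR (g ((1 : R) ⊗ₜ[B] ((1 : B ⧸ J) ⊗ₜ[B] KaehlerDifferential.D A B b))) :=
    fun b => rfl
  have hDJ : ∀ b (hb : b ∈ RingHom.ker (algebraMap B (B ⧸ J))), ((D b : N) : E) = χ₀ b := by
    intro b hb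
    have h1 : (1 : R) ⊗ₜ[B] ((1 : B ⧸ J) ⊗ₜ[B] KaehlerDifferential.D A B b) =
        LinearMap.baseChange R (KaehlerDifferential.kerCotangentToTensor A B (B ⧸ J))
          ((1 : R) ⊗ₜ[B] (RingHom.ker (algebraMap B (B ⧸ J))).toCotangent ⟨b, hb⟩) := by
      rw [LinearMap.baseChange_tmul, KaehlerDifferential.kerCotangentToTensor_toCotangent]
    rw [hD, h1]
    have h2 := congr($hg ((1 : R) ⊗ₜ[B] (RingHom.ker (algebraMap B (B ⧸ J))).toCotangent ⟨b, hb⟩))
    rw [LinearMap.comp_apply, LinearMap.id_apply] at h2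
    rw [h2, LinearMap.liftBaseChange_tmul, one_smul, hℓ]
    rfl
  let χ : B →ₐ[A] E :=
    { toFun := fun b => χ₀ b - (D b : E)
      map_one' := by rw [map_one, Derivation.map_one_eq_zero]; simp
      map_mul' := fun a b => by
        rw [map_mul, Derivation.leibniz, Submodule.coe_add, hsmulB, hsmulB]
        have := hNN _ (D a).2 _ (D b).2
        linear_combination (-1 : E) * this
      map_zero' := by rw [map_zero, map_zero]; simp
      map_add' := fun a b => by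
        rw [map_add, map_add, Submodule.coe_add]; ring
      commutes' := fun a => by
        rw [Derivation.map_algebraMap, AlgHom.commutes]; simp }
  have hχJ : ∀ b ∈ J, χ b = 0 := by
    intro b hb
    have hb' : b ∈ RingHom.ker (algebraMap B (B ⧸ J)) := by
      rw [RingHom.mem_ker]
      exact Ideal.Quotient.eq_zero_iff_mem.mpr hb
    change χ₀ b - (D b : E) = 0
    rw [hDJ b hb', sub_self]
  refine ⟨Ideal.Quotient.liftₐ J χ hχJ, ?_⟩
  ext c
  obtain ⟨b, rfl⟩ := Ideal.Quotient.mk_surjective c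
  change π (χ₀ b - (D b : E)) = γ (Ideal.Quotient.mk J b)
  rw [map_sub, hχ₀a]
  have : π (D b : E) = 0 := (D b).2
  rw [this, sub_zero]

end suff

section nec
variable {A B : Type u} [CommRing A] [CommRing B] [Algebra A B] [IsNoetherianRing B] (I J : Ideal B)
  (R : Type u) [CommRing R] [Algebra (B ⧸ J) R] [Algebra B R] [IsScalarTower B (B ⧸ J) R]

theorem exists_leftInverse_of_adic
    (hC : CAlgX.IsAdicFormallySmooth A (B ⧸ J) (I.map (Ideal.Quotient.mk J)))
    (hn : ∃ n : ℕ, (I.map (Ideal.Quotient.mk J)) ^ n ≤ RingHom.ker (algebraMap (B ⧸ J) R)) :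
    ∃ g : R ⊗[B] ((B ⧸ J) ⊗[B] Ω[B⁄A]) →ₗ[R]
      R ⊗[B] (RingHom.ker (algebraMap B (B ⧸ J))).Cotangent,
      g ∘ₗ LinearMap.baseChange R (KaehlerDifferential.kerCotangentToTensor A B (B ⧸ J)) =
      LinearMap.id := by
  obtain ⟨n, hn⟩ := hn
  set Jk : Ideal B := RingHom.ker (algebraMap B (B ⧸ J)) with hJkdef
  have hJk : ∀ b, b ∈ Jk ↔ b ∈ J := fun b => by
    rw [hJkdef, RingHom.mem_ker]
    exact Ideal.Quotient.eq_zero_iff_mem
  set Qt : Ideal B := RingHom.ker (algebraMap B R) with hQt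
  have hmap : ∀ b, algebraMap B R b = algebraMap (B ⧸ J) R (Ideal.Quotient.mk J b) := fun b => by
    rw [IsScalarTower.algebraMap_apply B (B ⧸ J) R]; rfl
  have hJQ : J ≤ Qt := by
    intro b hb
    rw [hQt, RingHom.mem_ker, hmap, Ideal.Quotient.eq_zero_iff_mem.mpr hb, map_zero]
  have hIQ : I ^ n ≤ Qt := by
    intro b hb
    rw [hQt, RingHom.mem_ker, hmap, ← RingHom.mem_ker]
    apply hn
    rw [← Ideal.map_pow]
    exact Ideal.mem_map_of_mem _ hb
  -- Artin–Rees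
  obtain ⟨k, hk⟩ := Ideal.exists_pow_inf_eq_pow_smul I (J : Submodule B B)
  set t : ℕ := k + n with ht
  have hAR : I ^ t ⊓ J ≤ Qt * J := by
    have h1 := hk t (by omega)
    have h2 : t - k = n := by omega
    rw [h2] at h1
    intro z hz
    have hz' : z ∈ (I ^ t • (⊤ : Submodule B B) ⊓ J : Submodule B B) := by
      refine ⟨?_, hz.2⟩
      rw [Ideal.smul_eq_mul, Ideal.mul_top]
      exact hz.1
    rw [h1] at hz'
    exact Submodule.smul_mono hIQ inf_le_right hz'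
  set X : Ideal B := Qt * J ⊔ I ^ t with hX
  have hQJJ : Qt * J ≤ J := Ideal.mul_le_right
  have hXle : X ≤ J ⊔ I ^ t := sup_le_sup_right hQJJ _
  have hJX : ∀ x ∈ J, x ∈ X → x ∈ Qt * J := by
    intro x hxJ hxX
    obtain ⟨y, hy, z, hz, rfl⟩ := Submodule.mem_sup.mp hxX
    have hzJ : z ∈ J := by
      have := J.sub_mem hxJ (hQJJ hy)
      rwa [add_sub_cancel_left] at this
    exact (Qt * J).add_mem hy (hAR ⟨hz, hzJ⟩)
  let π : B ⧸ X →ₐ[A] B ⧸ (J ⊔ I ^ t) := Ideal.Quotient.factorₐ A hXle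
  have hπ : Function.Surjective π := Ideal.Quotient.factor_surjective hXle
  have hkerπ : RingHom.ker (π : B ⧸ X →+* B ⧸ (J ⊔ I ^ t)) = (J ⊔ I ^ t).map (Ideal.Quotient.mk X) :=
    Ideal.Quotient.factor_ker hXle
  have hsq : (RingHom.ker (π : B ⧸ X →+* B ⧸ (J ⊔ I ^ t))) ^ 2 = ⊥ := by
    rw [hkerπ, ← Ideal.map_pow, Ideal.map_eq_bot_iff_le_ker, Ideal.mk_ker, pow_two, Ideal.mul_le]
    intro r hr s hs
    obtain ⟨j1, hj1, k1, hk1, rfl⟩ := Submodule.mem_sup.mp hr
    obtain ⟨j2, hj2, k2, hk2, rfl⟩ := Submodule.mem_sup.mp hs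
    have : (j1 + k1) * (j2 + k2) = j1 * j2 + (j1 * k2 + k1 * (j2 + k2)) := by ring
    rw [this]
    refine Submodule.add_mem_sup (Ideal.mul_mem_mul (hJQ hj1) hj2) ?_
    exact (I ^ t).add_mem (Ideal.mul_mem_left _ _ hk2) (Ideal.mul_mem_right _ _ hk1)
  let ψ : B ⧸ J →ₐ[A] B ⧸ (J ⊔ I ^ t) := Ideal.Quotient.factorₐ A le_sup_left
  obtain ⟨χ, hχ⟩ := Groth.Agent.Helper2.H1Inj.lift_of_surjective _ hC π hπ hsq ψ ⟨t, by
    intro x hx
    rw [← Ideal.map_pow] at hx
    obtain ⟨b, hb, rfl⟩ := Ideal.mem_image_of_mem_map_of_surjective _ Ideal.Quotient.mk_surjective hx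
    change Ideal.Quotient.mk (J ⊔ I ^ t) b = 0
    exact Ideal.Quotient.eq_zero_iff_mem.mpr (Submodule.mem_sup_right hb)⟩
  have hχa : ∀ c, π (χ c) = ψ c := fun c => congr($hχ c)
  set N : Ideal (B ⧸ X) := RingHom.ker (π : B ⧸ X →+* B ⧸ (J ⊔ I ^ t)) with hN
  have hNN : ∀ x ∈ N, ∀ y ∈ N, x * y = 0 := by
    intro x hx y hy
    have : x * y ∈ N ^ 2 := by rw [pow_two]; exact Ideal.mul_mem_mul hx hy
    rwa [hsq] at this
  have hmem : ∀ b : B, Ideal.Quotient.mkₐ A X b - χ (Ideal.Quotient.mkₐ A J b) ∈ N := by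
    intro b
    rw [hN, RingHom.mem_ker, map_sub]
    change π (Ideal.Quotient.mk X b) - π (χ (Ideal.Quotient.mk J b)) = 0
    rw [hχa]
    exact sub_self _
  let D₀l : B →ₗ[A] N :=
    { toFun := fun b => ⟨Ideal.Quotient.mkₐ A X b - χ (Ideal.Quotient.mkₐ A J b), hmem b⟩
      map_add' := fun a b => by
        apply Subtype.ext
        simp only [map_add, Submodule.coe_add]
        ring
      map_smul' := fun a b => by
        apply Subtype.ext
        rw [RingHom.id_apply, Submodule.coe_smul_of_tower]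
        simp only [map_smul, smul_sub] }
  have hsmulB : ∀ (b : B) (x : N), ((b • x : N) : B ⧸ X) = Ideal.Quotient.mk X b * (x : B ⧸ X) :=
    fun b x => by
      rw [Submodule.coe_smul_of_tower, Algebra.smul_def]; rfl
  let D₀ : Derivation A B N := Derivation.mk' D₀l (by
    intro a b
    apply Subtype.ext
    rw [Submodule.coe_add, hsmulB, hsmulB]
    change Ideal.Quotient.mk X (a * b) - χ (Ideal.Quotient.mk J (a * b)) =
      Ideal.Quotient.mk X a * (Ideal.Quotient.mk X b - χ (Ideal.Quotient.mk J b)) +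
      Ideal.Quotient.mk X b * (Ideal.Quotient.mk X a - χ (Ideal.Quotient.mk J a))
    have := hNN _ (hmem a) _ (hmem b)
    change (Ideal.Quotient.mk X a - χ (Ideal.Quotient.mk J a)) *
      (Ideal.Quotient.mk X b - χ (Ideal.Quotient.mk J b)) = 0 at this
    rw [map_mul, map_mul, map_mul]
    linear_combination (-1 : B ⧸ X) * this)
  have hD₀ : ∀ b, ((D₀ b : N) : B ⧸ X) = Ideal.Quotient.mk X b - χ (Ideal.Quotient.mk J b) :=
    fun b => rfl
  -- the maps `p`, `p'`
  let p : Jk →ₗ[B] R ⊗[B] Jk.Cotangent := (TensorProduct.mk B R Jk.Cotangent 1) ∘ₗ Jk.toCotangent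
  have hp : ∀ j, p j = (1 : R) ⊗ₜ[B] Jk.toCotangent j := fun j => rfl
  have hp'mem : ∀ j : Jk, Ideal.Quotient.mk X (j : B) ∈ N := by
    intro j
    rw [hN, RingHom.mem_ker]
    change Ideal.Quotient.mk (J ⊔ I ^ t) (j : B) = 0
    exact Ideal.Quotient.eq_zero_iff_mem.mpr (Submodule.mem_sup_left ((hJk _).mp j.2))
  let p' : Jk →ₗ[B] N :=
    { toFun := fun j => ⟨Ideal.Quotient.mk X (j : B), hp'mem j⟩
      map_add' := fun a b => by
        apply Subtype.ext
        simp only [Submodule.coe_add, map_add]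
      map_smul' := fun a b => by
        apply Subtype.ext
        rw [RingHom.id_apply, hsmulB]
        simp only [Submodule.coe_smul, smul_eq_mul, map_mul] }
  have hp' : Function.Surjective p' := by
    rintro ⟨x, hx⟩
    obtain ⟨b, rfl⟩ := Ideal.Quotient.mk_surjective x
    have hb : b ∈ J ⊔ I ^ t := by
      rw [hN, RingHom.mem_ker] at hx
      exact Ideal.Quotient.eq_zero_iff_mem.mp hx
    obtain ⟨j, hj, i, hi, rfl⟩ := Submodule.mem_sup.mp hb
    refine ⟨⟨j, (hJk j).mpr hj⟩, ?_⟩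
    apply Subtype.ext
    change Ideal.Quotient.mk X j = Ideal.Quotient.mk X (j + i)
    rw [map_add, Ideal.Quotient.eq_zero_iff_mem.mpr (show i ∈ X from Submodule.mem_sup_right hi),
      add_zero]
  have hpz : ∀ j, j ∈ Qt * J → ∃ hj' : j ∈ Jk, p ⟨j, hj'⟩ = 0 := by
    intro j hj
    refine Submodule.mul_induction_on hj ?_ ?_
    · intro q hq j' hj'
      have h' : j' ∈ Jk := (hJk _).mpr hj'
      refine ⟨Jk.mul_mem_left q h', ?_⟩
      have : (⟨q * j', Jk.mul_mem_left q h'⟩ : Jk) = q • ⟨j', h'⟩ := rfl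
      rw [this, map_smul, hp, TensorProduct.smul_tmul', Algebra.smul_def,
        RingHom.mem_ker.mp hq, zero_mul, zero_tmul]
    · rintro x y ⟨hx, hx'⟩ ⟨hy, hy'⟩
      refine ⟨Jk.add_mem hx hy, ?_⟩
      have : (⟨x + y, Jk.add_mem hx hy⟩ : Jk) = ⟨x, hx⟩ + ⟨y, hy⟩ := rfl
      rw [this, map_add, hx', hy', add_zero]
  have hker : LinearMap.ker p' ≤ LinearMap.ker p := by
    intro j hj
    rw [LinearMap.mem_ker] at hj ⊢
    have h1 : Ideal.Quotient.mk X (j : B) = 0 := congrArg Subtype.val hj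
    have h2 : (j : B) ∈ X := Ideal.Quotient.eq_zero_iff_mem.mp h1
    obtain ⟨_, h3⟩ := hpz _ (hJX _ ((hJk _).mp j.2) h2)
    exact h3
  let eqv := LinearMap.quotKerEquivOfSurjective p' hp'
  let κ : N →ₗ[B] R ⊗[B] Jk.Cotangent :=
    (Submodule.liftQ (LinearMap.ker p') p hker) ∘ₗ eqv.symm.toLinearMap
  have hκ : ∀ j, κ (p' j) = p j := fun j => by
    change Submodule.liftQ _ p hker (eqv.symm (p' j)) = p j
    have : eqv.symm (p' j) = Submodule.Quotient.mk j := by
      apply eqv.injective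
      rw [LinearEquiv.apply_symm_apply]
      rfl
    rw [this, Submodule.liftQ_apply]
  let h₀ : Ω[B⁄A] →ₗ[B] R ⊗[B] Jk.Cotangent := κ ∘ₗ D₀.liftKaehlerDifferential
  have hh₀ : ∀ b, h₀ (KaehlerDifferential.D A B b) = κ (D₀ b) := fun b => by
    change κ (D₀.liftKaehlerDifferential (KaehlerDifferential.D A B b)) = _
    rw [Derivation.liftKaehlerDifferential_comp_D]
  let h₁ : (B ⧸ J) ⊗[B] Ω[B⁄A] →ₗ[B] R ⊗[B] Jk.Cotangent :=
    (LinearMap.liftBaseChange (B ⧸ J) h₀).restrictScalars B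
  let g : R ⊗[B] ((B ⧸ J) ⊗[B] Ω[B⁄A]) →ₗ[R] R ⊗[B] Jk.Cotangent :=
    LinearMap.liftBaseChange R h₁
  refine ⟨g, ?_⟩
  apply LinearMap.ext
  intro z
  induction z using TensorProduct.induction_on with
  | zero => simp
  | add x y hx hy => rw [map_add, hx, hy]; rfl
  | tmul r c =>
    obtain ⟨j, rfl⟩ := Ideal.toCotangent_surjective _ c
    rw [LinearMap.comp_apply, LinearMap.baseChange_tmul,
      KaehlerDifferential.kerCotangentToTensor_toCotangent, LinearMap.id_apply]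
    change r • h₁ _ = _
    change r • (LinearMap.liftBaseChange (B ⧸ J) h₀) _ = _
    rw [LinearMap.liftBaseChange_tmul, one_smul, hh₀]
    have hDj : D₀ (j : B) = p' j := by
      apply Subtype.ext
      rw [hD₀]
      change _ = Ideal.Quotient.mk X (j : B)
      rw [Ideal.Quotient.eq_zero_iff_mem.mpr ((hJk _).mp j.2), map_zero, sub_zero]
    rw [hDj, hκ, hp, TensorProduct.smul_tmul', smul_eq_mul, mul_one]

end nec


theorem s12136 {A B : Type u} [CommRing A]
    [CommRing B] [Algebra A B] [IsNoetherianRing B] (I J : Ideal B)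
    (hB : CAlgX.IsAdicFormallySmooth A B I)
    (Q : Ideal (B ⧸ J)) (hQ : ∃ n : ℕ, (I.map (Ideal.Quotient.mk J)) ^ n ≤ Q)
    (hQ' : ∃ m : ℕ, Q ^ m ≤ I.map (Ideal.Quotient.mk J)) :
    CAlgX.IsAdicFormallySmooth A (B ⧸ J) (I.map (Ideal.Quotient.mk J)) ↔
      ∃ g : ((B ⧸ J) ⧸ Q) ⊗[B] ((B ⧸ J) ⊗[B] Ω[B⁄A]) →ₗ[(B ⧸ J) ⧸ Q]
          ((B ⧸ J) ⧸ Q) ⊗[B] (RingHom.ker (algebraMap B (B ⧸ J))).Cotangent,
        g ∘ₗ LinearMap.baseChange ((B ⧸ J) ⧸ Q)
          (KaehlerDifferential.kerCotangentToTensor A B (B ⧸ J)) = LinearMap.id := by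
  have hker : RingHom.ker (algebraMap (B ⧸ J) ((B ⧸ J) ⧸ Q)) = Q := Ideal.mk_ker
  constructor
  · intro hC
    exact exists_leftInverse_of_adic I J ((B ⧸ J) ⧸ Q) hC (by rw [hker]; exact hQ)
  · rintro ⟨g, hg⟩
    have h1 := smallLift_of_leftInverse I J ((B ⧸ J) ⧸ Q) Ideal.Quotient.mk_surjective hB
      (by rw [hker]; exact hQ) g hg
    rw [hker] at h1
    have h2 := isAdicFormallySmooth_of_smallLift h1
    exact adic_of_pow_le _ Q hQ' h2

end Groth.Agent.Helper8.QuotJac
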