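import Mathlib

set_option autoImplicit false
universe u
open DirectSum

namespace Groth.Agent.Helper8.RDProj

variable (R : Type u) [CommRing R] (P : Type u) [AddCommGroup P] [Module R P]

/-- the map `R/f → B` determined by `b` with `f • b = 0` -/
def cyc {B : Type u} [AddCommGroup B] [Module R B] (f : R) (b : B) (hb : f • b = 0) :
    (R ⧸ Ideal.span {f}) →ₗ[R] B :=
  Submodule.liftQ (Ideal.span {f}) (LinearMap.toSpanSingleton R B b) (by
    rw [Ideal.span_le]
    rintro _ rfl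
    simpa using hb)

theorem cyc_mk {B : Type u} [AddCommGroup B] [Module R B] (f : R) (b : B) (hb : f • b = 0)
    (r : R) : cyc R f b hb (Ideal.Quotient.mk _ r) = r • b := by
  simp [cyc]
  rfl

theorem fwd (ι : Type u) (f : ι → R) (i : P →ₗ[R] (⨁ j, R ⧸ Ideal.span {f j}))
    (p : (⨁ j, R ⧸ Ideal.span {f j}) →ₗ[R] P) (hpi : p ∘ₗ i = LinearMap.id)
    (B C : Type u) [AddCommGroup B] [Module R B] [AddCommGroup C] [Module R C] (π : B →ₗ[R] C)
    (hπ : Function.Surjective π)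
    (hpure : ∀ (f : R) (b : B), π (f • b) = 0 → ∃ a : B, π a = 0 ∧ f • a = f • b)
    (ψ : P →ₗ[R] C) : ∃ φ : P →ₗ[R] B, π ∘ₗ φ = ψ := by
  classical
  have key : ∀ j : ι, ∃ b : B, π b = ψ (p (DirectSum.lof R ι (fun j => R ⧸ Ideal.span {f j}) j 1)) ∧
      f j • b = 0 := by
    intro j
    set c := ψ (p (DirectSum.lof R ι (fun j => R ⧸ Ideal.span {f j}) j 1)) with hc
    have hfc : f j • c = 0 := by
      rw [hc, ← map_smul, ← map_smul, ← map_smul]
      have : f j • (1 : R ⧸ Ideal.span {f j}) = 0 := by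
        rw [Algebra.smul_def, mul_one, Ideal.Quotient.algebraMap_eq,
          Ideal.Quotient.eq_zero_iff_mem]
        exact Ideal.subset_span rfl
      rw [this, map_zero, map_zero, map_zero]
    obtain ⟨b₀, hb₀⟩ := hπ c
    obtain ⟨a, ha1, ha2⟩ := hpure (f j) b₀ (by rw [map_smul, hb₀, hfc])
    exact ⟨b₀ - a, by rw [map_sub, ha1, sub_zero, hb₀], by rw [smul_sub, ha2, sub_self]⟩
  choose b hb1 hb2 using key
  let Φ : (⨁ j, R ⧸ Ideal.span {f j}) →ₗ[R] B :=
    DirectSum.toModule R ι B (fun j => cyc R (f j) (b j) (hb2 j))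
  have hΦ : π ∘ₗ Φ = ψ ∘ₗ p := by
    apply DirectSum.linearMap_ext
    intro j
    apply Submodule.linearMap_qext
    apply LinearMap.ext_ring
    simp only [LinearMap.coe_comp, Function.comp_apply, Submodule.mkQ_apply, Φ,
      DirectSum.toModule_lof]
    have h1 : (Submodule.Quotient.mk (1 : R) : R ⧸ Ideal.span {f j}) = Ideal.Quotient.mk _ 1 := rfl
    rw [h1, cyc_mk, one_smul, hb1 j]
    rfl
  refine ⟨Φ ∘ₗ i, ?_⟩
  rw [← LinearMap.comp_assoc, hΦ, LinearMap.comp_assoc, hpi, LinearMap.comp_id]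

theorem bwd
    (h : ∀ (B C : Type u) [AddCommGroup B] [Module R B] [AddCommGroup C] [Module R C]
        (π : B →ₗ[R] C), Function.Surjective π →
        (∀ (f : R) (b : B), π (f • b) = 0 → ∃ a : B, π a = 0 ∧ f • a = f • b) →
        ∀ ψ : P →ₗ[R] C, ∃ φ : P →ₗ[R] B, π ∘ₗ φ = ψ) :
    ∃ (ι : Type u) (f : ι → R) (i : P →ₗ[R] (⨁ j, R ⧸ Ideal.span {f j}))
        (p : (⨁ j, R ⧸ Ideal.span {f j}) →ₗ[R] P), p ∘ₗ i = LinearMap.id := by
  classical
  let ι : Type u := {x : R × P // x.1 • x.2 = 0}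
  let f : ι → R := fun j => j.1.1
  let π : (⨁ j, R ⧸ Ideal.span {f j}) →ₗ[R] P :=
    DirectSum.toModule R ι P (fun j => cyc R (f j) j.1.2 j.2)
  have hπlof : ∀ (j : ι) (r : R), π (DirectSum.lof R ι (fun j => R ⧸ Ideal.span {f j}) j
      (Ideal.Quotient.mk _ r)) = r • j.1.2 := by
    intro j r
    simp only [π, DirectSum.toModule_lof]
    exact cyc_mk R (f j) j.1.2 j.2 r
  have hπ : Function.Surjective π := by
    intro x
    exact ⟨DirectSum.lof R ι (fun j => R ⧸ Ideal.span {f j}) ⟨(0, x), zero_smul R x⟩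
      (Ideal.Quotient.mk _ 1), by rw [hπlof, one_smul]⟩
  have hpure : ∀ (r : R) (b : ⨁ j, R ⧸ Ideal.span {f j}), π (r • b) = 0 →
      ∃ a, π a = 0 ∧ r • a = r • b := by
    intro r b hb
    rw [map_smul] at hb
    let j₀ : ι := ⟨(r, π b), hb⟩
    let e := DirectSum.lof R ι (fun j => R ⧸ Ideal.span {f j}) j₀ (Ideal.Quotient.mk _ 1)
    have he1 : π e = π b := by rw [hπlof, one_smul]
    have he2 : r • e = 0 := by
      simp only [e]
      rw [← map_smul]
      have : r • (Ideal.Quotient.mk (Ideal.span {f j₀}) 1) = 0 := by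
        rw [Algebra.smul_def, map_one, mul_one, Ideal.Quotient.algebraMap_eq,
          Ideal.Quotient.eq_zero_iff_mem]
        exact Ideal.subset_span rfl
      rw [this, map_zero]
    exact ⟨b - e, by rw [map_sub, he1, sub_self], by rw [smul_sub, he2, sub_zero]⟩
  obtain ⟨φ, hφ⟩ := h _ P π hπ hpure LinearMap.id
  exact ⟨ι, f, φ, π, hφ⟩

theorem s7123 :
    (∃ (ι : Type u) (f : ι → R) (i : P →ₗ[R] (⨁ j, R ⧸ Ideal.span {f j}))
        (p : (⨁ j, R ⧸ Ideal.span {f j}) →ₗ[R] P), p ∘ₗ i = LinearMap.id) ↔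
      ∀ (B C : Type u) [AddCommGroup B] [Module R B] [AddCommGroup C] [Module R C] (π : B →ₗ[R] C),
        Function.Surjective π →
        (∀ (f : R) (b : B), π (f • b) = 0 → ∃ a : B, π a = 0 ∧ f • a = f • b) →
        ∀ ψ : P →ₗ[R] C, ∃ φ : P →ₗ[R] B, π ∘ₗ φ = ψ := by
  constructor
  · rintro ⟨ι, f, i, p, hpi⟩ B C _ _ _ _ π hπ hpure ψ
    exact fwd R P ι f i p hpi B C π hπ hpure ψ
  · exact bwd R P

end Groth.Agent.Helper8.RDProj
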