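import Groth.Agent.Helper8.RDerLib

universe v u v' u'
open CategoryTheory CategoryTheory.Limits

namespace Groth.Agent.Helper8.RDerLib

section Twist
variable {C : Type u} [Category.{v} C] [Abelian C]

/-- shifted complex with negated differential -/
noncomputable def shiftNeg (A : CochainComplex C ℕ) : CochainComplex C ℕ :=
  CochainComplex.of (fun n => A.X (n+1)) (fun n => -A.d (n+1) (n+2)) (by intro n; simp)

lemma shiftNeg_d (A : CochainComplex C ℕ) (n : ℕ) :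
    (shiftNeg A).d n (n+1) = -A.d (n+1) (n+2) :=
  CochainComplex.of_d (fun n => A.X (n+1)) (fun n => -A.d (n+1) (n+2)) n

variable (A Cc : CochainComplex C ℕ) (θ : Cc ⟶ shiftNeg A)

/-- components with clean types -/
def θf (n : ℕ) : Cc.X n ⟶ A.X (n+1) := θ.f n

lemma θf_comm (n : ℕ) :
    θf A Cc θ n ≫ A.d (n+1) (n+2) + Cc.d n (n+1) ≫ θf A Cc θ (n+1) = 0 := by
  have h := θ.comm n (n+1)
  rw [shiftNeg_d] at h
  have h' : θf A Cc θ n ≫ (-A.d (n+1) (n+2)) = Cc.d n (n+1) ≫ θf A Cc θ (n+1) := h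
  rw [← h', Preadditive.comp_neg, add_neg_cancel]

noncomputable def twD (n : ℕ) : A.X n ⊞ Cc.X n ⟶ A.X (n+1) ⊞ Cc.X (n+1) :=
  biprod.desc (A.d n (n+1) ≫ biprod.inl) (θf A Cc θ n ≫ biprod.inl + Cc.d n (n+1) ≫ biprod.inr)

lemma twD_sq (n : ℕ) : twD A Cc θ n ≫ twD A Cc θ (n+1) = 0 := by
  apply biprod.hom_ext'
  · simp [twD]
  · simp only [twD, biprod.inr_desc_assoc, Preadditive.add_comp, Category.assoc, biprod.inl_desc,
      biprod.inr_desc, Preadditive.comp_add, comp_zero]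
    rw [← Category.assoc, ← Category.assoc, ← Category.assoc, ← add_assoc, ← Preadditive.add_comp,
      θf_comm]
    simp

noncomputable def twist : CochainComplex C ℕ :=
  CochainComplex.of (fun n => A.X n ⊞ Cc.X n) (twD A Cc θ) (twD_sq A Cc θ)

lemma twist_d (n : ℕ) : (twist A Cc θ).d n (n+1) = twD A Cc θ n :=
  CochainComplex.of_d (fun n => A.X n ⊞ Cc.X n) (twD A Cc θ) n

noncomputable def twInl : A ⟶ twist A Cc θ where
  f n := (biprod.inl : A.X n ⟶ A.X n ⊞ Cc.X n)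
  comm' i j hij := by
    obtain rfl : i + 1 = j := hij
    rw [twist_d]
    exact (biprod.inl_desc (A.d i (i+1) ≫ biprod.inl)
      (θf A Cc θ i ≫ biprod.inl + Cc.d i (i+1) ≫ biprod.inr))

noncomputable def twSnd : twist A Cc θ ⟶ Cc where
  f n := (biprod.snd : A.X n ⊞ Cc.X n ⟶ Cc.X n)
  comm' i j hij := by
    obtain rfl : i + 1 = j := hij
    rw [twist_d]
    change (biprod.snd : A.X i ⊞ Cc.X i ⟶ Cc.X i) ≫ Cc.d i (i+1) = twD A Cc θ i ≫ biprod.snd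
    apply biprod.hom_ext' <;> simp [twD]

lemma twInl_twSnd : twInl A Cc θ ≫ twSnd A Cc θ = 0 := by
  ext n
  exact biprod.inl_snd

lemma tw_shortExact : (ShortComplex.mk _ _ (twInl_twSnd A Cc θ)).ShortExact := by
  apply HomologicalComplex.shortExact_of_degreewise_shortExact
  intro n
  exact (ShortComplex.Splitting.ofHasBinaryBiproduct (A.X n) (Cc.X n)).shortExact

end Twist

section MkRes
variable {C : Type u} [Category.{v} C] [Abelian C]

/-- constructor for injective resolutions from explicit exactness data -/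
noncomputable def mkRes (K : CochainComplex C ℕ) [∀ n, Injective (K.X n)] {Z : C}
    (e : Z ⟶ K.X 0) (d01 : K.X 0 ⟶ K.X 1) (hd : K.d 0 1 = d01) (he : e ≫ d01 = 0) (hm : Mono e)
    (hex : (ShortComplex.mk e d01 he).Exact) (hK : ∀ n, K.ExactAt (n+1)) :
    InjectiveResolution Z where
  cocomplex := K
  ι := (CochainComplex.fromSingle₀Equiv K Z).symm ⟨e, by rw [hd]; exact he⟩
  quasiIso := ⟨fun n => by
    subst hd
    cases n
    · rw [CochainComplex.quasiIsoAt₀_iff, ShortComplex.quasiIso_iff_of_zeros]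
      · refine (ShortComplex.exact_and_mono_f_iff_of_iso ?_).2 ⟨hex, hm⟩
        exact ShortComplex.isoMk (Iso.refl _) (Iso.refl _) (Iso.refl _)
          (by dsimp; erw [Category.id_comp, Category.comp_id]
              exact (CochainComplex.fromSingle₀Equiv_symm_apply_f_zero e he).symm)
          (by dsimp; erw [Category.id_comp, Category.comp_id]; rfl)
      · rfl
      · rfl
      · exact K.shape _ _ (by simp)
    · rw [quasiIsoAt_iff_exactAt]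
      · exact hK _
      · apply CochainComplex.exactAt_succ_single_obj⟩

lemma mkRes_ι₀ (K : CochainComplex C ℕ) [∀ n, Injective (K.X n)] {Z : C}
    (e : Z ⟶ K.X 0) (d01 : K.X 0 ⟶ K.X 1) (hd : K.d 0 1 = d01) (he : e ≫ d01 = 0) (hm : Mono e)
    (hex : (ShortComplex.mk e d01 he).Exact) (hK : ∀ n, K.ExactAt (n+1)) :
    ι₀ (mkRes K e d01 hd he hm hex hK) = e :=
  CochainComplex.fromSingle₀Equiv_symm_apply_f_zero e _

end MkRes

section Horseshoe
variable {C : Type u} [Category.{v} C] [Abelian C] {S : ShortComplex C} (hS : S.ShortExact)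
  (I₁ : InjectiveResolution S.X₁) (I₃ : InjectiveResolution S.X₃)

noncomputable def hsA : S.X₂ ⟶ I₁.cocomplex.X 0 :=
  haveI := hS.mono_f
  Injective.factorThru (ι₀ I₁) S.f

lemma f_hsA : S.f ≫ hsA hS I₁ = ι₀ I₁ :=
  haveI := hS.mono_f
  Injective.comp_factorThru _ _

noncomputable def hsT : S.X₃ ⟶ I₁.cocomplex.X 1 :=
  haveI := hS.epi_g
  hS.exact.desc (-(hsA hS I₁ ≫ I₁.cocomplex.d 0 1))
    (by rw [Preadditive.comp_neg, ← Category.assoc, f_hsA, ι₀_d, neg_zero])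

lemma g_hsT : S.g ≫ hsT hS I₁ = -(hsA hS I₁ ≫ I₁.cocomplex.d 0 1) :=
  haveI := hS.epi_g
  hS.exact.g_desc _ _

lemma hsT_d : hsT hS I₁ ≫ I₁.cocomplex.d 1 2 = 0 := by
  haveI := hS.epi_g
  rw [← cancel_epi S.g, ← Category.assoc, g_hsT, Preadditive.neg_comp, Category.assoc,
    HomologicalComplex.d_comp_d, comp_zero, neg_zero, comp_zero]

instance shiftNeg_injective (n : ℕ) : Injective ((shiftNeg I₁.cocomplex).X n) :=
  I₁.injective (n+1)

noncomputable def hsθ0 : I₃.cocomplex.X 0 ⟶ (shiftNeg I₁.cocomplex).X 0 :=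
  Injective.factorThru (J := (shiftNeg I₁.cocomplex).X 0) (hsT hS I₁) (ι₀ I₃)

lemma ι_hsθ0 : ι₀ I₃ ≫ hsθ0 hS I₁ I₃ = hsT hS I₁ :=
  Injective.comp_factorThru (J := (shiftNeg I₁.cocomplex).X 0) (hsT hS I₁) (ι₀ I₃)

lemma hsθ0_d : ι₀ I₃ ≫ hsθ0 hS I₁ I₃ ≫ (shiftNeg I₁.cocomplex).d 0 1 = 0 := by
  rw [← Category.assoc, ι_hsθ0, shiftNeg_d]
  change hsT hS I₁ ≫ (-I₁.cocomplex.d 1 2) = 0
  rw [Preadditive.comp_neg, hsT_d, neg_zero]

noncomputable def hsθ : I₃.cocomplex ⟶ shiftNeg I₁.cocomplex :=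
  CochainComplex.mkHom _ _ (hsθ0 hS I₁ I₃)
    ((exact₀ I₃).descToInjective (hsθ0 hS I₁ I₃ ≫ (shiftNeg I₁.cocomplex).d 0 1)
      (hsθ0_d hS I₁ I₃))
    ((exact₀ I₃).comp_descToInjective _ _).symm
    (fun n p => ⟨(I₃.exact_succ n).descToInjective (p.2.1 ≫ (shiftNeg I₁.cocomplex).d (n+1) (n+2))
      (by
        dsimp
        rw [← Category.assoc, ← p.2.2, Category.assoc, HomologicalComplex.d_comp_d, comp_zero]),
      ((I₃.exact_succ n).comp_descToInjective _ _).symm⟩)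

lemma ι_hsθ : ι₀ I₃ ≫ θf I₁.cocomplex I₃.cocomplex (hsθ hS I₁ I₃) 0 = hsT hS I₁ :=
  ι_hsθ0 hS I₁ I₃

noncomputable def hsB : CochainComplex C ℕ :=
  twist I₁.cocomplex I₃.cocomplex (hsθ hS I₁ I₃)

instance hsB_injective (n : ℕ) : Injective ((hsB hS I₁ I₃).X n) :=
  inferInstanceAs (Injective (I₁.cocomplex.X n ⊞ I₃.cocomplex.X n))

noncomputable def hsE : S.X₂ ⟶ I₁.cocomplex.X 0 ⊞ I₃.cocomplex.X 0 :=
  biprod.lift (hsA hS I₁) (S.g ≫ ι₀ I₃)

lemma hsE_fst : hsE hS I₁ I₃ ≫ biprod.fst = hsA hS I₁ := biprod.lift_fst _ _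

lemma hsE_snd : hsE hS I₁ I₃ ≫ biprod.snd = S.g ≫ ι₀ I₃ := biprod.lift_snd _ _

lemma hsE_d : hsE hS I₁ I₃ ≫ twD I₁.cocomplex I₃.cocomplex (hsθ hS I₁ I₃) 0 = 0 := by
  rw [twD, hsE, biprod.lift_desc, Preadditive.comp_add, Category.assoc, Category.assoc,
    reassoc_of% (ι_hsθ hS I₁ I₃), reassoc_of% (ι₀_d I₃), zero_comp, comp_zero, add_zero,
    reassoc_of% (g_hsT hS I₁), Preadditive.neg_comp, Category.assoc, add_neg_cancel]

instance hsE_mono : Mono (hsE hS I₁ I₃) := by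
  apply Preadditive.mono_of_cancel_zero
  intro W x hx
  have h2 : x ≫ S.g = 0 := by
    rw [← cancel_mono (ι₀ I₃), zero_comp, Category.assoc, ← hsE_snd hS I₁ I₃, reassoc_of% hx,
      zero_comp]
  have := hS.mono_f
  have hy : hS.exact.lift x h2 ≫ S.f = x := hS.exact.lift_f _ _
  have h1 : hS.exact.lift x h2 = 0 := by
    rw [← cancel_mono (ι₀ I₁), zero_comp, ← f_hsA hS I₁, reassoc_of% hy, ← hsE_fst hS I₁ I₃,
      reassoc_of% hx, zero_comp]
  rw [← hy, h1, zero_comp]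

lemma twD_fst (A Cc : CochainComplex C ℕ) (θ : Cc ⟶ shiftNeg A) (n : ℕ) :
    twD A Cc θ n ≫ biprod.fst = biprod.fst ≫ A.d n (n+1) + biprod.snd ≫ θf A Cc θ n := by
  apply biprod.hom_ext' <;> simp [twD]

lemma twD_snd (A Cc : CochainComplex C ℕ) (θ : Cc ⟶ shiftNeg A) (n : ℕ) :
    twD A Cc θ n ≫ biprod.snd = biprod.snd ≫ Cc.d n (n+1) := by
  apply biprod.hom_ext' <;> simp [twD]

lemma hsE_exact : (ShortComplex.mk (hsE hS I₁ I₃)
    (twD I₁.cocomplex I₃.cocomplex (hsθ hS I₁ I₃) 0) (hsE_d hS I₁ I₃)).Exact := by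
  rw [ShortComplex.exact_iff_exact_up_to_refinements]
  intro W x hx
  dsimp at x hx
  -- components
  have hx1 : (x ≫ biprod.fst) ≫ I₁.cocomplex.d 0 1 +
      (x ≫ biprod.snd) ≫ θf I₁.cocomplex I₃.cocomplex (hsθ hS I₁ I₃) 0 = 0 := by
    rw [Category.assoc, Category.assoc, ← Preadditive.comp_add, ← twD_fst, reassoc_of% hx,
      zero_comp]
  have hx2 : (x ≫ biprod.snd) ≫ I₃.cocomplex.d 0 1 = 0 := by
    rw [Category.assoc, ← twD_snd, reassoc_of% hx, zero_comp]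
  let u : W ⟶ S.X₃ := (exact₀ I₃).lift (x ≫ biprod.snd) hx2
  have hu : u ≫ ι₀ I₃ = x ≫ biprod.snd := (exact₀ I₃).lift_f _ _
  have := hS.epi_g
  obtain ⟨W', π, hπ, v, hv⟩ := surjective_up_to_refinements_of_epi S.g u
  have hy : (π ≫ x ≫ biprod.fst - v ≫ hsA hS I₁) ≫ I₁.cocomplex.d 0 1 = 0 := by
    have h1 : (x ≫ biprod.fst) ≫ I₁.cocomplex.d 0 1 = -(u ≫ hsT hS I₁) := by
      rw [eq_neg_iff_add_eq_zero, ← ι_hsθ hS I₁ I₃, reassoc_of% hu, ← Category.assoc x]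
      exact hx1
    have h2 : v ≫ hsA hS I₁ ≫ I₁.cocomplex.d 0 1 = -(π ≫ u ≫ hsT hS I₁) := by
      rw [reassoc_of% hv, g_hsT, Preadditive.comp_neg, neg_neg]
    rw [Preadditive.sub_comp, Category.assoc, Category.assoc, ← Category.assoc x, h1,
      Category.assoc, h2, Preadditive.comp_neg, sub_self]
  let w : W' ⟶ S.X₁ := (exact₀ I₁).lift _ hy
  have hw : w ≫ ι₀ I₁ = π ≫ x ≫ biprod.fst - v ≫ hsA hS I₁ := (exact₀ I₁).lift_f _ _
  refine ⟨W', π, hπ, v + w ≫ S.f, ?_⟩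
  dsimp
  apply biprod.hom_ext
  · rw [Category.assoc, Category.assoc, hsE_fst, Preadditive.add_comp, Category.assoc,
      f_hsA, hw]
    abel
  · rw [Category.assoc, Category.assoc, hsE_snd, Preadditive.add_comp, Category.assoc,
      S.zero_assoc, zero_comp, comp_zero, add_zero, ← reassoc_of% hv, hu]

lemma hsB_exactAt (n : ℕ) : (hsB hS I₁ I₃).ExactAt (n+1) :=
  (tw_shortExact I₁.cocomplex I₃.cocomplex (hsθ hS I₁ I₃)).exactAt_X₂ (n+1)
    (I₁.cocomplex_exactAt_succ n) (I₃.cocomplex_exactAt_succ n)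

noncomputable def hsI₂ : InjectiveResolution S.X₂ :=
  mkRes (hsB hS I₁ I₃) (hsE hS I₁ I₃) (twD I₁.cocomplex I₃.cocomplex (hsθ hS I₁ I₃) 0)
    (twist_d _ _ _ 0) (hsE_d hS I₁ I₃) (hsE_mono hS I₁ I₃) (hsE_exact hS I₁ I₃)
    (hsB_exactAt hS I₁ I₃)

lemma hsI₂_ι₀ : ι₀ (hsI₂ hS I₁ I₃) = hsE hS I₁ I₃ := mkRes_ι₀ _ _ _ _ _ _ _ _

noncomputable def horseshoe : RDer.SESRes S where
  I₁ := I₁
  I₂ := hsI₂ hS I₁ I₃
  I₃ := I₃
  f := twInl I₁.cocomplex I₃.cocomplex (hsθ hS I₁ I₃)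
  g := twSnd I₁.cocomplex I₃.cocomplex (hsθ hS I₁ I₃)
  zero := twInl_twSnd _ _ _
  ι_f := by
    refine (ι_comp_eq I₁ (hsI₂ hS I₁ I₃) (twInl I₁.cocomplex I₃.cocomplex (hsθ hS I₁ I₃)) S.f).2 ?_
    rw [hsI₂_ι₀]
    change ι₀ I₁ ≫ (biprod.inl : I₁.cocomplex.X 0 ⟶ I₁.cocomplex.X 0 ⊞ I₃.cocomplex.X 0) =
      S.f ≫ hsE hS I₁ I₃
    apply biprod.hom_ext
    · simp [hsE_fst, f_hsA]
    · simp [hsE_snd]
  ι_g := by
    refine (ι_comp_eq (hsI₂ hS I₁ I₃) I₃ (twSnd I₁.cocomplex I₃.cocomplex (hsθ hS I₁ I₃)) S.g).2 ?_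
    rw [hsI₂_ι₀]
    exact hsE_snd hS I₁ I₃
  shortExact := tw_shortExact _ _ _

include hS in
theorem nonempty_sesRes [EnoughInjectives C] : Nonempty (RDer.SESRes S) :=
  ⟨horseshoe hS (InjectiveResolution.of S.X₁) (InjectiveResolution.of S.X₃)⟩

end Horseshoe

end Groth.Agent.Helper8.RDerLib
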