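import Groth.Prelude.Def_RDerDelta
import Mathlib.Algebra.Homology.HomologySequenceLemmas
import Mathlib.CategoryTheory.Abelian.Refinements

universe v u v' u'
open CategoryTheory CategoryTheory.Limits

namespace Groth.Agent.Helper8.RDerLib

variable {C : Type u} [Category.{v} C] [Abelian C]

/-- degree-zero augmentation with a clean type -/
def ι₀ {Z : C} (I : InjectiveResolution Z) : Z ⟶ I.cocomplex.X 0 := I.ι.f 0

lemma ι₀_d {Z : C} (I : InjectiveResolution Z) : ι₀ I ≫ I.cocomplex.d 0 1 = 0 :=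
  I.ι_f_zero_comp_complex_d

instance {Z : C} (I : InjectiveResolution Z) : Mono (ι₀ I) :=
  inferInstanceAs (Mono (I.ι.f 0))

lemma exact₀ {Z : C} (I : InjectiveResolution Z) :
    (ShortComplex.mk (ι₀ I) (I.cocomplex.d 0 1) (ι₀_d I)).Exact :=
  I.exact₀

lemma ι_comp_eq {Z Z' : C} (I : InjectiveResolution Z) (I' : InjectiveResolution Z')
    (φ : I.cocomplex ⟶ I'.cocomplex) (t : Z ⟶ Z') :
    I.ι ≫ φ = (CochainComplex.single₀ C).map t ≫ I'.ι ↔ ι₀ I ≫ φ.f 0 = t ≫ ι₀ I' := by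
  constructor
  · intro h
    have := HomologicalComplex.congr_hom h 0
    simp only [HomologicalComplex.comp_f, CochainComplex.single₀_map_f_zero] at this
    exact this
  · intro h
    apply HomologicalComplex.from_single_hom_ext
    simp only [HomologicalComplex.comp_f, CochainComplex.single₀_map_f_zero]
    exact h

end Groth.Agent.Helper8.RDerLib

namespace Groth.Agent.Helper8.RDerLib

variable {C : Type u} [Category.{v} C] [Abelian C]

section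
variable {S : ShortComplex C} (T : RDer.SESRes S)

lemma zero_f (n : ℕ) : T.f.f n ≫ T.g.f n = 0 := by
  rw [← HomologicalComplex.comp_f, T.zero]; rfl

lemma sx (n : ℕ) : (ShortComplex.mk (T.f.f n) (T.g.f n) (zero_f T n)).ShortExact :=
  T.shortExact.map_of_exact (HomologicalComplex.eval C _ n)

lemma ι_f_zero : ι₀ T.I₁ ≫ T.f.f 0 = S.f ≫ ι₀ T.I₂ := (ι_comp_eq _ _ _ _).1 T.ι_f

lemma ι_g_zero : ι₀ T.I₂ ≫ T.g.f 0 = S.g ≫ ι₀ T.I₃ := (ι_comp_eq _ _ _ _).1 T.ι_g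

instance (n : ℕ) : Mono (T.f.f n) := (sx T n).mono_f
instance (n : ℕ) : Epi (T.g.f n) := (sx T n).epi_g

include T in
theorem epi_g : Epi S.g := by
  rw [epi_iff_surjective_up_to_refinements]
  intro A x
  obtain ⟨A₁, π₁, hπ₁, y, hy⟩ := surjective_up_to_refinements_of_epi (T.g.f 0) (x ≫ ι₀ T.I₃)
  have hy1 : (y ≫ T.I₂.cocomplex.d 0 1) ≫ T.g.f 1 = 0 := by
    rw [Category.assoc, ← T.g.comm 0 1, ← Category.assoc, ← hy, Category.assoc, Category.assoc,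
      ι₀_d, comp_zero, comp_zero]
  let w := (sx T 1).exact.lift (y ≫ T.I₂.cocomplex.d 0 1) hy1
  have hw : w ≫ T.f.f 1 = y ≫ T.I₂.cocomplex.d 0 1 := (sx T 1).exact.lift_f _ _
  have hw2 : w ≫ T.I₁.cocomplex.d 1 2 = 0 := by
    rw [← cancel_mono (T.f.f 2), Category.assoc, ← T.f.comm 1 2, reassoc_of% hw,
      HomologicalComplex.d_comp_d, comp_zero, zero_comp]
  obtain ⟨A₂, π₂, hπ₂, v, hv⟩ := (T.I₁.exact_succ 0).exact_up_to_refinements w hw2
  dsimp at v hv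
  have hy' : (π₂ ≫ y - v ≫ T.f.f 0) ≫ T.I₂.cocomplex.d 0 1 = 0 := by
    rw [Preadditive.sub_comp, Category.assoc, Category.assoc, ← hw, reassoc_of% hv,
      T.f.comm 0 1, sub_self]
  let u : A₂ ⟶ S.X₂ := (exact₀ T.I₂).lift (π₂ ≫ y - v ≫ T.f.f 0) hy'
  have hu : u ≫ ι₀ T.I₂ = π₂ ≫ y - v ≫ T.f.f 0 := (exact₀ T.I₂).lift_f _ _
  refine ⟨A₂, π₂ ≫ π₁, inferInstance, u, ?_⟩
  rw [← cancel_mono (ι₀ T.I₃), Category.assoc, Category.assoc, Category.assoc, ← ι_g_zero T,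
    reassoc_of% hu, Preadditive.sub_comp, Category.assoc, Category.assoc, zero_f, comp_zero,
    sub_zero, hy]

include T in
theorem exact_S : S.Exact := by
  rw [ShortComplex.exact_iff_exact_up_to_refinements]
  intro A x hx
  have h1 : (x ≫ ι₀ T.I₂) ≫ T.g.f 0 = 0 := by
    rw [Category.assoc, ι_g_zero, reassoc_of% hx, zero_comp]
  let y : A ⟶ T.I₁.cocomplex.X 0 := (sx T 0).exact.lift _ h1
  have hy : y ≫ T.f.f 0 = x ≫ ι₀ T.I₂ := (sx T 0).exact.lift_f _ _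
  have hy2 : y ≫ T.I₁.cocomplex.d 0 1 = 0 := by
    rw [← cancel_mono (T.f.f 1), Category.assoc, ← T.f.comm 0 1, reassoc_of% hy,
      ι₀_d, comp_zero, zero_comp]
  let z : A ⟶ S.X₁ := (exact₀ T.I₁).lift y hy2
  have hz : z ≫ ι₀ T.I₁ = y := (exact₀ T.I₁).lift_f _ _
  refine ⟨A, 𝟙 A, inferInstance, z, ?_⟩
  rw [Category.id_comp, ← cancel_mono (ι₀ T.I₂), Category.assoc, ← ι_f_zero T,
    reassoc_of% hz, hy]

include T in
theorem mono_f : Mono S.f := by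
  have : Mono (S.f ≫ ι₀ T.I₂) := by
    rw [← ι_f_zero T]; infer_instance
  exact mono_of_mono S.f (ι₀ T.I₂)

include T in
theorem shortExact_S : S.ShortExact :=
  { exact := exact_S T, mono_f := mono_f T, epi_g := epi_g T }

end
end Groth.Agent.Helper8.RDerLib

namespace Groth.Agent.Helper8.RDerLib

variable {C : Type u} [Category.{v} C] [Abelian C]

lemma eq_null_add {ι : Type*} {c : ComplexShape ι} {K L : HomologicalComplex C c} {f g : K ⟶ L}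
    (H : Homotopy f g) : f = Homotopy.nullHomotopicMap H.hom + g := by
  ext i
  simp [Homotopy.nullHomotopicMap, H.comm i]

lemma null_zero {ι : Type*} {c : ComplexShape ι} (K L : HomologicalComplex C c) :
    Homotopy.nullHomotopicMap (fun i j => (0 : K.X i ⟶ L.X j)) = 0 := by
  ext i
  have : (fun i j => (0 : K.X i ⟶ L.X j)) = 0 := rfl
  simp [Homotopy.nullHomotopicMap, this]

lemma null_f_zero (K L : CochainComplex C ℕ) (k : ∀ i j, K.X i ⟶ L.X j) :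
    (Homotopy.nullHomotopicMap k).f 0 = K.d 0 1 ≫ k 1 0 := by
  change dNext 0 k + prevD 0 k = _
  rw [Homotopy.dNext_cochainComplex, Homotopy.prevD_zero_cochainComplex, add_zero]

section
variable {S : ShortComplex C} (T : RDer.SESRes S)

/-- degreewise section -/
noncomputable def sec (j : ℕ) : T.I₃.cocomplex.X j ⟶ T.I₂.cocomplex.X j := (T.splitting j).s

lemma sec_g (j : ℕ) : sec T j ≫ T.g.f j = 𝟙 _ := (T.splitting j).s_g

end

theorem exists_lift {S S' : ShortComplex C} (φ : S ⟶ S') (T : RDer.SESRes S) (T' : RDer.SESRes S')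
    (φ₁ : T.I₁.cocomplex ⟶ T'.I₁.cocomplex)
    (h₁ : T.I₁.ι ≫ φ₁ = (CochainComplex.single₀ C).map φ.τ₁ ≫ T'.I₁.ι)
    (φ₃ : T.I₃.cocomplex ⟶ T'.I₃.cocomplex)
    (h₃ : T.I₃.ι ≫ φ₃ = (CochainComplex.single₀ C).map φ.τ₃ ≫ T'.I₃.ι) :
    ∃ φ₂ : T.I₂.cocomplex ⟶ T'.I₂.cocomplex, T.f ≫ φ₂ = φ₁ ≫ T'.f ∧ φ₂ ≫ T'.g = T.g ≫ φ₃ := by
  let β := InjectiveResolution.desc φ.τ₂ T'.I₂ T.I₂
  have hβ : T.I₂.ι ≫ β = (CochainComplex.single₀ C).map φ.τ₂ ≫ T'.I₂.ι :=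
    InjectiveResolution.desc_commutes _ _ _
  have H₁ : Homotopy (T.f ≫ β) (φ₁ ≫ T'.f) :=
    InjectiveResolution.descHomotopy (S.f ≫ φ.τ₂) _ _
      (by rw [← Category.assoc, T.ι_f, Category.assoc, hβ, ← Category.assoc, ← Functor.map_comp])
      (by rw [← Category.assoc, h₁, Category.assoc, T'.ι_f, ← Category.assoc, ← Functor.map_comp,
        φ.comm₁₂])
  let k : ∀ i j, T.I₂.cocomplex.X i ⟶ T'.I₂.cocomplex.X j :=
    fun i j => Injective.factorThru (H₁.hom i j) (T.f.f i)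
  have hk : ∀ i j, T.f.f i ≫ k i j = H₁.hom i j := fun i j => Injective.comp_factorThru _ _
  let β₁ := β - Homotopy.nullHomotopicMap k
  have hβ₁ : T.f ≫ β₁ = φ₁ ≫ T'.f := by
    rw [Preadditive.comp_sub, Homotopy.comp_nullHomotopicMap]
    simp_rw [hk]
    rw [sub_eq_iff_eq_add, add_comm]
    exact eq_null_add H₁
  have hker : T.f ≫ (β₁ ≫ T'.g - T.g ≫ φ₃) = 0 := by
    rw [Preadditive.comp_sub, reassoc_of% hβ₁, T'.zero, comp_zero, reassoc_of% T.zero, zero_comp,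
      sub_zero]
  have : Epi T.g := T.shortExact.epi_g
  let γ : T.I₃.cocomplex ⟶ T'.I₃.cocomplex := T.shortExact.exact.desc _ hker
  have hγ : T.g ≫ γ = β₁ ≫ T'.g - T.g ≫ φ₃ := T.shortExact.exact.g_desc _ _
  have hγ0 : T.I₃.ι ≫ γ = 0 := by
    apply HomologicalComplex.from_single_hom_ext
    have : Epi S.g := epi_g T
    change ι₀ T.I₃ ≫ γ.f 0 = 0
    rw [← cancel_epi S.g, comp_zero, ← Category.assoc, ← ι_g_zero T, Category.assoc,
      ← HomologicalComplex.comp_f, hγ]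
    have e1 : ι₀ T.I₂ ≫ β₁.f 0 = φ.τ₂ ≫ ι₀ T'.I₂ := by
      have := (ι_comp_eq _ _ _ _).1 hβ
      simp only [β₁, HomologicalComplex.sub_f_apply, Preadditive.comp_sub, null_f_zero,
        reassoc_of% (ι₀_d T.I₂), zero_comp, sub_zero, this]
    have e3 := (ι_comp_eq _ _ _ _).1 h₃
    rw [HomologicalComplex.sub_f_apply, HomologicalComplex.comp_f, HomologicalComplex.comp_f,
      Preadditive.comp_sub, reassoc_of% e1, ι_g_zero T', reassoc_of% (ι_g_zero T), e3,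
      ← Category.assoc, ← Category.assoc, φ.comm₂₃, sub_self]
  have H₂ : Homotopy γ 0 := InjectiveResolution.descHomotopyZero γ hγ0
  let m : ∀ i j, T.I₂.cocomplex.X i ⟶ T'.I₂.cocomplex.X j :=
    fun i j => T.g.f i ≫ H₂.hom i j ≫ sec T' j
  refine ⟨β₁ - Homotopy.nullHomotopicMap m, ?_, ?_⟩
  · rw [Preadditive.comp_sub, hβ₁, Homotopy.comp_nullHomotopicMap]
    have : (fun i j => T.f.f i ≫ m i j) = fun i j => (0 : T.I₁.cocomplex.X i ⟶ T'.I₂.cocomplex.X j) := by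
      funext i j
      simp only [m, reassoc_of% (zero_f T i), zero_comp]
    rw [this, null_zero, sub_zero]
  · rw [Preadditive.sub_comp, Homotopy.nullHomotopicMap_comp]
    have : (fun i j => m i j ≫ T'.g.f j) = fun i j => T.g.f i ≫ H₂.hom i j := by
      funext i j
      simp only [m, Category.assoc, sec_g, Category.comp_id]
    rw [this, ← Homotopy.comp_nullHomotopicMap]
    have e := eq_null_add H₂
    rw [add_zero] at e
    rw [← e, hγ, sub_sub_cancel]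

end Groth.Agent.Helper8.RDerLib

namespace Groth.Agent.Helper8.RDerLib

lemma sq_aux {D : Type u'} [Category.{v'} D] {X₃ X₃' H₃ H₃' X₁ X₁' H₁ H₁' : D}
    (m₃ : X₃ ⟶ X₃') (m₁ : X₁ ⟶ X₁') (a₃ : X₃ ⟶ H₃) (a₃' : X₃' ⟶ H₃') (a₁ : X₁ ⟶ H₁)
    (a₁' : X₁' ⟶ H₁') [Mono a₁'] (k₃ : H₃ ⟶ H₃') (k₁ : H₁ ⟶ H₁') (d : H₃ ⟶ H₁) (d' : H₃' ⟶ H₁')
    (Δ : X₃ ⟶ X₁) (Δ' : X₃' ⟶ X₁') (e : Δ ≫ a₁ = a₃ ≫ d) (e' : Δ' ≫ a₁' = a₃' ≫ d')
    (n3 : m₃ ≫ a₃' = a₃ ≫ k₃) (n1 : m₁ ≫ a₁' = a₁ ≫ k₁) (nat : d ≫ k₁ = k₃ ≫ d') :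
    m₃ ≫ Δ' = Δ ≫ m₁ := by
  rw [← cancel_mono a₁', Category.assoc, Category.assoc, e', reassoc_of% n3, n1, reassoc_of% e, nat]

variable {C : Type u} [Category.{v} C] [Abelian C] {D : Type u'} [Category.{v'} D] [Abelian D]
  [HasInjectiveResolutions C]

theorem delta_natural {S S' : ShortComplex C} (φ : S ⟶ S') (T : RDer.SESRes S)
    (T' : RDer.SESRes S') (F : C ⥤ D) [F.Additive] (n₀ n₁ : ℕ) (h : n₀ + 1 = n₁) :
    (F.rightDerived n₀).map φ.τ₃ ≫ T'.delta F n₀ n₁ h =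
      T.delta F n₀ n₁ h ≫ (F.rightDerived n₁).map φ.τ₁ := by
  let φ₁ := InjectiveResolution.desc φ.τ₁ T'.I₁ T.I₁
  have h₁ : T.I₁.ι ≫ φ₁ = (CochainComplex.single₀ C).map φ.τ₁ ≫ T'.I₁.ι :=
    InjectiveResolution.desc_commutes _ _ _
  let φ₃ := InjectiveResolution.desc φ.τ₃ T'.I₃ T.I₃
  have h₃ : T.I₃.ι ≫ φ₃ = (CochainComplex.single₀ C).map φ.τ₃ ≫ T'.I₃.ι :=
    InjectiveResolution.desc_commutes _ _ _
  obtain ⟨φ₂, h12, h23⟩ := exists_lift φ T T' φ₁ h₁ φ₃ h₃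
  let Φ : T.cx ⟶ T'.cx := { τ₁ := φ₁, τ₂ := φ₂, τ₃ := φ₃, comm₁₂ := h12.symm, comm₂₃ := h23 }
  let Ψ := (F.mapHomologicalComplex (ComplexShape.up ℕ)).mapShortComplex.map Φ
  have nat := HomologicalComplex.HomologySequence.δ_naturality Ψ (T.map_shortExact F)
    (T'.map_shortExact F) n₀ n₁ h
  have n3 := InjectiveResolution.isoRightDerivedObj_hom_naturality φ.τ₃ T.I₃ T'.I₃ φ₃
    (InjectiveResolution.desc_commutes_zero _ _ _) F n₀
  have n1 := InjectiveResolution.isoRightDerivedObj_hom_naturality φ.τ₁ T.I₁ T'.I₁ φ₁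
    (InjectiveResolution.desc_commutes_zero _ _ _) F n₁
  exact sq_aux _ _ _ _ _ _ _ _ _ _ _ _
    (RDer.SESRes.delta_comp_isoRightDerivedObj_hom T F n₀ n₁ h)
    (RDer.SESRes.delta_comp_isoRightDerivedObj_hom T' F n₀ n₁ h) n3 n1 nat

theorem delta_eq {S : ShortComplex C} (T T' : RDer.SESRes S) (F : C ⥤ D) [F.Additive]
    (n₀ n₁ : ℕ) (h : n₀ + 1 = n₁) : T.delta F n₀ n₁ h = T'.delta F n₀ n₁ h := by
  have := delta_natural (𝟙 S) T' T F n₀ n₁ h
  simpa using this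

end Groth.Agent.Helper8.RDerLib
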