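import Groth.Agent.Helper8.RDerLib
import Groth.Agent.Helper8.DeltaUniv

universe v u v' u'
open CategoryTheory CategoryTheory.Limits

namespace Groth.Agent.Helper8.RDerUniv

open Groth.Agent.Helper8.RDerLib

variable {C : Type u} [Category.{v} C] [Abelian C] [HasInjectiveResolutions C]
  {D : Type u'} [Category.{v'} D] [Abelian D] (F : C ⥤ D) [F.Additive]

theorem isEffaceable (Δ : RDer.DerivedLES F) : Δ.toCohDeltaFunctor.IsEffaceable := by
  intro n X
  refine ⟨(injectiveResolution X).cocomplex.X 0, ι₀ (injectiveResolution X), inferInstance, ?_⟩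
  exact (F.isZero_rightDerived_obj_injective_succ n _).eq_of_tgt _ _

theorem main (Δ : RDer.DerivedLES F) : Δ.toCohDeltaFunctor.IsUniversal :=
  Groth.Agent.Helper8.DeltaUniv.isUniversal_of_isEffaceable _ (isEffaceable F Δ)

end Groth.Agent.Helper8.RDerUniv
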