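import Groth.Agent.Helper8.RFanLin

set_option autoImplicit false

namespace Groth.Agent.Helper8.RFanCara

open CategoryTheory Opposite Instab Instab.Fan
open Groth.Agent.Helper8.RFanLin

variable {N : ℕ}

/-- An integer vector as a real vector. -/
def iota (g : Fin N → ℤ) : Fin N → ℝ := fun j => ((g j : ℤ) : ℝ)

/-- The cone spanned by a finite set of integer vectors. -/
def cone (G : Finset (Fin N → ℤ)) : Set (Fin N → ℝ) :=
  {x | ∃ c : (Fin N → ℤ) → ℝ, (∀ g, 0 ≤ c g) ∧
    x = Finset.sum G fun g => c g • fun j => ((g j : ℤ) : ℝ)}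

lemma mem_cone_iff (G : Finset (Fin N → ℤ)) (x : Fin N → ℝ) :
    x ∈ cone G ↔ ∃ c : (Fin N → ℤ) → ℝ, (∀ g, 0 ≤ c g) ∧ x = ∑ g ∈ G, c g • iota g := Iff.rfl

lemma cone_smul (G : Finset (Fin N → ℤ)) (x : Fin N → ℝ) (hx : x ∈ cone G) (t : ℝ) (ht : 0 ≤ t) :
    t • x ∈ cone G := by
  obtain ⟨c, hc, rfl⟩ := (mem_cone_iff G x).mp hx
  refine (mem_cone_iff G _).mpr ⟨fun g => t * c g, fun g => mul_nonneg ht (hc g), ?_⟩
  rw [Finset.smul_sum]
  exact Finset.sum_congr rfl fun g _ => by rw [smul_smul]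

/-- Nonnegative combinations of an injective tuple of generators lie in the cone. -/
lemma sum_tuple_mem_cone (G : Finset (Fin N → ℤ)) {n : ℕ} (f : Fin n → (Fin N → ℤ))
    (hf : Function.Injective f) (hfG : ∀ i, f i ∈ G) (u : Fin n → ℝ) (hu : ∀ i, 0 ≤ u i) :
    (∑ i, u i • iota (f i)) ∈ cone G := by
  classical
  refine (mem_cone_iff G _).mpr ⟨Function.extend f u 0, fun g => ?_, ?_⟩
  · by_cases hg : ∃ i, f i = g
    · obtain ⟨i, rfl⟩ := hg
      rw [hf.extend_apply]
      exact hu i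
    · rw [Function.extend_apply' _ _ _ hg]
      exact le_rfl
  · have himg : Finset.univ.image f ⊆ G := by
      intro g hg
      obtain ⟨i, -, rfl⟩ := Finset.mem_image.mp hg
      exact hfG i
    rw [← Finset.sum_subset himg (fun g _ hg => by
      have hg' : ¬ ∃ i, f i = g := by
        rintro ⟨i, rfl⟩
        exact hg (Finset.mem_image_of_mem f (Finset.mem_univ i))
      rw [Function.extend_apply' _ _ _ hg']
      exact zero_smul _ _)]
    rw [Finset.sum_image (fun a _ b _ h => hf h)]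
    exact Finset.sum_congr rfl fun i _ => by rw [hf.extend_apply]

lemma cone_mono {T G : Finset (Fin N → ℤ)} (h : T ⊆ G) : cone T ⊆ cone G := by
  classical
  intro x hx
  obtain ⟨c, hc, rfl⟩ := (mem_cone_iff T x).mp hx
  refine (mem_cone_iff G _).mpr ⟨fun g => if g ∈ T then c g else 0, fun g => ?_, ?_⟩
  · by_cases hg : g ∈ T
    · simp only [hg, if_true]; exact hc g
    · simp only [hg, if_false]; exact le_rfl
  · rw [← Finset.sum_subset h (fun g _ hg => by simp only [hg, if_false]; exact zero_smul _ _)]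
    exact Finset.sum_congr rfl fun g hg => by simp only [hg, if_true]

/-- Carathéodory for cones: a point of a finitely generated cone is a positive combination of
linearly independent generators. -/
lemma caratheodory (G : Finset (Fin N → ℤ)) (x : Fin N → ℝ) (hx : x ∈ cone G) :
    ∃ T : Finset (Fin N → ℤ), T ⊆ G ∧ LinearIndepOn ℝ iota (↑T : Set (Fin N → ℤ)) ∧
      ∃ c : (Fin N → ℤ) → ℝ, (∀ g ∈ T, 0 < c g) ∧ x = ∑ g ∈ T, c g • iota g := by
  classical
  have hne : (G.powerset.filter (fun T => ∃ c : (Fin N → ℤ) → ℝ, (∀ g, 0 ≤ c g) ∧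
      x = ∑ g ∈ T, c g • iota g)).Nonempty :=
    ⟨G, by rw [Finset.mem_filter, Finset.mem_powerset]; exact ⟨subset_rfl, hx⟩⟩
  obtain ⟨T, hT, hmin⟩ := Finset.exists_min_image _ Finset.card hne
  rw [Finset.mem_filter, Finset.mem_powerset] at hT
  obtain ⟨hTG, c, hc0, hxc⟩ := hT
  have hminimal : ∀ T' : Finset (Fin N → ℤ), T' ⊆ G →
      (∃ c : (Fin N → ℤ) → ℝ, (∀ g, 0 ≤ c g) ∧ x = ∑ g ∈ T', c g • iota g) →
      T.card ≤ T'.card := fun T' h1 h2 =>
    hmin T' (by rw [Finset.mem_filter, Finset.mem_powerset]; exact ⟨h1, h2⟩)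
  have hpos : ∀ c' : (Fin N → ℤ) → ℝ, (∀ g, 0 ≤ c' g) → x = ∑ g ∈ T, c' g • iota g →
      ∀ g ∈ T, 0 < c' g := by
    intro c' hc' hx' g₀ hg₀
    by_contra hcon
    have h0 : c' g₀ = 0 := le_antisymm (not_lt.mp hcon) (hc' g₀)
    have h1 : x = ∑ g ∈ T.erase g₀, c' g • iota g := by
      rw [hx', ← Finset.add_sum_erase T _ hg₀, h0, zero_smul, zero_add]
    have h2 := hminimal (T.erase g₀) ((Finset.erase_subset _ _).trans hTG) ⟨c', hc', h1⟩
    rw [Finset.card_erase_of_mem hg₀] at h2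
    have h3 := Finset.card_pos.mpr ⟨g₀, hg₀⟩
    omega
  refine ⟨T, hTG, ?_, c, hpos c hc0 hxc, hxc⟩
  rw [linearIndepOn_finset_iff]
  intro d hsum g₁ hg₁
  by_contra hd
  obtain ⟨s, hs⟩ : ∃ s : ℝ, 0 < s * d g₁ := by
    rcases lt_or_gt_of_ne hd with h | h
    · exact ⟨-1, by linarith⟩
    · exact ⟨1, by linarith⟩
  obtain ⟨e, he⟩ : ∃ e : (Fin N → ℤ) → ℝ, e = fun g => s * d g := ⟨_, rfl⟩
  have hesum : ∑ g ∈ T, e g • iota g = 0 := by
    rw [he]
    simp only [mul_smul]
    rw [← Finset.smul_sum, hsum, smul_zero]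
  have heg₁ : 0 < e g₁ := by rw [he]; exact hs
  have hPne : (T.filter (fun g => 0 < e g)).Nonempty :=
    ⟨g₁, Finset.mem_filter.mpr ⟨hg₁, heg₁⟩⟩
  obtain ⟨g₀, hg₀, hg₀min⟩ := Finset.exists_min_image _ (fun g => c g / e g) hPne
  rw [Finset.mem_filter] at hg₀
  obtain ⟨hg₀T, heg₀⟩ := hg₀
  obtain ⟨θ, hθ⟩ : ∃ θ : ℝ, θ = c g₀ / e g₀ := ⟨_, rfl⟩
  have hcpos := hpos c hc0 hxc
  have hθpos : 0 < θ := by rw [hθ]; exact div_pos (hcpos g₀ hg₀T) heg₀
  obtain ⟨c'', hc''⟩ : ∃ c'' : (Fin N → ℤ) → ℝ,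
      c'' = fun g => if g ∈ T then c g - θ * e g else 0 := ⟨_, rfl⟩
  have hc''T : ∀ g ∈ T, c'' g = c g - θ * e g := fun g hg => by
    rw [hc'']; simp only [hg, if_true]
  have hc''0 : ∀ g, 0 ≤ c'' g := by
    intro g
    by_cases hgT : g ∈ T
    · rw [hc''T g hgT]
      by_cases hge : 0 < e g
      · have h1 : c g₀ / e g₀ ≤ c g / e g := hg₀min g (Finset.mem_filter.mpr ⟨hgT, hge⟩)
        have h2 : θ * e g ≤ c g := by
          rw [hθ]; exact (le_div_iff₀ hge).mp h1
        linarith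
      · have h1 : θ * e g ≤ 0 := mul_nonpos_of_nonneg_of_nonpos hθpos.le (not_lt.mp hge)
        have h2 := hc0 g
        linarith
    · rw [hc'']; simp only [hgT, if_false]; exact le_rfl
  have hx'' : x = ∑ g ∈ T, c'' g • iota g := by
    have h1 : ∑ g ∈ T, c'' g • iota g = ∑ g ∈ T, (c g • iota g - θ • (e g • iota g)) := by
      refine Finset.sum_congr rfl fun g hg => ?_
      rw [hc''T g hg, sub_smul, mul_smul]
    rw [h1, Finset.sum_sub_distrib, ← Finset.smul_sum, hesum, smul_zero, sub_zero]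
    exact hxc
  have h3 := hpos c'' hc''0 hx'' g₀ hg₀T
  rw [hc''T g₀ hg₀T, hθ, div_mul_cancel₀ _ heg₀.ne'] at h3
  linarith

/-- The integral linear map with prescribed images of the basis vectors. -/
noncomputable def tupLin {n : ℕ} (f : Fin n → (Fin N → ℤ)) : (Fin n → ℤ) →ₗ[ℤ] (Fin N → ℤ) :=
  Fintype.linearCombination ℤ f

lemma tupLin_single {n : ℕ} (f : Fin n → (Fin N → ℤ)) (i : Fin n) :
    tupLin f (Pi.single i 1) = f i := by
  classical
  show Fintype.linearCombination ℤ f (Pi.single i 1) = f i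
  rw [Fintype.linearCombination_apply_single, one_smul]

lemma rv_tupLin {n : ℕ} (f : Fin n → (Fin N → ℤ)) (u : Fin n → ℝ) :
    rv (tupLin f) u = ∑ i, u i • iota (f i) := by
  funext j
  rw [rv_apply, Finset.sum_apply]
  refine Finset.sum_congr rfl fun i _ => ?_
  rw [tupLin_single, Pi.smul_apply, smul_eq_mul, mul_comm]
  rfl

lemma tupLin_injective {n : ℕ} (f : Fin n → (Fin N → ℤ))
    (hf : LinearIndependent ℝ (fun i => iota (f i))) : Function.Injective (tupLin f) := by
  rw [injective_iff_map_eq_zero]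
  intro p hp
  have h1 : rv (tupLin f) (fun i => ((p i : ℤ) : ℝ)) = 0 := by
    rw [rv_int, hp]
    funext j
    simp
  rw [rv_tupLin] at h1
  have h2 := Fintype.linearIndependent_iff.mp hf _ h1
  funext i
  exact_mod_cast h2 i

/-- An injective enumeration of a finset. -/
lemma exists_enum (T : Finset (Fin N → ℤ)) :
    ∃ f : Fin T.card → (Fin N → ℤ), Function.Injective f ∧ Finset.univ.image f = T := by
  classical
  refine ⟨fun i => (T.equivFin.symm i).1, fun i j h => ?_, ?_⟩
  · exact T.equivFin.symm.injective (Subtype.ext h)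
  · ext g
    rw [Finset.mem_image]
    constructor
    · rintro ⟨i, -, rfl⟩
      exact (T.equivFin.symm i).2
    · intro hg
      exact ⟨T.equivFin ⟨g, hg⟩, Finset.mem_univ _, by rw [Equiv.symm_apply_apply]⟩

lemma linearIndependent_of_enum (T : Finset (Fin N → ℤ)) {n : ℕ} (f : Fin n → (Fin N → ℤ))
    (hf : Function.Injective f) (hfT : Finset.univ.image f = T)
    (hT : LinearIndepOn ℝ iota (↑T : Set (Fin N → ℤ))) :
    LinearIndependent ℝ (fun i => iota (f i)) := by
  classical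
  rw [Fintype.linearIndependent_iff]
  intro d hd i
  rw [linearIndepOn_finset_iff] at hT
  have h1 : ∑ g ∈ T, (Function.extend f d 0 g) • iota g = 0 := by
    rw [← hfT, Finset.sum_image (fun a _ b _ h => hf h), ← hd]
    exact Finset.sum_congr rfl fun i _ => by rw [hf.extend_apply]
  have h2 := hT _ h1 (f i) (by rw [← hfT]; exact Finset.mem_image_of_mem f (Finset.mem_univ i))
  rw [hf.extend_apply] at h2
  exact h2

lemma sum_enum (T : Finset (Fin N → ℤ)) {n : ℕ} (f : Fin n → (Fin N → ℤ))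
    (hf : Function.Injective f) (hfT : Finset.univ.image f = T) (c : (Fin N → ℤ) → ℝ) :
    ∑ g ∈ T, c g • iota g = ∑ i, c (f i) • iota (f i) := by
  classical
  rw [← hfT, Finset.sum_image (fun a _ b _ h => hf h)]

/-- Carathéodory, tuple form. -/
lemma cara_tuple (G : Finset (Fin N → ℤ)) (x : Fin N → ℝ) (hx : x ∈ cone G) :
    ∃ (n : ℕ) (f : Fin n → (Fin N → ℤ)), Function.Injective f ∧ (∀ i, f i ∈ G) ∧
      LinearIndependent ℝ (fun i => iota (f i)) ∧
      ∃ u : Fin n → ℝ, (∀ i, 0 < u i) ∧ x = rv (tupLin f) u := by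
  classical
  obtain ⟨T, hTG, hTli, c, hc, hxc⟩ := caratheodory G x hx
  obtain ⟨f, hf, hfT⟩ := exists_enum T
  have hfmem : ∀ i, f i ∈ T := fun i => by
    rw [← hfT]; exact Finset.mem_image_of_mem f (Finset.mem_univ i)
  refine ⟨T.card, f, hf, fun i => hTG (hfmem i), linearIndependent_of_enum T f hf hfT hTli,
    fun i => c (f i), fun i => hc _ (hfmem i), ?_⟩
  rw [rv_tupLin, hxc, sum_enum T f hf hfT]

/-- The cone of a linearly independent tuple is closed. -/
lemma isClosed_tuple_cone {n : ℕ} (f : Fin n → (Fin N → ℤ))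
    (hf : LinearIndependent ℝ (fun i => iota (f i))) :
    IsClosed (rv (tupLin f) '' {u : Fin n → ℝ | ∀ i, 0 ≤ u i}) := by
  have h1 : IsClosed {u : Fin n → ℝ | ∀ i, 0 ≤ u i} := by
    have : {u : Fin n → ℝ | ∀ i, 0 ≤ u i} = ⋂ i, {u : Fin n → ℝ | 0 ≤ u i} := by
      ext u; simp
    rw [this]
    exact isClosed_iInter fun i => isClosed_le continuous_const (continuous_apply i)
  exact (rvLin_isClosedEmbedding (tupLin f) (tupLin_injective f hf)).isClosedMap _ h1

/-- A finitely generated rational cone is closed. -/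
lemma isClosed_cone (G : Finset (Fin N → ℤ)) : IsClosed (cone G) := by
  classical
  have hset : cone G = ⋃ T ∈ G.powerset, {x | x ∈ cone T ∧
      LinearIndepOn ℝ iota (↑T : Set (Fin N → ℤ))} := by
    ext x
    simp only [Set.mem_iUnion, Set.mem_setOf_eq, Finset.mem_powerset, exists_prop]
    constructor
    · intro hx
      obtain ⟨T, hTG, hTli, c, hc, hxc⟩ := caratheodory G x hx
      refine ⟨T, hTG, (mem_cone_iff T x).mpr ⟨fun g => if g ∈ T then c g else 0, fun g => ?_, ?_⟩,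
        hTli⟩
      · by_cases hg : g ∈ T
        · simp only [hg, if_true]; exact (hc g hg).le
        · simp only [hg, if_false]; exact le_rfl
      · rw [hxc]
        exact Finset.sum_congr rfl fun g hg => by simp only [hg, if_true]
    · rintro ⟨T, hTG, hxT, -⟩
      exact cone_mono hTG hxT
  rw [hset]
  refine isClosed_biUnion_finset fun T _ => ?_
  by_cases hT : LinearIndepOn ℝ iota (↑T : Set (Fin N → ℤ))
  · obtain ⟨f, hf, hfT⟩ := exists_enum T
    have hli := linearIndependent_of_enum T f hf hfT hT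
    have hfmem : ∀ i, f i ∈ T := fun i => by
      rw [← hfT]; exact Finset.mem_image_of_mem f (Finset.mem_univ i)
    have h2 : {x | x ∈ cone T ∧ LinearIndepOn ℝ iota (↑T : Set (Fin N → ℤ))} =
        rv (tupLin f) '' {u : Fin T.card → ℝ | ∀ i, 0 ≤ u i} := by
      ext x
      constructor
      · rintro ⟨hx, -⟩
        obtain ⟨c, hc, rfl⟩ := (mem_cone_iff T x).mp hx
        refine ⟨fun i => c (f i), fun i => hc _, ?_⟩
        rw [rv_tupLin, sum_enum T f hf hfT]
      · rintro ⟨u, hu, rfl⟩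
        refine ⟨?_, hT⟩
        rw [rv_tupLin]
        exact sum_tuple_mem_cone T f hf hfmem u hu
    rw [h2]
    exact isClosed_tuple_cone f hli
  · have h2 : {x | x ∈ cone T ∧ LinearIndepOn ℝ iota (↑T : Set (Fin N → ℤ))} = ∅ := by
      ext x
      simp only [Set.mem_setOf_eq, Set.mem_empty_iff_false, iff_false, not_and]
      exact fun _ => hT
    rw [h2]
    exact isClosed_empty

end Groth.Agent.Helper8.RFanCara
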