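import Groth.Prelude.Def_W4c6instabfans3FanCvx
import Groth.Agent.Helper8.FanTop

set_option autoImplicit false

namespace Groth.Agent.Helper8.RFanLin

open CategoryTheory Opposite Instab Instab.Fan
open Groth.Agent.Helper8.FanRel Groth.Agent.Helper8.FanBasic Groth.Agent.Helper8.FanQS
open Groth.Agent.Helper8.FanTop

/-- The real extension of an integral linear map. -/
def rv {n N : ℕ} (L : (Fin n → ℤ) →ₗ[ℤ] (Fin N → ℤ)) (v : Fin n → ℝ) : Fin N → ℝ :=
  fun j => ∑ i, ((L (Pi.single i 1) j : ℤ) : ℝ) * v i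

lemma rv_apply {n N : ℕ} (L : (Fin n → ℤ) →ₗ[ℤ] (Fin N → ℤ)) (v : Fin n → ℝ) (j : Fin N) :
    rv L v j = ∑ i, ((L (Pi.single i 1) j : ℤ) : ℝ) * v i := rfl

lemma toVec_eq {N : ℕ} {ι : Type} (K : ι → Set (Fin N → ℝ)) (n : ICone) (φ : RFan.Cone K n)
    (v : Fin n.dim → ℝ) : RFan.toVec K n φ v = rv φ.1 v := rfl

lemma rv_add {n N : ℕ} (L : (Fin n → ℤ) →ₗ[ℤ] (Fin N → ℤ)) (v w : Fin n → ℝ) :
    rv L (v + w) = rv L v + rv L w := by
  funext j
  simp only [rv_apply, Pi.add_apply, mul_add, Finset.sum_add_distrib]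

lemma rv_smul {n N : ℕ} (L : (Fin n → ℤ) →ₗ[ℤ] (Fin N → ℤ)) (c : ℝ) (v : Fin n → ℝ) :
    rv L (c • v) = c • rv L v := by
  funext j
  simp only [rv_apply, Pi.smul_apply, smul_eq_mul, Finset.mul_sum]
  exact Finset.sum_congr rfl fun i _ => by ring

noncomputable def rvLin {n N : ℕ} (L : (Fin n → ℤ) →ₗ[ℤ] (Fin N → ℤ)) :
    (Fin n → ℝ) →ₗ[ℝ] (Fin N → ℝ) where
  toFun := rv L
  map_add' := rv_add L
  map_smul' c v := by rw [rv_smul]; rfl

lemma rvLin_apply {n N : ℕ} (L : (Fin n → ℤ) →ₗ[ℤ] (Fin N → ℤ)) (v : Fin n → ℝ) :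
    rvLin L v = rv L v := rfl

lemma continuous_rv {n N : ℕ} (L : (Fin n → ℤ) →ₗ[ℤ] (Fin N → ℤ)) : Continuous (rv L) :=
  (rvLin L).continuous_of_finiteDimensional

lemma rv_int {n N : ℕ} (L : (Fin n → ℤ) →ₗ[ℤ] (Fin N → ℤ)) (p : Fin n → ℤ) :
    rv L (fun i => ((p i : ℤ) : ℝ)) = fun j => ((L p j : ℤ) : ℝ) := by
  funext j
  rw [rv_apply, lin_apply_eq_sum]
  push_cast
  rfl

lemma rv_comp {k n : ICone} {N : ℕ} (L : (Fin n.dim → ℤ) →ₗ[ℤ] (Fin N → ℤ)) (ψ : k ⟶ n)
    (v : Fin k.dim → ℝ) : rv (L.comp ψ.toLin) v = rv L (ψ.realMap v) := by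
  funext j
  simp only [rv_apply, realMap_apply]
  have h : ∀ i, (((L.comp ψ.toLin) (Pi.single i 1) j : ℤ) : ℝ) =
      ∑ l, ((L (Pi.single l 1) j : ℤ) : ℝ) * ((ψ.toLin (Pi.single i 1) l : ℤ) : ℝ) := by
    intro i
    rw [LinearMap.comp_apply, lin_apply_eq_sum L]
    push_cast
    rfl
  simp only [h, Finset.sum_mul, Finset.mul_sum]
  rw [Finset.sum_comm]
  exact Finset.sum_congr rfl fun l _ => Finset.sum_congr rfl fun i _ => by ring

/-- The real extension of an injective integral linear map is injective. -/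
lemma rv_eq_zero {n N : ℕ} (L : (Fin n → ℤ) →ₗ[ℤ] (Fin N → ℤ)) (hL : Function.Injective L)
    (x : Fin n → ℝ) (hx : rv L x = 0) : x = 0 := by
  classical
  funext i₀
  rw [Pi.zero_apply, ← Module.forall_dual_apply_eq_zero_iff ℚ (x i₀)]
  intro ρ
  obtain ⟨q, hq⟩ : ∃ q : Fin n → ℚ, q = fun i => ρ (x i) := ⟨_, rfl⟩
  have hMq : ∀ j, ∑ i, ((L (Pi.single i 1) j : ℤ) : ℚ) * q i = 0 := by
    intro j
    have h1 := congrFun hx j
    rw [rv_apply, Pi.zero_apply] at h1
    have h2 := congrArg ρ h1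
    rw [map_sum, map_zero] at h2
    rw [← h2, hq]
    refine Finset.sum_congr rfl fun i _ => ?_
    have : (((L (Pi.single i 1) j : ℤ) : ℝ)) * x i =
        ((L (Pi.single i 1) j : ℤ) : ℚ) • x i := by
      rw [Rat.smul_def]; push_cast; rfl
    rw [this, map_smul, smul_eq_mul]
  obtain ⟨D, hD⟩ : ∃ D : ℕ, D = ∏ i, (q i).den := ⟨_, rfl⟩
  have hDpos : 0 < D := by rw [hD]; exact Finset.prod_pos fun i _ => (q i).den_pos
  have hp : ∀ i, ∃ m : ℤ, ((m : ℤ) : ℚ) = (D : ℚ) * q i := by
    intro i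
    obtain ⟨c, hc⟩ : (q i).den ∣ D := by
      rw [hD]; exact Finset.dvd_prod_of_mem (fun i => (q i).den) (Finset.mem_univ i)
    refine ⟨(c : ℤ) * (q i).num, ?_⟩
    have h1 := Rat.mul_den_eq_num (q i)
    rw [hc]; push_cast; rw [← h1]; ring
  choose p hp using hp
  have hφp : L p = 0 := by
    funext j
    rw [lin_apply_eq_sum, Pi.zero_apply]
    apply Int.cast_injective (α := ℚ)
    push_cast
    simp only [hp]
    calc ∑ i, ((L (Pi.single i 1) j : ℤ) : ℚ) * ((D : ℚ) * q i)
        = (D : ℚ) * ∑ i, ((L (Pi.single i 1) j : ℤ) : ℚ) * q i := by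
          rw [Finset.mul_sum]; exact Finset.sum_congr rfl fun i _ => by ring
      _ = 0 := by rw [hMq j, mul_zero]
  have hp0 : p = 0 := hL (hφp.trans (map_zero L).symm)
  have h3 : (D : ℚ) * q i₀ = 0 := by rw [← hp i₀, hp0]; simp
  have hq0 : q i₀ = 0 := by
    rcases mul_eq_zero.mp h3 with h | h
    · exact absurd h (by exact_mod_cast hDpos.ne')
    · exact h
  rw [hq] at hq0
  exact hq0

lemma rvLin_isClosedEmbedding {n N : ℕ} (L : (Fin n → ℤ) →ₗ[ℤ] (Fin N → ℤ))
    (hL : Function.Injective L) : Topology.IsClosedEmbedding (rvLin L) := by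
  apply LinearMap.isClosedEmbedding_of_injective
  rw [LinearMap.ker_eq_bot']
  intro x hx
  exact rv_eq_zero L hL x hx

/-- Two injective integral maps whose real cones share a point admit a common simplicial
sub-cone through it. -/
lemma rv_common_subcone {k k' : ICone} {N : ℕ} (α : (Fin k.dim → ℤ) →ₗ[ℤ] (Fin N → ℤ))
    (β : (Fin k'.dim → ℤ) →ₗ[ℤ] (Fin N → ℤ)) (hα : Function.Injective α)
    (hβ : Function.Injective β) (y : Orth k)
    (y' : Orth k') (t : ℝ) (ht : 0 < t) (h : rv α y.1 = t • rv β y'.1) :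
    ∃ (m : ICone) (ψ : m ⟶ k) (ψ' : m ⟶ k') (z : Orth m) (a' : ℝ), 0 < a' ∧
      α.comp ψ.toLin = β.comp ψ'.toLin ∧ y.1 = ψ.realMap z.1 ∧ y'.1 = a' • ψ'.realMap z.1 := by
  classical
  obtain ⟨P, hPdef⟩ : ∃ P : Fin k.dim ⊕ Fin k'.dim → ℝ, P = Sum.elim y.1 (t • y'.1) := ⟨_, rfl⟩
  have hPl : ∀ l, P (Sum.inl l) = y.1 l := fun l => by rw [hPdef]; rfl
  have hPr : ∀ l, P (Sum.inr l) = t * y'.1 l := fun l => by rw [hPdef]; rfl
  have hP0 : ∀ j, 0 ≤ P j := by
    rintro (j | j)
    · rw [hPl]; exact y.2.1 j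
    · rw [hPr]; exact mul_nonneg ht.le (y'.2.1 j)
  have hP : P ≠ 0 := by
    intro h0
    apply y.2.2
    funext j
    have := congrFun h0 (Sum.inl j)
    rw [hPl] at this
    exact this
  obtain ⟨r, A, z, hr, hz, hPz, hA0, hAind, hArel⟩ := RatCone.rat_simplicial P hP0 hP
  -- the relations
  have hrel : ∀ i (j : Fin N),
      ∑ l, ((α (Pi.single l 1) j : ℤ) : ℚ) * A i (Sum.inl l) =
        ∑ l, ((β (Pi.single l 1) j : ℤ) : ℚ) * A i (Sum.inr l) := by
    intro i j
    have h1 := hArel (Sum.elim (fun l => ((α (Pi.single l 1) j : ℤ) : ℚ))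
      (fun l => -((β (Pi.single l 1) j : ℤ) : ℚ))) ?_ i
    · rw [Fintype.sum_sum_type] at h1
      simp only [Sum.elim_inl, Sum.elim_inr, neg_mul, Finset.sum_neg_distrib] at h1
      linarith
    · rw [Fintype.sum_sum_type]
      simp only [Sum.elim_inl, Sum.elim_inr, hPl, hPr]
      have h2 := congrFun h j
      rw [rv_apply, Pi.smul_apply, rv_apply, smul_eq_mul, Finset.mul_sum] at h2
      push_cast
      rw [h2, ← Finset.sum_add_distrib]
      exact Finset.sum_eq_zero fun l _ => by ring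
  -- denominators
  obtain ⟨D, hDdef⟩ : ∃ D : Fin r → ℕ, D = fun i => ∏ x, (A i x).den := ⟨_, rfl⟩
  have hDpos : ∀ i, 0 < D i := fun i => by
    rw [hDdef]; exact Finset.prod_pos (fun x _ => (A i x).den_pos)
  have hp : ∀ i x, ∃ n : ℤ, ((n : ℤ) : ℚ) = (D i : ℚ) * A i x ∧ 0 ≤ n := by
    intro i x
    obtain ⟨c, hc⟩ : (A i x).den ∣ D i := by
      rw [hDdef]; exact Finset.dvd_prod_of_mem (fun x => (A i x).den) (Finset.mem_univ x)
    refine ⟨(c : ℤ) * (A i x).num, ?_, mul_nonneg (Int.natCast_nonneg c)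
      (Rat.num_nonneg.mpr (hA0 i x))⟩
    have h1 := Rat.mul_den_eq_num (A i x)
    rw [hc]
    push_cast
    rw [← h1]
    ring
  choose p hp hp0 using hp
  have hpR : ∀ i x, ((p i x : ℤ) : ℝ) = (D i : ℝ) * ((A i x : ℚ) : ℝ) := by
    intro i x
    have := congrArg (Rat.cast : ℚ → ℝ) (hp i x)
    push_cast at this
    exact this
  -- the key identity
  have hαβ : ∀ i, α (fun l => p i (Sum.inl l)) = β (fun l => p i (Sum.inr l)) := by
    intro i
    funext j
    rw [lin_apply_eq_sum, lin_apply_eq_sum]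
    apply Int.cast_injective (α := ℚ)
    push_cast
    simp only [hp]
    have := hrel i j
    calc ∑ l, ((α (Pi.single l 1) j : ℤ) : ℚ) * ((D i : ℚ) * A i (Sum.inl l))
        = (D i : ℚ) * ∑ l, ((α (Pi.single l 1) j : ℤ) : ℚ) * A i (Sum.inl l) := by
          rw [Finset.mul_sum]; exact Finset.sum_congr rfl fun l _ => by ring
      _ = (D i : ℚ) * ∑ l, ((β (Pi.single l 1) j : ℤ) : ℚ) * A i (Sum.inr l) := by
          rw [this]
      _ = ∑ l, ((β (Pi.single l 1) j : ℤ) : ℚ) * ((D i : ℚ) * A i (Sum.inr l)) := by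
          rw [Finset.mul_sum]; exact Finset.sum_congr rfl fun l _ => by ring
  -- vanishing criterion
  have hzero : ∀ c : Fin r → ℤ, (∀ x, ∑ i, c i * p i x = 0) → c = 0 := by
    intro c hc
    have h1 : ∑ i, ((c i : ℚ) * (D i : ℚ)) • A i = 0 := by
      funext x
      rw [Finset.sum_apply]
      simp only [Pi.smul_apply, smul_eq_mul, Pi.zero_apply]
      have h2 := congrArg (Int.cast : ℤ → ℚ) (hc x)
      push_cast at h2
      simp only [hp] at h2
      rw [← h2]
      exact Finset.sum_congr rfl fun i _ => by ring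
    have h3 := Fintype.linearIndependent_iff.mp hAind _ h1
    funext i
    have h4 := h3 i
    have hD : ((D i : ℕ) : ℚ) ≠ 0 := by exact_mod_cast (hDpos i).ne'
    rcases mul_eq_zero.mp h4 with h5 | h5
    · exact_mod_cast h5
    · exact absurd h5 hD
  have hlr : ∀ c : Fin r → ℤ, (∀ l, ∑ i, c i * p i (Sum.inl l) = 0) →
      ∀ l, ∑ i, c i * p i (Sum.inr l) = 0 := by
    intro c hc
    have h1 : ∑ i, c i • (fun l => p i (Sum.inl l) : Fin k.dim → ℤ) = 0 := by
      funext l
      rw [Finset.sum_apply]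
      simp only [Pi.smul_apply, smul_eq_mul, Pi.zero_apply]
      exact hc l
    have h2 := congrArg α h1
    rw [map_sum, map_zero] at h2
    simp only [map_smul, hαβ] at h2
    have h3 : β (∑ i, c i • (fun l => p i (Sum.inr l) : Fin k'.dim → ℤ)) = 0 := by
      rw [map_sum]; simp only [map_smul]; exact h2
    have h4 := hβ (h3.trans (map_zero β).symm)
    intro l
    have h5 := congrFun h4 l
    rw [Finset.sum_apply] at h5
    simpa only [Pi.smul_apply, smul_eq_mul, Pi.zero_apply] using h5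
  have hrl : ∀ c : Fin r → ℤ, (∀ l, ∑ i, c i * p i (Sum.inr l) = 0) →
      ∀ l, ∑ i, c i * p i (Sum.inl l) = 0 := by
    intro c hc
    have h1 : ∑ i, c i • (fun l => p i (Sum.inr l) : Fin k'.dim → ℤ) = 0 := by
      funext l
      rw [Finset.sum_apply]
      simp only [Pi.smul_apply, smul_eq_mul, Pi.zero_apply]
      exact hc l
    have h2 := congrArg β h1
    rw [map_sum, map_zero] at h2
    simp only [map_smul, ← hαβ] at h2
    have h3 : α (∑ i, c i • (fun l => p i (Sum.inl l) : Fin k.dim → ℤ)) = 0 := by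
      rw [map_sum]; simp only [map_smul]; exact h2
    have h4 := hα (h3.trans (map_zero α).symm)
    intro l
    have h5 := congrFun h4 l
    rw [Finset.sum_apply] at h5
    simpa only [Pi.smul_apply, smul_eq_mul, Pi.zero_apply] using h5
  -- the cone [m]
  obtain ⟨m, hm⟩ : ∃ m : ICone, (m.dim : ℕ) = r := ⟨⟨⟨r, hr⟩⟩, rfl⟩
  subst hm
  let ψ : m ⟶ k :=
    { toLin := Fintype.linearCombination ℤ (fun i => (fun l => p i (Sum.inl l) : Fin k.dim → ℤ))
      injective := by
        rw [injective_iff_map_eq_zero]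
        intro c hc
        rw [Fintype.linearCombination_apply] at hc
        have h1 : ∀ l, ∑ i, c i * p i (Sum.inl l) = 0 := by
          intro l
          have h5 := congrFun hc l
          rw [Finset.sum_apply] at h5
          simpa only [Pi.smul_apply, smul_eq_mul, Pi.zero_apply] using h5
        have h2 := hlr c h1
        apply hzero
        rintro (l | l)
        · exact h1 l
        · exact h2 l
      nonneg := by
        intro v hv j
        rw [Fintype.linearCombination_apply, Finset.sum_apply]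
        refine Finset.sum_nonneg fun i _ => ?_
        simp only [Pi.smul_apply, smul_eq_mul]
        exact mul_nonneg (hv i) (hp0 i _) }
  let ψ' : m ⟶ k' :=
    { toLin := Fintype.linearCombination ℤ (fun i => (fun l => p i (Sum.inr l) : Fin k'.dim → ℤ))
      injective := by
        rw [injective_iff_map_eq_zero]
        intro c hc
        rw [Fintype.linearCombination_apply] at hc
        have h1 : ∀ l, ∑ i, c i * p i (Sum.inr l) = 0 := by
          intro l
          have h5 := congrFun hc l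
          rw [Finset.sum_apply] at h5
          simpa only [Pi.smul_apply, smul_eq_mul, Pi.zero_apply] using h5
        have h2 := hrl c h1
        apply hzero
        rintro (l | l)
        · exact h2 l
        · exact h1 l
      nonneg := by
        intro v hv j
        rw [Fintype.linearCombination_apply, Finset.sum_apply]
        refine Finset.sum_nonneg fun i _ => ?_
        simp only [Pi.smul_apply, smul_eq_mul]
        exact mul_nonneg (hv i) (hp0 i _) }
  have hψ1 : ∀ i, ψ.toLin (Pi.single i 1) = fun l => p i (Sum.inl l) := by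
    intro i
    show Fintype.linearCombination ℤ _ (Pi.single i 1) = _
    rw [Fintype.linearCombination_apply_single, one_smul]
  have hψ'1 : ∀ i, ψ'.toLin (Pi.single i 1) = fun l => p i (Sum.inr l) := by
    intro i
    show Fintype.linearCombination ℤ _ (Pi.single i 1) = _
    rw [Fintype.linearCombination_apply_single, one_smul]
  have hDR : ∀ i, (0:ℝ) < (D i : ℝ) := fun i => by exact_mod_cast hDpos i
  let z' : Orth m := ⟨fun i => z i / (D i : ℝ), fun i => (div_pos (hz i) (hDR i)).le, fun h0 => by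
    have := congrFun h0 ⟨0, hr⟩
    have h1 : 0 < z ⟨0, hr⟩ / (D ⟨0, hr⟩ : ℝ) := div_pos (hz _) (hDR _)
    simp only [Pi.zero_apply] at this
    linarith⟩
  have hz'1 : ∀ i, z'.1 i = z i / (D i : ℝ) := fun i => rfl
  refine ⟨m, ψ, ψ', z', 1 / t, by positivity, ?_, ?_, ?_⟩
  · apply LinearMap.ext
    intro v
    show α (Fintype.linearCombination ℤ _ v) = β (Fintype.linearCombination ℤ _ v)
    rw [Fintype.linearCombination_apply, Fintype.linearCombination_apply, map_sum, map_sum]
    simp only [map_smul, hαβ]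
  · funext l
    rw [realMap_apply, ← hPl, hPz]
    refine Finset.sum_congr rfl fun i _ => ?_
    rw [hψ1, hpR, hz'1]
    have := (hDR i).ne'
    field_simp
  · funext l
    rw [Pi.smul_apply, realMap_apply, smul_eq_mul]
    have h1 : y'.1 l = (1 / t) * P (Sum.inr l) := by
      rw [hPr]; field_simp
    rw [h1, hPz]
    congr 1
    refine Finset.sum_congr rfl fun i _ => ?_
    rw [hψ'1, hpR, hz'1]
    have := (hDR i).ne'
    field_simp


end Groth.Agent.Helper8.RFanLin
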