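import Groth.Agent.Helper8.RFanCara
import Groth.Agent.Helper8.FanSeq
import Mathlib.Topology.Separation.Hausdorff
import Mathlib.Analysis.Convex.StdSimplex

set_option autoImplicit false

namespace Groth.Agent.Helper8.RFanMain

open CategoryTheory Opposite Instab Instab.Fan
open Groth.Agent.Helper8.FanBasic Groth.Agent.Helper8.FanTop Groth.Agent.Helper8.FanBdd
open Groth.Agent.Helper8.FanRat Groth.Agent.Helper8.FanSeq
open Groth.Agent.Helper8.RFanLin Groth.Agent.Helper8.RFanCara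

variable {N : ℕ} {ι : Type}

lemma rays_mk_eq_iff (v w : {v : Fin N → ℝ // v ≠ 0}) :
    (Quot.mk _ v : Rays N) = Quot.mk _ w ↔ ∃ c : ℝ, 0 < c ∧ w.1 = c • v.1 := by
  constructor
  · intro h
    have h' := Quot.eqvGen_exact h
    have hequiv : Equivalence (fun v w : {v : Fin N → ℝ // v ≠ 0} =>
        ∃ c : ℝ, 0 < c ∧ w.1 = c • v.1) := by
      refine ⟨fun v => ⟨1, one_pos, (one_smul _ _).symm⟩, ?_, ?_⟩
      · rintro v w ⟨c, hc, hw⟩
        exact ⟨c⁻¹, inv_pos.mpr hc, by rw [hw, smul_smul, inv_mul_cancel₀ hc.ne', one_smul]⟩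
      · rintro u v w ⟨c, hc, hv⟩ ⟨c', hc', hw⟩
        exact ⟨c' * c, mul_pos hc' hc, by rw [hw, hv, smul_smul]⟩
    exact hequiv.eqvGen_iff.mp h'
  · intro h
    exact Quot.sound h

instance rays_t2 : T2Space (Rays N) := by
  have hresp : ∀ v w : {v : Fin N → ℝ // v ≠ 0}, (∃ c : ℝ, 0 < c ∧ w.1 = c • v.1) →
      ‖v.1‖⁻¹ • v.1 = ‖w.1‖⁻¹ • w.1 := by
    rintro v w ⟨c, hc, hw⟩
    have hv : ‖v.1‖ ≠ 0 := norm_ne_zero_iff.mpr v.2
    rw [hw, norm_smul, Real.norm_eq_abs, abs_of_pos hc, smul_smul]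
    congr 1
    field_simp
  obtain ⟨ν, hν⟩ : ∃ ν : Rays N → (Fin N → ℝ), ∀ w : {v : Fin N → ℝ // v ≠ 0},
      ν (Quot.mk _ w) = ‖w.1‖⁻¹ • w.1 :=
    ⟨Quot.lift (fun w : {v : Fin N → ℝ // v ≠ 0} => ‖w.1‖⁻¹ • w.1) hresp, fun w => rfl⟩
  have hcont : Continuous ν := by
    have h1 : Continuous (fun w : {v : Fin N → ℝ // v ≠ 0} => ‖w.1‖⁻¹ • w.1) :=
      (continuous_subtype_val.norm.inv₀ (fun w => norm_ne_zero_iff.mpr w.2)).smul
        continuous_subtype_val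
    have h2 : ν = Quot.lift (fun w : {v : Fin N → ℝ // v ≠ 0} => ‖w.1‖⁻¹ • w.1) hresp := by
      funext r
      obtain ⟨w, rfl⟩ := Quot.exists_rep r
      exact hν w
    rw [h2]
    exact continuous_quot_lift _ h1
  have hinj : Function.Injective ν := by
    intro r r' hrr'
    obtain ⟨v, rfl⟩ := Quot.exists_rep r
    obtain ⟨w, rfl⟩ := Quot.exists_rep r'
    rw [hν, hν] at hrr'
    have hv : 0 < ‖v.1‖ := norm_pos_iff.mpr v.2
    have hw : 0 < ‖w.1‖ := norm_pos_iff.mpr w.2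
    refine (rays_mk_eq_iff v w).mpr ⟨‖w.1‖ * ‖v.1‖⁻¹, mul_pos hw (inv_pos.mpr hv), ?_⟩
    rw [mul_smul, hrr', smul_smul, mul_inv_cancel₀ hw.ne', one_smul]
  exact T2Space.of_injective_continuous hinj hcont

lemma rfan_map_val (K : ι → Set (Fin N → ℝ)) {k n : ICone} (ψ : k ⟶ n)
    (ξ : (RFan K).obj (op n)) : ((RFan K).map ψ.op ξ).1 = ξ.1.comp ψ.toLin := rfl

/-- The ray of a point of the disjoint union of orthants. -/
noncomputable def g₀ (K : ι → Set (Fin N → ℝ)) (p : Pt (RFan K)) : Rays N :=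
  Quot.mk _ ⟨rv p.1.2.1 p.2.1, fun h => p.2.2.2 (rv_eq_zero _ p.1.2.2.1 _ h)⟩

lemma g₀_rel (K : ι → Set (Fin N → ℝ)) (p q : Pt (RFan K)) (h : Rel (RFan K) p q) :
    g₀ K p = g₀ K q := by
  obtain @⟨k, n, ψ, ξ, v, w, c, hc, hw⟩ := h
  apply Quot.sound
  refine ⟨c, hc, ?_⟩
  show rv ξ.1 w.1 = c • rv ((RFan K).map ψ.op ξ).1 v.1
  rw [hw, rv_smul, rfan_map_val, rv_comp]

/-- The canonical map from the projective realization of `R(K)` to the space of rays. -/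
noncomputable def gmap (K : ι → Set (Fin N → ℝ)) : P (RFan K) → Rays N :=
  Quot.lift (g₀ K) (g₀_rel K)

lemma gmap_mk (K : ι → Set (Fin N → ℝ)) {n : ICone} (φ : (RFan K).obj (op n)) (v : Orth n) :
    gmap K (P.mk φ v) =
      Quot.mk _ ⟨rv φ.1 v.1, fun h => v.2.2 (rv_eq_zero _ φ.2.1 _ h)⟩ := rfl

lemma continuous_gmap (K : ι → Set (Fin N → ℝ)) : Continuous (gmap K) := by
  refine continuous_quot_lift _ ?_
  refine continuous_sigma fun e => ?_
  exact continuous_quot_mk.comp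
    (((continuous_rv e.2.1).comp (continuous_val e.1)).subtype_mk _)

lemma gmap_injective (K : ι → Set (Fin N → ℝ)) : Function.Injective (gmap K) := by
  intro x x' h
  obtain ⟨n, φ, v, rfl⟩ := exists_rep x
  obtain ⟨n', φ', v', rfl⟩ := exists_rep x'
  rw [gmap_mk, gmap_mk] at h
  obtain ⟨c, hc, hcv⟩ := (rays_mk_eq_iff _ _).mp h
  have hcv' : rv φ'.1 v'.1 = c • rv φ.1 v.1 := hcv
  have h2 : rv φ.1 v.1 = c⁻¹ • rv φ'.1 v'.1 := by
    rw [hcv', smul_smul, inv_mul_cancel₀ hc.ne', one_smul]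
  obtain ⟨m, ψ, ψ', z, a', ha', hcomp, hv, hv'⟩ :=
    rv_common_subcone φ.1 φ'.1 φ.2.1 φ'.2.1 v v' c⁻¹ (inv_pos.mpr hc) h2
  have e : (RFan K).map ψ.op φ = (RFan K).map ψ'.op φ' := Subtype.ext hcomp
  rw [← mk_glue ψ φ z v 1 one_pos (by rw [one_smul]; exact hv),
    ← mk_glue ψ' φ' z v' a' ha' hv', e]

lemma isCompact_simplex (n : ICone) :
    IsCompact {u : Orth n | u.1 ∈ stdSimplex ℝ (Fin n.dim)} := by
  rw [(orth_isInducing n).isCompact_iff]
  have h1 : (fun v : Orth n => v.1) '' {u : Orth n | u.1 ∈ stdSimplex ℝ (Fin n.dim)} =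
      stdSimplex ℝ (Fin n.dim) := by
    ext v
    constructor
    · rintro ⟨u, hu, rfl⟩
      exact hu
    · intro hv
      have hv0 : v ≠ 0 := by
        intro h0
        have h1 := hv.2
        rw [h0] at h1
        simp at h1
      exact ⟨⟨v, hv.1, hv0⟩, hv, rfl⟩
  rw [h1]
  exact isCompact_stdSimplex ℝ (Fin n.dim)

/-- Real nonnegative vectors are mapped into the closed cone `K a`. -/
lemma real_mem (K : ι → Set (Fin N → ℝ)) (a : ι) (hcl : IsClosed (K a))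
    (hsm : ∀ x ∈ K a, ∀ t : ℝ, 0 ≤ t → t • x ∈ K a) {n : ICone}
    (L : (Fin n.dim → ℤ) →ₗ[ℤ] (Fin N → ℤ))
    (hL : ∀ v : Fin n.dim → ℤ, (∀ i, 0 ≤ v i) → (fun j => ((L v j : ℤ) : ℝ)) ∈ K a)
    (v : Orth n) : rv L v.1 ∈ K a := by
  have hR : IsClosed {v : Orth n | rv L v.1 ∈ K a} :=
    hcl.preimage ((continuous_rv L).comp (continuous_val n))
  exact mem_of_closed_of_rational _ hR (fun p hp0 hp w c hc hw => by
    show rv L w.1 ∈ K a
    rw [hw, rv_smul, rv_int]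
    exact hsm _ (hL p hp0) c hc.le) v

/-- A chosen injective enumeration of a finset. -/
noncomputable def enumOf (T : Finset (Fin N → ℤ)) : Fin T.card → (Fin N → ℤ) :=
  (exists_enum T).choose

lemma enumOf_injective (T : Finset (Fin N → ℤ)) : Function.Injective (enumOf T) :=
  (exists_enum T).choose_spec.1

lemma enumOf_image (T : Finset (Fin N → ℤ)) : Finset.univ.image (enumOf T) = T :=
  (exists_enum T).choose_spec.2

lemma enumOf_mem (T : Finset (Fin N → ℤ)) (i : Fin T.card) : enumOf T i ∈ T := by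
  classical
  have h : enumOf T i ∈ Finset.univ.image (enumOf T) :=
    Finset.mem_image_of_mem _ (Finset.mem_univ i)
  rw [enumOf_image T] at h
  exact h

/-- The simplicial cell of `R(K)` spanned by a linearly independent set of generators. -/
noncomputable def cellOf (K : ι → Set (Fin N → ℝ)) (a : ι) (G : Finset (Fin N → ℤ))
    (hG : cone G ⊆ K a) (T : Finset (Fin N → ℤ))
    (h : T ⊆ G ∧ T.Nonempty ∧ LinearIndepOn ℝ iota (↑T : Set (Fin N → ℤ))) :
    RFan.Cone K ⟨⟨T.card, Finset.card_pos.mpr h.2.1⟩⟩ :=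
  ⟨tupLin (enumOf T),
    tupLin_injective _ (linearIndependent_of_enum T _ (enumOf_injective T) (enumOf_image T) h.2.2),
    a, fun v hv => by
      have h1 : rv (tupLin (enumOf T)) (fun i => ((v i : ℤ) : ℝ)) ∈ K a := by
        rw [rv_tupLin]
        exact hG (cone_mono h.1 (sum_tuple_mem_cone T _ (enumOf_injective T) (enumOf_mem T) _
          (fun i => by exact_mod_cast hv i)))
      rw [rv_int] at h1
      exact h1⟩

lemma cellOf_val (K : ι → Set (Fin N → ℝ)) (a : ι) (G : Finset (Fin N → ℤ))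
    (hG : cone G ⊆ K a) (T : Finset (Fin N → ℤ))
    (h : T ⊆ G ∧ T.Nonempty ∧ LinearIndepOn ℝ iota (↑T : Set (Fin N → ℤ))) :
    (cellOf K a G hG T h).1 = tupLin (enumOf T) := rfl

lemma key (K : ι → Set (Fin N → ℝ)) (a : ι) (G : Finset (Fin N → ℤ)) (hG : cone G ⊆ K a)
    (w : {w : Fin N → ℝ // w ≠ 0}) (hw : w.1 ∈ cone G) :
    ∃ (T : Finset (Fin N → ℤ))
      (h : T ⊆ G ∧ T.Nonempty ∧ LinearIndepOn ℝ iota (↑T : Set (Fin N → ℤ)))
      (u : Orth ⟨⟨T.card, Finset.card_pos.mpr h.2.1⟩⟩),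
      gmap K (P.mk (cellOf K a G hG T h) u) = Quot.mk _ w := by
  classical
  obtain ⟨T, hTG, hTli, c, hc, hwc⟩ := caratheodory G w.1 hw
  have hTne : T.Nonempty := by
    by_contra hcon
    rw [Finset.not_nonempty_iff_eq_empty] at hcon
    apply w.2
    rw [hwc, hcon, Finset.sum_empty]
  have hcard : 0 < T.card := Finset.card_pos.mpr hTne
  obtain ⟨u, hu⟩ : ∃ u : Orth ⟨⟨T.card, hcard⟩⟩, u.1 = fun i => c (enumOf T i) := by
    refine ⟨⟨fun i => c (enumOf T i), fun i => (hc _ (enumOf_mem T i)).le, ?_⟩, rfl⟩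
    intro h0
    have h1 : c (enumOf T ⟨0, hcard⟩) = 0 := congr_fun h0 ⟨0, hcard⟩
    have h2 := hc _ (enumOf_mem T ⟨0, hcard⟩)
    exact h2.ne' h1
  refine ⟨T, ⟨hTG, hTne, hTli⟩, u, ?_⟩
  rw [gmap_mk]
  refine (rays_mk_eq_iff _ _).mpr ⟨1, one_pos, ?_⟩
  show w.1 = (1:ℝ) • rv (tupLin (enumOf T)) u.1
  rw [one_smul, hu]
  have h3 := rv_tupLin (enumOf T) (fun i => c (enumOf T i))
  rw [hwc, sum_enum T _ (enumOf_injective T) (enumOf_image T)]
  exact h3.symm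

/-- The compact piece of `P (R(K))` attached to a set of generators. -/
noncomputable def piece (K : ι → Set (Fin N → ℝ)) (a : ι) (G : Finset (Fin N → ℤ))
    (hG : cone G ⊆ K a) (T : Finset (Fin N → ℤ)) : Set (P (RFan K)) := by
  classical
  exact if h : T ⊆ G ∧ T.Nonempty ∧ LinearIndepOn ℝ iota (↑T : Set (Fin N → ℤ)) then
    P.mk (cellOf K a G hG T h) '' {u | u.1 ∈ stdSimplex ℝ _} else ∅

lemma isCompact_piece (K : ι → Set (Fin N → ℝ)) (a : ι) (G : Finset (Fin N → ℤ))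
    (hG : cone G ⊆ K a) (T : Finset (Fin N → ℤ)) : IsCompact (piece K a G hG T) := by
  classical
  unfold piece
  by_cases h : T ⊆ G ∧ T.Nonempty ∧ LinearIndepOn ℝ iota (↑T : Set (Fin N → ℤ))
  · rw [dif_pos h]
    exact (isCompact_simplex _).image (continuous_mk _)
  · rw [dif_neg h]
    exact isCompact_empty

theorem s19372 {N : ℕ} {ι : Type} [Finite ι] (K : ι → Set (Fin N → ℝ))
    (hK : ∀ a, ∃ (m : ℕ) (gen : Fin m → Finset (Fin N → ℤ)),
      K a = Set.iUnion fun l => {x | ∃ c : (Fin N → ℤ) → ℝ, (∀ g, 0 ≤ c g) ∧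
        x = Finset.sum (gen l) fun g => c g • fun j => (g j : ℝ)}) :
    ∃ g : Fan.P (RFan K) → Fan.Rays N,
      (∀ (n : ICone) (φ : (RFan K).obj (op n)) (v : Fan.Orth n) (h : RFan.toVec K n φ v.1 ≠ 0),
        g (Fan.P.mk φ v) = Quot.mk _ ⟨RFan.toVec K n φ v.1, h⟩) ∧
      Topology.IsEmbedding g ∧
      Set.range g = {r | ∃ w : {w : Fin N → ℝ // w ≠ 0}, r = Quot.mk _ w ∧ w.1 ∈ Set.iUnion K} := by
  classical
  choose m gen hKeq using hK
  have hKeq' : ∀ a, K a = ⋃ l, cone (gen a l) := hKeq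
  have hcl : ∀ a, IsClosed (K a) := fun a => by
    rw [hKeq' a]
    exact isClosed_iUnion_of_finite fun l => isClosed_cone (gen a l)
  have hsm : ∀ a, ∀ x ∈ K a, ∀ t : ℝ, 0 ≤ t → t • x ∈ K a := by
    intro a x hx t ht
    rw [hKeq' a] at hx ⊢
    obtain ⟨l, hl⟩ := Set.mem_iUnion.mp hx
    exact Set.mem_iUnion.mpr ⟨l, cone_smul _ x hl t ht⟩
  have hsub : ∀ a l, cone (gen a l) ⊆ K a := fun a l => by
    rw [hKeq' a]
    exact Set.subset_iUnion (fun l => cone (gen a l)) l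
  have hH : ∀ (n : ICone) (φ : RFan.Cone K n) (v : Orth n), ∃ a, rv φ.1 v.1 ∈ K a := by
    intro n φ v
    obtain ⟨a, ha⟩ := φ.2.2
    exact ⟨a, real_mem K a (hcl a) (hsm a) φ.1 ha v⟩
  have hkey : ∀ (a : ι) (w : {w : Fin N → ℝ // w ≠ 0}), w.1 ∈ K a →
      ∃ (l : Fin (m a)) (T : Finset (Fin N → ℤ))
        (h : T ⊆ gen a l ∧ T.Nonempty ∧ LinearIndepOn ℝ iota (↑T : Set (Fin N → ℤ)))
        (u : Orth ⟨⟨T.card, Finset.card_pos.mpr h.2.1⟩⟩),
        gmap K (P.mk (cellOf K a (gen a l) (hsub a l) T h) u) = Quot.mk _ w := by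
    intro a w hw
    rw [hKeq' a] at hw
    obtain ⟨l, hl⟩ := Set.mem_iUnion.mp hw
    obtain ⟨T, h, u, hu⟩ := key K a (gen a l) (hsub a l) w hl
    exact ⟨l, T, h, u, hu⟩
  refine ⟨gmap K, fun n φ v h => rfl, ?_, ?_⟩
  · haveI : CompactSpace (P (RFan K)) := ⟨by
      have hcover : (Set.univ : Set (P (RFan K))) =
          ⋃ a, ⋃ l, ⋃ T ∈ (gen a l).powerset, piece K a (gen a l) (hsub a l) T := by
        symm
        rw [Set.eq_univ_iff_forall]
        intro x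
        obtain ⟨n, φ, v, rfl⟩ := exists_rep x
        obtain ⟨a, ha⟩ := hH n φ v
        obtain ⟨l, T, h, u, hu⟩ := hkey a ⟨rv φ.1 v.1, fun h => v.2.2 (rv_eq_zero _ φ.2.1 _ h)⟩ ha
        have hx : P.mk φ v = P.mk (cellOf K a (gen a l) (hsub a l) T h) u :=
          gmap_injective K ((gmap_mk K φ v).trans hu.symm)
        simp only [Set.mem_iUnion]
        refine ⟨a, l, T, Finset.mem_powerset.mpr h.1, ?_⟩
        unfold piece
        rw [dif_pos h]
        exact ⟨norm1 u, norm1_mem u, by rw [mk_norm1, hx]⟩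
      rw [hcover]
      exact isCompact_iUnion fun a => isCompact_iUnion fun l =>
        Finset.isCompact_biUnion _ fun T _ => isCompact_piece K a (gen a l) (hsub a l) T⟩
    exact ((continuous_gmap K).isClosedEmbedding (gmap_injective K)).isEmbedding
  · ext r
    constructor
    · rintro ⟨x, rfl⟩
      obtain ⟨n, φ, v, rfl⟩ := exists_rep x
      obtain ⟨a, ha⟩ := hH n φ v
      exact ⟨⟨rv φ.1 v.1, fun h => v.2.2 (rv_eq_zero _ φ.2.1 _ h)⟩, rfl,
        Set.mem_iUnion.mpr ⟨a, ha⟩⟩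
    · rintro ⟨w, rfl, hw⟩
      obtain ⟨a, ha⟩ := Set.mem_iUnion.mp hw
      obtain ⟨l, T, h, u, hu⟩ := hkey a w ha
      exact ⟨_, hu⟩

end Groth.Agent.Helper8.RFanMain
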