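import Mathlib
import Groth.Prelude.Def_W4c2azumayainvolQEt

set_option autoImplicit false
open Matrix

namespace Groth.Agent.Helper8.RInvAlt

section abstract
variable {T : Type*} [CommRing T]

theorem gram_aux (a d w y cc : T) (K1 : a*w^2 + 2*w - d = 0) (K2 : y*(1 + a*w) = -1)
    (K3 : a*y^2 = 2*cc) :
    (!![-w, 1; y + cc*w, -cc] : Matrix (Fin 2) (Fin 2) T) * !![a, 1; -1, d] *
      !![w, y + cc*w; 1, cc] = !![0, 1; -1, 0] := by
  rw [Matrix.mul_fin_two, Matrix.mul_fin_two]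
  ext i j
  fin_cases i <;> fin_cases j
  · simp
    linear_combination (-1) * K1
  · simp
    linear_combination (-1)*K2 - cc*K1
  · simp
    linear_combination K2 + cc*K1
  · simp
    linear_combination K3 + 2*cc*K2 + cc^2*K1

theorem gram_norm (Λ : T →+* T) (a b bl d bi bli : T) (hbi : Λ bi = bli) (h1 : b * bi = 1)
    (h2 : bl * bli = 1) :
    ((!![1, 0; 0, bi] : Matrix (Fin 2) (Fin 2) T).map Λ)ᵀ * !![a, b; -bl, d] * !![1, 0; 0, bi]
      = !![a, 1; -1, d * (bi * bli)] := by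
  have e1 : ((!![1, 0; 0, bi] : Matrix (Fin 2) (Fin 2) T).map Λ)ᵀ = !![1, 0; 0, bli] := by
    ext i j
    fin_cases i <;> fin_cases j <;> simp [hbi]
  rw [e1, Matrix.mul_fin_two, Matrix.mul_fin_two]
  ext i j
  fin_cases i <;> fin_cases j
  · simp
  · simp [h1]
  · simp
    linear_combination h2
  · simp
    ring

theorem gram_core (Λ : T →+* T) (a d τ ui si hf : T)
    (ha : Λ a = -a) (hd : Λ d = -d) (hτ : Λ τ = τ) (hui : Λ ui = ui) (hsi : Λ si = si)
    (hhf : Λ hf = hf)
    (h1 : (1 + τ) * ui = 1) (h2 : τ^2 = 1 + a * d) (h3 : τ^2 * si = 1) (h4 : 2 * hf = 1) :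
    ((!![d * ui, -(τ * si) + si * a * hf * (d * ui); 1, si * a * hf] :
        Matrix (Fin 2) (Fin 2) T).map Λ)ᵀ * !![a, 1; -1, d] *
      !![d * ui, -(τ * si) + si * a * hf * (d * ui); 1, si * a * hf] = !![0, 1; -1, 0] := by
  have e1 : ((!![d * ui, -(τ * si) + si * a * hf * (d * ui); 1, si * a * hf] :
        Matrix (Fin 2) (Fin 2) T).map Λ)ᵀ =
      !![-(d * ui), 1; -(τ * si) + si * a * hf * (d * ui), -(si * a * hf)] := by
    ext i j
    fin_cases i <;> fin_cases j <;> simp [ha, hd, hτ, hui, hsi, hhf]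
  rw [e1]
  refine gram_aux a d (d * ui) (-(τ * si)) (si * a * hf) ?_ ?_ ?_
  · linear_combination d*(1 + ui*(τ-1)) * h1 - d*ui^2 * h2
  · linear_combination (-1) * h3 - τ*si*(τ-1) * h1 + τ*si*ui * h2
  · linear_combination a*si * h3 - si*a * h4

end abstract
section tensor

universe u v w

open scoped TensorProduct

variable {B : Type u} {A : Type v} [CommRing B] [CommRing A] [Algebra B A]

theorem core (lam : A ≃ₐ[B] A) (hlam : ∀ a, lam (lam a) = a)
    (h : Matrix (Fin 2) (Fin 2) A) (herm : -(h.map lam).transpose = h)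
    (bi hf : A) (hb : h 0 1 * bi = 1) (hhf : 2 * hf = 1)
    (s si : B) (hs : algebraMap B A s = 1 + h 0 0 * (h 1 1 * (bi * lam bi))) (hsi : s * si = 1)
    (C : Type w) [CommRing C] [Algebra B C] (τ ui : C) (hτ : τ ^ 2 = algebraMap B C s)
    (hu : (1 + τ) * ui = 1) :
    ∃ v : Matrix (Fin 2) (Fin 2) (C ⊗[B] A), IsUnit v ∧
      (v.map (Algebra.TensorProduct.congr (AlgEquiv.refl : C ≃ₐ[C] C) lam)).transpose *
        h.map (Algebra.TensorProduct.includeRight : A →ₐ[B] C ⊗[B] A) * v =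
      (Matrix.of ![![(0 : A), 1], ![-1, 0]]).map
        (Algebra.TensorProduct.includeRight : A →ₐ[B] C ⊗[B] A) := by
  -- entries of `h`
  have h00 : lam (h 0 0) = -h 0 0 := by
    have := congrFun (congrFun herm 0) 0
    simp only [Matrix.neg_apply, Matrix.transpose_apply, Matrix.map_apply] at this
    exact neg_eq_iff_eq_neg.mp this
  have h11 : lam (h 1 1) = -h 1 1 := by
    have := congrFun (congrFun herm 1) 1
    simp only [Matrix.neg_apply, Matrix.transpose_apply, Matrix.map_apply] at this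
    exact neg_eq_iff_eq_neg.mp this
  have hd1 : lam (h 1 1 * (bi * lam bi)) = -(h 1 1 * (bi * lam bi)) := by
    rw [map_mul, map_mul, h11, hlam]; ring
  have h10 : h 1 0 = -lam (h 0 1) := by
    have := congrFun (congrFun herm 1) 0
    simp only [Matrix.neg_apply, Matrix.transpose_apply, Matrix.map_apply] at this
    exact this.symm
  have hlhf : lam hf = hf := by
    have e : (2 : A) * lam hf = 1 := by
      have := congrArg lam hhf
      rwa [map_mul, map_one, map_ofNat] at this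
    calc lam hf = lam hf * (2 * hf) := by rw [hhf, mul_one]
      _ = (2 * lam hf) * hf := by ring
      _ = hf := by rw [e, one_mul]
  -- the maps
  let ιA : A →ₐ[B] C ⊗[B] A := Algebra.TensorProduct.includeRight
  let ιC : C →ₐ[B] C ⊗[B] A := Algebra.TensorProduct.includeLeft
  let Λ : (C ⊗[B] A) →+* (C ⊗[B] A) :=
    ((Algebra.TensorProduct.congr (AlgEquiv.refl : C ≃ₐ[C] C) lam :
      (C ⊗[B] A) ≃ₐ[C] (C ⊗[B] A)) : (C ⊗[B] A) →+* (C ⊗[B] A))
  have hΛA : ∀ x : A, Λ (ιA x) = ιA (lam x) := by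
    intro x
    simp [Λ, ιA]
  have hΛC : ∀ c : C, Λ (ιC c) = ιC c := by
    intro c
    simp [Λ, ιC]
  have hBC : ∀ β : B, ιC (algebraMap B C β) = ιA (algebraMap B A β) := by
    intro β
    simp only [ιC, ιA, Algebra.TensorProduct.includeLeft_apply,
      Algebra.TensorProduct.includeRight_apply, Algebra.algebraMap_eq_smul_one]
    rw [TensorProduct.smul_tmul]
  -- elements
  set a' := ιA (h 0 0) with ha'
  set d' := ιA (h 1 1 * (bi * lam bi)) with hd'
  set bi' := ιA bi with hbi'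
  set τ' := ιC τ with hτ'
  set ui' := ιC ui with hui'
  set si' := ιC (algebraMap B C si) with hsi'
  set hf' := ιA hf with hhf'
  have hH : h.map ιA = !![a', ιA (h 0 1); -ιA (lam (h 0 1)), ιA (h 1 1)] := by
    ext i j
    fin_cases i <;> fin_cases j <;> simp [ha', h10]
  have hJ : (Matrix.of ![![(0 : A), 1], ![-1, 0]]).map ιA = !![0, 1; -1, 0] := by
    ext i j
    fin_cases i <;> fin_cases j <;> simp
  have N := gram_norm Λ a' (ιA (h 0 1)) (ιA (lam (h 0 1))) (ιA (h 1 1)) bi' (ιA (lam bi))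
    (hΛA bi) (by rw [hbi', ← map_mul, hb, map_one])
    (by rw [← map_mul, ← map_mul, hb, map_one, map_one])
  have hd'' : ιA (h 1 1) * (bi' * ιA (lam bi)) = d' := by
    rw [hd', hbi', map_mul, map_mul]
  rw [hd''] at N
  have G := gram_core Λ a' d' τ' ui' si' hf'
    (by rw [ha', hΛA, h00, map_neg])
    (by rw [hd', hΛA, hd1, map_neg])
    (hΛC _) (hΛC _) (hΛC _) (by rw [hhf', hΛA, hlhf])
    (by rw [hτ', hui', ← map_one ιC, ← map_add, ← map_mul, hu])
    (by rw [hτ', ← map_pow, hτ, hBC, hs, map_add, map_one, map_mul])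
    (by rw [hτ', hsi', ← map_pow, ← map_mul, hτ, ← map_mul, hsi, map_one, map_one])
    (by rw [hhf', ← map_ofNat ιA 2, ← map_mul, hhf, map_one])
  set v₀ : Matrix (Fin 2) (Fin 2) (C ⊗[B] A) := !![1, 0; 0, bi'] with hv₀
  set v₁ : Matrix (Fin 2) (Fin 2) (C ⊗[B] A) :=
    !![d' * ui', -(τ' * si') + si' * a' * hf' * (d' * ui'); 1, si' * a' * hf'] with hv₁
  refine ⟨v₀ * v₁, ?_, ?_⟩
  · refine IsUnit.mul ?_ ?_
    · rw [Matrix.isUnit_iff_isUnit_det, hv₀, Matrix.det_fin_two_of]
      refine IsUnit.of_mul_eq_one (ιA (h 0 1)) ?_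
      rw [hbi']
      simp only [one_mul, mul_zero, sub_zero]
      rw [← map_mul, mul_comm, hb, map_one]
    · rw [Matrix.isUnit_iff_isUnit_det, hv₁, Matrix.det_fin_two_of]
      refine IsUnit.of_mul_eq_one τ' ?_
      have h3 : τ' ^ 2 * si' = 1 := by
        rw [hτ', hsi', ← map_pow, ← map_mul, hτ, ← map_mul, hsi, map_one, map_one]
      linear_combination h3
  · have hmap : (v₀ * v₁).map (Algebra.TensorProduct.congr (AlgEquiv.refl : C ≃ₐ[C] C) lam) =
        v₀.map Λ * v₁.map Λ := by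
      rw [← Matrix.map_mul]
      rfl
    rw [hmap, Matrix.transpose_mul]
    change ((v₁.map Λ)ᵀ * (v₀.map Λ)ᵀ) * h.map ιA * (v₀ * v₁) = _
    rw [hJ, hH]
    calc (v₁.map Λ)ᵀ * (v₀.map Λ)ᵀ * !![a', ιA (h 0 1); -ιA (lam (h 0 1)), ιA (h 1 1)] * (v₀ * v₁)
        = (v₁.map Λ)ᵀ * ((v₀.map Λ)ᵀ * !![a', ιA (h 0 1); -ιA (lam (h 0 1)), ιA (h 1 1)] * v₀)
            * v₁ := by simp only [Matrix.mul_assoc]
      _ = !![0, 1; -1, 0] := by rw [N, G]

/-- units of the fixed ring are detected in the big ring -/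
theorem isUnit_of_isUnit_algebraMap (lam : A ≃ₐ[B] A)
    (hB : RInv.IsFixedRing B A lam.toRingEquiv) (β : B) (hβ : IsUnit (algebraMap B A β)) :
    IsUnit β := by
  obtain ⟨y, hy⟩ := hβ.exists_right_inv
  have hly : lam y = y := by
    have e : algebraMap B A β * lam y = 1 := by
      have := congrArg lam hy
      rwa [map_mul, map_one, lam.commutes] at this
    calc lam y = lam y * (algebraMap B A β * y) := by rw [hy, mul_one]
      _ = (algebraMap B A β * lam y) * y := by ring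
      _ = y := by rw [e, one_mul]
  obtain ⟨y', hy'⟩ := (hB.2 y).1 hly
  refine IsUnit.of_mul_eq_one y' ?_
  apply hB.1
  rw [map_mul, map_one, hy', hy]

open MvPolynomial in
/-- **S17363** -/
theorem main (B : Type u) (A : Type v) [CommRing B] [CommRing A]
    [Algebra B A] (lam : A ≃ₐ[B] A) (hlam : ∀ a, lam (lam a) = a)
    (hB : RInv.IsFixedRing B A lam.toRingEquiv)
    (h2 : IsUnit (2 : A))
    (h : Matrix (Fin 2) (Fin 2) A) (herm : -(h.map lam).transpose = h)
    (hJ : ∀ i j : Fin 2, h i j - Matrix.of ![![(0 : A), 1], ![-1, 0]] i j ∈ Ring.jacobson A) :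
    ∃ (s t : Bˣ) (r : ℕ) (f : Fin r → (MvPolynomial (Fin 2) B ⧸ Ideal.span ({MvPolynomial.X 0 ^ 2 - MvPolynomial.C (s : B), MvPolynomial.X 1 ^ 2 - MvPolynomial.C (t : B)} : Set (MvPolynomial (Fin 2) B)))),
      Ideal.span (Set.range f) = ⊤ ∧
      ∀ i : Fin r, ∃ v : Matrix (Fin 2) (Fin 2) (Localization.Away (f i) ⊗[B] A), IsUnit v ∧
        (v.map (Algebra.TensorProduct.congr (AlgEquiv.refl : Localization.Away (f i) ≃ₐ[Localization.Away (f i)] Localization.Away (f i)) lam)).transpose * h.map (Algebra.TensorProduct.includeRight : A →ₐ[B] Localization.Away (f i) ⊗[B] A) * v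
          = (Matrix.of ![![(0 : A), 1], ![-1, 0]]).map (Algebra.TensorProduct.includeRight : A →ₐ[B] Localization.Away (f i) ⊗[B] A) := by
  -- `h 0 1` is a unit
  have hb1 : IsUnit (h 0 1) := by
    have h01 := hJ 0 1
    have e : (Matrix.of ![![(0 : A), 1], ![-1, 0]]) 0 1 = 1 := rfl
    rw [e, ← Ideal.jacobson_bot] at h01
    have := Ideal.mem_jacobson_bot.1 h01 1
    rwa [mul_one, sub_add_cancel] at this
  obtain ⟨bi, hb⟩ := hb1.exists_right_inv
  obtain ⟨hf, hhf⟩ := h2.exists_right_inv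
  -- herm entries
  have h00 : lam (h 0 0) = -h 0 0 := by
    have := congrFun (congrFun herm 0) 0
    simp only [Matrix.neg_apply, Matrix.transpose_apply, Matrix.map_apply] at this
    exact neg_eq_iff_eq_neg.mp this
  have h11 : lam (h 1 1) = -h 1 1 := by
    have := congrFun (congrFun herm 1) 1
    simp only [Matrix.neg_apply, Matrix.transpose_apply, Matrix.map_apply] at this
    exact neg_eq_iff_eq_neg.mp this
  -- the unit `s`
  have ha : h 0 0 ∈ Ideal.jacobson (⊥ : Ideal A) := by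
    have h0 := hJ 0 0
    have e : (Matrix.of ![![(0 : A), 1], ![-1, 0]]) 0 0 = 0 := rfl
    rwa [e, sub_zero, ← Ideal.jacobson_bot] at h0
  have hsA : IsUnit (1 + h 0 0 * (h 1 1 * (bi * lam bi))) := by
    have := Ideal.mem_jacobson_bot.1 ha (h 1 1 * (bi * lam bi))
    rwa [add_comm] at this
  have hsfix : lam (1 + h 0 0 * (h 1 1 * (bi * lam bi))) = 1 + h 0 0 * (h 1 1 * (bi * lam bi)) := by
    rw [map_add, map_one, map_mul, map_mul, map_mul, h00, h11, hlam]; ring
  obtain ⟨s, hs⟩ := (hB.2 _).1 hsfix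
  have hsu : IsUnit s := isUnit_of_isUnit_algebraMap lam hB s (hs ▸ hsA)
  obtain ⟨su, rfl⟩ := hsu
  have h2B : IsUnit (2 : B) := isUnit_of_isUnit_algebraMap lam hB 2 (by rwa [map_ofNat])
  -- the ring `B'`
  refine ⟨su, 1, 2, ?_⟩
  set I : Ideal (MvPolynomial (Fin 2) B) := Ideal.span ({MvPolynomial.X 0 ^ 2 - MvPolynomial.C (su : B), MvPolynomial.X 1 ^ 2 - MvPolynomial.C ((1 : Bˣ) : B)} : Set (MvPolynomial (Fin 2) B)) with hI
  set σ : MvPolynomial (Fin 2) B ⧸ I := Ideal.Quotient.mk I (MvPolynomial.X 0) with hσdef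
  have hσ : σ ^ 2 = algebraMap B (MvPolynomial (Fin 2) B ⧸ I) (su : B) := by
    have e : algebraMap B (MvPolynomial (Fin 2) B ⧸ I) (su : B) =
        Ideal.Quotient.mk I (MvPolynomial.C (su : B)) := rfl
    rw [e, hσdef, ← map_pow, ← sub_eq_zero, ← map_sub, Ideal.Quotient.eq_zero_iff_mem]
    exact Ideal.subset_span (Set.mem_insert _ _)
  refine ⟨![1 + σ, 1 - σ], ?_, ?_⟩
  · have h2' : IsUnit (2 : MvPolynomial (Fin 2) B ⧸ I) := by
      have := h2B.map (algebraMap B (MvPolynomial (Fin 2) B ⧸ I))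
      rwa [map_ofNat] at this
    refine Ideal.eq_top_of_isUnit_mem _ ?_ h2'
    have e : (2 : MvPolynomial (Fin 2) B ⧸ I) = (1 + σ) + (1 - σ) := by ring
    rw [e]
    exact Ideal.add_mem _ (Ideal.subset_span ⟨0, rfl⟩) (Ideal.subset_span ⟨1, rfl⟩)
  · have key : ∀ (g ε : MvPolynomial (Fin 2) B ⧸ I),
        ε ^ 2 = algebraMap B (MvPolynomial (Fin 2) B ⧸ I) (su : B) → g = 1 + ε →
        ∃ v : Matrix (Fin 2) (Fin 2) (Localization.Away g ⊗[B] A), IsUnit v ∧
        (v.map (Algebra.TensorProduct.congr (AlgEquiv.refl : Localization.Away g ≃ₐ[Localization.Away g] Localization.Away g) lam)).transpose * h.map (Algebra.TensorProduct.includeRight : A →ₐ[B] Localization.Away g ⊗[B] A) * v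
          = (Matrix.of ![![(0 : A), 1], ![-1, 0]]).map (Algebra.TensorProduct.includeRight : A →ₐ[B] Localization.Away g ⊗[B] A) := by
      intro g ε hε hg
      subst hg
      have hu : IsUnit (algebraMap (MvPolynomial (Fin 2) B ⧸ I) (Localization.Away (1 + ε))
          (1 + ε)) :=
        IsLocalization.Away.algebraMap_isUnit (1 + ε)
      obtain ⟨ui, hui⟩ := hu.exists_right_inv
      refine core lam hlam h herm bi hf hb hhf (su : B) ((su⁻¹ : Bˣ) : B) hs (by simp)
        (Localization.Away (1 + ε)) (algebraMap (MvPolynomial (Fin 2) B ⧸ I) _ ε) ui ?_ ?_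
      · rw [← map_pow, hε, ← IsScalarTower.algebraMap_apply]
      · rw [map_add, map_one] at hui
        exact hui
    intro i
    fin_cases i
    · exact key _ σ hσ rfl
    · exact key _ (-σ) (by have e : (-σ) ^ 2 = σ ^ 2 := by ring
                           rw [e]; exact hσ) (by simp [sub_eq_add_neg])

end tensor

end Groth.Agent.Helper8.RInvAlt
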