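import Mathlib
import Groth.Agent.Helper3.HensLocal
import Groth.Prelude.Def_W4c2azumayainvolQEt

/-!
# Rings with involution whose fixed ring is strictly henselian (S15578)

* `hens_of_isIntegral'`, `integral_local`, `isSepClosed_of_isAlgebraic'`, `isSepClosed_residue`:
  universe-polymorphic versions of helper3's "integral local algebra over a (strictly) henselian
  local ring is (strictly) henselian".
* `isIntegral_of_fixed`: `R` is integral over the fixed ring of an involution.
* `maximal_eq_or`: the maximal ideals of `R` form one orbit under the involution.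
* `main`: `R` is a product of one or two strictly henselian local rings.
-/

set_option autoImplicit false
set_option linter.style.haveILetI false

namespace Groth.Agent.Helper8.RInvHens

open Polynomial IsLocalRing
open Groth.Agent.Helper3 Groth.Agent.Helper3.HensTFAE Groth.Agent.Helper3.HensGabber

universe u v

/-- universe-polymorphic version of helper3's `hens_of_isIntegral`. -/
theorem hens_of_isIntegral' (A : Type u) [CommRing A] (I : Ideal A) [hA : HenselianRing A I]
    (B : Type v) [CommRing B] [Algebra A B] [Algebra.IsIntegral A B] :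
    HenselianRing B (Ideal.map (algebraMap A B) I) := by
  have hIB := map_le_jacobson_of_isIntegral (B := B) I hA.jac
  refine hens_of_factLift _ hIB (factLift_of_idemLift _ hIB fun f hf => ?_)
  have h1 : Algebra.IsIntegral B (AdjoinRoot f) := isIntegral_adjoinRoot hf
  have h2 : Algebra.IsIntegral A (AdjoinRoot f) := Algebra.IsIntegral.trans B
  have h3 := HensRows.idemLift_of_hens I (AdjoinRoot f)
  have h4 : (I.map (algebraMap A B)).map (algebraMap B (AdjoinRoot f)) =
      I.map (algebraMap A (AdjoinRoot f)) := by
    rw [Ideal.map_map, ← IsScalarTower.algebraMap_eq]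
  intro b hb
  rw [h4] at hb ⊢
  exact h3 b hb

/-- A local ring integral over a henselian local ring is henselian. -/
theorem integral_local (R : Type u) [CommRing R] [HenselianLocalRing R]
    (S : Type v) [CommRing S] [IsLocalRing S] [Algebra R S] [Algebra.IsIntegral R S] :
    HenselianLocalRing S := by
  have h2 : HenselianRing S ((IsLocalRing.maximalIdeal R).map (algebraMap R S)) :=
    hens_of_isIntegral' R _ S
  have hle : (IsLocalRing.maximalIdeal R).map (algebraMap R S) ≤ IsLocalRing.maximalIdeal S := by
    rw [← IsLocalRing.jacobson_eq_maximalIdeal (⊥ : Ideal S) bot_ne_top]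
    exact h2.jac
  have hrad : ((IsLocalRing.maximalIdeal R).map (algebraMap R S)).radical =
      IsLocalRing.maximalIdeal S := by
    apply le_antisymm
    · exact (Ideal.IsPrime.radical_le_iff (IsLocalRing.maximalIdeal.isMaximal S).isPrime).2 hle
    · rw [Ideal.radical_eq_sInf, le_sInf_iff]
      rintro P ⟨hP, hPp⟩
      have h3 : IsLocalRing.maximalIdeal R ≤ P.comap (algebraMap R S) :=
        Ideal.map_le_iff_le_comap.1 hP
      have h4 : P.comap (algebraMap R S) = IsLocalRing.maximalIdeal R :=
        ((IsLocalRing.maximalIdeal.isMaximal R).eq_of_le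
          (Ideal.comap_ne_top _ hPp.ne_top) h3).symm
      have h5 : P.IsMaximal := by
        refine Ideal.isMaximal_of_isIntegral_of_isMaximal_comap (R := R) P ?_
        rw [h4]; exact IsLocalRing.maximalIdeal.isMaximal R
      rw [IsLocalRing.eq_maximalIdeal h5]
  have h3 : HenselianRing S (IsLocalRing.maximalIdeal S) := hrad ▸ HensLocal.hens_radical _
  exact HensLocal.henselianLocalRing_of_henselianRing S

/-- An algebraic extension of a separably closed field is separably closed
(universe-polymorphic). -/
theorem isSepClosed_of_isAlgebraic' (K : Type u) (L : Type v) [Field K] [Field L] [Algebra K L]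
    [Algebra.IsAlgebraic K L] [IsSepClosed K] : IsSepClosed L := by
  refine IsSepClosed.of_exists_root L fun p hmon hirr hsep => ?_
  haveI : Fact (Irreducible p) := ⟨hirr⟩
  let L' := AdjoinRoot p
  haveI : Module.Finite L L' := hmon.finite_adjoinRoot
  haveI : Algebra.IsAlgebraic L L' := Algebra.IsAlgebraic.of_finite L L'
  haveI : Algebra.IsAlgebraic K L' := Algebra.IsAlgebraic.trans K L L'
  haveI : Algebra.IsSeparable L L' := by
    have h1 : IsSeparable L (AdjoinRoot.root p) := by
      have hmin : minpoly L (AdjoinRoot.root p) = p := by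
        rw [AdjoinRoot.minpoly_root hirr.ne_zero, hmon.leadingCoeff, inv_one, map_one, mul_one]
      rw [IsSeparable, hmin]
      exact hsep
    have h2 : Algebra.adjoin L {AdjoinRoot.root p} = ⊤ := AdjoinRoot.adjoinRoot_eq_top
    rw [← separableClosure.eq_top_iff]
    rw [eq_top_iff, ← IntermediateField.toSubalgebra_le_toSubalgebra,
      IntermediateField.top_toSubalgebra, ← h2]
    exact Algebra.adjoin_le (by
      rintro _ rfl
      exact (mem_separableClosure_iff).mpr h1)
  have hbot : separableClosure K L' = ⊥ :=
    IntermediateField.eq_bot_of_isSepClosed_of_isSeparable _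
  haveI : IsPurelyInseparable K L' := (separableClosure.eq_bot_iff).mp hbot
  haveI : IsPurelyInseparable L L' := IsPurelyInseparable.tower_top K L L'
  have hsurj : Function.Surjective (algebraMap L L') :=
    IsPurelyInseparable.surjective_algebraMap_of_isSeparable L L'
  obtain ⟨x, hx⟩ := hsurj (AdjoinRoot.root p)
  refine ⟨x, ?_⟩
  apply (algebraMap L L').injective
  rw [map_zero, ← aeval_algebraMap_apply_eq_algebraMap_eval, hx, AdjoinRoot.aeval_eq,
    AdjoinRoot.mk_self]

/-- An integral homomorphism of local rings is local. -/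
theorem isLocalHom_of_integral (S : Type u) (T : Type v) [CommRing S] [IsLocalRing S]
    [CommRing T] [IsLocalRing T] [Algebra S T] [Algebra.IsIntegral S T] :
    IsLocalHom (algebraMap S T) := by
  refine ⟨fun s hs => ?_⟩
  by_contra hns
  have h1 : s ∈ maximalIdeal S := (mem_maximalIdeal s).2 hns
  have hmax : ((maximalIdeal T).comap (algebraMap S T)).IsMaximal :=
    Ideal.isMaximal_comap_of_isIntegral_of_isMaximal _
  have h2 : (maximalIdeal T).comap (algebraMap S T) = maximalIdeal S := eq_maximalIdeal hmax
  have h3 : algebraMap S T s ∈ maximalIdeal T := by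
    rw [← h2] at h1; exact h1
  exact (mem_maximalIdeal _).1 h3 hs

/-- The residue field of a local ring integral over a local ring with separably closed residue
field is separably closed. -/
theorem isSepClosed_residue (S : Type u) (T : Type v) [CommRing S] [IsLocalRing S]
    [IsSepClosed (ResidueField S)]
    [CommRing T] [IsLocalRing T] [Algebra S T] [Algebra.IsIntegral S T] :
    IsSepClosed (ResidueField T) := by
  haveI := isLocalHom_of_integral S T
  haveI h0 : Algebra.IsIntegral S (ResidueField T) :=
    show Algebra.IsIntegral S (T ⧸ maximalIdeal T) from inferInstance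
  haveI : Algebra.IsIntegral (ResidueField S) (ResidueField T) :=
    Algebra.IsIntegral.tower_top (R := S)
  haveI : Algebra.IsAlgebraic (ResidueField S) (ResidueField T) :=
    Algebra.IsIntegral.isAlgebraic
  exact isSepClosed_of_isAlgebraic' (ResidueField S) (ResidueField T)

section quot

variable {R : Type v} [CommRing R]

/-- A quotient whose ideal lies in exactly one maximal ideal is local. -/
theorem isLocalRing_quot (K M : Ideal R) [hM : M.IsMaximal] (hK : K ≤ M)
    (h : ∀ N : Ideal R, N.IsMaximal → K ≤ N → N = M) : IsLocalRing (R ⧸ K) := by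
  have hne : K ≠ ⊤ := fun h' => hM.ne_top (top_le_iff.1 (h' ▸ hK))
  haveI : Nontrivial (R ⧸ K) := Ideal.Quotient.nontrivial_iff.2 hne
  obtain ⟨N, hN⟩ := Ideal.exists_maximal (R ⧸ K)
  have key : ∀ N : Ideal (R ⧸ K), N.IsMaximal → N = M.map (Ideal.Quotient.mk K) := by
    intro N hN
    have h1 : (N.comap (Ideal.Quotient.mk K)).IsMaximal :=
      Ideal.comap_isMaximal_of_surjective _ Ideal.Quotient.mk_surjective
    have h2 : K ≤ N.comap (Ideal.Quotient.mk K) := by
      intro x hx
      rw [Ideal.mem_comap, Ideal.Quotient.eq_zero_iff_mem.2 hx]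
      exact N.zero_mem
    rw [← h _ h1 h2, Ideal.map_comap_of_surjective _ Ideal.Quotient.mk_surjective]
  refine IsLocalRing.of_unique_max_ideal ⟨N, hN, fun N' hN' => ?_⟩
  rw [key N' hN', key N hN]

/-- The two principal ideals attached to an idempotent. -/
def K (e : R) : Bool → Ideal R := fun b => Ideal.span {cond b e (1 - e)}

theorem K_coprime (e : R) : Pairwise (Function.onFun IsCoprime (K e)) := by
  intro i j hij
  change IsCoprime (K e i) (K e j)
  rw [Ideal.isCoprime_iff_exists]
  cases i <;> cases j
  · exact absurd rfl hij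
  · exact ⟨1 - e, Ideal.subset_span rfl, e, Ideal.subset_span rfl, by ring⟩
  · exact ⟨e, Ideal.subset_span rfl, 1 - e, Ideal.subset_span rfl, by ring⟩
  · exact absurd rfl hij

theorem K_iInf (e : R) (he : IsIdempotentElem e) : ⨅ b, K e b = ⊥ := by
  rw [eq_bot_iff]
  intro x hx
  rw [Ideal.mem_iInf] at hx
  have h1 := hx true
  have h2 := hx false
  simp only [K, cond_true, cond_false, Ideal.mem_span_singleton'] at h1 h2
  obtain ⟨y, rfl⟩ := h1
  obtain ⟨z, hz⟩ := h2
  have he' : e * e = e := he
  have : y * e = (y * e) * e := by rw [mul_assoc, he']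
  rw [Ideal.mem_bot, this, ← hz]
  calc z * (1 - e) * e = z * (e - e * e) := by ring
    _ = 0 := by rw [he', sub_self, mul_zero]

/-- Chinese remainder decomposition attached to an idempotent. -/
noncomputable def piEquiv (e : R) (he : IsIdempotentElem e) : R ≃+* (∀ b, R ⧸ K e b) :=
  ((RingEquiv.quotientBot R).symm.trans
    (Ideal.quotEquivOfEq (K_iInf e he).symm)).trans
    (Ideal.quotientInfRingEquivPiQuotient (K e) (K_coprime e))

end quot

section main

variable (S : Type u) (R : Type v) [CommRing S] [CommRing R] [Algebra S R]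

/-- `R` is integral over the fixed ring of an involution. -/
theorem isIntegral_of_fixed (lam : R ≃+* R) (hlam : Function.Involutive lam)
    (hS : RInv.IsFixedRing S R lam) [Nontrivial S] : Algebra.IsIntegral S R := by
  refine ⟨fun r => ?_⟩
  obtain ⟨s₁, hs₁⟩ := (hS.2 (r + lam r)).1 (by rw [map_add, hlam r, add_comm])
  obtain ⟨s₂, hs₂⟩ := (hS.2 (r * lam r)).1 (by rw [map_mul, hlam r, mul_comm])
  refine ⟨X ^ 2 + (C (-s₁) * X + C s₂), ?_, ?_⟩
  · apply monic_X_pow_add
    exact lt_of_le_of_lt (degree_linear_le) (by norm_num)
  · rw [eval₂_add, eval₂_pow, eval₂_X, eval₂_add, eval₂_mul, eval₂_X, eval₂_C, eval₂_C, map_neg,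
      hs₁, hs₂]
    ring

variable {S R}

/-- contraction of a maximal ideal of `R` is the maximal ideal of `S`. -/
theorem comap_eq [IsLocalRing S] [Algebra.IsIntegral S R] (N : Ideal R) (hN : N.IsMaximal) :
    N.comap (algebraMap S R) = maximalIdeal S :=
  eq_maximalIdeal (Ideal.isMaximal_comap_of_isIntegral_of_isMaximal N)

/-- The maximal ideals of `R` form one orbit under the involution. -/
theorem maximal_eq_or [IsLocalRing S] [Algebra.IsIntegral S R]
    (lam : R ≃+* R) (hS : RInv.IsFixedRing S R lam) (hlam : Function.Involutive lam)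
    (M : Ideal R) (hM : M.IsMaximal)
    (N : Ideal R) (hN : N.IsMaximal) : N = M ∨ N = M.comap (lam : R →+* R) := by
  have hM' : (M.comap (lam : R →+* R)).IsMaximal :=
    Ideal.comap_isMaximal_of_surjective _ lam.surjective
  by_contra hcon
  push Not at hcon
  have h1 : ¬ N ≤ M := fun h => hcon.1 (hN.eq_of_le hM.ne_top h)
  have h2 : ¬ N ≤ M.comap (lam : R →+* R) := fun h => hcon.2 (hN.eq_of_le hM'.ne_top h)
  have h3 : ¬ ((N : Set R) ⊆ M ∪ M.comap (lam : R →+* R)) := by
    rw [Ideal.subset_union]
    push Not
    exact ⟨h1, h2⟩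
  rw [Set.not_subset] at h3
  obtain ⟨x, hxN, hx⟩ := h3
  rw [Set.mem_union, not_or] at hx
  obtain ⟨hxM, hxM'⟩ := hx
  have hxM'' : lam x ∉ M := hxM'
  obtain ⟨s, hs⟩ := (hS.2 (x * lam x)).1 (by rw [map_mul, hlam x, mul_comm])
  have hsN : s ∈ N.comap (algebraMap S R) := by
    rw [Ideal.mem_comap, hs]; exact N.mul_mem_right _ hxN
  rw [comap_eq N hN, ← comap_eq M hM, Ideal.mem_comap, hs] at hsN
  rcases hM.isPrime.mem_or_mem hsN with h | h
  · exact hxM h
  · exact hxM'' h

end main

/-- **S15578**: a ring with involution whose fixed ring is strictly henselian is a finite product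
of strictly henselian local rings. -/
theorem main (S : Type u) (R : Type v) [CommRing S] [CommRing R]
    [Algebra S R] (lam : R ≃+* R) (hlam : Function.Involutive lam) (hS : RInv.IsFixedRing S R lam)
    [HenselianLocalRing S] [IsSepClosed (IsLocalRing.ResidueField S)] :
    ∃ (ι : Type) (_ : Fintype ι) (T : ι → Type v) (_ : ∀ i, CommRing (T i))
      (_ : ∀ i, HenselianLocalRing (T i)),
      (∀ i, IsSepClosed (IsLocalRing.ResidueField (T i))) ∧ Nonempty (R ≃+* (∀ i, T i)) := by
  haveI hint : Algebra.IsIntegral S R := isIntegral_of_fixed S R lam hlam hS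
  haveI : Nontrivial R := hS.1.nontrivial
  obtain ⟨M, hM⟩ := Ideal.exists_maximal R
  have hM' : (M.comap (lam : R →+* R)).IsMaximal :=
    Ideal.comap_isMaximal_of_surjective _ lam.surjective
  have hall := maximal_eq_or lam hS hlam M hM
  by_cases hMM : M.comap (lam : R →+* R) = M
  · -- `R` is local
    haveI : IsLocalRing R := by
      refine IsLocalRing.of_unique_max_ideal ⟨M, hM, fun N hN => ?_⟩
      rcases hall N hN with h | h
      · exact h
      · rw [h, hMM]
    haveI hH : HenselianLocalRing R := integral_local S R
    have hsep : IsSepClosed (ResidueField R) := isSepClosed_residue S R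
    exact ⟨Unit, inferInstance, fun _ => R, fun _ => inferInstance, fun _ => hH, fun _ => hsep,
      ⟨(RingEquiv.piUnique (fun _ : Unit => R)).symm⟩⟩
  · -- two maximal ideals
    set M' := M.comap (lam : R →+* R) with hM'def
    set I := (maximalIdeal S).map (algebraMap S R) with hI
    haveI h2 : HenselianRing R I := hens_of_isIntegral' S (maximalIdeal S) R
    haveI h3 : HenselianRing R I.radical := HensLocal.hens_radical I
    have hIle : ∀ N : Ideal R, N.IsMaximal → I ≤ N := by
      intro N hN
      rw [hI, Ideal.map_le_iff_le_comap, comap_eq N hN]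
    have hrad_le : I.radical ≤ M ⊓ M' :=
      le_inf ((Ideal.IsPrime.radical_le_iff hM.isPrime).2 (hIle M hM))
        ((Ideal.IsPrime.radical_le_iff hM'.isPrime).2 (hIle M' hM'))
    have hle_rad : M ⊓ M' ≤ I.radical := by
      rw [Ideal.radical_eq_sInf, le_sInf_iff]
      rintro P ⟨hP, hPp⟩
      have h3 : maximalIdeal S ≤ P.comap (algebraMap S R) := Ideal.map_le_iff_le_comap.1 hP
      have h4 : P.comap (algebraMap S R) = maximalIdeal S :=
        ((maximalIdeal.isMaximal S).eq_of_le (Ideal.comap_ne_top _ hPp.ne_top) h3).symm
      have h5 : P.IsMaximal := by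
        refine Ideal.isMaximal_of_isIntegral_of_isMaximal_comap (R := S) P ?_
        rw [h4]; exact maximalIdeal.isMaximal S
      rcases hall P h5 with h | h
      · rw [h]; exact inf_le_left
      · rw [h]; exact inf_le_right
    have hcop : M ⊔ M' = ⊤ := hM.coprime_of_ne hM' (fun h => hMM h.symm)
    obtain ⟨a, haM, b₀, hbM', hab⟩ :=
      Submodule.mem_sup.1 (hcop ▸ Submodule.mem_top : (1 : R) ∈ M ⊔ M')
    have hb : b₀ * b₀ - b₀ ∈ Ideal.map (algebraMap R R) I.radical := by
      rw [Algebra.algebraMap_self, Ideal.map_id]
      apply hle_rad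
      have : b₀ * b₀ - b₀ = -(a * b₀) := by
        have ha : a = 1 - b₀ := by rw [← hab]; ring
        rw [ha]; ring
      rw [this]
      exact ⟨M.neg_mem (M.mul_mem_right _ haM), M'.neg_mem (M'.mul_mem_left _ hbM')⟩
    obtain ⟨e, he, heb⟩ := HensRows.idemLift_of_hens I.radical R b₀ hb
    rw [Algebra.algebraMap_self, Ideal.map_id] at heb
    have heb' := hrad_le heb
    have heM' : e ∈ M' := by
      have : e = (e - b₀) + b₀ := by ring
      rw [this]; exact M'.add_mem heb'.2 hbM'
    have heM : 1 - e ∈ M := by
      have : 1 - e = a - (e - b₀) := by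
        have ha : a = 1 - b₀ := by rw [← hab]; ring
        rw [ha]; ring
      rw [this]; exact M.sub_mem haM heb'.1
    -- the two factors are local
    have hloc : ∀ b, IsLocalRing (R ⧸ K e b) := by
      intro b
      cases b
      · -- `K e false = span {1 - e}`, contained only in `M`
        refine isLocalRing_quot (K e false) M ?_ ?_
        · rw [K, Ideal.span_le, Set.singleton_subset_iff]; exact heM
        · intro N hN hKN
          have h1e : 1 - e ∈ N := hKN (Ideal.subset_span rfl)
          rcases hall N hN with h | h
          · exact h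
          · exfalso
            rw [h] at h1e
            apply hM'.ne_top
            rw [Ideal.eq_top_iff_one]
            have : (1 : R) = (1 - e) + e := by ring
            rw [this]; exact M'.add_mem h1e heM'
      · haveI := hM'
        refine isLocalRing_quot (K e true) M' ?_ ?_
        · rw [K, Ideal.span_le, Set.singleton_subset_iff]; exact heM'
        · intro N hN hKN
          have h1e : e ∈ N := hKN (Ideal.subset_span rfl)
          rcases hall N hN with h | h
          · exfalso
            rw [h] at h1e
            apply hM.ne_top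
            rw [Ideal.eq_top_iff_one]
            have : (1 : R) = (1 - e) + e := by ring
            rw [this]; exact M.add_mem heM h1e
          · exact h
    have hH : ∀ b, HenselianLocalRing (R ⧸ K e b) := fun b =>
      haveI := hloc b
      integral_local S (R ⧸ K e b)
    have hsep : ∀ b, IsSepClosed (ResidueField (R ⧸ K e b)) := fun b =>
      haveI := hloc b
      isSepClosed_residue S (R ⧸ K e b)
    exact ⟨Bool, inferInstance, fun b => R ⧸ K e b, fun b => inferInstance, hH, hsep,
      ⟨piEquiv e he⟩⟩

end Groth.Agent.Helper8.RInvHens
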