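import Mathlib

namespace Groth.Agent.Helper8.RadExt

open Polynomial

universe u

/-- roots of unity are algebraic -/
theorem isAlgebraic_of_pow_eq_one {F Ω : Type*} [Field F] [Field Ω] [Algebra F Ω] (z : Ω) (m : ℕ)
    (hm : 0 < m) (h : z ^ m = 1) : IsAlgebraic F z :=
  IsAlgebraic.of_pow hm (by rw [h]; exact isAlgebraic_one)

theorem lemmaB {F Ω : Type*} [Field F] [Field Ω] [Algebra F Ω] (a b : Ω) (hab : a ≠ b)
    (S : Set Ω) (h0 : (0 : Ω) ∈ S) (h1 : (1 : Ω) ∈ S)
    (hS : ∀ c ∈ S, a + c ≠ 0 ∧ ∃ m : ℕ, 0 < m ∧ (b + c) ^ m = (a + c) ^ m) :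
    IsAlgebraic F a ∧ IsAlgebraic F b ∧ ∀ c ∈ S, IsAlgebraic F c := by
  obtain ⟨T, hT⟩ : ∃ T : IntermediateField F Ω, T = algebraicClosure F Ω := ⟨_, rfl⟩
  have hTmem : ∀ z : Ω, z ∈ T ↔ IsAlgebraic F z := by
    intro z
    rw [hT]
    exact mem_algebraicClosure_iff
  have hroot : ∀ z : Ω, ∀ m : ℕ, 0 < m → z ^ m = 1 → z ∈ T := by
    intro z m hm h
    rw [hTmem]
    exact isAlgebraic_of_pow_eq_one z m hm h
  have hz : ∀ c ∈ S, (b + c) / (a + c) ∈ T := by
    intro c hc
    obtain ⟨hne, m, hm, hpow⟩ := hS c hc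
    refine hroot _ m hm ?_
    rw [div_pow, hpow, div_self (pow_ne_zero m hne)]
  have ha0 : a ≠ 0 := by
    have := (hS 0 h0).1
    rwa [add_zero] at this
  obtain ⟨ζ, hζ⟩ : ∃ ζ : Ω, ζ = b / a := ⟨_, rfl⟩
  have hζT : ζ ∈ T := by
    have := hz 0 h0
    rwa [add_zero, add_zero, ← hζ] at this
  have e2 : ζ * a = b := by rw [hζ, div_mul_cancel₀ b ha0]
  have key : ∀ c ∈ S, c ≠ 0 → ∃ w : Ω, w ∈ T ∧ w ≠ 1 ∧ w ≠ ζ ∧ a * (w - ζ) = c * (1 - w) := by
    intro c hc hc0
    obtain ⟨hne, -⟩ := hS c hc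
    obtain ⟨w, hw⟩ : ∃ w : Ω, w = (b + c) / (a + c) := ⟨_, rfl⟩
    have hwT : w ∈ T := by rw [hw]; exact hz c hc
    have e1 : w * (a + c) = b + c := by rw [hw, div_mul_cancel₀ _ hne]
    have hw1 : w ≠ 1 := by
      intro h
      rw [h, one_mul] at e1
      exact hab (add_right_cancel e1)
    have rel : a * (w - ζ) = c * (1 - w) := by linear_combination e1 - e2
    have hwζ : w ≠ ζ := by
      intro h
      have h3 : a * (w - ζ) = 0 := by rw [h, sub_self, mul_zero]
      rw [rel] at h3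
      rcases mul_eq_zero.mp h3 with h' | h'
      · exact hc0 h'
      · exact hw1 (sub_eq_zero.mp h').symm
    exact ⟨w, hwT, hw1, hwζ, rel⟩
  obtain ⟨w1, hw1T, hw1ne1, hw1neζ, rel1⟩ := key 1 h1 one_ne_zero
  have haT : a ∈ T := by
    have : a = (1 - w1) / (w1 - ζ) := by
      rw [eq_div_iff (sub_ne_zero.mpr hw1neζ), rel1, one_mul]
    rw [this]
    exact T.div_mem (T.sub_mem T.one_mem hw1T) (T.sub_mem hw1T hζT)
  have hbT : b ∈ T := by
    rw [← e2]
    exact T.mul_mem hζT haT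
  have hcT : ∀ c ∈ S, c ∈ T := by
    intro c hc
    by_cases hc0 : c = 0
    · rw [hc0]
      exact T.zero_mem
    obtain ⟨w, hwT, hwne1, hwneζ, rel⟩ := key c hc hc0
    have : c = a * (w - ζ) / (1 - w) := by
      rw [eq_div_iff (sub_ne_zero.mpr (Ne.symm hwne1)), rel]
    rw [this]
    exact T.div_mem (T.mul_mem haT (T.sub_mem hwT hζT)) (T.sub_mem T.one_mem hwT)
  exact ⟨(hTmem a).mp haT, (hTmem b).mp hbT, fun c hc => (hTmem c).mp (hcT c hc)⟩

/-- In characteristic `p`, an element algebraic over the prime field is zero or has finite order. -/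
theorem finite_order_of_isAlgebraic_bot {K : Type*} [Field K] (p : ℕ) (hp : p.Prime) [CharP K p]
    (z : K) (hz : IsAlgebraic (⊥ : Subfield K) z) : z = 0 ∨ ∃ N : ℕ, 0 < N ∧ z ^ N = 1 := by
  haveI : Fact p.Prime := ⟨hp⟩
  letI : Algebra (ZMod p) K := ZMod.algebra K p
  have hfin : ((⊥ : Subfield K) : Set K).Finite := by
    rw [Subfield.bot_eq_of_zMod_algebra p, RingHom.coe_fieldRange]
    exact Set.finite_range _
  haveI : Finite (⊥ : Subfield K) := hfin.to_subtype
  by_cases h0 : z = 0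
  · exact Or.inl h0
  right
  haveI : FiniteDimensional (⊥ : Subfield K) (IntermediateField.adjoin (⊥ : Subfield K) {z}) :=
    IntermediateField.adjoin.finiteDimensional hz.isIntegral
  haveI : Finite (IntermediateField.adjoin (⊥ : Subfield K) {z}) :=
    Module.finite_of_finite (⊥ : Subfield K)
  letI : Fintype (IntermediateField.adjoin (⊥ : Subfield K) {z}) := Fintype.ofFinite _
  obtain ⟨z0, hz0⟩ : ∃ z0 : IntermediateField.adjoin (⊥ : Subfield K) {z}, (z0 : K) = z :=
    ⟨⟨z, IntermediateField.mem_adjoin_simple_self _ z⟩, rfl⟩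
  have hz0ne : z0 ≠ 0 := by
    intro h
    apply h0
    rw [← hz0, h]
    rfl
  have hpow := FiniteField.pow_card_sub_one_eq_one z0 hz0ne
  refine ⟨Fintype.card (IntermediateField.adjoin (⊥ : Subfield K) {z}) - 1, ?_, ?_⟩
  · have := Fintype.one_lt_card (α := IntermediateField.adjoin (⊥ : Subfield K) {z})
    omega
  · have := congrArg (fun v : IntermediateField.adjoin (⊥ : Subfield K) {z} => (v : K)) hpow
    simp only [SubmonoidClass.coe_pow, OneMemClass.coe_one] at this
    rw [hz0] at this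
    exact this

theorem charZero_contra {Ω : Type*} [Field Ω] [CharZero Ω] (a b : Ω) (hab : a ≠ b)
    (ha : IsAlgebraic ℚ a) (hb : IsAlgebraic ℚ b)
    (hS : ∀ c : ℕ, a + (c : Ω) ≠ 0 ∧
      ∃ m : ℕ, 0 < m ∧ (b + (c : Ω)) ^ m = (a + (c : Ω)) ^ m) : False := by
  obtain ⟨K, hK⟩ : ∃ K : IntermediateField ℚ Ω, K = IntermediateField.adjoin ℚ {a, b} := ⟨_, rfl⟩
  have haK : a ∈ K := by rw [hK]; exact IntermediateField.subset_adjoin ℚ _ (by simp)
  have hbK : b ∈ K := by rw [hK]; exact IntermediateField.subset_adjoin ℚ _ (by simp)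
  haveI hfd : FiniteDimensional ℚ K := by
    rw [hK]
    exact IntermediateField.finiteDimensional_adjoin_pair ha.isIntegral hb.isIntegral
  haveI : NumberField K := { to_charZero := inferInstance, to_finiteDimensional := hfd }
  have hfinite := NumberField.Embeddings.finite_of_norm_le K ℂ 1
  have hcK : ∀ c : ℕ, (c : Ω) ∈ K := fun c => natCast_mem K c
  have hgmem : ∀ c : ℕ, (b + (c : Ω)) / (a + (c : Ω)) ∈ K := fun c =>
    K.div_mem (K.add_mem hbK (hcK c)) (K.add_mem haK (hcK c))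
  obtain ⟨g, hg⟩ : ∃ g : ℕ → K, ∀ c, ((g c : K) : Ω) = (b + (c : Ω)) / (a + (c : Ω)) :=
    ⟨fun c => ⟨_, hgmem c⟩, fun c => rfl⟩
  have hginj : Function.Injective g := by
    intro c d hcd
    have h1 : (b + (c : Ω)) / (a + (c : Ω)) = (b + (d : Ω)) / (a + (d : Ω)) := by
      rw [← hg c, ← hg d, hcd]
    rw [div_eq_div_iff (hS c).1 (hS d).1] at h1
    have h2 : (b - a) * ((d : Ω) - (c : Ω)) = 0 := by linear_combination h1
    rcases mul_eq_zero.mp h2 with h3 | h3
    · exact absurd (sub_eq_zero.mp h3).symm hab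
    · exact (Nat.cast_injective (sub_eq_zero.mp h3)).symm
  have hgmemS : ∀ c, g c ∈ {x : K | IsIntegral ℤ x ∧ ∀ φ : K →+* ℂ, ‖φ x‖ ≤ 1} := by
    intro c
    obtain ⟨hne, m, hm, hpow⟩ := hS c
    have hone : (g c) ^ m = 1 := by
      apply Subtype.ext
      show ((g c ^ m : K) : Ω) = ((1 : K) : Ω)
      rw [SubmonoidClass.coe_pow, hg c, div_pow, hpow, div_self (pow_ne_zero m hne),
        OneMemClass.coe_one]
    refine ⟨IsIntegral.of_pow hm (by rw [hone]; exact isIntegral_one), fun φ => ?_⟩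
    have : (φ (g c)) ^ m = 1 := by rw [← map_pow, hone, map_one]
    exact (Complex.norm_eq_one_of_pow_eq_one this hm.ne').le
  exact (Set.infinite_of_injective_forall_mem hginj hgmemS) hfinite

theorem other_root {k k' : Type u} [Field k] [Field k'] [Algebra k k'] (Ω : Type u) [Field Ω]
    [Algebra k Ω] [Algebra k' Ω] [IsScalarTower k k' Ω] [IsAlgClosed Ω]
    (u : k') (hsep : (minpoly k u).Separable) (hdeg : 2 ≤ (minpoly k u).natDegree) :
    ∃ u' : Ω, u' ≠ algebraMap k' Ω u ∧ Polynomial.aeval u' (minpoly k u) = 0 := by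
  classical
  obtain ⟨f, hf⟩ : ∃ f : Polynomial k, f = minpoly k u := ⟨_, rfl⟩
  rw [← hf] at hsep hdeg ⊢
  have hnd : ((f.map (algebraMap k Ω)).roots).Nodup := Polynomial.nodup_roots hsep.map
  have hcard : Multiset.card ((f.map (algebraMap k Ω)).roots) = f.natDegree := by
    rw [IsAlgClosed.card_roots_eq_natDegree, Polynomial.natDegree_map]
  have h1 : 1 < ((f.map (algebraMap k Ω)).roots.toFinset).card := by
    rw [Multiset.toFinset_card_of_nodup hnd, hcard]
    omega
  obtain ⟨u', hu'mem, hu'ne⟩ := Finset.exists_mem_ne h1 (algebraMap k' Ω u)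
  refine ⟨u', hu'ne, ?_⟩
  rw [Multiset.mem_toFinset] at hu'mem
  have := (Polynomial.mem_roots'.mp hu'mem).2
  rw [Polynomial.IsRoot.def, Polynomial.eval_map, ← Polynomial.aeval_def] at this
  exact this

theorem conj_pow {k k' : Type u} [Field k] [Field k'] [Algebra k k'] (Ω : Type u) [Field Ω]
    [Algebra k Ω] [Algebra k' Ω] [IsScalarTower k k' Ω]
    (H : ∀ x : k', ∃ n : ℕ, 0 < n ∧ x ^ n ∈ Set.range (algebraMap k k'))
    (u : k') (u' : Ω) (hroot : Polynomial.aeval u' (minpoly k u) = 0) (c : k) :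
    ∃ m : ℕ, 0 < m ∧
      (u' + algebraMap k Ω c) ^ m = (algebraMap k' Ω u + algebraMap k Ω c) ^ m := by
  obtain ⟨m, hm, a, ha⟩ := H (u + algebraMap k k' c)
  refine ⟨m, hm, ?_⟩
  obtain ⟨g, hg⟩ : ∃ g : Polynomial k,
      g = (Polynomial.X + Polynomial.C c) ^ m - Polynomial.C a := ⟨_, rfl⟩
  have hgu : Polynomial.aeval u g = 0 := by
    rw [hg]
    simp only [map_sub, map_pow, map_add, Polynomial.aeval_X, Polynomial.aeval_C]
    rw [ha, sub_self]
  obtain ⟨q, hq⟩ := minpoly.dvd k u hgu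
  have hgu' : Polynomial.aeval u' g = 0 := by
    rw [hq, map_mul, hroot, zero_mul]
  rw [hg] at hgu'
  simp only [map_sub, map_pow, map_add, Polynomial.aeval_X, Polynomial.aeval_C] at hgu'
  rw [sub_eq_zero] at hgu'
  rw [hgu', IsScalarTower.algebraMap_apply k k' Ω a, ha, map_pow, map_add,
    ← IsScalarTower.algebraMap_apply k k' Ω c]

theorem forward_core {k k' : Type u} [Field k] [Field k'] [Algebra k k'] (Ω : Type u) [Field Ω]
    [Algebra k Ω] [Algebra k' Ω] [IsScalarTower k k' Ω] [IsAlgClosed Ω]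
    (H : ∀ x : k', ∃ n : ℕ, 0 < n ∧ x ^ n ∈ Set.range (algebraMap k k')) :
    Function.Surjective (algebraMap k k') ∨
        ∃ p : ℕ, p.Prime ∧ CharP k' p ∧
          (IsPurelyInseparable k k' ∨ Algebra.IsAlgebraic (⊥ : Subfield k') k') := by
  by_cases hsurj : Function.Surjective (algebraMap k k')
  · exact Or.inl hsurj
  right
  have halg : ∀ x : k', IsAlgebraic k x := by
    intro x
    obtain ⟨n, hn, y, hy⟩ := H x
    exact IsAlgebraic.of_pow hn (by rw [← hy]; exact isAlgebraic_algebraMap y)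
  haveI : Algebra.IsAlgebraic k k' := ⟨halg⟩
  obtain ⟨p, hp⟩ := CharP.exists k'
  haveI := hp
  by_cases hPI : IsPurelyInseparable k k'
  · rcases CharP.char_is_prime_or_zero k' p with hprime | hzero
    · exact ⟨p, hprime, hp, Or.inl hPI⟩
    · exfalso
      subst hzero
      haveI : CharZero k' := CharP.charP_to_charZero k'
      haveI : CharZero k := RingHom.charZero (algebraMap k k')
      exact hsurj (IsPurelyInseparable.surjective_algebraMap_of_isSeparable k k')
  · rw [isPurelyInseparable_iff] at hPI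
    push Not at hPI
    obtain ⟨u, hu⟩ := hPI
    have hint : IsIntegral k u := (halg u).isIntegral
    obtain ⟨hsep, hnr⟩ := hu hint
    have hdeg : 2 ≤ (minpoly k u).natDegree := (minpoly.two_le_natDegree_iff hint).mpr hnr
    obtain ⟨u', hu'ne, hu'root⟩ := other_root Ω u hsep hdeg
    have hab : algebraMap k' Ω u ≠ u' := fun h => hu'ne h.symm
    have hSS : ∀ c ∈ Set.range (algebraMap k Ω), algebraMap k' Ω u + c ≠ 0 ∧
        ∃ m : ℕ, 0 < m ∧ (u' + c) ^ m = (algebraMap k' Ω u + c) ^ m := by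
      rintro _ ⟨c0, rfl⟩
      refine ⟨?_, conj_pow Ω H u u' hu'root c0⟩
      intro h
      apply hnr
      have h1 : algebraMap k' Ω (u + algebraMap k k' c0) = 0 := by
        rw [map_add, ← IsScalarTower.algebraMap_apply k k' Ω c0]
        exact h
      have h2 : u + algebraMap k k' c0 = 0 := (map_eq_zero _).mp h1
      refine RingHom.mem_range.mpr ⟨-c0, ?_⟩
      rw [map_neg]
      exact (eq_neg_of_add_eq_zero_left h2).symm
    have h0S : (0 : Ω) ∈ Set.range (algebraMap k Ω) := ⟨0, map_zero _⟩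
    have h1S : (1 : Ω) ∈ Set.range (algebraMap k Ω) := ⟨1, map_one _⟩
    have hallz : ∀ (F : Type) [Field F] [Algebra F Ω], ∀ z : k', IsAlgebraic F (algebraMap k' Ω z) := by
      intro F _ _ z
      obtain ⟨-, -, hc⟩ := lemmaB (F := F) (algebraMap k' Ω u) u' hab _ h0S h1S hSS
      obtain ⟨n, hn, y, hy⟩ := H z
      refine IsAlgebraic.of_pow hn ?_
      rw [← map_pow, ← hy, ← IsScalarTower.algebraMap_apply k k' Ω y]
      exact hc _ ⟨y, rfl⟩
    rcases CharP.char_is_prime_or_zero k' p with hprime | hzero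
    · refine ⟨p, hprime, hp, Or.inr ⟨fun z => ?_⟩⟩
      haveI : CharP Ω p := charP_of_injective_algebraMap (algebraMap k' Ω).injective p
      obtain ⟨-, -, hc⟩ := lemmaB (F := (⊥ : Subfield Ω)) (algebraMap k' Ω u) u' hab _ h0S h1S hSS
      have hz : IsAlgebraic (⊥ : Subfield Ω) (algebraMap k' Ω z) := by
        obtain ⟨n, hn, y, hy⟩ := H z
        refine IsAlgebraic.of_pow hn ?_
        rw [← map_pow, ← hy, ← IsScalarTower.algebraMap_apply k k' Ω y]
        exact hc _ ⟨y, rfl⟩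
      rcases finite_order_of_isAlgebraic_bot p hprime (algebraMap k' Ω z) hz with h0 | ⟨N, hN, hpow⟩
      · have : z = 0 := (map_eq_zero _).mp h0
        rw [this]
        exact isAlgebraic_zero
      · have hzN : z ^ N = 1 := (algebraMap k' Ω).injective (by rw [map_pow, hpow, map_one])
        exact isAlgebraic_of_pow_eq_one z N hN hzN
    · exfalso
      subst hzero
      haveI : CharZero k' := CharP.charP_to_charZero k'
      haveI : CharZero Ω := charZero_of_injective_algebraMap (algebraMap k' Ω).injective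
      obtain ⟨ha, hb, -⟩ := lemmaB (F := ℚ) (algebraMap k' Ω u) u' hab _ h0S h1S hSS
      refine charZero_contra (algebraMap k' Ω u) u' hab ha hb ?_
      intro c
      exact hSS (c : Ω) ⟨(c : k), map_natCast _ c⟩

theorem main {k k' : Type u} [Field k] [Field k'] [Algebra k k'] :
    (∀ x : k', ∃ n : ℕ, 0 < n ∧ x ^ n ∈ Set.range (algebraMap k k')) ↔
      Function.Surjective (algebraMap k k') ∨
        ∃ p : ℕ, p.Prime ∧ CharP k' p ∧
          (IsPurelyInseparable k k' ∨ Algebra.IsAlgebraic (⊥ : Subfield k') k') := by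
  constructor
  · intro H
    exact forward_core (AlgebraicClosure k') H
  · intro h x
    rcases h with hs | ⟨p, hp, hchar, hPI | halg⟩
    · obtain ⟨y, hy⟩ := hs x
      exact ⟨1, one_pos, y, by rw [hy, pow_one]⟩
    · haveI := hchar
      haveI : CharP k p := RingHom.charP (algebraMap k k') (algebraMap k k').injective p
      haveI : ExpChar k p := ExpChar.prime hp
      haveI := hPI
      obtain ⟨n, hn⟩ := IsPurelyInseparable.pow_mem k p x
      exact ⟨p ^ n, pow_pos hp.pos n, RingHom.mem_range.mp hn⟩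
    · haveI := hchar
      rcases finite_order_of_isAlgebraic_bot p hp x (halg.isAlgebraic x) with h0 | ⟨N, hN, hpow⟩
      · exact ⟨1, one_pos, 0, by rw [map_zero, h0, pow_one]⟩
      · exact ⟨N, hN, 1, by rw [map_one, hpow]⟩

end Groth.Agent.Helper8.RadExt
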