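import Groth.Agent.Helper8.RatCone
import Mathlib.Analysis.Convex.StdSimplex
import Mathlib.Topology.Order.Compact
import Mathlib.Analysis.SpecialFunctions.Sqrt
import Mathlib.LinearAlgebra.Matrix.DotProduct

set_option autoImplicit false

namespace Groth.Agent.Helper8.RatMax

open Matrix

variable {n : ℕ}

/-- The real bilinear form of a rational matrix. -/
def bf (B : Matrix (Fin n) (Fin n) ℚ) (u v : Fin n → ℝ) : ℝ :=
  ∑ i, ∑ j, u i * (B i j : ℝ) * v j

/-- The real linear form of a rational vector. -/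
def lf (ℓ : Fin n → ℚ) (y : Fin n → ℝ) : ℝ := ∑ i, (ℓ i : ℝ) * y i

lemma q_eq (B : Matrix (Fin n) (Fin n) ℚ) (y : Fin n → ℝ) :
    y ⬝ᵥ (B.map (fun r : ℚ => (r : ℝ))) *ᵥ y = bf B y y := by
  simp only [dotProduct, mulVec, Matrix.map_apply, bf, Finset.mul_sum]
  exact Finset.sum_congr rfl fun i _ => Finset.sum_congr rfl fun j _ => by ring

lemma l_eq (ℓ : Fin n → ℚ) (y : Fin n → ℝ) : (fun i => (ℓ i : ℝ)) ⬝ᵥ y = lf ℓ y := rfl

variable (B : Matrix (Fin n) (Fin n) ℚ) (ℓ : Fin n → ℚ)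

lemma bf_add_left (u u' v : Fin n → ℝ) : bf B (u + u') v = bf B u v + bf B u' v := by
  simp only [bf, Pi.add_apply, add_mul, Finset.sum_add_distrib]

lemma bf_add_right (u v v' : Fin n → ℝ) : bf B u (v + v') = bf B u v + bf B u v' := by
  simp only [bf, Pi.add_apply, mul_add, Finset.sum_add_distrib]

lemma bf_smul_left (c : ℝ) (u v : Fin n → ℝ) : bf B (c • u) v = c * bf B u v := by
  simp only [bf, Pi.smul_apply, smul_eq_mul, Finset.mul_sum]
  exact Finset.sum_congr rfl fun i _ => Finset.sum_congr rfl fun j _ => by ring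

lemma bf_smul_right (c : ℝ) (u v : Fin n → ℝ) : bf B u (c • v) = c * bf B u v := by
  simp only [bf, Pi.smul_apply, smul_eq_mul, Finset.mul_sum]
  exact Finset.sum_congr rfl fun i _ => Finset.sum_congr rfl fun j _ => by ring

lemma lf_add (u v : Fin n → ℝ) : lf ℓ (u + v) = lf ℓ u + lf ℓ v := by
  simp only [lf, Pi.add_apply, mul_add, Finset.sum_add_distrib]

lemma lf_smul (c : ℝ) (u : Fin n → ℝ) : lf ℓ (c • u) = c * lf ℓ u := by
  simp only [lf, Pi.smul_apply, smul_eq_mul, Finset.mul_sum]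
  exact Finset.sum_congr rfl fun i _ => by ring

lemma lf_zero : lf ℓ 0 = 0 := by simp [lf]

lemma lf_single (i : Fin n) : lf ℓ (Pi.single i 1) = (ℓ i : ℝ) := by
  classical
  unfold lf
  rw [Finset.sum_eq_single i]
  · rw [Pi.single_eq_same, mul_one]
  · intro j _ hj
    rw [Pi.single_eq_of_ne hj, mul_zero]
  · intro h; exact absurd (Finset.mem_univ i) h

lemma bf_single_left (i : Fin n) (v : Fin n → ℝ) :
    bf B (Pi.single i 1) v = ∑ j, (B i j : ℝ) * v j := by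
  classical
  unfold bf
  rw [Finset.sum_eq_single i]
  · exact Finset.sum_congr rfl fun j _ => by rw [Pi.single_eq_same, one_mul]
  · intro i' _ hi'
    exact Finset.sum_eq_zero fun j _ => by rw [Pi.single_eq_of_ne hi', zero_mul, zero_mul]
  · intro h; exact absurd (Finset.mem_univ i) h

lemma bf_single_right (i : Fin n) (u : Fin n → ℝ) :
    bf B u (Pi.single i 1) = ∑ j, (B j i : ℝ) * u j := by
  classical
  unfold bf
  refine Finset.sum_congr rfl fun j _ => ?_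
  rw [Finset.sum_eq_single i]
  · rw [Pi.single_eq_same, mul_one, mul_comm]
  · intro i' _ hi'
    rw [Pi.single_eq_of_ne hi', mul_zero]
  · intro h; exact absurd (Finset.mem_univ i) h

lemma bf_single_single (i : Fin n) : bf B (Pi.single i 1) (Pi.single i 1) = (B i i : ℝ) := by
  classical
  rw [bf_single_left, Finset.sum_eq_single i]
  · rw [Pi.single_eq_same, mul_one]
  · intro j _ hj
    rw [Pi.single_eq_of_ne hj, mul_zero]
  · intro h; exact absurd (Finset.mem_univ i) h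

/-- The symmetrized form as a single sum. -/
lemma bf_symm_sum (u v : Fin n → ℝ) :
    bf B u v + bf B v u = ∑ i, u i * ∑ j, ((B i j : ℝ) + (B j i : ℝ)) * v j := by
  have h1 : bf B v u = ∑ i, ∑ j, v j * (B j i : ℝ) * u i := by
    unfold bf
    rw [Finset.sum_comm]
  rw [h1]
  unfold bf
  rw [← Finset.sum_add_distrib]
  refine Finset.sum_congr rfl fun i _ => ?_
  rw [Finset.mul_sum, ← Finset.sum_add_distrib]
  exact Finset.sum_congr rfl fun j _ => by ring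

lemma continuous_lf : Continuous (lf ℓ) :=
  continuous_finset_sum _ fun i _ => continuous_const.mul (continuous_apply i)

lemma continuous_bf : Continuous (fun y : Fin n → ℝ => bf B y y) :=
  continuous_finset_sum _ fun i _ => continuous_finset_sum _ fun j _ =>
    ((continuous_apply i).mul continuous_const).mul (continuous_apply j)

lemma quad_zero (a b δ : ℝ) (hδ : 0 < δ) (h : ∀ t : ℝ, |t| ≤ δ → 0 ≤ t * a + t ^ 2 * b) :
    a = 0 := by
  by_contra ha
  have ha' : 0 < |a| := abs_pos.mpr ha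
  have hb' : 0 < 2 * (|b| + 1) := by positivity
  obtain ⟨t₀, ht₀⟩ : ∃ t₀ : ℝ, t₀ = min δ (|a| / (2 * (|b| + 1))) := ⟨_, rfl⟩
  have ht₀pos : 0 < t₀ := by rw [ht₀]; exact lt_min hδ (div_pos ha' hb')
  have ht₀δ : t₀ ≤ δ := by rw [ht₀]; exact min_le_left _ _
  have ht₀a : t₀ * (2 * (|b| + 1)) ≤ |a| := by
    have h0 : t₀ ≤ |a| / (2 * (|b| + 1)) := by rw [ht₀]; exact min_le_right _ _
    exact (le_div_iff₀ hb').mp h0
  have h1 := h t₀ (by rw [abs_of_pos ht₀pos]; exact ht₀δ)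
  have h2 := h (-t₀) (by rw [abs_neg, abs_of_pos ht₀pos]; exact ht₀δ)
  have h2' : 0 ≤ -(t₀ * a) + t₀ ^ 2 * b := by
    have e : -t₀ * a + (-t₀) ^ 2 * b = -(t₀ * a) + t₀ ^ 2 * b := by ring
    rw [← e]; exact h2
  have h3 : t₀ * |a| ≤ t₀ ^ 2 * |b| := by
    have hb1 : b ≤ |b| := le_abs_self b
    have ht2 : 0 ≤ t₀ ^ 2 := sq_nonneg _
    have h4 : t₀ ^ 2 * b ≤ t₀ ^ 2 * |b| := mul_le_mul_of_nonneg_left hb1 ht2
    rcases abs_cases a with ⟨hh, _⟩ | ⟨hh, _⟩
    · rw [hh]; linarith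
    · rw [hh]
      have e : t₀ * -a = -(t₀ * a) := by ring
      rw [e]; linarith
  have h4 : |a| ≤ t₀ * |b| := by
    have h5 : t₀ * |a| ≤ t₀ * (t₀ * |b|) := by
      have e : t₀ * (t₀ * |b|) = t₀ ^ 2 * |b| := by ring
      rw [e]; exact h3
    exact le_of_mul_le_mul_left h5 ht₀pos
  have e2 : t₀ * (2 * (|b| + 1)) = 2 * (t₀ * |b|) + 2 * t₀ := by ring
  rw [e2] at ht₀a
  linarith

theorem main
    (hpos : ∀ y : Fin n → ℝ, (∀ i, 0 ≤ y i) → y ≠ 0 → 0 < bf B y y)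
    (hℓ : ∃ y : Fin n → ℝ, (∀ i, 0 ≤ y i) ∧ 0 < lf ℓ y) :
    ∃ x : Fin n → ℚ, (∀ i, 0 ≤ x i) ∧ x ≠ 0 ∧
      ∀ y : Fin n → ℝ, (∀ i, 0 ≤ y i) → y ≠ 0 →
        lf ℓ y / Real.sqrt (bf B y y) ≤ lf ℓ (fun i => (x i : ℝ)) /
          Real.sqrt (bf B (fun i => (x i : ℝ)) (fun i => (x i : ℝ))) := by
  classical
  obtain ⟨y₀, hy₀, hly₀⟩ := hℓ
  have hy₀ne : y₀ ≠ 0 := by
    rintro rfl
    rw [lf_zero] at hly₀
    exact lt_irrefl _ hly₀
  obtain ⟨φ, hφ⟩ : ∃ φ : (Fin n → ℝ) → ℝ, ∀ y, φ y = lf ℓ y / Real.sqrt (bf B y y) :=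
    ⟨_, fun _ => rfl⟩
  have hhom : ∀ (c : ℝ) (y : Fin n → ℝ), 0 < c → φ (c • y) = φ y := by
    intro c y hc
    rw [hφ, hφ, lf_smul, bf_smul_left, bf_smul_right, ← mul_assoc,
      Real.sqrt_mul (mul_self_nonneg c), Real.sqrt_mul_self hc.le, mul_div_mul_left _ _ hc.ne']
  have hnorm : ∀ y : Fin n → ℝ, (∀ i, 0 ≤ y i) → y ≠ 0 →
      0 < ∑ i, y i ∧ ((∑ i, y i)⁻¹ • y) ∈ stdSimplex ℝ (Fin n) := by
    intro y hy hyne
    have hex : ∃ i, y i ≠ 0 := by
      by_contra hcon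
      push Not at hcon
      exact hyne (funext hcon)
    obtain ⟨i, hi⟩ := hex
    have hs : 0 < ∑ i, y i := Finset.sum_pos' (fun j _ => hy j)
      ⟨i, Finset.mem_univ _, lt_of_le_of_ne (hy i) (Ne.symm hi)⟩
    refine ⟨hs, fun j => ?_, ?_⟩
    · rw [Pi.smul_apply, smul_eq_mul]
      exact mul_nonneg (inv_pos.mpr hs).le (hy j)
    · simp only [Pi.smul_apply, smul_eq_mul]
      rw [← Finset.mul_sum]
      exact inv_mul_cancel₀ hs.ne'
  have hsne : ∀ y : Fin n → ℝ, y ∈ stdSimplex ℝ (Fin n) → y ≠ 0 := by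
    intro y hy h0
    have h1 := hy.2
    rw [h0] at h1
    simp at h1
  have hcont : ContinuousOn φ (stdSimplex ℝ (Fin n)) := by
    have h1 : φ = fun y => lf ℓ y / Real.sqrt (bf B y y) := funext hφ
    rw [h1]
    refine ContinuousOn.div (continuous_lf ℓ).continuousOn
      ((Real.continuous_sqrt.comp (continuous_bf B)).continuousOn) ?_
    intro y hy
    exact (Real.sqrt_pos.mpr (hpos y hy.1 (hsne y hy))).ne'
  obtain ⟨ys, hys, hmax⟩ := (isCompact_stdSimplex ℝ (Fin n)).exists_isMaxOn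
    ⟨_, (hnorm y₀ hy₀ hy₀ne).2⟩ hcont
  have hmax' : ∀ y : Fin n → ℝ, (∀ i, 0 ≤ y i) → y ≠ 0 → φ y ≤ φ ys := by
    intro y hy hyne
    obtain ⟨hs, hmem⟩ := hnorm y hy hyne
    have h1 := isMaxOn_iff.mp hmax _ hmem
    rwa [hhom _ _ (inv_pos.mpr hs)] at h1
  have hys0 : ∀ i, 0 ≤ ys i := hys.1
  have hysne : ys ≠ 0 := hsne ys hys
  have hQs : 0 < bf B ys ys := hpos ys hys0 hysne
  have hφy₀ : 0 < φ y₀ := by
    rw [hφ]
    exact div_pos hly₀ (Real.sqrt_pos.mpr (hpos y₀ hy₀ hy₀ne))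
  have hφpos : 0 < φ ys := lt_of_lt_of_le hφy₀ (hmax' y₀ hy₀ hy₀ne)
  have hLs : 0 < lf ℓ ys := by
    rw [hφ] at hφpos
    have h1 := Real.sqrt_pos.mpr hQs
    by_contra hcon
    rw [not_lt] at hcon
    have h2 : lf ℓ ys / Real.sqrt (bf B ys ys) ≤ 0 := div_nonpos_of_nonpos_of_nonneg hcon h1.le
    linarith
  obtain ⟨c₀, hc₀⟩ : ∃ c₀ : ℝ, c₀ = lf ℓ ys / bf B ys ys := ⟨_, rfl⟩
  have hc₀pos : 0 < c₀ := by rw [hc₀]; exact div_pos hLs hQs
  obtain ⟨z, hz⟩ : ∃ z : Fin n → ℝ, z = c₀ • ys := ⟨_, rfl⟩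
  have hz0 : ∀ i, 0 ≤ z i := by
    intro i
    rw [hz, Pi.smul_apply, smul_eq_mul]
    exact mul_nonneg hc₀pos.le (hys0 i)
  have hzne : z ≠ 0 := by rw [hz]; exact smul_ne_zero hc₀pos.ne' hysne
  have hφz : φ z = φ ys := by rw [hz]; exact hhom _ _ hc₀pos
  have hmaxz : ∀ y : Fin n → ℝ, (∀ i, 0 ≤ y i) → y ≠ 0 → φ y ≤ φ z := fun y h1 h2 => by
    rw [hφz]; exact hmax' y h1 h2
  obtain ⟨L, hL⟩ : ∃ L : ℝ, L = lf ℓ z := ⟨_, rfl⟩
  have hLz : bf B z z = L := by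
    rw [hL, hz, bf_smul_left, bf_smul_right, lf_smul, hc₀]
    field_simp
  have hLpos : 0 < L := by rw [hL, hz, lf_smul]; exact mul_pos hc₀pos hLs
  -- the key inequality
  have hg : ∀ y : Fin n → ℝ, (∀ i, 0 ≤ y i) → y ≠ 0 → 0 ≤ lf ℓ y →
      (lf ℓ y) ^ 2 ≤ L * bf B y y := by
    intro y hy hyne hly
    have h1 := hmaxz y hy hyne
    rw [hφ, hφ, hLz, ← hL] at h1
    have hq := hpos y hy hyne
    have hsq := Real.sqrt_pos.mpr hq
    have hsL := Real.sqrt_pos.mpr hLpos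
    rw [div_le_div_iff₀ hsq hsL] at h1
    have h2 : (lf ℓ y * Real.sqrt L) ^ 2 ≤ (L * Real.sqrt (bf B y y)) ^ 2 :=
      pow_le_pow_left₀ (mul_nonneg hly hsL.le) h1 2
    rw [mul_pow, mul_pow, Real.sq_sqrt hLpos.le, Real.sq_sqrt hq.le] at h2
    have h3 : (lf ℓ y) ^ 2 * L ≤ (L * bf B y y) * L := by
      have e : (L * bf B y y) * L = L ^ 2 * bf B y y := by ring
      rw [e]; exact h2
    exact le_of_mul_le_mul_right h3 hLpos
  -- first order conditions
  have hfo : ∀ i, 0 < z i →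
      bf B z (Pi.single i 1) + bf B (Pi.single i 1) z = 2 * (ℓ i : ℝ) := by
    intro i hzi
    obtain ⟨d, hd⟩ : ∃ d : ℝ,
        d = bf B z (Pi.single i 1) + bf B (Pi.single i 1) z - 2 * (ℓ i : ℝ) := ⟨_, rfl⟩
    obtain ⟨b, hb⟩ : ∃ b : ℝ, b = L * (B i i : ℝ) - (ℓ i : ℝ) ^ 2 := ⟨_, rfl⟩
    obtain ⟨δ, hδ⟩ : ∃ δ : ℝ, δ = min (z i) (L / (2 * (|(ℓ i : ℝ)| + 1))) := ⟨_, rfl⟩
    have hli1 : 0 < 2 * (|(ℓ i : ℝ)| + 1) := by positivity
    have hδpos : 0 < δ := by rw [hδ]; exact lt_min hzi (div_pos hLpos hli1)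
    have hquad : ∀ t : ℝ, |t| ≤ δ → 0 ≤ t * (L * d) + t ^ 2 * b := by
      intro t ht
      have ht1 : |t| ≤ z i := le_trans ht (by rw [hδ]; exact min_le_left _ _)
      have ht2 : |t| * (2 * (|(ℓ i : ℝ)| + 1)) ≤ L := by
        have h0 : |t| ≤ L / (2 * (|(ℓ i : ℝ)| + 1)) :=
          le_trans ht (by rw [hδ]; exact min_le_right _ _)
        exact (le_div_iff₀ hli1).mp h0
      obtain ⟨y, hy⟩ : ∃ y : Fin n → ℝ, y = z + t • Pi.single i 1 := ⟨_, rfl⟩
      have hy0 : ∀ j, 0 ≤ y j := by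
        intro j
        rw [hy, Pi.add_apply, Pi.smul_apply, smul_eq_mul]
        by_cases hj : j = i
        · subst hj
          rw [Pi.single_eq_same, mul_one]
          have h5 := neg_abs_le t
          linarith
        · rw [Pi.single_eq_of_ne hj, mul_zero, add_zero]
          exact hz0 j
      have hly : lf ℓ y = L + t * (ℓ i : ℝ) := by
        rw [hy, lf_add, lf_smul, lf_single, ← hL]
      have hlypos : 0 < lf ℓ y := by
        rw [hly]
        have h5 : |t * (ℓ i : ℝ)| = |t| * |(ℓ i : ℝ)| := abs_mul _ _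
        have h6 := neg_abs_le (t * (ℓ i : ℝ))
        have h7 : |t| * (2 * (|(ℓ i : ℝ)| + 1)) = 2 * (|t| * |(ℓ i : ℝ)|) + 2 * |t| := by ring
        have h8 := abs_nonneg t
        rw [h7] at ht2
        linarith
      have hyne : y ≠ 0 := by
        intro h0
        rw [h0, lf_zero] at hlypos
        exact lt_irrefl _ hlypos
      have h1 := hg y hy0 hyne hlypos.le
      have hqy : bf B y y = L + t * (bf B z (Pi.single i 1) + bf B (Pi.single i 1) z) +
          t ^ 2 * (B i i : ℝ) := by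
        rw [hy, bf_add_left, bf_add_right, bf_add_right, bf_smul_left, bf_smul_right,
          bf_smul_left, bf_smul_right, hLz, bf_single_single]
        ring
      rw [hly, hqy] at h1
      have e : t * (L * d) + t ^ 2 * b = L * (L + t * (bf B z (Pi.single i 1) +
          bf B (Pi.single i 1) z) + t ^ 2 * (B i i : ℝ)) - (L + t * (ℓ i : ℝ)) ^ 2 := by
        rw [hd, hb]; ring
      rw [e]
      linarith
    have h0 := quad_zero (L * d) b δ hδpos hquad
    have hd0 : d = 0 := by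
      rcases mul_eq_zero.mp h0 with h | h
      · exact absurd h hLpos.ne'
      · exact h
    rw [hd] at hd0
    linarith
  -- rational decomposition
  obtain ⟨P, hP⟩ : ∃ P : Option (Fin n) → ℝ, P = fun o => Option.elim o 1 z := ⟨_, rfl⟩
  have hPn : P none = 1 := by rw [hP]; rfl
  have hPs : ∀ i, P (some i) = z i := fun i => by rw [hP]; rfl
  have hP0 : ∀ o, 0 ≤ P o := by
    intro o
    cases o with
    | none => rw [hPn]; exact zero_le_one
    | some i => rw [hPs]; exact hz0 i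
  have hPne : P ≠ 0 := by
    intro h0
    have h1 := congr_fun h0 none
    rw [hPn] at h1
    exact one_ne_zero h1
  obtain ⟨r, A, zz, hr, hzz, hPz, hA0, -, hArel⟩ := RatCone.rat_simplicial P hP0 hPne
  have hk : ∃ k, 0 < A k none := by
    by_contra hcon
    push Not at hcon
    have h1 := hPz none
    rw [hPn] at h1
    have h2 : ∑ k, zz k * ((A k none : ℚ) : ℝ) = 0 := by
      refine Finset.sum_eq_zero fun k _ => ?_
      have h3 : A k none = 0 := le_antisymm (hcon k) (hA0 k none)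
      rw [h3]; simp
    rw [h2] at h1
    exact one_ne_zero h1
  obtain ⟨k, hk⟩ := hk
  obtain ⟨c, hc⟩ : ∃ c : ℚ, c = A k none := ⟨_, rfl⟩
  obtain ⟨x, hx⟩ : ∃ x : Fin n → ℚ, x = fun i => A k (some i) := ⟨_, rfl⟩
  have hcpos : (0:ℝ) < (c : ℝ) := by rw [hc]; exact_mod_cast hk
  have hx0 : ∀ i, 0 ≤ x i := fun i => by rw [hx]; exact hA0 k (some i)
  -- vanishing off the support
  have hxz : ∀ i, z i = 0 → x i = 0 := by
    intro i hzi
    have h1 := hPz (some i)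
    rw [hPs, hzi] at h1
    have h2 := (Finset.sum_eq_zero_iff_of_nonneg (fun k _ =>
      mul_nonneg (hzz k).le (by exact_mod_cast hA0 k (some i)))).mp h1.symm k (Finset.mem_univ k)
    rcases mul_eq_zero.mp h2 with h3 | h3
    · exact absurd h3 (hzz k).ne'
    · rw [hx]; exact_mod_cast h3
  -- the relations on the support
  have hxrel : ∀ i, 0 < z i →
      ∑ j, ((B i j : ℝ) + (B j i : ℝ)) * (x j : ℝ) = 2 * (c : ℝ) * (ℓ i : ℝ) := by
    intro i hzi
    obtain ⟨lam, hlam⟩ : ∃ lam : Fin n → ℚ, ∀ j, lam j = B i j + B j i :=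
      ⟨fun j => B i j + B j i, fun _ => rfl⟩
    have hlamR : ∀ j, ((lam j : ℚ) : ℝ) = (B i j : ℝ) + (B j i : ℝ) := fun j => by
      rw [hlam]; push_cast; rfl
    have h1 := hArel (fun o => Option.elim o (-2 * ℓ i) lam) ?_ k
    · rw [Fintype.sum_option] at h1
      simp only [Option.elim_none, Option.elim_some] at h1
      have h2 : ((∑ j, Option.elim j (-2 * ℓ i) lam * A k j : ℚ) : ℝ) = ((0:ℚ):ℝ) := by
        rw [Fintype.sum_option]; simp only [Option.elim_none, Option.elim_some]; rw [h1]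
      rw [Fintype.sum_option] at h2
      simp only [Option.elim_none, Option.elim_some] at h2
      push_cast at h2
      simp only [hlamR] at h2
      rw [hx, hc]
      push_cast
      linarith
    · rw [Fintype.sum_option]
      simp only [Option.elim_none, Option.elim_some]
      rw [hPn]
      simp only [hPs, hlamR]
      have h3 := hfo i hzi
      rw [bf_single_right, bf_single_left, ← Finset.sum_add_distrib] at h3
      push_cast
      have h4 : ∑ j, ((B i j : ℝ) + (B j i : ℝ)) * z j = 2 * (ℓ i : ℝ) := by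
        rw [← h3]
        exact Finset.sum_congr rfl fun j _ => by ring
      rw [h4]; ring
  have hzrel : ∀ i, 0 < z i → ∑ j, ((B i j : ℝ) + (B j i : ℝ)) * z j = 2 * (ℓ i : ℝ) := by
    intro i hzi
    have h3 := hfo i hzi
    rw [bf_single_right, bf_single_left, ← Finset.sum_add_distrib] at h3
    rw [← h3]
    exact Finset.sum_congr rfl fun j _ => by ring
  obtain ⟨xr, hxr⟩ : ∃ xr : Fin n → ℝ, xr = fun i => (x i : ℝ) := ⟨_, rfl⟩
  have hxrz : ∀ i, z i = 0 → xr i = 0 := fun i hi => by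
    rw [hxr]; show ((x i : ℚ) : ℝ) = 0; rw [hxz i hi]; simp
  have hxrrel : ∀ i, 0 < z i →
      ∑ j, ((B i j : ℝ) + (B j i : ℝ)) * xr j = 2 * (c : ℝ) * (ℓ i : ℝ) := fun i hi => by
    rw [hxr]; exact hxrel i hi
  -- S(z, xr) = 2 c L
  have hS1 : bf B z xr + bf B xr z = 2 * (c : ℝ) * L := by
    rw [bf_symm_sum, hL]
    unfold lf
    rw [Finset.mul_sum]
    refine Finset.sum_congr rfl fun i _ => ?_
    rcases eq_or_lt_of_le (hz0 i) with h | h
    · rw [← h]; ring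
    · rw [hxrrel i h]; ring
  -- S(xr, z) = 2 lf xr
  have hS2 : bf B xr z + bf B z xr = 2 * lf ℓ xr := by
    rw [bf_symm_sum]
    unfold lf
    rw [Finset.mul_sum]
    refine Finset.sum_congr rfl fun i _ => ?_
    rcases eq_or_lt_of_le (hz0 i) with h | h
    · rw [hxrz i h.symm]; ring
    · rw [hzrel i h]; ring
  have hlx : lf ℓ xr = (c : ℝ) * L := by linarith
  -- S(xr, xr) = 2 c lf xr
  have hS3 : bf B xr xr + bf B xr xr = 2 * (c : ℝ) * lf ℓ xr := by
    rw [bf_symm_sum]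
    unfold lf
    rw [Finset.mul_sum]
    refine Finset.sum_congr rfl fun i _ => ?_
    rcases eq_or_lt_of_le (hz0 i) with h | h
    · rw [hxrz i h.symm]; ring
    · rw [hxrrel i h]; ring
  have hqx : bf B xr xr = (c : ℝ) ^ 2 * L := by
    rw [hlx] at hS3
    linarith
  have hφx : φ xr = φ z := by
    rw [hφ, hφ, hLz, ← hL, hlx, hqx, Real.sqrt_mul (sq_nonneg _), Real.sqrt_sq hcpos.le,
      mul_div_mul_left _ _ hcpos.ne']
  refine ⟨x, hx0, ?_, ?_⟩
  · intro h0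
    have h1 : xr = 0 := by
      rw [hxr, h0]
      funext i
      simp
    rw [h1, lf_zero] at hlx
    have h2 := mul_pos hcpos hLpos
    linarith
  · intro y hy hyne
    have h1 := hmaxz y hy hyne
    rw [← hφx, hφ, hφ, hxr] at h1
    exact h1

theorem s19138 (n : ℕ) (ℓ : Fin n → ℚ)
    (B : Matrix (Fin n) (Fin n) ℚ)
    (hnn : ∀ y : Fin n → ℝ, 0 ≤ y ⬝ᵥ (B.map (fun r : ℚ => (r : ℝ))) *ᵥ y)
    (hpos : ∀ y : Fin n → ℝ, (∀ i, 0 ≤ y i) → y ≠ 0 →
      0 < y ⬝ᵥ (B.map (fun r : ℚ => (r : ℝ))) *ᵥ y)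
    (hℓ : ∃ y : Fin n → ℝ, (∀ i, 0 ≤ y i) ∧ 0 < (fun i => (ℓ i : ℝ)) ⬝ᵥ y) :
    ∃ x : Fin n → ℚ, (∀ i, 0 ≤ x i) ∧ x ≠ 0 ∧
      ∀ y : Fin n → ℝ, (∀ i, 0 ≤ y i) → y ≠ 0 →
        (fun i => (ℓ i : ℝ)) ⬝ᵥ y / Real.sqrt (y ⬝ᵥ (B.map (fun r : ℚ => (r : ℝ))) *ᵥ y) ≤
          (fun i => (ℓ i : ℝ)) ⬝ᵥ (fun i => (x i : ℝ)) /
            Real.sqrt ((fun i => (x i : ℝ)) ⬝ᵥ (B.map (fun r : ℚ => (r : ℝ))) *ᵥ
              (fun i => (x i : ℝ))) := by
  simp only [q_eq, l_eq] at hpos hℓ ⊢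
  exact main B ℓ hpos hℓ

end Groth.Agent.Helper8.RatMax
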