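import Mathlib
import Groth.Prelude.Def_Pi1

/-!
# Rational sections of separated unramified formally proper morphisms over normal bases extend
-/

set_option autoImplicit false

namespace Groth.Agent.Helper8.RatSec

open CategoryTheory CategoryTheory.Limits AlgebraicGeometry

universe u

/-- In a reduced Noetherian ring whose localization at the prime `𝔪` is a domain, there is
`g ∉ 𝔪` killing everything that dies in the localization. -/
theorem exists_away (A : Type u) [CommRing A] [IsNoetherianRing A] [IsReduced A] (𝔪 : Ideal A)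
    [𝔪.IsPrime] (L : Type u) [CommRing L] [Algebra A L] [IsLocalization.AtPrime L 𝔪]
    [IsDomain L] :
    ∃ g : A, g ∉ 𝔪 ∧ ∀ x : A, algebraMap A L x = 0 → g * x = 0 := by
  classical
  have hker : ∀ x : A, algebraMap A L x = 0 ↔ ∃ t : A, t ∉ 𝔪 ∧ t * x = 0 := by
    intro x
    rw [IsLocalization.map_eq_zero_iff 𝔪.primeCompl L]
    constructor
    · rintro ⟨m, hm⟩
      exact ⟨m.1, m.2, hm⟩
    · rintro ⟨t, ht, htx⟩
      exact ⟨⟨t, ht⟩, htx⟩
  let 𝔨 : Ideal A := RingHom.ker (algebraMap A L)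
  haveI : 𝔨.IsPrime := RingHom.ker_isPrime _
  have hfin : (minimalPrimes A).Finite := minimalPrimes.finite_of_isNoetherianRing A
  have hP : ∀ P ∈ minimalPrimes A, P ≠ 𝔨 → ∃ g : A, g ∈ P ∧ g ∉ 𝔪 := by
    intro P hP hne
    by_contra hcon
    have hPm : P ≤ 𝔪 := fun x hx => by
      by_contra hxm
      exact hcon ⟨x, hx, hxm⟩
    haveI : P.IsPrime := hP.1.1
    have h𝔨P : 𝔨 ≤ P := by
      intro x hx
      obtain ⟨t, ht, htx⟩ := (hker x).mp hx
      have : t * x ∈ P := by rw [htx]; exact P.zero_mem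
      rcases (Ideal.IsPrime.mem_or_mem inferInstance this) with h | h
      · exact absurd (hPm h) ht
      · exact h
    have : P ≤ 𝔨 := hP.2 ⟨inferInstance, bot_le⟩ h𝔨P
    exact hne (le_antisymm this h𝔨P)
  choose! gP hgP hgPm using hP
  let F : Finset (Ideal A) := hfin.toFinset.filter (fun P => P ≠ 𝔨)
  refine ⟨∏ P ∈ F, gP P, ?_, ?_⟩
  · intro hmem
    obtain ⟨P, hPF, hPm⟩ := (Ideal.IsPrime.prod_mem_iff (hp := inferInstance)).mp hmem
    rw [Finset.mem_filter, Set.Finite.mem_toFinset] at hPF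
    exact hgPm P hPF.1 hPF.2 hPm
  · intro x hx
    have hnil : (∏ P ∈ F, gP P) * x ∈ nilradical A := by
      rw [nilradical, ← Ideal.sInf_minimalPrimes]
      rw [Ideal.mem_sInf]
      intro P hP
      by_cases hPk : P = 𝔨
      · rw [hPk]
        exact Ideal.mul_mem_left _ _ hx
      · have hPF : P ∈ F := by
          rw [Finset.mem_filter, Set.Finite.mem_toFinset]
          exact ⟨hP, hPk⟩
        have : (∏ P ∈ F, gP P) ∈ P :=
          Ideal.mem_of_dvd _ (Finset.dvd_prod_of_mem _ hPF) (hgP P hP hPk)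
        exact Ideal.mul_mem_right _ _ this
    rw [nilradical_eq_zero] at hnil
    exact hnil

/-- In a locally Noetherian reduced scheme, a point whose local ring is a domain has an
integral affine open neighbourhood. -/
theorem exists_integral_nhd {S : Scheme.{u}} [IsLocallyNoetherian S] [IsReduced S] (s : S)
    [IsDomain (S.presheaf.stalk s)] :
    ∃ (V : S.Opens) (_ : IsAffineOpen V), s ∈ V ∧ IsDomain Γ(S, V) := by
  obtain ⟨_, ⟨V₀, hV₀, rfl⟩, hsV₀, -⟩ :=
    S.isBasis_affineOpens.exists_subset_of_mem_open (Set.mem_univ s) isOpen_univ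
  haveI : IsNoetherianRing Γ(S, V₀) := IsLocallyNoetherian.component_noetherian ⟨V₀, hV₀⟩
  let 𝔪 : Ideal Γ(S, V₀) := (hV₀.primeIdealOf ⟨s, hsV₀⟩).asIdeal
  letI : Algebra Γ(S, V₀) (S.presheaf.stalk s) := S.presheaf.algebra_section_stalk ⟨s, hsV₀⟩
  haveI : IsLocalization.AtPrime (S.presheaf.stalk s) 𝔪 := hV₀.isLocalization_stalk ⟨s, hsV₀⟩
  obtain ⟨g, hg𝔪, hg⟩ := exists_away Γ(S, V₀) 𝔪 (S.presheaf.stalk s)
  have hunit : IsUnit (S.presheaf.germ V₀ s hsV₀ g) :=
    IsLocalization.map_units (M := 𝔪.primeCompl) (S.presheaf.stalk s) ⟨g, hg𝔪⟩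
  have hsD : s ∈ S.basicOpen g := (S.mem_basicOpen g s hsV₀).mpr hunit
  refine ⟨S.basicOpen g, hV₀.basicOpen g, hsD, ?_⟩
  haveI hloc : IsLocalization.Away g Γ(S, S.basicOpen g) := hV₀.isLocalization_basicOpen g
  let θ : Γ(S, S.basicOpen g) →+* S.presheaf.stalk s := (S.presheaf.germ (S.basicOpen g) s hsD).hom
  have hθ : ∀ x : Γ(S, V₀), θ (algebraMap Γ(S, V₀) Γ(S, S.basicOpen g) x) =
      algebraMap Γ(S, V₀) (S.presheaf.stalk s) x := by
    intro x
    exact S.presheaf.germ_res_apply (homOfLE (S.basicOpen_le g)) s hsD x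
  have hinj : Function.Injective θ := by
    rw [injective_iff_map_eq_zero]
    intro y hy
    obtain ⟨⟨x, m⟩, hxm⟩ := IsLocalization.surj (Submonoid.powers g) y
    have h1 : algebraMap Γ(S, V₀) (S.presheaf.stalk s) x = 0 := by
      rw [← hθ, ← hxm, map_mul, hy, zero_mul]
    have h2 : g * x = 0 := hg x h1
    have h3 : algebraMap Γ(S, V₀) Γ(S, S.basicOpen g) g *
        (y * algebraMap Γ(S, V₀) Γ(S, S.basicOpen g) m.1) = 0 := by
      rw [hxm, ← map_mul, h2, map_zero]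
    have hu1 : IsUnit (algebraMap Γ(S, V₀) Γ(S, S.basicOpen g) g) :=
      IsLocalization.Away.algebraMap_isUnit g
    have hu2 : IsUnit (algebraMap Γ(S, V₀) Γ(S, S.basicOpen g) m.1) :=
      IsLocalization.map_units _ m
    have h4 : y * algebraMap Γ(S, V₀) Γ(S, S.basicOpen g) m.1 = 0 :=
      (hu1.mul_right_eq_zero).mp h3
    exact (hu2.mul_left_eq_zero).mp h4
  exact hinj.isDomain θ

/-- A domain whose stalks are integrally closed is integrally closed. -/
theorem isIntegrallyClosed_of_stalks {X : Scheme.{u}} (U : X.Opens) (hU : IsAffineOpen U)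
    [IsDomain Γ(X, U)]
    (h : ∀ x ∈ U, IsIntegrallyClosed (X.presheaf.stalk x)) : IsIntegrallyClosed Γ(X, U) := by
  apply IsIntegrallyClosed.of_localization_maximal
  intro p _ hp
  have hmem : hU.fromSpec ⟨p, hp.isPrime⟩ ∈ U := by
    have : hU.fromSpec ⟨p, hp.isPrime⟩ ∈ Set.range hU.fromSpec := Set.mem_range_self _
    rw [hU.range_fromSpec] at this
    exact this
  have hQ : hU.primeIdealOf ⟨hU.fromSpec ⟨p, hp.isPrime⟩, hmem⟩ = ⟨p, hp.isPrime⟩ :=
    hU.fromSpec.isOpenEmbedding.injective (hU.fromSpec_primeIdealOf ⟨_, hmem⟩)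
  letI : Algebra Γ(X, U) (X.presheaf.stalk (hU.fromSpec ⟨p, hp.isPrime⟩)) :=
    X.presheaf.algebra_section_stalk ⟨_, hmem⟩
  haveI h1 : IsLocalization.AtPrime (X.presheaf.stalk (hU.fromSpec ⟨p, hp.isPrime⟩))
      (hU.primeIdealOf ⟨hU.fromSpec ⟨p, hp.isPrime⟩, hmem⟩).asIdeal :=
    hU.isLocalization_stalk ⟨_, hmem⟩
  rw [hQ] at h1
  haveI : IsLocalization.AtPrime (X.presheaf.stalk (hU.fromSpec ⟨p, hp.isPrime⟩)) p := h1
  haveI := h _ hmem
  exact IsIntegrallyClosed.of_equiv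
    (IsLocalization.algEquiv p.primeCompl (X.presheaf.stalk (hU.fromSpec ⟨p, hp.isPrime⟩))
      (Localization.AtPrime p)).toRingEquiv

/-- Factor a ring map through an injective one, given the range condition. -/
theorem exists_factor {R S T : Type*} [CommRing R] [CommRing S] [CommRing T] (g : S →+* T)
    (hg : Function.Injective g) (h : R →+* T) (hr : ∀ r, ∃ s, g s = h r) :
    ∃ k : R →+* S, g.comp k = h := by
  choose k hk using hr
  refine ⟨{ toFun := k
            map_one' := hg (by rw [hk, map_one, map_one])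
            map_mul' := fun x y => hg (by rw [hk, map_mul, map_mul, hk, hk])
            map_zero' := hg (by rw [hk, map_zero, map_zero])
            map_add' := fun x y => hg (by rw [hk, map_add, map_add, hk, hk]) }, ?_⟩
  ext r
  exact hk r

/-- The ring-theoretic core: Zariski's main theorem plus integral closedness. -/
theorem ring_core (A : Type u) [CommRing A] [IsDomain A] [IsIntegrallyClosed A] (K : Type u)
    [Field K] [Algebra A K] [IsFractionRing A K]
    (C : Type u) [CommRing C] [Algebra A C] [Algebra.FiniteType A C]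
    [Algebra.FormallyUnramified A C]
    (χ : C →ₐ[A] K) (𝔮 : Ideal C) [𝔮.IsPrime] (hker : ∀ c, χ c = 0 → c ∈ 𝔮) :
    ∃ a : A, algebraMap A C a ∉ 𝔮 ∧
      ∀ c : C, ∃ (n : ℕ) (b : A), χ c * (algebraMap A K a) ^ n = algebraMap A K b := by
  obtain ⟨r, hr𝔮, hrint, hr⟩ :=
    Algebra.zariskisMainProperty_iff.mp (Algebra.ZariskisMainProperty.of_finiteType (R := A) 𝔮)
  have h1 : IsIntegral A (χ r) := hrint.map χ
  obtain ⟨a, ha⟩ := IsIntegrallyClosed.isIntegral_iff.mp h1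
  refine ⟨a, ?_, ?_⟩
  · intro hmem
    have h2 : algebraMap A C a - r ∈ 𝔮 :=
      hker _ (by rw [map_sub, AlgHom.commutes, ha, sub_self])
    have h3 : algebraMap A C a - (algebraMap A C a - r) ∈ 𝔮 := 𝔮.sub_mem hmem h2
    rw [sub_sub_cancel] at h3
    exact hr𝔮 h3
  · intro c
    obtain ⟨m, hm⟩ := hr c
    have h3 : IsIntegral A (χ (r ^ m * c)) := hm.map χ
    obtain ⟨b, hb⟩ := IsIntegrallyClosed.isIntegral_iff.mp h3
    refine ⟨m, b, ?_⟩
    rw [hb, map_mul, map_pow, ha, mul_comm]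

/-- The fraction field of the sections over `V`. -/
abbrev KK (S : Scheme.{u}) (V : S.Opens) : Type u := FractionRing Γ(S, V)

/-- The generic point morphism of an affine open. -/
noncomputable def gK {S : Scheme.{u}} (V : S.Opens) (hV : IsAffineOpen V) :
    Spec (.of (KK S V)) ⟶ S :=
  Spec.map (CommRingCat.ofHom (algebraMap Γ(S, V) (KK S V))) ≫ hV.fromSpec

theorem gK_specializes {S : Scheme.{u}} (V : S.Opens) (hV : IsAffineOpen V) [IsDomain Γ(S, V)]
    (p : Spec (.of (KK S V))) (y : S) (hy : y ∈ V) : gK V hV p ⤳ y := by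
  have hy' : hV.fromSpec (hV.primeIdealOf ⟨y, hy⟩) = y := hV.fromSpec_primeIdealOf ⟨y, hy⟩
  rw [← hy']
  show hV.fromSpec (Spec.map (CommRingCat.ofHom (algebraMap Γ(S, V) (KK S V))) p) ⤳ _
  have hsp : @Specializes (PrimeSpectrum Γ(S, V)) _
      (Spec.map (CommRingCat.ofHom (algebraMap Γ(S, V) (KK S V))) p)
      (hV.primeIdealOf ⟨y, hy⟩) := by
    rw [← PrimeSpectrum.le_iff_specializes, ← PrimeSpectrum.asIdeal_le_asIdeal]
    intro x hx
    have hx' : algebraMap Γ(S, V) (KK S V) x ∈ p.asIdeal := hx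
    have hbot : p.asIdeal = ⊥ :=
      (Ideal.eq_bot_or_top p.asIdeal).resolve_right p.isPrime.ne_top
    rw [hbot, Ideal.mem_bot] at hx'
    have hx0 : x = 0 := (IsFractionRing.injective Γ(S, V) (KK S V)) (by rw [hx', map_zero])
    rw [hx0]
    exact Ideal.zero_mem _
  exact Specializes.map hsp hV.fromSpec.continuous

/-- Local extension of a rational section at a point. -/
theorem local_section {Z S : Scheme.{u}} (f : Z ⟶ S) [IsReduced S] [IsSeparated f]
    [FormallyUnramified f] [LocallyOfFiniteType f]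
    (hfp : ValuativeCriterion.Existence f)
    (V : S.Opens) (hV : IsAffineOpen V) [IsDomain Γ(S, V)] [IsIntegrallyClosed Γ(S, V)]
    (s : S) (hsV : s ∈ V) (U : S.Opens) (hUV : ∃ u, u ∈ U ∧ u ∈ V)
    (v : ↑U ⟶ Z) (hv : v ≫ f = U.ι) :
    ∃ (D : S.Opens), s ∈ D ∧ ∃ w : ↑D ⟶ Z, w ≫ f = D.ι ∧
      ∀ {T : Scheme.{u}} (t₁ : T ⟶ ↑D) (t₂ : T ⟶ ↑U), t₁ ≫ D.ι = t₂ ≫ U.ι →
        t₁ ≫ w = t₂ ≫ v := by
  classical
  obtain ⟨u, huU, huV⟩ := hUV
  let g : Spec (.of (KK S V)) ⟶ S := gK V hV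
  let pt : Spec (.of (KK S V)) := (⟨⊥, Ideal.isPrime_bot⟩ : PrimeSpectrum (KK S V))
  have hpt : ∀ p : Spec (.of (KK S V)), p = pt := fun p =>
    @Subsingleton.elim (PrimeSpectrum (KK S V)) _ p pt
  have hgU : Set.range g ⊆ Set.range U.ι := by
    rw [Scheme.Opens.range_ι]
    rintro _ ⟨p, rfl⟩
    exact (gK_specializes V hV p u huV).mem_open U.isOpen huU
  let gU : Spec (.of (KK S V)) ⟶ ↑U := IsOpenImmersion.lift U.ι g hgU
  have hgU' : gU ≫ U.ι = g := IsOpenImmersion.lift_fac _ _ _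
  let xK : Spec (.of (KK S V)) ⟶ Z := gU ≫ v
  have hxK : xK ≫ f = g := by rw [Category.assoc, hv, hgU']
  let z₀ : Z := xK pt
  have hz₀ : f z₀ ⤳ s := by
    have h1 : f z₀ = g pt := by rw [← Scheme.Hom.comp_apply, hxK]
    rw [h1]
    exact gK_specializes V hV pt s hsV
  obtain ⟨z, hz₀z, hfz⟩ := ValuativeCriterion.Existence.specializingMap f hfp hz₀
  obtain ⟨_, ⟨Z₁, hZ₁, rfl⟩, hzZ₁, hZ₁V⟩ :=
    Z.isBasis_affineOpens.exists_subset_of_mem_open
      (show z ∈ ((f ⁻¹ᵁ V : Z.Opens) : Set Z) from by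
        show f z ∈ V
        rw [hfz]
        exact hsV) (f ⁻¹ᵁ V).isOpen
  have hle : Z₁ ≤ f ⁻¹ᵁ V := hZ₁V
  have hz₀Z₁ : z₀ ∈ Z₁ := hz₀z.mem_open Z₁.isOpen hzZ₁
  have hxKrange : Set.range xK ⊆ Set.range hZ₁.fromSpec := by
    rw [hZ₁.range_fromSpec]
    rintro _ ⟨p, rfl⟩
    rw [hpt p]
    exact hz₀Z₁
  let ℓ : Spec (.of (KK S V)) ⟶ Spec Γ(Z, Z₁) := IsOpenImmersion.lift hZ₁.fromSpec xK hxKrange
  have hℓ : ℓ ≫ hZ₁.fromSpec = xK := IsOpenImmersion.lift_fac _ _ _
  let χ : Γ(Z, Z₁) ⟶ CommRingCat.of (KK S V) := Spec.preimage ℓ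
  have hχ : Spec.map χ = ℓ := Spec.map_preimage ℓ
  let ρ : Γ(S, V) ⟶ Γ(Z, Z₁) := f.appLE V Z₁ hle
  have hρχ : ρ ≫ χ = CommRingCat.ofHom (algebraMap Γ(S, V) (KK S V)) := by
    apply Spec.map_injective
    rw [Spec.map_comp, hχ, ← cancel_mono hV.fromSpec, Category.assoc,
      IsAffineOpen.SpecMap_appLE_fromSpec f hV hZ₁ hle, ← Category.assoc, hℓ, hxK]
    rfl
  letI : Algebra Γ(S, V) Γ(Z, Z₁) := ρ.hom.toAlgebra
  haveI : Algebra.FiniteType Γ(S, V) Γ(Z, Z₁) := f.finiteType_appLE hV hZ₁ hle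
  haveI : Algebra.FormallyUnramified Γ(S, V) Γ(Z, Z₁) := f.formallyUnramified_appLE hV hZ₁ hle
  let χ' : Γ(Z, Z₁) →ₐ[Γ(S, V)] KK S V :=
    { χ.hom with
      commutes' := fun x =>
        congrArg (fun φ : Γ(S, V) ⟶ CommRingCat.of (KK S V) => φ.hom x) hρχ }
  let y : Spec Γ(Z, Z₁) := hZ₁.primeIdealOf ⟨z, hzZ₁⟩
  have hy : hZ₁.fromSpec y = z := hZ₁.fromSpec_primeIdealOf ⟨z, hzZ₁⟩
  have hspec : ℓ pt ⤳ y := by
    rw [← hZ₁.fromSpec.isOpenEmbedding.isInducing.specializes_iff, hy, ← Scheme.Hom.comp_apply,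
      hℓ]
    exact hz₀z
  have hker : ∀ c, χ' c = 0 → c ∈ y.asIdeal := by
    intro c hc
    have h1 : c ∈ (Spec.map χ pt).asIdeal := by
      show χ.hom c ∈ pt.asIdeal
      have h0 : χ.hom c = 0 := hc
      rw [h0]
      exact Ideal.zero_mem _
    rw [hχ] at h1
    exact ((PrimeSpectrum.asIdeal_le_asIdeal _ _).mpr
      ((PrimeSpectrum.le_iff_specializes _ _).mpr hspec)) h1
  obtain ⟨a, ha, hfac⟩ := ring_core Γ(S, V) (KK S V) Γ(Z, Z₁) χ' y.asIdeal hker
  have ha0 : a ≠ 0 := by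
    rintro rfl
    exact ha (by rw [map_zero]; exact Ideal.zero_mem _)
  have hD : IsAffineOpen (S.basicOpen a) := hV.basicOpen a
  have hsD : s ∈ S.basicOpen a := by
    have h1 : y ∈ PrimeSpectrum.basicOpen ((f.appLE V Z₁ hle).hom a) := ha
    rw [← hZ₁.fromSpec_preimage_basicOpen] at h1
    have h2 : z ∈ Z.basicOpen ((f.appLE V Z₁ hle).hom a) := by
      rw [← hy]
      exact h1
    rw [Scheme.basicOpen_appLE] at h2
    rw [← hfz]
    exact h2.2
  haveI hloc : IsLocalization.Away a Γ(S, S.basicOpen a) := hV.isLocalization_basicOpen a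
  have hunit : IsUnit (algebraMap Γ(S, V) (KK S V) a) := by
    rw [isUnit_iff_ne_zero]
    intro h0
    exact ha0 ((IsFractionRing.injective Γ(S, V) (KK S V)) (by rw [h0, map_zero]))
  let ιa : Γ(S, S.basicOpen a) →+* KK S V := IsLocalization.Away.lift a hunit
  have hιa : ∀ x : Γ(S, V), ιa (algebraMap Γ(S, V) Γ(S, S.basicOpen a) x) =
      algebraMap Γ(S, V) (KK S V) x := fun x => IsLocalization.Away.lift_eq a hunit x
  have hιa_inj : Function.Injective ιa := by
    rw [injective_iff_map_eq_zero]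
    intro t ht
    obtain ⟨⟨x, m⟩, hxm⟩ := IsLocalization.surj (Submonoid.powers a) t
    have h1 : algebraMap Γ(S, V) (KK S V) x = 0 := by
      rw [← hιa, ← hxm, map_mul, ht, zero_mul]
    have h2 : x = 0 := IsFractionRing.injective Γ(S, V) (KK S V) (by rw [h1, map_zero])
    have h3 : t * algebraMap Γ(S, V) Γ(S, S.basicOpen a) m.1 = 0 := by
      rw [hxm, h2, map_zero]
    have hu2 : IsUnit (algebraMap Γ(S, V) Γ(S, S.basicOpen a) m.1) :=
      IsLocalization.map_units _ m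
    exact (hu2.mul_left_eq_zero).mp h3
  have hrange : ∀ c : Γ(Z, Z₁), ∃ t, ιa t = χ.hom c := by
    intro c
    obtain ⟨n, b, hb⟩ := hfac c
    let t := IsLocalization.mk' Γ(S, S.basicOpen a) b (⟨a ^ n, n, rfl⟩ : Submonoid.powers a)
    refine ⟨t, ?_⟩
    have h1 : t * algebraMap Γ(S, V) Γ(S, S.basicOpen a) (a ^ n) =
        algebraMap Γ(S, V) Γ(S, S.basicOpen a) b :=
      IsLocalization.mk'_spec Γ(S, S.basicOpen a) b (⟨a ^ n, n, rfl⟩ : Submonoid.powers a)
    have h2 : ιa t * (algebraMap Γ(S, V) (KK S V) a) ^ n = algebraMap Γ(S, V) (KK S V) b := by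
      rw [← hιa b, ← h1, map_mul, hιa, map_pow]
    have h3 : (algebraMap Γ(S, V) (KK S V) a) ^ n ≠ 0 := pow_ne_zero _ hunit.ne_zero
    exact mul_right_cancel₀ h3 (h2.trans hb.symm)
  obtain ⟨χa, hχa⟩ := exists_factor ιa hιa_inj χ.hom hrange
  let res : Γ(S, V) ⟶ Γ(S, S.basicOpen a) := S.presheaf.map (homOfLE (S.basicOpen_le a)).op
  have hres : ρ ≫ CommRingCat.ofHom χa = res := by
    ext x
    apply hιa_inj
    show ιa (χa (ρ.hom x)) = ιa (res.hom x)
    have e1 : ιa (χa (ρ.hom x)) = χ.hom (ρ.hom x) :=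
      congrArg (fun φ : Γ(Z, Z₁) →+* KK S V => φ (ρ.hom x)) hχa
    have e2 : χ.hom (ρ.hom x) = algebraMap Γ(S, V) (KK S V) x :=
      congrArg (fun φ : Γ(S, V) ⟶ CommRingCat.of (KK S V) => φ.hom x) hρχ
    rw [e1, e2]
    exact (hιa x).symm
  obtain ⟨w, hwdef⟩ : ∃ w : ↑(S.basicOpen a) ⟶ Z,
      w = hD.isoSpec.hom ≫ Spec.map (CommRingCat.ofHom χa) ≫ hZ₁.fromSpec := ⟨_, rfl⟩
  have hw : w ≫ f = (S.basicOpen a).ι := by
    rw [hwdef]
    simp only [Category.assoc]
    rw [← IsAffineOpen.SpecMap_appLE_fromSpec f hV hZ₁ hle, ← Spec.map_comp_assoc, hres,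
      hV.map_fromSpec hD, hD.isoSpec_hom_fromSpec]
  refine ⟨S.basicOpen a, hsD, w, hw, ?_⟩
  intro T t₁ t₂ ht
  let W₀ : S.Opens := U ⊓ S.basicOpen a
  have hgW₀ : Set.range g ⊆ Set.range W₀.ι := by
    rw [Scheme.Opens.range_ι]
    rintro _ ⟨p, rfl⟩
    exact ⟨(gK_specializes V hV p u huV).mem_open U.isOpen huU,
      (gK_specializes V hV p s hsV).mem_open (S.basicOpen a).isOpen hsD⟩
  have key : S.homOfLE (inf_le_right : W₀ ≤ S.basicOpen a) ≫ w =
      S.homOfLE (inf_le_left : W₀ ≤ U) ≫ v := by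
    let ιK : Spec (.of (KK S V)) ⟶ ↑W₀ := IsOpenImmersion.lift W₀.ι g hgW₀
    have hιK : ιK ≫ W₀.ι = g := IsOpenImmersion.lift_fac _ _ _
    haveI : IsDominant ιK := by
      refine ⟨fun y' => ?_⟩
      have hy'W : W₀.ι y' ∈ W₀ := by
        have : W₀.ι y' ∈ Set.range W₀.ι := ⟨y', rfl⟩
        rw [Scheme.Opens.range_ι] at this
        exact this
      have hy'V : W₀.ι y' ∈ V := S.basicOpen_le a hy'W.2
      have h1 : W₀.ι (ιK pt) ⤳ W₀.ι y' := by
        rw [← Scheme.Hom.comp_apply, hιK]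
        exact gK_specializes V hV pt _ hy'V
      have h2 : ιK pt ⤳ y' := (W₀.ι.isOpenEmbedding.isInducing.specializes_iff).mp h1
      exact closure_mono (Set.singleton_subset_iff.mpr (Set.mem_range_self pt))
        (specializes_iff_mem_closure.mp h2)
    refine ext_of_isDominant_of_isSeparated f ?_ ιK ?_
    · rw [Category.assoc, Category.assoc, hw, hv, Scheme.homOfLE_ι, Scheme.homOfLE_ι]
    · have e1 : ιK ≫ S.homOfLE (inf_le_left : W₀ ≤ U) = gU := by
        rw [← cancel_mono U.ι, Category.assoc, Scheme.homOfLE_ι, hιK, hgU']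
      have e3 : res ≫ CommRingCat.ofHom ιa =
          CommRingCat.ofHom (algebraMap Γ(S, V) (KK S V)) := by
        ext x
        exact hιa x
      have e2 : ιK ≫ S.homOfLE (inf_le_right : W₀ ≤ S.basicOpen a) ≫ hD.isoSpec.hom =
          Spec.map (CommRingCat.ofHom ιa) := by
        rw [← cancel_mono hD.fromSpec, Category.assoc, Category.assoc, hD.isoSpec_hom_fromSpec,
          Scheme.homOfLE_ι, hιK, ← hV.map_fromSpec hD (homOfLE (S.basicOpen_le a)).op,
          ← Spec.map_comp_assoc, e3]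
        rfl
      have e4 : CommRingCat.ofHom χa ≫ CommRingCat.ofHom ιa = χ := by
        ext c
        exact congrArg (fun φ : Γ(Z, Z₁) →+* KK S V => φ c) hχa
      rw [← Category.assoc ιK _ v, e1, hwdef, reassoc_of% e2, ← Spec.map_comp_assoc, e4, hχ,
        hℓ]
  have hrange' : Set.range (t₁ ≫ (S.basicOpen a).ι) ⊆ Set.range W₀.ι := by
    rw [Scheme.Opens.range_ι]
    rintro _ ⟨t, rfl⟩
    refine ⟨?_, ?_⟩
    · rw [ht]
      have : U.ι (t₂ t) ∈ Set.range U.ι := ⟨_, rfl⟩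
      rw [Scheme.Opens.range_ι] at this
      exact this
    · have : (S.basicOpen a).ι (t₁ t) ∈ Set.range (S.basicOpen a).ι := ⟨_, rfl⟩
      rw [Scheme.Opens.range_ι] at this
      exact this
  let t₀ : T ⟶ ↑W₀ := IsOpenImmersion.lift W₀.ι (t₁ ≫ (S.basicOpen a).ι) hrange'
  have ht₀ : t₀ ≫ W₀.ι = t₁ ≫ (S.basicOpen a).ι := IsOpenImmersion.lift_fac _ _ _
  have h1 : t₁ = t₀ ≫ S.homOfLE (inf_le_right : W₀ ≤ S.basicOpen a) := by
    rw [← cancel_mono (S.basicOpen a).ι, Category.assoc, Scheme.homOfLE_ι, ht₀]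
  have h2 : t₂ = t₀ ≫ S.homOfLE (inf_le_left : W₀ ≤ U) := by
    rw [← cancel_mono U.ι, Category.assoc, Scheme.homOfLE_ι, ht₀, ht]
  rw [h1, h2, Category.assoc, Category.assoc, key]

/-- Rational sections of separated, unramified, formally proper morphisms over a normal locally
Noetherian base extend to global sections. -/
theorem main {Z S : Scheme.{u}} (f : Z ⟶ S)
    [IsLocallyNoetherian S] (hS : Pi1.IsNormalScheme S) [IsSeparated f] [FormallyUnramified f]
    [LocallyOfFiniteType f]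
    (hfp : ValuativeCriterion.Existence f) (U : S.Opens) (hU : Dense (U : Set S)) (v : ↑U ⟶ Z)
    (hv : v ≫ f = U.ι) :
    ∃ w : S ⟶ Z, w ≫ f = 𝟙 S ∧ U.ι ≫ w = v := by
  haveI : IsReduced S := by
    haveI : ∀ x : S, _root_.IsReduced (S.presheaf.stalk x) := fun x => by
      haveI := (hS x).1
      infer_instance
    exact isReduced_of_isReduced_stalk S
  have hloc : ∀ s : S, ∃ (D : S.Opens), s ∈ D ∧ ∃ w : ↑D ⟶ Z, w ≫ f = D.ι ∧
      ∀ {T : Scheme.{u}} (t₁ : T ⟶ ↑D) (t₂ : T ⟶ ↑U), t₁ ≫ D.ι = t₂ ≫ U.ι →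
        t₁ ≫ w = t₂ ≫ v := by
    intro s
    haveI := (hS s).1
    obtain ⟨V, hV, hsV, hdom⟩ := exists_integral_nhd s
    haveI := hdom
    haveI : IsIntegrallyClosed Γ(S, V) :=
      isIntegrallyClosed_of_stalks V hV (fun x _ => (hS x).2)
    obtain ⟨u, hu⟩ := hU.inter_open_nonempty V V.isOpen ⟨s, hsV⟩
    exact local_section f hfp V hV s hsV U ⟨u, hu.2, hu.1⟩ v hv
  choose D hsD w hw hagree using hloc
  let 𝒰 : S.OpenCover := S.openCoverOfIsOpenCover D
    (eq_top_iff.mpr fun x _ => TopologicalSpace.Opens.mem_iSup.mpr ⟨x, hsD x⟩)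
  have hcompat : ∀ x y : S, pullback.fst (𝒰.f x) (𝒰.f y) ≫ w x =
      pullback.snd (𝒰.f x) (𝒰.f y) ≫ w y := by
    intro x y
    show pullback.fst (D x).ι (D y).ι ≫ w x = pullback.snd (D x).ι (D y).ι ≫ w y
    let q : pullback (D x).ι (D y).ι ⟶ S := pullback.fst (D x).ι (D y).ι ≫ (D x).ι
    haveI : IsReduced (pullback (D x).ι (D y).ι) := isReduced_of_isOpenImmersion q
    let j : pullback q U.ι ⟶ pullback (D x).ι (D y).ι := pullback.fst q U.ι
    haveI : IsDominant j := by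
      refine ⟨?_⟩
      show Dense (Set.range j)
      rw [Scheme.Pullback.range_fst, Scheme.Opens.range_ι]
      exact hU.preimage q.isOpenEmbedding.isOpenMap
    refine ext_of_isDominant_of_isSeparated f ?_ j ?_
    · rw [Category.assoc, Category.assoc, hw, hw]
      exact pullback.condition
    · have e1 := hagree x (j ≫ pullback.fst _ _) (pullback.snd q U.ι)
        (by rw [Category.assoc]; exact pullback.condition)
      have e2 := hagree y (j ≫ pullback.snd _ _) (pullback.snd q U.ι)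
        (by rw [Category.assoc, ← pullback.condition]; exact pullback.condition)
      rw [Category.assoc] at e1 e2
      exact e1.trans e2.symm
  let W : S ⟶ Z := 𝒰.glueMorphisms w hcompat
  have hW : ∀ x, (D x).ι ≫ W = w x := fun x => 𝒰.ι_glueMorphisms w hcompat x
  refine ⟨W, ?_, ?_⟩
  · refine Scheme.Cover.hom_ext 𝒰 _ _ fun x => ?_
    show (D x).ι ≫ W ≫ f = (D x).ι ≫ 𝟙 S
    rw [← Category.assoc, hW, hw, Category.comp_id]
  · refine Scheme.Cover.hom_ext (𝒰.pullback₁ U.ι) _ _ fun x => ?_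
    show pullback.fst U.ι (D x).ι ≫ U.ι ≫ W = pullback.fst U.ι (D x).ι ≫ v
    rw [← Category.assoc, pullback.condition, Category.assoc, hW]
    exact hagree x (pullback.snd U.ι (D x).ι) (pullback.fst U.ι (D x).ι)
      pullback.condition.symm

end Groth.Agent.Helper8.RatSec
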