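import Mathlib

set_option autoImplicit false

namespace Groth.Agent.Helper8.Rees

open Polynomial

attribute [local instance] Polynomial.algebra

/-- A multiplicative increasing filtration of a commutative algebra by submodules. -/
structure Filt (K : Type*) [CommRing K] (A : Type*) [CommRing A] [Algebra K A] where
  F : ℕ → Submodule K A
  mono : Monotone F
  one_mem : (1 : A) ∈ F 0
  mul_mem : ∀ {i j : ℕ} {a b : A}, a ∈ F i → b ∈ F j → a * b ∈ F (i + j)

variable {K : Type*} [Field K] {A : Type*} [CommRing A] [Algebra K A]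

/-- The Rees algebra of the filtration, inside `A[X]`. -/
noncomputable def rees (Φ : Filt K A) : Subalgebra K[X] A[X] where
  carrier := {p | ∀ k, p.coeff k ∈ Φ.F k}
  mul_mem' := by
    intro p q hp hq k
    rw [coeff_mul]
    refine Submodule.sum_mem _ fun x hx => ?_
    have h1 : x.1 + x.2 = k := Finset.HasAntidiagonal.mem_antidiagonal.mp hx
    rw [← h1]
    exact Φ.mul_mem (hp _) (hq _)
  one_mem' := by
    intro k
    rw [coeff_one]
    split_ifs with h
    · rw [h]; exact Φ.one_mem
    · exact zero_mem _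
  add_mem' := by
    intro p q hp hq k
    rw [coeff_add]
    exact add_mem (hp k) (hq k)
  zero_mem' := by
    intro k
    rw [coeff_zero]
    exact zero_mem _
  algebraMap_mem' := by
    intro P k
    rw [Polynomial.algebraMap_def, coe_mapRingHom, coeff_map, Algebra.algebraMap_eq_smul_one]
    exact Φ.mono (Nat.zero_le k) (Submodule.smul_mem _ _ Φ.one_mem)

lemma mem_rees (Φ : Filt K A) (p : A[X]) : p ∈ rees Φ ↔ ∀ k, p.coeff k ∈ Φ.F k := Iff.rfl

/-- The elementary elements `a X ^ k` with `a ∈ F k`. -/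
noncomputable def el (Φ : Filt K A) (k : ℕ) (a : A) (ha : a ∈ Φ.F k) : rees Φ :=
  ⟨monomial k a, fun j => by
    rw [coeff_monomial]
    split_ifs with h
    · rw [← h]; exact ha
    · exact zero_mem _⟩

lemma coe_el (Φ : Filt K A) (k : ℕ) (a : A) (ha : a ∈ Φ.F k) :
    ((el Φ k a ha : rees Φ) : A[X]) = monomial k a := rfl

lemma coe_algebraMap_rees (Φ : Filt K A) (P : K[X]) :
    ((algebraMap K[X] (rees Φ) P : rees Φ) : A[X]) = P.map (algebraMap K A) := rfl

/-! ### The ideal generated by `X` -/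

lemma mem_span_X (Φ : Filt K A) (r : rees Φ) :
    r ∈ Ideal.span {algebraMap K[X] (rees Φ) X} ↔
      (r : A[X]).coeff 0 = 0 ∧ ∀ k, (r : A[X]).coeff (k + 1) ∈ Φ.F k := by
  rw [Ideal.mem_span_singleton']
  constructor
  · rintro ⟨q, rfl⟩
    have h1 : ((q * algebraMap K[X] (rees Φ) X : rees Φ) : A[X]) = (q : A[X]) * X := by
      rw [MulMemClass.coe_mul, coe_algebraMap_rees, Polynomial.map_X]
    rw [h1]
    refine ⟨coeff_mul_X_zero _, fun k => ?_⟩
    rw [coeff_mul_X]
    exact q.2 k
  · rintro ⟨h0, h1⟩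
    refine ⟨⟨divX (r : A[X]), fun k => ?_⟩, ?_⟩
    · rw [coeff_divX]; exact h1 k
    · apply Subtype.ext
      rw [MulMemClass.coe_mul, coe_algebraMap_rees, Polynomial.map_X]
      have h2 := divX_mul_X_add (r : A[X])
      rw [h0, C_0, add_zero] at h2
      exact h2

/-! ### The fibre over a non-zero scalar -/

/-- Evaluation at `c`. -/
noncomputable def evc (Φ : Filt K A) (c : K) : rees Φ →ₐ[K] A where
  toFun r := (r : A[X]).eval (algebraMap K A c)
  map_one' := by
    show ((1 : rees Φ) : A[X]).eval (algebraMap K A c) = 1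
    rw [OneMemClass.coe_one, eval_one]
  map_mul' r s := by
    show ((r * s : rees Φ) : A[X]).eval (algebraMap K A c) = _
    rw [MulMemClass.coe_mul, eval_mul]
  map_zero' := by
    show ((0 : rees Φ) : A[X]).eval (algebraMap K A c) = 0
    rw [ZeroMemClass.coe_zero, eval_zero]
  map_add' r s := by
    show ((r + s : rees Φ) : A[X]).eval (algebraMap K A c) = _
    rw [AddMemClass.coe_add, eval_add]
  commutes' k := by
    show ((algebraMap K (rees Φ) k : rees Φ) : A[X]).eval (algebraMap K A c) = _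
    rw [Subalgebra.coe_algebraMap, Polynomial.algebraMap_apply, eval_C]

lemma evc_apply (Φ : Filt K A) (c : K) (r : rees Φ) :
    evc Φ c r = (r : A[X]).eval (algebraMap K A c) := rfl

lemma evc_surjective (Φ : Filt K A) (c : K) (hc : c ≠ 0) (hex : ∀ a : A, ∃ k, a ∈ Φ.F k) :
    Function.Surjective (evc Φ c) := by
  intro a
  obtain ⟨k, hk⟩ := hex a
  refine ⟨el Φ k ((c⁻¹) ^ k • a) (Submodule.smul_mem _ _ hk), ?_⟩
  rw [evc_apply, coe_el, eval_monomial, Algebra.smul_def, ← map_pow,
    mul_comm (algebraMap K A (c⁻¹ ^ k)) a, mul_assoc, ← map_mul, ← mul_pow,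
    inv_mul_cancel₀ hc, one_pow, map_one, mul_one]

lemma coeff_X_sub_C_mul_zero (a : A) (q : A[X]) : ((X - C a) * q).coeff 0 = - (a * q.coeff 0) := by
  rw [sub_mul, coeff_sub, coeff_X_mul_zero, coeff_C_mul, zero_sub]

lemma coeff_X_sub_C_mul_succ (a : A) (q : A[X]) (k : ℕ) :
    ((X - C a) * q).coeff (k + 1) = q.coeff k - a * q.coeff (k + 1) := by
  rw [sub_mul, coeff_sub, coeff_X_mul, coeff_C_mul]

lemma ker_evc (Φ : Filt K A) (c : K) (hc : c ≠ 0) :
    RingHom.ker (evc Φ c) = Ideal.span {algebraMap K[X] (rees Φ) (X - C c)} := by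
  have hcoe : ((algebraMap K[X] (rees Φ) (X - C c) : rees Φ) : A[X]) =
      X - C (algebraMap K A c) := by
    rw [coe_algebraMap_rees, Polynomial.map_sub, Polynomial.map_X, Polynomial.map_C]
  apply le_antisymm
  · intro r hr
    rw [RingHom.mem_ker, evc_apply] at hr
    obtain ⟨q, hq⟩ : ∃ q : A[X], q = (r : A[X]) /ₘ (X - C (algebraMap K A c)) := ⟨_, rfl⟩
    have hmul : (X - C (algebraMap K A c)) * q = (r : A[X]) := by
      rw [hq]; exact mul_divByMonic_eq_iff_isRoot.mpr hr
    have hinv : ∀ x : A, c⁻¹ • (algebraMap K A c * x) = x := by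
      intro x
      rw [Algebra.smul_def, ← mul_assoc, ← map_mul, inv_mul_cancel₀ hc, map_one, one_mul]
    have hqmem : ∀ k, q.coeff k ∈ Φ.F k := by
      intro k
      induction k with
      | zero =>
        have h1 := coeff_X_sub_C_mul_zero (algebraMap K A c) q
        rw [hmul] at h1
        have h2 : q.coeff 0 = c⁻¹ • (- (r : A[X]).coeff 0) := by
          rw [h1, neg_neg, hinv]
        rw [h2]
        exact Submodule.smul_mem _ _ (Submodule.neg_mem _ (r.2 0))
      | succ k ih =>
        have h1 := coeff_X_sub_C_mul_succ (algebraMap K A c) q k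
        rw [hmul] at h1
        have h2 : q.coeff (k + 1) = c⁻¹ • (q.coeff k - (r : A[X]).coeff (k + 1)) := by
          rw [h1, sub_sub_cancel, hinv]
        rw [h2]
        exact Submodule.smul_mem _ _
          (Submodule.sub_mem _ (Φ.mono (Nat.le_succ k) ih) (r.2 (k + 1)))
    rw [Ideal.mem_span_singleton']
    refine ⟨⟨q, hqmem⟩, ?_⟩
    apply Subtype.ext
    rw [MulMemClass.coe_mul, hcoe, mul_comm]
    exact hmul
  · rw [Ideal.span_le]
    intro r hr
    rw [Set.mem_singleton_iff] at hr
    rw [SetLike.mem_coe, RingHom.mem_ker, evc_apply, hr, hcoe, eval_sub, eval_X, eval_C, sub_self]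

/-- The fibre of the Rees algebra over a non-zero scalar is the algebra itself. -/
noncomputable def fibreEquiv (Φ : Filt K A) (c : K) (hc : c ≠ 0)
    (hex : ∀ a : A, ∃ k, a ∈ Φ.F k) :
    ((rees Φ) ⧸ Ideal.span {algebraMap K[X] (rees Φ) (X - C c)}) ≃ₐ[K] A :=
  (Ideal.quotientEquivAlgOfEq K (ker_evc Φ c hc).symm).trans
    (Ideal.quotientKerAlgEquivOfSurjective (evc_surjective Φ c hc hex))

/-! ### Freeness -/

section free

variable {ι : Type*} (Φ : Filt K A) (e : ι → A) (Ω : ι → ℕ)
  (hF : ∀ k, Φ.F k = Submodule.span K (e '' {i | Ω i ≤ k}))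

include hF in
lemma e_mem (i : ι) : e i ∈ Φ.F (Ω i) := by
  rw [hF]
  exact Submodule.subset_span ⟨i, Set.mem_setOf.mpr le_rfl, rfl⟩

/-- The candidate basis. -/
noncomputable def bb (i : ι) : rees Φ := el Φ (Ω i) (e i) (e_mem Φ e Ω hF i)

include hF in
lemma monomial_mem_span (k : ℕ) (a : A) (ha : a ∈ Φ.F k) :
    (monomial k a : A[X]) ∈
      Submodule.span K[X] (Set.range fun i => (monomial (Ω i) (e i) : A[X])) := by
  rw [hF] at ha
  induction ha using Submodule.span_induction with
  | mem x h =>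
    obtain ⟨i, hi, rfl⟩ := h
    have hle : Ω i ≤ k := hi
    have h0 : Ω i + (k - Ω i) = k := by omega
    have h1 : (monomial k (e i) : A[X]) = (X ^ (k - Ω i) : K[X]) • monomial (Ω i) (e i) := by
      rw [Algebra.smul_def, Polynomial.algebraMap_def, coe_mapRingHom, Polynomial.map_pow,
        Polynomial.map_X, X_pow_mul_monomial, h0]
    rw [h1]
    exact Submodule.smul_mem _ _ (Submodule.subset_span ⟨i, rfl⟩)
  | zero =>
    rw [map_zero]
    exact zero_mem _
  | add x y _ _ hx hy =>
    rw [map_add]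
    exact add_mem hx hy
  | smul c x _ hx =>
    have h1 : (monomial k (c • x) : A[X]) = (C c : K[X]) • monomial k x := by
      rw [Algebra.smul_def (C c : K[X]) (monomial k x : A[X]), Polynomial.algebraMap_def,
        coe_mapRingHom, Polynomial.map_C, C_mul_monomial, Algebra.smul_def c x]
    rw [h1]
    exact Submodule.smul_mem _ _ hx

include hF in
lemma span_bb : Submodule.span K[X] (Set.range (bb Φ e Ω hF)) = ⊤ := by
  rw [Submodule.eq_top_iff']
  intro r
  have hinj : Function.Injective ((rees Φ).val.toLinearMap) := Subtype.val_injective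
  rw [← Submodule.apply_mem_span_image_iff_mem_span hinj, ← Set.range_comp]
  have h1 : ((rees Φ).val.toLinearMap r : A[X]) = ∑ k ∈ (r : A[X]).support,
      monomial k ((r : A[X]).coeff k) := as_sum_support (r : A[X])
  rw [h1]
  refine Submodule.sum_mem _ fun k _ => ?_
  exact monomial_mem_span Φ e Ω hF k _ (r.2 k)

include hF in
lemma linearIndependent_bb (hli : LinearIndependent K e) :
    LinearIndependent K[X] (bb Φ e Ω hF) := by
  classical
  rw [linearIndependent_iff']
  intro S P hsum i₀ hi₀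
  have h1 : ∑ i ∈ S, (P i).map (algebraMap K A) * monomial (Ω i) (e i) = (0 : A[X]) := by
    have h2 := congrArg (fun r : rees Φ => (r : A[X])) hsum
    simp only [AddSubmonoidClass.coe_finset_sum, ZeroMemClass.coe_zero] at h2
    rw [← h2]
    refine Finset.sum_congr rfl fun i _ => ?_
    rfl
  have hcoef : ∀ m : ℕ, ∑ i ∈ S, (if Ω i ≤ m then (P i).coeff (m - Ω i) else 0) • e i = 0 := by
    intro m
    have h2 := congrArg (fun p : A[X] => p.coeff m) h1
    simp only [finset_sum_coeff, coeff_zero] at h2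
    rw [← h2]
    refine Finset.sum_congr rfl fun i _ => ?_
    rw [← C_mul_X_pow_eq_monomial, ← mul_assoc, coeff_mul_X_pow', coeff_mul_C, coeff_map]
    split_ifs with h
    · rw [Algebra.smul_def]
    · rw [zero_smul]
  ext j
  rw [coeff_zero]
  have h3 := linearIndependent_iff'.mp hli S _ (hcoef (Ω i₀ + j)) i₀ hi₀
  rw [if_pos (Nat.le_add_right _ _), Nat.add_sub_cancel_left] at h3
  exact h3

include hF in
theorem free_rees (hli : LinearIndependent K e) : Module.Free K[X] (rees Φ) :=
  Module.Free.of_basis (Module.Basis.mk (linearIndependent_bb Φ e Ω hF hli)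
    (by rw [span_bb Φ e Ω hF]))

end free

/-! ### The special fibre -/

section modX

variable {ι : Type*} (Φ : Filt K A) (e : ι → A) (Ω : ι → ℕ)
  (hF : ∀ k, Φ.F k = Submodule.span K (e '' {i | Ω i ≤ k}))

lemma el_mem_span_X (j k : ℕ) (hjk : j < k) (a : A) (ha : a ∈ Φ.F j) :
    el Φ k a (Φ.mono hjk.le ha) ∈ Ideal.span {algebraMap K[X] (rees Φ) X} := by
  rw [mem_span_X, coe_el]
  constructor
  · rw [coeff_monomial, if_neg (by omega)]
  · intro m
    rw [coeff_monomial]
    split_ifs with h
    · exact Φ.mono (by omega) ha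
    · exact zero_mem _

lemma decomp (r : rees Φ) :
    r = ∑ k ∈ (r : A[X]).support, el Φ k ((r : A[X]).coeff k) (r.2 k) := by
  apply Subtype.ext
  rw [AddSubmonoidClass.coe_finset_sum]
  exact as_sum_support (r : A[X])

include hF in
theorem top_of_mem (M : Submodule K (rees Φ))
    (h1 : ∀ r ∈ Ideal.span {algebraMap K[X] (rees Φ) X}, r ∈ M)
    (h2 : ∀ i, bb Φ e Ω hF i ∈ M) : M = ⊤ := by
  rw [Submodule.eq_top_iff']
  intro r
  rw [decomp Φ r]
  refine Submodule.sum_mem _ fun k _ => ?_
  have h0 : ∀ (h : (0 : A) ∈ Φ.F k), el Φ k 0 h = 0 := fun h => Subtype.ext (map_zero _)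
  have hadd : ∀ (x y : A) (hx : x ∈ Φ.F k) (hy : y ∈ Φ.F k) (hxy : x + y ∈ Φ.F k),
      el Φ k (x + y) hxy = el Φ k x hx + el Φ k y hy :=
    fun x y hx hy hxy => Subtype.ext (map_add _ _ _)
  have hsmul : ∀ (c : K) (x : A) (hx : x ∈ Φ.F k) (hcx : c • x ∈ Φ.F k),
      el Φ k (c • x) hcx = c • el Φ k x hx :=
    fun c x hx hcx => Subtype.ext (by
      show (monomial k (c • x) : A[X]) = c • monomial k x
      rw [smul_monomial])
  have key : ∀ (a : A) (ha : a ∈ Submodule.span K (e '' {i | Ω i ≤ k})),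
      el Φ k a (by rw [hF]; exact ha) ∈ M := by
    intro a ha
    induction ha using Submodule.span_induction with
    | mem x h =>
      obtain ⟨i, hi, rfl⟩ := h
      rcases Nat.lt_or_ge (Ω i) k with hlt | hge
      · exact h1 _ (el_mem_span_X Φ (Ω i) k hlt (e i) (e_mem Φ e Ω hF i))
      · have hik : Ω i = k := le_antisymm hi hge
        subst hik
        exact h2 i
    | zero =>
      rw [h0]
      exact zero_mem _
    | add x y hx hy hx' hy' =>
      rw [hadd x y (by rw [hF]; exact hx) (by rw [hF]; exact hy)]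
      exact add_mem hx' hy'
    | smul c x hx hx' =>
      rw [hsmul c x (by rw [hF]; exact hx)]
      exact Submodule.smul_mem _ _ hx'
  exact key _ (by rw [← hF]; exact r.2 k)

include hF in
theorem indep_mod_X (hli : LinearIndependent K e) (S : Finset ι) (c : ι → K)
    (h : ∑ i ∈ S, c i • bb Φ e Ω hF i ∈ Ideal.span {algebraMap K[X] (rees Φ) X}) :
    ∀ i ∈ S, c i = 0 := by
  classical
  rw [mem_span_X] at h
  obtain ⟨h0, h1⟩ := h
  have hcoe : ((∑ i ∈ S, c i • bb Φ e Ω hF i : rees Φ) : A[X]) =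
      ∑ i ∈ S, monomial (Ω i) (c i • e i) := by
    rw [AddSubmonoidClass.coe_finset_sum]
    refine Finset.sum_congr rfl fun i _ => ?_
    show c i • (monomial (Ω i) (e i) : A[X]) = _
    rw [smul_monomial]
  have hcoeff : ∀ m, ((∑ i ∈ S, c i • bb Φ e Ω hF i : rees Φ) : A[X]).coeff m =
      ∑ i ∈ S, (if Ω i = m then c i else 0) • e i := by
    intro m
    rw [hcoe, finset_sum_coeff]
    refine Finset.sum_congr rfl fun i _ => ?_
    rw [coeff_monomial]
    split_ifs
    · rfl
    · rw [zero_smul]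
  intro i₀ hi₀
  rcases Nat.eq_zero_or_pos (Ω i₀) with hz | hp
  · rw [hcoeff 0] at h0
    have h2 := linearIndependent_iff'.mp hli S _ h0 i₀ hi₀
    rw [if_pos hz] at h2
    exact h2
  · obtain ⟨k, hk⟩ : ∃ k, Ω i₀ = k + 1 := ⟨Ω i₀ - 1, by omega⟩
    have h2 := h1 k
    rw [hcoeff (k + 1), hF] at h2
    have h3 : ∑ i ∈ S, (if Ω i = k + 1 then c i else 0) • e i ∈
        Submodule.span K (e '' {i | Ω i = k + 1}) := by
      refine Submodule.sum_mem _ fun i _ => ?_
      split_ifs with hh
      · exact Submodule.smul_mem _ _ (Submodule.subset_span ⟨i, hh, rfl⟩)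
      · rw [zero_smul]; exact zero_mem _
    have hdisj : Disjoint {i | Ω i = k + 1} {i | Ω i ≤ k} := by
      rw [Set.disjoint_left]
      intro i h4 h5
      simp only [Set.mem_setOf_eq] at h4 h5
      omega
    have h4 := hli.disjoint_span_image hdisj
    have h5 := Submodule.disjoint_def.mp h4 _ h3 h2
    have h6 := linearIndependent_iff'.mp hli S _ h5 i₀ hi₀
    rw [if_pos hk] at h6
    exact h6

end modX

end Groth.Agent.Helper8.Rees
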