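import Mathlib
import Groth.Agent.Helper8.CoefSub
import Groth.Agent.Helper8.CoefDer
set_option autoImplicit false


open IsLocalRing

namespace Groth.Agent.Helper8.RegOmega

universe u

variable (p : ℕ) [hp : Fact p.Prime] {A : Type u} [CommRing A] [IsLocalRing A]

local notation "𝔪" => maximalIdeal A
local notation "Bq" => A ⧸ (maximalIdeal A) ^ 2

instance : Nontrivial (A ⧸ (maximalIdeal A) ^ 2) := by
  rw [Ideal.Quotient.nontrivial_iff]
  intro h
  have : (maximalIdeal A) ^ 2 ≤ maximalIdeal A := Ideal.pow_le_self two_ne_zero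
  rw [h] at this
  exact (maximalIdeal.isMaximal A).ne_top (top_le_iff.mp this)

instance : IsLocalRing (A ⧸ (maximalIdeal A) ^ 2) :=
  IsLocalRing.of_surjective' (Ideal.Quotient.mk _) Ideal.Quotient.mk_surjective

omit hp in
theorem mem_max_iff (a : A) :
    Ideal.Quotient.mk ((maximalIdeal A) ^ 2) a ∈ maximalIdeal (A ⧸ (maximalIdeal A) ^ 2) ↔
      a ∈ maximalIdeal A := by
  constructor
  · intro h
    by_contra ha
    have hu : IsUnit a := by
      by_contra hu'
      exact ha ((mem_maximalIdeal a).mpr hu')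
    exact (mem_maximalIdeal _).mp h (hu.map _)
  · intro ha
    rw [mem_maximalIdeal, mem_nonunits_iff]
    intro hu
    obtain ⟨y, hy⟩ := hu.exists_right_inv
    obtain ⟨b, rfl⟩ := Ideal.Quotient.mk_surjective y
    rw [← map_mul, ← map_one (Ideal.Quotient.mk ((maximalIdeal A) ^ 2)),
      Ideal.Quotient.mk_eq_mk_iff_sub_mem] at hy
    have h1 : a * b - 1 ∈ maximalIdeal A := Ideal.pow_le_self two_ne_zero hy
    have h2 : a * b ∈ maximalIdeal A := Ideal.mul_mem_right _ _ ha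
    have h3 : (1 : A) ∈ maximalIdeal A := by
      have := Ideal.sub_mem _ h2 h1
      simpa using this
    exact (maximalIdeal.isMaximal A).ne_top ((Ideal.eq_top_iff_one _).mpr h3)

omit hp in
theorem exists_rep (x : A ⧸ (maximalIdeal A) ^ 2) (hx : x ∈ maximalIdeal (A ⧸ (maximalIdeal A) ^ 2)) :
    ∃ a ∈ maximalIdeal A, Ideal.Quotient.mk _ a = x := by
  obtain ⟨a, rfl⟩ := Ideal.Quotient.mk_surjective x
  exact ⟨a, (mem_max_iff a).mp hx, rfl⟩

omit hp in
theorem mul_eq_zero_of_mem (x y : A ⧸ (maximalIdeal A) ^ 2)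
    (hx : x ∈ maximalIdeal (A ⧸ (maximalIdeal A) ^ 2)) (hy : y ∈ maximalIdeal (A ⧸ (maximalIdeal A) ^ 2)) :
    x * y = 0 := by
  obtain ⟨a, ha, rfl⟩ := exists_rep x hx
  obtain ⟨b, hb, rfl⟩ := exists_rep y hy
  rw [← map_mul, Ideal.Quotient.eq_zero_iff_mem, pow_two]
  exact Ideal.mul_mem_mul ha hb

instance charPQuot [CharP A p] : CharP (A ⧸ (maximalIdeal A) ^ 2) p := by
  rw [CharP.charP_iff_prime_eq_zero hp.out]
  rw [← map_natCast (Ideal.Quotient.mk ((maximalIdeal A) ^ 2)) p, CharP.cast_eq_zero, map_zero]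

include hp in
theorem exists_K [CharP A p] : ∃ K : Subring (A ⧸ (maximalIdeal A) ^ 2),
    (∀ c ∈ K, c ∈ maximalIdeal (A ⧸ (maximalIdeal A) ^ 2) → c = 0) ∧
    ∀ b : (A ⧸ (maximalIdeal A) ^ 2), ∃ c ∈ K, b - c ∈ maximalIdeal (A ⧸ (maximalIdeal A) ^ 2) := by
  have hn : ∀ x : A ⧸ (maximalIdeal A) ^ 2, ¬ IsUnit x → x ^ p = 0 := by
    intro x hx
    have hx' : x ∈ maximalIdeal (A ⧸ (maximalIdeal A) ^ 2) := (mem_maximalIdeal x).mpr hx
    have h2 : 2 ≤ p := hp.out.two_le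
    obtain ⟨k, hk⟩ : ∃ k, p = k + 2 := ⟨p - 2, by omega⟩
    rw [hk, pow_add, sq x, mul_eq_zero_of_mem x x hx' hx', mul_zero]
  obtain ⟨K, hK1, hK2⟩ := CoefSub.exists_coef p hn
  refine ⟨K, fun c hc hcm => hK1 c hc ((mem_maximalIdeal c).mp hcm), fun b => ?_⟩
  obtain ⟨c, hc, hbc⟩ := hK2 b
  exact ⟨c, hc, (mem_maximalIdeal _).mpr hbc⟩

section der

variable (K : Subring (A ⧸ (maximalIdeal A) ^ 2))
  (h1 : ∀ c ∈ K, c ∈ maximalIdeal (A ⧸ (maximalIdeal A) ^ 2) → c = 0)
  (h2 : ∀ b : (A ⧸ (maximalIdeal A) ^ 2), ∃ c ∈ K, b - c ∈ maximalIdeal (A ⧸ (maximalIdeal A) ^ 2))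

include h1 h2

omit hp in
theorem eps_mem_cot (a : A) :
    CoefDer.eps K h2 (Ideal.Quotient.mk _ a) ∈ (maximalIdeal A).cotangentIdeal := by
  have := CoefDer.eps_mem K h1 h2 mul_eq_zero_of_mem (Ideal.Quotient.mk _ a)
  obtain ⟨a', ha', h⟩ := exists_rep _ this
  rw [← h]
  exact Ideal.mk_mem_cotangentIdeal.mpr ha'

/-- the derivation, as a function -/
noncomputable def Dfun (a : A) : (maximalIdeal A).Cotangent :=
  (maximalIdeal A).cotangentEquivIdeal.symm ⟨CoefDer.eps K h2 (Ideal.Quotient.mk _ a), eps_mem_cot K h1 h2 a⟩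

omit hp in
theorem cTQS_Dfun (a : A) :
    (maximalIdeal A).cotangentToQuotientSquare (Dfun K h1 h2 a) =
      CoefDer.eps K h2 (Ideal.Quotient.mk _ a) := by
  rw [← Ideal.cotangentEquivIdeal_apply]
  unfold Dfun
  rw [LinearEquiv.apply_symm_apply]

omit hp in
theorem Dfun_add (a b : A) : Dfun K h1 h2 (a + b) = Dfun K h1 h2 a + Dfun K h1 h2 b := by
  apply (maximalIdeal A).cotangentToQuotientSquare_injective
  rw [map_add, cTQS_Dfun, cTQS_Dfun, cTQS_Dfun, map_add,
    CoefDer.eps_add K h1 h2 mul_eq_zero_of_mem]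

omit hp in
theorem Dfun_mul (a b : A) :
    Dfun K h1 h2 (a * b) = a • Dfun K h1 h2 b + b • Dfun K h1 h2 a := by
  apply (maximalIdeal A).cotangentToQuotientSquare_injective
  rw [map_add, map_smul, map_smul, cTQS_Dfun, cTQS_Dfun, cTQS_Dfun, map_mul,
    CoefDer.eps_mul K h1 h2 mul_eq_zero_of_mem, Algebra.smul_def, Algebra.smul_def]
  rfl

omit hp in
theorem Dfun_of_mem (a : A) (ha : a ∈ maximalIdeal A) :
    Dfun K h1 h2 a = (maximalIdeal A).toCotangent ⟨a, ha⟩ := by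
  apply (maximalIdeal A).cotangentToQuotientSquare_injective
  rw [cTQS_Dfun, Ideal.toCotangent_to_quotient_square,
    CoefDer.eps_of_mem K h1 h2 mul_eq_zero_of_mem _ ((mem_max_iff a).mpr ha)]
  rfl

/-- the derivation -/
noncomputable def Der : Derivation ℤ A (maximalIdeal A).Cotangent :=
  Derivation.mk' (AddMonoidHom.toIntLinearMap
    { toFun := Dfun K h1 h2
      map_zero' := by
        have := Dfun_add K h1 h2 0 0
        rw [add_zero] at this
        exact left_eq_add.mp this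
      map_add' := Dfun_add K h1 h2 })
    (fun a b => Dfun_mul K h1 h2 a b)

omit hp in
theorem Der_apply (a : A) : Der K h1 h2 a = Dfun K h1 h2 a := rfl

end der

end Groth.Agent.Helper8.RegOmega
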