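import Mathlib
import Groth.Agent.Helper8.RegOmega
set_option autoImplicit false


open IsLocalRing TensorProduct

namespace Groth.Agent.Helper8.RegOmega

universe u

theorem linearIndependent_cot {A : Type u} [CommRing A] [IsRegularLocalRing A]
    {N : ℕ} (x : Fin N → A) (hx : Ideal.span (Set.range x) = maximalIdeal A)
    (hN : ringKrullDim A = (N : WithBot ℕ∞)) (hxm : ∀ i, x i ∈ maximalIdeal A) :
    LinearIndependent (ResidueField A)
      (fun i => (maximalIdeal A).toCotangent ⟨x i, hxm i⟩ : Fin N → CotangentSpace A) := by
  apply linearIndependent_of_top_le_span_of_card_eq_finrank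
  · rw [top_le_iff]
    have h1 : Set.range (fun i => (maximalIdeal A).toCotangent ⟨x i, hxm i⟩) =
        (maximalIdeal A).toCotangent '' (Set.range fun i => (⟨x i, hxm i⟩ : maximalIdeal A)) := by
      rw [← Set.range_comp]; rfl
    rw [h1, CotangentSpace.span_image_eq_top_iff]
    apply Submodule.map_injective_of_injective (f := (maximalIdeal A).subtype) Subtype.val_injective
    rw [Submodule.map_span, Submodule.map_top, Submodule.range_subtype, ← Set.range_comp]
    exact hx
  · have h2 := (IsRegularLocalRing.iff_finrank_cotangentSpace A).mp inferInstance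
    rw [hN] at h2
    have h3 : Module.finrank (ResidueField A) (CotangentSpace A) = N := by
      exact_mod_cast h2
    rw [h3, Fintype.card_fin]

theorem main (p : ℕ) [Fact p.Prime] {A : Type u} [CommRing A] [IsRegularLocalRing A] [CharP A p]
    [Module.Free A (KaehlerDifferential ℤ A)] [Module.Finite A (KaehlerDifferential ℤ A)]
    {N : ℕ} (x : Fin N → A) (hx : Ideal.span (Set.range x) = maximalIdeal A)
    (hN : ringKrullDim A = (N : WithBot ℕ∞)) :
    ∃ (ι : Type u) (b : Module.Basis ι A (KaehlerDifferential ℤ A)) (e : Fin N ↪ ι),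
      ∀ i : Fin N, b (e i) = KaehlerDifferential.D ℤ A (x i) := by
  have hxm : ∀ i, x i ∈ maximalIdeal A := fun i => hx ▸ Ideal.subset_span ⟨i, rfl⟩
  have hli := linearIndependent_cot x hx hN hxm
  obtain ⟨K, h1, h2⟩ := exists_K (A := A) p
  let L : KaehlerDifferential ℤ A →ₗ[A] CotangentSpace A := (Der K h1 h2).liftKaehlerDifferential
  have hL : ∀ i, L (KaehlerDifferential.D ℤ A (x i)) = (maximalIdeal A).toCotangent ⟨x i, hxm i⟩ := by
    intro i
    rw [Derivation.liftKaehlerDifferential_comp_D, Der_apply, Dfun_of_mem K h1 h2 _ (hxm i)]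
  let Lbar : ResidueField A ⊗[A] KaehlerDifferential ℤ A →ₗ[ResidueField A] CotangentSpace A :=
    L.liftBaseChange (ResidueField A)
  let vbar : Fin N → ResidueField A ⊗[A] KaehlerDifferential ℤ A :=
    fun i => (1 : ResidueField A) ⊗ₜ[A] KaehlerDifferential.D ℤ A (x i)
  have hvbar : LinearIndependent (ResidueField A) vbar := by
    apply LinearIndependent.of_comp Lbar
    convert hli using 1
    funext i
    simp only [Function.comp_apply, vbar, Lbar, LinearMap.liftBaseChange_tmul, one_smul, hL]
  -- extend to a basis of the fibre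
  have hS : LinearIndepOn (ResidueField A) id (Set.range vbar) := hvbar.linearIndepOn_id
  let bk := Module.Basis.extend hS
  let ι := ↥(hS.extend (Set.subset_univ (Set.range vbar)))
  have hsurj : Function.Surjective (TensorProduct.mk A (ResidueField A) (KaehlerDifferential ℤ A) 1) :=
    TensorProduct.mk_surjective A (KaehlerDifferential ℤ A) (ResidueField A)
      Ideal.Quotient.mk_surjective
  classical
  let w : ι → KaehlerDifferential ℤ A := fun j =>
    if h : ∃ i, vbar i = j.1 then KaehlerDifferential.D ℤ A (x h.choose) else (hsurj j.1).choose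
  have hw : ∀ j : ι, TensorProduct.mk A (ResidueField A) (KaehlerDifferential ℤ A) 1 (w j) = j.1 := by
    intro j
    by_cases h : ∃ i, vbar i = j.1
    · simp only [w, dif_pos h]
      exact h.choose_spec
    · simp only [w, dif_neg h]
      exact (hsurj j.1).choose_spec
  have hcomp : (TensorProduct.mk A (ResidueField A) (KaehlerDifferential ℤ A) 1 ∘ w) = ⇑bk := by
    funext j
    rw [Function.comp_apply, hw j, Module.Basis.coe_extend]
  have : Module.FinitePresentation A (KaehlerDifferential ℤ A) :=
    Module.finitePresentation_of_finite A _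
  obtain ⟨b, hb⟩ := Module.exists_basis_of_basis_baseChange w
    (by rw [hcomp]; exact bk.linearIndependent) (by rw [hcomp]; exact bk.span_eq)
    (Module.Flat.rTensor_preserves_injective_linearMap (maximalIdeal A).subtype Subtype.val_injective)
  have hinj : Function.Injective vbar := hvbar.injective
  refine ⟨ι, b, ⟨fun i => ⟨vbar i, hS.subset_extend _ ⟨i, rfl⟩⟩, ?_⟩, ?_⟩
  · intro i j hij
    exact hinj (congrArg Subtype.val hij)
  · intro i
    rw [hb]
    have h : ∃ i', vbar i' = vbar i := ⟨i, rfl⟩
    show w ⟨vbar i, _⟩ = _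
    simp only [w, dif_pos h]
    rw [hinj h.choose_spec]

end Groth.Agent.Helper8.RegOmega
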