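import Mathlib
import Groth.Prelude
import Groth.Agent.Helper8.RegSeqB
import Groth.Agent.Helper8.RegSeqD

set_option autoImplicit false
open CategoryTheory AlgebraicGeometry TopologicalSpace RingTheory.Sequence
universe u

namespace Groth.Agent.Helper8.RegSeqI
open Groth.Agent.Helper8.RegSeqA Groth.Agent.Helper8.RegSeqB

section Alg

theorem eq_zero_of_mul {P : Type*} [CommRing P] (G : P) (q : Polynomial P)
    (h : (Polynomial.C G * Polynomial.X - 1) * q = 0) : q = 0 := by
  have h1 : Polynomial.C G * (Polynomial.X * q) = q := by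
    have e : (Polynomial.C G * Polynomial.X - 1) * q =
        Polynomial.C G * (Polynomial.X * q) - q := by ring
    rw [e, sub_eq_zero] at h
    exact h
  have h2 : ∀ k, q.coeff k = 0 := by
    intro k
    induction k with
    | zero =>
      have e := congrArg (fun p => Polynomial.coeff p 0) h1
      simp only [Polynomial.coeff_C_mul, Polynomial.coeff_X_mul_zero, mul_zero] at e
      exact e.symm
    | succ k ih =>
      have e := congrArg (fun p => Polynomial.coeff p (k + 1)) h1
      simp only [Polynomial.coeff_C_mul, Polynomial.coeff_X_mul] at e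
      rw [← e, ih, mul_zero]
  exact Polynomial.ext (fun k => by rw [h2 k, Polynomial.coeff_zero])

/-- localization commutes with quotients (away version). -/
theorem isLocalization_quotient {P PG : Type*} [CommRing P] [CommRing PG] [Algebra P PG] (G : P)
    [IsLocalization.Away G PG] (I : Ideal P) :
    IsLocalization.Away (Ideal.Quotient.mk I G) (PG ⧸ I.map (algebraMap P PG)) := by
  have hG : IsUnit (algebraMap P PG G) := IsLocalization.Away.algebraMap_isUnit G
  have halg : ∀ x : P, algebraMap (P ⧸ I) (PG ⧸ I.map (algebraMap P PG)) (Ideal.Quotient.mk I x) =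
      Ideal.Quotient.mk _ (algebraMap P PG x) := fun x => rfl
  refine (isLocalization_iff _ _).mpr ⟨?_, ?_, ?_⟩
  · rintro ⟨y, hy⟩
    obtain ⟨k, rfl⟩ := (Submonoid.mem_powers_iff _ _).mp hy
    show IsUnit (algebraMap _ _ ((Ideal.Quotient.mk I G) ^ k))
    rw [map_pow, halg]
    exact (hG.map _).pow k
  · intro z
    obtain ⟨z₀, rfl⟩ := Ideal.Quotient.mk_surjective z
    obtain ⟨⟨a, ⟨m, hm⟩⟩, ham⟩ := IsLocalization.surj (Submonoid.powers G) z₀
    obtain ⟨k, rfl⟩ := (Submonoid.mem_powers_iff _ _).mp hm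
    refine ⟨(Ideal.Quotient.mk I a,
      ⟨(Ideal.Quotient.mk I G) ^ k, pow_mem (Submonoid.mem_powers _) k⟩), ?_⟩
    show Ideal.Quotient.mk _ z₀ * algebraMap _ _ ((Ideal.Quotient.mk I G) ^ k) =
      algebraMap _ _ (Ideal.Quotient.mk I a)
    rw [← map_pow, halg, halg, ← map_mul]
    exact congrArg _ ham
  · intro x y hxy
    obtain ⟨a, rfl⟩ := Ideal.Quotient.mk_surjective x
    obtain ⟨b, rfl⟩ := Ideal.Quotient.mk_surjective y
    rw [halg, halg, Ideal.Quotient.eq, ← map_sub,
      IsLocalization.algebraMap_mem_map_algebraMap_iff (Submonoid.powers G)] at hxy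
    obtain ⟨m, hm, hmem⟩ := hxy
    obtain ⟨k, rfl⟩ := (Submonoid.mem_powers_iff _ _).mp hm
    refine ⟨⟨(Ideal.Quotient.mk I G) ^ k, pow_mem (Submonoid.mem_powers _) k⟩, ?_⟩
    show (Ideal.Quotient.mk I G) ^ k * Ideal.Quotient.mk I a =
      (Ideal.Quotient.mk I G) ^ k * Ideal.Quotient.mk I b
    rw [← map_pow, ← map_mul, ← map_mul, Ideal.Quotient.eq, ← mul_sub]
    exact hmem

variable (A : Type u) [CommRing A] (n : ℕ) (G : MvPolynomial (Fin n) A)

/-- the presentation map `A[X_0..X_n] → A[X_1..X_n][1/G]`. -/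
noncomputable def psi : MvPolynomial (Fin (n + 1)) A →ₐ[A] Localization.Away G :=
  ((Localization.awayEquivAdjoin G).restrictScalars A).symm.toAlgHom.comp
    (((AdjoinRoot.mkₐ (Polynomial.C G * Polynomial.X - 1)).restrictScalars A).comp
      (MvPolynomial.finSuccEquiv A n).toAlgHom)

/-- the polynomial `G * X_0 - 1`. -/
noncomputable def w : MvPolynomial (Fin (n + 1)) A :=
  (MvPolynomial.finSuccEquiv A n).symm (Polynomial.C G * Polynomial.X - 1)

theorem psi_apply (x : MvPolynomial (Fin (n + 1)) A) :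
    psi A n G x = (Localization.awayEquivAdjoin G).symm
      (AdjoinRoot.mk _ (MvPolynomial.finSuccEquiv A n x)) := rfl

theorem psi_surjective : Function.Surjective (psi A n G) := by
  intro y
  obtain ⟨p, hp⟩ := AdjoinRoot.mk_surjective (Localization.awayEquivAdjoin G y)
  refine ⟨(MvPolynomial.finSuccEquiv A n).symm p, ?_⟩
  rw [psi_apply, AlgEquiv.apply_symm_apply, hp, AlgEquiv.symm_apply_apply]

theorem psi_eq_zero_iff (x : MvPolynomial (Fin (n + 1)) A) :
    psi A n G x = 0 ↔ w A n G ∣ x := by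
  rw [psi_apply, map_eq_zero_iff _ (Localization.awayEquivAdjoin G).symm.injective,
    AdjoinRoot.mk_eq_zero]
  constructor
  · rintro ⟨c, hc⟩
    refine ⟨(MvPolynomial.finSuccEquiv A n).symm c, ?_⟩
    unfold w
    rw [← map_mul, ← hc, AlgEquiv.symm_apply_apply]
  · rintro ⟨c, rfl⟩
    refine ⟨MvPolynomial.finSuccEquiv A n c, ?_⟩
    unfold w
    rw [map_mul, AlgEquiv.apply_symm_apply]

theorem ker_psi : RingHom.ker (psi A n G).toRingHom = Ideal.ofList [w A n G] := by
  ext x
  rw [RingHom.mem_ker, Ideal.ofList_singleton, Ideal.mem_span_singleton]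
  exact psi_eq_zero_iff A n G x

theorem w_nzd (y : MvPolynomial (Fin (n + 1)) A) (h : w A n G * y = 0) : y = 0 := by
  have h1 : (Polynomial.C G * Polynomial.X - 1) * MvPolynomial.finSuccEquiv A n y = 0 := by
    have h0 := congrArg (MvPolynomial.finSuccEquiv A n) h
    rw [map_mul, map_zero] at h0
    unfold w at h0
    rw [AlgEquiv.apply_symm_apply] at h0
    exact h0
  have h2 := eq_zero_of_mul G _ h1
  exact (map_eq_zero_iff _ (MvPolynomial.finSuccEquiv A n).injective).mp h2

theorem alg_final (I : Ideal (MvPolynomial (Fin n) A)) (as : List (Localization.Away G))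
    (hcol : Colon as)
    (hI : I.map (algebraMap (MvPolynomial (Fin n) A) (Localization.Away G)) = Ideal.ofList as)
    (hne : (0 : MvPolynomial (Fin n) A ⧸ I) ∉ Submonoid.powers (Ideal.Quotient.mk I G)) :
    ∃ (d : ℕ) (P : Fin d → MvPolynomial (Fin (n + 1)) A),
      IsRegular (MvPolynomial (Fin (n + 1)) A) (List.ofFn P) ∧
      Nonempty (Localization.Away (Ideal.Quotient.mk I G) ≃ₐ[A]
        (MvPolynomial (Fin (n + 1)) A ⧸ Ideal.ofList (List.ofFn P))) := by
  obtain ⟨Ps, hPs⟩ := exists_map_eq (psi A n G).toRingHom (psi_surjective A n G) as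
  have hss : Colon [w A n G] := by
    rw [RegSeqD.colon_cons_iff]
    exact ⟨w_nzd A n G, by rw [List.map_nil]; exact colon_nil⟩
  have hcolon : Colon ([w A n G] ++ Ps) :=
    colon_append_of_surjective (psi A n G).toRingHom (psi_surjective A n G) (ker_psi A n G) hss
      (by rw [hPs]; exact hcol)
  have hker2 : RingHom.ker (Ideal.Quotient.mk
      (I.map (algebraMap (MvPolynomial (Fin n) A) (Localization.Away G)))) =
      Ideal.ofList (Ps.map (psi A n G).toRingHom) := by
    rw [Ideal.mk_ker, hPs, hI]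
  have hkercomp := ker_comp_eq_ofList_append (psi A n G).toRingHom (psi_surjective A n G)
    (Ideal.Quotient.mk (I.map (algebraMap (MvPolynomial (Fin n) A) (Localization.Away G))))
    (ker_psi A n G) hker2
  obtain ⟨χ, hχ⟩ : ∃ χ : MvPolynomial (Fin (n + 1)) A →ₐ[A]
      (Localization.Away G ⧸ I.map (algebraMap (MvPolynomial (Fin n) A) (Localization.Away G))),
      χ = (Ideal.Quotient.mkₐ A _).comp (psi A n G) := ⟨_, rfl⟩
  have hχsurj : Function.Surjective χ := by
    rw [hχ]
    exact (Ideal.Quotient.mkₐ_surjective A _).comp (psi_surjective A n G)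
  have hkerχ : RingHom.ker χ = Ideal.ofList ([w A n G] ++ Ps) := by
    rw [← hkercomp, hχ]
    ext x
    rw [RingHom.mem_ker, RingHom.mem_ker]
    rfl
  haveI loc := isLocalization_quotient (PG := Localization.Away G) G I
  haveI tower : IsScalarTower A (MvPolynomial (Fin n) A ⧸ I) (Localization.Away G ⧸
      I.map (algebraMap (MvPolynomial (Fin n) A) (Localization.Away G))) :=
    IsScalarTower.of_algebraMap_eq (R := A) (S := MvPolynomial (Fin n) A ⧸ I)
      (A := Localization.Away G ⧸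
        I.map (algebraMap (MvPolynomial (Fin n) A) (Localization.Away G))) (fun a => by
      show Ideal.Quotient.mk _ (algebraMap A (Localization.Away G) a) =
        Ideal.Quotient.mk _ (algebraMap _ (Localization.Away G)
          (algebraMap A (MvPolynomial (Fin n) A) a))
      rw [← IsScalarTower.algebraMap_apply])
  have hntop : Ideal.ofList ([w A n G] ++ Ps) ≠ ⊤ := by
    intro htop
    have h1 : (1 : MvPolynomial (Fin (n + 1)) A) ∈ RingHom.ker χ := by
      rw [hkerχ, htop]; trivial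
    rw [RingHom.mem_ker, map_one] at h1
    have h2 : algebraMap (MvPolynomial (Fin n) A ⧸ I) (Localization.Away G ⧸
        I.map (algebraMap (MvPolynomial (Fin n) A) (Localization.Away G))) 1 = 0 := by
      rw [map_one]; exact h1
    obtain ⟨m, hm⟩ := (IsLocalization.map_eq_zero_iff
      (Submonoid.powers (Ideal.Quotient.mk I G)) _ _).mp h2
    rw [mul_one] at hm
    apply hne
    rw [← hm]
    exact m.2
  refine ⟨([w A n G] ++ Ps).length, ([w A n G] ++ Ps).get, ?_, ?_⟩
  · rw [List.ofFn_get, isRegular_iff_colon]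
    exact ⟨hcolon, hntop⟩
  · rw [List.ofFn_get]
    exact ⟨((IsLocalization.algEquiv (Submonoid.powers (Ideal.Quotient.mk I G))
      (Localization.Away (Ideal.Quotient.mk I G)) (Localization.Away G ⧸
        I.map (algebraMap (MvPolynomial (Fin n) A) (Localization.Away G)))).restrictScalars A).trans
      ((Ideal.quotientKerAlgEquivOfSurjective hχsurj).symm.trans
        (Ideal.quotientEquivAlgOfEq A hkerχ))⟩

end Alg

section Geo

theorem affine_reg {P B : Type u} [CommRing P] [CommRing B] (φ : P →+* B)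
    (hφ : Function.Surjective φ)
    (h : RegImm.IsRegularImmersion RegImm.Kind.regular (Spec.map (CommRingCat.ofHom φ)))
    (q : PrimeSpectrum B) :
    ∃ G : P, φ G ∉ q.asIdeal ∧ ∃ as : List (Localization.Away G), Colon as ∧
      (RingHom.ker φ).map (algebraMap P (Localization.Away G)) = Ideal.ofList as := by
  have hci : IsClosedImmersion (Spec.map (CommRingCat.ofHom φ)) :=
    IsClosedImmersion.spec_of_surjective _ hφ
  have hnat : ∀ a : Γ(Spec (CommRingCat.of P), ⊤),
      (Scheme.ΓSpecIso (CommRingCat.of B)).hom.hom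
        ((Spec.map (CommRingCat.ofHom φ)).appTop.hom a) =
        φ ((Scheme.ΓSpecIso (CommRingCat.of P)).hom.hom a) := fun a =>
    congrArg (fun ψ => ψ.hom a) (Scheme.ΓSpecIso_naturality (CommRingCat.ofHom φ))
  obtain ⟨i, hi⟩ : ∃ i : Spec (CommRingCat.of B) ⟶ Spec (CommRingCat.of P),
      i = Spec.map (CommRingCat.ofHom φ) := ⟨_, rfl⟩
  rw [← hi] at h hci hnat
  haveI := hci
  obtain ⟨U, hzU, -, rs, hrs, hker⟩ := h.2 q
  have hrs' : IsRegular Γ(Spec (CommRingCat.of P), U.1) rs := hrs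
  have hregU : RegOn i U.1 := ⟨U.2, rs, ((isRegular_iff_colon rs).mp hrs').1, hker⟩
  have htop : IsAffineOpen (⊤ : (Spec (CommRingCat.of P)).Opens) := isAffineOpen_top _
  obtain ⟨G₀, hle, hmem⟩ := htop.exists_basicOpen_le (V := U.1) ⟨i q, hzU⟩
    (show i q ∈ (⊤ : (Spec (CommRingCat.of P)).Opens) from trivial)
  have hreg1 := RegOn.basicOpen i hregU
    (((Spec (CommRingCat.of P)).presheaf.map (homOfLE (le_top : U.1 ≤ ⊤)).op).hom G₀)
  have hbo : (Spec (CommRingCat.of P)).basicOpen
      (((Spec (CommRingCat.of P)).presheaf.map (homOfLE (le_top : U.1 ≤ ⊤)).op).hom G₀) =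
      (Spec (CommRingCat.of P)).basicOpen G₀ :=
    (Scheme.basicOpen_res _ G₀ (homOfLE (le_top : U.1 ≤ ⊤)).op).trans (inf_eq_right.mpr hle)
  obtain ⟨hW, rsW, hcW, hkerW⟩ := hreg1.of_eq hbo
  haveI loc0 : IsLocalization.Away G₀
      Γ(Spec (CommRingCat.of P), (Spec (CommRingCat.of P)).basicOpen G₀) :=
    htop.isLocalization_basicOpen G₀
  have hkerW' : RingHom.ker (i.app ((Spec (CommRingCat.of P)).basicOpen G₀)).hom =
      (RingHom.ker (i.app ⊤).hom).map (algebraMap Γ(Spec (CommRingCat.of P), ⊤)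
        Γ(Spec (CommRingCat.of P), (Spec (CommRingCat.of P)).basicOpen G₀)) := by
    rw [← i.ker_apply ⟨⊤, htop⟩, ← i.ker_apply ⟨_, htop.basicOpen G₀⟩]
    exact (i.ker.map_ideal_basicOpen ⟨⊤, htop⟩ G₀).symm
  obtain ⟨e, he⟩ : ∃ e : Γ(Spec (CommRingCat.of P), ⊤) ≃+* P,
      ∀ a, e a = (Scheme.ΓSpecIso (CommRingCat.of P)).hom.hom a :=
    ⟨(Scheme.ΓSpecIso (CommRingCat.of P)).commRingCatIsoToRingEquiv, fun a => rfl⟩
  obtain ⟨eB, heB⟩ : ∃ eB : Γ(Spec (CommRingCat.of B), ⊤) ≃+* B,
      ∀ a, eB a = (Scheme.ΓSpecIso (CommRingCat.of B)).hom.hom a :=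
    ⟨(Scheme.ΓSpecIso (CommRingCat.of B)).commRingCatIsoToRingEquiv, fun a => rfl⟩
  have hnat' : ∀ a, eB (i.appTop.hom a) = φ (e a) := fun a => by
    rw [heB, he]; exact hnat a
  have hI₀ : RingHom.ker (i.app ⊤).hom = (RingHom.ker φ).comap e.toRingHom := by
    ext a
    rw [RingHom.mem_ker, Ideal.mem_comap, RingHom.mem_ker]
    show i.appTop.hom a = 0 ↔ φ (e a) = 0
    rw [← hnat', map_eq_zero_iff _ eB.injective]
  obtain ⟨G, hG⟩ : ∃ G : P, G = e G₀ := ⟨_, rfl⟩
  have hH : (Submonoid.powers G₀).map e.toMonoidHom = Submonoid.powers G := by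
    rw [Submonoid.map_powers, hG]; rfl
  obtain ⟨ρ, hρ⟩ : ∃ ρ : Γ(Spec (CommRingCat.of P), (Spec (CommRingCat.of P)).basicOpen G₀) ≃+*
      Localization.Away G, ∀ a, ρ (algebraMap Γ(Spec (CommRingCat.of P), ⊤) _ a) =
        algebraMap P (Localization.Away G) (e a) :=
    ⟨IsLocalization.ringEquivOfRingEquiv _ _ e hH,
      fun a => IsLocalization.ringEquivOfRingEquiv_eq hH a⟩
  refine ⟨G, ?_, rsW.map ρ.toRingHom, hcW.map_bijective ρ.toRingHom ρ.bijective, ?_⟩
  · have h1 : q ∈ i ⁻¹ᵁ (Spec (CommRingCat.of P)).basicOpen G₀ := hmem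
    rw [Scheme.preimage_basicOpen_top, basicOpen_eq_of_affine'] at h1
    have h2 := (PrimeSpectrum.mem_basicOpen _ _).mp h1
    rw [hG, ← hnat', heB]
    exact h2
  · rw [ofList_map, ← hkerW, hkerW', Ideal.map_map, hI₀]
    have hcomp : ρ.toRingHom.comp (algebraMap Γ(Spec (CommRingCat.of P), ⊤)
        Γ(Spec (CommRingCat.of P), (Spec (CommRingCat.of P)).basicOpen G₀)) =
        (algebraMap P (Localization.Away G)).comp e.toRingHom := RingHom.ext hρ
    rw [hcomp, ← Ideal.map_map, Ideal.map_comap_of_surjective e.toRingHom e.surjective]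

theorem main (A : Type u) [CommRing A] (n : ℕ) (I : Ideal (MvPolynomial (Fin n) A))
    (h : RegImm.IsRegularImmersion RegImm.Kind.regular
      (Spec.map (CommRingCat.ofHom (Ideal.Quotient.mk I))))
    (q : PrimeSpectrum (MvPolynomial (Fin n) A ⧸ I)) :
    ∃ g : MvPolynomial (Fin n) A ⧸ I, g ∉ q.asIdeal ∧
      ∃ (d : ℕ) (P : Fin d → MvPolynomial (Fin (n + 1)) A),
        IsRegular (MvPolynomial (Fin (n + 1)) A) (List.ofFn P) ∧
        Nonempty (Localization.Away g ≃ₐ[A]
          (MvPolynomial (Fin (n + 1)) A ⧸ Ideal.ofList (List.ofFn P))) := by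
  obtain ⟨G, hGq, as, hcol, hI⟩ :=
    affine_reg (Ideal.Quotient.mk I) Ideal.Quotient.mk_surjective h q
  rw [Ideal.mk_ker] at hI
  refine ⟨Ideal.Quotient.mk I G, hGq, alg_final A n G I as hcol hI ?_⟩
  rintro ⟨k, hk⟩
  have hk' : (Ideal.Quotient.mk I) G ^ k = 0 := hk
  exact hGq (q.isPrime.mem_of_pow_mem k (by rw [hk']; exact Ideal.zero_mem _))

end Geo

end Groth.Agent.Helper8.RegSeqI
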