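import Mathlib

set_option autoImplicit false

universe u

namespace Groth.Agent.Helper8.ResDet

open PowerSeries

variable {R : Type u} [CommRing R]

/-- geometric series inverse of `1 + a t` -/
noncomputable def G (a : R) : R⟦X⟧ := PowerSeries.mk (fun m => (-a) ^ m)

theorem coeff_zero_lin_mul (a : R) (p : R⟦X⟧) :
    coeff 0 ((1 + C a * X) * p) = coeff 0 p := by
  rw [add_mul, one_mul, map_add, mul_assoc, coeff_C_mul, coeff_zero_X_mul, mul_zero, add_zero]

theorem coeff_succ_lin_mul (a : R) (p : R⟦X⟧) (m : ℕ) :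
    coeff (m + 1) ((1 + C a * X) * p) = coeff (m + 1) p + a * coeff m p := by
  rw [add_mul, one_mul, map_add, mul_assoc, coeff_C_mul, coeff_succ_X_mul]

theorem lin_mul_G (a : R) : (1 + C a * X) * G a = 1 := by
  ext m
  cases m with
  | zero =>
    rw [coeff_zero_lin_mul, G, coeff_mk, pow_zero, coeff_one, if_pos rfl]
  | succ m =>
    rw [coeff_succ_lin_mul, G, coeff_mk, coeff_mk, coeff_one, if_neg (Nat.succ_ne_zero m),
      pow_succ]
    ring

theorem coeff_prod_lin_eq_zero : ∀ (e : ℕ) (β : Fin e → R) (m : ℕ), e < m →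
    coeff m (∏ j, (1 + C (β j) * X) : R⟦X⟧) = 0 := by
  intro e
  induction e with
  | zero =>
    intro β m hm
    rw [Finset.univ_eq_empty, Finset.prod_empty, coeff_one, if_neg (by omega)]
  | succ e ih =>
    intro β m hm
    obtain ⟨m', rfl⟩ : ∃ m', m = m' + 1 := ⟨m - 1, by omega⟩
    have h1 : coeff (m' + 1) (∏ j : Fin e, (1 + C (β j.succ) * X) : R⟦X⟧) = 0 :=
      ih (fun j => β j.succ) (m' + 1) (by omega)
    have h2 : coeff m' (∏ j : Fin e, (1 + C (β j.succ) * X) : R⟦X⟧) = 0 :=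
      ih (fun j => β j.succ) m' (by omega)
    rw [Fin.prod_univ_succ, coeff_succ_lin_mul, h1, h2, mul_zero, add_zero]

theorem tail (e : ℕ) (β : Fin e → R) (a : R) (m : ℕ) (hm : e ≤ m) :
    coeff (m + 1) ((∏ j, (1 + C (β j) * X) : R⟦X⟧) * G a) =
      -a * coeff m ((∏ j, (1 + C (β j) * X) : R⟦X⟧) * G a) := by
  have h1 : (1 + C a * X) * ((∏ j, (1 + C (β j) * X) : R⟦X⟧) * G a) =
      ∏ j, (1 + C (β j) * X) := by
    rw [mul_left_comm, lin_mul_G, mul_one]
  have h2 := coeff_succ_lin_mul a ((∏ j, (1 + C (β j) * X) : R⟦X⟧) * G a) m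
  rw [h1, coeff_prod_lin_eq_zero e β (m + 1) (by omega)] at h2
  linear_combination -h2

theorem coeff_top (a : R) : ∀ (e : ℕ) (β : Fin e → R),
    coeff e ((∏ j, (1 + C (β j) * X) : R⟦X⟧) * G a) = ∏ j, (β j - a) := by
  intro e
  induction e with
  | zero =>
    intro β
    rw [Finset.univ_eq_empty, Finset.prod_empty, Finset.prod_empty, one_mul, G, coeff_mk,
      pow_zero]
  | succ e ih =>
    intro β
    have h1 : coeff e ((∏ j : Fin e, (1 + C (β j.succ) * X) : R⟦X⟧) * G a) =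
        ∏ j : Fin e, (β j.succ - a) := ih (fun j => β j.succ)
    have h2 : coeff (e + 1) ((∏ j : Fin e, (1 + C (β j.succ) * X) : R⟦X⟧) * G a) =
        -a * coeff e ((∏ j : Fin e, (1 + C (β j.succ) * X) : R⟦X⟧) * G a) :=
      tail e (fun j => β j.succ) a e le_rfl
    rw [Fin.prod_univ_succ, Fin.prod_univ_succ, mul_assoc, coeff_succ_lin_mul, h2, h1]
    ring

/-- the partial-quotient matrix -/
noncomputable def M (e : ℕ) (β : Fin e → R) (d : ℕ) (α : Fin d → R) : Matrix (Fin d) (Fin d) R :=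
  Matrix.of fun i j : Fin d =>
    if (i : ℕ) ≤ e + (j : ℕ) then
      PowerSeries.coeff (e + (j : ℕ) - (i : ℕ))
        ((∏ j : Fin e, (1 + PowerSeries.C (β j) * PowerSeries.X)) *
          ∏ l : Fin d, if l ≤ i then PowerSeries.mk (fun m => (-α l) ^ m) else 1)
    else 0

theorem Q_zero (d : ℕ) (α : Fin (d + 1) → R) :
    (∏ l : Fin (d + 1), if l ≤ (0 : Fin (d + 1)) then PowerSeries.mk (fun m => (-α l) ^ m)
      else (1 : R⟦X⟧)) = G (α 0) := by
  rw [Fin.prod_univ_succ, if_pos le_rfl, Finset.prod_eq_one, mul_one]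
  · rfl
  · intro l _
    rw [if_neg]
    exact not_le.2 (Fin.succ_pos l)

theorem Q_succ (d : ℕ) (α : Fin (d + 1) → R) (i : Fin d) :
    (∏ l : Fin (d + 1), if l ≤ i.succ then PowerSeries.mk (fun m => (-α l) ^ m)
      else (1 : R⟦X⟧)) =
      G (α 0) * ∏ l : Fin d, if l ≤ i then PowerSeries.mk (fun m => (-α l.succ) ^ m)
        else (1 : R⟦X⟧) := by
  rw [Fin.prod_univ_succ, if_pos (Fin.zero_le _)]
  unfold G
  congr 1
  apply Finset.prod_congr rfl
  intro l _
  simp only [Fin.succ_le_succ_iff]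

theorem det_M (e : ℕ) (β : Fin e → R) : ∀ (d : ℕ) (α : Fin d → R),
    (M e β d α).det = ∏ i : Fin d, ∏ j : Fin e, (β j - α i) := by
  intro d
  induction d with
  | zero =>
    intro α
    rw [Matrix.det_isEmpty, Finset.univ_eq_empty, Finset.prod_empty]
  | succ d ih =>
    intro α
    obtain ⟨b, hb⟩ : ∃ b : R⟦X⟧, b = ∏ j : Fin e, (1 + C (β j) * X) := ⟨_, rfl⟩
    obtain ⟨a₀, ha₀⟩ : ∃ a₀, a₀ = α 0 := ⟨_, rfl⟩
    obtain ⟨Q', hQ'⟩ : ∃ Q' : Fin d → R⟦X⟧, Q' = fun i =>
        ∏ l : Fin d, if l ≤ i then PowerSeries.mk (fun m => (-α l.succ) ^ m)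
          else (1 : R⟦X⟧) := ⟨_, rfl⟩
    have hM0 : ∀ j : Fin (d + 1), M e β (d + 1) α 0 j = coeff (e + (j : ℕ)) (b * G a₀) := by
      intro j
      unfold M
      rw [Matrix.of_apply]
      simp only [Fin.val_zero, Nat.zero_le, if_true, Nat.sub_zero]
      rw [Q_zero, ← hb, ← ha₀]
    have hMs : ∀ (i : Fin d) (j : Fin (d + 1)), M e β (d + 1) α i.succ j =
        if (i : ℕ) + 1 ≤ e + (j : ℕ) then
          coeff (e + (j : ℕ) - ((i : ℕ) + 1)) (b * (G a₀ * Q' i)) else 0 := by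
      intro i j
      unfold M
      rw [Matrix.of_apply, Q_succ, Fin.val_succ, ← hb, ← ha₀, hQ']
    have hM' : ∀ (i j : Fin d), M e β d (fun l => α l.succ) i j =
        if (i : ℕ) ≤ e + (j : ℕ) then coeff (e + (j : ℕ) - (i : ℕ)) (b * Q' i) else 0 := by
      intro i j
      unfold M
      rw [Matrix.of_apply, ← hb, hQ']
    obtain ⟨B, hB⟩ : ∃ B : Matrix (Fin (d + 1)) (Fin (d + 1)) R,
        B = Matrix.of fun i j => Fin.cases (motive := fun _ => R) (M e β (d + 1) α i 0)
          (fun j' : Fin d => M e β (d + 1) α i j'.succ + a₀ * M e β (d + 1) α i j'.castSucc)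
          j := ⟨_, rfl⟩
    have hB0 : ∀ i, B i 0 = M e β (d + 1) α i 0 := by
      intro i
      rw [hB, Matrix.of_apply, Fin.cases_zero]
    have hBs : ∀ i (j : Fin d), B i j.succ =
        M e β (d + 1) α i j.succ + a₀ * M e β (d + 1) α i j.castSucc := by
      intro i j
      rw [hB, Matrix.of_apply, Fin.cases_succ]
    have hdet : (M e β (d + 1) α).det = B.det := by
      apply Matrix.det_eq_of_forall_col_eq_smul_add_pred (fun _ => -a₀)
      · intro i
        exact (hB0 i).symm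
      · intro i j
        rw [hBs]
        ring
    have hB00 : B 0 0 = ∏ j : Fin e, (β j - a₀) := by
      rw [hB0, hM0, Fin.val_zero, add_zero, hb]
      exact coeff_top a₀ e β
    have hB0s : ∀ j : Fin d, B 0 j.succ = 0 := by
      intro j
      rw [hBs, hM0, hM0, Fin.val_succ, Fin.coe_castSucc]
      have h1 := tail e β a₀ (e + (j : ℕ)) (by omega)
      rw [← hb] at h1
      rw [← add_assoc, h1]
      ring
    have hsub : B.submatrix Fin.succ Fin.succ = M e β d (fun l => α l.succ) := by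
      ext i j
      rw [Matrix.submatrix_apply, hBs, hMs, hMs, hM', Fin.val_succ, Fin.coe_castSucc]
      have hp : (1 + C a₀ * X) * (b * (G a₀ * Q' i)) = b * Q' i := by
        rw [mul_left_comm, ← mul_assoc (1 + C a₀ * X), lin_mul_G, one_mul]
      by_cases h1 : (i : ℕ) ≤ e + (j : ℕ)
      · by_cases h2 : (i : ℕ) + 1 ≤ e + (j : ℕ)
        · rw [if_pos (show (i : ℕ) + 1 ≤ e + ((j : ℕ) + 1) by omega), if_pos h2, if_pos h1]
          obtain ⟨m, hm⟩ : ∃ m, m = e + (j : ℕ) - ((i : ℕ) + 1) := ⟨_, rfl⟩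
          have e1 : e + ((j : ℕ) + 1) - ((i : ℕ) + 1) = m + 1 := by omega
          have e2 : e + (j : ℕ) - (i : ℕ) = m + 1 := by omega
          rw [e1, e2, ← hm, ← hp, coeff_succ_lin_mul]
        · rw [if_pos (show (i : ℕ) + 1 ≤ e + ((j : ℕ) + 1) by omega), if_neg h2, if_pos h1]
          have e1 : e + ((j : ℕ) + 1) - ((i : ℕ) + 1) = 0 := by omega
          have e2 : e + (j : ℕ) - (i : ℕ) = 0 := by omega
          rw [e1, e2, mul_zero, add_zero, ← hp, coeff_zero_lin_mul]
      · rw [if_neg (show ¬ (i : ℕ) + 1 ≤ e + ((j : ℕ) + 1) by omega),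
          if_neg (show ¬ (i : ℕ) + 1 ≤ e + (j : ℕ) by omega), if_neg h1, mul_zero, add_zero]
    have hdetB : B.det = B 0 0 * (B.submatrix Fin.succ Fin.succ).det := by
      rw [Matrix.det_succ_row_zero, Fin.sum_univ_succ, Finset.sum_eq_zero, add_zero,
        Fin.val_zero, pow_zero, one_mul, Fin.succAbove_zero]
      intro j _
      rw [hB0s, mul_zero, zero_mul]
    rw [hdet, hdetB, hB00, hsub, ih (fun l => α l.succ), Fin.prod_univ_succ, ha₀]

theorem main (R : Type u) [CommRing R] (d e : ℕ) (α : Fin d → R) (β : Fin e → R) :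
    ∏ i : Fin d, ∏ j : Fin e, (β j - α i) =
      (Matrix.of fun i j : Fin d =>
        if (i : ℕ) ≤ e + (j : ℕ) then
          PowerSeries.coeff (e + (j : ℕ) - (i : ℕ))
            ((∏ j : Fin e, (1 + PowerSeries.C (β j) * PowerSeries.X)) *
              ∏ l : Fin d, if l ≤ i then PowerSeries.mk (fun m => (-α l) ^ m) else 1)
        else 0).det :=
  (det_M e β d α).symm

end Groth.Agent.Helper8.ResDet
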