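import Groth.Prelude.Def_FSch5
import Groth.Agent.Helper8.AdicSys2

set_option autoImplicit false
set_option backward.isDefEq.respectTransparency false
set_option backward.isDefEq.respectTransparency.types false
universe u

open CategoryTheory AlgebraicGeometry Limits

namespace Groth.Agent.Helper8.RestrOpen

theorem isAdicHom_restrictOpenι (𝔛 : FSch.Sys.{u}) (h : 𝔛.IsFormal) (U : (𝔛.X 0).Opens) :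
    FSch.IsAdicHom (𝔛.restrictOpenι h U) := by
  intro n
  change IsPullback ((𝔛.ι n).resLE (𝔛.lvU h (n + 1) U) (𝔛.lvU h n U) (𝔛.lvU_le h n U))
    (𝔛.lvU h n U).ι (𝔛.lvU h (n + 1) U).ι (𝔛.ι n)
  refine IsOpenImmersion.isPullback _ _ _ _ (Scheme.Hom.resLE_comp_ι _ _).symm ?_
  rw [Scheme.Opens.opensRange_ι, Scheme.Opens.opensRange_ι]
  exact 𝔛.lvU_succ h n U

/-- S13342 -/
theorem main1 (𝔛 : FSch.Sys.{u}) (h : 𝔛.IsFormal) (U : (𝔛.X 0).Opens) :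
    (𝔛.restrictOpen h U).IsFormal ∧ (𝔛.IsLocNoethFormal → (𝔛.restrictOpen h U).IsLocNoethFormal) ∧
      (𝔛.IsLocNoethFormal → CompactSpace (𝔛.X 0) → CompactSpace ((𝔛.restrictOpen h U).X 0)) := by
  have hadic := isAdicHom_restrictOpenι 𝔛 h U
  refine ⟨AdicSys.isFormal_of_isAdicHom _ h hadic, fun h𝔛 => ?_, fun h𝔛 hc => ?_⟩
  · haveI := h𝔛.2.2 0
    haveI : IsLocallyNoetherian ((𝔛.restrictOpen h U).X 0) :=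
      inferInstanceAs (IsLocallyNoetherian ((𝔛.lvU h 0 U : (𝔛.X 0).Opens) : Scheme.{u}))
    exact AdicSys.isLocNoethFormal_of_isAdicHom _ h𝔛 hadic
  · haveI := h𝔛.2.2 0
    haveI := hc
    haveI : IsNoetherian (𝔛.X 0) := ⟨⟩
    change CompactSpace ↥(𝔛.lvU h 0 U)
    exact isCompact_iff_compactSpace.mp (TopologicalSpace.NoetherianSpace.isCompact _)

/-- S13642 -/
theorem main2 (𝔛 𝔜 : FSch.Sys.{u}) (h𝔛 : 𝔛.IsFormal) (h𝔜 : 𝔜.IsFormal)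
    (f : 𝔛 ⟶ 𝔜) (hf : FSch.IsFiniteHom f) (U : (𝔜.X 0).Opens) :
    FSch.IsFiniteHom (FSch.Hom.restrictOpen f h𝔛 h𝔜 U) := by
  refine ⟨fun n => ?_, ?_⟩
  · change IsPullback
      ((𝔛.ι n).resLE (𝔛.lvU h𝔛 (n + 1) ((f : FSch.Hom 𝔛 𝔜).app 0 ⁻¹ᵁ U))
        (𝔛.lvU h𝔛 n ((f : FSch.Hom 𝔛 𝔜).app 0 ⁻¹ᵁ U)) (𝔛.lvU_le h𝔛 n _))
      (((f : FSch.Hom 𝔛 𝔜).app n).resLE (𝔜.lvU h𝔜 n U)
        (𝔛.lvU h𝔛 n ((f : FSch.Hom 𝔛 𝔜).app 0 ⁻¹ᵁ U)) (FSch.Hom.lvU_preimage f h𝔛 h𝔜 n U).ge)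
      (((f : FSch.Hom 𝔛 𝔜).app (n + 1)).resLE (𝔜.lvU h𝔜 (n + 1) U)
        (𝔛.lvU h𝔛 (n + 1) ((f : FSch.Hom 𝔛 𝔜).app 0 ⁻¹ᵁ U))
        (FSch.Hom.lvU_preimage f h𝔛 h𝔜 (n + 1) U).ge)
      ((𝔜.ι n).resLE (𝔜.lvU h𝔜 (n + 1) U) (𝔜.lvU h𝔜 n U) (𝔜.lvU_le h𝔜 n U))
    refine Scheme.Hom.isPullback_resLE (hf.1 n) (𝔜.lvU_le h𝔜 n U)
      (FSch.Hom.lvU_preimage f h𝔛 h𝔜 (n + 1) U).ge ?_
    rw [𝔛.lvU_succ h𝔛 n, FSch.Hom.lvU_preimage f h𝔛 h𝔜 n U, inf_idem]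
  · haveI := hf.2
    change IsFinite (((f : FSch.Hom 𝔛 𝔜).app 0).resLE (𝔜.lvU h𝔜 0 U)
        (𝔛.lvU h𝔛 0 ((f : FSch.Hom 𝔛 𝔜).app 0 ⁻¹ᵁ U)) (FSch.Hom.lvU_preimage f h𝔛 h𝔜 0 U).ge)
    have e := FSch.Hom.lvU_preimage f h𝔛 h𝔜 0 U
    have h1 : ((f : FSch.Hom 𝔛 𝔜).app 0).resLE (𝔜.lvU h𝔜 0 U)
        (𝔛.lvU h𝔛 0 ((f : FSch.Hom 𝔛 𝔜).app 0 ⁻¹ᵁ U)) e.ge =
        ((𝔛.X 0).isoOfEq e.symm).hom ≫ ((f : FSch.Hom 𝔛 𝔜).app 0) ∣_ (𝔜.lvU h𝔜 0 U) := rfl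
    rw [h1]
    infer_instance

end Groth.Agent.Helper8.RestrOpen
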