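import Mathlib
import Groth.Prelude
import Groth.Agent.Helper8.RigCore

/-!
# Rigidity of actions of groups of multiplicative type modulo a locally nilpotent ideal
(S5279, S5280)
-/

set_option autoImplicit false
set_option linter.unusedSectionVars false
set_option linter.style.haveILetI false
set_option linter.unusedVariables false

universe u

open CategoryTheory CategoryTheory.Limits MonoidalCategory CartesianMonoidalCategory MonObj GrpObj
  AlgebraicGeometry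

noncomputable section

namespace Groth.Agent.Helper8.RigMain

open Groth.Agent.Helper8.RigCore

/-- a morphism from an affine scheme into an affine open `W` of `S` killing the ideal of a closed
subscheme factors through the closed subscheme -/
lemma factor_closed {S S₀ : Scheme.{u}} (i₀ : S₀ ⟶ S) [IsClosedImmersion i₀] (W : S.Opens)
    (hW : IsAffineOpen W) {A₀ : Type u} [CommRing A₀] (ψ : Γ(S, W) →+* A₀)
    (hψ : i₀.ker.ideal ⟨W, hW⟩ ≤ RingHom.ker ψ) :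
    ∃ l : Spec (CommRingCat.of A₀) ⟶ S₀,
      l ≫ i₀ = Spec.map (CommRingCat.ofHom ψ) ≫ hW.fromSpec := by
  have hW₀ : IsAffineOpen (i₀ ⁻¹ᵁ W) := hW.preimage i₀
  have hsurj : Function.Surjective (i₀.app W).hom := i₀.app_surjective W hW
  have hker : RingHom.ker (i₀.app W).hom ≤ RingHom.ker ψ := by
    rw [← Scheme.Hom.ker_apply i₀ ⟨W, hW⟩]; exact hψ
  let ψ' : Γ(S₀, i₀ ⁻¹ᵁ W) →+* A₀ := RingHom.liftOfSurjective (i₀.app W).hom hsurj ⟨ψ, hker⟩
  have hψ' : ψ'.comp (i₀.app W).hom = ψ :=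
    RingHom.liftOfSurjective_comp (i₀.app W).hom hsurj ⟨ψ, hker⟩
  refine ⟨Spec.map (CommRingCat.ofHom ψ') ≫ hW₀.fromSpec, ?_⟩
  rw [Category.assoc, ← hW.SpecMap_appLE_fromSpec i₀ hW₀ le_rfl, ← Category.assoc,
    ← Spec.map_comp, ← hψ', ← Scheme.Hom.app_eq_appLE]
  rfl

section Transfer

variable {S U : Scheme.{u}} (u : U ⟶ S) {G X : Over S} [GrpObj G] (a : AlgGrp.Action G X)
  (M : Type) [AddCommGroup M] (e : Grp.mk (Red.bc u G) ≅ Grp.mk (Red.DS U M))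
  {S₀ : Scheme.{u}} (i₀ : S₀ ⟶ S) [IsClosedImmersion i₀]
  (hnil : ∀ x : S, ∃ W : S.affineOpens, x ∈ (W : S.Opens) ∧ IsNilpotent (i₀.ker.ideal W))
  (h0 : ∀ (Y : Over S) (p : Y ⟶ Over.mk i₀) (g : Y ⟶ G) (x : Y ⟶ X), lift g x ≫ a.act = x)

include e hnil h0 in
theorem triv_over (Z : Over U) (g' : (Over.map u).obj Z ⟶ G) (x' : (Over.map u).obj Z ⟶ X) :
    lift g' x' ≫ a.act = x' := by
  let ψ : Red.DS U M ⟶ Red.bc u G := e.inv.hom.hom
  haveI : IsMonHom ψ := e.inv.hom.isMonHom_hom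
  have hψ : e.hom.hom.hom ≫ ψ = 𝟙 _ := congrArg (fun z => z.hom.hom) e.hom_inv_id
  let aU : AlgGrp.Action (Red.DS U M) (Red.bc u X) := (a.bc u).restrict ψ
  let Small : Over U → Prop := fun Z₀ => Nonempty ((Over.map u).obj Z₀ ⟶ Over.mk i₀)
  have h0U : ∀ Z₀ : Over U, Small Z₀ → ∀ (g : Z₀ ⟶ Red.DS U M) (x : Z₀ ⟶ Red.bc u X),
      lift g x ≫ aU.act = x := by
    rintro Z₀ ⟨p⟩ g x
    rw [AlgGrp.Action.lift_restrict_act]
    obtain ⟨g₀, hg₀⟩ := ((Over.mapPullbackAdj u).homEquiv Z₀ G).surjective (g ≫ ψ)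
    obtain ⟨x₀, hx₀⟩ := ((Over.mapPullbackAdj u).homEquiv Z₀ X).surjective x
    rw [← hg₀, ← hx₀, AlgGrp.Action.lift_homEquiv_bc_act, h0 _ p g₀ x₀]
  have hsmall : ∀ s : U, ∃ (W' : U.Opens) (hW' : IsAffineOpen W'), s ∈ W' ∧
      ∃ I : Ideal Γ(U, W'), IsNilpotent I ∧
      ∀ (A₀ : Type u) [CommRing A₀] (f₀ : Spec (CommRingCat.of A₀) ⟶ U) (ψ₁ : Γ(U, W') →+* A₀),
        f₀ = Spec.map (CommRingCat.ofHom ψ₁) ≫ hW'.fromSpec → I ≤ RingHom.ker ψ₁ →
        Small (Over.mk f₀) := by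
    intro s
    obtain ⟨⟨W, hW⟩, hsW, hnilW⟩ := hnil (u s)
    obtain ⟨_, ⟨W', hW', rfl⟩, hsW', hle⟩ := U.isBasis_affineOpens.exists_subset_of_mem_open
      (show s ∈ (u ⁻¹ᵁ W : Set U) from hsW) (u ⁻¹ᵁ W).isOpen
    have hle' : W' ≤ u ⁻¹ᵁ W := SetLike.coe_subset_coe.mp hle
    refine ⟨W', hW', hsW', Ideal.map (u.appLE W W' hle').hom (i₀.ker.ideal ⟨W, hW⟩), ?_, ?_⟩
    · obtain ⟨n, hn⟩ := hnilW
      refine ⟨n, ?_⟩
      rw [← Ideal.map_pow, hn, Ideal.zero_eq_bot, Ideal.map_bot]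
      rfl
    · intro A₀ _ f₀ ψ₁ hf₀ hker
      obtain ⟨l, hl⟩ := factor_closed i₀ W hW (ψ₁.comp (u.appLE W W' hle').hom) (by
        intro r hr
        rw [RingHom.mem_ker, RingHom.comp_apply]
        exact hker (Ideal.mem_map_of_mem _ hr))
      refine ⟨Over.homMk l ?_⟩
      change l ≫ i₀ = f₀ ≫ u
      rw [hl, hf₀, Category.assoc, ← hW.SpecMap_appLE_fromSpec u hW' hle', ← Category.assoc,
        ← Spec.map_comp]
      rfl
  have key := core M aU Small hsmall h0U Z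
    (((Over.mapPullbackAdj u).homEquiv Z G g') ≫ e.hom.hom.hom)
    ((Over.mapPullbackAdj u).homEquiv Z X x')
  rw [AlgGrp.Action.lift_restrict_act, Category.assoc, hψ, Category.comp_id,
    AlgGrp.Action.lift_homEquiv_bc_act] at key
  exact ((Over.mapPullbackAdj u).homEquiv Z X).injective key

end Transfer

/-- S5279 -/
theorem main {S S₀ : Scheme.{u}} (i₀ : S₀ ⟶ S) [IsClosedImmersion i₀]
    (hnil : ∀ x : S, ∃ U : S.affineOpens, x ∈ (U : S.Opens) ∧ IsNilpotent (i₀.ker.ideal U))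
    (G X : Over S) [GrpObj G]
    (hG : TwC.Locally S TwC.Topology.fpqc (fun S' f => ∃ (M : Type) (_ : AddCommGroup M),
      Nonempty (Grp.mk (Red.bc f G) ≅ Grp.mk (Red.DS S' M))))
    (a : AlgGrp.Action G X)
    (h0 : ∀ (Y : Over S) (p : Y ⟶ Over.mk i₀) (g : Y ⟶ G) (x : Y ⟶ X), lift g x ≫ a.act = x)
    (Y : Over S) (g : Y ⟶ G) (x : Y ⟶ X) : lift g x ≫ a.act = x := by
  obtain ⟨S', f, hflat, hsurj, -, hloc⟩ := hG
  haveI := hflat
  haveI := hsurj
  apply Over.OverMorphism.ext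
  apply MultGa.hom_ext_of_flat_local
  intro y
  obtain ⟨s', hs'⟩ := f.surjective (Y.hom y)
  obtain ⟨U, hU, M, instM, ⟨e⟩⟩ := hloc s'
  let u : (U : Scheme.{u}) ⟶ S := U.ι ≫ f
  refine ⟨pullback Y.hom u, pullback.fst Y.hom u, inferInstance, ?_, ?_⟩
  · obtain ⟨z, hz1, -⟩ := Scheme.Pullback.exists_preimage_pullback (f := Y.hom) (g := u) y
      ⟨s', hU⟩ (by
        change Y.hom y = f (U.ι ⟨s', hU⟩)
        rw [← hs']
        rfl)
    exact ⟨z, hz1⟩
  · let Z : Over (U : Scheme.{u}) := Over.mk (pullback.snd Y.hom u)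
    let pp : (Over.map u).obj Z ⟶ Y := Over.homMk (pullback.fst Y.hom u) pullback.condition
    have key := triv_over u a M e i₀ hnil h0 Z (pp ≫ g) (pp ≫ x)
    have h2 := congrArg (fun t => t.left) key
    rw [← comp_lift_assoc] at h2
    exact h2

section Conj

variable {S : Scheme.{u}} {G H : Over S} [GrpObj G] [GrpObj H] (u : G ⟶ H) [IsMonHom u]

/-- the conjugation action of `G` on `H` through `u` -/
def conjAct : AlgGrp.Action G H where
  act := (fst G H ≫ u) * snd G H * (fst G H ≫ u)⁻¹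
  one_act := by
    rw [MonObj.comp_mul, MonObj.comp_mul, GrpObj.comp_inv, whiskerRight_fst_assoc, whiskerRight_snd,
      IsMonHom.one_hom, leftUnitor_hom]
    have : fst (𝟙_ (Over S)) H ≫ η[H] = 1 := by
      rw [Hom.one_def]
      congr 1
    rw [this, inv_one, _root_.one_mul, _root_.mul_one]
  mul_act := by
    apply AlgGrp.Action.hom_ext_lift₃
    intro T g g' h
    have e1 : ∀ (T : Over S) (g : T ⟶ G) (h : T ⟶ H),
        lift g h ≫ ((fst G H ≫ u) * snd G H * (fst G H ≫ u)⁻¹) =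
          (g ≫ u) * h * (g ≫ u)⁻¹ := by
      intro T g h
      rw [MonObj.comp_mul, MonObj.comp_mul, GrpObj.comp_inv, lift_fst_assoc, lift_snd]
    rw [lift_whiskerRight_assoc, ← Hom.mul_def, e1, lift_lift_associator_hom_assoc,
      lift_whiskerLeft_assoc, e1, e1, MonObj.mul_comp, _root_.mul_inv_rev]
    simp only [_root_.mul_assoc]

lemma lift_conjAct {T : Over S} (g : T ⟶ G) (h : T ⟶ H) :
    lift g h ≫ (conjAct u).act = (g ≫ u) * h * (g ≫ u)⁻¹ := by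
  change lift g h ≫ ((fst G H ≫ u) * snd G H * (fst G H ≫ u)⁻¹) = _
  rw [MonObj.comp_mul, MonObj.comp_mul, GrpObj.comp_inv, lift_fst_assoc, lift_snd]

end Conj

/-- S5280 -/
theorem main2 {S S₀ : Scheme.{u}} (i₀ : S₀ ⟶ S) [IsClosedImmersion i₀]
    (hnil : ∀ x : S, ∃ U : S.affineOpens, x ∈ (U : S.Opens) ∧ IsNilpotent (i₀.ker.ideal U))
    (G H : Over S) [GrpObj G] [GrpObj H]
    (hG : TwC.Locally S TwC.Topology.fpqc (fun S' f => ∃ (M : Type) (_ : AddCommGroup M),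
      Nonempty (Grp.mk (Red.bc f G) ≅ Grp.mk (Red.DS S' M))))
    (u : G ⟶ H) [IsMonHom u]
    (h0 : ∀ (Y : Over S) (p : Y ⟶ Over.mk i₀) (g : Y ⟶ G) (h : Y ⟶ H),
      (g ≫ u) * h = h * (g ≫ u))
    (Y : Over S) (g : Y ⟶ G) (h : Y ⟶ H) : (g ≫ u) * h = h * (g ≫ u) := by
  have key := main i₀ hnil G H hG (conjAct u) (by
    intro Y p g h
    rw [lift_conjAct, h0 Y p g h, mul_inv_cancel_right]) Y g h
  rw [lift_conjAct] at key
  exact mul_inv_eq_iff_eq_mul.mp key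

end Groth.Agent.Helper8.RigMain
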