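import Mathlib
import Groth.Prelude
import Groth.Agent.Helper2.Unibr1
import Groth.Agent.Helper3.HensLocal
set_option autoImplicit false
universe u
open IsLocalRing Polynomial

/-!
Complete height-one valuation rings: basic facts, and the integral closure of a domain integral
over a henselian valuation ring is a valuation ring.
-/

namespace Groth.Agent.Helper8.RigPt

section Base
variable (R : Type u) [CommRing R] [IsDomain R] [ValuationRing R] [Ring.KrullDimLE 1 R]
  (t : R) [IsAdicComplete (Ideal.span {t}) R]

theorem t_mem_maximalIdeal : t ∈ maximalIdeal R := by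
  have h := IsAdicComplete.le_jacobson_bot (Ideal.span {t})
  rw [IsLocalRing.jacobson_eq_maximalIdeal ⊥ bot_ne_top] at h
  exact h (Ideal.mem_span_singleton_self t)

theorem radical_span (ht : t ≠ 0) : (Ideal.span {t}).radical = maximalIdeal R := by
  apply le_antisymm
  · exact (Ideal.IsPrime.radical_le_iff (maximalIdeal.isMaximal R).isPrime).2
      ((Ideal.span_singleton_le_iff_mem _).2 (t_mem_maximalIdeal R t))
  · rw [Ideal.radical_eq_sInf, le_sInf_iff]
    rintro P ⟨hP, hPp⟩
    have hne : P ≠ ⊥ := by
      rintro rfl
      exact ht (by simpa using hP (Ideal.mem_span_singleton_self t))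
    have : P.IsMaximal := hPp.isMaximal_of_ne_bot hne
    rw [IsLocalRing.eq_maximalIdeal this]

theorem exists_pow_mem (ht : t ≠ 0) (m : R) (hm : m ∈ maximalIdeal R) : ∃ N : ℕ, t ∣ m ^ N := by
  rw [← radical_span R t ht] at hm
  obtain ⟨N, hN⟩ := hm
  exact ⟨N, Ideal.mem_span_singleton.1 hN⟩

theorem henselian (ht : t ≠ 0) : HenselianLocalRing R := by
  haveI h1 : HenselianRing R (Ideal.span {t}) := inferInstance
  have h2 : HenselianRing R (Ideal.span {t}).radical :=
    Groth.Agent.Helper3.HensLocal.hens_radical _
  rw [radical_span R t ht] at h2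
  exact Groth.Agent.Helper3.HensLocal.henselianLocalRing_of_henselianRing R

theorem ringKrullDim_eq_one (ht : t ≠ 0) : ringKrullDim R = 1 := by
  apply le_antisymm
  · exact Ring.krullDimLE_iff.mp inferInstance
  · by_contra hlt
    have h0 : ringKrullDim R ≤ 0 := Order.le_of_lt_succ (not_le.mp hlt)
    haveI : Ring.KrullDimLE 0 R := Ring.krullDimLE_iff.mpr (by simpa using h0)
    have hF : IsField R := Ring.KrullDimLE.isField_of_isDomain
    have := t_mem_maximalIdeal R t
    rw [IsLocalRing.isField_iff_maximalIdeal_eq.mp hF] at this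
    exact ht (by simpa using this)

end Base

section Horner
variable {A : Type*} [CommRing A] {L : Type*} [Field L] [Algebra A L]

theorem coeff_iterate_divX (g : A[X]) (s j : ℕ) : (divX^[s] g).coeff j = g.coeff (j + s) := by
  induction s generalizing j with
  | zero => simp
  | succ s ih =>
    rw [Function.iterate_succ_apply', coeff_divX, ih]
    congr 1; omega

theorem coeff_sub_X_pow_mul (g : A[X]) (s m : ℕ) (hm : s ≤ m) :
    (g - X ^ s * divX^[s] g).coeff m = 0 := by
  rw [coeff_sub, coeff_X_pow_mul', if_pos hm, coeff_iterate_divX, Nat.sub_add_cancel hm, sub_self]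

theorem aeval_mem_span (x : L) (m : ℕ) (q : A[X]) (hq : q.natDegree < m) :
    aeval x q ∈ Submodule.span A (Set.range fun i : Fin m => x ^ (i : ℕ)) := by
  rw [aeval_eq_sum_range' hq]
  refine Submodule.sum_mem _ (fun j hj => ?_)
  refine Submodule.smul_mem _ _ (Submodule.subset_span ?_)
  exact ⟨⟨j, Finset.mem_range.1 hj⟩, rfl⟩

theorem isIntegral_aeval_iterate_divX (x : L) (g : A[X]) (hg : aeval x g = 0) (s : ℕ) :
    IsIntegral A (aeval x (divX^[s] g)) := by
  classical
  set n := g.natDegree with hn
  set m := n + 1 with hm
  set U := divX^[s] g with hU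
  set V := g - X ^ s * U with hV
  let N : Submodule A L := Submodule.span A (Set.range fun i : Fin m => x ^ (i : ℕ))
  have hNfg : N.FG := Submodule.fg_span (Set.finite_range _)
  have h1N : (1 : L) ∈ N := by
    refine Submodule.subset_span ⟨⟨0, by omega⟩, ?_⟩
    simp
  have hNne : N ≠ ⊥ := by
    intro h
    rw [h, Submodule.mem_bot] at h1N
    exact one_ne_zero h1N
  have hgV : aeval x (X ^ s * U) = - aeval x V := by
    rw [hV, map_sub, hg, zero_sub, neg_neg]
  have key : ∀ i : ℕ, i < m → aeval x U * x ^ i ∈ N := by
    intro i hi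
    by_cases his : i < s
    · have h2 : aeval x U * x ^ i = aeval x (U * X ^ i) := by
        rw [map_mul, map_pow, aeval_X]
      rw [h2]
      apply aeval_mem_span
      have h3 : (U * X ^ i).natDegree ≤ n := by
        rw [natDegree_le_iff_coeff_eq_zero]
        intro j hj
        rw [coeff_mul_X_pow']
        split_ifs with hij
        · rw [hU, coeff_iterate_divX]
          exact coeff_eq_zero_of_natDegree_lt (by omega)
        · rfl
      omega
    · have his' : s ≤ i := not_lt.mp his
      have h2 : aeval x U * x ^ i = aeval x (-(V * X ^ (i - s))) := by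
        have : x ^ i = x ^ s * x ^ (i - s) := by rw [← pow_add]; congr 1; omega
        rw [this, map_neg, map_mul, map_pow, aeval_X, ← mul_assoc, mul_comm _ (x ^ s)]
        have h9 : x ^ s * (aeval x) U = - aeval x V := by
          rw [← hgV, map_mul, map_pow, aeval_X]
        rw [h9, neg_mul]
      rw [h2]
      apply aeval_mem_span
      have h3 : (-(V * X ^ (i - s))).natDegree ≤ i - 1 + 0 := by
        rw [natDegree_neg, natDegree_le_iff_coeff_eq_zero]
        intro j hj
        rw [coeff_mul_X_pow']
        split_ifs with hij
        · exact coeff_sub_X_pow_mul g s _ (by omega)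
        · rfl
      omega
  refine isIntegral_of_smul_mem_submodule (M := L) N hNne hNfg (aeval x U) ?_
  intro y hy
  induction hy using Submodule.span_induction with
  | mem y hy =>
    obtain ⟨i, rfl⟩ := hy
    exact key i i.2
  | zero => simp
  | add y z _ _ hy hz => rw [smul_add]; exact N.add_mem hy hz
  | smul a y _ hy =>
    rw [smul_comm]
    exact N.smul_mem a hy

end Horner

section Val

/-- in a valuation ring, among finitely many elements one divides all the others -/
theorem exists_dvd_all {R : Type*} [CommRing R] [IsDomain R] [ValuationRing R] {ι : Type*}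
    (a : ι → R) (T : Finset ι) (hT : T.Nonempty) : ∃ s ∈ T, ∀ i ∈ T, a s ∣ a i := by
  classical
  induction hT using Finset.Nonempty.cons_induction with
  | singleton j => exact ⟨j, Finset.mem_singleton_self j, fun i hi => by
      rw [Finset.mem_singleton.1 hi]⟩
  | cons j T hj hT ih =>
    obtain ⟨s, hs, hsT⟩ := ih
    rcases ValuationRing.dvd_total (a s) (a j) with h | h
    · refine ⟨s, Finset.mem_cons.2 (Or.inr hs), fun i hi => ?_⟩
      rcases Finset.mem_cons.1 hi with rfl | hi
      · exact h
      · exact hsT i hi
    · refine ⟨j, Finset.mem_cons_self j T, fun i hi => ?_⟩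
      rcases Finset.mem_cons.1 hi with rfl | hi
      · exact dvd_rfl
      · exact h.trans (hsT i hi)

theorem mem_or_inv_mem (R : Type*) [CommRing R] [IsDomain R] [ValuationRing R]
    (L : Type*) [Field L] [Algebra R L] (hinj : Function.Injective (algebraMap R L))
    (hloc : IsLocalRing (integralClosure R L)) (x : L) (hx : IsAlgebraic R x) :
    x ∈ integralClosure R L ∨ x⁻¹ ∈ integralClosure R L := by
  classical
  obtain ⟨f, hf0, hfx⟩ := hx
  have hsupp : f.support.Nonempty := by
    rwa [Finset.nonempty_iff_ne_empty, Ne, Polynomial.support_eq_empty]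
  obtain ⟨s, hs, hsT⟩ := exists_dvd_all (fun i => f.coeff i) f.support hsupp
  have hs0 : f.coeff s ≠ 0 := Polynomial.mem_support_iff.1 hs
  have hdvd : C (f.coeff s) ∣ f := by
    rw [C_dvd_iff_dvd_coeff]
    intro i
    by_cases hi : i ∈ f.support
    · exact hsT i hi
    · rw [Polynomial.notMem_support_iff.1 hi]; exact dvd_zero _
  obtain ⟨g, hg⟩ := hdvd
  have hgs : g.coeff s = 1 := by
    have h1 : f.coeff s = f.coeff s * g.coeff s := by
      conv_lhs => rw [hg, coeff_C_mul]
    exact (mul_left_cancel₀ hs0 (by rw [mul_one]; exact h1)).symm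
  have hgx : aeval x g = 0 := by
    rw [hg, map_mul, aeval_C] at hfx
    rcases mul_eq_zero.1 hfx with h | h
    · exact absurd ((map_eq_zero_iff _ hinj).1 h) hs0
    · exact h
  set S := integralClosure R L with hS
  have hu : ∀ k, aeval x (divX^[k] g) ∈ S := fun k =>
    isIntegral_aeval_iterate_divX x g hgx k
  have hrel : ∀ k, aeval x (divX^[k+1] g) * x + algebraMap R L (g.coeff k) =
      aeval x (divX^[k] g) := by
    intro k
    have h1 := divX_mul_X_add (divX^[k] g)
    rw [coeff_iterate_divX, zero_add] at h1
    have h2 := congrArg (aeval x) h1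
    rw [map_add, map_mul, aeval_X, aeval_C, ← Function.iterate_succ_apply' divX k g] at h2
    exact h2
  let us : S := ⟨aeval x (divX^[s] g), hu s⟩
  rcases IsLocalRing.isUnit_or_isUnit_one_sub_self us with h | h
  · -- `u_s` is a unit: `x ∈ S`
    left
    obtain ⟨w, hw⟩ := h.exists_right_inv
    have hw' : aeval x (divX^[s] g) * (w : L) = 1 := by
      have := congrArg (Subtype.val) hw
      simpa [us] using this
    cases s with
    | zero =>
      exfalso
      simp only [Function.iterate_zero, id_eq] at hw'
      rw [hgx, zero_mul] at hw'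
      exact zero_ne_one hw'
    | succ s' =>
      have h3 := hrel s'
      have h4 : x * aeval x (divX^[s'+1] g) ∈ S := by
        have : x * aeval x (divX^[s'+1] g) =
            aeval x (divX^[s'] g) - algebraMap R L (g.coeff s') := by
          rw [← h3]; ring
        rw [this]
        exact S.sub_mem (hu s') (S.algebraMap_mem _)
      have h5 : x = (x * aeval x (divX^[s'+1] g)) * (w : L) := by
        rw [mul_assoc, hw', mul_one]
      rw [h5]
      exact S.mul_mem h4 w.2
  · -- `1 - u_s = -(u_{s+1} x)` is a unit: `x⁻¹ ∈ S`
    right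
    obtain ⟨w, hw⟩ := h.exists_right_inv
    have h3 := hrel s
    rw [hgs, map_one] at h3
    have hw' : (1 - aeval x (divX^[s] g)) * (w : L) = 1 := by
      have := congrArg (Subtype.val) hw
      simpa [us] using this
    have h4 : x * (-(aeval x (divX^[s+1] g)) * (w : L)) = 1 := by
      rw [← hw', ← h3]; ring
    have hx0 : x ≠ 0 := by
      rintro rfl
      rw [zero_mul] at h4
      exact zero_ne_one h4
    have h5 : x⁻¹ = -(aeval x (divX^[s+1] g)) * (w : L) := by
      rw [inv_eq_of_mul_eq_one_right h4]
    rw [h5]
    exact S.mul_mem (S.neg_mem (hu (s+1))) w.2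

theorem valuationRing_integralClosure (R : Type u) [CommRing R] [IsDomain R] [ValuationRing R]
    [HenselianLocalRing R] (B : Type u) [CommRing B] [IsDomain B] [Algebra R B]
    [Algebra.IsIntegral R B] (hinj : Function.Injective (algebraMap R B)) :
    ValuationRing (integralClosure B (FractionRing B)) := by
  classical
  let L := FractionRing B
  haveI : Algebra.IsAlgebraic B L := IsLocalization.isAlgebraic (R := B) (S := L) (nonZeroDivisors B)
  haveI : Algebra.IsAlgebraic R B := inferInstance
  haveI : Algebra.IsAlgebraic R L := Algebra.IsAlgebraic.trans R B L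
  have hinjL : Function.Injective (algebraMap R L) := by
    rw [IsScalarTower.algebraMap_eq R B L]
    exact (IsFractionRing.injective B L).comp hinj
  haveI hloc : IsLocalRing (integralClosure R L) :=
    Groth.Agent.Helper2.Unibr1.isLocalRing_of_isIntegral_of_isDomain R (integralClosure R L)
  haveI : IsFractionRing (integralClosure B L) L :=
    integralClosure.isFractionRing_of_algebraic
      (fun x hx => (IsFractionRing.injective B L) (by rw [hx, map_zero]))
  rw [ValuationRing.iff_isInteger_or_isInteger (integralClosure B L) L]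
  intro x
  have hmem : ∀ y : L, y ∈ integralClosure R L → IsLocalization.IsInteger (integralClosure B L) y := by
    intro y hy
    have : IsIntegral B y := ((mem_integralClosure_iff R L).1 hy).tower_top
    exact ⟨⟨y, this⟩, rfl⟩
  rcases mem_or_inv_mem R L hinjL hloc x (Algebra.IsAlgebraic.isAlgebraic x) with h | h
  · exact Or.inl (hmem _ h)
  · exact Or.inr (hmem _ h)

end Val

end Groth.Agent.Helper8.RigPt
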