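import Mathlib
import Groth.Prelude
import Groth.Agent.Helper8.RigPtA
import Groth.Agent.Helper7.SopFreeA
set_option autoImplicit false
universe u
open IsLocalRing Polynomial

/-!
An algebra topologically of finite type over a complete height-one valuation ring which is a
domain of dimension one without torsion is module-finite.
-/

namespace Groth.Agent.Helper8.RigPt

section Decomp
variable (R : Type u) [CommRing R] (t : R) (n : ℕ)

theorem map_C_fg : ((Ideal.span {t}).map
    (MvPolynomial.C : R →+* MvPolynomial (Fin n) R)).FG :=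
  Ideal.FG.map ⟨{t}, by simp⟩ _

theorem map_C_eq : (Ideal.span {t}).map (MvPolynomial.C : R →+* MvPolynomial (Fin n) R) =
    Ideal.span {MvPolynomial.C t} := by
  rw [Ideal.map_span, Set.image_singleton]

theorem algebraMap_C (r : R) :
    algebraMap (MvPolynomial (Fin n) R) (AdicRing.RPow R (Ideal.span {t}) n) (MvPolynomial.C r) =
      algebraMap R (AdicRing.RPow R (Ideal.span {t}) n) r := by
  rw [IsScalarTower.algebraMap_apply R (MvPolynomial (Fin n) R)
    (AdicRing.RPow R (Ideal.span {t}) n), MvPolynomial.algebraMap_eq]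

/-- every restricted power series is a polynomial modulo `t` -/
theorem rpow_decomp (x : AdicRing.RPow R (Ideal.span {t}) n) :
    ∃ (p : MvPolynomial (Fin n) R) (y : AdicRing.RPow R (Ideal.span {t}) n),
      x = algebraMap (MvPolynomial (Fin n) R) _ p + algebraMap R _ t * y := by
  obtain ⟨p, hp⟩ := Ideal.Quotient.mk_surjective (AdicCompletion.evalOneₐ _ x)
  have hker : x - algebraMap (MvPolynomial (Fin n) R) (AdicRing.RPow R (Ideal.span {t}) n) p ∈
      RingHom.ker (AdicCompletion.evalOneₐ ((Ideal.span {t}).map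
        (MvPolynomial.C : R →+* MvPolynomial (Fin n) R))).toRingHom := by
    rw [RingHom.mem_ker, map_sub, sub_eq_zero]
    change AdicCompletion.evalOneₐ _ x = AdicCompletion.evalOneₐ _ (AdicCompletion.of _ _ p)
    rw [AdicCompletion.evalOneₐ_of, hp]
  have hspan : Ideal.map
      (algebraMap (MvPolynomial (Fin n) R) (AdicRing.RPow R (Ideal.span {t}) n))
      ((Ideal.span {t}).map (MvPolynomial.C : R →+* MvPolynomial (Fin n) R)) =
      Ideal.span {algebraMap R (AdicRing.RPow R (Ideal.span {t}) n) t} := by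
    rw [Ideal.map_map]
    refine (Ideal.map_span _ _).trans ?_
    rw [Set.image_singleton, RingHom.comp_apply, algebraMap_C]
  rw [AdicCompletion.ker_evalOneₐ_eq_map _ (map_C_fg R t n), hspan,
    Ideal.mem_span_singleton'] at hker
  obtain ⟨y, hy⟩ := hker
  refine ⟨p, y, ?_⟩
  rw [mul_comm, hy]
  ring

theorem isUnit_t_mul_add_one (x : AdicRing.RPow R (Ideal.span {t}) n) :
    IsUnit (algebraMap R (AdicRing.RPow R (Ideal.span {t}) n) t * x + 1) := by
  haveI := AdicCompletion.isAdicComplete_self _ (map_C_fg R t n)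
  have h := IsAdicComplete.le_jacobson_bot (((Ideal.span {t}).map
    (MvPolynomial.C : R →+* MvPolynomial (Fin n) R)).map
    (algebraMap (MvPolynomial (Fin n) R) (AdicRing.RPow R (Ideal.span {t}) n)))
  have hmem : algebraMap R (AdicRing.RPow R (Ideal.span {t}) n) t ∈ (((Ideal.span {t}).map
    (MvPolynomial.C : R →+* MvPolynomial (Fin n) R)).map
    (algebraMap (MvPolynomial (Fin n) R) (AdicRing.RPow R (Ideal.span {t}) n))) := by
    rw [← algebraMap_C]
    exact Ideal.mem_map_of_mem _ (Ideal.mem_map_of_mem _ (Ideal.mem_span_singleton_self t))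
  exact Ideal.mem_jacobson_bot.1 (h hmem) x

end Decomp

section Finite
variable (R : Type u) [CommRing R] [IsDomain R] [ValuationRing R] [Ring.KrullDimLE 1 R]
  (t : R) [IsAdicComplete (Ideal.span {t}) R]
  (B : Type u) [CommRing B] [Algebra R B] [IsDomain B]

omit [IsDomain R] [ValuationRing R] [Ring.KrullDimLE 1 R] [IsAdicComplete (Ideal.span {t}) R] in
theorem t_ne_zero_of_noPowTorsion (hNT : AdicRing.NoPowTorsion (Ideal.span {t}) B) :
    algebraMap R B t ≠ 0 := by
  intro h
  have := hNT 1 1 (fun a ha => ?_)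
  · exact one_ne_zero this
  · rw [pow_one, Ideal.mem_span_singleton] at ha
    obtain ⟨c, rfl⟩ := ha
    rw [Algebra.smul_def, mul_one, map_mul, h, zero_mul]

omit [IsDomain R] [ValuationRing R] [Ring.KrullDimLE 1 R] [IsAdicComplete (Ideal.span {t}) R]
  [IsDomain B] in
theorem isUnit_tB_mul_add_one (hTF : AdicRing.TopFiniteType R (Ideal.span {t}) B) (b : B) :
    IsUnit (algebraMap R B t * b + 1) := by
  obtain ⟨n, φ, hφ⟩ := hTF
  obtain ⟨x, rfl⟩ := hφ b
  have h := (isUnit_t_mul_add_one R t n x).map φ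
  rwa [map_add, map_mul, map_one, AlgHom.commutes] at h

omit [IsDomain R] [ValuationRing R] [Ring.KrullDimLE 1 R] [IsAdicComplete (Ideal.span {t}) R] in
theorem isHausdorff_of_dim_one [Ring.KrullDimLE 1 B]
    (hjac : ∀ b : B, IsUnit (algebraMap R B t * b + 1)) (ht0 : algebraMap R B t ≠ 0) :
    IsHausdorff (Ideal.span {t}) B := by
  refine ⟨fun x hx => ?_⟩
  by_contra hx0
  set tB := algebraMap R B t with htB
  have hjac' : tB ∈ Ideal.jacobson (⊥ : Ideal B) := Ideal.mem_jacobson_bot.2 hjac
  have hrad : tB ∈ (Ideal.span {x}).radical := by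
    rw [Ideal.radical_eq_sInf, Ideal.mem_sInf]
    rintro P ⟨hP, hPp⟩
    have hne : P ≠ ⊥ := by
      rintro rfl
      exact hx0 (by simpa using hP (Ideal.mem_span_singleton_self x))
    have hmax : P.IsMaximal := hPp.isMaximal_of_ne_bot hne
    exact (sInf_le (show P ∈ {J : Ideal B | ⊥ ≤ J ∧ J.IsMaximal} from ⟨bot_le, hmax⟩)) hjac'
  obtain ⟨N, hN⟩ := hrad
  obtain ⟨b, hb⟩ := Ideal.mem_span_singleton'.1 hN
  have hx' := hx (N + 1)
  rw [SModEq.zero, Ideal.span_singleton_pow, Submodule.ideal_span_singleton_smul,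
    Submodule.mem_smul_pointwise_iff_exists] at hx'
  obtain ⟨y, -, hy⟩ := hx'
  rw [Algebra.smul_def, map_pow] at hy
  have h1 : tB ^ N * (tB * (-(y * b)) + 1) = 0 := by
    have : tB ^ N * (tB * (-(y * b)) + 1) = tB ^ N - b * (tB ^ (N + 1) * y) := by ring
    rw [this, hy, hb, sub_self]
  have h2 : tB * (-(y * b)) + 1 = 0 := by
    rcases mul_eq_zero.1 h1 with h | h
    · exact absurd h (pow_ne_zero _ ht0)
    · exact h
  have h3 := hjac (-(y * b))
  rw [h2] at h3
  exact not_isUnit_zero h3

/-- the canonical map from the polynomial ring to a quotient of `B` by an ideal containing `t` -/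
noncomputable def polyToQuot {n : ℕ} (φ : AdicRing.RPow R (Ideal.span {t}) n →ₐ[R] B)
    (I : Ideal B) : MvPolynomial (Fin n) R →ₐ[R] B ⧸ I :=
  (Ideal.Quotient.mkₐ R I).comp (φ.comp
    (IsScalarTower.toAlgHom R (MvPolynomial (Fin n) R) (AdicRing.RPow R (Ideal.span {t}) n)))

omit [IsDomain R] [ValuationRing R] [Ring.KrullDimLE 1 R] [IsAdicComplete (Ideal.span {t}) R]
  [IsDomain B] in
theorem polyToQuot_surjective {n : ℕ} (φ : AdicRing.RPow R (Ideal.span {t}) n →ₐ[R] B)
    (hφ : Function.Surjective φ) (I : Ideal B) (hI : algebraMap R B t ∈ I) :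
    Function.Surjective (polyToQuot R t B φ I) := by
  intro q
  obtain ⟨b, rfl⟩ := Ideal.Quotient.mk_surjective q
  obtain ⟨x, rfl⟩ := hφ b
  obtain ⟨p, y, rfl⟩ := rpow_decomp R t n x
  refine ⟨p, ?_⟩
  simp only [polyToQuot, AlgHom.comp_apply, IsScalarTower.coe_toAlgHom', Ideal.Quotient.mkₐ_eq_mk]
  rw [eq_comm, map_add, map_add, ← sub_eq_zero, add_sub_cancel_left, map_mul, AlgHom.commutes,
    Ideal.Quotient.eq_zero_iff_mem]
  exact Ideal.mul_mem_right _ _ hI

theorem finite_quotient_maximal [Ring.KrullDimLE 1 B]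
    (hTF : AdicRing.TopFiniteType R (Ideal.span {t}) B) (ht0 : algebraMap R B t ≠ 0) :
    Module.Finite R (B ⧸ (maximalIdeal R).map (algebraMap R B)) := by
  obtain ⟨n, φ, hφ⟩ := hTF
  have htm : algebraMap R B t ∈ (maximalIdeal R).map (algebraMap R B) :=
    Ideal.mem_map_of_mem _ (t_mem_maximalIdeal R t)
  haveI : Algebra.FiniteType R (B ⧸ (maximalIdeal R).map (algebraMap R B)) :=
    Algebra.FiniteType.of_surjective _ (polyToQuot_surjective R t B φ hφ _ htm)
  letI : Field (R ⧸ maximalIdeal R) := Ideal.Quotient.field _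
  haveI : Algebra.FiniteType (R ⧸ maximalIdeal R) (B ⧸ (maximalIdeal R).map (algebraMap R B)) :=
    Algebra.FiniteType.of_restrictScalars_finiteType R _ _
  haveI : Ring.KrullDimLE 0 (B ⧸ (maximalIdeal R).map (algebraMap R B)) := by
    refine Ring.KrullDimLE.mk₀ (fun I hI => ?_)
    have hP : (I.comap (Ideal.Quotient.mk ((maximalIdeal R).map (algebraMap R B)))).IsPrime :=
      Ideal.comap_isPrime _ _
    have hne : I.comap (Ideal.Quotient.mk ((maximalIdeal R).map (algebraMap R B))) ≠ ⊥ := by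
      intro h
      have h1 : algebraMap R B t ∈
          I.comap (Ideal.Quotient.mk ((maximalIdeal R).map (algebraMap R B))) := by
        rw [Ideal.mem_comap, Ideal.Quotient.eq_zero_iff_mem.2 htm]
        exact I.zero_mem
      rw [h, Ideal.mem_bot] at h1
      exact ht0 h1
    have hmax := hP.isMaximal_of_ne_bot hne
    have h2 := Ideal.map_eq_top_or_isMaximal_of_surjective
      (Ideal.Quotient.mk ((maximalIdeal R).map (algebraMap R B))) Ideal.Quotient.mk_surjective hmax
    rw [Ideal.map_comap_of_surjective _ Ideal.Quotient.mk_surjective] at h2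
    exact h2.resolve_left hI.ne_top
  haveI : Module.Finite (R ⧸ maximalIdeal R) (B ⧸ (maximalIdeal R).map (algebraMap R B)) :=
    (Module.finite_iff_krullDimLE_zero _ _).mpr inferInstance
  exact Module.Finite.trans (R ⧸ maximalIdeal R) _

omit [Ring.KrullDimLE 1 R] [IsAdicComplete (Ideal.span {t}) R] [IsDomain B] in
theorem exists_mul_of_mem_map (y : B) (hy : y ∈ (maximalIdeal R).map (algebraMap R B)) :
    ∃ m ∈ maximalIdeal R, ∃ b : B, y = algebraMap R B m * b := by
  rw [Ideal.map] at hy
  induction hy using Submodule.span_induction with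
  | mem y hy =>
    obtain ⟨m, hm, rfl⟩ := hy
    exact ⟨m, hm, 1, (mul_one _).symm⟩
  | zero => exact ⟨0, Ideal.zero_mem _, 0, by simp⟩
  | add y z _ _ hy hz =>
    obtain ⟨m₁, hm₁, b₁, rfl⟩ := hy
    obtain ⟨m₂, hm₂, b₂, rfl⟩ := hz
    rcases ValuationRing.dvd_total m₁ m₂ with ⟨c, rfl⟩ | ⟨c, rfl⟩
    · exact ⟨m₁, hm₁, b₁ + algebraMap R B c * b₂, by rw [map_mul]; ring⟩
    · exact ⟨m₂, hm₂, algebraMap R B c * b₁ + b₂, by rw [map_mul]; ring⟩
  | smul a y _ hy =>
    obtain ⟨m, hm, b, rfl⟩ := hy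
    exact ⟨m, hm, a * b, by rw [smul_eq_mul]; ring⟩

omit [IsDomain B] in
theorem exists_pow_mem_span (ht : t ≠ 0) (y : B)
    (hy : y ∈ (maximalIdeal R).map (algebraMap R B)) :
    ∃ N : ℕ, y ^ N ∈ (Ideal.span {t}).map (algebraMap R B) := by
  obtain ⟨m, hm, b, rfl⟩ := exists_mul_of_mem_map R B y hy
  obtain ⟨N, c, hc⟩ := exists_pow_mem R t ht m hm
  refine ⟨N, ?_⟩
  rw [mul_pow, ← map_pow, hc, map_mul, mul_assoc]
  exact Ideal.mul_mem_right _ _ (Ideal.mem_map_of_mem _ (Ideal.mem_span_singleton_self t))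

theorem finite_quotient_t (ht : t ≠ 0) [Ring.KrullDimLE 1 B]
    (hTF : AdicRing.TopFiniteType R (Ideal.span {t}) B) (ht0 : algebraMap R B t ≠ 0) :
    Module.Finite R (B ⧸ (Ideal.span {t}).map (algebraMap R B)) := by
  haveI hfinQ := finite_quotient_maximal R t B hTF ht0
  obtain ⟨n, φ, hφ⟩ := hTF
  set I := (Ideal.span {t}).map (algebraMap R B) with hI
  have htI : algebraMap R B t ∈ I := Ideal.mem_map_of_mem _ (Ideal.mem_span_singleton_self t)
  have hsurj := polyToQuot_surjective R t B φ hφ I htI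
  haveI : Algebra.FiniteType R (B ⧸ I) := Algebra.FiniteType.of_surjective _ hsurj
  -- integrality of the generators
  have hint : ∀ z : B, IsIntegral R (Ideal.Quotient.mk I z) := by
    intro z
    have h1 : IsIntegral R (Ideal.Quotient.mk ((maximalIdeal R).map (algebraMap R B)) z) :=
      Algebra.IsIntegral.isIntegral _
    obtain ⟨p, hpm, hp⟩ := h1
    have h2 : aeval z p ∈ (maximalIdeal R).map (algebraMap R B) := by
      rw [← Ideal.Quotient.eq_zero_iff_mem]
      have := Polynomial.aeval_algHom_apply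
        (Ideal.Quotient.mkₐ R ((maximalIdeal R).map (algebraMap R B))) z p
      rw [Ideal.Quotient.mkₐ_eq_mk] at this
      rw [← this]
      exact hp
    obtain ⟨N, hN⟩ := exists_pow_mem_span R t B ht _ h2
    refine ⟨p ^ N, hpm.pow N, ?_⟩
    have h3 := Polynomial.aeval_algHom_apply (Ideal.Quotient.mkₐ R I) z (p ^ N)
    rw [Ideal.Quotient.mkₐ_eq_mk] at h3
    change aeval (Ideal.Quotient.mk I z) (p ^ N) = 0
    rw [h3, map_pow, Ideal.Quotient.eq_zero_iff_mem]
    exact hN
  haveI : Algebra.IsIntegral R (B ⧸ I) := by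
    refine ⟨fun q => ?_⟩
    obtain ⟨b, rfl⟩ := Ideal.Quotient.mk_surjective q
    exact hint b
  exact Algebra.IsIntegral.finite

/-- **Finiteness**: a domain of dimension one, topologically of finite type and without
`t`-torsion over a complete height-one valuation ring, is module-finite. -/
theorem finite_of_dim_one (ht : t ≠ 0) [Ring.KrullDimLE 1 B]
    (hTF : AdicRing.TopFiniteType R (Ideal.span {t}) B)
    (hNT : AdicRing.NoPowTorsion (Ideal.span {t}) B) : Module.Finite R B := by
  have ht0 := t_ne_zero_of_noPowTorsion R t B hNT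
  have hjac := isUnit_tB_mul_add_one R t B hTF
  haveI := isHausdorff_of_dim_one R t B hjac ht0
  have hfin := finite_quotient_t R t B ht hTF ht0
  refine Groth.Agent.Helper7.SopFree.finite_of_adic R (Ideal.span {t}) B ?_
  let e1 := Submodule.quotEquivOfEq _ _ (Ideal.smul_top_eq_map (S := B) (Ideal.span {t}))
  let e2 := Submodule.Quotient.restrictScalarsEquiv R ((Ideal.span {t}).map (algebraMap R B))
  exact Module.Finite.equiv (e1.trans e2).symm

end Finite

end Groth.Agent.Helper8.RigPt
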