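import Mathlib
import Groth.Prelude
import Groth.Agent.Helper8.RigPtA
import Groth.Agent.Helper8.RigPtB
set_option autoImplicit false
universe u
open IsLocalRing Polynomial

/-!
Rig-points: an admissible algebra over a complete height-one valuation ring which is a domain
of dimension one is module-finite with valuation-ring normalization.
-/

namespace Groth.Agent.Helper8.RigPt

section Main
variable (R : Type u) [CommRing R] [IsDomain R] [ValuationRing R] [Ring.KrullDimLE 1 R]
  (t : R) [IsAdicComplete (Ideal.span {t}) R]
  (B : Type u) [CommRing B] [Algebra R B] [IsDomain B]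

theorem injective_algebraMap (ht0 : algebraMap R B t ≠ 0) :
    Function.Injective (algebraMap R B) := by
  rw [RingHom.injective_iff_ker_eq_bot]
  by_contra hne
  have hP : (RingHom.ker (algebraMap R B)).IsPrime := RingHom.ker_isPrime _
  have hmax := hP.isMaximal_of_ne_bot hne
  have h1 : t ∈ RingHom.ker (algebraMap R B) := by
    rw [IsLocalRing.eq_maximalIdeal hmax]
    exact t_mem_maximalIdeal R t
  exact ht0 h1

theorem main (ht : t ≠ 0) (hTF : AdicRing.TopFiniteType R (Ideal.span {t}) B)
    (hNT : AdicRing.NoPowTorsion (Ideal.span {t}) B) (hdim : ringKrullDim B = 1) :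
    Module.Finite R B ∧ ValuationRing (integralClosure B (FractionRing B)) := by
  haveI : Ring.KrullDimLE 1 B := Ring.krullDimLE_iff.mpr hdim.le
  haveI hfin := finite_of_dim_one R t B ht hTF hNT
  refine ⟨hfin, ?_⟩
  haveI := henselian R t ht
  haveI : Algebra.IsIntegral R B := Algebra.IsIntegral.of_finite R B
  exact valuationRing_integralClosure R B
    (injective_algebraMap R t B (t_ne_zero_of_noPowTorsion R t B hNT))

end Main

end Groth.Agent.Helper8.RigPt
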