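import Mathlib
import Groth.Prelude
import Groth.Agent.Helper8.RigPtC
import Groth.Agent.Helper5.IntegralDim
set_option autoImplicit false
universe u
open IsLocalRing Polynomial

/-!
Corollaries for rig-points: principalization of a finitely generated ideal in a finite local
extension (S13354).
-/

namespace Groth.Agent.Helper8.RigPt

section S13354
variable (R : Type u) [CommRing R] [IsDomain R] [ValuationRing R] [Ring.KrullDimLE 1 R]
  (t : R) [IsAdicComplete (Ideal.span {t}) R]
  (B : Type u) [CommRing B] [Algebra R B] [IsDomain B] [IsLocalRing B]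

theorem s13354 (ht : t ≠ 0) (hTF : AdicRing.TopFiniteType R (Ideal.span {t}) B)
    (hNT : AdicRing.NoPowTorsion (Ideal.span {t}) B) (hdim : ringKrullDim B = 1)
    (n : ℕ) (b : Fin n → B) (hb : ∃ i, b i ≠ 0) :
    ∃ B' : Subalgebra B (FractionRing B), Module.Finite B ↥B' ∧ IsLocalRing ↥B' ∧
      ringKrullDim ↥B' = 1 ∧
      ∃ i, Ideal.span (Set.range (fun j => algebraMap B ↥B' (b j))) =
        Ideal.span {algebraMap B ↥B' (b i)} := by
  classical
  obtain ⟨hfin, hval⟩ := main R t B ht hTF hNT hdim
  haveI := hfin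
  haveI := hval
  haveI := henselian R t ht
  haveI hBh : HenselianLocalRing B := Groth.Agent.Helper3.HensLocal.finite_local R B
  set L := FractionRing B with hL
  set V := integralClosure B L with hV
  let β : Fin n → V := fun j => algebraMap B V (b j)
  obtain ⟨i₀, hi₀⟩ := hb
  obtain ⟨s, -, hs⟩ := exists_dvd_all β Finset.univ ⟨i₀, Finset.mem_univ _⟩
  have hs' : ∀ j, ∃ c : V, β j = β s * c := fun j => hs j (Finset.mem_univ _)
  choose c hc using hs'
  refine ⟨Algebra.adjoin B (Set.range fun j => ((c j : V) : L)), ?_, ?_, ?_, s, ?_⟩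
  · exact Module.Finite.iff_fg.mpr (fg_adjoin_of_finite (Set.finite_range _)
      (by rintro _ ⟨j, rfl⟩; exact (c j).2))
  · haveI : Module.Finite B ↥(Algebra.adjoin B (Set.range fun j => ((c j : V) : L))) :=
      Module.Finite.iff_fg.mpr (fg_adjoin_of_finite (Set.finite_range _)
        (by rintro _ ⟨j, rfl⟩; exact (c j).2))
    haveI : Algebra.IsIntegral B ↥(Algebra.adjoin B (Set.range fun j => ((c j : V) : L))) :=
      Algebra.IsIntegral.of_finite B _
    exact Groth.Agent.Helper2.Unibr1.isLocalRing_of_isIntegral_of_isDomain B _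
  · haveI : Module.Finite B ↥(Algebra.adjoin B (Set.range fun j => ((c j : V) : L))) :=
      Module.Finite.iff_fg.mpr (fg_adjoin_of_finite (Set.finite_range _)
        (by rintro _ ⟨j, rfl⟩; exact (c j).2))
    haveI : Algebra.IsIntegral B ↥(Algebra.adjoin B (Set.range fun j => ((c j : V) : L))) :=
      Algebra.IsIntegral.of_finite B _
    rw [Groth.Agent.Helper5.IntegralDim.ringKrullDim_eq_of_isIntegral_of_injective
      (R := B) (S := ↥(Algebra.adjoin B (Set.range fun j => ((c j : V) : L)))) ?_, hdim]
    intro x y hxy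
    have := congrArg (Subtype.val) hxy
    exact IsFractionRing.injective B L this
  · apply le_antisymm
    · rw [Ideal.span_le]
      rintro _ ⟨j, rfl⟩
      rw [SetLike.mem_coe, Ideal.mem_span_singleton']
      refine ⟨⟨(c j : L), Algebra.subset_adjoin ⟨j, rfl⟩⟩, ?_⟩
      apply Subtype.ext
      have h1 := congrArg (fun v : V => (v : L)) (hc j)
      simp only [β] at h1
      rw [mul_comm]
      exact h1.symm
    · exact Ideal.span_mono (Set.singleton_subset_iff.2 ⟨s, rfl⟩)

end S13354

end Groth.Agent.Helper8.RigPt
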