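import Mathlib
import Groth.Prelude
import Groth.Agent.Helper8.RigPtC
set_option autoImplicit false
universe u
open IsLocalRing Polynomial IntermediateField

/-!
Integrality over a complete height-one valuation ring is detected by the norm (S11544).
-/

namespace Groth.Agent.Helper8.RigPt

section S11544
variable (R : Type u) [CommRing R] [IsDomain R] [ValuationRing R] [Ring.KrullDimLE 1 R]
  (t : R) [IsAdicComplete (Ideal.span {t}) R]
  (L : Type u) [Field L] [Algebra R L] [Algebra (FractionRing R) L]
  [IsScalarTower R (FractionRing R) L] [Algebra.IsAlgebraic (FractionRing R) L]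

theorem s11544 (ht : t ≠ 0) (α : L) :
    IsIntegral R α ↔
      Algebra.norm (FractionRing R) (IntermediateField.AdjoinSimple.gen (FractionRing R) α) ∈
        (algebraMap R (FractionRing R)).range := by
  classical
  have hαK : IsIntegral (FractionRing R) α := (Algebra.IsAlgebraic.isAlgebraic α).isIntegral
  haveI : FiniteDimensional (FractionRing R) (FractionRing R)⟮α⟯ :=
    IntermediateField.adjoin.finiteDimensional hαK
  have hval : ((AdjoinSimple.gen (FractionRing R) α : (FractionRing R)⟮α⟯) : L) = α :=
    AdjoinSimple.coe_gen _ _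
  haveI : IsScalarTower R (FractionRing R)⟮α⟯ L := IsScalarTower.of_algebraMap_eq (fun x => rfl)
  constructor
  · intro hα
    have hg : IsIntegral R (AdjoinSimple.gen (FractionRing R) α) := by
      refine (isIntegral_algHom_iff (IsScalarTower.toAlgHom R (FractionRing R)⟮α⟯ L)
        Subtype.val_injective).1 ?_
      simpa [hval] using hα
    have h1 := Algebra.isIntegral_norm (FractionRing R) hg
    obtain ⟨r, hr⟩ := IsIntegrallyClosed.isIntegral_iff.1 h1
    exact ⟨r, hr⟩
  · rintro ⟨r, hr⟩
    haveI := henselian R t ht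
    have hinjF : Function.Injective (algebraMap R (FractionRing R)⟮α⟯) := by
      rw [IsScalarTower.algebraMap_eq R (FractionRing R) (FractionRing R)⟮α⟯]
      exact (algebraMap (FractionRing R) (FractionRing R)⟮α⟯).injective.comp
        (IsFractionRing.injective R (FractionRing R))
    haveI hloc : IsLocalRing (integralClosure R (FractionRing R)⟮α⟯) :=
      Groth.Agent.Helper2.Unibr1.isLocalRing_of_isIntegral_of_isDomain R _
    have halg : ∀ x : (FractionRing R)⟮α⟯, IsAlgebraic R x := fun x =>
      (IsFractionRing.isAlgebraic_iff R (FractionRing R) (FractionRing R)⟮α⟯).2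
        (Algebra.IsAlgebraic.isAlgebraic x)
    suffices hgS : IsIntegral R (AdjoinSimple.gen (FractionRing R) α) by
      have := hgS.map (IsScalarTower.toAlgHom R (FractionRing R)⟮α⟯ L)
      simpa [hval] using this
    rcases mem_or_inv_mem R (FractionRing R)⟮α⟯ hinjF hloc _ (halg _) with h | h
    · exact h
    · by_cases hg0 : AdjoinSimple.gen (FractionRing R) α = 0
      · rw [hg0]; exact isIntegral_zero
      set g := AdjoinSimple.gen (FractionRing R) α with hg
      have hh : IsIntegral R g⁻¹ := h
      have hhK : IsIntegral (FractionRing R) g⁻¹ := hh.tower_top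
      have hq : minpoly (FractionRing R) g⁻¹ =
          (minpoly R g⁻¹).map (algebraMap R (FractionRing R)) :=
        minpoly.isIntegrallyClosed_eq_field_fractions' (FractionRing R) hh
      have hN : ∃ (d e : ℕ), e ≠ 0 ∧ Algebra.norm (FractionRing R) g⁻¹ =
          ((-1) ^ d * algebraMap R (FractionRing R) ((minpoly R g⁻¹).coeff 0)) ^ e := by
        refine ⟨(IntermediateField.adjoin.powerBasis hhK).dim,
          Module.finrank (FractionRing R)⟮g⁻¹⟯ (FractionRing R)⟮α⟯, ?_, ?_⟩
        · haveI : FiniteDimensional (FractionRing R)⟮g⁻¹⟯ (FractionRing R)⟮α⟯ :=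
            FiniteDimensional.right (FractionRing R) _ _
          exact Module.finrank_pos.ne'
        · rw [Algebra.norm_eq_norm_adjoin (FractionRing R) g⁻¹]
          have hpb := Algebra.PowerBasis.norm_gen_eq_coeff_zero_minpoly
            (IntermediateField.adjoin.powerBasis hhK)
          rw [IntermediateField.adjoin.powerBasis_gen, IntermediateField.minpoly_gen, hq,
            coeff_map] at hpb
          rw [hpb]
      obtain ⟨d, e, he, hNe⟩ := hN
      have h1 : Algebra.norm (FractionRing R) g⁻¹ * Algebra.norm (FractionRing R) g = 1 := by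
        rw [← map_mul, inv_mul_cancel₀ hg0, map_one]
      have h2 : ((-1) ^ d * (minpoly R g⁻¹).coeff 0) ^ e * r = 1 := by
        apply IsFractionRing.injective R (FractionRing R)
        rw [map_mul, map_pow, map_mul, map_pow, map_neg, map_one, hr, ← hNe]
        exact h1
      have hunit : IsUnit ((minpoly R g⁻¹).coeff 0) := by
        have h3 : IsUnit (((-1) ^ d * (minpoly R g⁻¹).coeff 0) ^ e) := .of_mul_eq_one _ h2
        rw [isUnit_pow_iff he] at h3
        exact (IsUnit.mul_iff.1 h3).2
      obtain ⟨u, hu⟩ := hunit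
      have hrel : aeval g⁻¹ (divX (minpoly R g⁻¹)) * g⁻¹ +
          algebraMap R (FractionRing R)⟮α⟯ ((minpoly R g⁻¹).coeff 0) = 0 := by
        have h4 := congrArg (aeval g⁻¹) (divX_mul_X_add (minpoly R g⁻¹))
        rw [minpoly.aeval, map_add, map_mul, aeval_X, aeval_C] at h4
        exact h4
      have hgeq : g = - (algebraMap R (FractionRing R)⟮α⟯ (↑u⁻¹ : R) *
          aeval g⁻¹ (divX (minpoly R g⁻¹))) := by
        have h5 : aeval g⁻¹ (divX (minpoly R g⁻¹)) =
            - (algebraMap R (FractionRing R)⟮α⟯ ((minpoly R g⁻¹).coeff 0) * g) := by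
          have h6 : aeval g⁻¹ (divX (minpoly R g⁻¹)) =
              (aeval g⁻¹ (divX (minpoly R g⁻¹)) * g⁻¹) * g := by
            rw [mul_assoc, inv_mul_cancel₀ hg0, mul_one]
          rw [h6, eq_neg_of_add_eq_zero_left hrel]
          ring
        rw [h5, ← hu, mul_neg, neg_neg, ← mul_assoc, ← map_mul, Units.inv_mul, map_one, one_mul]
      rw [hgeq]
      refine IsIntegral.neg (IsIntegral.mul isIntegral_algebraMap ?_)
      have h7 := Polynomial.aeval_subalgebra_coe (divX (minpoly R g⁻¹))
        (integralClosure R (FractionRing R)⟮α⟯) ⟨g⁻¹, hh⟩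
      rw [← h7]
      exact (aeval (⟨g⁻¹, hh⟩ : integralClosure R (FractionRing R)⟮α⟯)
        (divX (minpoly R g⁻¹))).2

end S11544

end Groth.Agent.Helper8.RigPt
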