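import Mathlib
import Groth.Prelude
import Groth.Agent.Helper8.RigPtC
set_option autoImplicit false
universe u
open IsLocalRing Polynomial

/-!
Complete localizations mapping onto a rig-point algebra (S11542).
-/

namespace Groth.Agent.Helper8.RigPt

section Dense

theorem span_map_fg {R : Type*} [CommRing R] (t : R) {S : Type*} [CommRing S] (φ : R →+* S) :
    ((Ideal.span {t}).map φ).FG :=
  Ideal.FG.map ⟨{t}, by simp⟩ _

/-- every element of the `t`-adic completion of `S` is an element of `S` modulo `t` -/
theorem adic_decomp (R : Type*) [CommRing R] (t : R) (S : Type*) [CommRing S] [Algebra R S]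
    (x : AdicCompletion ((Ideal.span {t}).map (algebraMap R S)) S) :
    ∃ (y : S) (x' : AdicCompletion ((Ideal.span {t}).map (algebraMap R S)) S),
      x = algebraMap S _ y + algebraMap R _ t * x' := by
  obtain ⟨p, hp⟩ := Ideal.Quotient.mk_surjective (AdicCompletion.evalOneₐ _ x)
  have hker : x - algebraMap S (AdicCompletion ((Ideal.span {t}).map (algebraMap R S)) S) p ∈
      RingHom.ker (AdicCompletion.evalOneₐ ((Ideal.span {t}).map (algebraMap R S))).toRingHom := by
    rw [RingHom.mem_ker, map_sub, sub_eq_zero]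
    change AdicCompletion.evalOneₐ _ x = AdicCompletion.evalOneₐ _ (AdicCompletion.of _ _ p)
    rw [AdicCompletion.evalOneₐ_of, hp]
  have hspan : Ideal.map
      (algebraMap S (AdicCompletion ((Ideal.span {t}).map (algebraMap R S)) S))
      ((Ideal.span {t}).map (algebraMap R S)) =
      Ideal.span {algebraMap R (AdicCompletion ((Ideal.span {t}).map (algebraMap R S)) S) t} := by
    rw [Ideal.map_map]
    refine (Ideal.map_span _ _).trans ?_
    rw [Set.image_singleton, RingHom.comp_apply]
    rfl
  rw [AdicCompletion.ker_evalOneₐ_eq_map _ (span_map_fg t _), hspan,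
    Ideal.mem_span_singleton'] at hker
  obtain ⟨y, hy⟩ := hker
  refine ⟨p, y, ?_⟩
  rw [mul_comm, hy]
  ring

/-- if `x` is a unit whose inverse is integral, the inverse is a polynomial in `x` -/
theorem mem_adjoin_of_isIntegral_of_mul_eq_one {R B : Type*} [CommRing R] [CommRing B]
    [Algebra R B] (x y : B) (hxy : x * y = 1) (hy : IsIntegral R y) :
    y ∈ Algebra.adjoin R {x} := by
  obtain ⟨p, hp, hpy⟩ := hy
  letI : Invertible y := ⟨x, hxy, by rw [mul_comm]; exact hxy⟩
  have hinv : ⅟y = x := rfl
  have h1 := Polynomial.eval₂_reverse_mul_pow (algebraMap R B) y p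
  rw [hpy, hinv] at h1
  have h2 : eval₂ (algebraMap R B) x p.reverse = 0 := by
    have h3 := congrArg (· * x ^ p.natDegree) h1
    simp only [zero_mul, mul_assoc] at h3
    rwa [← mul_pow, mul_comm y x, hxy, one_pow, mul_one] at h3
  have h4 := congrArg (eval₂ (algebraMap R B) x) (divX_mul_X_add p.reverse)
  rw [h2, eval₂_add, eval₂_mul, eval₂_X, eval₂_C, coeff_zero_reverse, hp.leadingCoeff,
    map_one] at h4
  have h5 : y = - eval₂ (algebraMap R B) x (divX p.reverse) := by
    have h6 : eval₂ (algebraMap R B) x (divX p.reverse) * (x * y) = - y := by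
      rw [← mul_assoc, eq_neg_of_add_eq_zero_left h4]; ring
    rw [hxy, mul_one] at h6
    rw [h6, neg_neg]
  rw [h5]
  exact Subalgebra.neg_mem _ (Polynomial.aeval_mem_adjoin_singleton R x)

theorem eq_top_of_dense (R : Type*) [CommRing R] (t : R) (ht : t ∈ Ideal.jacobson (⊥ : Ideal R))
    (B : Type*) [AddCommGroup B] [Module R B] [Module.Finite R B] (N : Submodule R B)
    (h : ∀ b : B, ∃ n ∈ N, ∃ b' : B, b = n + t • b') : N = ⊤ := by
  rw [eq_top_iff]
  refine Submodule.le_of_le_smul_of_le_jacobson_bot (I := Ideal.span {t}) Module.Finite.fg_top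
    ((Ideal.span_singleton_le_iff_mem _).2 ht) ?_
  intro b _
  obtain ⟨n, hn, b', rfl⟩ := h b
  exact Submodule.add_mem_sup hn
    (Submodule.smul_mem_smul (Ideal.mem_span_singleton_self t) Submodule.mem_top)

end Dense

section S11542
variable (R : Type u) [CommRing R] (t : R) [IsAdicComplete (Ideal.span {t}) R]
  (A : Type u) [CommRing A] [Algebra R A] (f : A)
  (B : Type u) [CommRing B] [Algebra R B]

theorem s11542 [Module.Finite R B]
    (u : AdicRing.CLoc (Ideal.span {t}) f →ₐ[R] B) (hu : Function.Surjective u) :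
    Function.Surjective
      (u.toRingHom.comp (algebraMap A (AdicRing.CLoc (Ideal.span {t}) f))) := by
  set ψ : A →+* B := u.toRingHom.comp (algebraMap A (AdicRing.CLoc (Ideal.span {t}) f)) with hψ
  have hψa : ∀ a : A, ψ a = u (algebraMap A (AdicRing.CLoc (Ideal.span {t}) f) a) := fun a => rfl
  have hcomm : ∀ r : R, ψ (algebraMap R A r) = algebraMap R B r := by
    intro r
    have h0 : algebraMap A (AdicRing.CLoc (Ideal.span {t}) f) (algebraMap R A r) =
        algebraMap R (AdicRing.CLoc (Ideal.span {t}) f) r := by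
      rw [AdicCompletion.algebraMap_apply, AdicCompletion.algebraMap_apply,
        ← IsScalarTower.algebraMap_apply]
    rw [hψa, h0]
    exact u.commutes r
  let ψ' : A →ₐ[R] B := { ψ with commutes' := hcomm }
  have hψ' : ∀ a : A, ψ' a = ψ a := fun a => rfl
  have hunit : IsUnit (ψ f) := by
    have h1 : IsUnit (algebraMap A (Localization.Away f) f) :=
      IsLocalization.Away.algebraMap_isUnit f
    have h2 := (h1.map (algebraMap (Localization.Away f)
      (AdicRing.CLoc (Ideal.span {t}) f))).map u
    exact h2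
  obtain ⟨v, hv⟩ := hunit.exists_right_inv
  have hvint : IsIntegral R v := Algebra.IsIntegral.isIntegral v
  have hvmem : v ∈ ψ'.range := by
    have h3 := mem_adjoin_of_isIntegral_of_mul_eq_one (ψ f) v hv hvint
    exact (Algebra.adjoin_le (Set.singleton_subset_iff.2
      (show ψ f ∈ (ψ'.range : Set B) from ⟨f, rfl⟩))) h3
  have hloc : ∀ y : Localization.Away f,
      u (algebraMap _ (AdicRing.CLoc (Ideal.span {t}) f) y) ∈ ψ'.range := by
    intro y
    obtain ⟨a, ⟨_, k, rfl⟩, rfl⟩ := IsLocalization.exists_mk'_eq (Submonoid.powers f) y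
    have h4 : u (algebraMap _ (AdicRing.CLoc (Ideal.span {t}) f)
        (IsLocalization.mk' (Localization.Away f) a (⟨f ^ k, k, rfl⟩ : Submonoid.powers f))) *
        ψ f ^ k = ψ a := by
      have key : ∀ x : A, algebraMap A (AdicRing.CLoc (Ideal.span {t}) f) x =
          algebraMap (Localization.Away f) (AdicRing.CLoc (Ideal.span {t}) f)
            (algebraMap A (Localization.Away f) x) := fun x => rfl
      have h0 : algebraMap (Localization.Away f) (AdicRing.CLoc (Ideal.span {t}) f)
          (IsLocalization.mk' (Localization.Away f) a (⟨f ^ k, k, rfl⟩ : Submonoid.powers f)) *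
          algebraMap A (AdicRing.CLoc (Ideal.span {t}) f) f ^ k =
          algebraMap A (AdicRing.CLoc (Ideal.span {t}) f) a := by
        rw [← map_pow (algebraMap A (AdicRing.CLoc (Ideal.span {t}) f)), key, key, ← map_mul,
          IsLocalization.mk'_spec]
      rw [hψa, hψa, ← map_pow, ← map_mul, h0]
    have h5 : u (algebraMap _ (AdicRing.CLoc (Ideal.span {t}) f)
        (IsLocalization.mk' (Localization.Away f) a (⟨f ^ k, k, rfl⟩ : Submonoid.powers f))) =
        ψ a * v ^ k := by
      rw [← h4, mul_assoc, ← mul_pow, hv, one_pow, mul_one]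
    rw [h5]
    exact ψ'.range.mul_mem ⟨a, rfl⟩ (ψ'.range.pow_mem hvmem k)
  have htop : Subalgebra.toSubmodule ψ'.range = ⊤ := by
    apply eq_top_of_dense R t
      (IsAdicComplete.le_jacobson_bot (Ideal.span {t}) (Ideal.mem_span_singleton_self t)) B
    intro b
    obtain ⟨x, rfl⟩ := hu b
    obtain ⟨y, x', rfl⟩ := adic_decomp R t (Localization.Away f) x
    refine ⟨u (algebraMap _ _ y), hloc y, u x', ?_⟩
    rw [map_add, map_mul, AlgHom.commutes, Algebra.smul_def]
  intro b
  have hb : b ∈ Subalgebra.toSubmodule ψ'.range := htop ▸ Submodule.mem_top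
  obtain ⟨a, ha⟩ := hb
  exact ⟨a, ha⟩

end S11542

end Groth.Agent.Helper8.RigPt
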