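import Mathlib
import Groth.Prelude
import Groth.Agent.Helper8.RigPtC
import Groth.Agent.Helper8.RigPtF
import Groth.Agent.Helper5.IntegralDim
set_option autoImplicit false
universe u
open IsLocalRing Polynomial

/-!
The image of an admissible algebra in a rig-point algebra is a rig-point algebra (S11547).
-/

namespace Groth.Agent.Helper8.RigPt

theorem isHausdorff_of_injective {R : Type*} [CommRing R] (I : Ideal R) {M N : Type*}
    [AddCommGroup M] [Module R M] [AddCommGroup N] [Module R N] (f : M →ₗ[R] N)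
    (hf : Function.Injective f) [IsHausdorff I N] : IsHausdorff I M := by
  refine ⟨fun x hx => hf ?_⟩
  rw [map_zero]
  apply IsHausdorff.haus' (I := I)
  intro n
  have h1 := hx n
  rw [SModEq.zero] at h1 ⊢
  have h2 : Submodule.map f (I ^ n • ⊤) ≤ I ^ n • ⊤ := by
    rw [Submodule.map_smul'']
    exact Submodule.smul_mono le_rfl le_top
  exact h2 ⟨x, h1, rfl⟩

section S11547
variable (R : Type u) [CommRing R] [IsDomain R] [ValuationRing R] [Ring.KrullDimLE 1 R]
  (t : R) [IsAdicComplete (Ideal.span {t}) R]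

/-- the kernel of a surjection from restricted power series onto a finite torsion-free domain
is finitely generated -/
theorem ker_fg (C : Type u) [CommRing C] [Algebra R C] [IsDomain C]
    [Module.Finite R C] (hinj : Function.Injective (algebraMap R C))
    {n : ℕ} (χ : AdicRing.RPow R (Ideal.span {t}) n →ₐ[R] C) (hχ : Function.Surjective χ) :
    (RingHom.ker χ.toRingHom).FG := by
  classical
  -- `C` is finite free, hence a finitely presented algebra
  haveI : Module.Flat R C := by
    rw [Module.Flat.flat_iff_torsion_eq_bot_of_isBezout, eq_bot_iff]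
    intro x hx
    rw [Submodule.mem_torsion_iff] at hx
    obtain ⟨a, ha⟩ := hx
    rw [Submodule.mem_bot]
    rw [Submonoid.smul_def, Algebra.smul_def] at ha
    rcases mul_eq_zero.1 ha with h | h
    · exact absurd ((map_eq_zero_iff _ hinj).1 h) (nonZeroDivisors.ne_zero a.2)
    · exact h
  haveI : Module.Free R C := Module.free_of_flat_of_isLocalRing
  haveI : Module.FinitePresentation R C := Module.finitePresentation_of_projective R C
  haveI : Algebra.FinitePresentation R C := inferInstance
  let π : MvPolynomial (Fin n) R →ₐ[R] C := χ.comp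
    (IsScalarTower.toAlgHom R (MvPolynomial (Fin n) R) (AdicRing.RPow R (Ideal.span {t}) n))
  have hπa : ∀ p, π p = χ (algebraMap (MvPolynomial (Fin n) R)
    (AdicRing.RPow R (Ideal.span {t}) n) p) := fun p => rfl
  have hπ : Function.Surjective π := by
    have htop : Subalgebra.toSubmodule π.range = ⊤ := by
      apply eq_top_of_dense R t
        (IsAdicComplete.le_jacobson_bot _ (Ideal.mem_span_singleton_self t)) C
      intro c
      obtain ⟨x, rfl⟩ := hχ c
      obtain ⟨p, y, rfl⟩ := rpow_decomp R t n x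
      refine ⟨π p, ⟨p, rfl⟩, χ y, ?_⟩
      rw [map_add, map_mul, AlgHom.commutes, Algebra.smul_def, hπa]
    intro c
    have hc : c ∈ Subalgebra.toSubmodule π.range := htop ▸ Submodule.mem_top
    exact hc
  have hfg : (RingHom.ker π.toRingHom).FG :=
    Algebra.FinitePresentation.ker_fG_of_surjective π hπ
  obtain ⟨G, hG⟩ := hfg
  have hdecomp : ∀ k ∈ RingHom.ker χ.toRingHom, ∃ a ∈ RingHom.ker π.toRingHom,
      ∃ k' ∈ RingHom.ker χ.toRingHom,
      k = algebraMap (MvPolynomial (Fin n) R) (AdicRing.RPow R (Ideal.span {t}) n) a +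
        algebraMap R (AdicRing.RPow R (Ideal.span {t}) n) t * k' := by
    intro k hk
    obtain ⟨p, x', rfl⟩ := rpow_decomp R t n k
    have h1 : π p + algebraMap R C t * χ x' = 0 := by
      have h0 : χ (algebraMap (MvPolynomial (Fin n) R) (AdicRing.RPow R (Ideal.span {t}) n) p +
          algebraMap R (AdicRing.RPow R (Ideal.span {t}) n) t * x') = 0 := hk
      rw [map_add, map_mul, AlgHom.commutes] at h0
      exact h0
    obtain ⟨p', hp'⟩ := hπ (χ x')
    refine ⟨p + MvPolynomial.C t * p', ?_, x' - algebraMap _ _ p', ?_, ?_⟩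
    · change π (p + MvPolynomial.C t * p') = 0
      rw [map_add, map_mul, hp']
      have h2 : π (MvPolynomial.C t) = algebraMap R C t := by
        have := π.commutes t
        rwa [MvPolynomial.algebraMap_eq] at this
      rw [h2]
      exact h1
    · change χ (x' - algebraMap _ _ p') = 0
      rw [map_sub, sub_eq_zero, ← hπa]
      exact hp'.symm
    · rw [map_add, map_mul, algebraMap_C]
      ring
  set K := RingHom.ker χ.toRingHom with hK
  set I' : Ideal (AdicRing.RPow R (Ideal.span {t}) n) := ((Ideal.span {t}).map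
    (MvPolynomial.C : R →+* MvPolynomial (Fin n) R)).map
    (algebraMap (MvPolynomial (Fin n) R) (AdicRing.RPow R (Ideal.span {t}) n)) with hI'
  haveI : IsAdicComplete I' (AdicRing.RPow R (Ideal.span {t}) n) :=
    AdicCompletion.isAdicComplete_self _ (map_C_fg R t n)
  haveI : IsHausdorff I' K :=
    isHausdorff_of_injective I' (Submodule.subtype K) Subtype.val_injective
  have htI' : algebraMap R (AdicRing.RPow R (Ideal.span {t}) n) t ∈ I' := by
    rw [← algebraMap_C]
    exact Ideal.mem_map_of_mem _ (Ideal.mem_map_of_mem _ (Ideal.mem_span_singleton_self t))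
  have hGK : ∀ g ∈ G, algebraMap (MvPolynomial (Fin n) R)
      (AdicRing.RPow R (Ideal.span {t}) n) g ∈ K := by
    intro g hg
    have h1 : g ∈ RingHom.ker π.toRingHom := hG ▸ Ideal.subset_span hg
    exact h1
  let gens : ((G : Set (MvPolynomial (Fin n) R)) : Type u) → K :=
    fun g => ⟨algebraMap _ _ g.1, hGK g.1 g.2⟩
  let W : Submodule (AdicRing.RPow R (Ideal.span {t}) n) K := Submodule.span _ (Set.range gens)
  have hspanW : ∀ a ∈ Ideal.span (G : Set (MvPolynomial (Fin n) R)), ∃ w ∈ W,
      ((w : K) : AdicRing.RPow R (Ideal.span {t}) n) = algebraMap _ _ a := by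
    intro a ha
    induction ha using Submodule.span_induction with
    | mem g hg => exact ⟨gens ⟨g, hg⟩, Submodule.subset_span ⟨⟨g, hg⟩, rfl⟩, rfl⟩
    | zero => exact ⟨0, W.zero_mem, by simp⟩
    | add a b _ _ iha ihb =>
      obtain ⟨w₁, hw₁, h₁⟩ := iha
      obtain ⟨w₂, hw₂, h₂⟩ := ihb
      exact ⟨w₁ + w₂, W.add_mem hw₁ hw₂, by rw [map_add, ← h₁, ← h₂]; rfl⟩
    | smul p a _ iha =>
      obtain ⟨w, hw, h⟩ := iha
      refine ⟨algebraMap _ (AdicRing.RPow R (Ideal.span {t}) n) p • w, W.smul_mem _ hw, ?_⟩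
      rw [smul_eq_mul, map_mul, ← h]
      rfl
  have hsup : W ⊔ (I' • ⊤ : Submodule (AdicRing.RPow R (Ideal.span {t}) n) K) = ⊤ := by
    rw [eq_top_iff]
    rintro ⟨k, hk⟩ -
    obtain ⟨a, ha, k', hk', rfl⟩ := hdecomp k hk
    obtain ⟨w, hw, hwa⟩ := hspanW a (hG ▸ ha)
    have h1 : (⟨_, hk⟩ : K) = w + (algebraMap R (AdicRing.RPow R (Ideal.span {t}) n) t) •
        (⟨k', hk'⟩ : K) := by
      apply Subtype.ext
      simp only [Submodule.coe_add, Submodule.coe_smul, smul_eq_mul, hwa]
    rw [h1]
    exact Submodule.add_mem_sup hw (Submodule.smul_mem_smul htI' Submodule.mem_top)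
  haveI : Module.Finite (AdicRing.RPow R (Ideal.span {t}) n) W :=
    Module.Finite.span_of_finite _ (Set.finite_range gens)
  have hfinQ : Module.Finite (AdicRing.RPow R (Ideal.span {t}) n)
      (K ⧸ (I' • ⊤ : Submodule (AdicRing.RPow R (Ideal.span {t}) n) K)) := by
    refine Module.Finite.of_surjective ((Submodule.mkQ _).comp W.subtype) ?_
    intro q
    obtain ⟨k, rfl⟩ := Submodule.Quotient.mk_surjective _ q
    have hk : k ∈ W ⊔ (I' • ⊤ : Submodule (AdicRing.RPow R (Ideal.span {t}) n) K) := by
      rw [hsup]; exact Submodule.mem_top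
    obtain ⟨w, hw, i, hi, rfl⟩ := Submodule.mem_sup.1 hk
    refine ⟨⟨w, hw⟩, ?_⟩
    simp only [LinearMap.comp_apply, Submodule.subtype_apply, Submodule.mkQ_apply]
    rw [Submodule.Quotient.mk_add, (Submodule.Quotient.mk_eq_zero _).2 hi, add_zero]
  have hfinK := Groth.Agent.Helper7.SopFree.finite_of_adic _ I' K hfinQ
  exact Module.Finite.iff_fg.1 hfinK

theorem s11547 (ht : t ≠ 0)
    (A : Type u) [CommRing A] [Algebra R A] (hA : AdicRing.TopFiniteType R (Ideal.span {t}) A)
    (A' : Type u) [CommRing A'] [Algebra R A'] (φ : A →ₐ[R] A')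
    (B' : Type u) [CommRing B'] [Algebra R B'] [IsDomain B']
    (hTF' : AdicRing.TopFiniteType R (Ideal.span {t}) B')
    (hNT' : AdicRing.NoPowTorsion (Ideal.span {t}) B') (hdim : ringKrullDim B' = 1)
    (u' : A' →ₐ[R] B') :
    AdicRing.Admissible R (Ideal.span {t}) ((u'.comp φ).range) ∧
      IsLocalRing ((u'.comp φ).range) ∧ ringKrullDim ((u'.comp φ).range) = 1 := by
  obtain ⟨n, φA, hφA⟩ := hA
  let χ : AdicRing.RPow R (Ideal.span {t}) n →ₐ[R] (u'.comp φ).range :=
    ((u'.comp φ).rangeRestrict).comp φA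
  have hχ : Function.Surjective χ := (AlgHom.rangeRestrict_surjective _).comp hφA
  haveI : Ring.KrullDimLE 1 B' := Ring.krullDimLE_iff.mpr hdim.le
  haveI hfinB' := finite_of_dim_one R t B' ht hTF' hNT'
  have ht0 : algebraMap R B' t ≠ 0 := t_ne_zero_of_noPowTorsion R t B' hNT'
  have hinjB' := injective_algebraMap R t B' ht0
  have hNTC : AdicRing.NoPowTorsion (Ideal.span {t}) (u'.comp φ).range := by
    intro x m hx
    apply Subtype.ext
    apply hNT' (x : B') m
    intro a ha
    have := congrArg Subtype.val (hx a ha)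
    simpa using this
  haveI : Algebra.IsIntegral R B' := Algebra.IsIntegral.of_finite R B'
  haveI : Algebra.IsIntegral (u'.comp φ).range B' := Algebra.IsIntegral.tower_top R
  have hdimC : ringKrullDim (u'.comp φ).range = 1 := by
    rw [← hdim]
    exact (Groth.Agent.Helper5.IntegralDim.ringKrullDim_eq_of_isIntegral_of_injective
      (R := (u'.comp φ).range) (S := B') Subtype.val_injective).symm
  haveI : Ring.KrullDimLE 1 (u'.comp φ).range := Ring.krullDimLE_iff.mpr hdimC.le
  haveI hfinC : Module.Finite R (u'.comp φ).range :=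
    finite_of_dim_one R t (u'.comp φ).range ht ⟨n, χ, hχ⟩ hNTC
  haveI := henselian R t ht
  haveI : Algebra.IsIntegral R (u'.comp φ).range := Algebra.IsIntegral.of_finite R _
  have hloc : IsLocalRing (u'.comp φ).range :=
    Groth.Agent.Helper2.Unibr1.isLocalRing_of_isIntegral_of_isDomain R _
  have hinjC : Function.Injective (algebraMap R (u'.comp φ).range) :=
    fun x y h => hinjB' (congrArg Subtype.val h)
  exact ⟨⟨⟨n, χ, hχ, ker_fg R t _ hinjC χ hχ⟩, hNTC⟩, hloc, hdimC⟩

end S11547

end Groth.Agent.Helper8.RigPt
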