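import Mathlib
import Groth.Prelude
import Groth.Agent.Helper8.RigPtC
import Groth.Agent.Helper8.RigPtF
import Groth.Agent.Helper8.RigPtG
import Groth.Agent.Helper5.IntegralDim
import Groth.Agent.Helper1.RestrictedPS
set_option autoImplicit false
universe u
open IsLocalRing Polynomial

/-!
Closed points of the special fibre of the formal affine space are specializations of
rig-points (S11548).
-/

namespace Groth.Agent.Helper8.RigPt

section Complete

theorem isPrecomplete_of_finite (R : Type u) [CommRing R] (I : Ideal R) [IsPrecomplete I R]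
    (M : Type u) [AddCommGroup M] [Module R M] [Module.Finite R M] : IsPrecomplete I M := by
  classical
  obtain ⟨N, f, hf⟩ := Module.Finite.exists_fin' R M
  haveI : IsPrecomplete I (Fin N → R) := Groth.Agent.Helper7.SopFree.isPrecomplete_pi I
  rw [← AdicCompletion.of_surjective_iff]
  intro y
  obtain ⟨x, rfl⟩ := AdicCompletion.map_surjective I hf y
  obtain ⟨x₀, rfl⟩ := AdicCompletion.of_surjective I (Fin N → R) x
  exact ⟨f x₀, (AdicCompletion.map_of I f x₀).symm⟩

variable (R : Type u) [CommRing R] [IsDomain R] [ValuationRing R] [Ring.KrullDimLE 1 R]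
  (t : R) [IsAdicComplete (Ideal.span {t}) R]

theorem isAdicComplete_of_finite_domain (ht : t ≠ 0) (D : Type u) [CommRing D] [IsDomain D]
    [Algebra R D] [Module.Finite R D] (hinj : Function.Injective (algebraMap R D)) :
    IsAdicComplete ((Ideal.span {t}).map (algebraMap R D)) D := by
  rw [IsAdicComplete.map_algebraMap_iff]
  haveI : Algebra.IsIntegral R D := Algebra.IsIntegral.of_finite R D
  have hdim : ringKrullDim D = 1 := by
    rw [Groth.Agent.Helper5.IntegralDim.ringKrullDim_eq_of_isIntegral_of_injective hinj]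
    exact ringKrullDim_eq_one R t ht
  haveI : Ring.KrullDimLE 1 D := Ring.krullDimLE_iff.mpr hdim.le
  have ht0 : algebraMap R D t ≠ 0 := fun h => ht (hinj (by rw [h, map_zero]))
  have hjac : ∀ b : D, IsUnit (algebraMap R D t * b + 1) := by
    intro b
    by_contra hnu
    obtain ⟨M, hM, hmem⟩ := exists_max_ideal_of_mem_nonunits hnu
    have hMc : (M.comap (algebraMap R D)).IsMaximal :=
      Ideal.isMaximal_comap_of_isIntegral_of_isMaximal M
    have htM : t ∈ M.comap (algebraMap R D) := by
      rw [IsLocalRing.eq_maximalIdeal hMc]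
      exact t_mem_maximalIdeal R t
    have h1 : (1 : D) ∈ M := by
      have h2 : algebraMap R D t * b ∈ M := M.mul_mem_right _ htM
      have h3 := M.sub_mem hmem h2
      simpa using h3
    exact hM.ne_top ((Ideal.eq_top_iff_one _).2 h1)
  haveI := isHausdorff_of_dim_one R t D hjac ht0
  haveI := isPrecomplete_of_finite R (Ideal.span {t}) D
  exact {}

end Complete

section Lift

theorem exists_lift (κ : Type u) [Field κ] (Z : Finset κ) :
    ∀ (R₀ : Type u) [CommRing R₀] [IsDomain R₀] (ρ₀ : R₀ →+* κ),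
      (∀ z ∈ Z, ∃ F : R₀[X], F.Monic ∧ Polynomial.eval₂ ρ₀ z F = 0) →
      ∃ (R' : Type u) (_ : CommRing R') (_ : IsDomain R') (j : R₀ →+* R') (ρ' : R' →+* κ),
        j.Finite ∧ Function.Injective j ∧ ρ'.comp j = ρ₀ ∧ ∀ z ∈ Z, ∃ a : R', ρ' a = z := by
  classical
  induction Z using Finset.induction_on with
  | empty =>
    intro R₀ _ _ ρ₀ _
    exact ⟨R₀, inferInstance, inferInstance, RingHom.id R₀, ρ₀, RingHom.Finite.id R₀,
      Function.injective_id, RingHom.comp_id _, by simp⟩
  | insert z Z hz ih =>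
    intro R₀ _ _ ρ₀ h
    obtain ⟨F, hF, hFz⟩ := h z (Finset.mem_insert_self z Z)
    let ρ₁ : AdjoinRoot F →+* κ := AdjoinRoot.lift ρ₀ z hFz
    haveI hfree : Module.Free R₀ (AdjoinRoot F) :=
      Module.Free.of_basis (AdjoinRoot.powerBasis' hF).basis
    haveI hfin : Module.Finite R₀ (AdjoinRoot F) := (AdjoinRoot.powerBasis' hF).finite
    haveI hker : (RingHom.ker ρ₁).IsPrime := RingHom.ker_isPrime ρ₁
    obtain ⟨q, hqmin, hqle⟩ := Ideal.exists_minimalPrimes_le
      (show (⊥ : Ideal (AdjoinRoot F)) ≤ RingHom.ker ρ₁ from bot_le)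
    haveI hqp : q.IsPrime := hqmin.1.1
    let j₁ : R₀ →+* (AdjoinRoot F ⧸ q) := (Ideal.Quotient.mk q).comp (AdjoinRoot.of F)
    let ρ₁' : (AdjoinRoot F ⧸ q) →+* κ := Ideal.Quotient.lift q ρ₁ (fun a ha => hqle ha)
    have hof : (AdjoinRoot.of F).Finite := by
      rw [← AdjoinRoot.algebraMap_eq]
      exact RingHom.finite_algebraMap.2 hfin
    have hj₁fin : j₁.Finite :=
      RingHom.Finite.comp (RingHom.Finite.of_surjective _ Ideal.Quotient.mk_surjective) hof
    have hj₁inj : Function.Injective j₁ := by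
      rw [injective_iff_map_eq_zero]
      intro r hr
      by_contra hr0
      have h1 : AdjoinRoot.of F r ∈ q := Ideal.Quotient.eq_zero_iff_mem.1 hr
      have h2 : AdjoinRoot.of F r ∈ nonZeroDivisors (AdjoinRoot F) := by
        rw [mem_nonZeroDivisors_iff_right]
        intro x hx
        rw [← AdjoinRoot.algebraMap_eq, mul_comm, ← Algebra.smul_def] at hx
        exact (smul_eq_zero.1 hx).resolve_left hr0
      exact Set.disjoint_left.1
        (Ideal.disjoint_nonZeroDivisors_of_mem_minimalPrimes hqmin) h1 h2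
    have hρ₁ : ρ₁'.comp j₁ = ρ₀ := by
      ext r
      simp [j₁, ρ₁', ρ₁]
    obtain ⟨R', i1, i2, j, ρ', hjfin, hjinj, hρ', hZ⟩ := ih (AdjoinRoot F ⧸ q) ρ₁' (by
      intro z' hz'
      obtain ⟨F', hF', hF'z⟩ := h z' (Finset.mem_insert_of_mem hz')
      refine ⟨F'.map j₁, hF'.map j₁, ?_⟩
      rw [Polynomial.eval₂_map, hρ₁]
      exact hF'z)
    refine ⟨R', i1, i2, j.comp j₁, ρ', hjfin.comp hj₁fin, hjinj.comp hj₁inj, ?_, ?_⟩
    · rw [← RingHom.comp_assoc, hρ', hρ₁]
    · intro z' hz'
      rcases Finset.mem_insert.1 hz' with rfl | hz'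
      · refine ⟨j (Ideal.Quotient.mk q (AdjoinRoot.root F)), ?_⟩
        have h3 : ρ' (j (Ideal.Quotient.mk q (AdjoinRoot.root F))) =
            ρ₁' (Ideal.Quotient.mk q (AdjoinRoot.root F)) := RingHom.congr_fun hρ' _
        rw [h3]
        simp [ρ₁', ρ₁]
      · exact hZ z' hz'

end Lift

section PhiOf
open Groth.Agent.Helper1

theorem φ_of {A : Type*} [CommRing A] (I : Ideal A) {B : Type*} [CommRing B] [Algebra A B]
    {r : ℕ} (b : Fin r → B) [IsAdicComplete (I.map (algebraMap A B)) B]
    (p : MvPolynomial (Fin r) A) :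
    RestrictedPS.φ I b (AdicCompletion.of _ _ p) = MvPolynomial.aeval b p := by
  rw [← sub_eq_zero]
  apply IsHausdorff.haus' (I := I.map (algebraMap A B))
  intro n
  rw [SModEq.zero]
  have h1 := RestrictedPS.mk_φ I b n (AdicCompletion.of _ _ p)
  have h2 : RestrictedPS.f I b n (AdicCompletion.of _ _ p) =
      Ideal.Quotient.mk _ (MvPolynomial.aeval b p) := by
    unfold RestrictedPS.f
    rw [AlgHom.comp_apply, AlgHom.restrictScalars_apply, AdicCompletion.evalₐ_of]
    rfl
  rw [h2, Ideal.Quotient.eq] at h1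
  simpa using h1

end PhiOf

end Groth.Agent.Helper8.RigPt
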