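import Mathlib
import Groth.Prelude
import Groth.Agent.Helper8.RigPtH
set_option autoImplicit false
universe u
open IsLocalRing Polynomial

/-!
Closed points of the special fibre of the formal affine space are specializations of
rig-points (S11548), main argument.
-/

namespace Groth.Agent.Helper8.RigPt

section S11548
variable (R : Type u) [CommRing R] [IsDomain R] [ValuationRing R] [Ring.KrullDimLE 1 R]
  (t : R) [IsAdicComplete (Ideal.span {t}) R]

theorem isIntegral_quotient (ht : t ≠ 0) (n : ℕ)
    (m : Ideal (AdicRing.RPow R (Ideal.span {t}) n)) [m.IsMaximal]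
    (hm : algebraMap R (AdicRing.RPow R (Ideal.span {t}) n) t ∈ m) :
    Algebra.IsIntegral R (AdicRing.RPow R (Ideal.span {t}) n ⧸ m) := by
  have hpne : m.under R ≠ ⊥ := by
    intro h
    have h1 : t ∈ m.under R := hm
    rw [h, Ideal.mem_bot] at h1
    exact ht h1
  haveI hpmax : (m.under R).IsMaximal := Ideal.IsPrime.isMaximal_of_ne_bot inferInstance hpne
  letI : Field (R ⧸ m.under R) := Ideal.Quotient.field _
  letI : Field (AdicRing.RPow R (Ideal.span {t}) n ⧸ m) := Ideal.Quotient.field _
  haveI : Algebra.FiniteType R (AdicRing.RPow R (Ideal.span {t}) n ⧸ m) :=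
    Algebra.FiniteType.of_surjective _
      (polyToQuot_surjective R t (AdicRing.RPow R (Ideal.span {t}) n) (AlgHom.id R _)
        Function.surjective_id m hm)
  haveI : Algebra.FiniteType (R ⧸ m.under R) (AdicRing.RPow R (Ideal.span {t}) n ⧸ m) :=
    Algebra.FiniteType.of_restrictScalars_finiteType R _ _
  haveI : Module.Finite (R ⧸ m.under R) (AdicRing.RPow R (Ideal.span {t}) n ⧸ m) :=
    (Module.finite_iff_krullDimLE_zero _ _).mpr inferInstance
  haveI : Module.Finite R (AdicRing.RPow R (Ideal.span {t}) n ⧸ m) :=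
    Module.Finite.trans (R ⧸ m.under R) _
  exact Algebra.IsIntegral.of_finite R _

theorem s11548 (ht : t ≠ 0) (n : ℕ)
    (m : Ideal (AdicRing.RPow R (Ideal.span {t}) n)) [m.IsMaximal]
    (hm : algebraMap R (AdicRing.RPow R (Ideal.span {t}) n) t ∈ m) :
    ∃ p : Ideal (AdicRing.RPow R (Ideal.span {t}) n), p.IsPrime ∧ p ≤ m ∧
      algebraMap R (AdicRing.RPow R (Ideal.span {t}) n) t ∉ p ∧
      ringKrullDim (AdicRing.RPow R (Ideal.span {t}) n ⧸ p) = 1 := by
  classical
  letI : Field (AdicRing.RPow R (Ideal.span {t}) n ⧸ m) := Ideal.Quotient.field m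
  haveI := isIntegral_quotient R t ht n m hm
  let ρ₀ : R →+* AdicRing.RPow R (Ideal.span {t}) n ⧸ m := algebraMap R _
  let ζ : Fin n → AdicRing.RPow R (Ideal.span {t}) n ⧸ m := fun i =>
    Ideal.Quotient.mk m (algebraMap (MvPolynomial (Fin n) R) _ (MvPolynomial.X i))
  obtain ⟨R', _, _, j, ρ', hjfin, hjinj, hρ', hZ⟩ :=
    exists_lift (AdicRing.RPow R (Ideal.span {t}) n ⧸ m) (Finset.univ.image ζ) R ρ₀ (by
      intro z _
      obtain ⟨F, hF, hFz⟩ := Algebra.IsIntegral.isIntegral (R := R) z
      exact ⟨F, hF, hFz⟩)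
  choose a ha using fun i => hZ (ζ i) (Finset.mem_image_of_mem ζ (Finset.mem_univ i))
  letI algR' : Algebra R R' := j.toAlgebra
  haveI : Module.Finite R R' := hjfin
  haveI : Algebra.IsIntegral R R' := Algebra.IsIntegral.of_finite R R'
  have hfin'' : Module.Finite R (Algebra.adjoin R (Set.range a)) :=
    Module.Finite.iff_fg.mpr (fg_adjoin_of_finite (Set.finite_range a)
      (fun x _ => Algebra.IsIntegral.isIntegral x))
  have hinj'' : Function.Injective (algebraMap R (Algebra.adjoin R (Set.range a))) :=
    fun x y h => hjinj (congrArg Subtype.val h)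
  haveI : IsAdicComplete ((Ideal.span {t}).map (algebraMap R (Algebra.adjoin R (Set.range a))))
      (Algebra.adjoin R (Set.range a)) :=
    isAdicComplete_of_finite_domain R t ht _ hinj''
  let b : Fin n → Algebra.adjoin R (Set.range a) :=
    fun i => ⟨a i, Algebra.subset_adjoin ⟨i, rfl⟩⟩
  let φ : AdicRing.RPow R (Ideal.span {t}) n →ₐ[R] Algebra.adjoin R (Set.range a) :=
    Groth.Agent.Helper1.RestrictedPS.φ (Ideal.span {t}) b
  have hφof : ∀ p, φ (algebraMap (MvPolynomial (Fin n) R) _ p) = MvPolynomial.aeval b p :=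
    fun p => φ_of (Ideal.span {t}) b p
  have hval : ∀ p : MvPolynomial (Fin n) R,
      ((MvPolynomial.aeval b p : Algebra.adjoin R (Set.range a)) : R') =
        MvPolynomial.aeval a p := by
    intro p
    exact MvPolynomial.comp_aeval_apply (f := b) (Algebra.adjoin R (Set.range a)).val p
  have hφsurj : Function.Surjective φ := by
    intro y
    have hy : (y : R') ∈ (MvPolynomial.aeval a : MvPolynomial (Fin n) R →ₐ[R] R').range := by
      rw [← Algebra.adjoin_range_eq_range_aeval]
      exact y.2
    obtain ⟨p, hp⟩ := hy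
    refine ⟨algebraMap _ _ p, ?_⟩
    rw [hφof]
    apply Subtype.ext
    rw [hval]
    exact hp
  have hq₂R : ∀ r : R, ρ' ((φ (algebraMap R _ r) : Algebra.adjoin R (Set.range a)) : R') =
      Ideal.Quotient.mk m (algebraMap R _ r) := by
    intro r
    rw [φ.commutes]
    have h1 : ((algebraMap R (Algebra.adjoin R (Set.range a)) r :
        Algebra.adjoin R (Set.range a)) : R') = j r := rfl
    rw [h1]
    exact RingHom.congr_fun hρ' r
  refine ⟨RingHom.ker φ.toRingHom, RingHom.ker_isPrime _, ?_, ?_, ?_⟩
  · intro x hx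
    have hφx : φ x = 0 := hx
    have hq : ∀ x : AdicRing.RPow R (Ideal.span {t}) n,
        Ideal.Quotient.mk m x = ρ' ((φ x : Algebra.adjoin R (Set.range a)) : R') := by
      intro x
      obtain ⟨p, y, rfl⟩ := rpow_decomp R t n x
      have ht1 : Ideal.Quotient.mk m (algebraMap R _ t) = 0 :=
        Ideal.Quotient.eq_zero_iff_mem.2 hm
      have hpoly : (Ideal.Quotient.mk m).comp
          (algebraMap (MvPolynomial (Fin n) R) (AdicRing.RPow R (Ideal.span {t}) n)) =
          (ρ'.comp (Algebra.adjoin R (Set.range a)).val.toRingHom).comp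
            (φ.toRingHom.comp
              (algebraMap (MvPolynomial (Fin n) R) (AdicRing.RPow R (Ideal.span {t}) n))) := by
        apply MvPolynomial.ringHom_ext
        · intro r
          simp only [RingHom.comp_apply]
          rw [algebraMap_C]
          exact (hq₂R r).symm
        · intro i
          simp only [RingHom.comp_apply]
          have h2 : φ.toRingHom (algebraMap (MvPolynomial (Fin n) R) _ (MvPolynomial.X i)) =
              b i := by
            change φ _ = b i
            rw [hφof, MvPolynomial.aeval_X]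
          rw [h2]
          exact (ha i).symm
      have h3 := RingHom.congr_fun hpoly p
      simp only [RingHom.comp_apply] at h3
      rw [map_add, map_mul, ht1, zero_mul, add_zero, map_add, map_mul, Subalgebra.coe_add,
        Subalgebra.coe_mul, map_add, map_mul, hq₂R t, ht1, zero_mul, add_zero]
      exact h3
    rw [← Ideal.Quotient.eq_zero_iff_mem, hq x, hφx]
    simp
  · intro h
    have h1 : φ (algebraMap R _ t) = 0 := h
    rw [φ.commutes] at h1
    exact ht (hinj'' (by rw [h1, map_zero]))
  · have e : (AdicRing.RPow R (Ideal.span {t}) n ⧸ RingHom.ker φ.toRingHom) ≃+*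
        Algebra.adjoin R (Set.range a) := RingHom.quotientKerEquivOfSurjective hφsurj
    rw [ringKrullDim_eq_of_ringEquiv e]
    haveI : Algebra.IsIntegral R (Algebra.adjoin R (Set.range a)) :=
      Algebra.IsIntegral.of_finite R _
    rw [Groth.Agent.Helper5.IntegralDim.ringKrullDim_eq_of_isIntegral_of_injective hinj'']
    exact ringKrullDim_eq_one R t ht

end S11548

end Groth.Agent.Helper8.RigPt
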