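import Mathlib
import Groth.Prelude
import Groth.Agent.Helper8.RigPtC
import Groth.Agent.Helper8.RigPtF
set_option autoImplicit false
universe u
open IsLocalRing Polynomial
open scoped TensorProduct

/-!
Universal property of `A[f_1, …, f_n] ⊂ A ⊗ K` with respect to admissible algebras in which the
ideal `(c, g_1, …, g_n)` becomes generated by `c` (S13353).
-/

namespace Groth.Agent.Helper8.RigPt

section S13353
variable (R : Type u) [CommRing R] [IsDomain R] [ValuationRing R] [Ring.KrullDimLE 1 R]
  (t : R) [IsAdicComplete (Ideal.span {t}) R]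

theorem exists_dvd_pow (c : R) (hc : c ≠ 0) : ∃ N : ℕ, c ∣ t ^ N := by
  by_cases hu : IsUnit c
  · exact ⟨0, hu.dvd⟩
  · have hrad : t ∈ (Ideal.span {c}).radical := by
      rw [Ideal.radical_eq_sInf, Ideal.mem_sInf]
      rintro P ⟨hP, hPp⟩
      have hne : P ≠ ⊥ := by
        rintro rfl
        exact hc (by simpa using hP (Ideal.mem_span_singleton_self c))
      have hmax : P.IsMaximal := hPp.isMaximal_of_ne_bot hne
      rw [IsLocalRing.eq_maximalIdeal hmax]
      exact t_mem_maximalIdeal R t
    obtain ⟨N, hN⟩ := hrad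
    exact ⟨N, Ideal.mem_span_singleton.1 hN⟩

theorem eq_zero_of_mul_eq_zero (D : Type u) [CommRing D] [Algebra R D]
    (hNT : AdicRing.NoPowTorsion (Ideal.span {t}) D) (c : R) (hc : c ≠ 0) (d : D)
    (h : algebraMap R D c * d = 0) : d = 0 := by
  obtain ⟨N, e, he⟩ := exists_dvd_pow R t c hc
  apply hNT d N
  intro a ha
  rw [Ideal.span_singleton_pow, Ideal.mem_span_singleton] at ha
  obtain ⟨r, rfl⟩ := ha
  rw [he, Algebra.smul_def, map_mul, map_mul]
  calc algebraMap R D c * algebraMap R D e * algebraMap R D r * d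
      = algebraMap R D e * algebraMap R D r * (algebraMap R D c * d) := by ring
    _ = 0 := by rw [h, mul_zero]

theorem flat_of_noPowTorsion (D : Type u) [CommRing D] [Algebra R D]
    (hNT : AdicRing.NoPowTorsion (Ideal.span {t}) D) : Module.Flat R D := by
  rw [Module.Flat.flat_iff_torsion_eq_bot_of_isBezout, eq_bot_iff]
  intro x hx
  rw [Submodule.mem_torsion_iff] at hx
  obtain ⟨a, ha⟩ := hx
  rw [Submonoid.smul_def, Algebra.smul_def] at ha
  exact (Submodule.mem_bot _).2
    (eq_zero_of_mul_eq_zero R t D hNT a (nonZeroDivisors.ne_zero a.2) x ha)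

omit [ValuationRing R] [Ring.KrullDimLE 1 R] in
theorem tensor_smul_cancel (D : Type u) [CommRing D] [Algebra R D] (c : R) (hc : c ≠ 0)
    (y : D ⊗[R] FractionRing R) (h : c • y = 0) : y = 0 := by
  let μ : FractionRing R →ₗ[R] FractionRing R :=
    LinearMap.mulLeft R ((algebraMap R (FractionRing R) c)⁻¹)
  have hcK : algebraMap R (FractionRing R) c ≠ 0 := by
    rw [Ne, map_eq_zero_iff _ (IsFractionRing.injective R (FractionRing R))]
    exact hc
  have key : ∀ z : D ⊗[R] FractionRing R, c • (LinearMap.lTensor D μ z) = z := by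
    intro z
    induction z using TensorProduct.induction_on with
    | zero => simp
    | tmul d k =>
      rw [LinearMap.lTensor_tmul, ← TensorProduct.tmul_smul]
      congr 1
      simp only [μ, LinearMap.mulLeft_apply]
      rw [Algebra.smul_def, mul_inv_cancel_left₀ hcK]
    | add a b ha hb => rw [map_add, smul_add, ha, hb]
  rw [← key y, ← LinearMap.map_smul, h, map_zero]

theorem s13353
    (A : Type u) [CommRing A] [Algebra R A]
    (n : ℕ) (f : Fin n → A ⊗[R] FractionRing R) (hf : ∀ i, IsIntegral A (f i))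
    (c : R) (hc : c ≠ 0) (g : Fin n → A)
    (hg : ∀ i, algebraMap A (A ⊗[R] FractionRing R) (g i) = c • f i)
    (D : Type u) [CommRing D] [Algebra R D]
    (hNT : AdicRing.NoPowTorsion (Ideal.span {t}) D)
    (φ : A →ₐ[R] D)
    (hgen : (Ideal.span (insert (algebraMap R A c) (Set.range g))).map φ =
          Ideal.span {algebraMap R D c} ∨
      ∃ i, (Ideal.span (insert (algebraMap R A c) (Set.range g))).map φ = Ideal.span {φ (g i)}) :
    (Ideal.span (insert (algebraMap R A c) (Set.range g))).map φ = Ideal.span {algebraMap R D c} ∧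
      ∃! ψ : ↥(Algebra.adjoin A (Set.range f)) →ₐ[R] D,
        ψ.comp (IsScalarTower.toAlgHom R A ↥(Algebra.adjoin A (Set.range f))) = φ := by
  classical
  haveI := flat_of_noPowTorsion R t D hNT
  let ιD : D →ₐ[R] D ⊗[R] FractionRing R := Algebra.TensorProduct.includeLeft
  have hιinj : Function.Injective ιD :=
    Algebra.TensorProduct.includeLeft_injective (IsFractionRing.injective R (FractionRing R))
  let φK : A ⊗[R] FractionRing R →ₐ[R] D ⊗[R] FractionRing R :=
    Algebra.TensorProduct.map φ (AlgHom.id R (FractionRing R))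
  have hιD : ∀ d : D, ιD d = d ⊗ₜ[R] (1 : FractionRing R) := fun d => rfl
  have hφK : ∀ a : A, φK (algebraMap A (A ⊗[R] FractionRing R) a) = ιD (φ a) := by
    intro a
    rw [Algebra.TensorProduct.algebraMap_apply, Algebra.algebraMap_self_apply,
      Algebra.TensorProduct.map_tmul, hιD]
    simp
  have hιc : ∀ d : D, ιD (algebraMap R D c * d) = c • ιD d := by
    intro d
    rw [← Algebra.smul_def, map_smul]
  -- the key computation: the image of `f i` is determined by a quotient `φ (g i) / c`
  have hFi : ∀ i (d : D), φ (g i) = algebraMap R D c * d → φK (f i) = ιD d := by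
    intro i d hd
    rw [← sub_eq_zero]
    apply tensor_smul_cancel R D c hc
    rw [smul_sub, ← map_smul, ← hg i, hφK, hd, hιc, sub_self]
  -- Step A
  have hcD : (Ideal.span (insert (algebraMap R A c) (Set.range g))).map φ =
      Ideal.span {algebraMap R D c} := by
    rcases hgen with h | ⟨i, hi⟩
    · exact h
    · have hcmem : algebraMap R D c ∈ Ideal.span {φ (g i)} := by
        rw [← hi]
        have h1 : algebraMap R A c ∈ Ideal.span (insert (algebraMap R A c) (Set.range g)) :=
          Ideal.subset_span (Set.mem_insert _ _)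
        have h2 := Ideal.mem_map_of_mem (φ : A →+* D) h1
        rwa [RingHom.coe_coe, AlgHom.commutes] at h2
      obtain ⟨d, hd⟩ := Ideal.mem_span_singleton'.1 hcmem
      -- `ιD d * φK (f i) = 1`
      have hone : algebraMap D (D ⊗[R] FractionRing R) d * φK (f i) = 1 := by
        rw [← sub_eq_zero]
        apply tensor_smul_cancel R D c hc
        have h3 : c • φK (f i) = ιD (φ (g i)) := by
          rw [← map_smul, ← hg i, hφK]
        have h4 : algebraMap D (D ⊗[R] FractionRing R) d = ιD d := rfl
        rw [smul_sub, ← mul_smul_comm, h3, h4, ← map_mul, hd]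
        have h5 : ιD (algebraMap R D c) = c • (1 : D ⊗[R] FractionRing R) := by
          rw [← mul_one (algebraMap R D c), hιc, map_one]
        rw [h5, sub_self]
      have hcompat : (algebraMap D (D ⊗[R] FractionRing R)).comp (φ : A →+* D) =
          (φK : A ⊗[R] FractionRing R →+* D ⊗[R] FractionRing R).comp
            (algebraMap A (A ⊗[R] FractionRing R)) := by
        ext a
        exact (hφK a).symm
      have hFint : IsIntegral D (φK (f i)) := by
        obtain ⟨p, hp, hpf⟩ := hf i
        refine ⟨p.map (φ : A →+* D), hp.map _, ?_⟩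
        rw [Polynomial.eval₂_map, hcompat]
        have := Polynomial.hom_eval₂ p (algebraMap A (A ⊗[R] FractionRing R))
          (φK : A ⊗[R] FractionRing R →+* D ⊗[R] FractionRing R) (f i)
        rw [← RingHom.coe_coe φK] 
        rw [← this, hpf, map_zero]
      have hFmem := mem_adjoin_of_isIntegral_of_mul_eq_one
        (algebraMap D (D ⊗[R] FractionRing R) d) (φK (f i)) hone hFint
      have hle : Algebra.adjoin D {algebraMap D (D ⊗[R] FractionRing R) d} ≤ ⊥ :=
        Algebra.adjoin_le (Set.singleton_subset_iff.2 (Subalgebra.algebraMap_mem ⊥ d))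
      obtain ⟨d', hd'⟩ := Algebra.mem_bot.1 (hle hFmem)
      have hd'' : ιD d' = φK (f i) := hd'
      have hdd' : d * d' = 1 := by
        apply hιinj
        rw [map_mul, map_one, hd'']
        exact hone
      have hgi : φ (g i) = algebraMap R D c * d' := by
        apply hιinj
        rw [hιc, hd'', ← map_smul, ← hg i, hφK]
      rw [hi, hgi]
      exact Ideal.span_singleton_mul_right_unit (.of_mul_eq_one d (by rw [mul_comm]; exact hdd')) _
  refine ⟨hcD, ?_⟩
  -- Step B
  have hdi : ∀ i, ∃ d : D, φ (g i) = algebraMap R D c * d := by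
    intro i
    have h1 : g i ∈ Ideal.span (insert (algebraMap R A c) (Set.range g)) :=
      Ideal.subset_span (Set.mem_insert_of_mem _ ⟨i, rfl⟩)
    have h2 := Ideal.mem_map_of_mem φ h1
    rw [hcD] at h2
    obtain ⟨d, hd⟩ := Ideal.mem_span_singleton'.1 h2
    exact ⟨d, by rw [mul_comm]; exact hd.symm⟩
  choose d hd using hdi
  -- Step D: the image of `A[f]` lies in `D`
  have hrange : ∀ x ∈ Algebra.adjoin A (Set.range f), φK x ∈ ιD.range := by
    intro x hx
    induction hx using Algebra.adjoin_induction with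
    | mem x hx =>
      obtain ⟨i, rfl⟩ := hx
      exact ⟨d i, (hFi i (d i) (hd i)).symm⟩
    | algebraMap a => exact ⟨φ a, (hφK a).symm⟩
    | add x y _ _ hx hy => rw [map_add]; exact ιD.range.add_mem hx hy
    | mul x y _ _ hx hy => rw [map_mul]; exact ιD.range.mul_mem hx hy
  let ψ₀ : ↥(Algebra.adjoin A (Set.range f)) →ₐ[R] ιD.range :=
    (φK.comp ((Algebra.adjoin A (Set.range f)).val.restrictScalars R)).codRestrict ιD.range
      (fun x => hrange x.1 x.2)
  let e : D ≃ₐ[R] ιD.range := AlgEquiv.ofInjective ιD hιinj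
  let ψ : ↥(Algebra.adjoin A (Set.range f)) →ₐ[R] D := (e.symm : ιD.range →ₐ[R] D).comp ψ₀
  have hψ : ∀ x : ↥(Algebra.adjoin A (Set.range f)), ιD (ψ x) = φK (x : A ⊗[R] FractionRing R) := by
    intro x
    have h1 : e (ψ x) = ψ₀ x := e.apply_symm_apply (ψ₀ x)
    have h2 := congrArg Subtype.val h1
    exact h2
  have hcancel : ∀ x y : D, algebraMap R D c * x = algebraMap R D c * y → x = y := by
    intro x y hxy
    rw [← sub_eq_zero]
    apply eq_zero_of_mul_eq_zero R t D hNT c hc
    rw [mul_sub, hxy, sub_self]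
  refine ⟨ψ, ?_, ?_⟩
  · ext a
    apply hιinj
    rw [AlgHom.comp_apply, hψ]
    exact hφK a
  · intro ψ' hψ'
    have hψ'a : ∀ a : A, ψ' (algebraMap A ↥(Algebra.adjoin A (Set.range f)) a) = φ a :=
      fun a => AlgHom.congr_fun hψ' a
    have hψa : ∀ a : A, ψ (algebraMap A ↥(Algebra.adjoin A (Set.range f)) a) = φ a := by
      intro a
      apply hιinj
      rw [hψ]
      exact hφK a
    have hall : ∀ x (hx : x ∈ Algebra.adjoin A (Set.range f)), ψ' ⟨x, hx⟩ = ψ ⟨x, hx⟩ := by
      intro x hx
      induction hx using Algebra.adjoin_induction with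
      | mem x hx =>
        obtain ⟨i, rfl⟩ := hx
        apply hcancel
        have h1 : ∀ χ : ↥(Algebra.adjoin A (Set.range f)) →ₐ[R] D,
            algebraMap R D c * χ ⟨f i, Algebra.subset_adjoin ⟨i, rfl⟩⟩ =
              χ (algebraMap A ↥(Algebra.adjoin A (Set.range f)) (g i)) := by
          intro χ
          rw [← Algebra.smul_def, ← map_smul]
          congr 1
          apply Subtype.ext
          exact (hg i).symm
        rw [h1 ψ', h1 ψ, hψ'a, hψa]
      | algebraMap a => exact (hψ'a a).trans (hψa a).symm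
      | add x y hx hy ihx ihy =>
        have : (⟨x + y, add_mem hx hy⟩ : ↥(Algebra.adjoin A (Set.range f))) =
            ⟨x, hx⟩ + ⟨y, hy⟩ := rfl
        rw [this, map_add, map_add, ihx, ihy]
      | mul x y hx hy ihx ihy =>
        have : (⟨x * y, mul_mem hx hy⟩ : ↥(Algebra.adjoin A (Set.range f))) =
            ⟨x, hx⟩ * ⟨y, hy⟩ := rfl
        rw [this, map_mul, map_mul, ihx, ihy]
    ext x
    exact hall x.1 x.2

end S13353

end Groth.Agent.Helper8.RigPt
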