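import Mathlib
import Groth.Prelude
import Groth.Agent.Helper8.RigPtH
import Groth.Agent.Helper8.RigPtJ
set_option autoImplicit false
universe u
open IsLocalRing Polynomial

/-!
Noether normalization for algebras topologically of finite type over a complete height-one
valuation ring, and the resulting Nullstellensatz: a torsion-free domain topologically of
finite type whose generic fibre is a field is module-finite.
-/

namespace Groth.Agent.Helper8.RigPt

section General

theorem isPrecomplete_of_surjective {R : Type*} [CommRing R] (I : Ideal R) {M N : Type*}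
    [AddCommGroup M] [Module R M] [AddCommGroup N] [Module R N] (f : M →ₗ[R] N)
    (hf : Function.Surjective f) [IsPrecomplete I M] : IsPrecomplete I N := by
  rw [← AdicCompletion.of_surjective_iff]
  intro y
  obtain ⟨x, rfl⟩ := AdicCompletion.map_surjective I hf y
  obtain ⟨x₀, rfl⟩ := AdicCompletion.of_surjective I M x
  exact ⟨f x₀, (AdicCompletion.map_of I f x₀).symm⟩

/-- if `x * y = c` with `y` integral over `A`, then a power of `c` is a multiple of `x`
modulo the kernel -/
theorem exists_pow_eq_mul_of_isIntegral {A B : Type*} [CommRing A] [CommRing B] [Algebra A B]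
    (x c : A) (y : B) (h : algebraMap A B x * y = algebraMap A B c) (hy : IsIntegral A y) :
    ∃ (r : ℕ) (w : A), algebraMap A B (c ^ r) = algebraMap A B (x * w) := by
  obtain ⟨p, hp, hpy⟩ := hy
  have h1 : eval₂ (algebraMap A B) (algebraMap A B c) (scaleRoots p x) = 0 := by
    rw [← h]
    exact scaleRoots_eval₂_eq_zero _ hpy
  rw [Polynomial.eval₂_at_apply] at h1
  have h2 : ∃ w, eval c (scaleRoots p x) = c ^ p.natDegree + x * w := by
    rw [Polynomial.eval_eq_sum_range, natDegree_scaleRoots, Finset.sum_range_succ,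
      coeff_scaleRoots, Nat.sub_self, pow_zero, mul_one, hp.coeff_natDegree, one_mul]
    have hdvd : x ∣ ∑ i ∈ Finset.range p.natDegree, (scaleRoots p x).coeff i * c ^ i := by
      refine Finset.dvd_sum fun i hi => ?_
      rw [coeff_scaleRoots]
      have h3 : p.natDegree - i ≠ 0 := by
        have := Finset.mem_range.1 hi
        omega
      exact dvd_mul_of_dvd_left (dvd_mul_of_dvd_right (dvd_pow_self x h3) _) _
    obtain ⟨w, hw⟩ := hdvd
    exact ⟨w, by rw [hw, add_comm]⟩
  obtain ⟨w, hw⟩ := h2
  refine ⟨p.natDegree, -w, ?_⟩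
  rw [hw, map_add] at h1
  rw [mul_neg, map_neg]
  exact eq_neg_of_add_eq_zero_left h1

theorem isHausdorff_of_tower {R S B : Type*} [CommRing R] [CommRing S] [CommRing B]
    [Algebra R S] [Algebra R B] [Algebra S B] [IsScalarTower R S B] (t : R)
    [IsHausdorff (Ideal.span {t}) B] : IsHausdorff (Ideal.span {algebraMap R S t}) B := by
  refine ⟨fun x hx => ?_⟩
  apply IsHausdorff.haus' (I := Ideal.span {t})
  intro n
  have h1 := hx n
  rw [SModEq.zero] at h1 ⊢
  rw [Ideal.span_singleton_pow, Submodule.ideal_span_singleton_smul,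
    Submodule.mem_smul_pointwise_iff_exists] at h1 ⊢
  obtain ⟨y, -, hy⟩ := h1
  refine ⟨y, Submodule.mem_top, ?_⟩
  rw [← hy, ← map_pow, algebraMap_smul]

end General

section Null
variable (R : Type u) [CommRing R] [IsDomain R] [ValuationRing R] [Ring.KrullDimLE 1 R]
  (t : R) [IsAdicComplete (Ideal.span {t}) R]
  (B : Type u) [CommRing B] [Algebra R B]

omit [IsDomain R] [ValuationRing R] [Ring.KrullDimLE 1 R] [IsAdicComplete (Ideal.span {t}) R] in
/-- iterated decomposition of a restricted power series -/
theorem rpow_decomp_pow (n N : ℕ) (x : AdicRing.RPow R (Ideal.span {t}) n) :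
    ∃ (p : MvPolynomial (Fin n) R) (y : AdicRing.RPow R (Ideal.span {t}) n),
      x = algebraMap (MvPolynomial (Fin n) R) _ p + algebraMap R _ t ^ N * y := by
  induction N with
  | zero => exact ⟨0, x, by simp⟩
  | succ N ih =>
    obtain ⟨p, y, hx⟩ := ih
    obtain ⟨p', y', rfl⟩ := rpow_decomp R t n y
    refine ⟨p + MvPolynomial.C (t ^ N) * p', y', ?_⟩
    rw [hx, map_add, map_mul, algebraMap_C, map_pow]
    ring

omit [IsDomain R] [ValuationRing R] [Ring.KrullDimLE 1 R] [IsAdicComplete (Ideal.span {t}) R] in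
theorem span_algebraMap_eq (n : ℕ) :
    ((Ideal.span {t}).map (MvPolynomial.C : R →+* MvPolynomial (Fin n) R)).map
      (algebraMap (MvPolynomial (Fin n) R) (AdicRing.RPow R (Ideal.span {t}) n)) =
    Ideal.span {algebraMap R (AdicRing.RPow R (Ideal.span {t}) n) t} := by
  rw [Ideal.map_map]
  refine (Ideal.map_span _ _).trans ?_
  rw [Set.image_singleton, RingHom.comp_apply, algebraMap_C]

omit [IsDomain R] [ValuationRing R] [Ring.KrullDimLE 1 R] [IsAdicComplete (Ideal.span {t}) R] in
theorem isAdicComplete_rpow (n : ℕ) :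
    IsAdicComplete (Ideal.span {algebraMap R (AdicRing.RPow R (Ideal.span {t}) n) t})
      (AdicRing.RPow R (Ideal.span {t}) n) := by
  have h := AdicCompletion.isAdicComplete_self _ (map_C_fg R t n)
  rwa [span_algebraMap_eq] at h

omit [IsDomain R] [ValuationRing R] [Ring.KrullDimLE 1 R] [IsAdicComplete (Ideal.span {t}) R] in
theorem isAdicComplete_rpow_module (n : ℕ) :
    IsAdicComplete (Ideal.span {t}) (AdicRing.RPow R (Ideal.span {t}) n) := by
  have h := isAdicComplete_rpow R t n
  have heq : Ideal.span {algebraMap R (AdicRing.RPow R (Ideal.span {t}) n) t} =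
      (Ideal.span {t}).map (algebraMap R (AdicRing.RPow R (Ideal.span {t}) n)) := by
    refine Eq.symm ((Ideal.map_span (algebraMap R (AdicRing.RPow R (Ideal.span {t}) n)) {t}).trans ?_)
    rw [Set.image_singleton]
  rw [heq] at h
  exact (IsAdicComplete.map_algebraMap_iff _ _).1 h

theorem finite_of_finite_quotient_maximal (ht : t ≠ 0)
    (hTF : AdicRing.TopFiniteType R (Ideal.span {t}) B) [IsHausdorff (Ideal.span {t}) B]
    (hfinQ : Module.Finite R (B ⧸ (maximalIdeal R).map (algebraMap R B))) :
    Module.Finite R B := by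
  obtain ⟨n, φ, hφ⟩ := hTF
  set I := (Ideal.span {t}).map (algebraMap R B) with hI
  have htI : algebraMap R B t ∈ I := Ideal.mem_map_of_mem _ (Ideal.mem_span_singleton_self t)
  have hsurj := polyToQuot_surjective R t B φ hφ I htI
  haveI : Algebra.FiniteType R (B ⧸ I) := Algebra.FiniteType.of_surjective _ hsurj
  have hint : ∀ z : B, IsIntegral R (Ideal.Quotient.mk I z) := by
    intro z
    have h1 : IsIntegral R (Ideal.Quotient.mk ((maximalIdeal R).map (algebraMap R B)) z) :=
      Algebra.IsIntegral.isIntegral _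
    obtain ⟨p, hpm, hp⟩ := h1
    have h2 : aeval z p ∈ (maximalIdeal R).map (algebraMap R B) := by
      rw [← Ideal.Quotient.eq_zero_iff_mem]
      have := Polynomial.aeval_algHom_apply
        (Ideal.Quotient.mkₐ R ((maximalIdeal R).map (algebraMap R B))) z p
      rw [Ideal.Quotient.mkₐ_eq_mk] at this
      rw [← this]
      exact hp
    obtain ⟨N, hN⟩ := exists_pow_mem_span R t B ht _ h2
    refine ⟨p ^ N, hpm.pow N, ?_⟩
    have h3 := Polynomial.aeval_algHom_apply (Ideal.Quotient.mkₐ R I) z (p ^ N)
    rw [Ideal.Quotient.mkₐ_eq_mk] at h3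
    change aeval (Ideal.Quotient.mk I z) (p ^ N) = 0
    rw [h3, map_pow, Ideal.Quotient.eq_zero_iff_mem]
    exact hN
  haveI : Algebra.IsIntegral R (B ⧸ I) := by
    refine ⟨fun q => ?_⟩
    obtain ⟨b, rfl⟩ := Ideal.Quotient.mk_surjective q
    exact hint b
  have hfin : Module.Finite R (B ⧸ I) := Algebra.IsIntegral.finite
  refine Groth.Agent.Helper7.SopFree.finite_of_adic R (Ideal.span {t}) B ?_
  let e1 := Submodule.quotEquivOfEq _ _ (Ideal.smul_top_eq_map (S := B) (Ideal.span {t}))
  let e2 := Submodule.Quotient.restrictScalarsEquiv R ((Ideal.span {t}).map (algebraMap R B))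
  exact Module.Finite.equiv (e1.trans e2).symm

/-- **Noether normalization**: a Noether normalization of the special fibre lifts to a finite
injective map from restricted power series. -/
theorem exists_finite_injective_of_normalization (ht : t ≠ 0)
    (hTF : AdicRing.TopFiniteType R (Ideal.span {t}) B)
    (hNT : AdicRing.NoPowTorsion (Ideal.span {t}) B) [IsHausdorff (Ideal.span {t}) B]
    (d : ℕ) (g : MvPolynomial (Fin d) (R ⧸ maximalIdeal R) →ₐ[R ⧸ maximalIdeal R]
      (B ⧸ (maximalIdeal R).map (algebraMap R B)))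
    (hginj : Function.Injective g) (hgfin : g.Finite) :
    ∃ ψ : AdicRing.RPow R (Ideal.span {t}) d →ₐ[R] B,
      Function.Injective ψ ∧ ψ.toRingHom.Finite ∧
      ∀ i, Ideal.Quotient.mk ((maximalIdeal R).map (algebraMap R B))
        (ψ (algebraMap (MvPolynomial (Fin d) R) _ (MvPolynomial.X i))) =
          g (MvPolynomial.X i) := by
  classical
  set mB := (maximalIdeal R).map (algebraMap R B) with hmB
  -- completeness of `B`
  haveI hBc : IsAdicComplete ((Ideal.span {t}).map (algebraMap R B)) B := by
    obtain ⟨n, φ, hφ⟩ := hTF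
    haveI := isAdicComplete_rpow_module R t n
    haveI : IsPrecomplete (Ideal.span {t}) B :=
      isPrecomplete_of_surjective _ φ.toLinearMap hφ
    rw [IsAdicComplete.map_algebraMap_iff]
    exact {}
  choose b hb using fun i : Fin d =>
    Ideal.Quotient.mk_surjective (I := mB) (g (MvPolynomial.X i))
  let ψ : AdicRing.RPow R (Ideal.span {t}) d →ₐ[R] B :=
    Groth.Agent.Helper1.RestrictedPS.φ (Ideal.span {t}) b
  have hψof : ∀ p, ψ (algebraMap (MvPolynomial (Fin d) R) _ p) = MvPolynomial.aeval b p :=
    fun p => φ_of (Ideal.span {t}) b p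
  let ρ : MvPolynomial (Fin d) R →+* MvPolynomial (Fin d) (R ⧸ maximalIdeal R) :=
    MvPolynomial.map (Ideal.Quotient.mk (maximalIdeal R))
  set θ : MvPolynomial (Fin d) R →+* B := ψ.toRingHom.comp
    (algebraMap (MvPolynomial (Fin d) R) (AdicRing.RPow R (Ideal.span {t}) d)) with hθ
  have hθa : ∀ p, θ p = ψ (algebraMap (MvPolynomial (Fin d) R) _ p) := fun p => rfl
  have hcompat : (Ideal.Quotient.mk mB).comp θ = g.toRingHom.comp ρ := by
    apply MvPolynomial.ringHom_ext
    · intro r
      simp only [RingHom.comp_apply]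
      rw [hθa, algebraMap_C, ψ.commutes]
      change _ = g (ρ (MvPolynomial.C r))
      rw [MvPolynomial.map_C, ← MvPolynomial.algebraMap_eq, g.commutes]
      rfl
    · intro i
      simp only [RingHom.comp_apply]
      rw [hθa, hψof, MvPolynomial.aeval_X, hb]
      change _ = g (ρ (MvPolynomial.X i))
      rw [MvPolynomial.map_X]
  have hcompat' : ∀ p, Ideal.Quotient.mk mB (θ p) = g (ρ p) := fun p =>
    RingHom.congr_fun hcompat p
  -- `B` as an algebra over the restricted power series
  letI algS : Algebra (AdicRing.RPow R (Ideal.span {t}) d) B := ψ.toRingHom.toAlgebra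
  haveI : IsScalarTower R (AdicRing.RPow R (Ideal.span {t}) d) B :=
    IsScalarTower.of_algebraMap_eq (fun r => (ψ.commutes r).symm)
  set J := (Ideal.span {t}).map (algebraMap R B) with hJ
  have htJ : algebraMap R B t ∈ J := Ideal.mem_map_of_mem _ (Ideal.mem_span_singleton_self t)
  have hint : ∀ z : B, IsIntegral (AdicRing.RPow R (Ideal.span {t}) d)
      (Ideal.Quotient.mk J z) := by
    intro z
    obtain ⟨P, hPm, hP⟩ := hgfin.to_isIntegral (Ideal.Quotient.mk mB z)
    have hρs : Function.Surjective ρ :=
      MvPolynomial.map_surjective _ Ideal.Quotient.mk_surjective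
    obtain ⟨P', hP', -, hP'm⟩ := Polynomial.lifts_and_natDegree_eq_and_monic
      ((Polynomial.mem_lifts _).2 (Polynomial.map_surjective ρ hρs P)) hPm
    have hw : Polynomial.eval₂ θ z P' ∈ mB := by
      rw [← Ideal.Quotient.eq_zero_iff_mem, Polynomial.hom_eval₂, hcompat,
        ← Polynomial.eval₂_map]
      change Polynomial.eval₂ g.toRingHom _ (Polynomial.map ρ P') = 0
      rw [hP']
      exact hP
    obtain ⟨N, hN⟩ := exists_pow_mem_span R t B ht _ hw
    refine ⟨(P'.map (algebraMap (MvPolynomial (Fin d) R)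
      (AdicRing.RPow R (Ideal.span {t}) d))) ^ N, (hP'm.map _).pow N, ?_⟩
    have hf : (algebraMap (AdicRing.RPow R (Ideal.span {t}) d) (B ⧸ J)).comp
        (algebraMap (MvPolynomial (Fin d) R) (AdicRing.RPow R (Ideal.span {t}) d)) =
        (Ideal.Quotient.mk J).comp θ := rfl
    rw [Polynomial.eval₂_pow, Polynomial.eval₂_map, hf, ← Polynomial.hom_eval₂, ← map_pow,
      Ideal.Quotient.eq_zero_iff_mem]
    exact hN
  haveI : Algebra.IsIntegral (AdicRing.RPow R (Ideal.span {t}) d) (B ⧸ J) := by
    refine ⟨fun q => ?_⟩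
    obtain ⟨z, rfl⟩ := Ideal.Quotient.mk_surjective q
    exact hint z
  haveI : Algebra.FiniteType (AdicRing.RPow R (Ideal.span {t}) d) (B ⧸ J) := by
    obtain ⟨n, φ, hφ⟩ := hTF
    haveI : Algebra.FiniteType R (B ⧸ J) :=
      Algebra.FiniteType.of_surjective _ (polyToQuot_surjective R t B φ hφ J htJ)
    exact Algebra.FiniteType.of_restrictScalars_finiteType R _ (B ⧸ J)
  have hfinJ : Module.Finite (AdicRing.RPow R (Ideal.span {t}) d) (B ⧸ J) :=
    Algebra.IsIntegral.finite
  haveI := isAdicComplete_rpow R t d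
  haveI : IsHausdorff
      (Ideal.span {algebraMap R (AdicRing.RPow R (Ideal.span {t}) d) t}) B :=
    isHausdorff_of_tower t
  have hfinB : Module.Finite (AdicRing.RPow R (Ideal.span {t}) d) B := by
    refine Groth.Agent.Helper7.SopFree.finite_of_adic (AdicRing.RPow R (Ideal.span {t}) d)
      (Ideal.span {algebraMap R (AdicRing.RPow R (Ideal.span {t}) d) t}) B ?_
    have heq : (Ideal.span {algebraMap R (AdicRing.RPow R (Ideal.span {t}) d) t} • ⊤ :
        Submodule (AdicRing.RPow R (Ideal.span {t}) d) B) =
        J.restrictScalars (AdicRing.RPow R (Ideal.span {t}) d) := by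
      have hJ' : (Ideal.span {algebraMap R (AdicRing.RPow R (Ideal.span {t}) d) t}).map
          (algebraMap (AdicRing.RPow R (Ideal.span {t}) d) B) = J := by
        refine (Ideal.map_span _ _).trans ?_
        rw [Set.image_singleton, hJ]
        refine Eq.trans ?_ (Ideal.map_span (algebraMap R B) {t}).symm
        rw [Set.image_singleton, ← IsScalarTower.algebraMap_apply]
      exact (Ideal.smul_top_eq_map _).trans
        (congrArg (Submodule.restrictScalars (AdicRing.RPow R (Ideal.span {t}) d)) hJ')
    let e1 := Submodule.quotEquivOfEq _ _ heq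
    let e2 := Submodule.Quotient.restrictScalarsEquiv (AdicRing.RPow R (Ideal.span {t}) d) J
    exact Module.Finite.equiv (e1.trans e2).symm
  -- injectivity: the content argument
  have hinj : Function.Injective ψ := by
    rw [injective_iff_map_eq_zero]
    intro f hf
    by_contra hf0
    have hex : ∃ N : ℕ, ¬ (algebraMap R (AdicRing.RPow R (Ideal.span {t}) d) t ^ N ∣ f) := by
      by_contra hall
      push_neg at hall
      apply hf0
      apply IsHausdorff.haus'
        (I := Ideal.span {algebraMap R (AdicRing.RPow R (Ideal.span {t}) d) t})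
      intro N
      rw [SModEq.zero, Ideal.span_singleton_pow, smul_eq_mul, Ideal.mul_top,
        Ideal.mem_span_singleton]
      exact hall N
    obtain ⟨N, hN⟩ := hex
    obtain ⟨P, h, rfl⟩ := rpow_decomp_pow R t d N f
    have hPnd : ¬ (MvPolynomial.C (t ^ N) ∣ P) := by
      rintro ⟨P₁, rfl⟩
      apply hN
      refine ⟨algebraMap _ _ P₁ + h, ?_⟩
      rw [map_mul, algebraMap_C, map_pow]
      ring
    have hP0 : P ≠ 0 := by
      rintro rfl
      exact hPnd (dvd_zero _)
    have hsupp : P.support.Nonempty := by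
      rw [Finset.nonempty_iff_ne_empty, Ne, MvPolynomial.support_eq_empty]
      exact hP0
    obtain ⟨μ, hμ, hdvd⟩ := exists_dvd_all (fun ν => P.coeff ν) P.support hsupp
    have hc0 : P.coeff μ ≠ 0 := MvPolynomial.mem_support_iff.1 hμ
    have hcP : MvPolynomial.C (P.coeff μ) ∣ P := by
      rw [MvPolynomial.C_dvd_iff_dvd_coeff]
      intro ν
      by_cases hν : ν ∈ P.support
      · exact hdvd ν hν
      · rw [MvPolynomial.notMem_support_iff.1 hν]
        exact dvd_zero _
    obtain ⟨P', hP'⟩ := hcP
    have hcoeff : P'.coeff μ = 1 := by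
      have h1 : P.coeff μ * 1 = P.coeff μ * P'.coeff μ := by
        rw [mul_one]
        conv_lhs => rw [hP']
        rw [MvPolynomial.coeff_C_mul]
      exact (mul_left_cancel₀ hc0 h1).symm
    have hcdvd : P.coeff μ ∣ t ^ N := by
      rcases ValuationRing.dvd_total (P.coeff μ) (t ^ N) with h1 | h1
      · exact h1
      · exfalso
        apply hPnd
        rw [hP']
        exact Dvd.dvd.mul_right (_root_.map_dvd MvPolynomial.C h1) _
    obtain ⟨e, he⟩ := hcdvd
    have hem : e ∈ maximalIdeal R := by
      rw [mem_maximalIdeal, mem_nonunits_iff]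
      intro hu
      apply hPnd
      have h1 : t ^ N ∣ P.coeff μ := by
        obtain ⟨u, rfl⟩ := hu
        exact ⟨↑u⁻¹, by rw [he, mul_assoc, Units.mul_inv, mul_one]⟩
      rw [hP']
      exact Dvd.dvd.mul_right (_root_.map_dvd MvPolynomial.C h1) _
    set f' : AdicRing.RPow R (Ideal.span {t}) d :=
      algebraMap _ _ P' + algebraMap R _ e * h with hf'
    have hff' : algebraMap (MvPolynomial (Fin d) R) (AdicRing.RPow R (Ideal.span {t}) d) P +
        algebraMap R (AdicRing.RPow R (Ideal.span {t}) d) t ^ N * h =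
        algebraMap R _ (P.coeff μ) * f' := by
      rw [hf']
      conv_lhs => rw [hP']
      rw [map_mul, algebraMap_C, ← map_pow, he, map_mul]
      ring
    rw [hff', map_mul, ψ.commutes] at hf
    have hψf' : ψ f' = 0 := by
      apply hNT (ψ f') N
      intro a ha
      rw [Ideal.span_singleton_pow, Ideal.mem_span_singleton] at ha
      obtain ⟨a', rfl⟩ := ha
      rw [he, Algebra.smul_def, map_mul, map_mul]
      calc algebraMap R B (P.coeff μ) * algebraMap R B e * algebraMap R B a' * ψ f'
          = algebraMap R B e * algebraMap R B a' * (algebraMap R B (P.coeff μ) * ψ f') := by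
            ring
        _ = 0 := by rw [hf, mul_zero]
    have h1 : Ideal.Quotient.mk mB (ψ f') = g (ρ P') := by
      rw [hf', map_add, map_mul, ψ.commutes, map_add, map_mul]
      have h2 : Ideal.Quotient.mk mB (algebraMap R B e) = 0 :=
        Ideal.Quotient.eq_zero_iff_mem.2 (Ideal.mem_map_of_mem _ hem)
      rw [h2, zero_mul, add_zero]
      exact hcompat' P'
    rw [hψf', map_zero] at h1
    have h3 : ρ P' = 0 := hginj (by rw [← h1, map_zero])
    have h4 : (ρ P').coeff μ = 1 := by
      change (MvPolynomial.map (Ideal.Quotient.mk (maximalIdeal R)) P').coeff μ = 1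
      rw [MvPolynomial.coeff_map, hcoeff, map_one]
    rw [h3, MvPolynomial.coeff_zero] at h4
    haveI : Nontrivial (R ⧸ maximalIdeal R) := Ideal.Quotient.nontrivial_iff.2
      (Ideal.IsMaximal.ne_top inferInstance)
    exact zero_ne_one h4
  exact ⟨ψ, hinj, hfinB, fun i => by rw [hψof, MvPolynomial.aeval_X, hb]⟩

/-- **Nullstellensatz**: a domain topologically of finite type in which every nonzero element
divides a power of `t` (the generic fibre is a field) is module-finite over `R`. -/
theorem finite_of_field_generic (ht : t ≠ 0) [IsDomain B]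
    (hTF : AdicRing.TopFiniteType R (Ideal.span {t}) B) (ht0 : algebraMap R B t ≠ 0)
    (hF : ∀ x : B, x ≠ 0 → ∃ (y : B) (N : ℕ), x * y = algebraMap R B t ^ N) :
    Module.Finite R B := by
  classical
  have hjac := isUnit_tB_mul_add_one R t B hTF
  haveI hH : IsHausdorff (Ideal.span {t}) B := by
    refine ⟨fun x hx => ?_⟩
    by_contra hx0
    obtain ⟨y, N, hy⟩ := hF x hx0
    have h1 := hx (N + 1)
    rw [SModEq.zero, Ideal.span_singleton_pow, Submodule.ideal_span_singleton_smul,
      Submodule.mem_smul_pointwise_iff_exists] at h1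
    obtain ⟨z, -, hz⟩ := h1
    rw [Algebra.smul_def, map_pow] at hz
    have h2 : algebraMap R B t ^ N * (algebraMap R B t * (-(z * y)) + 1) = 0 := by
      have : algebraMap R B t ^ N * (algebraMap R B t * (-(z * y)) + 1) =
          algebraMap R B t ^ N - (algebraMap R B t ^ (N + 1) * z) * y := by ring
      rw [this, hz, hy, sub_self]
    rcases mul_eq_zero.1 h2 with h | h
    · exact pow_ne_zero _ ht0 h
    · have h3 := hjac (-(z * y))
      rw [h] at h3
      exact not_isUnit_zero h3
  have hNT : AdicRing.NoPowTorsion (Ideal.span {t}) B := by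
    intro x n hx
    have h1 := hx (t ^ n) (Ideal.pow_mem_pow (Ideal.mem_span_singleton_self t) n)
    rw [Algebra.smul_def, map_pow] at h1
    exact (mul_eq_zero.1 h1).resolve_left (pow_ne_zero _ ht0)
  set mB := (maximalIdeal R).map (algebraMap R B) with hmB
  have hne : mB ≠ ⊤ := by
    intro htop
    have h1 : (1 : B) ∈ mB := htop ▸ Submodule.mem_top
    obtain ⟨N, hN⟩ := exists_pow_mem_span R t B ht 1 h1
    rw [one_pow, Ideal.map_span, Set.image_singleton, Ideal.mem_span_singleton'] at hN
    obtain ⟨a, ha⟩ := hN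
    have h3 := hjac (-a)
    have h4 : algebraMap R B t * -a + 1 = 0 := by
      rw [mul_neg, mul_comm, ha]
      ring
    rw [h4] at h3
    exact not_isUnit_zero h3
  haveI : Nontrivial (B ⧸ mB) := Ideal.Quotient.nontrivial_iff.2 hne
  letI : Field (R ⧸ maximalIdeal R) := Ideal.Quotient.field _
  obtain ⟨n, φ, hφ⟩ := id hTF
  have htm : algebraMap R B t ∈ mB := Ideal.mem_map_of_mem _ (t_mem_maximalIdeal R t)
  haveI : Algebra.FiniteType R (B ⧸ mB) :=
    Algebra.FiniteType.of_surjective _ (polyToQuot_surjective R t B φ hφ _ htm)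
  haveI : Algebra.FiniteType (R ⧸ maximalIdeal R) (B ⧸ mB) :=
    Algebra.FiniteType.of_restrictScalars_finiteType R _ _
  obtain ⟨d, g, hginj, hgfin⟩ := exists_finite_inj_algHom_of_fg (R ⧸ maximalIdeal R) (B ⧸ mB)
  rcases Nat.eq_zero_or_pos d with rfl | hd
  · have h1 : (algebraMap (R ⧸ maximalIdeal R) (B ⧸ mB)).Finite := by
      have h2 : algebraMap (R ⧸ maximalIdeal R) (B ⧸ mB) =
          g.toRingHom.comp (MvPolynomial.C : _ →+* MvPolynomial (Fin 0) (R ⧸ maximalIdeal R)) := by
        ext x
        change _ = g (MvPolynomial.C x)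
        rw [← MvPolynomial.algebraMap_eq, g.commutes]
        rfl
      rw [h2]
      exact RingHom.Finite.comp hgfin
        (RingHom.Finite.of_surjective _ (MvPolynomial.C_surjective (Fin 0)))
    haveI : Module.Finite (R ⧸ maximalIdeal R) (B ⧸ mB) := RingHom.finite_algebraMap.1 h1
    have hfinQ : Module.Finite R (B ⧸ mB) := Module.Finite.trans (R ⧸ maximalIdeal R) _
    exact finite_of_finite_quotient_maximal R t B ht hTF hfinQ
  · exfalso
    obtain ⟨ψ, hψinj, hψfin, hψX⟩ :=
      exists_finite_injective_of_normalization R t B ht hTF hNT d g hginj hgfin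
    let i0 : Fin d := ⟨0, hd⟩
    set x : AdicRing.RPow R (Ideal.span {t}) d :=
      algebraMap (MvPolynomial (Fin d) R) _ (MvPolynomial.X i0) with hx
    have hψx0 : ψ x ≠ 0 := by
      intro h
      have h1 := hψX i0
      rw [← hx, h, map_zero] at h1
      exact MvPolynomial.X_ne_zero i0 (hginj (by rw [← h1, map_zero]))
    obtain ⟨y, N, hy⟩ := hF (ψ x) hψx0
    letI algS : Algebra (AdicRing.RPow R (Ideal.span {t}) d) B := ψ.toRingHom.toAlgebra
    haveI : Module.Finite (AdicRing.RPow R (Ideal.span {t}) d) B := hψfin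
    have hyint : IsIntegral (AdicRing.RPow R (Ideal.span {t}) d) y :=
      Algebra.IsIntegral.isIntegral y
    obtain ⟨r, w, hrw⟩ := exists_pow_eq_mul_of_isIntegral x
      (algebraMap R (AdicRing.RPow R (Ideal.span {t}) d) t ^ N) y (by
        change ψ x * y = ψ (algebraMap R _ t ^ N)
        rw [map_pow, ψ.commutes]
        exact hy) hyint
    have h5 : (algebraMap R (AdicRing.RPow R (Ideal.span {t}) d) t ^ N) ^ r = x * w :=
      hψinj hrw
    haveI : IsAdicComplete ((Ideal.span {t}).map (algebraMap R R)) R := by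
      rw [Algebra.algebraMap_self, Ideal.map_id]
      infer_instance
    let ε : AdicRing.RPow R (Ideal.span {t}) d →ₐ[R] R :=
      Groth.Agent.Helper1.RestrictedPS.φ (Ideal.span {t}) (fun _ : Fin d => (0 : R))
    have hε : ε x = 0 := by
      have h6 := φ_of (Ideal.span {t}) (fun _ : Fin d => (0 : R)) (MvPolynomial.X i0)
      rw [MvPolynomial.aeval_X] at h6
      exact h6
    have h6 := congrArg ε h5
    rw [map_mul, hε, zero_mul, map_pow, map_pow, ε.commutes] at h6
    exact pow_ne_zero r (pow_ne_zero N ht) h6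

end Null

end Groth.Agent.Helper8.RigPt
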