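import Mathlib
import Groth.Prelude
import Groth.Agent.Helper8.RigPtK
set_option autoImplicit false
universe u
open IsLocalRing Polynomial
open scoped TensorProduct

/-!
Rig-points of an admissible algebra and maximal ideals of its generic fibre (S11543).
-/

namespace Groth.Agent.Helper8.RigPt

section S11543
variable (R : Type u) [CommRing R] [IsDomain R] [ValuationRing R] [Ring.KrullDimLE 1 R]
  (t : R) [IsAdicComplete (Ideal.span {t}) R]
  (A : Type u) [CommRing A] [Algebra R A]

theorem s11543_loc (ht : t ≠ 0) (hTF : AdicRing.TopFiniteType R (Ideal.span {t}) A)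
    (T : Type u) [CommRing T] [Algebra A T]
    [IsLocalization (Algebra.algebraMapSubmonoid A (nonZeroDivisors R)) T] :
    (∀ p : Ideal A, p.IsPrime → algebraMap R A t ∉ p → ringKrullDim (A ⧸ p) = 1 →
        (p.map (algebraMap A T)).IsMaximal ∧
          (p.map (algebraMap A T)).comap (algebraMap A T) = p) ∧
      (∀ m : Ideal T, m.IsMaximal →
        algebraMap R A t ∉ m.comap (algebraMap A T) ∧
          ringKrullDim (A ⧸ m.comap (algebraMap A T)) = 1 ∧
          (m.comap (algebraMap A T)).map (algebraMap A T) = m) := by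
  set M' := Algebra.algebraMapSubmonoid A (nonZeroDivisors R) with hM'
  have hjac := isUnit_tB_mul_add_one R t A hTF
  have hjac' : algebraMap R A t ∈ Ideal.jacobson (⊥ : Ideal A) := Ideal.mem_jacobson_bot.2 hjac
  have htmax : ∀ q : Ideal A, q.IsMaximal → algebraMap R A t ∈ q := fun q hq =>
    (sInf_le (show q ∈ {J : Ideal A | ⊥ ≤ J ∧ J.IsMaximal} from ⟨bot_le, hq⟩)) hjac'
  have htM' : algebraMap R A t ∈ M' :=
    Algebra.mem_algebraMapSubmonoid_of_mem ⟨t, mem_nonZeroDivisors_of_ne_zero ht⟩
  have htunit : IsUnit (algebraMap A T (algebraMap R A t)) :=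
    IsLocalization.map_units T ⟨_, htM'⟩
  have hdisj : ∀ q : Ideal A, q.IsPrime → algebraMap R A t ∉ q →
      Disjoint (M' : Set A) (q : Set A) := by
    intro q hq htq
    rw [Set.disjoint_left]
    rintro _ ⟨r, hr, rfl⟩ hrq
    obtain ⟨N, e, he⟩ := exists_dvd_pow R t r (nonZeroDivisors.ne_zero hr)
    apply htq
    apply hq.mem_of_pow_mem N
    rw [← map_pow, he, map_mul]
    exact q.mul_mem_right _ hrq
  refine ⟨?_, ?_⟩
  · intro p hp htp hdim
    have hd := hdisj p hp htp
    have hcm : (p.map (algebraMap A T)).comap (algebraMap A T) = p :=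
      IsLocalization.comap_map_of_isPrime_disjoint M' T hp hd
    refine ⟨?_, hcm⟩
    have hne : p.map (algebraMap A T) ≠ ⊤ := by
      intro h
      rw [h, Ideal.comap_top] at hcm
      exact hp.ne_top hcm.symm
    obtain ⟨Q, hQmax, hQ⟩ := Ideal.exists_le_maximal _ hne
    set q := Q.comap (algebraMap A T) with hq
    haveI hqp : q.IsPrime := Ideal.comap_isPrime _ _
    have hpq : p ≤ q := by
      rw [← hcm]
      exact Ideal.comap_mono hQ
    have hQq : q.map (algebraMap A T) = Q := IsLocalization.map_comap M' T Q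
    have htq : algebraMap R A t ∉ q := by
      intro h
      exact hQmax.ne_top (Ideal.eq_top_of_isUnit_mem _ h htunit)
    have hqp' : q = p := by
      by_contra hne'
      have hlt : p < q := lt_of_le_of_ne hpq (Ne.symm hne')
      haveI : Ring.KrullDimLE 1 (A ⧸ p) := Ring.krullDimLE_iff.mpr hdim.le
      haveI : IsDomain (A ⧸ p) := Ideal.Quotient.isDomain p
      have hker : RingHom.ker (Ideal.Quotient.mk p) ≤ q := by
        rw [Ideal.mk_ker]
        exact hpq
      have hqbar : (q.map (Ideal.Quotient.mk p)).IsPrime :=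
        Ideal.map_isPrime_of_surjective Ideal.Quotient.mk_surjective hker
      have hqbar0 : q.map (Ideal.Quotient.mk p) ≠ ⊥ := by
        intro h
        rw [Ideal.map_eq_bot_iff_le_ker, Ideal.mk_ker] at h
        exact not_le_of_gt hlt h
      haveI hqbarmax := hqbar.isMaximal_of_ne_bot hqbar0
      have hqmax : q.IsMaximal := by
        have h1 := Ideal.comap_isMaximal_of_surjective (Ideal.Quotient.mk p)
          Ideal.Quotient.mk_surjective (K := q.map (Ideal.Quotient.mk p))
        rwa [Ideal.comap_map_of_surjective _ Ideal.Quotient.mk_surjective,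
          ← RingHom.ker_eq_comap_bot, sup_eq_left.2 hker] at h1
      exact htq (htmax q hqmax)
    have hfinal : p.map (algebraMap A T) = Q := by
      rw [← hQq, hqp']
    rw [hfinal]
    exact hQmax
  · intro m hm
    set q := m.comap (algebraMap A T) with hq
    haveI hmp : m.IsPrime := hm.isPrime
    haveI hqp : q.IsPrime := Ideal.comap_isPrime _ _
    have htq : algebraMap R A t ∉ q := fun h =>
      hm.ne_top (Ideal.eq_top_of_isUnit_mem _ h htunit)
    have hmq : q.map (algebraMap A T) = m := IsLocalization.map_comap M' T m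
    refine ⟨htq, ?_, hmq⟩
    haveI : IsDomain (A ⧸ q) := Ideal.Quotient.isDomain q
    have hTFq : AdicRing.TopFiniteType R (Ideal.span {t}) (A ⧸ q) := by
      obtain ⟨n, φ, hφ⟩ := hTF
      exact ⟨n, (Ideal.Quotient.mkₐ R q).comp φ, (Ideal.Quotient.mkₐ_surjective R q).comp hφ⟩
    have ht0 : algebraMap R (A ⧸ q) t ≠ 0 := by
      intro h
      apply htq
      rw [← Ideal.Quotient.eq_zero_iff_mem, Ideal.Quotient.mk_algebraMap]
      exact h
    have hF : ∀ x : A ⧸ q, x ≠ 0 →
        ∃ (y : A ⧸ q) (N : ℕ), x * y = algebraMap R (A ⧸ q) t ^ N := by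
      intro x hx
      obtain ⟨a, rfl⟩ := Ideal.Quotient.mk_surjective x
      have ha : algebraMap A T a ∉ m := fun h => hx (Ideal.Quotient.eq_zero_iff_mem.2 h)
      obtain ⟨y, z, hz, hyz⟩ := hm.exists_inv ha
      obtain ⟨a', s, rfl⟩ := IsLocalization.exists_mk'_eq M' y
      obtain ⟨r, hr, hrs⟩ := Submonoid.mem_map.1 s.2
      obtain ⟨N, e, he⟩ := exists_dvd_pow R t r (nonZeroDivisors.ne_zero hr)
      have h1 : (s : A) - a' * a ∈ q := by
        rw [hq, Ideal.mem_comap, map_sub, map_mul]
        have h2 : algebraMap A T s - algebraMap A T a' * algebraMap A T a =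
            algebraMap A T s * z := by
          have h3 : algebraMap A T s * (IsLocalization.mk' T a' s * algebraMap A T a + z) =
              algebraMap A T s * 1 := by rw [hyz]
          rw [mul_add, ← mul_assoc, IsLocalization.mk'_spec', mul_one] at h3
          linear_combination (-1 : T) * h3
        rw [h2]
        exact m.mul_mem_left _ hz
      refine ⟨Ideal.Quotient.mk q a' * Ideal.Quotient.mk q (algebraMap R A e), N, ?_⟩
      have h4 : Ideal.Quotient.mk q (s : A) = Ideal.Quotient.mk q a' * Ideal.Quotient.mk q a := by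
        rw [← map_mul, Ideal.Quotient.eq]
        exact h1
      have h5 : algebraMap R (A ⧸ q) t ^ N =
          Ideal.Quotient.mk q (s : A) * Ideal.Quotient.mk q (algebraMap R A e) := by
        rw [← map_pow, he, map_mul, ← hrs, ← Ideal.Quotient.mk_algebraMap,
          ← Ideal.Quotient.mk_algebraMap]
      rw [h5, h4]
      ring
    haveI hfin : Module.Finite R (A ⧸ q) := finite_of_field_generic R t (A ⧸ q) ht hTFq ht0 hF
    haveI : Algebra.IsIntegral R (A ⧸ q) := Algebra.IsIntegral.of_finite R _
    rw [Groth.Agent.Helper5.IntegralDim.ringKrullDim_eq_of_isIntegral_of_injective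
      (injective_algebraMap R t (A ⧸ q) ht0)]
    exact ringKrullDim_eq_one R t ht

theorem s11543 (ht : t ≠ 0) (hTF : AdicRing.TopFiniteType R (Ideal.span {t}) A) :
    (∀ p : Ideal A, p.IsPrime → algebraMap R A t ∉ p → ringKrullDim (A ⧸ p) = 1 →
        (p.map (Algebra.TensorProduct.includeLeftRingHom :
          A →+* A ⊗[R] FractionRing R)).IsMaximal ∧
        (p.map (Algebra.TensorProduct.includeLeftRingHom :
          A →+* A ⊗[R] FractionRing R)).comap (Algebra.TensorProduct.includeLeftRingHom :
          A →+* A ⊗[R] FractionRing R) = p) ∧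
      (∀ m : Ideal (A ⊗[R] FractionRing R), m.IsMaximal →
        algebraMap R A t ∉ m.comap (Algebra.TensorProduct.includeLeftRingHom :
            A →+* A ⊗[R] FractionRing R) ∧
          ringKrullDim (A ⧸ m.comap (Algebra.TensorProduct.includeLeftRingHom :
            A →+* A ⊗[R] FractionRing R)) = 1 ∧
          (m.comap (Algebra.TensorProduct.includeLeftRingHom :
            A →+* A ⊗[R] FractionRing R)).map (Algebra.TensorProduct.includeLeftRingHom :
            A →+* A ⊗[R] FractionRing R) = m) := by
  have hincl : (Algebra.TensorProduct.includeLeftRingHom : A →+* A ⊗[R] FractionRing R) =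
      algebraMap A (A ⊗[R] FractionRing R) := by
    ext a
    simp [Algebra.TensorProduct.algebraMap_apply]
  rw [hincl]
  exact s11543_loc R t A ht hTF (A ⊗[R] FractionRing R)

end S11543

end Groth.Agent.Helper8.RigPt
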