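import Mathlib

set_option autoImplicit false
universe u

namespace Groth.Agent.Helper8.Rigid

open AlgebraicGeometry CategoryTheory CategoryTheory.Limits

set_option backward.isDefEq.respectTransparency false in
/-- The equalizer of two morphisms into an unramified `S`-scheme is an open immersion. -/
theorem isOpenImmersion_equalizer_ι_left {S : Scheme.{u}} {X Y : Over S} [FormallyUnramified Y.hom]
    [LocallyOfFiniteType Y.hom]
    (f g : X ⟶ Y) : IsOpenImmersion (equalizer.ι f g).left := by
  refine MorphismProperty.of_isPullback (P := @IsOpenImmersion)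
    ((Limits.isPullback_equalizer_prod f g).map (Over.forget _)).flip ?_
  rw [← MorphismProperty.cancel_right_of_respectsIso @IsOpenImmersion _
    (Over.prodLeftIsoPullback Y Y).hom]
  convert! (inferInstance : IsOpenImmersion (pullback.diagonal Y.hom))
  ext1 <;> simp [← Over.comp_left]

/-- Rigidity: two morphisms from a connected scheme into an unramified separated `Z`-scheme
which agree over `Z` and agree after precomposition with a morphism from a nonempty scheme
are equal. -/
theorem eq_of_connected {X Y Z W : Scheme.{u}} [ConnectedSpace X] {a b : X ⟶ Y}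
    (s : Y ⟶ Z) [IsSeparated s] [FormallyUnramified s] [LocallyOfFiniteType s]
    (h : a ≫ s = b ≫ s) (ι : W ⟶ X) [Nonempty W] (hU : ι ≫ a = ι ≫ b) : a = b := by
  let X' : Over Z := Over.mk (a ≫ s)
  let Y' : Over Z := Over.mk s
  let U' : Over Z := Over.mk (ι ≫ a ≫ s)
  let a' : X' ⟶ Y' := Over.homMk a
  let b' : X' ⟶ Y' := Over.homMk b h.symm
  let ι' : U' ⟶ X' := Over.homMk ι
  have : IsSeparated Y'.hom := ‹_›
  have : FormallyUnramified Y'.hom := ‹_›
  have : LocallyOfFiniteType Y'.hom := ‹_›
  have hopen : IsOpenImmersion (equalizer.ι a' b').left := isOpenImmersion_equalizer_ι_left a' b'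
  have hclosed : IsClosedImmersion (equalizer.ι a' b').left := inferInstance
  set e : (equalizer a' b').left ⟶ X := (equalizer.ι a' b').left with he
  have hι : ι' ≫ a' = ι' ≫ b' := by ext1; exact hU
  have hclopen : IsClopen (Set.range e) :=
    ⟨e.isClosedEmbedding.isClosed_range, e.isOpenEmbedding.isOpen_range⟩
  obtain ⟨w⟩ := ‹Nonempty W›
  have hne : (Set.range e).Nonempty := by
    refine ⟨ι w, (equalizer.lift ι' hι).left w, ?_⟩
    rw [he, ← Scheme.Hom.comp_apply, ← Over.comp_left, equalizer.lift_ι]
    rfl
  have huniv : Set.range e = Set.univ := hclopen.eq_univ hne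
  have : IsIso e := by
    apply isIso_of_isOpenImmersion_of_opensRange_eq_top
    ext1
    simpa using huniv
  rw [← cancel_epi e]
  exact congr($(equalizer.condition a' b').left)

end Groth.Agent.Helper8.Rigid
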