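import Groth.Agent.Helper8.BiaddB

/-!
# A morphism from an abelian scheme (smooth, proper, connected geometric fibres) to a separated
group scheme preserving the unit is a homomorphism
-/

set_option autoImplicit false
set_option linter.style.haveILetI false

universe u

open CategoryTheory CategoryTheory.Limits MonoidalCategory CartesianMonoidalCategory MonObj
  AlgebraicGeometry Opposite

namespace Groth.Agent.Helper8.Rigid5

/-- `Spec` of a field extension is surjective -/
theorem surjective_SpecMap_field (k K : Type u) [Field k] [Field K] (φ : k →+* K) :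
    Surjective (Spec.map (CommRingCat.ofHom φ)) := by
  refine ⟨fun x => ?_⟩
  haveI : Subsingleton ↥(Spec (CommRingCat.of k)) :=
    inferInstanceAs (Subsingleton (PrimeSpectrum k))
  haveI : Nonempty ↥(Spec (CommRingCat.of K)) := inferInstanceAs (Nonempty (PrimeSpectrum K))
  obtain ⟨y⟩ := (inferInstance : Nonempty ↥(Spec (CommRingCat.of K)))
  exact ⟨y, Subsingleton.elim _ _⟩

/-- the fibre is connected if the geometric fibre is -/
theorem connectedSpace_fiber_of_geom {X S : Scheme.{u}} (f : X ⟶ S) (s : S) (K : Type u)
    [Field K] [Algebra (S.residueField s) K]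
    [ConnectedSpace ↥(pullback f (Spec.map (CommRingCat.ofHom
      (algebraMap (S.residueField s) K)) ≫ S.fromSpecResidueField s))] :
    ConnectedSpace ↥(f.fiber s) := by
  set a := Spec.map (CommRingCat.ofHom (algebraMap (S.residueField s) K)) with ha
  let m : pullback f (a ≫ S.fromSpecResidueField s) ⟶ f.fiber s :=
    pullback.lift (pullback.fst _ _) (pullback.snd _ _ ≫ a)
      (by rw [pullback.condition, Category.assoc])
  have hm1 : m ≫ f.fiberι s = pullback.fst _ _ := pullback.lift_fst _ _ _
  have hm2 : m ≫ f.fiberToSpecResidueField s = pullback.snd _ _ ≫ a := pullback.lift_snd _ _ _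
  have hbig : IsPullback (m ≫ f.fiberι s) (pullback.snd f (a ≫ S.fromSpecResidueField s)) f
      (a ≫ S.fromSpecResidueField s) := by
    rw [hm1]
    exact IsPullback.of_hasPullback _ _
  have hright : IsPullback (f.fiberι s) (f.fiberToSpecResidueField s) f
      (S.fromSpecResidueField s) := IsPullback.of_hasPullback _ _
  have hleft : IsPullback m (pullback.snd f (a ≫ S.fromSpecResidueField s))
      (f.fiberToSpecResidueField s) a := IsPullback.of_right hbig hm2 hright
  haveI : Surjective a := surjective_SpecMap_field _ _ _
  haveI : Surjective m := MorphismProperty.of_isPullback (P := @Surjective) hleft.flip inferInstance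
  exact m.surjective.connectedSpace m.continuous

variable {S : Scheme.{u}}

/-- **GIT 6.4** -/
theorem isMonHom_of_one (X G : Over S) [GrpObj X] [GrpObj G] [Smooth X.hom] [IsProper X.hom]
    (hc : ∀ s : S, ConnectedSpace ↥(pullback X.hom (Spec.map (CommRingCat.ofHom
      (algebraMap (S.residueField s) (AlgebraicClosure (S.residueField s)))) ≫
        S.fromSpecResidueField s)))
    [IsSeparated G.hom] (f : X ⟶ G) (hf : η[X] ≫ f = η[G]) : IsMonHom f := by
  haveI : GeometricallyReduced X.hom := Biadd.geometricallyReduced_of_smooth X.hom
  haveI : GeometricallyConnected X.hom := by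
    refine Biadd.geometricallyConnected_of_section X.hom η[X].left (Over.w η[X]) ?_
    intro s
    haveI := hc s
    exact connectedSpace_fiber_of_geom X.hom s (AlgebraicClosure (S.residueField s))
  exact Rigid3.isMonHom_of_one X G f hf

end Groth.Agent.Helper8.Rigid5
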