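import Mathlib
import Groth.Agent.Helper8.Obs1
set_option autoImplicit false
universe u v

namespace Groth.Agent.Helper8.Rim
open ArtFun ArtFun.Art IsLocalRing CategoryTheory Groth.Agent.Helper6 Groth.Agent.Helper8.Schl MvPowerSeries

variable {Λ : Type u} {k : Type u} [CommRing Λ] [IsLocalRing Λ] [Field k] [Algebra Λ k]

/-- the ideal `𝔪² + 𝔪_Λ A` of a local `Λ`-algebra -/
def relSq (A : Type u) [CommRing A] [Algebra Λ A] [IsLocalRing A] : Ideal A :=
  maximalIdeal A ^ 2 ⊔ (maximalIdeal Λ).map (algebraMap Λ A)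

section MinFam

variable (R : Art Λ k)

/-- a generating family of the relative cotangent space -/
def GenFam (d : ℕ) : Prop :=
  ∃ x : Fin d → R, (∀ i, x i ∈ maximalIdeal R) ∧
    maximalIdeal R ≤ Ideal.span (Set.range x) ⊔ relSq (Λ := Λ) R

theorem exists_genFam : ∃ d, GenFam R d := by
  classical
  obtain ⟨s, hs⟩ := (IsNoetherian.noetherian (maximalIdeal R) : (maximalIdeal R).FG)
  let e : Fin s.card ≃ s := (Fintype.equivFinOfCardEq (by rw [Fintype.card_coe])).symm
  refine ⟨s.card, fun i => (e i).1, ?_, ?_⟩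
  · intro i
    rw [← hs]
    exact Submodule.subset_span (e i).2
  · refine le_sup_of_le_left ?_
    rw [← hs]
    refine Submodule.span_mono ?_
    intro y hy
    exact ⟨e.symm ⟨y, hy⟩, by change (e (e.symm ⟨y, hy⟩)).1 = y; rw [Equiv.apply_symm_apply]⟩

/-- a minimal generating family of the relative cotangent space -/
theorem exists_minFam :
    ∃ (d : ℕ) (x : Fin d → R), (∀ i, x i ∈ maximalIdeal R) ∧
      maximalIdeal R ≤ Ideal.span (Set.range x) ⊔ relSq (Λ := Λ) R ∧
      ∀ j, x j ∉ Ideal.span (x '' {i | i ≠ j}) ⊔ relSq (Λ := Λ) R := by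
  classical
  obtain ⟨d, hd⟩ : ∃ d, d = Nat.find (exists_genFam (Λ := Λ) R) := ⟨_, rfl⟩
  have hP : GenFam (Λ := Λ) R d := hd ▸ Nat.find_spec (exists_genFam (Λ := Λ) R)
  have hmin : ∀ d' < d, ¬ GenFam (Λ := Λ) R d' := fun d' h => Nat.find_min _ (hd ▸ h)
  obtain ⟨x, hx, hgen⟩ := hP
  refine ⟨d, x, hx, hgen, ?_⟩
  intro j hj
  cases d with
  | zero => exact j.elim0
  | succ d' =>
    refine hmin d' (Nat.lt_succ_self d') ⟨x ∘ j.succAbove, fun i => hx _, ?_⟩
    have hrange : Set.range (x ∘ j.succAbove) = x '' {i | i ≠ j} := by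
      rw [Set.range_comp]
      congr 1
      ext i
      constructor
      · rintro ⟨i', rfl⟩
        exact Fin.succAbove_ne j i'
      · intro hi
        exact Fin.exists_succAbove_eq hi
    rw [hrange]
    refine hgen.trans ?_
    refine sup_le ?_ le_sup_right
    rw [Ideal.span_le]
    rintro _ ⟨i, rfl⟩
    by_cases hij : i = j
    · rw [hij]; exact hj
    · exact Ideal.mem_sup_left (Ideal.subset_span ⟨i, hij, rfl⟩)

end MinFam

end Groth.Agent.Helper8.Rim
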