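import Mathlib
import Groth.Agent.Helper8.RimA
set_option autoImplicit false
universe u v

namespace Groth.Agent.Helper8.Rim
open ArtFun ArtFun.Art IsLocalRing CategoryTheory Groth.Agent.Helper6 Groth.Agent.Helper8.Schl MvPowerSeries

variable {Λ : Type u} {k : Type u} [CommRing Λ] [IsLocalRing Λ] [Field k] [Algebra Λ k]

theorem smul_mem_ideal {A : Type u} [CommRing A] [Algebra Λ A] (I : Ideal A) (c : Λ) {y : A} (hy : y ∈ I) :
    c • y ∈ I := by
  rw [Algebra.smul_def]
  exact Ideal.mul_mem_left _ _ hy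

/-- a minimal family is independent modulo `𝔪² + 𝔪_Λ R` -/
theorem coeff_mem_of_sum_mem (R : Art Λ k) {d : ℕ} (x : Fin d → R)
    (hmin : ∀ j, x j ∉ Ideal.span (x '' {i | i ≠ j}) ⊔ relSq (Λ := Λ) R)
    (c : Fin d → Λ) (h : ∑ i, c i • x i ∈ relSq (Λ := Λ) R) (j : Fin d) : c j ∈ maximalIdeal Λ := by
  classical
  by_contra hcj
  have hu : IsUnit (c j) := by
    by_contra hnu
    exact hcj ((mem_maximalIdeal _).2 hnu)
  obtain ⟨u, hu⟩ := hu
  apply hmin j
  have h1 : c j • x j + ∑ i ∈ Finset.univ.erase j, c i • x i = ∑ i, c i • x i :=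
    Finset.add_sum_erase Finset.univ (fun i => c i • x i) (Finset.mem_univ j)
  have h2 : c j • x j = ∑ i, c i • x i - ∑ i ∈ Finset.univ.erase j, c i • x i := by
    rw [← h1]; ring
  have h3 : c j • x j ∈ Ideal.span (x '' {i | i ≠ j}) ⊔ relSq (Λ := Λ) R := by
    rw [h2]
    refine Ideal.sub_mem _ (Ideal.mem_sup_right h) (Ideal.mem_sup_left ?_)
    refine Ideal.sum_mem _ fun i hi => ?_
    exact smul_mem_ideal _ _ (Ideal.subset_span ⟨i, (Finset.mem_erase.1 hi).1, rfl⟩)
  have h4 : x j = (↑u⁻¹ : Λ) • (c j • x j) := by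
    rw [smul_smul, ← hu, Units.inv_mul, one_smul]
  rw [h4]
  exact smul_mem_ideal _ _ h3

variable [IsNoetherianRing Λ] [IsAdicComplete (maximalIdeal Λ) Λ]

theorem algebraMap_mem_relSq_ps (d : ℕ) {c : Λ} (hc : c ∈ maximalIdeal Λ) (f : MvPowerSeries (Fin d) Λ) :
    C c * f ∈ relSq (Λ := Λ) (MvPowerSeries (Fin d) Λ) := by
  refine Ideal.mem_sup_right (Ideal.mul_mem_right _ _ ?_)
  have : (C c : MvPowerSeries (Fin d) Λ) = algebraMap Λ _ c := by
    rw [MvPowerSeries.algebraMap_apply]; rfl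
  rw [this]
  exact Ideal.mem_map_of_mem _ hc

/-- a presentation with a minimal number of variables -/
theorem exists_presentation (hk : Function.Surjective (algebraMap Λ k)) (R : Art Λ k) :
    ∃ (d : ℕ) (π : HomSet (psCRing (baseCRing hk) d).carrier (psCRing (baseCRing hk) d).res R),
      Function.Surjective π.1 ∧ RingHom.ker π.1 ≤ relSq (Λ := Λ) (MvPowerSeries (Fin d) Λ) := by
  classical
  obtain ⟨d, x, hx, hgen, hmin⟩ := exists_minFam (Λ := Λ) R
  have y : HomSet (baseCRing hk).carrier (baseCRing hk).res R := ⟨Algebra.ofId Λ R, Subsingleton.elim _ _⟩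
  obtain ⟨π, -, hπX⟩ := ps_exists_point (baseCRing hk) d y x hx
  have hπC : ∀ c : Λ, π.1 (C c) = algebraMap Λ R c := by
    intro c
    have : (C c : MvPowerSeries (Fin d) Λ) = algebraMap Λ _ c := by
      rw [MvPowerSeries.algebraMap_apply]; rfl
    rw [this, π.1.commutes]
  have hCm : ∀ c ∈ maximalIdeal Λ, (C c : MvPowerSeries (Fin d) Λ) ∈ maximalIdeal (MvPowerSeries (Fin d) Λ) :=
    fun c hc => ps_C_mem_maximalIdeal (baseCRing hk) d hc
  have hXm : ∀ i, (X i : MvPowerSeries (Fin d) Λ) ∈ maximalIdeal (MvPowerSeries (Fin d) Λ) :=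
    fun i => ps_X_mem_maximalIdeal (baseCRing hk) d i
  have hπm : ∀ f ∈ maximalIdeal (MvPowerSeries (Fin d) Λ), π.1 f ∈ maximalIdeal R :=
    fun f hf => maximalIdeal_le_comap (psCRing (baseCRing hk) d) π hf
  have hmapX : Ideal.span (Set.range x) ≤ Ideal.map π.1 (maximalIdeal (MvPowerSeries (Fin d) Λ)) := by
    rw [Ideal.span_le]
    rintro _ ⟨i, rfl⟩
    rw [← hπX i]
    exact Ideal.mem_map_of_mem _ (hXm i)
  have hmapΛ : Ideal.map (algebraMap Λ R) (maximalIdeal Λ) ≤
      Ideal.map π.1 (maximalIdeal (MvPowerSeries (Fin d) Λ)) := by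
    rw [Ideal.map_le_iff_le_comap]
    intro c hc
    rw [Ideal.mem_comap, ← hπC c]
    exact Ideal.mem_map_of_mem _ (hCm c hc)
  have hmle : Ideal.map π.1 (maximalIdeal (MvPowerSeries (Fin d) Λ)) ≤ maximalIdeal R := by
    rw [Ideal.map_le_iff_le_comap]
    exact fun f hf => hπm f hf
  have hsup : Ideal.map π.1 (maximalIdeal (MvPowerSeries (Fin d) Λ)) ⊔ maximalIdeal R ^ 2 = maximalIdeal R := by
    apply le_antisymm
    · exact sup_le hmle (Ideal.pow_le_self two_ne_zero)
    · refine hgen.trans ?_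
      exact sup_le (le_sup_of_le_left hmapX) (sup_le le_sup_right (le_sup_of_le_left hmapΛ))
  refine ⟨d, π, ?_, ?_⟩
  · exact CRing.surjective_of_map_maximalIdeal_sup_sq (R := psCRing (baseCRing hk) d) (S := artCRing R)
      π.1 π.2 hsup
  · intro s hs
    have hsm : s ∈ maximalIdeal (MvPowerSeries (Fin d) Λ) :=
      ker_le_maximalIdeal_of_point (psCRing (baseCRing hk) d) π hs
    have hs0 : constantCoeff s ∈ maximalIdeal Λ := (ps_mem_maximalIdeal_iff d s).1 hsm
    obtain ⟨g, hg, hg0⟩ := Groth.Agent.Helper5.MvPSIdeal.exists_decomp (s - C (constantCoeff s))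
      (by rw [map_sub, constantCoeff_C, sub_self])
    obtain ⟨c, hc⟩ : ∃ c : Fin d → Λ, ∀ i, c i = constantCoeff (g i) := ⟨_, fun i => rfl⟩
    have hg' : ∀ i, g i - C (c i) ∈ maximalIdeal (MvPowerSeries (Fin d) Λ) := by
      intro i
      rw [ps_mem_maximalIdeal_iff, map_sub, constantCoeff_C, hc, sub_self]
      exact Ideal.zero_mem _
    have hdec : s = C (constantCoeff s) + ∑ i, C (c i) * X i + ∑ i, X i * (g i - C (c i)) := by
      have h1 : s = C (constantCoeff s) + (s - C (constantCoeff s)) := by ring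
      conv_lhs => rw [h1, hg]
      rw [add_assoc, ← Finset.sum_add_distrib]
      congr 1
      refine Finset.sum_congr rfl fun i _ => ?_
      ring
    have hπs : π.1 s = 0 := hs
    rw [hdec, map_add, map_add, map_sum, map_sum, hπC] at hπs
    have hsum : ∑ i, c i • x i ∈ relSq (Λ := Λ) R := by
      have h2 : ∑ i, c i • x i = -(algebraMap Λ R (constantCoeff s)) -
          ∑ i, π.1 (X i * (g i - C (c i))) := by
        have h3 : ∑ i, π.1 (C (c i) * X i) = ∑ i, c i • x i := by
          refine Finset.sum_congr rfl fun i _ => ?_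
          rw [map_mul, hπC, hπX, Algebra.smul_def]
        rw [h3] at hπs
        rw [← sub_eq_zero, ← hπs]
        ring
      rw [h2]
      refine Ideal.sub_mem _ (neg_mem (Ideal.mem_sup_right (Ideal.mem_map_of_mem _ hs0))) ?_
      refine Ideal.sum_mem _ fun i _ => Ideal.mem_sup_left ?_
      rw [map_mul, pow_two]
      exact Ideal.mul_mem_mul (hπm _ (hXm i)) (hπm _ (hg' i))
    have hcm := coeff_mem_of_sum_mem R x hmin c hsum
    rw [hdec]
    refine Ideal.add_mem _ (Ideal.add_mem _ ?_ ?_) ?_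
    · have := algebraMap_mem_relSq_ps d hs0 (1 : MvPowerSeries (Fin d) Λ)
      rwa [mul_one] at this
    · exact Ideal.sum_mem _ fun i _ => algebraMap_mem_relSq_ps d (hcm i) (X i)
    · refine Ideal.sum_mem _ fun i _ => Ideal.mem_sup_left ?_
      rw [pow_two]
      exact Ideal.mul_mem_mul (hXm i) (hg' i)

end Groth.Agent.Helper8.Rim
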