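import Mathlib
import Groth.Agent.Helper8.RimB
set_option autoImplicit false
universe u v

namespace Groth.Agent.Helper8.Rim
open ArtFun ArtFun.Art IsLocalRing CategoryTheory Groth.Agent.Helper6 Groth.Agent.Helper8.Schl MvPowerSeries

section Dual

variable {Λ : Type u} {k : Type u} [CommRing Λ] [Field k] [Algebra Λ k]

theorem dn_mul_eq_zero (x y : DualNumber k) (hx : x.fst = 0) (hy : y.fst = 0) : x * y = 0 := by
  apply TrivSqZeroExt.ext
  · rw [TrivSqZeroExt.fst_mul, hx, zero_mul, TrivSqZeroExt.fst_zero]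
  · rw [TrivSqZeroExt.snd_mul, hx, hy, zero_smul, MulOpposite.op_zero, zero_smul, add_zero,
      TrivSqZeroExt.snd_zero]

theorem dn_eq_mul_eps (x : DualNumber k) (hx : x.fst = 0) :
    (TrivSqZeroExt.inl x.snd : DualNumber k) * DualNumber.eps = x := by
  apply TrivSqZeroExt.ext
  · rw [TrivSqZeroExt.fst_mul, TrivSqZeroExt.fst_inl, DualNumber.fst_eps, mul_zero, hx]
  · rw [TrivSqZeroExt.snd_mul, TrivSqZeroExt.fst_inl, DualNumber.snd_eps, DualNumber.fst_eps,
      MulOpposite.op_zero, zero_smul, add_zero, smul_eq_mul, mul_one]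

theorem dn_fst_mul_eps (a : DualNumber k) : (a * DualNumber.eps).fst = 0 := by
  rw [TrivSqZeroExt.fst_mul, DualNumber.fst_eps, mul_zero]

theorem dn_eps_ne_zero : (DualNumber.eps : DualNumber k) ≠ 0 := by
  intro h1
  have h2 := congrArg TrivSqZeroExt.snd h1
  rw [DualNumber.snd_eps, TrivSqZeroExt.snd_zero] at h2
  exact one_ne_zero h2

/-- `ε` as an element of the object `k[ε]` -/
noncomputable def epsD : dual Λ k := (DualNumber.eps : DualNumber k)

theorem isSmallExt_toBase_dual : IsSmallExt (toBase (dual Λ k)) := by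
  have hmem : ∀ x : dual Λ k, x ∈ RingHom.ker (toBase (dual Λ k)).toAlgHom ↔
      TrivSqZeroExt.fst (R := k) (M := k) x = 0 := fun x => RingHom.mem_ker
  have hker : RingHom.ker (toBase (dual Λ k)).toAlgHom = Ideal.span {epsD (Λ := Λ) (k := k)} := by
    ext x
    rw [hmem, Ideal.mem_span_singleton']
    constructor
    · intro hx
      exact ⟨(TrivSqZeroExt.inl (TrivSqZeroExt.snd (R := k) (M := k) x) : DualNumber k), dn_eq_mul_eps x hx⟩
    · rintro ⟨a, rfl⟩
      exact dn_fst_mul_eps a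
  refine ⟨dual_toBase_surjective, ?_, ?_, ?_⟩
  · intro h
    have h1 : epsD (Λ := Λ) (k := k) ∈ RingHom.ker (toBase (dual Λ k)).toAlgHom := by
      rw [hker]; exact Ideal.subset_span rfl
    rw [h, Ideal.mem_bot] at h1
    exact dn_eps_ne_zero h1
  · exact ⟨⟨_, hker⟩⟩
  · rw [eq_bot_iff, Ideal.mul_le]
    intro x hx y hy
    rw [Ideal.mem_bot]
    exact dn_mul_eq_zero x y (((dual Λ k).mem_maximalIdeal_iff x).1 hx) ((hmem y).1 hy)

end Dual

variable {Λ : Type u} {k : Type u} [CommRing Λ] [IsLocalRing Λ] [Field k] [Algebra Λ k]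

section RelSq

variable {S : CRing Λ k}

theorem map_relSq_le {A : Art Λ k} (ψ : HomSet S.carrier S.res A) :
    Ideal.map ψ.1 (relSq (Λ := Λ) S.carrier) ≤ relSq (Λ := Λ) A := by
  rw [relSq, Ideal.map_sup]
  refine sup_le_sup ?_ ?_
  · rw [Ideal.map_pow]
    exact Ideal.pow_right_mono (Ideal.map_le_iff_le_comap.2 (maximalIdeal_le_comap S ψ)) 2
  · rw [Ideal.map_le_iff_le_comap, Ideal.map_le_iff_le_comap]
    intro c hc
    rw [Ideal.mem_comap, Ideal.mem_comap, ψ.1.commutes]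
    exact Ideal.mem_map_of_mem _ hc

theorem relSq_le_map (Q : SQuot S.carrier S.res) :
    relSq (Λ := Λ) Q.A ≤ Ideal.map Q.π.1 (relSq (Λ := Λ) S.carrier) := by
  rw [relSq, relSq, Ideal.map_sup, Ideal.map_pow, SQuot.map_maximalIdeal]
  refine sup_le_sup le_rfl ?_
  rw [Ideal.map_le_iff_le_comap]
  intro c hc
  rw [Ideal.mem_comap, ← Q.π.1.commutes]
  exact Ideal.mem_map_of_mem _ (Ideal.mem_map_of_mem _ hc)

/-- a quotient of `S` lying over a quotient whose kernel is in `𝔪² + 𝔪_Λ S` has the same relative cotangent space -/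
theorem cotangent_of_ker_le (Q Q' : SQuot S.carrier S.res) (hle : Q'.ker ≤ Q.ker)
    (hJ : Q.ker ≤ relSq (Λ := Λ) S.carrier) (x' : Q'.A) (hx' : x' ∈ maximalIdeal Q'.A)
    (hq : Q'.desc Q.π hle x' ∈ relSq (Λ := Λ) Q.A) : x' ∈ relSq (Λ := Λ) Q'.A := by
  obtain ⟨s, rfl⟩ := Q'.surj x'
  rw [SQuot.desc_apply] at hq
  have h1 := relSq_le_map Q hq
  obtain ⟨s₂, hs₂, hs₂'⟩ := (Ideal.mem_map_iff_of_surjective Q.π.1 Q.surj).1 h1
  have h2 : s - s₂ ∈ Q.ker := by
    rw [SQuot.mem_ker, map_sub, hs₂', sub_self]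
  have h3 : s ∈ relSq (Λ := Λ) S.carrier := by
    have : s = (s - s₂) + s₂ := by ring
    rw [this]
    exact Ideal.add_mem _ (hJ h2) hs₂
  exact map_relSq_le Q'.π (Ideal.mem_map_of_mem _ h3)

end RelSq

end Groth.Agent.Helper8.Rim
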