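import Mathlib
import Groth.Agent.Helper8.RimC
set_option autoImplicit false
universe u v

namespace Groth.Agent.Helper8.Rim
open ArtFun ArtFun.Art IsLocalRing CategoryTheory Groth.Agent.Helper6 Groth.Agent.Helper8.Schl MvPowerSeries

variable {Λ : Type u} {k : Type u} [CommRing Λ] [Field k] [Algebra Λ k]

section Lift

variable {S : CRing Λ k} {F : Art Λ k ⥤ Type v}

/-- the next stage receives a map to every small extension of the current stage over which the element lifts -/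
theorem next_factors (h1 : S1 F) (hS : IsSmoothFunctor (hR S.carrier S.res)) (σ σ' : Stage S F)
    (hnext : IsNext σ σ') ⦃R₁ : Art Λ k⦄ (π₁ : R₁ ⟶ σ.Q.A) (hπ₁ : IsSmallExt π₁) (a₁ : F.obj R₁)
    (ha₁ : F.map π₁ a₁ = σ.x) :
    ∃ (hle : σ'.Q.ker ≤ σ.Q.ker) (f₀ : σ'.Q.A ⟶ R₁), f₀ ≫ π₁ = σ'.Q.desc σ.Q.π hle := by
  obtain ⟨hle, hmul, hcompat, hmin⟩ := hnext
  obtain ⟨(ψS : HomSet S.carrier S.res R₁), hψS⟩ := hS π₁ hπ₁.1 σ.Q.π
  have hψS' : HomSet.map π₁ ψS = σ.Q.π := hψS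
  have hkey : σ'.Q.ker ≤ RingHom.ker ψS.1 := by
    by_cases hne : σ.Q.ker ≤ RingHom.ker ψS.1
    · exact hle.trans hne
    · obtain ⟨N, hN⟩ := σ.Q.exists_pow_le
      have hmulψ : maximalIdeal S.carrier * σ.Q.ker ≤ RingHom.ker ψS.1 := by
        rw [Ideal.mul_le]
        intro t ht s hs
        rw [RingHom.mem_ker, map_mul]
        refine mul_eq_zero_of_small hπ₁.2.2.2 (point_mem_maximalIdeal ψS ht) ?_
        have : π₁ (ψS.1 s) = σ.Q.π.1 s := congrArg (fun t : HomSet S.carrier S.res σ.Q.A => t.1 s) hψS'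
        rw [this]
        exact (σ.Q.mem_ker s).1 hs
      have hb : σ.Q.ker ⊓ RingHom.ker ψS.1 ≤ maximalIdeal S.carrier :=
        inf_le_left.trans σ.Q.ker_le_maximalIdeal
      have hbN : maximalIdeal S.carrier ^ (N + 1) ≤ σ.Q.ker ⊓ RingHom.ker ψS.1 := by
        rw [pow_succ']
        exact le_inf ((Ideal.mul_mono_right hN).trans Ideal.mul_le_right)
          ((Ideal.mul_mono_right hN).trans hmulψ)
      obtain ⟨Q'', hQ''ker⟩ : ∃ Q'' : SQuot S.carrier S.res, Q''.ker = σ.Q.ker ⊓ RingHom.ker ψS.1 :=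
        ⟨SQuot.ofIdeal S (σ.Q.ker ⊓ RingHom.ker ψS.1) hb (N + 1) hbN, SQuot.ker_ofIdeal S _ hb _ hbN⟩
      have h₁ : Q''.ker ≤ σ.Q.ker := by rw [hQ''ker]; exact inf_le_left
      have h₂ : Q''.ker ≤ RingHom.ker ψS.1 := by rw [hQ''ker]; exact inf_le_right
      have hfp := isFibreProd_of_small σ.Q π₁ hπ₁ (𝟙 σ.Q.A) ψS (hψS'.trans (homSet_map_id _).symm) Q'' h₁ h₂
        (le_of_eq hQ''ker.symm) hne
      obtain ⟨z, hz⟩ := h1 _ _ _ _ hfp hπ₁.1 ⟨(σ.x, a₁), by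
        change F.map (𝟙 σ.Q.A) σ.x = F.map π₁ a₁
        rw [ha₁, Functor.map_id_apply]⟩
      have hz1 : F.map (Q''.desc σ.Q.π h₁) z = σ.x := congrArg (fun w => w.1.1) hz
      have := hmin Q'' h₁ (by
        rw [hQ''ker]
        exact le_inf Ideal.mul_le_right hmulψ) ⟨z, hz1⟩
      exact this.trans h₂
  refine ⟨hle, σ'.Q.desc ψS hkey, ?_⟩
  apply σ'.Q.hom_ext
  rw [homSet_map_comp, SQuot.map_desc, hψS', SQuot.map_desc]

end Lift

section Adjust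

variable {F : Art Λ k ⥤ Type v}

/-- correcting a lift along a small extension by a tangent vector -/
theorem exists_corrected (h1 : S1 F) (h2 : Heps F) {R R' R₁ : Art Λ k} (a : F.obj R) (a' : F.obj R')
    (q : R' ⟶ R) (hq : F.map q a' = a)
    (hvers : ∀ v : F.obj (dual Λ k), ∃ φ : R ⟶ dual Λ k, F.map φ a = v)
    (π₁ : R₁ ⟶ R) (hπ₁ : IsSmallExt π₁) (a₁ : F.obj R₁) (ha₁ : F.map π₁ a₁ = a)
    (f₀ : R' ⟶ R₁) (hf₀ : f₀ ≫ π₁ = q) :
    ∃ f : R' ⟶ R₁, f ≫ π₁ = q ∧ F.map f a' = a₁ := by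
  obtain ⟨D, pr₁, pr₂, α, hD1, hD2, -⟩ := exists_torsor_square π₁ hπ₁
  have hfib : F.map π₁ (F.map f₀ a') = F.map π₁ a₁ := by
    rw [← Functor.map_comp_apply, hf₀, hq, ha₁]
  obtain ⟨dF, hdF⟩ := h1 pr₁ α π₁ π₁ hD2 hπ₁.1 ⟨(F.map f₀ a', a₁), hfib⟩
  have hdF1 : F.map pr₁ dF = F.map f₀ a' := congrArg (fun t => t.1.1) hdF
  have hdF2 : F.map α dF = a₁ := congrArg (fun t => t.1.2) hdF
  obtain ⟨φ, hφ⟩ := hvers (F.map pr₂ dF)
  obtain ⟨χ, hχ1, hχ2⟩ := IsFibreProd.exists_hom_lift hD1 f₀ (q ≫ φ)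
    ((eq_toBase _).trans (eq_toBase _).symm)
  have hχ : F.map χ a' = dF := by
    apply (h2 pr₁ pr₂ hD1).1
    apply FibProd.ext
    · change F.map pr₁ (F.map χ a') = F.map pr₁ dF
      rw [← Functor.map_comp_apply, hχ1, hdF1]
    · change F.map pr₂ (F.map χ a') = F.map pr₂ dF
      rw [← Functor.map_comp_apply, hχ2, Functor.map_comp_apply, hq, hφ]
  refine ⟨χ ≫ α, ?_, ?_⟩
  · rw [Category.assoc, ← hD2.w, ← Category.assoc, hχ1, hf₀]
  · rw [Functor.map_comp_apply, hχ, hdF2]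

end Adjust

end Groth.Agent.Helper8.Rim
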