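import Mathlib
import Groth.Agent.Helper8.RimD
set_option autoImplicit false
universe u v

namespace Groth.Agent.Helper8.Rim
open ArtFun ArtFun.Art IsLocalRing CategoryTheory Groth.Agent.Helper6 Groth.Agent.Helper8.Schl MvPowerSeries

theorem s12321 (Λ k : Type u) [CommRing Λ] [IsLocalRing Λ] [IsNoetherianRing Λ]
    [IsAdicComplete (IsLocalRing.maximalIdeal Λ) Λ] [Field k] [Algebra Λ k]
    (hk : Function.Surjective (algebraMap Λ k))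
    (F : ArtFun.Art Λ k ⥤ Type v) (hF : ArtFun.H0 F ∧ ArtFun.S1 F ∧ ArtFun.Heps F)
    (R : ArtFun.Art Λ k) (a : F.obj R)
    (hvers : ∀ (R₀ : ArtFun.Art Λ k), ArtFun.Art.IsSmallExt (ArtFun.Art.toBase R₀) →
      ∀ b : F.obj R₀, ∃ φ : R ⟶ R₀, F.map φ a = b) :
    ∃ (R' : ArtFun.Art Λ k) (q : R' ⟶ R) (a' : F.obj R'), F.map q a' = a ∧
      ArtFun.Art.IsSemismallExt q ∧
      (∀ x' : R', x' ∈ IsLocalRing.maximalIdeal (R' : Type u) →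
        q x' ∈ (IsLocalRing.maximalIdeal (R : Type u)) ^ 2 ⊔ (IsLocalRing.maximalIdeal Λ).map (algebraMap Λ R) →
        x' ∈ (IsLocalRing.maximalIdeal (R' : Type u)) ^ 2 ⊔ (IsLocalRing.maximalIdeal Λ).map (algebraMap Λ R')) ∧
      ∀ (R₁ : ArtFun.Art Λ k) (π₁ : R₁ ⟶ R), ArtFun.Art.IsSmallExt π₁ →
        ∀ a₁ : F.obj R₁, F.map π₁ a₁ = a → ∃ f : R' ⟶ R₁, f ≫ π₁ = q ∧ F.map f a' = a₁ := by
  obtain ⟨-, h1, h2⟩ := hF
  haveI : Module.Finite Λ k := Module.Finite.of_surjective (Algebra.linearMap Λ k) hk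
  obtain ⟨d, π, hπ, hJ⟩ := exists_presentation hk R
  obtain ⟨S, hSeq⟩ : ∃ S : CRing Λ k, S = psCRing (baseCRing hk) d := ⟨_, rfl⟩
  have hS : IsSmoothFunctor (hR S.carrier S.res) := by
    rw [hSeq]
    exact (s12722 hk _).2 ⟨d, ⟨AlgEquiv.refl⟩⟩
  obtain ⟨σ, hσA, hσx, hσJ⟩ : ∃ σ : Stage S F, ∃ hA : σ.Q.A = R, hA ▸ σ.x = a ∧
      σ.Q.ker ≤ relSq (Λ := Λ) S.carrier := by
    subst hSeq
    exact ⟨⟨⟨R, π, hπ⟩, a⟩, rfl, rfl, hJ⟩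
  obtain ⟨σ', hnext⟩ := exists_isNext h1 σ
  obtain ⟨Q, x⟩ := σ
  obtain ⟨A, πA, hπA⟩ := Q
  change A = R at hσA
  subst hσA
  change x = a at hσx
  subst hσx
  have hnext' := hnext
  obtain ⟨hle, hmul, hcompat, -⟩ := hnext'
  refine ⟨σ'.Q.A, σ'.Q.desc πA hle, σ'.x, hcompat, ⟨?_, ?_⟩, ?_, ?_⟩
  · exact σ'.Q.desc_surjective _ _ hπA
  · rw [SQuot.ker_desc, ← SQuot.map_maximalIdeal S σ'.Q, ← Ideal.map_mul, eq_bot_iff,
      Ideal.map_le_iff_le_comap]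
    intro s hs
    rw [Ideal.mem_comap, Ideal.mem_bot]
    exact (σ'.Q.mem_ker s).1 (hmul hs)
  · intro x' hx' hqx'
    exact cotangent_of_ker_le ⟨A, πA, hπA⟩ σ'.Q hle hσJ x' hx' hqx'
  · intro R₁ π₁ hπ₁ a₁ ha₁
    obtain ⟨hle', f₀, hf₀⟩ := next_factors h1 hS ⟨⟨A, πA, hπA⟩, x⟩ σ' hnext π₁ hπ₁ a₁ ha₁
    exact exists_corrected h1 h2 x σ'.x _ hcompat
      (fun v => hvers (dual Λ k) isSmallExt_toBase_dual v) π₁ hπ₁ a₁ ha₁ f₀ hf₀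

end Groth.Agent.Helper8.Rim
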