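import Mathlib

set_option autoImplicit false

namespace Groth.Agent.Helper8.RootCone

open Module

theorem main {ι M N : Type*} [AddCommGroup M] [AddCommGroup N]
    (P : RootPairing ι ℤ M N) [Finite ι] (b : P.Base) :
    ∃ C : Set ↥(Submodule.span ℤ (Set.range P.root)),
      0 ∉ C ∧ (∀ x ∈ C, ∀ y ∈ C, x + y ∈ C) ∧ (∀ x, x ≠ 0 → (x ∈ C ∨ -x ∈ C)) ∧
      (∀ x ∈ C, -x ∉ C) ∧
      (∀ i : ι, (⟨P.root i, Submodule.subset_span (Set.mem_range_self i)⟩ :
          ↥(Submodule.span ℤ (Set.range P.root))) ∈ C ↔ b.IsPos i) ∧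
      ∀ φ : ↥(Submodule.span ℤ (Set.range P.root)) →+ ℤ,
        (∀ j ∈ b.support, φ ⟨P.root j, Submodule.subset_span (Set.mem_range_self j)⟩ = 1) →
        ∀ x y : ↥(Submodule.span ℤ (Set.range P.root)), y - x ∈ C → φ x ≤ φ y := by
  classical
  obtain ⟨B, hB⟩ : ∃ B : Basis b.support ℤ ↥(Submodule.span ℤ (Set.range P.root)),
      ∀ i : b.support, ((B i : ↥(Submodule.span ℤ (Set.range P.root))) : M) = P.root i :=
    ⟨b.toWeightBasisInt, b.coe_toWeightBasisInt_apply⟩
  obtain ⟨ht, hht⟩ : ∃ ht : ↥(Submodule.span ℤ (Set.range P.root)) →ₗ[ℤ] ℤ,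
      ∀ i, ht (B i) = 1 :=
    ⟨B.constr ℤ (fun _ => (1 : ℤ)), fun i => B.constr_basis ℤ _ i⟩
  obtain ⟨n, ⟨e⟩⟩ : ∃ n, Nonempty (b.support ≃ Fin n) := ⟨_, ⟨Fintype.equivFin b.support⟩⟩
  obtain ⟨v, hv0, hvs⟩ : ∃ v : ↥(Submodule.span ℤ (Set.range P.root)) → (Fin (n + 1) → ℤ),
      (∀ x, v x 0 = ht x) ∧ (∀ x (k : Fin n), v x k.succ = B.repr x (e.symm k)) :=
    ⟨fun x => Fin.cons (α := fun _ => ℤ) (ht x) (fun k => B.repr x (e.symm k)),
      fun x => Fin.cons_zero _ _, fun x k => Fin.cons_succ _ _ _⟩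
  have hvadd : ∀ x y, v (x + y) = v x + v y := by
    intro x y
    funext k
    refine Fin.cases ?_ (fun k' => ?_) k
    · rw [Pi.add_apply, hv0, hv0, hv0, map_add]
    · rw [Pi.add_apply, hvs, hvs, hvs, map_add, Finsupp.add_apply]
  have hvneg : ∀ x, v (-x) = -v x := by
    intro x
    funext k
    refine Fin.cases ?_ (fun k' => ?_) k
    · rw [Pi.neg_apply, hv0, hv0, map_neg]
    · rw [Pi.neg_apply, hvs, hvs, map_neg, Finsupp.neg_apply]
  have hvzero : v 0 = 0 := by
    funext k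
    refine Fin.cases ?_ (fun k' => ?_) k
    · rw [Pi.zero_apply, hv0, map_zero]
    · rw [Pi.zero_apply, hvs, map_zero, Finsupp.zero_apply]
  have hvinj : ∀ x, v x = 0 → x = 0 := by
    intro x hx
    rw [B.ext_elem_iff]
    intro i
    have h1 := congrFun hx (e i).succ
    rw [hvs, Equiv.symm_apply_apply, Pi.zero_apply] at h1
    rw [h1, map_zero, Finsupp.zero_apply]
  have hroot : ∀ i : ι,
      ht ⟨P.root i, Submodule.subset_span (Set.mem_range_self i)⟩ = b.height i := by
    intro i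
    obtain ⟨f, -, -, hf⟩ := b.exists_root_eq_sum_int i
    rw [RootPairing.Base.height_eq_sum hf]
    have h1 : (⟨P.root i, Submodule.subset_span (Set.mem_range_self i)⟩ :
        ↥(Submodule.span ℤ (Set.range P.root))) = ∑ j : b.support, f j • B j := by
      apply Subtype.ext
      show P.root i = _
      push_cast
      simp only [hB]
      rw [hf]
      exact (Finset.sum_coe_sort b.support (fun j => f j • P.root j)).symm
    rw [h1, map_sum]
    simp only [map_smul, hht, smul_eq_mul, mul_one]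
    exact Finset.sum_coe_sort b.support f
  have hBk : ∀ k : b.support, B k =
      (⟨P.root k, Submodule.subset_span (Set.mem_range_self (k : ι))⟩ :
        ↥(Submodule.span ℤ (Set.range P.root))) := by
    intro k
    apply Subtype.ext
    exact hB k
  refine ⟨{x | ∃ k : Fin (n + 1), (∀ k' < k, v x k' = 0) ∧ 0 < v x k}, ?_, ?_, ?_, ?_, ?_, ?_⟩
  · rintro ⟨k, _, hk⟩
    rw [hvzero, Pi.zero_apply] at hk
    exact lt_irrefl _ hk
  · rintro x ⟨k₁, h₁, p₁⟩ y ⟨k₂, h₂, p₂⟩
    rcases lt_trichotomy k₁ k₂ with h | h | h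
    · refine ⟨k₁, fun k' hk' => ?_, ?_⟩
      · rw [hvadd, Pi.add_apply, h₁ k' hk', h₂ k' (lt_trans hk' h), add_zero]
      · rw [hvadd, Pi.add_apply, h₂ k₁ h, add_zero]
        exact p₁
    · subst h
      refine ⟨k₁, fun k' hk' => ?_, ?_⟩
      · rw [hvadd, Pi.add_apply, h₁ k' hk', h₂ k' hk', add_zero]
      · rw [hvadd, Pi.add_apply]
        exact add_pos p₁ p₂
    · refine ⟨k₂, fun k' hk' => ?_, ?_⟩
      · rw [hvadd, Pi.add_apply, h₁ k' (lt_trans hk' h), h₂ k' hk', add_zero]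
      · rw [hvadd, Pi.add_apply, h₁ k₂ h, zero_add]
        exact p₂
  · intro x hx
    have hvx : v x ≠ 0 := fun h => hx (hvinj x h)
    obtain ⟨S, hS⟩ : ∃ S : Finset (Fin (n + 1)),
        S = Finset.univ.filter (fun k => v x k ≠ 0) := ⟨_, rfl⟩
    have hSne : S.Nonempty := by
      by_contra hne
      rw [Finset.not_nonempty_iff_eq_empty] at hne
      apply hvx
      funext k
      by_contra hk
      have h1 : k ∈ S := by
        rw [hS, Finset.mem_filter]
        exact ⟨Finset.mem_univ k, hk⟩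
      rw [hne] at h1
      exact Finset.notMem_empty k h1
    obtain ⟨k₀, hk₀def⟩ : ∃ k₀, k₀ = S.min' hSne := ⟨_, rfl⟩
    have hk₀ : k₀ ∈ S := by
      rw [hk₀def]
      exact Finset.min'_mem S hSne
    have hk₀ne : v x k₀ ≠ 0 := by
      rw [hS, Finset.mem_filter] at hk₀
      exact hk₀.2
    have hbelow : ∀ k' < k₀, v x k' = 0 := by
      intro k' hk'
      by_contra hne
      have h1 : k' ∈ S := by
        rw [hS, Finset.mem_filter]
        exact ⟨Finset.mem_univ k', hne⟩
      have h2 := Finset.min'_le S k' h1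
      rw [← hk₀def] at h2
      exact absurd hk' (not_lt.2 h2)
    rcases lt_or_gt_of_ne hk₀ne with h | h
    · right
      refine ⟨k₀, fun k' hk' => ?_, ?_⟩
      · rw [hvneg, Pi.neg_apply, hbelow k' hk', neg_zero]
      · rw [hvneg, Pi.neg_apply]
        linarith
    · left
      exact ⟨k₀, hbelow, h⟩
  · rintro x ⟨k₁, h₁, p₁⟩ ⟨k₂, h₂, p₂⟩
    rw [hvneg, Pi.neg_apply] at p₂
    rcases lt_trichotomy k₁ k₂ with h | h | h
    · have h3 := h₂ k₁ h
      rw [hvneg, Pi.neg_apply] at h3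
      linarith
    · subst h
      linarith
    · have h3 := h₁ k₂ h
      linarith
  · intro i
    constructor
    · rintro ⟨k, hk, pk⟩
      rw [RootPairing.Base.isPos_iff]
      by_contra hneg
      have h1 : b.height i < 0 := lt_of_le_of_ne (not_lt.1 hneg) (b.height_ne_zero i)
      rw [← hroot, ← hv0] at h1
      by_cases h0 : k = 0
      · rw [h0] at pk
        linarith
      · have h2 := hk 0 (Fin.pos_iff_ne_zero.2 h0)
        linarith
    · intro hpos
      rw [RootPairing.Base.isPos_iff] at hpos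
      refine ⟨0, fun k' hk' => absurd hk' (Fin.not_lt_zero k'), ?_⟩
      rw [hv0, hroot]
      exact hpos
  · intro φ hφ1 x y hxy
    have hφ : φ.toIntLinearMap = ht := by
      apply B.ext
      intro k
      rw [hht, AddMonoidHom.coe_toIntLinearMap, hBk k]
      exact hφ1 k.1 k.2
    obtain ⟨k, hk, pk⟩ := hxy
    have h1 : 0 ≤ v (y - x) 0 := by
      by_cases h0 : k = 0
      · rw [h0] at pk
        exact pk.le
      · exact (hk 0 (Fin.pos_iff_ne_zero.2 h0)).ge
    rw [hv0, ← hφ, AddMonoidHom.coe_toIntLinearMap, map_sub] at h1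
    linarith

end Groth.Agent.Helper8.RootCone
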