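import Mathlib.LinearAlgebra.RootSystem.Base
import Mathlib.LinearAlgebra.RootSystem.RootPositive
import Mathlib.LinearAlgebra.RootSystem.Finite.CanonicalBilinear
import Mathlib.LinearAlgebra.RootSystem.Finite.Nondegenerate

/-!
# A combinatorial consequence of positive definiteness of the root form (helper8)

For a base of a finite crystallographic root pairing, every nonempty set `S` of simple roots contains
a simple root `l` with `∑ j ∈ S, ⟨α_l, α_j^∨⟩ > 0` (a "leaf with a simple bond").  This replaces the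
classification facts "the Dynkin diagram is a forest with at most one multiple bond per component".
From it we solve the linear system `a_ij c_i − a_ji c_j = e_ij` over `ℤ`.
-/

namespace Groth.Agent.Helper8.RootDA

open Finset

variable {ι : Type*} {R : Type*} {M : Type*} {N : Type*} [CommRing R] [IsDomain R] [CharZero R]
  [AddCommGroup M] [Module R M] [AddCommGroup N] [Module R N]
  (P : RootPairing ι R M N) [Fintype ι] [P.IsCrystallographic]

lemma two_mul_posForm (i j : ι) :
    2 * (P.posRootForm ℤ).posForm (P.rootSpanMem ℤ i) (P.rootSpanMem ℤ j) =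
      P.pairingIn ℤ i j * (P.posRootForm ℤ).rootLength j := by
  apply FaithfulSMul.algebraMap_injective ℤ R
  rw [map_mul, map_mul, map_ofNat, RootPairing.RootPositiveForm.algebraMap_posForm,
    RootPairing.algebraMap_pairingIn, RootPairing.RootPositiveForm.algebraMap_rootLength]
  exact (P.posRootForm ℤ).toInvariantForm.two_mul_apply_root_root i j

lemma pairingIn_eq_zero_symm {i j : ι} (h : P.pairingIn ℤ i j = 0) : P.pairingIn ℤ j i = 0 := by
  have h1 := (P.posRootForm ℤ).pairingIn_mul_eq_pairingIn_mul_swap i j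
  rw [h, zero_mul] at h1
  rcases mul_eq_zero.mp h1 with h2 | h2
  · exact h2
  · exact absurd h2 ((P.posRootForm ℤ).rootLength_pos i).ne'

lemma exists_sum_pairingIn_pos (b : P.Base) (S : Finset ι) (hS : S ⊆ b.support)
    (hne : S.Nonempty) : ∃ l ∈ S, 0 < ∑ j ∈ S, P.pairingIn ℤ l j := by
  classical
  by_contra hcon
  push Not at hcon
  have hLpos : ∀ i, 0 < (P.posRootForm ℤ).rootLength i :=
    fun i => (P.posRootForm ℤ).rootLength_pos i
  have hwpos : ∀ i, 0 < ∏ k ∈ S.erase i, (P.posRootForm ℤ).rootLength k :=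
    fun i => Finset.prod_pos fun k _ => hLpos k
  have hDpos : 0 < ∏ k ∈ S, (P.posRootForm ℤ).rootLength k := Finset.prod_pos fun k _ => hLpos k
  have hwL : ∀ i ∈ S, (∏ k ∈ S.erase i, (P.posRootForm ℤ).rootLength k) *
      (P.posRootForm ℤ).rootLength i = ∏ k ∈ S, (P.posRootForm ℤ).rootLength k := fun i hi => by
    rw [mul_comm]; exact Finset.mul_prod_erase S _ hi
  have hx : (∑ i ∈ S, (∏ k ∈ S.erase i, (P.posRootForm ℤ).rootLength k) • P.rootSpanMem ℤ i :
      P.rootSpan ℤ) ≠ 0 := by
    intro h0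
    have h1' : ∑ i ∈ S, (∏ k ∈ S.erase i, (P.posRootForm ℤ).rootLength k) • P.root i = 0 := by
      have := congrArg (fun y : P.rootSpan ℤ => (y : M)) h0
      simpa [Submodule.coe_sum] using this
    have h1 : ∑ i ∈ S,
        (((∏ k ∈ S.erase i, (P.posRootForm ℤ).rootLength k : ℤ)) : R) • P.root i = 0 := by
      rw [← h1']
      refine Finset.sum_congr rfl fun i _ => ?_
      rw [Int.cast_smul_eq_zsmul]
    have h2 := (linearIndepOn_iff'.mp b.linearIndepOn_root) S
      (fun i => (((∏ k ∈ S.erase i, (P.posRootForm ℤ).rootLength k : ℤ)) : R))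
      (by exact_mod_cast hS) h1
    obtain ⟨i, hi⟩ := hne
    have h3 := h2 i hi
    have h4 : (∏ k ∈ S.erase i, (P.posRootForm ℤ).rootLength k : ℤ) = 0 := by
      exact_mod_cast h3
    exact (hwpos i).ne' h4
  have hpos := P.posRootForm_posForm_pos_of_ne_zero ℤ hx
  have hexp : 2 * (P.posRootForm ℤ).posForm
      (∑ i ∈ S, (∏ k ∈ S.erase i, (P.posRootForm ℤ).rootLength k) • P.rootSpanMem ℤ i)
      (∑ i ∈ S, (∏ k ∈ S.erase i, (P.posRootForm ℤ).rootLength k) • P.rootSpanMem ℤ i) =
      (∏ k ∈ S, (P.posRootForm ℤ).rootLength k) *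
        ∑ i ∈ S, (∏ k ∈ S.erase i, (P.posRootForm ℤ).rootLength k) *
          ∑ j ∈ S, P.pairingIn ℤ i j := by
    simp only [map_sum, LinearMap.sum_apply, map_smul, LinearMap.smul_apply, smul_eq_mul,
      Finset.mul_sum]
    refine Finset.sum_congr rfl fun i hi => ?_
    refine Finset.sum_congr rfl fun j hj => ?_
    have h1 := two_mul_posForm P i j
    have h2 := hwL j hj
    have hsymm : (P.posRootForm ℤ).posForm (P.rootSpanMem ℤ j) (P.rootSpanMem ℤ i) =
        (P.posRootForm ℤ).posForm (P.rootSpanMem ℤ i) (P.rootSpanMem ℤ j) := by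
      simpa using ((P.posRootForm ℤ).isSymm_posForm.eq (P.rootSpanMem ℤ j) (P.rootSpanMem ℤ i))
    rw [hsymm]
    calc 2 * ((∏ k ∈ S.erase i, (P.posRootForm ℤ).rootLength k) *
          ((∏ k ∈ S.erase j, (P.posRootForm ℤ).rootLength k) *
            (P.posRootForm ℤ).posForm (P.rootSpanMem ℤ i) (P.rootSpanMem ℤ j)))
        = (∏ k ∈ S.erase i, (P.posRootForm ℤ).rootLength k) *
          ((∏ k ∈ S.erase j, (P.posRootForm ℤ).rootLength k) *
            (2 * (P.posRootForm ℤ).posForm (P.rootSpanMem ℤ i) (P.rootSpanMem ℤ j))) := by ring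
      _ = (∏ k ∈ S.erase i, (P.posRootForm ℤ).rootLength k) * P.pairingIn ℤ i j *
          ((∏ k ∈ S.erase j, (P.posRootForm ℤ).rootLength k) *
            (P.posRootForm ℤ).rootLength j) := by rw [h1]; ring
      _ = (∏ k ∈ S, (P.posRootForm ℤ).rootLength k) *
          ((∏ k ∈ S.erase i, (P.posRootForm ℤ).rootLength k) * P.pairingIn ℤ i j) := by
        rw [h2]; ring
  have hle : ∑ i ∈ S, (∏ k ∈ S.erase i, (P.posRootForm ℤ).rootLength k) *
      ∑ j ∈ S, P.pairingIn ℤ i j ≤ 0 :=
    Finset.sum_nonpos fun i hi => mul_nonpos_of_nonneg_of_nonpos (hwpos i).le (hcon i hi)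
  have := mul_nonpos_of_nonneg_of_nonpos hDpos.le hle
  omega

/-- Solving the "diagonal" system on the simple roots. -/
lemma exists_diag (b : P.Base) (e : ι → ι → ℤ)
    (he : ∀ i ∈ b.support, ∀ j ∈ b.support, i ≠ j → P.pairingIn ℤ i j = 0 → e i j = 0)
    (hanti : ∀ i j, e j i = - e i j) (S : Finset ι) :
    S ⊆ b.support → ∃ c : ι → ℤ, ∀ i ∈ S, ∀ j ∈ S, i ≠ j →
      P.pairingIn ℤ i j * c i - P.pairingIn ℤ j i * c j = e i j := by
  classical
  induction S using Finset.strongInduction with
  | H S ih =>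
    intro hS
    rcases S.eq_empty_or_nonempty with rfl | hne
    · exact ⟨0, by simp⟩
    obtain ⟨l, hl, hpos⟩ := exists_sum_pairingIn_pos P b S hS hne
    obtain ⟨c', hc'⟩ := ih (S.erase l) (Finset.erase_ssubset hl)
      ((Finset.erase_subset _ _).trans hS)
    have hsum : ∑ j ∈ S, P.pairingIn ℤ l j = 2 + ∑ j ∈ S.erase l, P.pairingIn ℤ l j := by
      rw [← Finset.add_sum_erase S _ hl, P.pairingIn_same]
    have hnonpos : ∀ j ∈ S.erase l, P.pairingIn ℤ l j ≤ 0 := fun j hj =>
      b.pairingIn_le_zero_of_ne (Finset.ne_of_mem_erase hj).symm (hS hl)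
        (hS (Finset.mem_of_mem_erase hj))
    by_cases hall : ∀ j ∈ S.erase l, P.pairingIn ℤ l j = 0
    · refine ⟨c', fun i hi j hj hij => ?_⟩
      by_cases hil : i = l
      · subst hil
        have hj' : j ∈ S.erase i := Finset.mem_erase.mpr ⟨hij.symm, hj⟩
        have h1 := hall j hj'
        have h2 := pairingIn_eq_zero_symm P h1
        rw [h1, h2, he i (hS hi) j (hS hj) hij h1]; ring
      · by_cases hjl : j = l
        · subst hjl
          have hi' : i ∈ S.erase j := Finset.mem_erase.mpr ⟨hil, hi⟩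
          have h1 := hall i hi'
          have h2 := pairingIn_eq_zero_symm P h1
          rw [h1, h2, he i (hS hi) j (hS hj) hij h2]; ring
        · exact hc' i (Finset.mem_erase.mpr ⟨hil, hi⟩) j (Finset.mem_erase.mpr ⟨hjl, hj⟩) hij
    · push Not at hall
      obtain ⟨j₀, hj₀, hj₀ne⟩ := hall
      have hj₀l : j₀ ≠ l := Finset.ne_of_mem_erase hj₀
      have hj₀S : j₀ ∈ S := Finset.mem_of_mem_erase hj₀
      have hsum2 : ∑ j ∈ S.erase l, P.pairingIn ℤ l j =
          P.pairingIn ℤ l j₀ + ∑ j ∈ (S.erase l).erase j₀, P.pairingIn ℤ l j :=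
        (Finset.add_sum_erase _ _ hj₀).symm
      have hrest_le : ∑ j ∈ (S.erase l).erase j₀, P.pairingIn ℤ l j ≤ 0 :=
        Finset.sum_nonpos fun j hj => hnonpos j (Finset.mem_of_mem_erase hj)
      have hj₀le : P.pairingIn ℤ l j₀ ≤ -1 := by
        have := hnonpos j₀ hj₀
        omega
      have hj₀eq : P.pairingIn ℤ l j₀ = -1 := by omega
      have hrest : ∑ j ∈ (S.erase l).erase j₀, P.pairingIn ℤ l j = 0 := by omega
      have hzero : ∀ j ∈ (S.erase l).erase j₀, P.pairingIn ℤ l j = 0 :=
        (Finset.sum_eq_zero_iff_of_nonpos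
          (fun j hj => hnonpos j (Finset.mem_of_mem_erase hj))).mp hrest
      refine ⟨Function.update c' l (- e l j₀ - P.pairingIn ℤ j₀ l * c' j₀),
        fun i hi j hj hij => ?_⟩
      by_cases hil : i = l
      · subst hil
        rw [Function.update_self, Function.update_of_ne hij.symm]
        by_cases hjj : j = j₀
        · subst hjj
          rw [hj₀eq]; ring
        · have hj' : j ∈ (S.erase i).erase j₀ :=
            Finset.mem_erase.mpr ⟨hjj, Finset.mem_erase.mpr ⟨hij.symm, hj⟩⟩
          have h1 := hzero j hj'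
          have h2 := pairingIn_eq_zero_symm P h1
          rw [h1, h2, he i (hS hi) j (hS hj) hij h1]; ring
      · by_cases hjl : j = l
        · subst hjl
          rw [Function.update_self, Function.update_of_ne hil]
          by_cases hii : i = j₀
          · subst hii
            rw [hj₀eq, hanti j i]; ring
          · have hi' : i ∈ (S.erase j).erase j₀ :=
              Finset.mem_erase.mpr ⟨hii, Finset.mem_erase.mpr ⟨hil, hi⟩⟩
            have h1 := hzero i hi'
            have h2 := pairingIn_eq_zero_symm P h1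
            rw [h1, h2, he i (hS hi) j (hS hj) hij h2]; ring
        · rw [Function.update_of_ne hil, Function.update_of_ne hjl]
          exact hc' i (Finset.mem_erase.mpr ⟨hil, hi⟩) j (Finset.mem_erase.mpr ⟨hjl, hj⟩) hij

/-- The main statement, for `Fintype ι`. -/
theorem main (b : P.Base) (d : ι → ι → ℤ)
    (hd : ∀ i ∈ b.support, ∀ j ∈ b.support, i ≠ j → P.pairingIn ℤ i j = 0 → d i j = d j i) :
    ∃ C : ι → ι → ℤ, ∀ i ∈ b.support, ∀ j ∈ b.support, i ≠ j →
      C i j + C j i - P.pairingIn ℤ j i * C j j = d i j := by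
  classical
  obtain ⟨c, hc⟩ := exists_diag P b (fun i j => d i j - d j i)
    (fun i hi j hj hij h => by rw [hd i hi j hj hij h]; ring) (fun i j => by ring)
    b.support (Finset.Subset.refl _)
  let σ := Fintype.equivFin ι
  refine ⟨fun i j => if i = j then c i else if σ i < σ j then d i j + P.pairingIn ℤ j i * c j
    else 0, fun i hi j hj hij => ?_⟩
  have hji : j ≠ i := hij.symm
  have hσ : σ i ≠ σ j := fun h => hij (σ.injective h)
  simp only [if_neg hij, if_neg hji, if_true]
  rcases lt_or_gt_of_ne hσ with h | h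
  · rw [if_pos h, if_neg (not_lt.mpr h.le)]; ring
  · rw [if_neg (not_lt.mpr h.le), if_pos h]
    have := hc i hi j hj hij
    linarith

end Groth.Agent.Helper8.RootDA
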