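import Mathlib

set_option autoImplicit false

namespace Groth.Agent.Helper8.RootOff

open RootPairing

universe u v w

theorem main
    {ι : Type u} [Finite ι] [DecidableEq ι] {k : Type v} [Field k] [CharZero k]
    {M : Type w} [AddCommGroup M] [Module k M] {N : Type w} [AddCommGroup N] [Module k N]
    (P : RootPairing ι k M N) [P.IsCrystallographic] [P.IsReduced] [P.IsIrreducible] (b : P.Base)
    (I A B : Finset ι) (hcover : I ∪ A ∪ B = b.support) (hIA : Disjoint I A) (hIB : Disjoint I B)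
    (hAB : Disjoint A B) (hA : A.Nonempty) (hB : B.Nonempty) :
    ∃ l ∈ A, ∃ j : ι, P.root j ∈ AddSubmonoid.closure (P.root '' ↑(I ∪ B)) ∧
      P.root j ∉ Submodule.span k (P.root '' ↑I) ∧ P.pairingIn ℤ j l < 0 := by
  classical
  obtain ⟨l₀, hl₀⟩ := hA
  obtain ⟨t₀, ht₀⟩ := hB
  haveI : Nonempty ι := ⟨l₀⟩
  haveI : P.IsRootSystem := inferInstance
  -- memberships in the support
  have hI : ∀ x ∈ I, x ∈ b.support := fun x hx => by
    rw [← hcover]; simp [hx]
  have hAs : ∀ x ∈ A, x ∈ b.support := fun x hx => by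
    rw [← hcover]; simp [hx]
  have hBs : ∀ x ∈ B, x ∈ b.support := fun x hx => by
    rw [← hcover]; simp [hx]
  have hS : ∀ x ∈ I ∪ B, x ∈ b.support := fun x hx => by
    rcases Finset.mem_union.1 hx with h | h
    · exact hI x h
    · exact hBs x h
  obtain ⟨C, hC⟩ : ∃ C : AddSubmonoid M, C = AddSubmonoid.closure (P.root '' ↑(I ∪ B)) :=
    ⟨_, rfl⟩
  have hgen : ∀ m ∈ I ∪ B, P.root m ∈ C := fun m hm => by
    rw [hC]; exact AddSubmonoid.subset_closure ⟨m, Finset.mem_coe.2 hm, rfl⟩
  let wb := b.toWeightBasis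
  have hwb : ∀ (m : ι) (hm : m ∈ b.support) (s : b.support),
      wb.coord s (P.root m) = if (⟨m, hm⟩ : b.support) = s then 1 else 0 := by
    intro m hm s
    have h1 : P.root m = wb ⟨m, hm⟩ := by simp [wb]
    rw [h1, Module.Basis.coord_apply, Module.Basis.repr_self, Finsupp.single_apply]
  -- coordinates of elements of C are natural numbers
  have coordNat : ∀ x ∈ C, ∀ s : b.support, ∃ n : ℕ, wb.coord s x = n := by
    intro x hx s
    rw [hC] at hx
    induction hx using AddSubmonoid.closure_induction with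
    | mem y hy =>
      obtain ⟨m, hm, rfl⟩ := hy
      rw [hwb m (hS m (Finset.mem_coe.1 hm)) s]
      split_ifs
      · exact ⟨1, by simp⟩
      · exact ⟨0, by simp⟩
    | zero => exact ⟨0, by simp⟩
    | add x y _ _ hx hy =>
      obtain ⟨n₁, h₁⟩ := hx
      obtain ⟨n₂, h₂⟩ := hy
      exact ⟨n₁ + n₂, by rw [map_add, h₁, h₂, Nat.cast_add]⟩
  have coordSpanI : ∀ y ∈ Submodule.span k (P.root '' (I : Set ι)), ∀ s : b.support,
      (s : ι) ∉ I → wb.coord s y = 0 := by
    intro y hy s hs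
    induction hy using Submodule.span_induction with
    | mem y hy =>
      obtain ⟨m, hm, rfl⟩ := hy
      rw [hwb m (hI m (Finset.mem_coe.1 hm)) s, if_neg]
      rintro rfl
      exact hs (Finset.mem_coe.1 hm)
    | zero => simp
    | add x y _ _ hx hy => rw [map_add, hx, hy, add_zero]
    | smul a x _ hx => rw [map_smul, hx, smul_zero]
  have notSpan : ∀ x ∈ C, ∀ b₀ ∈ B, P.root b₀ + x ∉ Submodule.span k (P.root '' (I : Set ι)) := by
    intro x hx b₀ hb₀ hmem
    have hb₀I : b₀ ∉ I := fun h => (Finset.disjoint_left.1 hIB h) hb₀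
    have h0 := coordSpanI _ hmem ⟨b₀, hBs b₀ hb₀⟩ hb₀I
    obtain ⟨n, hn⟩ := coordNat x hx ⟨b₀, hBs b₀ hb₀⟩
    rw [map_add, hwb b₀ (hBs b₀ hb₀), if_pos rfl, hn] at h0
    have : ((n + 1 : ℕ) : k) = 0 := by rw [Nat.cast_add, Nat.cast_one, add_comm]; exact h0
    exact (Nat.cast_ne_zero (R := k)).2 (Nat.succ_ne_zero n) this
  -- pairing with a simple coroot
  have pairNonpos : ∀ γ ∈ b.support, ∀ x ∈ C,
      (γ ∈ I ∪ B ∧ x - P.root γ ∈ C) ∨ ∃ z : ℤ, z ≤ 0 ∧ P.coroot' γ x = (z : k) := by
    intro γ hγ x hx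
    rw [hC] at hx
    induction hx using AddSubmonoid.closure_induction with
    | mem y hy =>
      obtain ⟨m, hm, rfl⟩ := hy
      have hm' : m ∈ I ∪ B := Finset.mem_coe.1 hm
      by_cases hmγ : m = γ
      · left
        subst hmγ
        exact ⟨hm', by rw [sub_self]; exact C.zero_mem⟩
      · right
        refine ⟨P.pairingIn ℤ m γ, b.pairingIn_le_zero_of_ne hmγ (hS m hm') hγ, ?_⟩
        rw [P.root_coroot'_eq_pairing, ← P.algebraMap_pairingIn ℤ]
        simp
    | zero => exact Or.inr ⟨0, le_rfl, by simp⟩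
    | add x y hxc hyc hx hy =>
      have hxC : x ∈ C := hC ▸ hxc
      have hyC : y ∈ C := hC ▸ hyc
      rcases hx with ⟨h1, h2⟩ | ⟨z₁, hz₁, e₁⟩
      · left
        refine ⟨h1, ?_⟩
        have : x + y - P.root γ = (x - P.root γ) + y := by abel
        rw [this]
        exact C.add_mem h2 hyC
      · rcases hy with ⟨h1, h2⟩ | ⟨z₂, hz₂, e₂⟩
        · left
          refine ⟨h1, ?_⟩
          have : x + y - P.root γ = x + (y - P.root γ) := by abel
          rw [this]
          exact C.add_mem hxC h2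
        · right
          exact ⟨z₁ + z₂, by omega, by rw [map_add, e₁, e₂, Int.cast_add]⟩
  -- the induction
  let Goal : Prop := ∃ l ∈ A, ∃ j : ι, P.root j ∈ C ∧
      P.root j ∉ Submodule.span k (P.root '' (I : Set ι)) ∧ P.pairingIn ℤ j l < 0
  let p : b.support → Prop := fun t => Goal ∨ ((t : ι) ∈ I ∪ B ∧
    ∃ j : ι, ∃ b₀ ∈ B, P.root j - P.root b₀ ∈ C ∧ P.root j - P.root t ∈ C)
  have hbase : p ⟨t₀, hBs t₀ ht₀⟩ := by
    right
    refine ⟨Finset.mem_union_right _ ht₀, t₀, t₀, ht₀, ?_, ?_⟩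
    · rw [sub_self]; exact C.zero_mem
    · show P.root t₀ - P.root t₀ ∈ C
      rw [sub_self]; exact C.zero_mem
  have hstep : ∀ t γ : b.support, p t → b.cartanMatrix γ t ≠ 0 → p γ := by
    intro t γ hpt hcar
    rcases hpt with hgoal | ⟨htS, j, b₀, hb₀, h₁, h₂⟩
    · exact Or.inl hgoal
    by_cases hγt : γ = t
    · rw [hγt]
      exact Or.inr ⟨htS, j, b₀, hb₀, h₁, h₂⟩
    have hne : (t : ι) ≠ (γ : ι) := fun h => hγt (Subtype.ext h.symm)
    have hcar' : b.cartanMatrix t γ ≠ 0 := fun h =>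
      hcar (b.cartanMatrix_apply_eq_zero_iff_symm.1 h)
    have hneg : P.pairingIn ℤ t γ < 0 :=
      lt_of_le_of_ne (b.pairingIn_le_zero_of_ne hne t.2 γ.2) hcar'
    have hjC : P.root j ∈ C := by
      have : P.root j = P.root t + (P.root j - P.root t) := by abel
      rw [this]
      exact C.add_mem (hgen t htS) h₂
    rcases pairNonpos γ γ.2 _ h₂ with ⟨hγS, hsub⟩ | ⟨z, hz, ez⟩
    · right
      refine ⟨hγS, j, b₀, hb₀, h₁, ?_⟩
      have : P.root j - P.root γ = P.root t + (P.root j - P.root t - P.root γ) := by abel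
      rw [this]
      exact C.add_mem (hgen t htS) hsub
    · have hpair : P.pairingIn ℤ j γ = P.pairingIn ℤ t γ + z := by
        have h1 : ((P.pairingIn ℤ j γ : ℤ) : k) = ((P.pairingIn ℤ t γ + z : ℤ) : k) := by
          have e1 : ((P.pairingIn ℤ j γ : ℤ) : k) = P.coroot' γ (P.root j) := by
            rw [P.root_coroot'_eq_pairing, ← P.algebraMap_pairingIn ℤ]; simp
          have e2 : ((P.pairingIn ℤ t γ : ℤ) : k) = P.coroot' γ (P.root t) := by
            rw [P.root_coroot'_eq_pairing, ← P.algebraMap_pairingIn ℤ]; simp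
          have e3 : P.root j = P.root t + (P.root j - P.root t) := by abel
          rw [Int.cast_add, e1, e2, ← ez, ← map_add, ← e3]
        exact_mod_cast h1
      have hjneg : P.pairingIn ℤ j γ < 0 := by omega
      have hγΔ : (γ : ι) ∈ I ∪ A ∪ B := by rw [hcover]; exact γ.2
      have hnotSpan : P.root j ∉ Submodule.span k (P.root '' (I : Set ι)) := by
        have : P.root j = P.root b₀ + (P.root j - P.root b₀) := by abel
        rw [this]
        exact notSpan _ h₁ b₀ hb₀
      by_cases hγA : (γ : ι) ∈ A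
      · exact Or.inl ⟨γ, hγA, j, hjC, hnotSpan, hjneg⟩
      · have hγS : (γ : ι) ∈ I ∪ B := by
          simp only [Finset.mem_union] at hγΔ ⊢
          tauto
        have hneq : P.root j ≠ -P.root γ := by
          intro heq
          obtain ⟨n, hn⟩ := coordNat _ hjC γ
          rw [heq, map_neg, hwb γ γ.2, if_pos rfl] at hn
          have : ((n + 1 : ℕ) : k) = 0 := by rw [Nat.cast_add, Nat.cast_one, ← hn]; ring
          exact (Nat.cast_ne_zero (R := k)).2 (Nat.succ_ne_zero n) this
        obtain ⟨j', hj'⟩ := P.root_add_root_mem_of_pairingIn_neg hjneg hneq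
        right
        refine ⟨hγS, j', b₀, hb₀, ?_, ?_⟩
        · have : P.root j' - P.root b₀ = (P.root j - P.root b₀) + P.root γ := by
            rw [hj']; abel
          rw [this]
          exact C.add_mem h₁ (hgen γ hγS)
        · have : P.root j' - P.root γ = P.root j := by rw [hj']; abel
          rw [this]
          exact hjC
  have hfinal : p ⟨l₀, hAs l₀ hl₀⟩ := b.induction_on_cartanMatrix p hbase hstep
  rcases hfinal with hgoal | ⟨hl₀S, _⟩
  · obtain ⟨l, hl, j, h1, h2, h3⟩ := hgoal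
    exact ⟨l, hl, j, hC ▸ h1, h2, h3⟩
  · exfalso
    rcases Finset.mem_union.1 hl₀S with h | h
    · exact (Finset.disjoint_left.1 hIA h) hl₀
    · exact (Finset.disjoint_left.1 hAB hl₀) h

end Groth.Agent.Helper8.RootOff
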