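import Mathlib
import Groth.Agent.Helper8.FFR

set_option autoImplicit false
universe u
open TensorProduct

namespace Groth.Agent.Helper8.SFLift

section compl
variable {A : Type*} [CommRing A] {X Y M E : Type*} [AddCommGroup X] [Module A X]
  [AddCommGroup Y] [Module A Y] [AddCommGroup M] [Module A M] [AddCommGroup E] [Module A E]

/-- uniqueness of complements -/
noncomputable def complEquiv (Φ₁ : X ≃ₗ[A] Y × M) (Φ₂ : X ≃ₗ[A] Y × E)
    (h : ∀ x, (Φ₁ x).1 = (Φ₂ x).1) : M ≃ₗ[A] E :=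
  LinearEquiv.ofLinear
    (LinearMap.snd A Y E ∘ₗ Φ₂.toLinearMap ∘ₗ Φ₁.symm.toLinearMap ∘ₗ LinearMap.inr A Y M)
    (LinearMap.snd A Y M ∘ₗ Φ₁.toLinearMap ∘ₗ Φ₂.symm.toLinearMap ∘ₗ LinearMap.inr A Y E)
    (by
      ext e
      simp only [LinearMap.comp_apply, LinearMap.inr_apply, LinearEquiv.coe_coe,
        LinearMap.snd_apply, LinearMap.id_apply]
      set x := Φ₂.symm (0, e) with hx
      have h1 : (Φ₁ x).1 = 0 := by rw [h x, hx, LinearEquiv.apply_symm_apply]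
      have h2 : ((0 : Y), (Φ₁ x).2) = Φ₁ x := by rw [← h1]
      rw [h2, LinearEquiv.symm_apply_apply, hx, LinearEquiv.apply_symm_apply])
    (by
      ext m
      simp only [LinearMap.comp_apply, LinearMap.inr_apply, LinearEquiv.coe_coe,
        LinearMap.snd_apply, LinearMap.id_apply]
      set x := Φ₁.symm (0, m) with hx
      have h1 : (Φ₂ x).1 = 0 := by rw [← h x, hx, LinearEquiv.apply_symm_apply]
      have h2 : ((0 : Y), (Φ₂ x).2) = Φ₂ x := by rw [← h1]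
      rw [h2, LinearEquiv.symm_apply_apply, hx, LinearEquiv.apply_symm_apply])

end compl

theorem main {R : Type u} [CommRing R] (I : Ideal R)
    (hI : I ≤ Ideal.jacobson (⊥ : Ideal R)) (E : Type u) [AddCommGroup E] [Module (R ⧸ I) E]
    [Module.Finite (R ⧸ I) E] [Module.IsStablyFree (R ⧸ I) E] :
    ∃ (M : Type u) (_ : AddCommGroup M) (_ : Module R M), Module.Finite R M ∧
      Module.IsStablyFree R M ∧ Nonempty ((R ⧸ I) ⊗[R] M ≃ₗ[R ⧸ I] E) := by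
  classical
  obtain ⟨N, _, _, _, _, hfree⟩ := Module.IsStablyFree.exist_free_prod (R ⧸ I) E
  haveI := hfree
  let ιN := Module.Free.ChooseBasisIndex (R ⧸ I) N
  let ιP := Module.Free.ChooseBasisIndex (R ⧸ I) (E × N)
  let θ : N ≃ₗ[R ⧸ I] (ιN → R ⧸ I) := (Module.Free.chooseBasis (R ⧸ I) N).equivFun
  let β : (E × N) ≃ₗ[R ⧸ I] (ιP → R ⧸ I) :=
    (Module.Free.chooseBasis (R ⧸ I) (E × N)).equivFun
  let pb : (ιP → R ⧸ I) →ₗ[R ⧸ I] (ιN → R ⧸ I) :=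
    θ.toLinearMap ∘ₗ LinearMap.snd _ E N ∘ₗ β.symm.toLinearMap
  let sb : (ιN → R ⧸ I) →ₗ[R ⧸ I] (ιP → R ⧸ I) :=
    β.toLinearMap ∘ₗ LinearMap.inr _ E N ∘ₗ θ.symm.toLinearMap
  have hps : pb ∘ₗ sb = LinearMap.id := by
    ext x
    simp [pb, sb]
  let Pbar := LinearMap.toMatrix' pb
  let Sbar := LinearMap.toMatrix' sb
  have hPS : Pbar * Sbar = 1 := by
    rw [← LinearMap.toMatrix'_comp, hps, LinearMap.toMatrix'_id]
  have hsurj := Ideal.Quotient.mk_surjective (I := I)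
  choose P hP using fun i j => hsurj (Pbar i j)
  choose S hS using fun i j => hsurj (Sbar i j)
  let Pm : Matrix ιN ιP R := Matrix.of P
  let Sm : Matrix ιP ιN R := Matrix.of S
  have hPm : Pm.map (Ideal.Quotient.mk I) = Pbar := by
    ext i j
    exact hP i j
  have hSm : Sm.map (Ideal.Quotient.mk I) = Sbar := by
    ext i j
    exact hS i j
  have hdet : Ideal.Quotient.mk I (Pm * Sm).det = 1 := by
    rw [RingHom.map_det, RingHom.mapMatrix_apply, Matrix.map_mul, hPm, hSm, hPS, Matrix.det_one]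
  have hunit : IsUnit (Pm * Sm).det := by
    have h1 : (Pm * Sm).det - 1 ∈ I := by
      rw [← Ideal.Quotient.eq_zero_iff_mem, map_sub, hdet, map_one, sub_self]
    have h2 := (Ideal.mem_jacobson_bot.mp (hI h1)) 1
    simpa using h2
  let π : (ιP → R) →ₗ[R] (ιN → R) := Matrix.toLin' Pm
  let σ : (ιN → R) →ₗ[R] (ιP → R) := Matrix.toLin' (Sm * (Pm * Sm)⁻¹)
  have hπσ : π ∘ₗ σ = LinearMap.id := by
    rw [← Matrix.toLin'_mul, ← Matrix.mul_assoc, Matrix.mul_nonsing_inv _ hunit, Matrix.toLin'_one]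
  let e₀ := Groth.Agent.Helper8.FFR.splitEquiv π σ hπσ
  have he₀ : ∀ x, (e₀ x).1 = π x := fun x => rfl
  refine ⟨LinearMap.ker π, inferInstance, inferInstance, ?_, ?_, ⟨?_⟩⟩
  · haveI : Module.Finite R ((ιN → R) × LinearMap.ker π) := Module.Finite.equiv e₀
    exact Module.Finite.of_surjective (LinearMap.snd R (ιN → R) (LinearMap.ker π))
      LinearMap.snd_surjective
  · haveI : Module.Free R ((ιN → R) × LinearMap.ker π) := Module.Free.of_equiv e₀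
    exact Module.IsStablyFree.of_free_prod' R (LinearMap.ker π) (ιN → R)
  · let cP : (R ⧸ I) ⊗[R] (ιP → R) ≃ₗ[R ⧸ I] (ιP → R ⧸ I) :=
      TensorProduct.piScalarRight R (R ⧸ I) (R ⧸ I) ιP
    let cN : (R ⧸ I) ⊗[R] (ιN → R) ≃ₗ[R ⧸ I] (ιN → R ⧸ I) :=
      TensorProduct.piScalarRight R (R ⧸ I) (R ⧸ I) ιN
    let Φ₁ : (R ⧸ I) ⊗[R] (ιP → R) ≃ₗ[R ⧸ I]
        ((R ⧸ I) ⊗[R] (ιN → R)) × ((R ⧸ I) ⊗[R] LinearMap.ker π) :=
      (TensorProduct.AlgebraTensorModule.congr (LinearEquiv.refl (R ⧸ I) (R ⧸ I)) e₀) ≪≫ₗ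
        TensorProduct.prodRight R (R ⧸ I) (R ⧸ I) (ιN → R) (LinearMap.ker π)
    let Φ₂ : (R ⧸ I) ⊗[R] (ιP → R) ≃ₗ[R ⧸ I] ((R ⧸ I) ⊗[R] (ιN → R)) × E :=
      cP ≪≫ₗ β.symm ≪≫ₗ LinearEquiv.prodComm (R ⧸ I) E N ≪≫ₗ
        LinearEquiv.prodCongr (θ ≪≫ₗ cN.symm) (LinearEquiv.refl (R ⧸ I) E)
    have hcomp : LinearMap.fst (R ⧸ I) _ _ ∘ₗ Φ₁.toLinearMap =
        LinearMap.fst (R ⧸ I) _ _ ∘ₗ Φ₂.toLinearMap := by
      apply TensorProduct.AlgebraTensorModule.ext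
      intro a f
      show (Φ₁ (a ⊗ₜ f)).1 = (Φ₂ (a ⊗ₜ f)).1
      have h1 : (Φ₁ (a ⊗ₜ f)).1 = a ⊗ₜ[R] π f := rfl
      have h2 : (Φ₂ (a ⊗ₜ f)).1 = cN.symm (pb (cP (a ⊗ₜ f))) := rfl
      rw [h1, h2, LinearEquiv.eq_symm_apply]
      have h3 : ∀ (ι : Type u) [Fintype ι] [DecidableEq ι] (g : ι → R),
          TensorProduct.piScalarRight R (R ⧸ I) (R ⧸ I) ι (a ⊗ₜ g) =
            a • (Ideal.Quotient.mk I ∘ g) := by
        intro ι _ _ g
        ext j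
        simp [Algebra.smul_def, mul_comm]
      show TensorProduct.piScalarRight R (R ⧸ I) (R ⧸ I) ιN (a ⊗ₜ π f) =
        pb (TensorProduct.piScalarRight R (R ⧸ I) (R ⧸ I) ιP (a ⊗ₜ f))
      rw [h3, h3, map_smul]
      congr 1
      have h4 : pb = Matrix.toLin' Pbar := (Matrix.toLin'_toMatrix' pb).symm
      rw [h4, ← hPm]
      ext i
      simp only [Function.comp_apply, Matrix.toLin'_apply, π]
      exact RingHom.map_mulVec _ _ _ _
    exact complEquiv Φ₁ Φ₂ (fun x => LinearMap.congr_fun hcomp x)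

end Groth.Agent.Helper8.SFLift
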