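import Mathlib
universe u v w
open LieModule

namespace Groth.Agent.Helper8.SL2aux

variable {k : Type u} [Field k] [IsAlgClosed k] [CharZero k]
  {L : Type v} [LieRing L] [LieAlgebra k L]
  {h e f : L} (t : IsSl2Triple h e f)
  {M : Type w} [AddCommGroup M] [Module k M] [LieRingModule L M] [LieModule k L M]

/-- number identity -/
theorem sum_sq_identity (n : ℕ) :
    ∑ i ∈ Finset.range (n + 1), ((n : ℤ) - 2 * i) ^ 2 = 2 * ((n + 2).choose 3 : ℤ) := by
  have h1 : ∀ (a : ℤ) (N : ℕ), 3 * ∑ i ∈ Finset.range N, (a - 2 * i) ^ 2 =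
      3 * N * a ^ 2 - 6 * a * N * (N - 1) + 2 * N * (N - 1) * (2 * N - 1) := by
    intro a N
    induction N with
    | zero => simp
    | succ N ih =>
      rw [Finset.sum_range_succ, mul_add, ih]
      push_cast
      ring
  have h2 : ∀ m : ℕ, 6 * ((m + 2).choose 3 : ℤ) = m * (m + 1) * (m + 2) := by
    intro m
    induction m with
    | zero => simp
    | succ m ih =>
      have hc : (m + 1 + 2).choose 3 = (m + 2).choose 2 + (m + 2).choose 3 := by
        rw [show m + 1 + 2 = (m + 2) + 1 by ring, Nat.choose_succ_succ]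
      have h22 : 2 * ((m + 2).choose 2 : ℤ) = (m + 2) * (m + 1) := by
        have := Nat.choose_two_right (m + 2)
        have h3 : (m + 2).choose 2 * 2 = (m + 2) * (m + 1) := by
          rw [this]
          exact Nat.div_mul_cancel (by
            have : (m + 2) * (m + 2 - 1) = (m + 1) * (m + 1 + 1) := by
              rw [show m + 2 - 1 = m + 1 by omega]; ring
            rw [this]
            exact (Nat.even_mul_succ_self (m + 1)).two_dvd)
        have : ((m + 2).choose 2 : ℤ) * 2 = (m + 2) * (m + 1) := by exact_mod_cast h3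
        linarith
      rw [hc]
      push_cast
      linarith
  have h3 := h1 n (n + 1)
  have h4 := h2 n
  push_cast at h3
  have : 3 * ∑ i ∈ Finset.range (n + 1), ((n : ℤ) - 2 * i) ^ 2 = 3 * (2 * ((n + 2).choose 3 : ℤ)) := by
    rw [h3]
    linear_combination (-1 : ℤ) * h4
  linarith


/-- the submodule spanned by the `f^i m` is a Lie submodule -/
theorem span_pow_f_lie_mem (hspan : t.toLieSubalgebra k = ⊤) {m : M} {μ : k}
    (P : t.HasPrimitiveVectorWith m μ) (x : L) (y : M)
    (hy : y ∈ Submodule.span k (Set.range fun i : ℕ => ((toEnd k L M f) ^ i) m)) :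
    ⁅x, y⁆ ∈ Submodule.span k (Set.range fun i : ℕ => ((toEnd k L M f) ^ i) m) := by
  set N := Submodule.span k (Set.range fun i : ℕ => ((toEnd k L M f) ^ i) m) with hN
  have hv : ∀ i, ((toEnd k L M f) ^ i) m ∈ N := fun i => Submodule.subset_span ⟨i, rfl⟩
  have key : ∀ z : L, (∀ i, ⁅z, ((toEnd k L M f) ^ i) m⁆ ∈ N) → ∀ y ∈ N, ⁅z, y⁆ ∈ N := by
    intro z hz y hy
    induction hy using Submodule.span_induction with
    | mem y hy => obtain ⟨i, rfl⟩ := hy; exact hz i
    | zero => simp
    | add a b _ _ ha hb => rw [lie_add]; exact N.add_mem ha hb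
    | smul c a _ ha => rw [lie_smul]; exact N.smul_mem c ha
  have hh : ∀ y ∈ N, ⁅h, y⁆ ∈ N := key h (fun i => by
    rw [P.lie_h_pow_toEnd_f]; exact N.smul_mem _ (hv i))
  have hf : ∀ y ∈ N, ⁅f, y⁆ ∈ N := key f (fun i => by
    rw [P.lie_f_pow_toEnd_f]; exact hv (i + 1))
  have he : ∀ y ∈ N, ⁅e, y⁆ ∈ N := key e (fun i => by
    cases i with
    | zero => simp [P.lie_e]
    | succ i => rw [P.lie_e_pow_succ_toEnd_f]; exact N.smul_mem _ (hv i))
  have hx : x ∈ t.toLieSubalgebra k := by rw [hspan]; trivial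
  obtain ⟨c₁, c₂, c₃, rfl⟩ := IsSl2Triple.mem_toLieSubalgebra_iff.1 hx
  rw [t.lie_e_f, add_lie, add_lie, smul_lie, smul_lie, smul_lie]
  exact N.add_mem (N.add_mem (N.smul_mem _ (he y hy)) (N.smul_mem _ (hf y hy))) (N.smul_mem _ (hh y hy))

theorem trace_sq_irreducible (hspan : t.toLieSubalgebra k = ⊤) [FiniteDimensional k M]
    [LieModule.IsIrreducible k L M] :
    LinearMap.trace k M ((toEnd k L M h) ^ 2) = 2 * (((Module.finrank k M + 1).choose 3 : ℕ) : k) := by
  have hnt : Nontrivial M := (LieSubmodule.nontrivial_iff (R := k) (L := L) (M := M)).1 inferInstance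
  obtain ⟨μ, m, hm, P⟩ := t.exists_hasPrimitiveVectorWith (R := k) (M := M)
  obtain ⟨n, rfl⟩ := P.exists_nat
  set v : ℕ → M := fun i => ((toEnd k L M f) ^ i) m with hv
  have hvne : ∀ i ≤ n, v i ≠ 0 := fun i hi => P.pow_toEnd_f_ne_zero_of_eq_nat rfl hi
  have hvz : ∀ i, n + 1 ≤ i → v i = 0 := by
    intro i hi
    obtain ⟨j, rfl⟩ := Nat.exists_eq_add_of_le hi
    simp only [hv]
    rw [add_comm, pow_add, Module.End.mul_apply, P.pow_toEnd_f_eq_zero_of_eq_nat rfl, map_zero]
  -- the Lie submodule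
  let N : LieSubmodule k L M :=
    { Submodule.span k (Set.range v) with
      lie_mem := fun {x y} hy => span_pow_f_lie_mem t hspan P x y hy }
  have hNne : N ≠ ⊥ := by
    intro hN
    have : m ∈ N := Submodule.subset_span ⟨0, by simp [hv]⟩
    rw [hN] at this
    exact hm ((LieSubmodule.mem_bot _).1 this)
  have hNtop : N = ⊤ := (IsSimpleOrder.eq_bot_or_eq_top N).resolve_left hNne
  have hspanv : Submodule.span k (Set.range v) = ⊤ := by
    have := congrArg LieSubmodule.toSubmodule hNtop
    simpa [N] using this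
  -- the finite family
  let w : Fin (n + 1) → M := fun i => v i
  have hspanw : ⊤ ≤ Submodule.span k (Set.range w) := by
    rw [← hspanv]
    apply Submodule.span_le.2
    rintro _ ⟨i, rfl⟩
    by_cases hi : i < n + 1
    · exact Submodule.subset_span ⟨⟨i, hi⟩, rfl⟩
    · rw [hvz i (by omega)]; exact Submodule.zero_mem _
  have heig : ∀ i : Fin (n + 1), (toEnd k L M h).HasEigenvector ((n : k) - 2 * (i : ℕ)) (w i) := by
    intro i
    refine ⟨?_, hvne i (Nat.lt_succ_iff.1 i.2)⟩
    rw [Module.End.mem_eigenspace_iff, toEnd_apply_apply]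
    exact P.lie_h_pow_toEnd_f i
  have hinj : Function.Injective (fun i : Fin (n + 1) => (n : k) - 2 * ((i : ℕ) : k)) := by
    intro i j hij
    have : ((i : ℕ) : k) = ((j : ℕ) : k) := by
      have h2 : (2 : k) ≠ 0 := two_ne_zero
      have := sub_right_injective hij
      exact mul_left_cancel₀ h2 this
    exact Fin.ext (Nat.cast_injective this)
  have hli : LinearIndependent k w :=
    Module.End.eigenvectors_linearIndependent' (toEnd k L M h) _ hinj w heig
  let b : Module.Basis (Fin (n + 1)) k M := Module.Basis.mk hli hspanw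
  have hfr : Module.finrank k M = n + 1 := by
    rw [Module.finrank_eq_card_basis b, Fintype.card_fin]
  have hb : ∀ i, b i = w i := fun i => by simp [b]
  have hsq : ∀ i : Fin (n + 1), ((toEnd k L M h) ^ 2) (b i) = ((n : k) - 2 * (i : ℕ)) ^ 2 • b i := by
    intro i
    have h1 : (toEnd k L M h) (b i) = ((n : k) - 2 * (i : ℕ)) • b i := by
      rw [hb]; exact (heig i).apply_eq_smul
    rw [pow_two, Module.End.mul_apply, h1, map_smul, h1, smul_smul, ← pow_two]
  rw [LinearMap.trace_eq_matrix_trace k b, Matrix.trace]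
  simp only [Matrix.diag_apply, LinearMap.toMatrix_apply, hsq, map_smul, Module.Basis.repr_self,
    Finsupp.smul_apply, Finsupp.single_eq_same, smul_eq_mul, mul_one]
  rw [hfr, Fin.sum_univ_eq_sum_range (fun i => ((n : k) - 2 * (i : ℕ)) ^ 2) (n + 1)]
  have := sum_sq_identity n
  have h2 := congrArg (Int.cast : ℤ → k) this
  push_cast at h2
  rw [h2]

end Groth.Agent.Helper8.SL2aux
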