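import Mathlib

namespace Groth.Agent.Helper8.SLPath

open Matrix

variable {ι : Type*} [Fintype ι] [DecidableEq ι] {F : Type*} [Field F]

lemma diag2n_decompose {i j : ι} (hij : i ≠ j) (a : F) (ha : a ≠ 0) :
    SpecialLinearGroup.diag2n hij a ha = SpecialLinearGroup.transvection hij a *
      SpecialLinearGroup.transvection hij.symm (- a⁻¹) *
      SpecialLinearGroup.transvection hij a *
      SpecialLinearGroup.transvection hij (-1) *
      SpecialLinearGroup.transvection hij.symm 1 *
      SpecialLinearGroup.transvection hij (-1) := by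
  apply SpecialLinearGroup.coeMonoidHom_injective
  simp only [map_mul, SpecialLinearGroup.coeMonoidHom_apply, SpecialLinearGroup.transvection_coe,
    SpecialLinearGroup.diag2n_coe]
  simp only [mul_add, add_mul, mul_one, one_mul, single_mul_single_same,
    single_mul_single_of_ne _ _ _ _ hij, single_mul_single_of_ne _ _ _ _ hij.symm]
  ext x y
  simp only [Matrix.add_apply, Matrix.one_apply, Matrix.single_apply, Matrix.diagonal_apply,
    Matrix.zero_apply, Pi.zero_apply, mul_zero, zero_mul, add_zero, zero_add]
  have h1 : a * a⁻¹ = 1 := mul_inv_cancel₀ ha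
  have h2 : a⁻¹ * a = 1 := inv_mul_cancel₀ ha
  split_ifs <;> first | grind | (simp_all; done) | (simp_all; field_simp) | (simp_all; field_simp; ring)


lemma map_transvection {R S : Type*} [CommRing R] [CommRing S] (f : R →+* S) {i j : ι} (hij : i ≠ j)
    (b : R) :
    SpecialLinearGroup.map f (SpecialLinearGroup.transvection hij b) =
      SpecialLinearGroup.transvection hij (f b) := by
  apply SpecialLinearGroup.coeMonoidHom_injective
  ext x y
  simp only [SpecialLinearGroup.coeMonoidHom_apply, SpecialLinearGroup.map_apply_coe,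
    SpecialLinearGroup.transvection_coe, RingHom.mapMatrix_apply, Matrix.map_apply,
    Matrix.add_apply, Matrix.one_apply, Matrix.single_apply]
  split_ifs <;> simp

/-- the path property -/
def P (A : SpecialLinearGroup ι F) : Prop :=
  ∃ M : SpecialLinearGroup ι (Polynomial F),
    SpecialLinearGroup.map (Polynomial.evalRingHom (0 : F)) M = 1 ∧
    SpecialLinearGroup.map (Polynomial.evalRingHom (1 : F)) M = A

lemma P_mul (A B : SpecialLinearGroup ι F) (hA : P A) (hB : P B) : P (A * B) := by
  obtain ⟨M, hM0, hM1⟩ := hA
  obtain ⟨N, hN0, hN1⟩ := hB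
  exact ⟨M * N, by rw [map_mul, hM0, hN0, one_mul], by rw [map_mul, hM1, hN1]⟩

lemma P_transvection {i j : ι} (hij : i ≠ j) (a : F) : P (SpecialLinearGroup.transvection hij a) := by
  refine ⟨SpecialLinearGroup.transvection hij (Polynomial.C a * Polynomial.X), ?_, ?_⟩
  · rw [map_transvection]
    simp
  · rw [map_transvection]
    simp

theorem main (K : Type*) [Field K] (r : ℕ) (hr : 1 ≤ r)
    (A : Matrix.SpecialLinearGroup (Fin (r + 1)) K) :
    ∃ M : Matrix.SpecialLinearGroup (Fin (r + 1)) (Polynomial K),
      Matrix.SpecialLinearGroup.map (Polynomial.evalRingHom (0 : K)) M = 1 ∧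
      Matrix.SpecialLinearGroup.map (Polynomial.evalRingHom (1 : K)) M = A := by
  haveI : Nontrivial (Fin (r + 1)) := Fin.nontrivial_iff_two_le.mpr (by omega)
  refine SpecialLinearGroup.diagonal_transvection_induction' P A ?_ ?_ P_mul
  · intro i j hij c hc
    rw [diag2n_decompose hij c hc]
    refine P_mul _ _ (P_mul _ _ (P_mul _ _ (P_mul _ _ (P_mul _ _ ?_ ?_) ?_) ?_) ?_) ?_ <;>
      exact P_transvection _ _
  · intro i j hij a
    exact P_transvection hij a

end Groth.Agent.Helper8.SLPath
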