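import Mathlib
import Groth.Prelude.Def_W4bk4grassmannianPl
import Groth.Agent.Helper8.SMT6
import Groth.Agent.Helper8.Rees

set_option autoImplicit false

namespace Groth.Agent.Helper8.SMT7

open W4bk4grassmannian MvPolynomial Groth.Agent.Helper8.SMT3 Groth.Agent.Helper8.SMT4
  Groth.Agent.Helper8.SMT6 Groth.Agent.Helper8.Rees

attribute [local instance] Polynomial.algebra

universe u

variable (K : Type u) [Field K] {d n : ℕ} (w : Idx d n)

/-- The filtration by weight on the cone over `X(w)`. -/
noncomputable def filt : Filt K (PlRing K d n ⧸ schubertVanishing K d n w) where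
  F := FF K w
  mono := fun _ _ h => FF_mono K w h
  one_mem := one_mem_FF K w
  mul_mem := fun ha hb => mul_mem_FF K w ha hb

/-- The standard monomial family. -/
noncomputable abbrev eW : StdW w → (PlRing K d n ⧸ schubertVanishing K d n w) :=
  fun s => ee K w s.1

/-- Its weights. -/
abbrev OmW : StdW w → ℕ := fun s => Om s.1

lemma hF (k : ℕ) :
    (filt K w).F k = Submodule.span K (eW K w '' {i | OmW w i ≤ k}) := rfl

/-- The monomial `e_s X ^ (Ω s)` of the Rees algebra. -/
noncomputable def bs (s : Idx d n →₀ ℕ) : rees (filt K w) :=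
  el (filt K w) (Om s) (ee K w s) (ee_mem_FF K w s)

lemma coe_bs (s : Idx d n →₀ ℕ) :
    ((bs K w s : rees (filt K w)) : Polynomial (PlRing K d n ⧸ schubertVanishing K d n w)) =
      Polynomial.monomial (Om s) (ee K w s) := rfl

lemma bs_zero : bs K w 0 = 1 := by
  apply Subtype.ext
  rw [coe_bs, Om_zero, ee_zero]
  rfl

lemma bs_add (s t : Idx d n →₀ ℕ) : bs K w (s + t) = bs K w s * bs K w t := by
  apply Subtype.ext
  rw [MulMemClass.coe_mul, coe_bs, coe_bs, coe_bs, Polynomial.monomial_mul_monomial, Om_add,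
    ee_add]

lemma bs_single (θ : Idx d n) (k : ℕ) :
    bs K w (Finsupp.single θ k) = bs K w (Finsupp.single θ 1) ^ k := by
  induction k with
  | zero => rw [Finsupp.single_zero, bs_zero, pow_zero]
  | succ k ih => rw [Finsupp.single_add, bs_add, ih, pow_succ]

lemma bs_eq_zero (s : Idx d n →₀ ℕ) (h : ee K w s = 0) : bs K w s = 0 := by
  apply Subtype.ext
  rw [coe_bs, h, map_zero]
  rfl

/-- The ideal generated by the parameter. -/
noncomputable abbrev I0 : Ideal (rees (filt K w)) :=
  Ideal.span {algebraMap (Polynomial K) (rees (filt K w)) Polynomial.X}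

lemma bs_mem_I0 (s : Idx d n →₀ ℕ) (h : ¬ IsStd s) : bs K w s ∈ I0 K w := by
  have h1 := ee_mem_FFlt K w s h
  rcases Nat.eq_zero_or_pos (Om s) with hz | hp
  · rw [hz, FFlt_zero, Submodule.mem_bot] at h1
    rw [bs_eq_zero K w s h1]
    exact zero_mem _
  · obtain ⟨k, hk⟩ : ∃ k, Om s = k + 1 := ⟨Om s - 1, by omega⟩
    rw [hk, FFlt_succ] at h1
    exact el_mem_span_X (filt K w) k (Om s) (by omega) (ee K w s) h1

/-- The map from the Plücker polynomial ring to the special fibre. -/
noncomputable def Theta : PlRing K d n →ₐ[K] (rees (filt K w)) ⧸ I0 K w :=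
  MvPolynomial.aeval fun θ : Idx d n =>
    Ideal.Quotient.mk (I0 K w) (bs K w (Finsupp.single θ 1))

lemma Theta_monomial (s : Idx d n →₀ ℕ) :
    Theta K w (monomial s 1) = Ideal.Quotient.mk (I0 K w) (bs K w s) := by
  induction s using Finsupp.induction_linear with
  | zero =>
    have h : (monomial (0 : Idx d n →₀ ℕ) (1:K) : PlRing K d n) = 1 := rfl
    rw [bs_zero, h, map_one, map_one]
  | add s t hs ht =>
    have h : (monomial (s + t) (1:K) : PlRing K d n) = monomial s 1 * monomial t 1 := by
      rw [monomial_mul, one_mul]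
    rw [h, map_mul, hs, ht, bs_add, map_mul]
  | single θ k =>
    rw [← X_pow_eq_monomial, map_pow]
    unfold Theta
    rw [aeval_X, ← map_pow, ← bs_single]

open Classical in
/-- Forgetting the variables not below `w`. -/
noncomputable def Rho : PlRing K d n →ₐ[K] MvPolynomial (Below w) K :=
  MvPolynomial.aeval fun θ : Idx d n =>
    if h : θ ≤ w then (X (⟨θ, h⟩ : Below w) : MvPolynomial (Below w) K) else 0

/-- The map from the polynomial ring on `H(w)` to the special fibre. -/
noncomputable def Phi : MvPolynomial (Below w) K →ₐ[K] (rees (filt K w)) ⧸ I0 K w :=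
  (Theta K w).comp (MvPolynomial.rename Subtype.val)

lemma Phi_comp_Rho : (Phi K w).comp (Rho K w) = Theta K w := by
  apply MvPolynomial.algHom_ext
  intro θ
  rw [AlgHom.comp_apply]
  unfold Rho
  rw [aeval_X]
  by_cases h : θ ≤ w
  · rw [dif_pos h]
    unfold Phi
    rw [AlgHom.comp_apply, rename_X]
  · rw [dif_neg h, map_zero]
    unfold Theta
    rw [aeval_X, bs_eq_zero K w _ (ee_eq_zero K w _ (fun hle => h (hle θ (by
      rw [Finsupp.mem_support_iff, Finsupp.single_eq_same]; exact one_ne_zero)))), map_zero]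

lemma srIdeal_le (f : MvPolynomial (Below w) K) (hf : f ∈ srIdeal K w) : Phi K w f = 0 := by
  have h0 : srIdeal K w ≤ RingHom.ker (Phi K w) := by
    unfold srIdeal
    rw [Ideal.span_le]
    rintro _ ⟨a, b, hab, hba, rfl⟩
    rw [SetLike.mem_coe, RingHom.mem_ker]
    unfold Phi
    rw [AlgHom.comp_apply, map_mul, rename_X, rename_X]
    have h1 : (X a.1 * X b.1 : PlRing K d n) =
        monomial (Finsupp.single a.1 1 + Finsupp.single b.1 1) 1 := by
      rw [monomial_add_single, pow_one]
      rfl
    rw [h1, Theta_monomial, Ideal.Quotient.eq_zero_iff_mem]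
    apply bs_mem_I0
    intro hstd
    have ha : a.1 ∈ (Finsupp.single a.1 1 + Finsupp.single b.1 1 : Idx d n →₀ ℕ).support := by
      rw [Finsupp.mem_support_iff, Finsupp.add_apply, Finsupp.single_eq_same]
      omega
    have hb : b.1 ∈ (Finsupp.single a.1 1 + Finsupp.single b.1 1 : Idx d n →₀ ℕ).support := by
      rw [Finsupp.mem_support_iff, Finsupp.add_apply, Finsupp.single_eq_same]
      omega
    rcases hstd a.1 ha b.1 hb with h | h
    · exact hab h
    · exact hba h
  exact RingHom.mem_ker.mp (h0 hf)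

/-- The induced map from the Stanley–Reisner ring. -/
noncomputable def PhiBar :
    (MvPolynomial (Below w) K ⧸ srIdeal K w) →ₐ[K] (rees (filt K w)) ⧸ I0 K w :=
  Ideal.Quotient.liftₐ (srIdeal K w) (Phi K w) (srIdeal_le K w)

lemma PhiBar_mk (f : MvPolynomial (Below w) K) :
    PhiBar K w (Ideal.Quotient.mk (srIdeal K w) f) = Phi K w f := by
  unfold PhiBar
  rw [Ideal.Quotient.liftₐ_apply, Ideal.Quotient.lift_mk]
  rfl

lemma Phi_range (r : rees (filt K w)) : Ideal.Quotient.mk (I0 K w) r ∈ (Phi K w).range := by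
  obtain ⟨M, hM⟩ : ∃ M : Submodule K (rees (filt K w)),
      M = Submodule.comap (Ideal.Quotient.mkₐ K (I0 K w)).toLinearMap
        (Subalgebra.toSubmodule (Phi K w).range) := ⟨_, rfl⟩
  have hmem : ∀ r, r ∈ M ↔ Ideal.Quotient.mk (I0 K w) r ∈ (Phi K w).range := by
    intro r
    rw [hM]
    rfl
  have htop : M = ⊤ := top_of_mem (filt K w) (eW K w) (OmW w) (hF K w) M
    (fun r hr => by
      rw [hmem, Ideal.Quotient.eq_zero_iff_mem.mpr hr]
      exact zero_mem _)
    (fun i => by
      rw [hmem]
      have h1 : bb (filt K w) (eW K w) (OmW w) (hF K w) i = bs K w i.1 := rfl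
      rw [h1, ← Theta_monomial, ← Phi_comp_Rho, AlgHom.comp_apply]
      exact AlgHom.mem_range_self _ _)
  rw [← hmem, htop]
  exact Submodule.mem_top

lemma PhiBar_surjective : Function.Surjective (PhiBar K w) := by
  intro y
  obtain ⟨r, rfl⟩ := Ideal.Quotient.mk_surjective y
  obtain ⟨f, hf⟩ := Phi_range K w r
  exact ⟨Ideal.Quotient.mk (srIdeal K w) f, by rw [PhiBar_mk]; exact hf⟩

/-! ### Injectivity -/

/-- Chain-supported exponents on `H(w)`. -/
def ChainT (e' : Below w →₀ ℕ) : Prop := ∀ a ∈ e'.support, ∀ b ∈ e'.support, a ≤ b ∨ b ≤ a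

/-- The exponent in all Plücker variables. -/
noncomputable def vv (e' : Below w →₀ ℕ) : Idx d n →₀ ℕ := Finsupp.mapDomain Subtype.val e'

lemma vv_injective : Function.Injective (vv w) :=
  Finsupp.mapDomain_injective Subtype.val_injective

lemma vv_support (e' : Below w →₀ ℕ) : (vv w e').support = e'.support.image Subtype.val := by
  classical
  exact Finsupp.mapDomain_support_of_injective Subtype.val_injective e'

lemma vv_isStd (e' : Below w →₀ ℕ) (h : ChainT w e') : IsStd (vv w e') := by
  classical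
  intro a ha b hb
  rw [vv_support, Finset.mem_image] at ha hb
  obtain ⟨a', ha', rfl⟩ := ha
  obtain ⟨b', hb', rfl⟩ := hb
  exact h a' ha' b' hb'

lemma vv_leAll (e' : Below w →₀ ℕ) : LeAll w (vv w e') := by
  classical
  intro θ hθ
  rw [vv_support, Finset.mem_image] at hθ
  obtain ⟨a', -, rfl⟩ := hθ
  exact a'.2

lemma Phi_monomial (e' : Below w →₀ ℕ) :
    Phi K w (monomial e' 1) = Ideal.Quotient.mk (I0 K w) (bs K w (vv w e')) := by
  unfold Phi
  rw [AlgHom.comp_apply, rename_monomial, Theta_monomial]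
  rfl

lemma monomial_mem_srIdeal (e' : Below w →₀ ℕ) (c : K) (h : ¬ ChainT w e') :
    monomial e' c ∈ srIdeal K w := by
  unfold ChainT at h
  push Not at h
  obtain ⟨a, ha, b, hb, hab, hba⟩ := h
  have hne : a ≠ b := fun h => hab (h ▸ le_rfl)
  rw [monomial_split e' c a ha]
  have hb' : b ∈ (e' - Finsupp.single a 1).support := by
    rw [Finsupp.mem_support_iff, Finsupp.tsub_apply, Finsupp.single_apply, if_neg hne, tsub_zero]
    exact Finsupp.mem_support_iff.mp hb
  rw [monomial_split (e' - Finsupp.single a 1) c b hb', mul_assoc]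
  exact Ideal.mul_mem_left _ _ (Ideal.subset_span ⟨b, a, hba, hab, rfl⟩)

/-- The standard index attached to a chain-supported exponent. -/
noncomputable def jj (g : MvPolynomial (Below w) K) (hg : ∀ e' ∈ g.support, ChainT w e')
    (e' : {e' // e' ∈ g.support}) : StdW w :=
  ⟨vv w e'.1, vv_isStd w e'.1 (hg e'.1 e'.2), vv_leAll w e'.1⟩

lemma jj_injective (g : MvPolynomial (Below w) K) (hg : ∀ e' ∈ g.support, ChainT w e') :
    Function.Injective (jj K w g hg) := by
  intro x y hxy
  have h1 : vv w x.1 = vv w y.1 := congrArg Subtype.val hxy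
  exact Subtype.ext (vv_injective w h1)

theorem Phi_ker [Infinite K] (hd : 0 < d) (f : MvPolynomial (Below w) K) (hf : Phi K w f = 0) :
    f ∈ srIdeal K w := by
  classical
  have hsplit := restr_add (ChainT w) f
  have hbad : restr (fun e' => ¬ ChainT w e') f ∈ srIdeal K w :=
    restr_mem_ideal _ _ _ (fun e' _ hn => monomial_mem_srIdeal K w e' _ hn)
  obtain ⟨g, hg⟩ : ∃ g, g = restr (ChainT w) f := ⟨_, rfl⟩
  have hgf : g = f - restr (fun e' => ¬ ChainT w e') f := by
    rw [hg]
    linear_combination hsplit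
  have hgΦ : Phi K w g = 0 := by
    rw [hgf, map_sub, hf, srIdeal_le K w _ hbad, sub_zero]
  have hgchain : ∀ e' ∈ g.support, ChainT w e' := fun e' he' => by
    rw [hg] at he'
    exact (mem_support_restr _ _ _ he').2
  have hmem : ∑ e' ∈ g.support, coeff e' g • bs K w (vv w e') ∈ I0 K w := by
    rw [← Ideal.Quotient.eq_zero_iff_mem, map_sum, ← hgΦ]
    conv_rhs => rw [← support_sum_monomial_coeff g, map_sum]
    refine Finset.sum_congr rfl fun e' _ => ?_
    have h1 : monomial e' (coeff e' g) = coeff e' g • monomial e' (1:K) := by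
      rw [smul_monomial, smul_eq_mul, mul_one]
    have h2 : Phi K w (monomial e' (coeff e' g)) =
        coeff e' g • Ideal.Quotient.mk (I0 K w) (bs K w (vv w e')) := by
      rw [h1, map_smul, Phi_monomial]
    have h3 : Ideal.Quotient.mk (I0 K w) (coeff e' g • bs K w (vv w e')) =
        coeff e' g • Ideal.Quotient.mk (I0 K w) (bs K w (vv w e')) :=
      map_smul (Ideal.Quotient.mkₐ K (I0 K w)) _ _
    rw [h3, h2]
  obtain ⟨cc, hcc⟩ : ∃ cc : StdW w → K,
      ∀ e' : {e' // e' ∈ g.support}, cc (jj K w g hgchain e') = coeff e'.1 g := by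
    refine ⟨fun s => coeff (Function.invFun (vv w) s.1) g, fun e' => ?_⟩
    show coeff (Function.invFun (vv w) (vv w e'.1)) g = _
    rw [Function.leftInverse_invFun (vv_injective w)]
  have hsum : ∑ s ∈ g.support.attach.image (jj K w g hgchain),
      cc s • bb (filt K w) (eW K w) (OmW w) (hF K w) s ∈ I0 K w := by
    rw [Finset.sum_image (fun x _ y _ h => jj_injective K w g hgchain h)]
    have h2 : ∑ x ∈ g.support.attach, cc (jj K w g hgchain x) •
        bb (filt K w) (eW K w) (OmW w) (hF K w) (jj K w g hgchain x) =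
        ∑ x ∈ g.support.attach, coeff x.1 g • bs K w (vv w x.1) := by
      refine Finset.sum_congr rfl fun x _ => ?_
      rw [hcc]
      rfl
    rw [h2, Finset.sum_attach g.support (fun e' => coeff e' g • bs K w (vv w e'))]
    exact hmem
  have hzero := indep_mod_X (filt K w) (eW K w) (OmW w) (hF K w)
    (ee_linearIndependent K w hd) _ cc hsum
  have hg0 : g = 0 := by
    ext e'
    rw [coeff_zero]
    by_contra hne
    have he' : e' ∈ g.support := mem_support_iff.mpr hne
    have h3 := hzero (jj K w g hgchain ⟨e', he'⟩)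
      (Finset.mem_image.mpr ⟨⟨e', he'⟩, Finset.mem_attach _ _, rfl⟩)
    rw [hcc] at h3
    exact hne h3
  rw [hg0] at hgf
  have hf' : f = restr (fun e' => ¬ ChainT w e') f := by
    linear_combination -hgf
  rw [hf']
  exact hbad

lemma PhiBar_injective [Infinite K] (hd : 0 < d) : Function.Injective (PhiBar K w) := by
  rw [injective_iff_map_eq_zero]
  intro x hx
  obtain ⟨f, rfl⟩ := Ideal.Quotient.mk_surjective x
  rw [PhiBar_mk] at hx
  exact Ideal.Quotient.eq_zero_iff_mem.mpr (Phi_ker K w hd f hx)

/-- Degeneration of the cone over a Schubert variety to the Stanley–Reisner ring. -/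
theorem s11274 [Infinite K] (hd : 0 < d) :
    ∃ (R : Type u) (_ : CommRing R) (_ : Algebra K R) (_ : Algebra (Polynomial K) R)
      (_ : IsScalarTower K (Polynomial K) R),
      Module.Free (Polynomial K) R ∧
      Nonempty ((R ⧸ Ideal.span {algebraMap (Polynomial K) R Polynomial.X}) ≃ₐ[K]
        (MvPolynomial (Below w) K ⧸ srIdeal K w)) ∧
      ∀ c : K, c ≠ 0 →
        Nonempty ((R ⧸ Ideal.span {algebraMap (Polynomial K) R
            (Polynomial.X - Polynomial.C c)}) ≃ₐ[K]
          (PlRing K d n ⧸ schubertVanishing K d n w)) :=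
  ⟨rees (filt K w), inferInstance, inferInstance, inferInstance, inferInstance,
    free_rees (filt K w) (eW K w) (OmW w) (hF K w) (ee_linearIndependent K w hd),
    ⟨(AlgEquiv.ofBijective (PhiBar K w)
      ⟨PhiBar_injective K w hd, PhiBar_surjective K w⟩).symm⟩,
    fun c hc => ⟨fibreEquiv (filt K w) c hc (exists_mem_FF K w)⟩⟩

end Groth.Agent.Helper8.SMT7
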