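import Mathlib
import Groth.Prelude.Def_W4bk4grassmannianPl
import Groth.Agent.Helper8.SMT7
import Groth.Agent.Helper8.SMT8

set_option autoImplicit false

namespace Groth.Agent.Helper8.SMT9

open W4bk4grassmannian MvPolynomial Groth.Agent.Helper8.SMT Groth.Agent.Helper8.SMT3
  Groth.Agent.Helper8.SMT4 Groth.Agent.Helper8.SMT6 Groth.Agent.Helper8.SMT8
  Groth.Agent.Helper8.Rees

attribute [local instance] Polynomial.algebra

universe u

variable {d n : ℕ}

/-! ### Joins and meets -/

lemma Wθ_sup_inf (i j : Idx d n) :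
    Wθ (W4bk4grassmannian.sup i j) + Wθ (W4bk4grassmannian.inf i j) = Wθ i + Wθ j := by
  unfold Wθ
  rw [← Finset.sum_add_distrib, ← Finset.sum_add_distrib]
  refine Finset.sum_congr rfl fun t _ => ?_
  show (max (i.1 t) (j.1 t)).val * t.val + (min (i.1 t) (j.1 t)).val * t.val =
    (i.1 t).val * t.val + (j.1 t).val * t.val
  rcases le_total (i.1 t) (j.1 t) with h | h
  · rw [max_eq_right h, min_eq_left h, add_comm]
  · rw [max_eq_left h, min_eq_right h]

lemma Dθ_sup_inf (i j : Idx d n) :
    Dθ (W4bk4grassmannian.sup i j) + Dθ (W4bk4grassmannian.inf i j) = Dθ i + Dθ j := by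
  unfold Dθ
  rw [← Finset.sum_add_distrib, ← Finset.sum_add_distrib]
  refine Finset.sum_congr rfl fun t _ => ?_
  show Finsupp.single (max (i.1 t) (j.1 t), t) 1 + Finsupp.single (min (i.1 t) (j.1 t), t) 1 =
    Finsupp.single (i.1 t, t) 1 + Finsupp.single (j.1 t, t) 1
  rcases le_total (i.1 t) (j.1 t) with h | h
  · rw [max_eq_right h, min_eq_left h, add_comm]
  · rw [max_eq_left h, min_eq_right h]

lemma wt_sup_inf (i j : Idx d n) :
    wt (W4bk4grassmannian.sup i j) + wt (W4bk4grassmannian.inf i j) = wt i + wt j := by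
  unfold wt wtT
  rw [← Finset.sum_add_distrib, ← Finset.sum_add_distrib]
  refine Finset.sum_congr rfl fun t _ => ?_
  show (max (i.1 t) (j.1 t)).val + (min (i.1 t) (j.1 t)).val = (i.1 t).val + (j.1 t).val
  rcases le_total (i.1 t) (j.1 t) with h | h
  · rw [max_eq_right h, min_eq_left h, add_comm]
  · rw [max_eq_left h, min_eq_right h]

lemma wt_lt_sup (i j : Idx d n) (h : ¬ j ≤ i) : wt i < wt (W4bk4grassmannian.sup i j) := by
  have h' : ¬ ∀ t, j.1 t ≤ i.1 t := fun hh => h hh
  push Not at h'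
  obtain ⟨t₀, ht₀⟩ := h'
  unfold wt wtT
  refine Finset.sum_lt_sum (fun t _ => ?_) ⟨t₀, Finset.mem_univ _, ?_⟩
  · show (i.1 t).val ≤ (max (i.1 t) (j.1 t)).val
    exact Fin.le_def.mp (le_max_left _ _)
  · show (i.1 t₀).val < (max (i.1 t₀) (j.1 t₀)).val
    rw [max_eq_right ht₀.le]
    exact Fin.lt_def.mp ht₀

/-! ### The filtration by the weight of the leading monomial -/

section filtration

variable (K : Type u) [Field K] (w : Idx d n)

/-- The filtration by the weight of the leading monomial. -/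
noncomputable def GG (k : ℕ) : Submodule K (PlRing K d n ⧸ schubertVanishing K d n w) :=
  Submodule.span K ((fun s : StdW w => ee K w s.1) '' {s | Wm s.1 ≤ k})

/-- The strict version. -/
noncomputable def GGlt (k : ℕ) : Submodule K (PlRing K d n ⧸ schubertVanishing K d n w) :=
  Submodule.span K ((fun s : StdW w => ee K w s.1) '' {s | Wm s.1 < k})

lemma GG_mono {j k : ℕ} (h : j ≤ k) : GG K w j ≤ GG K w k := by
  unfold GG
  apply Submodule.span_mono
  rintro _ ⟨s, hs, rfl⟩
  exact ⟨s, le_trans hs h, rfl⟩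

lemma GGlt_zero : GGlt K w 0 = ⊥ := by
  unfold GGlt
  have h : {s : StdW w | Wm s.1 < 0} = ∅ := by
    ext s
    simp
  rw [h, Set.image_empty, Submodule.span_empty]

lemma GGlt_succ (k : ℕ) : GGlt K w (k + 1) = GG K w k := by
  unfold GGlt GG
  have h : {s : StdW w | Wm s.1 < k + 1} = {s : StdW w | Wm s.1 ≤ k} := by
    ext s
    exact Nat.lt_succ_iff
  rw [h]

lemma span_ee_top :
    Submodule.span K (Set.range fun s : StdW w => ee K w s.1) = ⊤ := by
  rw [Submodule.eq_top_iff']
  intro a
  obtain ⟨k, hk⟩ := exists_mem_FF K w a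
  unfold FF at hk
  exact Submodule.span_mono (Set.image_subset_range _ _) hk

lemma expand (f : PlRing K d n) : ∃ c : StdW w →₀ K,
    Ideal.Quotient.mk (schubertVanishing K d n w) f = ∑ v ∈ c.support, c v • ee K w v.1 := by
  have h1 : Ideal.Quotient.mk (schubertVanishing K d n w) f ∈
      Submodule.span K (Set.range fun s : StdW w => ee K w s.1) := by
    rw [span_ee_top]
    exact Submodule.mem_top
  rw [Finsupp.mem_span_range_iff_exists_finsupp] at h1
  obtain ⟨c, hc⟩ := h1
  exact ⟨c, hc.symm⟩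

theorem mem_of_bound [Infinite K] (hd : 0 < d) (f : PlRing K d n) (k : ℕ)
    (h : ∀ m, coeff m (psi K w f) ≠ 0 → Lam m < k) :
    Ideal.Quotient.mk (schubertVanishing K d n w) f ∈ GGlt K w k := by
  classical
  obtain ⟨c, hc⟩ := expand K w f
  obtain ⟨g, hg⟩ : ∃ g : PlRing K d n, g = ∑ v ∈ c.support, c v • monomial v.1 (1:K) :=
    ⟨_, rfl⟩
  have hmkg : Ideal.Quotient.mk (schubertVanishing K d n w) g =
      ∑ v ∈ c.support, c v • ee K w v.1 := by
    rw [hg, map_sum]
    refine Finset.sum_congr rfl fun v _ => ?_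
    exact map_smul (Ideal.Quotient.mkₐ K _) (c v) _
  have hfg : f - g ∈ schubertVanishing K d n w := by
    rw [← Ideal.Quotient.eq_zero_iff_mem, map_sub, hc, hmkg, sub_self]
  have hpsi : psi K w f = ∑ v ∈ c.support, c v • psi K w (monomial v.1 1) := by
    have h1 := psi_eq_zero_of_mem K w _ hfg
    rw [map_sub, sub_eq_zero] at h1
    rw [h1, hg, map_sum]
    refine Finset.sum_congr rfl fun v _ => ?_
    rw [map_smul]
  rw [hpsi] at h
  have hb := topBound K c.support c (fun v => psi K w (monomial v.1 1)) (fun v => Wm v.1)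
    (fun v => Dm v.1) (fun v _ => isTop_monomial K w v.1 v.2.2)
    (fun v _ v' _ hD => Subtype.ext (Dm_injective hd _ v.1 v'.1 rfl v.2.1 v'.2.1 hD)) k h
  rw [hc]
  refine Submodule.sum_mem _ fun v hv => ?_
  refine Submodule.smul_mem _ _ (Submodule.subset_span ⟨v, ?_, rfl⟩)
  exact hb v hv (Finsupp.mem_support_iff.mp hv)

theorem ee_mem_GG [Infinite K] (hd : 0 < d) (s : Idx d n →₀ ℕ) :
    ee K w s ∈ GG K w (Wm s) := by
  by_cases hw : LeAll w s
  · rw [← GGlt_succ]
    refine mem_of_bound K w hd (monomial s 1) (Wm s + 1) ?_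
    intro m hm
    exact Nat.lt_succ_of_le ((isTop_monomial K w s hw).le m hm)
  · rw [ee_eq_zero K w s hw]
    exact zero_mem _

lemma mul_mem_GG [Infinite K] (hd : 0 < d) {i j : ℕ}
    {a b : PlRing K d n ⧸ schubertVanishing K d n w}
    (ha : a ∈ GG K w i) (hb : b ∈ GG K w j) : a * b ∈ GG K w (i + j) := by
  unfold GG at ha hb
  induction ha using Submodule.span_induction with
  | mem x hx =>
    obtain ⟨s, hs, rfl⟩ := hx
    induction hb using Submodule.span_induction with
    | mem y hy =>
      obtain ⟨t, ht, rfl⟩ := hy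
      show ee K w s.1 * ee K w t.1 ∈ GG K w (i + j)
      rw [← ee_add]
      refine GG_mono K w ?_ (ee_mem_GG K w hd _)
      rw [Wm_add]
      exact add_le_add hs ht
    | zero => rw [mul_zero]; exact zero_mem _
    | add y z _ _ hy hz => rw [mul_add]; exact add_mem hy hz
    | smul c y _ hy => rw [mul_smul_comm]; exact Submodule.smul_mem _ _ hy
  | zero => rw [zero_mul]; exact zero_mem _
  | add x y _ _ hx hy => rw [add_mul]; exact add_mem hx hy
  | smul c x _ hx => rw [smul_mul_assoc]; exact Submodule.smul_mem _ _ hx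

lemma one_mem_GG : (1 : PlRing K d n ⧸ schubertVanishing K d n w) ∈ GG K w 0 := by
  rw [← ee_zero K w]
  refine Submodule.subset_span ⟨⟨0, ?_, ?_⟩, ?_, rfl⟩
  · intro a ha
    simp at ha
  · intro θ hθ
    simp at hθ
  · show Wm (0 : Idx d n →₀ ℕ) ≤ 0
    rw [Wm_zero]

lemma exists_mem_GG [Infinite K] (hd : 0 < d)
    (a : PlRing K d n ⧸ schubertVanishing K d n w) : ∃ k, a ∈ GG K w k := by
  obtain ⟨f, rfl⟩ := Ideal.Quotient.mk_surjective a
  refine MvPolynomial.induction_on' f ?_ ?_
  · intro s c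
    refine ⟨Wm s, ?_⟩
    have h1 : monomial s c = c • monomial s (1:K) := by
      rw [smul_monomial, smul_eq_mul, mul_one]
    have h2 : Ideal.Quotient.mk (schubertVanishing K d n w) (c • monomial s (1:K)) =
        c • ee K w s := map_smul (Ideal.Quotient.mkₐ K _) c _
    rw [h1, h2]
    exact Submodule.smul_mem _ _ (ee_mem_GG K w hd s)
  · rintro p q ⟨k1, h1⟩ ⟨k2, h2⟩
    refine ⟨max k1 k2, ?_⟩
    rw [map_add]
    exact add_mem (GG_mono K w (le_max_left _ _) h1) (GG_mono K w (le_max_right _ _) h2)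

/-! ### The Hibi relations hold in the associated graded ring -/

/-- The exponent of `x_a x_b`. -/
noncomputable def s1 (a b : Below w) : Idx d n →₀ ℕ :=
  Finsupp.single a.1 1 + Finsupp.single b.1 1

/-- The exponent of `x_{a ∨ b} x_{a ∧ b}`. -/
noncomputable def s2 (a b : Below w) : Idx d n →₀ ℕ :=
  Finsupp.single (Below.sup a b).1 1 + Finsupp.single (Below.inf a b).1 1

lemma leAll_pair (a b : Below w) : LeAll w (Finsupp.single a.1 1 + Finsupp.single b.1 1) := by
  classical
  intro θ hθ
  rw [Finsupp.mem_support_iff, Finsupp.add_apply, Finsupp.single_apply, Finsupp.single_apply]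
    at hθ
  by_cases h1 : a.1 = θ
  · rw [← h1]
    exact a.2
  · by_cases h2 : b.1 = θ
    · rw [← h2]
      exact b.2
    · rw [if_neg h1, if_neg h2] at hθ
      exact absurd rfl hθ

lemma Wm_pair (a b : Below w) : Wm (s1 w a b) = Wm (s2 w a b) := by
  unfold s1 s2
  rw [Wm_add, Wm_add, Wm_single, Wm_single, Wm_single, Wm_single, one_mul, one_mul, one_mul,
    one_mul]
  exact (Wθ_sup_inf a.1 b.1).symm

lemma Dm_pair (a b : Below w) : Dm (s1 w a b) = Dm (s2 w a b) := by
  unfold s1 s2
  rw [Dm_add, Dm_add, Dm_single, Dm_single, Dm_single, Dm_single, one_smul, one_smul, one_smul,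
    one_smul]
  exact (Dθ_sup_inf a.1 b.1).symm

theorem hibi_pair [Infinite K] (hd : 0 < d) (a b : Below w) :
    ee K w (s1 w a b) - ee K w (s2 w a b) ∈ GGlt K w (Wm (s1 w a b)) := by
  have h1 := isTop_monomial K w (s1 w a b) (leAll_pair w a b)
  have h2 := isTop_monomial K w (s2 w a b) (leAll_pair w (Below.sup a b) (Below.inf a b))
  rw [← Wm_pair, ← Dm_pair] at h2
  have hmk : ee K w (s1 w a b) - ee K w (s2 w a b) =
      Ideal.Quotient.mk (schubertVanishing K d n w)
        (monomial (s1 w a b) 1 - monomial (s2 w a b) 1) := by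
    unfold ee
    rw [map_sub]
  rw [hmk]
  refine mem_of_bound K w hd _ _ ?_
  intro m hm
  rw [map_sub, coeff_sub] at hm
  exact IsTop.sub_lower h1 h2 m hm

end filtration

/-! ### The Rees algebra -/

section rees

variable (K : Type u) [Field K] [Infinite K] (w : Idx d n) (hd : 0 < d)

/-- The filtration as a `Filt`. -/
noncomputable def filt : Filt K (PlRing K d n ⧸ schubertVanishing K d n w) where
  F := GG K w
  mono := fun _ _ h => GG_mono K w h
  one_mem := one_mem_GG K w
  mul_mem := fun ha hb => mul_mem_GG K w hd ha hb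

/-- The standard monomial family. -/
noncomputable abbrev eW : StdW w → (PlRing K d n ⧸ schubertVanishing K d n w) :=
  fun s => ee K w s.1

/-- Its weights. -/
abbrev OmW : StdW w → ℕ := fun s => Wm s.1

lemma hF (k : ℕ) :
    (filt K w hd).F k = Submodule.span K (eW K w '' {i | OmW w i ≤ k}) := rfl

/-- The monomial `e_s X ^ (W s)` of the Rees algebra. -/
noncomputable def bs (s : Idx d n →₀ ℕ) : rees (filt K w hd) :=
  el (filt K w hd) (Wm s) (ee K w s) (ee_mem_GG K w hd s)

lemma coe_bs (s : Idx d n →₀ ℕ) :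
    ((bs K w hd s : rees (filt K w hd)) :
      Polynomial (PlRing K d n ⧸ schubertVanishing K d n w)) =
      Polynomial.monomial (Wm s) (ee K w s) := rfl

lemma bs_zero : bs K w hd 0 = 1 := by
  apply Subtype.ext
  rw [coe_bs, Wm_zero, ee_zero]
  rfl

lemma bs_add (s t : Idx d n →₀ ℕ) : bs K w hd (s + t) = bs K w hd s * bs K w hd t := by
  apply Subtype.ext
  rw [MulMemClass.coe_mul, coe_bs, coe_bs, coe_bs, Polynomial.monomial_mul_monomial, Wm_add,
    ee_add]

lemma bs_single (θ : Idx d n) (k : ℕ) :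
    bs K w hd (Finsupp.single θ k) = bs K w hd (Finsupp.single θ 1) ^ k := by
  induction k with
  | zero => rw [Finsupp.single_zero, bs_zero, pow_zero]
  | succ k ih => rw [Finsupp.single_add, bs_add, ih, pow_succ]

lemma bs_eq_zero (s : Idx d n →₀ ℕ) (h : ee K w s = 0) : bs K w hd s = 0 := by
  apply Subtype.ext
  rw [coe_bs, h, map_zero]
  rfl

/-- The ideal generated by the parameter. -/
noncomputable abbrev I0 : Ideal (rees (filt K w hd)) :=
  Ideal.span {algebraMap (Polynomial K) (rees (filt K w hd)) Polynomial.X}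

lemma sub_mem_I0 (s₁ s₂ : Idx d n →₀ ℕ) (hW : Wm s₁ = Wm s₂)
    (h : ee K w s₁ - ee K w s₂ ∈ GGlt K w (Wm s₁)) :
    bs K w hd s₁ - bs K w hd s₂ ∈ I0 K w hd := by
  rw [mem_span_X]
  have hcoe : ((bs K w hd s₁ - bs K w hd s₂ : rees (filt K w hd)) :
      Polynomial (PlRing K d n ⧸ schubertVanishing K d n w)) =
      Polynomial.monomial (Wm s₁) (ee K w s₁ - ee K w s₂) := by
    rw [AddSubgroupClass.coe_sub, coe_bs, coe_bs, ← hW, ← map_sub]
  rw [hcoe]
  constructor
  · rw [Polynomial.coeff_monomial]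
    split_ifs with h0
    · rw [h0, GGlt_zero, Submodule.mem_bot] at h
      exact h
    · rfl
  · intro j
    rw [Polynomial.coeff_monomial]
    split_ifs with h0
    · rw [h0, GGlt_succ] at h
      exact h
    · exact zero_mem _

/-- The map from the Plücker polynomial ring to the special fibre. -/
noncomputable def Theta : PlRing K d n →ₐ[K] (rees (filt K w hd)) ⧸ I0 K w hd :=
  MvPolynomial.aeval fun θ : Idx d n =>
    Ideal.Quotient.mk (I0 K w hd) (bs K w hd (Finsupp.single θ 1))

lemma Theta_monomial (s : Idx d n →₀ ℕ) :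
    Theta K w hd (monomial s 1) = Ideal.Quotient.mk (I0 K w hd) (bs K w hd s) := by
  induction s using Finsupp.induction_linear with
  | zero =>
    have h : (monomial (0 : Idx d n →₀ ℕ) (1:K) : PlRing K d n) = 1 := rfl
    rw [bs_zero, h, map_one, map_one]
  | add s t hs ht =>
    have h : (monomial (s + t) (1:K) : PlRing K d n) = monomial s 1 * monomial t 1 := by
      rw [monomial_mul, one_mul]
    rw [h, map_mul, hs, ht, bs_add, map_mul]
  | single θ k =>
    rw [← X_pow_eq_monomial, map_pow]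
    unfold Theta
    rw [aeval_X, ← map_pow, ← bs_single]

/-- The map from the polynomial ring on `H(w)` to the special fibre. -/
noncomputable def Phi : MvPolynomial (Below w) K →ₐ[K] (rees (filt K w hd)) ⧸ I0 K w hd :=
  (Theta K w hd).comp (MvPolynomial.rename Subtype.val)

lemma Phi_comp_Rho : (Phi K w hd).comp (SMT7.Rho K w) = Theta K w hd := by
  apply MvPolynomial.algHom_ext
  intro θ
  rw [AlgHom.comp_apply]
  unfold SMT7.Rho
  rw [aeval_X]
  by_cases h : θ ≤ w
  · rw [dif_pos h]
    unfold Phi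
    rw [AlgHom.comp_apply, rename_X]
  · rw [dif_neg h, map_zero]
    unfold Theta
    rw [aeval_X, bs_eq_zero K w hd _ (ee_eq_zero K w _ (fun hle => h (hle θ (by
      rw [Finsupp.mem_support_iff, Finsupp.single_eq_same]; exact one_ne_zero)))), map_zero]

lemma hibi_le (f : MvPolynomial (Below w) K) (hf : f ∈ hibiIdeal K w) : Phi K w hd f = 0 := by
  have h0 : hibiIdeal K w ≤ RingHom.ker (Phi K w hd) := by
    unfold hibiIdeal
    rw [Ideal.span_le]
    rintro _ ⟨a, b, rfl⟩
    rw [SetLike.mem_coe, RingHom.mem_ker]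
    unfold Phi
    rw [AlgHom.comp_apply, map_sub, map_mul, map_mul, rename_X, rename_X, rename_X, rename_X]
    have h1 : (X a.1 * X b.1 : PlRing K d n) = monomial (s1 w a b) 1 := by
      unfold s1
      rw [monomial_add_single, pow_one]
      rfl
    have h2 : (X (Below.sup a b).1 * X (Below.inf a b).1 : PlRing K d n) =
        monomial (s2 w a b) 1 := by
      unfold s2
      rw [monomial_add_single, pow_one]
      rfl
    rw [h1, h2, map_sub, Theta_monomial, Theta_monomial, ← map_sub,
      Ideal.Quotient.eq_zero_iff_mem]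
    exact sub_mem_I0 K w hd _ _ (Wm_pair w a b) (hibi_pair K w hd a b)
  exact RingHom.mem_ker.mp (h0 hf)

/-- The induced map from the Hibi ring. -/
noncomputable def PhiBar :
    (MvPolynomial (Below w) K ⧸ hibiIdeal K w) →ₐ[K] (rees (filt K w hd)) ⧸ I0 K w hd :=
  Ideal.Quotient.liftₐ (hibiIdeal K w) (Phi K w hd) (hibi_le K w hd)

lemma PhiBar_mk (f : MvPolynomial (Below w) K) :
    PhiBar K w hd (Ideal.Quotient.mk (hibiIdeal K w) f) = Phi K w hd f := by
  unfold PhiBar
  rw [Ideal.Quotient.liftₐ_apply, Ideal.Quotient.lift_mk]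
  rfl

lemma Phi_range (r : rees (filt K w hd)) :
    Ideal.Quotient.mk (I0 K w hd) r ∈ (Phi K w hd).range := by
  obtain ⟨M, hM⟩ : ∃ M : Submodule K (rees (filt K w hd)),
      M = Submodule.comap (Ideal.Quotient.mkₐ K (I0 K w hd)).toLinearMap
        (Subalgebra.toSubmodule (Phi K w hd).range) := ⟨_, rfl⟩
  have hmem : ∀ r, r ∈ M ↔ Ideal.Quotient.mk (I0 K w hd) r ∈ (Phi K w hd).range := by
    intro r
    rw [hM]
    rfl
  have htop : M = ⊤ := top_of_mem (filt K w hd) (eW K w) (OmW w) (hF K w hd) M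
    (fun r hr => by
      rw [hmem, Ideal.Quotient.eq_zero_iff_mem.mpr hr]
      exact zero_mem _)
    (fun i => by
      rw [hmem]
      have h1 : bb (filt K w hd) (eW K w) (OmW w) (hF K w hd) i = bs K w hd i.1 := rfl
      rw [h1, ← Theta_monomial, ← Phi_comp_Rho, AlgHom.comp_apply]
      exact AlgHom.mem_range_self _ _)
  rw [← hmem, htop]
  exact Submodule.mem_top

lemma PhiBar_surjective : Function.Surjective (PhiBar K w hd) := by
  intro y
  obtain ⟨r, rfl⟩ := Ideal.Quotient.mk_surjective y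
  obtain ⟨f, hf⟩ := Phi_range K w hd r
  exact ⟨Ideal.Quotient.mk (hibiIdeal K w) f, by rw [PhiBar_mk]; exact hf⟩

lemma Phi_monomial (e' : Below w →₀ ℕ) :
    Phi K w hd (monomial e' 1) = Ideal.Quotient.mk (I0 K w hd) (bs K w hd (SMT7.vv w e')) := by
  unfold Phi
  rw [AlgHom.comp_apply, rename_monomial, Theta_monomial]
  rfl

end rees

/-! ### Straightening in the Hibi ring -/

section hibi

variable (K : Type u) [Field K] (w : Idx d n)

/-- The termination measure. -/
def OmB (e' : Below w →₀ ℕ) : ℕ := e'.sum fun a k => k * om a.1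

lemma OmB_add (s t : Below w →₀ ℕ) : OmB w (s + t) = OmB w s + OmB w t :=
  Finsupp.sum_add_index' (fun _ => zero_mul _) (fun _ _ _ => add_mul _ _ _)

lemma OmB_single (a : Below w) (k : ℕ) : OmB w (Finsupp.single a k) = k * om a.1 :=
  Finsupp.sum_single_index (zero_mul _)

theorem exists_chain_rep : ∀ (N : ℕ) (e' : Below w →₀ ℕ), OmB w e' = N →
    ∃ e'' : Below w →₀ ℕ, SMT7.ChainT w e'' ∧
      monomial e' (1:K) - monomial e'' 1 ∈ hibiIdeal K w := by
  classical
  intro N
  induction N using Nat.strong_induction_on with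
  | _ N ih =>
  intro e' hN
  by_cases hch : SMT7.ChainT w e'
  · exact ⟨e', hch, by rw [sub_self]; exact zero_mem _⟩
  · unfold SMT7.ChainT at hch
    push Not at hch
    obtain ⟨a0, ha0, b0, hb0, hab0, hba0⟩ := hch
    obtain ⟨a, b, ha, hb, hab, hba, hwt⟩ : ∃ a b : Below w, a ∈ e'.support ∧ b ∈ e'.support ∧
        ¬ a ≤ b ∧ ¬ b ≤ a ∧ wt b.1 ≤ wt a.1 := by
      rcases le_total (wt b0.1) (wt a0.1) with h | h
      · exact ⟨a0, b0, ha0, hb0, hab0, hba0, h⟩
      · exact ⟨b0, a0, hb0, ha0, hba0, hab0, h⟩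
    have hne : a ≠ b := fun h => hab (h ▸ le_rfl)
    have hi1 : 1 ≤ e' a := Nat.one_le_iff_ne_zero.mpr (Finsupp.mem_support_iff.mp ha)
    have hj1 : 1 ≤ e' b := Nat.one_le_iff_ne_zero.mpr (Finsupp.mem_support_iff.mp hb)
    obtain ⟨e₀, he₀⟩ : ∃ e₀ : Below w →₀ ℕ,
        e' = e₀ + Finsupp.single a 1 + Finsupp.single b 1 := by
      refine ⟨e' - Finsupp.single a 1 - Finsupp.single b 1, ?_⟩
      ext x
      simp only [Finsupp.coe_add, Finsupp.coe_tsub, Pi.add_apply, Pi.sub_apply,
        Finsupp.single_apply]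
      by_cases hxi : a = x
      · subst hxi
        have hji' : ¬ b = a := fun h => hne h.symm
        simp [hji']
        omega
      · by_cases hxj : b = x
        · subst hxj
          simp [hxi]
          omega
        · simp [hxi, hxj]
    obtain ⟨e₁, he₁⟩ : ∃ e₁ : Below w →₀ ℕ, e₁ = e₀ + Finsupp.single (Below.sup a b) 1 +
        Finsupp.single (Below.inf a b) 1 := ⟨_, rfl⟩
    have hdiff : monomial e' (1:K) - monomial e₁ 1 =
        monomial e₀ 1 * (X a * X b - X (Below.sup a b) * X (Below.inf a b)) := by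
      rw [he₀, he₁, monomial_add_single, monomial_add_single, monomial_add_single,
        monomial_add_single, pow_one, pow_one, pow_one, pow_one]
      ring
    have hmem : monomial e' (1:K) - monomial e₁ 1 ∈ hibiIdeal K w := by
      rw [hdiff]
      exact Ideal.mul_mem_left _ _ (Ideal.subset_span ⟨a, b, rfl⟩)
    have hlt : OmB w e₁ < N := by
      rw [← hN, he₀, he₁, OmB_add, OmB_add, OmB_add, OmB_add, OmB_single, OmB_single,
        OmB_single, OmB_single, one_mul, one_mul, one_mul, one_mul]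
      have hw1 : wt a.1 < wt (W4bk4grassmannian.sup a.1 b.1) :=
        wt_lt_sup a.1 b.1 (fun h => hba h)
      have hw2 := wt_sup_inf a.1 b.1
      have hsq := sq_lemma (wt a.1) (wt b.1) (wt (W4bk4grassmannian.sup a.1 b.1))
        (wt (W4bk4grassmannian.inf a.1 b.1)) hw1 hwt hw2
      have b1 := wt_sq_le a.1
      have b2 := wt_sq_le b.1
      have b3 := wt_sq_le (W4bk4grassmannian.sup a.1 b.1)
      have b4 := wt_sq_le (W4bk4grassmannian.inf a.1 b.1)
      have e3 : (Below.sup a b).1 = W4bk4grassmannian.sup a.1 b.1 := rfl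
      have e4 : (Below.inf a b).1 = W4bk4grassmannian.inf a.1 b.1 := rfl
      rw [e3, e4]
      unfold om
      omega
    obtain ⟨e'', hch'', hmem''⟩ := ih (OmB w e₁) hlt e₁ rfl
    refine ⟨e'', hch'', ?_⟩
    have h3 : monomial e' (1:K) - monomial e'' 1 =
        (monomial e' 1 - monomial e₁ 1) + (monomial e₁ 1 - monomial e'' 1) := by ring
    rw [h3]
    exact add_mem hmem hmem''

lemma exists_chain_poly (f : MvPolynomial (Below w) K) : ∃ g : MvPolynomial (Below w) K,
    (∀ e' ∈ g.support, SMT7.ChainT w e') ∧ f - g ∈ hibiIdeal K w := by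
  classical
  refine MvPolynomial.induction_on' f ?_ ?_
  · intro e' c
    obtain ⟨e'', hch, hmem⟩ := exists_chain_rep K w _ e' rfl
    refine ⟨monomial e'' c, ?_, ?_⟩
    · intro x hx
      have h1 := support_monomial_subset hx
      rw [Finset.mem_singleton] at h1
      rw [h1]
      exact hch
    · have h1 : monomial e' c - monomial e'' c = C c * (monomial e' 1 - monomial e'' 1) := by
        rw [mul_sub, C_mul_monomial, C_mul_monomial, mul_one]
      rw [h1]
      exact Ideal.mul_mem_left _ _ hmem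
  · rintro p q ⟨g1, h1, h1'⟩ ⟨g2, h2, h2'⟩
    refine ⟨g1 + g2, ?_, ?_⟩
    · intro x hx
      have h3 := MvPolynomial.support_add hx
      rcases Finset.mem_union.mp h3 with h | h
      · exact h1 x h
      · exact h2 x h
    · have h3 : p + q - (g1 + g2) = (p - g1) + (q - g2) := by ring
      rw [h3]
      exact add_mem h1' h2'

end hibi

/-! ### Injectivity and the main theorem -/

section main

variable (K : Type u) [Field K] [Infinite K] (w : Idx d n) (hd : 0 < d)

/-- The standard index attached to a chain-supported exponent. -/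
noncomputable def jj (g : MvPolynomial (Below w) K)
    (hg : ∀ e' ∈ g.support, SMT7.ChainT w e') (e' : {e' // e' ∈ g.support}) : StdW w :=
  ⟨SMT7.vv w e'.1, SMT7.vv_isStd w e'.1 (hg e'.1 e'.2), SMT7.vv_leAll w e'.1⟩

lemma jj_injective (g : MvPolynomial (Below w) K)
    (hg : ∀ e' ∈ g.support, SMT7.ChainT w e') : Function.Injective (jj K w g hg) := by
  intro x y hxy
  have h1 : SMT7.vv w x.1 = SMT7.vv w y.1 := congrArg Subtype.val hxy
  exact Subtype.ext (SMT7.vv_injective w h1)

theorem chain_ker (g : MvPolynomial (Below w) K)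
    (hgchain : ∀ e' ∈ g.support, SMT7.ChainT w e') (hgΦ : Phi K w hd g = 0) : g = 0 := by
  classical
  have hmem : ∑ e' ∈ g.support, coeff e' g • bs K w hd (SMT7.vv w e') ∈ I0 K w hd := by
    rw [← Ideal.Quotient.eq_zero_iff_mem, map_sum, ← hgΦ]
    conv_rhs => rw [← support_sum_monomial_coeff g, map_sum]
    refine Finset.sum_congr rfl fun e' _ => ?_
    have h1 : monomial e' (coeff e' g) = coeff e' g • monomial e' (1:K) := by
      rw [smul_monomial, smul_eq_mul, mul_one]
    have h2 : Phi K w hd (monomial e' (coeff e' g)) =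
        coeff e' g • Ideal.Quotient.mk (I0 K w hd) (bs K w hd (SMT7.vv w e')) := by
      rw [h1, map_smul, Phi_monomial]
    have h3 : Ideal.Quotient.mk (I0 K w hd) (coeff e' g • bs K w hd (SMT7.vv w e')) =
        coeff e' g • Ideal.Quotient.mk (I0 K w hd) (bs K w hd (SMT7.vv w e')) :=
      map_smul (Ideal.Quotient.mkₐ K (I0 K w hd)) _ _
    rw [h3, h2]
  obtain ⟨cc, hcc⟩ : ∃ cc : StdW w → K,
      ∀ e' : {e' // e' ∈ g.support}, cc (jj K w g hgchain e') = coeff e'.1 g := by
    refine ⟨fun s => coeff (Function.invFun (SMT7.vv w) s.1) g, fun e' => ?_⟩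
    show coeff (Function.invFun (SMT7.vv w) (SMT7.vv w e'.1)) g = _
    rw [Function.leftInverse_invFun (SMT7.vv_injective w)]
  have hsum : ∑ s ∈ g.support.attach.image (jj K w g hgchain),
      cc s • bb (filt K w hd) (eW K w) (OmW w) (hF K w hd) s ∈ I0 K w hd := by
    rw [Finset.sum_image (fun x _ y _ h => jj_injective K w g hgchain h)]
    have h2 : ∑ x ∈ g.support.attach, cc (jj K w g hgchain x) •
        bb (filt K w hd) (eW K w) (OmW w) (hF K w hd) (jj K w g hgchain x) =
        ∑ x ∈ g.support.attach, coeff x.1 g • bs K w hd (SMT7.vv w x.1) := by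
      refine Finset.sum_congr rfl fun x _ => ?_
      rw [hcc]
      rfl
    rw [h2, Finset.sum_attach g.support (fun e' => coeff e' g • bs K w hd (SMT7.vv w e'))]
    exact hmem
  have hzero := indep_mod_X (filt K w hd) (eW K w) (OmW w) (hF K w hd)
    (ee_linearIndependent K w hd) _ cc hsum
  ext e'
  rw [coeff_zero]
  by_contra hne
  have he' : e' ∈ g.support := mem_support_iff.mpr hne
  have h3 := hzero (jj K w g hgchain ⟨e', he'⟩)
    (Finset.mem_image.mpr ⟨⟨e', he'⟩, Finset.mem_attach _ _, rfl⟩)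
  rw [hcc] at h3
  exact hne h3

theorem Phi_ker (f : MvPolynomial (Below w) K) (hf : Phi K w hd f = 0) :
    f ∈ hibiIdeal K w := by
  obtain ⟨g, hgchain, hfg⟩ := exists_chain_poly K w f
  have hgΦ : Phi K w hd g = 0 := by
    have h1 := hibi_le K w hd _ hfg
    rw [map_sub, hf, zero_sub, neg_eq_zero] at h1
    exact h1
  have hg0 := chain_ker K w hd g hgchain hgΦ
  rw [hg0, sub_zero] at hfg
  exact hfg

lemma PhiBar_injective : Function.Injective (PhiBar K w hd) := by
  rw [injective_iff_map_eq_zero]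
  intro x hx
  obtain ⟨f, rfl⟩ := Ideal.Quotient.mk_surjective x
  rw [PhiBar_mk] at hx
  exact Ideal.Quotient.eq_zero_iff_mem.mpr (Phi_ker K w hd f hx)

include hd in
/-- Toric degeneration of the cone over a Schubert variety to the Hibi ring. -/
theorem s11273 :
    ∃ (R : Type u) (_ : CommRing R) (_ : Algebra K R) (_ : Algebra (Polynomial K) R)
      (_ : IsScalarTower K (Polynomial K) R),
      Module.Free (Polynomial K) R ∧
      Nonempty ((R ⧸ Ideal.span {algebraMap (Polynomial K) R Polynomial.X}) ≃ₐ[K]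
        (MvPolynomial (Below w) K ⧸ hibiIdeal K w)) ∧
      ∀ c : K, c ≠ 0 →
        Nonempty ((R ⧸ Ideal.span {algebraMap (Polynomial K) R
            (Polynomial.X - Polynomial.C c)}) ≃ₐ[K]
          (PlRing K d n ⧸ schubertVanishing K d n w)) :=
  ⟨rees (filt K w hd), inferInstance, inferInstance, inferInstance, inferInstance,
    free_rees (filt K w hd) (eW K w) (OmW w) (hF K w hd) (ee_linearIndependent K w hd),
    ⟨(AlgEquiv.ofBijective (PhiBar K w hd)
      ⟨PhiBar_injective K w hd, PhiBar_surjective K w hd⟩).symm⟩,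
    fun c hc => ⟨fibreEquiv (filt K w hd) c hc (exists_mem_GG K w hd)⟩⟩

end main

end Groth.Agent.Helper8.SMT9
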