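import Groth.Agent.S4875
import Groth.Prelude.Def_CInt

set_option autoImplicit false
universe u
open CategoryTheory CategoryTheory.Limits AlgebraicGeometry TopologicalSpace

namespace Groth.Agent.Helper8.SchDenseFlat

/-- Flat, locally finitely presented morphisms preserve schematic density of opens
(corollary of the family version S4875 applied to the single open immersion `V.ι`). -/
theorem main {X X' : Scheme.{u}} (f : X' ⟶ X) [Flat f]
    [LocallyOfFinitePresentation f] (V : X.Opens) (hV : CInt.IsSchematicallyDense V) :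
    CInt.IsSchematicallyDense (f ⁻¹ᵁ V) := by
  have h : ∀ (W : X.Opens) (t : Γ(X, W)),
      (∀ _ : PUnit.{u+1}, (V.ι).app W t = 0) → t = 0 := by
    intro W t ht
    have h0 := ht PUnit.unit
    apply hV W
    rw [map_zero]
    have hiso : IsIso (V.ι.app (W ⊓ V)) :=
      Scheme.Hom.isIso_app V.ι _ (by rw [Scheme.Opens.opensRange_ι]; exact inf_le_right)
    have hinj : Function.Injective (V.ι.app (W ⊓ V)) :=
      (ConcreteCategory.bijective_of_isIso _).1
    apply hinj
    rw [map_zero]
    have nat := V.ι.naturality (homOfLE (inf_le_left : W ⊓ V ≤ W)).op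
    have h1 := ConcreteCategory.congr_hom nat t
    rw [ConcreteCategory.comp_apply, ConcreteCategory.comp_apply, h0, map_zero] at h1
    exact h1
  have key := Groth.Agent.S4875.result (fun _ : PUnit.{u+1} => (V : Scheme.{u}))
    (fun _ => V.ι) f h
  intro W
  rw [injective_iff_map_eq_zero]
  intro t ht
  apply key W t
  intro _
  show (pullback.snd V.ι f).app W t = 0
  have hle : (pullback.snd V.ι f) ⁻¹ᵁ W ≤ (pullback.snd V.ι f) ⁻¹ᵁ (W ⊓ f ⁻¹ᵁ V) := by
    intro x hx
    refine ⟨hx, ?_⟩
    show f ((pullback.snd V.ι f) x) ∈ V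
    have hc : f ((pullback.snd V.ι f) x) = V.ι ((pullback.fst V.ι f) x) := by
      have := congrArg (fun g => g.base x) (pullback.condition (f := V.ι) (g := f))
      exact this.symm
    rw [hc]
    exact ((pullback.fst V.ι f) x).2
  have nat := (pullback.snd V.ι f).naturality
    (homOfLE (inf_le_left : W ⊓ f ⁻¹ᵁ V ≤ W)).op
  have h1 := ConcreteCategory.congr_hom nat t
  rw [ConcreteCategory.comp_apply, ConcreteCategory.comp_apply, ht, map_zero] at h1
  have h2 := congrArg ((pullback V.ι f).presheaf.map (homOfLE hle).op) h1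
  rw [map_zero, ← ConcreteCategory.comp_apply, ← Functor.map_comp] at h2
  have h3 : ((Opens.map (pullback.snd V.ι f).base).map
      (homOfLE (inf_le_left : W ⊓ f ⁻¹ᵁ V ≤ W)).op.unop).op ≫ (homOfLE hle).op = 𝟙 _ :=
    Subsingleton.elim _ _
  rw [h3, CategoryTheory.Functor.map_id] at h2
  exact h2.symm

end Groth.Agent.Helper8.SchDenseFlat
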