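import Mathlib
import Groth.Agent.Helper8.Schl24
set_option autoImplicit false
universe u v

namespace Groth.Agent.Helper8.Schl
open ArtFun ArtFun.Art IsLocalRing CategoryTheory Groth.Agent.Helper6 MvPowerSeries

variable {Λ : Type u} {k : Type u} [CommRing Λ] [Field k] [Algebra Λ k]

theorem s12748 [IsNoetherianRing Λ] [Module.Finite Λ k]
    (R' R : ArtFun.CRing Λ k) [Algebra R'.carrier R.carrier] [IsScalarTower Λ R'.carrier R.carrier]
    (hc : R.res.comp (IsScalarTower.toAlgHom Λ R'.carrier R.carrier) = R'.res)
    (ρ : R.carrier →ₐ[R'.carrier] R'.carrier)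
    (r : ℕ) (x : Fin r → R.carrier) (hxI : ∀ i, ρ (x i) = 0)
    (hspan : Ideal.span (Set.range x) ⊔ IsLocalRing.maximalIdeal R.carrier * RingHom.ker ρ = RingHom.ker ρ)
    (φ : MvPowerSeries (Fin r) R'.carrier →ₐ[R'.carrier] R.carrier) (hφ : ∀ i, φ (MvPowerSeries.X i) = x i)
    (hinv : ∃ N : ℕ, ∀ n, N ≤ n →
      ∃ g : R.carrier →ₐ[Λ] (MvPowerSeries (Fin r) R'.carrier ⧸
          IsLocalRing.maximalIdeal (MvPowerSeries (Fin r) R'.carrier) ^ n),
        ∀ s, g (φ s) = Ideal.Quotient.mk _ s) :
    Function.Bijective φ := by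
  have hc' : ∀ a : R'.carrier, R.res (algebraMap R'.carrier R.carrier a) = R'.res a :=
    fun a => congrArg (fun t : R'.carrier →ₐ[Λ] k => t a) hc
  have hρalg : ∀ a : R'.carrier, ρ (algebraMap R'.carrier R.carrier a) = a := fun a => by
    rw [ρ.commutes]; rfl
  -- the kernel of the retraction lies in the maximal ideal
  have hker : ∀ z : R.carrier, ρ z = 0 → z ∈ maximalIdeal R.carrier := by
    intro z hz
    let τ : R.carrier →+* k := (R'.res : R'.carrier →+* k).comp (ρ : R.carrier →+* R'.carrier)
    have hτ : Function.Surjective τ := by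
      intro c
      obtain ⟨a, ha⟩ := R'.res_surjective c
      exact ⟨algebraMap R'.carrier R.carrier a, by
        change R'.res (ρ (algebraMap R'.carrier R.carrier a)) = c
        rw [hρalg, ha]⟩
    have hmax : (RingHom.ker τ).IsMaximal := RingHom.ker_isMaximal_of_surjective τ hτ
    rw [← IsLocalRing.eq_maximalIdeal hmax, RingHom.mem_ker]
    change R'.res (ρ z) = 0
    rw [hz, map_zero]
  have hres1 : ∀ y : R.carrier, R.res y = R'.res (ρ y) := by
    intro y
    have hz : y - algebraMap R'.carrier R.carrier (ρ y) ∈ maximalIdeal R.carrier :=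
      hker _ (by rw [map_sub, hρalg, sub_self])
    have h1 := (CRing.mem_maximalIdeal_iff R _).1 hz
    rw [map_sub, hc', sub_eq_zero] at h1
    exact h1
  -- the retraction composed with `φ` is the constant coefficient
  have hρφ : ∀ s : MvPowerSeries (Fin r) R'.carrier, ρ (φ s) = constantCoeff s := by
    intro s
    have h1 : s - C (constantCoeff s) ∈
        Ideal.span (Set.range (X : Fin r → MvPowerSeries (Fin r) R'.carrier)) := by
      apply Groth.Agent.Helper5.MvPSIdeal.mem_span_X
      rw [map_sub, constantCoeff_C, sub_self]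
    have h2 : Ideal.span (Set.range (X : Fin r → MvPowerSeries (Fin r) R'.carrier)) ≤
        Ideal.comap (φ : MvPowerSeries (Fin r) R'.carrier →+* R.carrier) (RingHom.ker ρ) := by
      rw [Ideal.span_le]
      rintro _ ⟨i, rfl⟩
      change ρ (φ (X i)) = 0
      rw [hφ, hxI]
    have h3 : ρ (φ (s - C (constantCoeff s))) = 0 := h2 h1
    have h4 : φ (C (constantCoeff s)) = algebraMap R'.carrier R.carrier (constantCoeff s) := by
      rw [c_eq_algebraMap, φ.commutes]
    rw [map_sub, map_sub, sub_eq_zero, h4, hρalg] at h3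
    exact h3
  have hres : R.res.comp (φ.restrictScalars Λ) = (psCRing R' r).res := by
    apply AlgHom.ext
    intro s
    change R.res (φ s) = R'.res (constantCoeff s)
    rw [hres1, hρφ]
  constructor
  · -- injectivity
    rw [injective_iff_map_eq_zero]
    intro s hs
    obtain ⟨N, hN⟩ := hinv
    have hmem : ∀ n, s ∈ maximalIdeal (MvPowerSeries (Fin r) R'.carrier) ^ n := by
      intro n
      obtain ⟨g, hg⟩ := hN (max n N) (le_max_right _ _)
      have h1 := hg s
      rw [hs, map_zero] at h1
      exact Ideal.pow_le_pow_right (le_max_left n N) (Ideal.Quotient.eq_zero_iff_mem.1 h1.symm)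
    haveI : IsNoetherianRing (MvPowerSeries (Fin r) R'.carrier) := (psCRing R' r).isNoetherianRing
    have hK := Ideal.iInf_pow_eq_bot_of_isLocalRing
      (maximalIdeal (MvPowerSeries (Fin r) R'.carrier)) Ideal.IsPrime.ne_top'
    have : s ∈ ⨅ n, maximalIdeal (MvPowerSeries (Fin r) R'.carrier) ^ n := by
      rw [Ideal.mem_iInf]
      exact hmem
    rw [hK] at this
    exact this
  · -- surjectivity
    have hsurj := CRing.surjective_of_map_maximalIdeal_sup_sq (R := psCRing R' r) (S := R)
      (φ.restrictScalars Λ) hres ?_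
    · exact hsurj
    apply le_antisymm
    · exact sup_le (CRing.map_maximalIdeal_le (R := psCRing R' r) (S := R) _ hres)
        (Ideal.pow_le_self two_ne_zero)
    · intro y hy
      have hρy : ρ y ∈ maximalIdeal R'.carrier := by
        rw [CRing.mem_maximalIdeal_iff, ← hres1]
        exact (CRing.mem_maximalIdeal_iff R y).1 hy
      have hz : ρ (y - algebraMap R'.carrier R.carrier (ρ y)) = 0 := by
        rw [map_sub, hρalg, sub_self]
      have h1 : algebraMap R'.carrier R.carrier (ρ y) ∈
          Ideal.map (φ.restrictScalars Λ) (maximalIdeal (psCRing R' r).carrier) := by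
        have : algebraMap R'.carrier R.carrier (ρ y) = φ (C (ρ y)) := by
          rw [c_eq_algebraMap, φ.commutes]
        rw [this]
        exact Ideal.mem_map_of_mem _ (ps_C_mem_maximalIdeal R' r hρy)
      have h2 : RingHom.ker ρ ≤ Ideal.map (φ.restrictScalars Λ) (maximalIdeal (psCRing R' r).carrier) ⊔
          maximalIdeal R.carrier ^ 2 := by
        rw [← hspan]
        apply sup_le_sup
        · rw [Ideal.span_le]
          rintro _ ⟨i, rfl⟩
          rw [← hφ]
          exact Ideal.mem_map_of_mem _ (ps_X_mem_maximalIdeal R' r i)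
        · rw [pow_two]
          exact Ideal.mul_mono_right (fun z hz => hker z hz)
      have : y = algebraMap R'.carrier R.carrier (ρ y) + (y - algebraMap R'.carrier R.carrier (ρ y)) := by
        ring
      rw [this]
      exact Ideal.add_mem _ (Ideal.mem_sup_left h1) (h2 hz)

end Groth.Agent.Helper8.Schl
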