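import Mathlib
import Groth.Agent.Helper8.Schl10
import Groth.Prelude.Def_ArtFun3
set_option autoImplicit false
universe u v

namespace Groth.Agent.Helper8.Schl
open ArtFun ArtFun.Art IsLocalRing CategoryTheory Groth.Agent.Helper6
open scoped TensorProduct

section
variable {Λ : Type u} {k : Type u} [CommRing Λ] [Field k] [Algebra Λ k]

/-- smoothness of a morphism of functors can be tested on small extensions -/
theorem isSmooth_of_smallExt {F G : Art Λ k ⥤ Type v} (φ : F ⟶ G)
    (h : ∀ ⦃A B : Art Λ k⦄ (p : B ⟶ A), IsSmallExt p → Function.Surjective (relCmp φ p)) :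
    IsSmooth φ := by
  intro B A μ hμ
  refine surjective_induction_smallExt (fun A B p => Function.Surjective (relCmp φ p)) ?_ h ?_ μ hμ
  · rintro A B e he ⟨⟨x, y⟩, hxy⟩
    haveI := he
    have hxy' : φ.app A x = G.map e y := hxy
    refine ⟨F.map (inv e) x, ?_⟩
    apply Subtype.ext
    apply Prod.ext
    · change F.map e (F.map (inv e) x) = x
      rw [← Functor.map_comp_apply, IsIso.inv_hom_id, Functor.map_id_apply]
    · change φ.app B (F.map (inv e) x) = y
      rw [NatTrans.naturality_apply φ (inv e) x, hxy', ← Functor.map_comp_apply, IsIso.hom_inv_id,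
        Functor.map_id_apply]
  · rintro A B C p q hp hq ⟨⟨x, y⟩, hxy⟩
    have hxy' : φ.app A x = G.map (p ≫ q) y := hxy
    obtain ⟨zB, hzB⟩ := hq ⟨(x, G.map p y), by
      change φ.app A x = G.map q (G.map p y)
      rw [hxy', Functor.map_comp_apply]⟩
    have hzB1 : F.map q zB = x := congrArg (fun t : RelFib φ q => t.1.1) hzB
    have hzB2 : φ.app B zB = G.map p y := congrArg (fun t : RelFib φ q => t.1.2) hzB
    obtain ⟨zC, hzC⟩ := hp ⟨(zB, y), hzB2⟩
    have hzC1 : F.map p zC = zB := congrArg (fun t : RelFib φ p => t.1.1) hzC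
    have hzC2 : φ.app C zC = y := congrArg (fun t : RelFib φ p => t.1.2) hzC
    refine ⟨zC, ?_⟩
    apply Subtype.ext
    apply Prod.ext
    · change F.map (p ≫ q) zC = x
      rw [Functor.map_comp_apply, hzC1, hzB1]
    · exact hzC2

end

theorem s18798 {k : Type u} [Field k]
    {F G : ArtFun.Art k k ⥤ Type v} (φ : F ⟶ G)
    (hF0 : ArtFun.H0 F) (hFrs : (∀ ⦃B A A' A'' : ArtFun.Art k k⦄ (p' : B ⟶ A') (p'' : B ⟶ A'') (f' : A' ⟶ A) (f'' : A'' ⟶ A)
        (h : ArtFun.Art.IsFibreProd p' p'' f' f''), Function.Surjective f'' → Function.Bijective (ArtFun.cmp F h)))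
    (hGrs : (∀ ⦃B A A' A'' : ArtFun.Art k k⦄ (p' : B ⟶ A') (p'' : B ⟶ A'') (f' : A' ⟶ A) (f'' : A'' ⟶ A)
        (h : ArtFun.Art.IsFibreProd p' p'' f' f''), Function.Surjective f'' → Function.Bijective (ArtFun.cmp G h)))
    {V W : Type u} [AddCommGroup V] [Module k V] [AddCommGroup W] [Module k W]
    (oF : ArtFun.ObsTheory F V) (oG : ArtFun.ObsTheory G W)
    (γ : V →ₗ[k] W) (hγ : Function.Injective γ)
    (hcompat : ∀ ⦃C' C : ArtFun.Art k k⦄ (p : C' ⟶ C) (hp : ArtFun.Art.IsSmallExt p) (x : F.obj C),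
      oG.obs p hp.isSemismallExt (φ.app C x) = LinearMap.rTensor _ γ (oF.obs p hp.isSemismallExt x))
    (hT : Function.Surjective (ArtFun.TangentSpace.map φ)) :
    ArtFun.IsSmooth φ := by
  apply isSmooth_of_smallExt
  rintro C C' p hp ⟨⟨x, y'⟩, hxy⟩
  have hxy' : φ.app C x = G.map p y' := hxy
  -- the obstruction vanishes
  have h1 : oG.obs p hp.isSemismallExt (φ.app C x) = 0 :=
    (oG.obs_eq_zero_iff p _ _).2 ⟨y', hxy'.symm⟩
  rw [hcompat p hp x] at h1
  have hinj : Function.Injective (LinearMap.rTensor (↥(RingHom.ker p.toAlgHom)) γ) :=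
    Module.Flat.rTensor_preserves_injective_linearMap γ hγ
  have h2 : oF.obs p hp.isSemismallExt x = 0 := hinj (by rw [h1, map_zero])
  obtain ⟨x', hx'⟩ := (oF.obs_eq_zero_iff p _ x).1 h2
  obtain ⟨D, pr₁, pr₂, α, hD1, hD2, hα⟩ := exists_torsor_square p hp
  have hbase : Function.Surjective (toBase (dual k k)) := dual_toBase_surjective
  -- the difference of the two lifts in `G`
  obtain ⟨w, hw⟩ := (hGrs pr₁ α p p hD2 hp.1).2 ⟨(φ.app C' x', y'), by
    change G.map p (φ.app C' x') = G.map p y'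
    rw [← NatTrans.naturality_apply φ p x', hx', hxy']⟩
  have hw1 : G.map pr₁ w = φ.app C' x' := congrArg (fun t : FibProd G p p => t.1.1) hw
  have hw2 : G.map α w = y' := congrArg (fun t : FibProd G p p => t.1.2) hw
  obtain ⟨u, hu⟩ := hT (G.map pr₂ w)
  have hu' : φ.app (dual k k) u = G.map pr₂ w := hu
  -- translate `x'` by the tangent vector `u`
  obtain ⟨wF, hwF⟩ := (hFrs pr₁ pr₂ (toBase C') (toBase (dual k k)) hD1 hbase).2 ⟨(x', u),
    hF0.2.elim _ _⟩
  have hwF1 : F.map pr₁ wF = x' := congrArg (fun t : FibProd F (toBase C') (toBase (dual k k)) => t.1.1) hwF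
  have hwF2 : F.map pr₂ wF = u := congrArg (fun t : FibProd F (toBase C') (toBase (dual k k)) => t.1.2) hwF
  have hww : φ.app D wF = w := by
    apply (hGrs pr₁ pr₂ (toBase C') (toBase (dual k k)) hD1 hbase).1
    apply Subtype.ext
    apply Prod.ext
    · change G.map pr₁ (φ.app D wF) = G.map pr₁ w
      rw [← NatTrans.naturality_apply φ pr₁ wF, hwF1, hw1]
    · change G.map pr₂ (φ.app D wF) = G.map pr₂ w
      rw [← NatTrans.naturality_apply φ pr₂ wF, hwF2, hu']
  refine ⟨F.map α wF, ?_⟩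
  apply Subtype.ext
  apply Prod.ext
  · change F.map p (F.map α wF) = x
    rw [← Functor.map_comp_apply, ← hD2.w, Functor.map_comp_apply, hwF1, hx']
  · change φ.app C' (F.map α wF) = y'
    rw [NatTrans.naturality_apply φ α wF, hww, hw2]

end Groth.Agent.Helper8.Schl
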