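import Groth.Agent.Helper8.CMGlue
import Groth.Agent.Helper8.Cell5

/-!
# Schubert varieties are arithmetically Cohen–Macaulay

The induction of Hodge / Musili / De Concini–Lakshmibai: the cone over `X(τ)` is Cohen–Macaulay, and so are
the cones over unions of Schubert divisors of `X(τ)`.  The local statements (at the vertex) are proved by
induction using the gluing lemmas of `CMGlue`; the global ones follow from `GrLG`.
-/

set_option autoImplicit false

universe u

open MvPolynomial W4bk4grassmannian IsLocalRing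

namespace Groth.Agent.Helper8.SchubCM

/-! ### Generalities on the polynomial ring -/

section poly

variable {K : Type u} [Field K] {σ : Type*}

theorem ker_constantCoeff_le :
    RingHom.ker (constantCoeff : MvPolynomial σ K →+* K) ≤
      Ideal.span (Set.range (X : σ → MvPolynomial σ K)) := by
  classical
  intro f hf
  rw [RingHom.mem_ker, constantCoeff_eq] at hf
  rw [← MvPolynomial.support_sum_monomial_coeff f]
  refine Ideal.sum_mem _ fun s hs => ?_
  have hs0 : s ≠ 0 := by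
    rintro rfl
    rw [mem_support_iff] at hs
    exact hs hf
  obtain ⟨i, hi⟩ : ∃ i, s i ≠ 0 := by
    by_contra hcon
    push Not at hcon
    exact hs0 (Finsupp.ext hcon)
  have hdvd : (X i : MvPolynomial σ K) ∣ monomial s (coeff s f) := X_dvd_monomial.mpr (Or.inr hi)
  have h1 : monomial s (coeff s f) ∈ Ideal.span {(X i : MvPolynomial σ K)} :=
    Ideal.mem_span_singleton.mpr hdvd
  exact Ideal.span_mono (Set.singleton_subset_iff.mpr (Set.mem_range_self i)) h1

end poly

/-! ### Combinatorics -/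

section comb

variable {d n : ℕ}

lemma le_inf_iff (θ φ ψ : Idx d n) : θ ≤ inf φ ψ ↔ θ ≤ φ ∧ θ ≤ ψ := by
  constructor
  · intro h
    exact ⟨fun t => le_trans (h t) (min_le_left _ _), fun t => le_trans (h t) (min_le_right _ _)⟩
  · rintro ⟨h1, h2⟩ t
    exact le_min (h1 t) (h2 t)

lemma mem_divisors_of_single (ψ χ : Idx d n) (s : Fin d)
    (h1 : (χ.1 s).val + 1 = (ψ.1 s).val) (h2 : ∀ u, u ≠ s → χ.1 u = ψ.1 u) : χ ∈ divisors ψ := by
  refine ⟨lt_of_le_of_ne ?_ ?_, ?_⟩
  · intro u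
    by_cases hu : u = s
    · rw [hu, Fin.le_def]
      omega
    · show χ.1 u ≤ ψ.1 u
      rw [h2 u hu]
  · intro heq
    rw [heq] at h1
    omega
  · have e1 := Cell5.codeg_add χ
    have e2 := Cell5.codeg_add ψ
    have e3 : ∑ t : Fin d, (χ.1 t).val + 1 = ∑ t : Fin d, (ψ.1 t).val := by
      rw [← Finset.add_sum_erase _ _ (Finset.mem_univ s),
        ← Finset.add_sum_erase _ _ (Finset.mem_univ s)]
      have hrest : ∑ x ∈ Finset.univ.erase s, (χ.1 x).val =
          ∑ x ∈ Finset.univ.erase s, (ψ.1 x).val := by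
        refine Finset.sum_congr rfl fun x hx => ?_
        rw [h2 x (Finset.ne_of_mem_erase hx)]
      rw [hrest]
      omega
    omega

lemma inf_mem_divisors (τ φ ψ : Idx d n) (hφ : φ ∈ divisors τ) (hψ : ψ ∈ divisors τ)
    (hne : φ ≠ ψ) : inf φ ψ ∈ divisors ψ := by
  obtain ⟨s, hs1, hs2⟩ := Cell5.divisor_struct τ φ hφ
  obtain ⟨t, ht1, ht2⟩ := Cell5.divisor_struct τ ψ hψ
  have hst : s ≠ t := by
    intro hst
    apply hne
    apply Subtype.ext
    funext u
    by_cases hu : u = s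
    · rw [hu]
      apply Fin.ext
      have := ht1
      rw [← hst] at this
      omega
    · rw [hs2 u hu, ht2 u (by rw [← hst]; exact hu)]
  refine mem_divisors_of_single ψ (inf φ ψ) s ?_ ?_
  · show (min (φ.1 s) (ψ.1 s)).val + 1 = (ψ.1 s).val
    have h3 : ψ.1 s = τ.1 s := ht2 s hst
    have h4 : φ.1 s ≤ ψ.1 s := by
      rw [h3, Fin.le_def]
      omega
    rw [min_eq_left h4, h3]
    exact hs1
  · intro u hu
    show min (φ.1 u) (ψ.1 u) = ψ.1 u
    have h3 : φ.1 u = τ.1 u := hs2 u hu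
    have h4 : ψ.1 u ≤ φ.1 u := by
      rw [h3]
      exact hψ.1.le u
    exact min_eq_right h4

end comb

/-! ### The Schubert ideals -/

section ideals

variable (K : Type u) [Field K] [Infinite K] {d n : ℕ}

/-- The irrelevant ideal. -/
noncomputable abbrev M0 (d n : ℕ) : Ideal (PlRing K d n) :=
  RingHom.ker (constantCoeff : PlRing K d n →+* K)

instance M0_isPrime (d n : ℕ) : (M0 K d n).IsPrime := RingHom.ker_isPrime _

lemma ev0_eq (hd : 0 < d) : (SMT10.ev0 K d n).toRingHom = (constantCoeff : PlRing K d n →+* K) := by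
  apply MvPolynomial.ringHom_ext
  · intro c
    show SMT10.ev0 K d n (C c) = constantCoeff (C c)
    rw [constantCoeff_C]
    exact (SMT10.ev0 K d n).commutes c
  · intro θ
    show SMT10.ev0 K d n (X θ) = constantCoeff (X θ)
    rw [constantCoeff_X, SMT10.ev0_X K hd]

lemma J_le_M0 (hd : 0 < d) (w : Idx d n) : schubertVanishing K d n w ≤ M0 K d n := by
  have h := SMT10.J_le_ker_ev0 K hd w
  rw [ev0_eq K hd] at h
  exact h

lemma X_mem_M0 (θ : Idx d n) : (X θ : PlRing K d n) ∈ M0 K d n := by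
  rw [RingHom.mem_ker, constantCoeff_X]

lemma prod_dg (hd : 0 < d) (l : K) : ∏ t : Fin d, (if t.val = 0 then l else 1) = l := by
  classical
  rw [Finset.prod_eq_single (⟨0, hd⟩ : Fin d)]
  · rw [if_pos rfl]
  · intro t _ ht
    rw [if_neg (fun h => ht (Fin.ext h))]
  · intro h
    exact absurd (Finset.mem_univ _) h

/-- The Schubert ideals are stable under the scalings. -/
theorem scale_mem_J (hd : 0 < d) (τ : Idx d n) (l : K) (f : PlRing K d n)
    (hf : f ∈ schubertVanishing K d n τ) : GrLG.scale l f ∈ schubertVanishing K d n τ := by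
  classical
  unfold schubertVanishing at hf ⊢
  rw [Ideal.mem_iInf] at hf ⊢
  intro A
  rw [Ideal.mem_iInf]
  intro hA
  rw [RingHom.mem_ker]
  show evalMinors K d n A (GrLG.scale l f) = 0
  obtain ⟨A', hA'⟩ : ∃ A' : Matrix (Fin n) (Fin d) K,
      A' = A * Matrix.diagonal (fun t : Fin d => if t.val = 0 then l else 1) := ⟨_, rfl⟩
  have hdet : ∀ r : Fin d → Fin n, (A'.submatrix r id).det = (A.submatrix r id).det * l := by
    intro r
    rw [hA']
    have h := Matrix.submatrix_mul A (Matrix.diagonal (fun t : Fin d => if t.val = 0 then l else 1))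
      r id (id : Fin d → Fin d) Function.bijective_id
    rw [h, Matrix.submatrix_id_id, Matrix.det_mul, Matrix.det_diagonal, prod_dg K hd]
  have hcomp : (evalMinors K d n A).comp (GrLG.scale l) = evalMinors K d n A' := by
    apply MvPolynomial.algHom_ext
    intro θ
    rw [AlgHom.comp_apply]
    unfold GrLG.scale evalMinors
    rw [aeval_X, map_mul, aeval_C, aeval_X, aeval_X, hdet, mul_comm]
    rfl
  have h1 := hf A'
  rw [Ideal.mem_iInf] at h1
  have h2 := h1 (fun φ hφ => by rw [hdet, hA φ hφ, zero_mul])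
  rw [RingHom.mem_ker] at h2
  rw [← AlgHom.comp_apply, hcomp]
  exact h2

lemma J_eq (hd : 0 < d) (ψ : Idx d n) : schubertVanishing K d n ψ =
    plIdealTop (d := d) (n := n) K ⊔
      Ideal.span {f : PlRing K d n | ∃ θ : Idx d n, ¬ θ ≤ ψ ∧ f = X θ} := by
  rw [← SMT4.s11250 K hd ψ]
  unfold plIdeal plIdealTop
  rw [Ideal.span_union]

lemma master_fin (hd : 0 < d) (D : Finset (Idx d n)) (hD : D.Nonempty) :
    (⨅ φ ∈ D, schubertVanishing K d n φ) =
      plIdealTop (d := d) (n := n) K ⊔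
        Ideal.span {f : PlRing K d n | ∃ θ : Idx d n, (∀ φ ∈ D, ¬ θ ≤ φ) ∧ f = X θ} := by
  have h := SMT4.master K hd (↑D : Set (Idx d n)) (by exact_mod_cast hD)
  simp only [Finset.mem_coe] at h
  exact h

theorem sup_eq (hd : 0 < d) (D : Finset (Idx d n)) (hD : D.Nonempty) (ψ : Idx d n) :
    (⨅ φ ∈ D, schubertVanishing K d n φ) ⊔ schubertVanishing K d n ψ =
      ⨅ χ ∈ D.image (fun φ => inf φ ψ), schubertVanishing K d n χ := by
  classical
  rw [master_fin K hd D hD, master_fin K hd _ (hD.image _), J_eq K hd ψ]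
  have hset : {f : PlRing K d n | ∃ θ : Idx d n,
      (∀ χ ∈ D.image (fun φ => inf φ ψ), ¬ θ ≤ χ) ∧ f = X θ} =
      {f : PlRing K d n | ∃ θ : Idx d n, (∀ φ ∈ D, ¬ θ ≤ φ) ∧ f = X θ} ∪
        {f : PlRing K d n | ∃ θ : Idx d n, ¬ θ ≤ ψ ∧ f = X θ} := by
    ext f
    constructor
    · rintro ⟨θ, hθ, rfl⟩
      by_cases h : θ ≤ ψ
      · left
        refine ⟨θ, fun φ hφ hle => ?_, rfl⟩
        exact hθ (inf φ ψ) (Finset.mem_image_of_mem _ hφ) ((le_inf_iff θ φ ψ).mpr ⟨hle, h⟩)
      · right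
        exact ⟨θ, h, rfl⟩
    · rintro (⟨θ, hθ, rfl⟩ | ⟨θ, hθ, rfl⟩)
      · refine ⟨θ, fun χ hχ hle => ?_, rfl⟩
        obtain ⟨φ, hφ, rfl⟩ := Finset.mem_image.mp hχ
        exact hθ φ hφ ((le_inf_iff θ φ ψ).mp hle).1
      · refine ⟨θ, fun χ hχ hle => ?_, rfl⟩
        obtain ⟨φ, hφ, rfl⟩ := Finset.mem_image.mp hχ
        exact hθ ((le_inf_iff θ φ ψ).mp hle).2
  rw [hset, Ideal.span_union, sup_sup_sup_comm, sup_idem]

theorem bottom_eq (hd : 0 < d) (hdn : d < n) :
    schubertVanishing K d n (SMT10.iota hdn) ⊔ Ideal.span {(X (SMT10.iota hdn) : PlRing K d n)} =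
      M0 K d n := by
  apply le_antisymm
  · refine sup_le (J_le_M0 K hd _) ?_
    rw [Ideal.span_le, Set.singleton_subset_iff]
    exact X_mem_M0 K _
  · refine le_trans ker_constantCoeff_le ?_
    rw [Ideal.span_le]
    rintro _ ⟨θ, rfl⟩
    by_cases h : θ = SMT10.iota hdn
    · rw [h]
      exact Ideal.mem_sup_right (Ideal.subset_span rfl)
    · refine Ideal.mem_sup_left (SMT4.X_mem_schubertVanishing K _ θ ?_)
      intro hle
      exact h (le_antisymm hle (SMT10.iota_le hdn θ))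

end ideals

/-! ### The induction at the vertex -/

section induction

variable (K : Type u) [Field K] [Infinite K] {d n : ℕ}

/-- The local ring of the affine space of Plücker coordinates at the origin. -/
abbrev Bv (d n : ℕ) : Type u := Localization.AtPrime (M0 K d n)

/-- The extension of an ideal to the local ring at the origin. -/
noncomputable def Ev (𝔞 : Ideal (PlRing K d n)) : Ideal (Bv K d n) :=
  𝔞.map (algebraMap (PlRing K d n) (Bv K d n))

lemma Ev_sup (𝔞 𝔟 : Ideal (PlRing K d n)) : Ev K (𝔞 ⊔ 𝔟) = Ev K 𝔞 ⊔ Ev K 𝔟 := Ideal.map_sup _ _ _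

lemma Ev_inf (𝔞 𝔟 : Ideal (PlRing K d n)) : Ev K (𝔞 ⊓ 𝔟) = Ev K 𝔞 ⊓ Ev K 𝔟 :=
  IsLocalization.map_inf (M0 K d n).primeCompl (Bv K d n) 𝔞 𝔟

lemma Ev_span (x : PlRing K d n) :
    Ev K (Ideal.span {x}) = Ideal.span {algebraMap (PlRing K d n) (Bv K d n) x} := by
  unfold Ev
  rw [Ideal.map_span, Set.image_singleton]

lemma Ev_M0 : Ev K (M0 K d n) = maximalIdeal (Bv K d n) :=
  Localization.AtPrime.map_eq_maximalIdeal

lemma disjoint_J (hd : 0 < d) (τ : Idx d n) :
    Disjoint ((M0 K d n).primeCompl : Set (PlRing K d n)) (schubertVanishing K d n τ) :=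
  Set.disjoint_left.mpr fun _ ha hJ => ha (J_le_M0 K hd τ hJ)

theorem cmq_J_of_sup (hd : 0 < d) (τ : Idx d n) (e : ℕ)
    (h : CMGlue.CMq (Ev K (schubertVanishing K d n τ ⊔ Ideal.span {(X τ : PlRing K d n)})) e) :
    CMGlue.CMq (Ev K (schubertVanishing K d n τ)) (e + 1) := by
  rw [Ev_sup, Ev_span] at h
  haveI hprime := SMT10.isPrime_J K hd τ
  have hP : (Ev K (schubertVanishing K d n τ)).IsPrime :=
    IsLocalization.isPrime_of_isPrime_disjoint (M0 K d n).primeCompl (Bv K d n) _ hprime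
      (disjoint_J K hd τ)
  have hx : algebraMap (PlRing K d n) (Bv K d n) (X τ) ∈ maximalIdeal (Bv K d n) :=
    (IsLocalization.AtPrime.to_map_mem_maximal_iff (Bv K d n) (M0 K d n) (X τ)).mpr (X_mem_M0 K τ)
  have hxn : algebraMap (PlRing K d n) (Bv K d n) (X τ) ∉ Ev K (schubertVanishing K d n τ) := by
    intro hmem
    have h1 : (X τ : PlRing K d n) ∈ (Ev K (schubertVanishing K d n τ)).under (PlRing K d n) := hmem
    unfold Ev at h1
    rw [IsLocalization.under_map_of_isPrime_disjoint (M0 K d n).primeCompl (Bv K d n) hprime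
      (disjoint_J K hd τ)] at h1
    exact SMT10.X_not_mem K τ τ le_rfl h1
  refine CMGlue.cmq_of_regular _ _ hx (fun y hy => ?_) e h
  exact (hP.mem_or_mem hy).resolve_left hxn

theorem main_ind (hd : 0 < d) (hdn : d < n) : ∀ (N : ℕ) (τ : Idx d n), codeg τ = N →
    CMGlue.CMq (Ev K (schubertVanishing K d n τ)) (N + 1) ∧
      ∀ D : Finset (Idx d n), D.Nonempty → (∀ φ ∈ D, φ ∈ divisors τ) →
        CMGlue.CMq (Ev K (⨅ φ ∈ D, schubertVanishing K d n φ)) N := by
  classical
  intro N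
  induction N using Nat.strong_induction_on with
  | _ N ih =>
  intro τ hτ
  have hB : ∀ D : Finset (Idx d n), D.Nonempty → (∀ φ ∈ D, φ ∈ divisors τ) →
      CMGlue.CMq (Ev K (⨅ φ ∈ D, schubertVanishing K d n φ)) N := by
    intro D hD
    induction hD using Finset.Nonempty.cons_induction with
    | singleton ψ =>
      intro hsub
      have hψ := hsub ψ (Finset.mem_singleton_self ψ)
      have hc : codeg ψ + 1 = N := by rw [← hτ]; exact hψ.2
      rw [Finset.iInf_singleton]
      have h1 := (ih (codeg ψ) (by omega) ψ rfl).1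
      rw [hc] at h1
      exact h1
    | cons ψ D' hnot hD' ihD =>
      intro hsub
      have hψ := hsub ψ (Finset.mem_cons_self ψ D')
      have hc : codeg ψ + 1 = N := by rw [← hτ]; exact hψ.2
      have hsub' : ∀ φ ∈ D', φ ∈ divisors τ := fun φ hφ =>
        hsub φ (Finset.mem_cons.mpr (Or.inr hφ))
      have h1 : CMGlue.CMq (Ev K (schubertVanishing K d n ψ)) N := by
        have h1 := (ih (codeg ψ) (by omega) ψ rfl).1
        rw [hc] at h1
        exact h1
      have h2 := ihD hsub'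
      have h3 : CMGlue.CMq (Ev K (schubertVanishing K d n ψ) ⊔
          Ev K (⨅ φ ∈ D', schubertVanishing K d n φ)) (N - 1) := by
        rw [← Ev_sup, sup_comm, sup_eq K hd D' hD' ψ]
        have h4 := (ih (codeg ψ) (by omega) ψ rfl).2 (D'.image (fun φ => inf φ ψ)) (hD'.image _)
          (fun χ hχ => by
            obtain ⟨φ, hφ, rfl⟩ := Finset.mem_image.mp hχ
            refine inf_mem_divisors τ φ ψ (hsub' φ hφ) hψ ?_
            rintro rfl
            exact hnot hφ)
        have hc' : codeg ψ = N - 1 := by omega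
        rw [hc'] at h4
        exact h4
      rw [Finset.cons_eq_insert, Finset.iInf_insert, Ev_inf]
      exact CMGlue.cmq_inf _ _ N (by omega) h1 h2 h3
  refine ⟨?_, hB⟩
  by_cases h : ∃ φ : Idx d n, φ < τ
  · apply cmq_J_of_sup K hd τ N
    rw [SMT4.s11254 K hd τ h]
    obtain ⟨φ₀, hφ₀⟩ := h
    obtain ⟨φ₁, hφ₁, -⟩ := Groth.Agent.S11268.result d n φ₀ τ hφ₀
    obtain ⟨D, hDdef⟩ : ∃ D : Finset (Idx d n), D = (Set.toFinite (divisors τ)).toFinset :=
      ⟨_, rfl⟩
    have hmem : ∀ φ, φ ∈ D ↔ φ ∈ divisors τ := by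
      intro φ
      rw [hDdef, Set.Finite.mem_toFinset]
    have heq : (⨅ φ ∈ divisors τ, schubertVanishing K d n φ) =
        ⨅ φ ∈ D, schubertVanishing K d n φ :=
      le_antisymm (le_iInf₂ fun φ hφ => iInf₂_le φ ((hmem φ).mp hφ))
        (le_iInf₂ fun φ hφ => iInf₂_le φ ((hmem φ).mpr hφ))
    rw [heq]
    exact hB D ⟨φ₁, (hmem φ₁).mpr hφ₁⟩ (fun φ hφ => (hmem φ).mp hφ)
  · have hτ' := Cell4.eq_iota_of_not_lt hdn τ h
    subst hτ'
    have hN : N = 0 := by rw [← hτ, SMT10.codeg_iota]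
    subst hN
    apply cmq_J_of_sup K hd _ 0
    rw [bottom_eq K hd hdn, Ev_M0]
    exact CMGlue.cmq_maximalIdeal

end induction

/-! ### The global statements -/

section global

variable (K : Type u) [Field K] [Infinite K] {d n : ℕ}

theorem cm_of_cmq (hd : 0 < d) (𝔞 : Ideal (PlRing K d n)) (h𝔞 : 𝔞 ≤ M0 K d n)
    (hst : ∀ l : K, l ≠ 0 → ∀ f ∈ 𝔞, GrLG.scale l f ∈ 𝔞) (e : ℕ)
    (h : CMGlue.CMq (Ev K 𝔞) e) : LocCoh.IsCohenMacaulayRing (PlRing K d n ⧸ 𝔞) := by
  haveI hm : ((M0 K d n).map (Ideal.Quotient.mk 𝔞)).IsPrime :=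
    Ideal.map_isPrime_of_surjective Ideal.Quotient.mk_surjective (by rw [Ideal.mk_ker]; exact h𝔞)
  have h1 := CMGlue.cmLocal_of_cmq (M0 K d n) 𝔞 h𝔞 e h
  exact GrLG.cm_of_cm_vertex K 𝔞 hst h1

theorem s11258 (hd : 0 < d) (hdn : d < n) (τ : Idx d n) :
    LocCoh.IsCohenMacaulayRing (PlRing K d n ⧸ schubertVanishing K d n τ) :=
  cm_of_cmq K hd _ (J_le_M0 K hd τ) (fun l _ f hf => scale_mem_J K hd τ l f hf) _
    (main_ind K hd hdn (codeg τ) τ rfl).1

theorem s11279 (hd : 0 < d) (hdn : d < n) (τ : Idx d n) (s : ℕ) (φ : Fin s → Idx d n)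
    (hφ : ∀ i, φ i ∈ divisors τ) :
    LocCoh.IsCohenMacaulayRing (PlRing K d n ⧸ ⨅ i, schubertVanishing K d n (φ i)) := by
  classical
  rcases Nat.eq_zero_or_pos s with hs | hs
  · subst hs
    have htop : (⨅ i : Fin 0, schubertVanishing K d n (φ i)) = ⊤ := iInf_of_empty _
    rw [htop]
    refine { isCohenMacaulayLocalRing_localization := fun p hp => ?_ }
    exfalso
    apply hp.ne_top
    rw [Ideal.eq_top_iff_one]
    have : (1 : PlRing K d n ⧸ (⊤ : Ideal (PlRing K d n))) = 0 := by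
      rw [← map_one (Ideal.Quotient.mk _), Ideal.Quotient.eq_zero_iff_mem]
      trivial
    rw [this]
    exact zero_mem _
  · obtain ⟨D, hD⟩ : ∃ D : Finset (Idx d n), D = Finset.univ.image φ := ⟨_, rfl⟩
    have hDne : D.Nonempty := by
      rw [hD]
      exact ⟨φ ⟨0, hs⟩, Finset.mem_image_of_mem _ (Finset.mem_univ _)⟩
    have heq : (⨅ i, schubertVanishing K d n (φ i)) = ⨅ χ ∈ D, schubertVanishing K d n χ := by
      apply le_antisymm
      · refine le_iInf₂ fun χ hχ => ?_
        rw [hD] at hχ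
        obtain ⟨i, -, rfl⟩ := Finset.mem_image.mp hχ
        exact iInf_le _ i
      · refine le_iInf fun i => ?_
        exact iInf₂_le (φ i) (by rw [hD]; exact Finset.mem_image_of_mem _ (Finset.mem_univ _))
    have hsub : ∀ χ ∈ D, χ ∈ divisors τ := by
      intro χ hχ
      rw [hD] at hχ
      obtain ⟨i, -, rfl⟩ := Finset.mem_image.mp hχ
      exact hφ i
    have h1 := (main_ind K hd hdn (codeg τ) τ rfl).2 D hDne hsub
    rw [← heq] at h1
    refine cm_of_cmq K hd _ ?_ ?_ _ h1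
    · exact le_trans (iInf_le _ ⟨0, hs⟩) (J_le_M0 K hd _)
    · intro l _ f hf
      rw [Ideal.mem_iInf] at hf ⊢
      intro i
      exact scale_mem_J K hd (φ i) l f (hf i)

end global

end Groth.Agent.Helper8.SchubCM
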