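import Mathlib

set_option autoImplicit false
universe u

namespace Groth.Agent.Helper8.SchubMinor

open Matrix

/-- Submatrix on the columns with index `≥ D`. -/
def colsGE {K : Type u} {n d : ℕ} (A : Matrix (Fin d) (Fin n) K) (D : ℕ) :
    Matrix (Fin d) {l : Fin n // D ≤ (l : ℕ)} K :=
  A.submatrix id Subtype.val

theorem forward (K : Type u) [Field K] (n d : ℕ) (V : ℕ → Submodule K (Fin n → K))
    (hV : ∀ (j : ℕ) (v : Fin n → K), v ∈ V j ↔ ∀ l : Fin n, j ≤ (l : ℕ) → v l = 0)
    (A : Matrix (Fin d) (Fin n) K) (D : ℕ) (i : Fin d)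
    (hL : (i : ℕ) + 1 ≤ Module.finrank K
      ↥(Submodule.span K (Set.range fun i : Fin d => A i) ⊓ V D))
    (J : Fin d → Fin n) (hJ : StrictMono J) (hi : D < (J i : ℕ) + 1) :
    (A.submatrix id J).det = 0 := by
  classical
  rw [← Matrix.exists_vecMul_eq_zero_iff]
  obtain ⟨φ, hφ⟩ : ∃ φ : ↥(Submodule.span K (Set.range fun i : Fin d => A i) ⊓ V D) →ₗ[K]
      (Fin (i : ℕ) → K), ∀ w k, φ w k = (w : Fin n → K) (J ⟨(k : ℕ), lt_trans k.2 i.2⟩) :=
    ⟨(LinearMap.funLeft K K (fun k : Fin (i : ℕ) => J ⟨(k : ℕ), lt_trans k.2 i.2⟩)).comp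
      (Submodule.subtype _), fun w k => rfl⟩
  have hlt : Module.finrank K (Fin (i : ℕ) → K) <
      Module.finrank K ↥(Submodule.span K (Set.range fun i : Fin d => A i) ⊓ V D) := by
    rw [Module.finrank_fin_fun]
    omega
  have hker := LinearMap.ker_ne_bot_of_finrank_lt (f := φ) hlt
  obtain ⟨w, hwker, hw0⟩ := (Submodule.ne_bot_iff _).mp hker
  obtain ⟨hwS, hwV⟩ := Submodule.mem_inf.mp w.2
  obtain ⟨c, hc⟩ := (Submodule.mem_span_range_iff_exists_fun K).mp hwS
  refine ⟨c, ?_, ?_⟩
  · rintro rfl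
    apply hw0
    apply Subtype.ext
    rw [← hc]
    simp
  · funext k
    have h1 : (c ᵥ* A.submatrix id J) k = (w : Fin n → K) (J k) := by
      rw [← hc, Finset.sum_apply]
      show ∑ r, c r * A.submatrix id J r k = ∑ r, (c r • A r) (J k)
      refine Finset.sum_congr rfl (fun r _ => ?_)
      simp only [Pi.smul_apply, smul_eq_mul, Matrix.submatrix_apply, id_eq]
    rw [h1]
    show (w : Fin n → K) (J k) = 0
    by_cases hk : (k : ℕ) < (i : ℕ)
    · have h2 : φ w ⟨(k : ℕ), hk⟩ = 0 :=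
        congrFun (LinearMap.mem_ker.mp hwker) ⟨(k : ℕ), hk⟩
      rw [hφ] at h2
      exact h2
    · have hik : i ≤ k := by
        rw [Fin.le_def]
        omega
      have h3 : J i ≤ J k := hJ.monotone hik
      have h4 : (J i : ℕ) ≤ (J k : ℕ) := h3
      exact (hV D (w : Fin n → K)).mp hwV (J k) (by omega)

theorem mulVec_transpose_eq (K : Type u) [Field K] (n d : ℕ) (A : Matrix (Fin d) (Fin n) K)
    (c : Fin d → K) : Aᵀ *ᵥ c = ∑ r, c r • A r := by
  funext l
  rw [Finset.sum_apply]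
  show ∑ r, Aᵀ l r * c r = ∑ r, (c r • A r) l
  refine Finset.sum_congr rfl (fun r _ => ?_)
  rw [Matrix.transpose_apply, Pi.smul_apply, smul_eq_mul, mul_comm]

theorem finrank_ker_le (K : Type u) [Field K] (n d : ℕ) (V : ℕ → Submodule K (Fin n → K))
    (hV : ∀ (j : ℕ) (v : Fin n → K), v ∈ V j ↔ ∀ l : Fin n, j ≤ (l : ℕ) → v l = 0)
    (A : Matrix (Fin d) (Fin n) K) (hA : LinearIndependent K (fun i : Fin d => A i)) (D : ℕ) :
    Module.finrank K ↥(LinearMap.ker (colsGE A D)ᵀ.mulVecLin) ≤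
    Module.finrank K ↥(Submodule.span K (Set.range fun i : Fin d => A i) ⊓ V D) := by
  classical
  have hinj : Function.Injective Aᵀ.mulVecLin := by
    rw [← LinearMap.ker_eq_bot, LinearMap.ker_eq_bot']
    intro c hc
    rw [Matrix.mulVecLin_apply, mulVec_transpose_eq] at hc
    exact funext (Fintype.linearIndependent_iff.mp hA c hc)
  have hle : Submodule.map Aᵀ.mulVecLin (LinearMap.ker (colsGE A D)ᵀ.mulVecLin) ≤
      Submodule.span K (Set.range fun i : Fin d => A i) ⊓ V D := by
    rintro _ ⟨c, hc, rfl⟩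
    rw [Matrix.mulVecLin_apply]
    refine Submodule.mem_inf.mpr ⟨?_, ?_⟩
    · rw [mulVec_transpose_eq]
      exact Submodule.sum_mem _
        (fun r _ => Submodule.smul_mem _ _ (Submodule.subset_span ⟨r, rfl⟩))
    · rw [hV]
      intro l hl
      have h2 : (colsGE A D)ᵀ.mulVecLin c = 0 := LinearMap.mem_ker.mp hc
      rw [Matrix.mulVecLin_apply] at h2
      have h1 : ((colsGE A D)ᵀ *ᵥ c) ⟨l, hl⟩ = 0 := by
        rw [h2, Pi.zero_apply]
      exact h1
  calc Module.finrank K ↥(LinearMap.ker (colsGE A D)ᵀ.mulVecLin)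
      = Module.finrank K
          ↥(Submodule.map Aᵀ.mulVecLin (LinearMap.ker (colsGE A D)ᵀ.mulVecLin)) :=
        LinearEquiv.finrank_eq (Submodule.equivMapOfInjective Aᵀ.mulVecLin hinj _)
    _ ≤ _ := Submodule.finrank_mono hle

theorem rank_bound (K : Type u) [Field K] (n d : ℕ) (A : Matrix (Fin d) (Fin n) K)
    (hA : LinearIndependent K (fun i : Fin d => A i)) (D : ℕ) (i : Fin d)
    (hR : ∀ J : Fin d → Fin n, StrictMono J → D < (J i : ℕ) + 1 →
      (A.submatrix id J).det = 0) :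
    (colsGE A D).rank + (i : ℕ) + 1 ≤ d := by
  classical
  by_contra hcon
  obtain ⟨v, hv⟩ : ∃ v : Fin n → (Fin d → K), v = fun l r => A r l := ⟨_, rfl⟩
  obtain ⟨t, ht⟩ : ∃ t : Set (Fin n), t = {l : Fin n | D ≤ (l : ℕ)} := ⟨_, rfl⟩
  obtain ⟨b1, hb1t, -, hb1span, hb1li⟩ :=
    exists_linearIndepOn_extension (K := K) (v := v) (s := ∅) (t := t)
      (linearIndepOn_empty K v) (Set.empty_subset t)
  obtain ⟨b2, -, hb12, hb2span, hb2li⟩ :=
    exists_linearIndepOn_extension (K := K) (v := v) (s := b1) (t := Set.univ)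
      hb1li (Set.subset_univ b1)
  have hb1li' : LinearIndependent K (fun x : ↥b1 => v x) := hb1li
  have hb2li' : LinearIndependent K (fun x : ↥b2 => v x) := hb2li
  have hvcol : v = A.col := hv.trans rfl
  -- cardinalities
  have hcard1 : Fintype.card ↥b1 = (colsGE A D).rank := by
    have hr : Set.range (colsGE A D).col = v '' t := by
      rw [hv, ht]
      ext w
      constructor
      · rintro ⟨⟨l, hl⟩, rfl⟩
        exact ⟨l, hl, rfl⟩
      · rintro ⟨l, hl, rfl⟩
        exact ⟨⟨l, hl⟩, rfl⟩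
    have hspan : Submodule.span K (Set.range fun x : ↥b1 => v x) =
        Submodule.span K (Set.range (colsGE A D).col) := by
      rw [← Set.image_eq_range v b1, hr]
      exact le_antisymm (Submodule.span_mono (Set.image_mono hb1t))
        (Submodule.span_le.mpr hb1span)
    rw [← finrank_span_eq_card hb1li', Matrix.rank_eq_finrank_span_cols, hspan]
  have hcard2 : Fintype.card ↥b2 = d := by
    have hr : Set.range A.col = v '' Set.univ := by
      rw [Set.image_univ, hvcol]
    have hspan : Submodule.span K (Set.range fun x : ↥b2 => v x) =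
        Submodule.span K (Set.range A.col) := by
      rw [← Set.image_eq_range v b2, hr]
      exact le_antisymm (Submodule.span_mono (Set.image_mono (Set.subset_univ b2)))
        (Submodule.span_le.mpr hb2span)
    have hrk : A.rank = Fintype.card (Fin d) := LinearIndependent.rank_matrix hA
    rw [← finrank_span_eq_card hb2li', hspan, ← Matrix.rank_eq_finrank_span_cols, hrk,
      Fintype.card_fin]
  have hb1f : b1.toFinset.card = (colsGE A D).rank := by
    rw [Set.toFinset_card]
    exact hcard1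
  have hb2f : b2.toFinset.card = d := by
    rw [Set.toFinset_card]
    exact hcard2
  obtain ⟨J, hJdef⟩ : ∃ J : Fin d ↪o Fin n, J = b2.toFinset.orderEmbOfFin hb2f := ⟨_, rfl⟩
  have hJmem : ∀ k, (J k) ∈ b2 := by
    intro k
    rw [hJdef]
    exact Set.mem_toFinset.mp (Finset.orderEmbOfFin_mem _ hb2f k)
  have hJinj : Function.Injective (fun k : Fin d => (⟨J k, hJmem k⟩ : ↥b2)) := by
    intro a b hab
    exact J.injective (congrArg Subtype.val hab)
  have hli : LinearIndependent K (fun k : Fin d => v (J k)) := hb2li'.comp _ hJinj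
  have hdet : (A.submatrix id J).det ≠ 0 := by
    have hu : IsUnit (A.submatrix id J) := by
      rw [← Matrix.linearIndependent_cols_iff_isUnit]
      rw [hv] at hli
      exact hli
    exact ((Matrix.isUnit_iff_isUnit_det _).mp hu).ne_zero
  apply hdet
  apply hR J J.strictMono
  by_contra hlt
  have hJi : ((J i : Fin n) : ℕ) < D := by omega
  obtain ⟨S, hS⟩ : ∃ S : Finset (Fin n), S = Finset.image J (Finset.Iic i) := ⟨_, rfl⟩
  have hScard : S.card = (i : ℕ) + 1 := by
    rw [hS, Finset.card_image_of_injective _ J.injective, Fin.card_Iic]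
  have hSb2 : S ⊆ b2.toFinset := by
    intro x hx
    rw [hS, Finset.mem_image] at hx
    obtain ⟨k, -, rfl⟩ := hx
    exact Set.mem_toFinset.mpr (hJmem k)
  have hb1b2 : b1.toFinset ⊆ b2.toFinset := Set.toFinset_subset_toFinset.mpr hb12
  have hdisj : Disjoint b1.toFinset S := by
    rw [Finset.disjoint_left]
    intro x hx1 hxS
    rw [hS, Finset.mem_image] at hxS
    obtain ⟨k, hk, rfl⟩ := hxS
    have hk' : k ≤ i := Finset.mem_Iic.mp hk
    have h1 : J k ≤ J i := J.monotone hk'
    have h2 : ((J k : Fin n) : ℕ) ≤ ((J i : Fin n) : ℕ) := h1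
    have h3 : J k ∈ t := hb1t (Set.mem_toFinset.mp hx1)
    rw [ht] at h3
    have h4 : D ≤ ((J k : Fin n) : ℕ) := h3
    omega
  have hle : (b1.toFinset ∪ S).card ≤ b2.toFinset.card :=
    Finset.card_le_card (Finset.union_subset hb1b2 hSb2)
  rw [Finset.card_union_of_disjoint hdisj, hb1f, hScard, hb2f] at hle
  omega

theorem backward (K : Type u) [Field K] (n d : ℕ) (V : ℕ → Submodule K (Fin n → K))
    (hV : ∀ (j : ℕ) (v : Fin n → K), v ∈ V j ↔ ∀ l : Fin n, j ≤ (l : ℕ) → v l = 0)
    (A : Matrix (Fin d) (Fin n) K) (hA : LinearIndependent K (fun i : Fin d => A i))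
    (D : ℕ) (i : Fin d)
    (hR : ∀ J : Fin d → Fin n, StrictMono J → D < (J i : ℕ) + 1 →
      (A.submatrix id J).det = 0) :
    (i : ℕ) + 1 ≤ Module.finrank K
      ↥(Submodule.span K (Set.range fun i : Fin d => A i) ⊓ V D) := by
  have h1 := finrank_ker_le K n d V hV A hA D
  have h2 := rank_bound K n d A hA D i hR
  have h3 := LinearMap.finrank_range_add_finrank_ker (colsGE A D)ᵀ.mulVecLin
  rw [Module.finrank_fin_fun] at h3
  have h4 : (colsGE A D)ᵀ.rank = (colsGE A D).rank := Matrix.rank_transpose _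
  have h5 : Module.finrank K ↥(LinearMap.range (colsGE A D)ᵀ.mulVecLin) =
      (colsGE A D)ᵀ.rank := rfl
  omega

theorem main (K : Type u) [Field K] (n d : ℕ)
    (hdn : d ≤ n) (V : ℕ → Submodule K (Fin n → K))
    (hV : ∀ (j : ℕ) (v : Fin n → K), v ∈ V j ↔ ∀ l : Fin n, j ≤ (l : ℕ) → v l = 0)
    (lam : Fin d → ℕ) (hlam : Antitone lam) (A : Matrix (Fin d) (Fin n) K)
    (hA : LinearIndependent K (fun i : Fin d => A i)) :
    (∀ i : Fin d, (i : ℕ) + 1 ≤
        Module.finrank K ↥(Submodule.span K (Set.range fun i : Fin d => A i) ⊓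
          V (n - d + ((i : ℕ) + 1) - lam i))) ↔
      ∀ J : Fin d → Fin n, StrictMono J →
        (∃ i : Fin d, n - d + ((i : ℕ) + 1) - lam i < (J i : ℕ) + 1) →
          (A.submatrix id J).det = 0 := by
  constructor
  · rintro hL J hJ ⟨i, hi⟩
    exact forward K n d V hV A _ i (hL i) J hJ hi
  · intro hR i
    exact backward K n d V hV A hA _ i (fun J hJ hJi => hR J hJ ⟨i, hJi⟩)

end Groth.Agent.Helper8.SchubMinor
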