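import Mathlib

set_option autoImplicit false
universe u

namespace Groth.Agent.Helper8.SecSpan
open MvPolynomial

noncomputable def degEquiv (d : ℕ) : {e : Fin 2 →₀ ℕ | e.degree = d} ≃ Fin (d + 1) where
  toFun e := ⟨e.1 0, by
    have h := e.2
    simp only [Set.mem_ofPred_eq, Finsupp.degree_eq_sum, Fin.sum_univ_two] at h
    omega⟩
  invFun i := ⟨Finsupp.single 0 i.1 + Finsupp.single 1 (d - i.1), by
    simp only [Set.mem_ofPred_eq, map_add, Finsupp.degree_single]
    omega⟩
  left_inv e := by
    have h := e.2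
    simp only [Set.mem_ofPred_eq, Finsupp.degree_eq_sum, Fin.sum_univ_two] at h
    apply Subtype.ext
    ext j
    fin_cases j
    · simp
    · simp; omega
  right_inv i := by
    apply Fin.ext
    simp

lemma finrank_homog (K : Type u) [Field K] (d : ℕ) :
    Module.finrank K (homogeneousSubmodule (Fin 2) K d) = d + 1 := by
  rw [homogeneousSubmodule_eq_finsupp_supported]
  have : Fintype {e : Fin 2 →₀ ℕ | e.degree = d} := Fintype.ofEquiv _ (degEquiv d).symm
  rw [LinearEquiv.finrank_eq (AddMonoidAlgebra.supportedEquivFinsupp _),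
    Module.finrank_finsupp_self, Fintype.card_congr (degEquiv d), Fintype.card_fin]

instance (K : Type u) [Field K] (d : ℕ) :
    FiniteDimensional K (homogeneousSubmodule (Fin 2) K d) :=
  Module.finite_of_finrank_pos (by rw [finrank_homog]; omega)

theorem main (K : Type u) [Field K] (n r k : ℕ)
    (hkn : k ≤ n) (hineq : (r + 1) * (n + 1) ≤ (r + 2) * k)
    (U : Submodule K (MvPolynomial (Fin 2) K))
    (hU : U ≤ MvPolynomial.homogeneousSubmodule (Fin 2) K n)
    (hcodim : Module.finrank K ↥U + (r + 1) = n + 1) :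
    ∃ g ∈ MvPolynomial.homogeneousSubmodule (Fin 2) K k, g ≠ 0 ∧
      ∀ h ∈ MvPolynomial.homogeneousSubmodule (Fin 2) K (n - k), g * h ∈ U := by
  set Hn := homogeneousSubmodule (Fin 2) K n with hHn
  set W := homogeneousSubmodule (Fin 2) K k with hW
  set Hm := homogeneousSubmodule (Fin 2) K (n - k) with hHm
  set U' : Submodule K Hn := U.comap Hn.subtype with hU'
  have hmul : ∀ (g : W) (h : Hm), g.1 * h.1 ∈ Hn := by
    intro g h
    have := (g.2 : IsHomogeneous g.1 k).mul (h.2 : IsHomogeneous h.1 (n - k))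
    rw [show k + (n - k) = n by omega] at this
    exact this
  let Φ : W →ₗ[K] Hm →ₗ[K] (Hn ⧸ U') :=
    LinearMap.mk₂ K (fun g h => Submodule.Quotient.mk ⟨g.1 * h.1, hmul g h⟩)
      (fun g₁ g₂ h => by
        rw [← Submodule.Quotient.mk_add]; congr 1; apply Subtype.ext
        simp [add_mul])
      (fun c g h => by
        rw [← Submodule.Quotient.mk_smul]; congr 1; apply Subtype.ext
        simp)
      (fun g h₁ h₂ => by
        rw [← Submodule.Quotient.mk_add]; congr 1; apply Subtype.ext
        simp [mul_add])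
      (fun c g h => by
        rw [← Submodule.Quotient.mk_smul]; congr 1; apply Subtype.ext
        simp)
  have hfU' : Module.finrank K U' = Module.finrank K U :=
    LinearEquiv.finrank_eq (Submodule.comapSubtypeEquivOfLe hU)
  have hq : Module.finrank K (Hn ⧸ U') = r + 1 := by
    have h1 := Submodule.finrank_quotient_add_finrank U'
    rw [hfU', finrank_homog] at h1
    omega
  have hT : Module.finrank K (Hm →ₗ[K] (Hn ⧸ U')) = (n - k + 1) * (r + 1) := by
    rw [Module.finrank_linearMap, finrank_homog, hq]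
  have hlt : Module.finrank K (Hm →ₗ[K] (Hn ⧸ U')) < Module.finrank K W := by
    rw [hT, finrank_homog]
    have e1 : (n - k + 1) * (r + 1) + (r + 1) * k = (r + 1) * (n + 1) := by
      have : n - k + k = n := Nat.sub_add_cancel hkn
      calc (n - k + 1) * (r + 1) + (r + 1) * k = (r + 1) * (n - k + k + 1) := by ring
        _ = (r + 1) * (n + 1) := by rw [this]
    nlinarith
  have hker := LinearMap.ker_ne_bot_of_finrank_lt (f := Φ) hlt
  obtain ⟨g, hgker, hg0⟩ := Submodule.exists_mem_ne_zero_of_ne_bot hker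
  refine ⟨g.1, g.2, fun h => hg0 (Subtype.ext h), fun h hh => ?_⟩
  have h1 : Φ g ⟨h, hh⟩ = 0 := by
    rw [LinearMap.mem_ker] at hgker
    rw [hgker]; rfl
  have h2 : (⟨g.1 * h, hmul g ⟨h, hh⟩⟩ : Hn) ∈ U' := by
    rw [← Submodule.Quotient.mk_eq_zero]
    exact h1
  exact h2

end Groth.Agent.Helper8.SecSpan
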