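import Mathlib

/-!
# Seidenberg's theorem: in characteristic zero derivations extend to the normalization

For a Noetherian algebra `A` over a field `k` of characteristic zero, every `k`-derivation of `A`
extends to the integral closure of `A` in its total ring of fractions.  The proof uses the ring
homomorphism `exp(tD) : A → A⟦t⟧`, its extension to the total ring of fractions, and the fact that
over a Noetherian ring almost integral elements are integral.
-/

set_option autoImplicit false

universe u

namespace Groth.Agent.Helper8.Seidenberg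

open Finset PowerSeries

section Leibniz

variable {k A : Type*} [CommRing k] [CommRing A] [Algebra k A]

/-- General Leibniz rule for iterates of a derivation. -/
theorem iterate_mul (D : Derivation k A A) (n : ℕ) (a b : A) :
    D^[n] (a * b) = ∑ ij ∈ antidiagonal n, n.choose ij.1 • (D^[ij.1] a * D^[ij.2] b) := by
  induction n with
  | zero => simp
  | succ n ih =>
    rw [sum_antidiagonal_choose_succ_nsmul (fun i j => D^[i] a * D^[j] b) n]
    simp only [Function.iterate_succ_apply', ih, map_sum, map_nsmul, Derivation.leibniz,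
      smul_eq_mul, smul_add, sum_add_distrib]
    congr 1
    refine sum_congr rfl fun ⟨i, j⟩ hij => ?_
    rw [n.choose_symm_of_eq_add (mem_antidiagonal.1 hij).symm, mul_comm]

theorem iterate_one (D : Derivation k A A) (n : ℕ) : D^[n + 1] (1 : A) = 0 := by
  rw [Function.iterate_succ_apply, Derivation.map_one_eq_zero]
  exact iterate_map_zero D n

theorem iterate_algebraMap (D : Derivation k A A) (n : ℕ) (c : k) :
    D^[n + 1] (algebraMap k A c) = 0 := by
  rw [Function.iterate_succ_apply, Derivation.map_algebraMap]
  exact iterate_map_zero D n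

end Leibniz

section Exp

variable {k : Type*} {A : Type*} [Field k] [CharZero k] [CommRing A] [Algebra k A]

/-- `exp(tD)` as a ring homomorphism `A → A⟦t⟧`. -/
noncomputable def expD (D : Derivation k A A) : A →+* PowerSeries A where
  toFun a := PowerSeries.mk fun m => ((m.factorial : k)⁻¹) • D^[m] a
  map_one' := by
    ext m
    rw [coeff_mk, coeff_one]
    rcases m with _ | m
    · simp
    · rw [iterate_one, smul_zero, if_neg (Nat.succ_ne_zero m)]
  map_mul' a b := by
    ext m
    rw [coeff_mk, coeff_mul, iterate_mul, smul_sum]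
    refine sum_congr rfl fun ⟨i, j⟩ hij => ?_
    rw [coeff_mk, coeff_mk]
    have hm : i + j = m := mem_antidiagonal.1 hij
    subst hm
    simp only
    rw [smul_mul_smul_comm, ← Nat.cast_smul_eq_nsmul k, smul_smul]
    congr 1
    have h1 := Nat.add_choose_mul_factorial_mul_factorial i j
    have h2 : ((i + j).choose i : k) * (i.factorial : k) * (j.factorial : k) =
        ((i + j).factorial : k) := by
      rw [← Nat.choose_symm_add (a := i) (b := j)] at h1
      exact_mod_cast h1
    have hi : (i.factorial : k) ≠ 0 := Nat.cast_ne_zero.mpr (Nat.factorial_ne_zero i)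
    have hj : (j.factorial : k) ≠ 0 := Nat.cast_ne_zero.mpr (Nat.factorial_ne_zero j)
    have hij' : ((i + j).factorial : k) ≠ 0 := Nat.cast_ne_zero.mpr (Nat.factorial_ne_zero _)
    field_simp
    linear_combination h2
  map_zero' := by
    ext m
    rw [coeff_mk, iterate_map_zero D m, smul_zero]
    exact (map_zero (coeff m)).symm
  map_add' a b := by
    ext m
    rw [coeff_mk, map_add, coeff_mk, coeff_mk, iterate_map_add, smul_add]

theorem coeff_expD (D : Derivation k A A) (m : ℕ) (a : A) :
    coeff m (expD D a) = ((m.factorial : k)⁻¹) • D^[m] a := by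
  change coeff m (PowerSeries.mk fun m => ((m.factorial : k)⁻¹) • D^[m] a) = _
  rw [coeff_mk]

theorem coeff_zero_expD (D : Derivation k A A) (a : A) : coeff 0 (expD D a) = a := by
  rw [coeff_expD]; simp

theorem coeff_one_expD (D : Derivation k A A) (a : A) : coeff 1 (expD D a) = D a := by
  rw [coeff_expD]; simp

theorem expD_algebraMap (D : Derivation k A A) (c : k) :
    expD D (algebraMap k A c) = C (algebraMap k A c) := by
  ext m
  rw [coeff_expD, coeff_C]
  rcases m with _ | m
  · simp
  · rw [iterate_algebraMap, smul_zero, if_neg (Nat.succ_ne_zero m)]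

end Exp

section Frac

variable {k : Type u} {A : Type u} [Field k] [CharZero k] [CommRing A] [Algebra k A]
  (D : Derivation k A A)

local notation "Q" => FractionRing A

/-- The composite `A → A⟦t⟧ → Q⟦t⟧`. -/
noncomputable def expA : A →+* PowerSeries Q :=
  (PowerSeries.map (algebraMap A Q)).comp (expD D)

theorem isUnit_expA (s : nonZeroDivisors A) : IsUnit (expA D s) := by
  rw [PowerSeries.isUnit_iff_constantCoeff]
  have : constantCoeff (expA D s) = algebraMap A Q s := by
    rw [expA, RingHom.comp_apply, ← coeff_zero_eq_constantCoeff_apply, coeff_map, coeff_zero_expD]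
  rw [this]
  exact IsLocalization.map_units Q s

/-- `exp(tD)` extended to the total ring of fractions. -/
noncomputable def expQ : Q →+* PowerSeries Q :=
  IsLocalization.lift (M := nonZeroDivisors A) (g := expA D) (isUnit_expA D)

theorem expQ_algebraMap (a : A) :
    expQ D (algebraMap A Q a) = PowerSeries.map (algebraMap A Q) (expD D a) := by
  rw [expQ, IsLocalization.lift_eq]; rfl

theorem constantCoeff_expQ (q : Q) : constantCoeff (expQ D q) = q := by
  have h : (constantCoeff (R := Q)).comp (expQ D) = RingHom.id Q := by
    apply IsLocalization.ringHom_ext (nonZeroDivisors A)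
    ext a
    rw [RingHom.comp_apply, RingHom.comp_apply, expQ_algebraMap,
      ← coeff_zero_eq_constantCoeff_apply, coeff_map, coeff_zero_expD]
    rfl
  exact congrArg (fun f : Q →+* Q => f q) h

theorem expQ_algebraMap_k (c : k) : expQ D (algebraMap k Q c) = C (algebraMap k Q c) := by
  rw [IsScalarTower.algebraMap_apply k A Q, expQ_algebraMap, expD_algebraMap, PowerSeries.map_C]

/-- The extended derivation as a function. -/
noncomputable def dQ (q : Q) : Q := coeff 1 (expQ D q)

theorem dQ_algebraMap (a : A) : dQ D (algebraMap A Q a) = algebraMap A Q (D a) := by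
  rw [dQ, expQ_algebraMap, coeff_map, coeff_one_expD]

theorem dQ_add (x y : Q) : dQ D (x + y) = dQ D x + dQ D y := by
  rw [dQ, map_add, map_add]; rfl

theorem dQ_mul (x y : Q) : dQ D (x * y) = x * dQ D y + y * dQ D x := by
  rw [dQ, map_mul, coeff_mul]
  have hanti : antidiagonal 1 = {(0, 1), (1, 0)} := by decide
  rw [hanti, Finset.sum_pair (by decide)]
  rw [coeff_zero_eq_constantCoeff_apply, coeff_zero_eq_constantCoeff_apply, constantCoeff_expQ,
    constantCoeff_expQ]
  rw [dQ, dQ]
  ring

theorem dQ_smul (c : k) (x : Q) : dQ D (c • x) = c • dQ D x := by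
  rw [Algebra.smul_def, dQ, map_mul, expQ_algebraMap_k, coeff_C_mul, Algebra.smul_def]
  rfl

/-- Key identity: the `n`-th coefficient of `E(d) (E(x) - x)^n` is `d (Dx)^n`. -/
theorem coeff_key (d x : Q) (n : ℕ) :
    coeff n (expQ D d * (expQ D x - C x) ^ n) = d * dQ D x ^ n := by
  set g : PowerSeries Q := PowerSeries.mk fun p => coeff (p + 1) (expQ D x) with hg
  have h1 : expQ D x - C x = X * g := by
    have := eq_X_mul_shift_add_const (expQ D x)
    rw [constantCoeff_expQ] at this
    rw [sub_eq_iff_eq_add]
    exact this
  rw [h1, mul_pow, ← mul_assoc, mul_comm (expQ D d), mul_assoc, coeff_X_pow_mul', if_pos le_rfl,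
    Nat.sub_self, coeff_zero_eq_constantCoeff_apply, map_mul, map_pow, constantCoeff_expQ]
  congr 2

end Frac

section Integral

variable {k : Type u} {A : Type u} [Field k] [CharZero k] [CommRing A] [Algebra k A]
  (D : Derivation k A A)

local notation "Q" => FractionRing A

/-- Coefficients of `expQ` of elements of `A` lie in `A`. -/
theorem coeff_expQ_mem (a : A) (n : ℕ) : coeff n (expQ D (algebraMap A Q a)) ∈ (algebraMap A Q).range := by
  rw [expQ_algebraMap, coeff_map]
  exact ⟨_, rfl⟩

/-- A common denominator for all powers of an integral element. -/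
theorem exists_denominator (x : Q) (hx : IsIntegral A x) :
    ∃ d : nonZeroDivisors A, ∀ j : ℕ, algebraMap A Q d * x ^ j ∈ (algebraMap A Q).range := by
  classical
  obtain ⟨T, hT⟩ := hx.fg_adjoin_singleton
  obtain ⟨b, hb⟩ := IsLocalization.exist_integer_multiples_of_finset (nonZeroDivisors A) T
  refine ⟨b, fun j => ?_⟩
  have hmem : x ^ j ∈ Submodule.span A (T : Set Q) := by
    rw [hT]
    exact pow_mem (Algebra.subset_adjoin (Set.mem_singleton x)) j
  have key : ∀ z ∈ Submodule.span A (T : Set Q), algebraMap A Q b * z ∈ (algebraMap A Q).range := by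
    intro z hz
    induction hz using Submodule.span_induction with
    | mem z hz =>
      obtain ⟨a, ha⟩ := hb z hz
      exact ⟨a, by rw [ha, Algebra.smul_def]⟩
    | zero => exact ⟨0, by simp⟩
    | add z w _ _ hz hw =>
      rw [mul_add]
      exact add_mem hz hw
    | smul r z _ hz =>
      rw [Algebra.smul_def, mul_left_comm]
      exact mul_mem ⟨r, rfl⟩ hz
  exact key _ hmem

/-- `d² (Dx)^n ∈ A` for an integral `x` with denominator `d`. -/
theorem sq_mul_pow_mem (x : Q) (d : A)
    (hd : ∀ j : ℕ, algebraMap A Q d * x ^ j ∈ (algebraMap A Q).range) (n : ℕ) :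
    algebraMap A Q d * (algebraMap A Q d * dQ D x ^ n) ∈ (algebraMap A Q).range := by
  set ι := algebraMap A Q with hι
  rw [← coeff_key, ← coeff_C_mul, sub_pow, mul_sum, mul_sum, map_sum]
  refine sum_mem fun m _ => ?_
  obtain ⟨a₁, ha₁⟩ := hd m
  obtain ⟨a₂, ha₂⟩ := hd (n - m)
  have e1 : C (ι d) * (expQ D (ι d) * ((-1) ^ (m + n) * expQ D x ^ m * C x ^ (n - m) * (n.choose m : PowerSeries Q)))
      = C ((-1) ^ (m + n) * (n.choose m : Q) * ι a₂) * expQ D (ι a₁) := by
    rw [ha₁, ha₂, map_mul (expQ D), map_pow (expQ D)]
    simp only [map_mul, map_pow, map_neg, map_one, map_natCast]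
    ring
  rw [e1, coeff_C_mul]
  refine mul_mem (mul_mem (mul_mem ?_ ?_) ⟨a₂, rfl⟩) (coeff_expQ_mem D a₁ n)
  · exact pow_mem (neg_mem (one_mem _)) _
  · exact natCast_mem _ _

variable [IsNoetherianRing A]

/-- The extended derivation preserves integrality (Seidenberg). -/
theorem isIntegral_dQ (x : Q) (hx : IsIntegral A x) : IsIntegral A (dQ D x) := by
  obtain ⟨d, hd⟩ := exists_denominator x hx
  set y := dQ D x with hy
  set ι := algebraMap A Q with hι
  have hunit : IsUnit (ι d * ι d) := (IsLocalization.map_units Q d).mul (IsLocalization.map_units Q d)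
  let f : Q →ₗ[A] Q := LinearMap.mulLeft A (ι d * ι d)
  have hf : Function.Injective f := by
    intro a b hab
    exact hunit.mul_left_cancel hab
  have hmap : Submodule.map f (Subalgebra.toSubmodule (Algebra.adjoin A {y})) ≤
      Subalgebra.toSubmodule (⊥ : Subalgebra A Q) := by
    rw [Algebra.adjoin_eq_span, Submodule.map_span, Submodule.span_le]
    rintro _ ⟨z, hz, rfl⟩
    rw [SetLike.mem_coe, Submonoid.mem_closure_singleton] at hz
    obtain ⟨n, rfl⟩ := hz
    have := sq_mul_pow_mem D x d hd n
    obtain ⟨a, ha⟩ := this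
    show f (y ^ n) ∈ (⊥ : Subalgebra A Q)
    rw [Algebra.mem_bot]
    refine ⟨a, ?_⟩
    rw [ha]
    show ι d * (ι d * y ^ n) = ι d * ι d * y ^ n
    ring
  have hnoeth : IsNoetherian A (Subalgebra.toSubmodule (⊥ : Subalgebra A Q)) := by
    have : (Subalgebra.toSubmodule (⊥ : Subalgebra A Q)).FG := by
      rw [Algebra.toSubmodule_bot, Submodule.one_eq_span]
      exact Submodule.fg_span_singleton 1
    exact isNoetherian_of_fg_of_noetherian _ this
  have hfg : (Submodule.map f (Subalgebra.toSubmodule (Algebra.adjoin A {y}))).FG := by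
    have h1 : IsNoetherian A (Subalgebra.toSubmodule (⊥ : Subalgebra A Q)) := hnoeth
    rw [isNoetherian_submodule] at h1
    exact h1 _ hmap
  have hfg' := Submodule.fg_of_fg_map_injective f hf hfg
  exact IsIntegral.of_mem_of_fg (Algebra.adjoin A {y}) hfg' y (Algebra.subset_adjoin rfl)

end Integral

section Main

theorem main (k : Type u) [Field k] [CharZero k] (A : Type u) [CommRing A]
    [Algebra k A] [IsNoetherianRing A] (D : Derivation k A A) :
    ∃ D' : Derivation k ↥(integralClosure A (FractionRing A)) ↥(integralClosure A (FractionRing A)),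
      ∀ a : A, (D' (algebraMap A ↥(integralClosure A (FractionRing A)) a) : FractionRing A) =
        algebraMap A (FractionRing A) (D a) := by
  let A' := integralClosure A (FractionRing A)
  let L : A' →ₗ[k] A' :=
    { toFun := fun x => ⟨dQ D (x : FractionRing A), isIntegral_dQ D _ x.2⟩
      map_add' := fun x y => Subtype.ext (dQ_add D _ _)
      map_smul' := fun c x => Subtype.ext (dQ_smul D c _) }
  refine ⟨Derivation.mk' L ?_, ?_⟩
  · intro a b
    apply Subtype.ext
    show dQ D ((a : FractionRing A) * (b : FractionRing A)) = _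
    rw [dQ_mul]
    rfl
  · intro a
    exact dQ_algebraMap D a

end Main

end Groth.Agent.Helper8.Seidenberg
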