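import Mathlib
import Groth.Prelude.Def_SekSuwa2
import Groth.Prelude.Def_Mor2

set_option autoImplicit false

namespace Groth.Agent.Helper8.SekSuwaFree

open SekSuwa Polynomial CategoryTheory AlgebraicGeometry

universe u

variable {R : Type u} [CommRing R] {lam : R} {N : ℕ}

theorem coeff_one_add_pow (k : ℕ) :
    ((1 + C lam * X) ^ N : R[X]).coeff k = (N.choose k : R) * lam ^ k := by
  have e : ((1 + C lam * X) ^ N : R[X]) = ((X + C 1) ^ N : R[X]).comp (C lam * X) := by
    simp only [pow_comp, add_comp, X_comp, C_comp]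
    rw [map_one, add_comm]
  rw [e, comp_C_mul_X_coeff, coeff_X_add_C_pow]
  simp

theorem mul_coeff_psiPoly (h : DivCond lam N) (k : ℕ) (hk : 0 < k) :
    lam ^ N * (psiPoly lam N h).coeff k = (N.choose k : R) * lam ^ k := by
  have := congrArg (fun q => q.coeff k) (psiPoly_spec h)
  simp only [coeff_C_mul, coeff_sub, coeff_one_add_pow] at this
  rw [this, coeff_one, if_neg (by omega), sub_zero]

theorem coeff_psiPoly_self (h : DivCond lam N) (hN : 0 < N) : (psiPoly lam N h).coeff N = 1 := by
  apply cancel_nzd h.pow_nzd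
  rw [mul_coeff_psiPoly h N hN, Nat.choose_self, Nat.cast_one, one_mul, mul_one]

theorem coeff_psiPoly_gt (h : DivCond lam N) (k : ℕ) (hk : N < k) : (psiPoly lam N h).coeff k = 0 := by
  apply cancel_nzd h.pow_nzd
  rw [mul_coeff_psiPoly h k (by omega), Nat.choose_eq_zero_of_lt hk, Nat.cast_zero, zero_mul, mul_zero]

theorem natDegree_psiPoly_le (h : DivCond lam N) : (psiPoly lam N h).natDegree ≤ N :=
  natDegree_le_iff_coeff_eq_zero.mpr fun k hk => coeff_psiPoly_gt h k hk

theorem monic_psiPoly (h : DivCond lam N) (hN : 0 < N) : (psiPoly lam N h).Monic :=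
  monic_of_natDegree_le_of_coeff_eq_one N (natDegree_psiPoly_le h) (coeff_psiPoly_self h hN)

theorem natDegree_psiPoly [Nontrivial R] (h : DivCond lam N) (hN : 0 < N) :
    (psiPoly lam N h).natDegree = N :=
  le_antisymm (natDegree_psiPoly_le h)
    (le_natDegree_of_ne_zero (by rw [coeff_psiPoly_self h hN]; exact one_ne_zero))

/-- In `AdjoinRoot P`, `(1 + λ r)^N = 1`. -/
theorem root_pow (h : DivCond lam N) :
    (1 + lam • AdjoinRoot.root (psiPoly lam N h)) ^ N = 1 := by
  have e := aeval_psiPoly h (AdjoinRoot.root (psiPoly lam N h))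
  rw [AdjoinRoot.aeval_eq, AdjoinRoot.mk_self, mul_zero] at e
  rw [Algebra.smul_def]
  exact (sub_eq_zero.mp e.symm)

theorem root_rel (h : DivCond lam N) (hN : 0 < N) :
    (1 + lam • AdjoinRoot.root (psiPoly lam N h)) *
      (1 + lam • AdjoinRoot.root (psiPoly lam N h)) ^ (N - 1) = 1 := by
  rw [← pow_succ', Nat.sub_add_cancel hN, root_pow h]

/-- The map from the coordinate ring of `G_{λ,N}` to `R[X]/(P)`. -/
noncomputable def toAdj (h : DivCond lam N) (hN : 0 < N) :
    AK R lam N h →ₐ[R] AdjoinRoot (psiPoly lam N h) :=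
  Ideal.Quotient.liftₐ (kerIdeal lam N h)
    (A.lift R lam (AdjoinRoot.root (psiPoly lam N h))
      ((1 + lam • AdjoinRoot.root (psiPoly lam N h)) ^ (N - 1)) (root_rel h hN))
    (by
      intro z hz
      obtain ⟨c, rfl⟩ := Ideal.mem_span_singleton'.mp hz
      rw [map_mul, kerGen, ← Polynomial.aeval_algHom_apply, A.lift_t, AdjoinRoot.aeval_eq,
        AdjoinRoot.mk_self, mul_zero])

theorem toAdj_mk (h : DivCond lam N) (hN : 0 < N) (z : A R lam) :
    toAdj h hN (AK.mkHom R lam N h z) =
      A.lift R lam (AdjoinRoot.root (psiPoly lam N h))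
      ((1 + lam • AdjoinRoot.root (psiPoly lam N h)) ^ (N - 1)) (root_rel h hN) z := rfl

theorem toAdj_t (h : DivCond lam N) (hN : 0 < N) :
    toAdj h hN AK.t = AdjoinRoot.root (psiPoly lam N h) := by
  rw [AK.t, toAdj_mk, A.lift_t]

theorem toAdj_inv (h : DivCond lam N) (hN : 0 < N) :
    toAdj h hN AK.inv = (1 + lam • AdjoinRoot.root (psiPoly lam N h)) ^ (N - 1) := by
  rw [AK.inv, toAdj_mk, A.lift_inv]

/-- The map from `R[X]/(P)` to the coordinate ring of `G_{λ,N}`. -/
noncomputable def ofAdj (h : DivCond lam N) :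
    AdjoinRoot (psiPoly lam N h) →ₐ[R] AK R lam N h :=
  AdjoinRoot.liftAlgHom (psiPoly lam N h) (Algebra.ofId R (AK R lam N h)) AK.t
    (by
      have := AK.aeval_t (R := R) (lam := lam) (N := N) (h := h)
      rw [aeval_def] at this
      exact this)

theorem ofAdj_root (h : DivCond lam N) : ofAdj h (AdjoinRoot.root (psiPoly lam N h)) = AK.t :=
  AdjoinRoot.liftAlgHom_root _ _ _ _

theorem u_mul_inv (h : DivCond lam N) : (1 + lam • (AK.t : AK R lam N h)) * AK.inv = 1 := by
  have := congrArg (AK.mkHom R lam N h) (A.u_mul_inv (R := R) (lam := lam))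
  rw [map_mul, map_one, A.u, map_add, map_one, map_smul] at this
  exact this

theorem inv_aux {B : Type*} [CommRing B] (a b : B) (n : ℕ) (hn : 0 < n) (h1 : a * b = 1)
    (h2 : a ^ n = 1) : b = a ^ (n - 1) := by
  obtain ⟨m, rfl⟩ : ∃ m, n = m + 1 := ⟨n - 1, by omega⟩
  simp only [Nat.add_sub_cancel]
  calc b = b * a ^ (m + 1) := by rw [h2, mul_one]
    _ = (a * b) * a ^ m := by ring
    _ = a ^ m := by rw [h1, one_mul]

theorem inv_eq (h : DivCond lam N) (hN : 0 < N) :
    (AK.inv : AK R lam N h) = (1 + lam • (AK.t : AK R lam N h)) ^ (N - 1) :=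
  inv_aux _ _ N hN (u_mul_inv h) AK.u_pow

/-- The coordinate ring of `G_{λ,N}` is `R[X]/(P_{λ,N})` for `N ≥ 1`. -/
noncomputable def equivAdj (h : DivCond lam N) (hN : 0 < N) :
    AK R lam N h ≃ₐ[R] AdjoinRoot (psiPoly lam N h) :=
  AlgEquiv.ofAlgHom (toAdj h hN) (ofAdj h)
    (by
      apply AdjoinRoot.algHom_ext
      rw [AlgHom.comp_apply, ofAdj_root, toAdj_t, AlgHom.id_apply])
    (by
      apply AK.algHom_ext
      · rw [AlgHom.comp_apply, toAdj_t, ofAdj_root, AlgHom.id_apply]
      · rw [AlgHom.comp_apply, toAdj_inv, map_pow, map_add, map_one, map_smul, ofAdj_root,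
          AlgHom.id_apply, ← inv_eq h hN])

theorem finite_AK (h : DivCond lam N) (hN : 0 < N) : Module.Finite R (AK R lam N h) :=
  haveI := (monic_psiPoly h hN).finite_adjoinRoot
  Module.Finite.equiv (equivAdj h hN).symm.toLinearEquiv

theorem free_AK (h : DivCond lam N) (hN : 0 < N) : Module.Free R (AK R lam N h) :=
  haveI := (monic_psiPoly h hN).free_adjoinRoot
  Module.Free.of_equiv (equivAdj h hN).symm.toLinearEquiv

theorem finrank_AK [Nontrivial R] (h : DivCond lam N) (hN : 0 < N) :
    Module.finrank R (AK R lam N h) = N := by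
  rw [(equivAdj h hN).toLinearEquiv.finrank_eq,
    (AdjoinRoot.powerBasis' (monic_psiPoly h hN)).finrank, AdjoinRoot.powerBasis'_dim,
    natDegree_psiPoly h hN]

theorem fp_AK (h : DivCond lam N) (hN : 0 < N) : Algebra.FinitePresentation R (AK R lam N h) := by
  haveI : Algebra.FinitePresentation R (AdjoinRoot (psiPoly lam N h)) :=
    Algebra.FinitePresentation.quotient (Submodule.fg_span_singleton _)
  exact Algebra.FinitePresentation.equiv (equivAdj h hN).symm

theorem main (R : Type u) [CommRing R] (lam : R) (N : ℕ) (hN : 0 < N) (h : SekSuwa.DivCond lam N) :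
    Mor2.IsFinLocFreeOfDeg N (SekSuwa.GK R lam N h).hom := by
  haveI := finite_AK h hN
  haveI := free_AK h hN
  haveI := fp_AK h hN
  have key : Mor2.IsFinLocFreeOfDeg N
      (Spec.map (CommRingCat.ofHom (algebraMap R (AK R lam N h)))) := by
    refine ⟨⟨?_, ?_, ?_⟩, ?_⟩
    · rw [IsFinite.SpecMap_iff]
      exact RingHom.finite_algebraMap.mpr inferInstance
    · rw [Flat.SpecMap_iff]
      exact RingHom.flat_algebraMap_iff.mpr inferInstance
    · rw [LocallyOfFinitePresentation.SpecMap_iff]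
      exact RingHom.finitePresentation_algebraMap.mpr inferInstance
    · intro y
      have : Nontrivial R := PrimeSpectrum.nonempty_iff_nontrivial.mp ⟨y⟩
      rw [Scheme.Hom.finrank_SpecMap_algebraMap, Module.rankAtStalk_eq_finrank_of_free,
        finrank_AK h hN]
      rfl
  exact key

end Groth.Agent.Helper8.SekSuwaFree
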