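import Mathlib
import Groth.Prelude.Def_SekSuwa2
import Groth.Prelude.Def_ActBC
import Groth.Agent.Helper8.SekSuwaFree

/-!
# `α^{λ,N} : G_{λ,N} ⟶ μ_N` is an isomorphism after base change to a field where `λ ≠ 0`
-/

set_option autoImplicit false

namespace Groth.Agent.Helper8.SekSuwaGen

open SekSuwa CategoryTheory CategoryTheory.Limits AlgebraicGeometry TensorProduct

universe u

section RingLevel

variable {R : Type u} [CommRing R] {lam : R} {N : ℕ} (h : DivCond lam N)

theorem ofAdj_surjective (hN : 0 < N) : Function.Surjective (SekSuwaFree.ofAdj h) := fun y =>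
  ⟨SekSuwaFree.toAdj h hN y, (SekSuwaFree.equivAdj h hN).symm_apply_apply y⟩

theorem adjoin_t (hN : 0 < N) : Algebra.adjoin R {(AK.t : AK R lam N h)} = ⊤ := by
  rw [← SekSuwaFree.ofAdj_root h, ← AlgHom.map_adjoin_singleton, AdjoinRoot.adjoinRoot_eq_top,
    Algebra.map_top, AlgHom.range_eq_top]
  exact ofAdj_surjective h hN

variable (F : Type u) [Field F] [Algebra R F]

/-- `F ⊗ alphaNHom` as an `F`-algebra homomorphism -/
noncomputable abbrev TF :
    F ⊗[R] MonoidAlgebra R (Multiplicative (ZMod N)) →ₐ[F] F ⊗[R] AK R lam N h :=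
  Algebra.TensorProduct.map (AlgHom.id F F)
    (alphaNHom R lam N h : MonoidAlgebra R (Multiplicative (ZMod N)) →ₐ[R] AK R lam N h)

theorem TF_surjective (hN : 0 < N) (hlam : algebraMap R F lam ≠ 0) :
    Function.Surjective (TF h F) := by
  rw [← AlgHom.range_eq_top]
  have h1 : (1 : F) ⊗ₜ[R] (AK.t : AK R lam N h) ∈ (TF h F).range := by
    have hσ : (1 : F) ⊗ₜ[R] (1 + lam • (AK.t : AK R lam N h)) ∈ (TF h F).range := by
      refine ⟨1 ⊗ₜ MonoidAlgebra.single (Multiplicative.ofAdd (1 : ZMod N)) 1, ?_⟩
      change Algebra.TensorProduct.map (AlgHom.id F F)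
        (alphaNHom R lam N h : MonoidAlgebra R (Multiplicative (ZMod N)) →ₐ[R] AK R lam N h)
        (1 ⊗ₜ MonoidAlgebra.single (Multiplicative.ofAdd (1 : ZMod N)) 1) = _
      rw [Algebra.TensorProduct.map_tmul, AlgHom.id_apply]
      congr 1
      exact alphaNHom_single_one R lam N h
    have h2 : (1 : F) ⊗ₜ[R] (AK.t : AK R lam N h) =
        (algebraMap R F lam)⁻¹ • ((1 : F) ⊗ₜ[R] (1 + lam • (AK.t : AK R lam N h)) - 1) := by
      rw [TensorProduct.tmul_add, TensorProduct.tmul_smul, ← Algebra.TensorProduct.one_def,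
        add_sub_cancel_left, ← algebraMap_smul F lam ((1 : F) ⊗ₜ[R] (AK.t : AK R lam N h)),
        smul_smul, inv_mul_cancel₀ hlam, one_smul]
    rw [h2]
    exact Subalgebra.smul_mem _ (Subalgebra.sub_mem _ hσ (Subalgebra.one_mem _)) _
  have h3 : ∀ x : AK R lam N h, (1 : F) ⊗ₜ[R] x ∈ (TF h F).range := by
    intro x
    have hx : x ∈ Algebra.adjoin R {(AK.t : AK R lam N h)} := by rw [adjoin_t h hN]; trivial
    have hle : Algebra.adjoin R {(AK.t : AK R lam N h)} ≤
        ((TF h F).range.restrictScalars R).comap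
          (Algebra.TensorProduct.includeRight : AK R lam N h →ₐ[R] F ⊗[R] AK R lam N h) :=
      Algebra.adjoin_le (Set.singleton_subset_iff.mpr h1)
    exact hle hx
  rw [eq_top_iff]
  rintro z -
  induction z using TensorProduct.induction_on with
  | zero => exact Subalgebra.zero_mem _
  | tmul c x =>
    have : c ⊗ₜ[R] x = c • ((1 : F) ⊗ₜ[R] x) := by
      rw [TensorProduct.smul_tmul', smul_eq_mul, mul_one]
    rw [this]
    exact Subalgebra.smul_mem _ (h3 x) c
  | add x y hx hy => exact Subalgebra.add_mem _ hx hy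

theorem TF_bijective (hN : 0 < N) (hlam : algebraMap R F lam ≠ 0) :
    Function.Bijective (TF h F) := by
  haveI := SekSuwaFree.finite_AK h hN
  haveI := SekSuwaFree.free_AK h hN
  haveI : NeZero N := ⟨hN.ne'⟩
  haveI : Nontrivial R := (algebraMap R F).domain_nontrivial
  let b := MonoidAlgebra.basis (Multiplicative (ZMod N)) R
  haveI : Module.Free R (MonoidAlgebra R (Multiplicative (ZMod N))) := Module.Free.of_basis b
  haveI : Module.Finite R (MonoidAlgebra R (Multiplicative (ZMod N))) := Module.Finite.of_basis b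
  have hr1 : Module.finrank R (MonoidAlgebra R (Multiplicative (ZMod N))) = N := by
    rw [Module.finrank_eq_card_basis b]
    simp [ZMod.card]
  have hr2 := SekSuwaFree.finrank_AK h hN
  have hsurj := TF_surjective h F hN hlam
  have heq : Module.finrank F (F ⊗[R] MonoidAlgebra R (Multiplicative (ZMod N))) =
      Module.finrank F (F ⊗[R] AK R lam N h) := by
    rw [Module.finrank_baseChange, Module.finrank_baseChange, hr1, hr2]
  exact ⟨(LinearMap.injective_iff_surjective_of_finrank_eq_finrank heq
    (f := (TF h F).toLinearMap)).mpr hsurj, hsurj⟩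

theorem T_bijective (hN : 0 < N) (hlam : algebraMap R F lam ≠ 0) :
    Function.Bijective (Algebra.TensorProduct.map
      (alphaNHom R lam N h : MonoidAlgebra R (Multiplicative (ZMod N)) →ₐ[R] AK R lam N h)
      (AlgHom.id R F)) := by
  have hTF := TF_bijective h F hN hlam
  have hcomm : ∀ z, Algebra.TensorProduct.comm R F (AK R lam N h) (TF h F
      (Algebra.TensorProduct.comm R (MonoidAlgebra R (Multiplicative (ZMod N))) F z)) =
      Algebra.TensorProduct.map
        (alphaNHom R lam N h : MonoidAlgebra R (Multiplicative (ZMod N)) →ₐ[R] AK R lam N h)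
        (AlgHom.id R F) z := by
    intro z
    induction z using TensorProduct.induction_on with
    | zero => simp
    | tmul x c => simp
    | add x y hx hy => simp only [map_add, hx, hy]
  have : ⇑(Algebra.TensorProduct.map
      (alphaNHom R lam N h : MonoidAlgebra R (Multiplicative (ZMod N)) →ₐ[R] AK R lam N h)
      (AlgHom.id R F)) = ⇑(Algebra.TensorProduct.comm R F (AK R lam N h)) ∘ ⇑(TF h F) ∘
        ⇑(Algebra.TensorProduct.comm R (MonoidAlgebra R (Multiplicative (ZMod N))) F) :=
    funext (fun z => (hcomm z).symm)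
  rw [this]
  exact (AlgEquiv.bijective _).comp (hTF.comp (AlgEquiv.bijective _))

end RingLevel

section SchemeLevel

variable {R F : Type u} [CommRing R] [CommRing F] [Algebra R F]
  {B₁ B₂ : Type u} [CommRing B₁] [CommRing B₂] [Bialgebra R B₁] [Bialgebra R B₂]

theorem isIso_pullback_specHom (a : B₁ →ₐc[R] B₂)
    (hbij : Function.Bijective (Algebra.TensorProduct.map (a : B₁ →ₐ[R] B₂) (AlgHom.id R F))) :
    IsIso ((Over.pullback (Spec.map (CommRingCat.ofHom (algebraMap R F)))).map (specHom a)) := by
  let g := (Over.pullback (Spec.map (CommRingCat.ofHom (algebraMap R F)))).map (specHom a)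
  let T := Algebra.TensorProduct.map (a : B₁ →ₐ[R] B₂) (AlgHom.id R F)
  let Tc : CommRingCat.of (B₁ ⊗[R] F) ⟶ CommRingCat.of (B₂ ⊗[R] F) := CommRingCat.ofHom T.toRingHom
  haveI : IsIso Tc := (ConcreteCategory.isIso_iff_bijective Tc).mpr hbij
  haveI : IsIso (Spec.map Tc) := inferInstanceAs (IsIso (Scheme.Spec.map Tc.op))
  let g' : pullback (Spec.map (CommRingCat.ofHom (algebraMap R B₂)))
      (Spec.map (CommRingCat.ofHom (algebraMap R F))) ⟶
      pullback (Spec.map (CommRingCat.ofHom (algebraMap R B₁)))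
        (Spec.map (CommRingCat.ofHom (algebraMap R F))) := g.left
  have e1 : g' ≫ pullback.fst (Spec.map (CommRingCat.ofHom (algebraMap R B₁)))
      (Spec.map (CommRingCat.ofHom (algebraMap R F))) =
      pullback.fst (Spec.map (CommRingCat.ofHom (algebraMap R B₂)))
        (Spec.map (CommRingCat.ofHom (algebraMap R F))) ≫
        Spec.map (CommRingCat.ofHom (a : B₁ →+* B₂)) :=
    ActBC.pullback_map_left_fst (Spec.map (CommRingCat.ofHom (algebraMap R F))) (specHom a)
  have e2 : g' ≫ pullback.snd (Spec.map (CommRingCat.ofHom (algebraMap R B₁)))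
      (Spec.map (CommRingCat.ofHom (algebraMap R F))) =
      pullback.snd (Spec.map (CommRingCat.ofHom (algebraMap R B₂)))
        (Spec.map (CommRingCat.ofHom (algebraMap R F))) := Over.w g
  have key : g' = (pullbackSpecIso R B₂ F).hom ≫ Spec.map Tc ≫ (pullbackSpecIso R B₁ F).inv := by
    apply pullback.hom_ext
    · rw [e1, Category.assoc, Category.assoc, pullbackSpecIso_inv_fst, ← Spec.map_comp,
        ← pullbackSpecIso_hom_fst, Category.assoc, ← Spec.map_comp]
      congr 2
    · rw [e2, Category.assoc, Category.assoc, pullbackSpecIso_inv_snd, ← Spec.map_comp,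
        ← pullbackSpecIso_hom_snd]
      congr 2
      ext x
      simp [Tc, T]
  haveI : IsIso g' := by rw [key]; infer_instance
  haveI : IsIso ((Over.forget _).map g) := ‹IsIso g'›
  exact isIso_of_reflects_iso g (Over.forget _)

/-- variant for a morphism into an arbitrary object of `CommRingCat` -/
theorem isIso_pullback_specHom' {R : Type u} [CommRing R] {K : CommRingCat.{u}}
    {B₁ B₂ : Type u} [CommRing B₁] [CommRing B₂] [Bialgebra R B₁] [Bialgebra R B₂]
    (φ : CommRingCat.of R ⟶ K) (a : B₁ →ₐc[R] B₂)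
    (hbij : letI := φ.hom.toAlgebra
      Function.Bijective (Algebra.TensorProduct.map (a : B₁ →ₐ[R] B₂) (AlgHom.id R K))) :
    IsIso ((Over.pullback (Spec.map φ)).map (specHom a)) := by
  letI := φ.hom.toAlgebra
  exact isIso_pullback_specHom (F := K) a hbij

end SchemeLevel

end Groth.Agent.Helper8.SekSuwaGen
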