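import Mathlib
import Groth.Prelude.Def_SekSuwa2
import Groth.Prelude.Def_NonAbH2
import Groth.Prelude.Def_Pi1
import Groth.Agent.Helper8.SekSuwaGen
import Groth.Agent.S14695

/-!
# `G_{λ,N}`-torsors over a normal flat `R`-scheme trivialised by `α^{λ,N}` are trivial
-/

set_option autoImplicit false

namespace Groth.Agent.Helper8.SekSuwaGenB

open SekSuwa CategoryTheory CategoryTheory.Limits AlgebraicGeometry

universe u

theorem phi_ne_zero (R : Type u) [CommRing R] [IsDomain R] (X : Scheme.{u}) [IsIntegral X]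
    (f : X ⟶ Spec (CommRingCat.of R)) [Flat f]
    (φ : CommRingCat.of R ⟶ X.presheaf.stalk (genericPoint X))
    (hφ : Spec.map φ = X.fromSpecStalk (genericPoint X) ≫ f)
    (r : R) (hr : r ≠ 0) : φ.hom r ≠ 0 := by
  intro h0
  have hgen : GeneralizingMap f := Flat.generalizingMap f
  have hb : ((⟨⊥, Ideal.isPrime_bot⟩ : PrimeSpectrum R) : Spec (CommRingCat.of R)) ⤳
      f (genericPoint X) :=
    (PrimeSpectrum.le_iff_specializes (⟨⊥, Ideal.isPrime_bot⟩ : PrimeSpectrum R)
      (f (genericPoint X))).mp bot_le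
  obtain ⟨x', hx', hfx'⟩ := hgen hb
  have hx'eq : x' = genericPoint X := (hx'.antisymm (genericPoint_specializes x')).eq
  rw [hx'eq] at hfx'
  have hpt : (Spec.map φ) (IsLocalRing.closedPoint _) = f (genericPoint X) := by
    rw [hφ, Scheme.Hom.comp_apply, Scheme.fromSpecStalk_closedPoint]
  have hmem : r ∈ ((Spec.map φ) (IsLocalRing.closedPoint _)).asIdeal := by
    change r ∈ Ideal.comap φ.hom _
    rw [Ideal.mem_comap, h0]
    exact Ideal.zero_mem _
  rw [hpt, hfx'] at hmem
  exact hr ((Submodule.mem_bot R).mp hmem)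

theorem main (R : Type u) [CommRing R] [IsDomain R] (N : ℕ) (hN : 0 < N) (lam : R)
    (h : SekSuwa.DivCond lam N)
    (X : Scheme.{u}) [IsIntegral X] (hX : Pi1.IsNormalScheme X)
    (f : X ⟶ Spec (CommRingCat.of R)) [Flat f]
    (P : Over X) (a : AlgGrp.Action (Red.bc f (SekSuwa.GK R lam N h)) P)
    (hP : NonAbH1.IsTorsorFor Scheme.fppfPrecoverage a)
    (P' : Over X) (a' : AlgGrp.Action (Red.bc f (Red.diag R (ZMod N))) P')
    (hP' : NonAbH1.IsTorsorFor Scheme.fppfPrecoverage a')
    (hpush : NonAbH1.IsPushforwardAlongSch ((Over.pullback f).map (SekSuwa.alphaN R lam N h)) a a')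
    (htriv : NonAbH1.HasSectionOver P' (𝟙 X)) :
    NonAbH1.HasSectionOver P (𝟙 X) := by
  classical
  haveI : NeZero N := ⟨hN.ne'⟩
  have hfl := SekSuwaFree.main R lam N hN h
  haveI hGKfin : IsFinite (SekSuwa.GK R lam N h).hom := hfl.1.1
  haveI hGKflat : Flat (SekSuwa.GK R lam N h).hom := hfl.1.2.1
  haveI hDfin : IsFinite (Red.diag R (ZMod N)).hom := by
    change IsFinite (Spec.map (CommRingCat.ofHom
      (algebraMap R (MonoidAlgebra R (Multiplicative (ZMod N))))))
    rw [IsFinite.SpecMap_iff]
    let b := MonoidAlgebra.basis (Multiplicative (ZMod N)) R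
    haveI : Module.Finite R (MonoidAlgebra R (Multiplicative (ZMod N))) := Module.Finite.of_basis b
    exact RingHom.finite_algebraMap.mpr inferInstance
  haveI hDflat : Flat (Red.diag R (ZMod N)).hom := by
    change Flat (Spec.map (CommRingCat.ofHom
      (algebraMap R (MonoidAlgebra R (Multiplicative (ZMod N))))))
    rw [Flat.SpecMap_iff]
    exact RingHom.flat_algebraMap_iff.mpr inferInstance
  haveI : IsFinite (Red.bc f (SekSuwa.GK R lam N h)).hom := by
    change IsFinite (pullback.snd (SekSuwa.GK R lam N h).hom f)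
    infer_instance
  haveI : Flat (Red.bc f (SekSuwa.GK R lam N h)).hom := by
    change Flat (pullback.snd (SekSuwa.GK R lam N h).hom f)
    infer_instance
  haveI : IsFinite (Red.bc f (Red.diag R (ZMod N))).hom := by
    change IsFinite (pullback.snd (Red.diag R (ZMod N)).hom f)
    infer_instance
  haveI : Flat (Red.bc f (Red.diag R (ZMod N))).hom := by
    change Flat (pullback.snd (Red.diag R (ZMod N)).hom f)
    infer_instance
  haveI : IsMonHom ((Over.pullback f).map (SekSuwa.alphaN R lam N h)) := inferInstance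
  have hg : IsIso ((Over.pullback (X.fromSpecStalk (genericPoint X))).map
      ((Over.pullback f).map (SekSuwa.alphaN R lam N h))) := by
    have e := Over.pullbackComp (X.fromSpecStalk (genericPoint X)) f
    have h1 : IsIso ((Over.pullback (X.fromSpecStalk (genericPoint X) ≫ f)).map
        (SekSuwa.alphaN R lam N h)) := by
      obtain ⟨φ, hφ⟩ : ∃ φ : CommRingCat.of R ⟶ X.presheaf.stalk (genericPoint X),
          Spec.map φ = X.fromSpecStalk (genericPoint X) ≫ f :=
        ⟨Spec.preimage _, Spec.map_preimage _⟩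
      have hne := phi_ne_zero R X f φ hφ lam (nonZeroDivisors.ne_zero h.nzd)
      rw [← hφ]
      letI : Field (X.presheaf.stalk (genericPoint X)) := inferInstanceAs (Field X.functionField)
      letI : Algebra R (X.presheaf.stalk (genericPoint X)) := φ.hom.toAlgebra
      exact SekSuwaGen.isIso_pullback_specHom' φ (alphaNHom R lam N h)
        (SekSuwaGen.T_bijective h _ hN hne)
    exact (NatIso.isIso_map_iff e (SekSuwa.alphaN R lam N h)).mp h1
  exact Groth.Agent.S14695.result hX _ _ _ hg P a hP P' a' hP' hpush htriv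

end Groth.Agent.Helper8.SekSuwaGenB
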