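import Mathlib
import Groth.Prelude.Def_SekSuwa2
import Groth.Agent.Helper8.SekSuwaFree

set_option autoImplicit false

namespace Groth.Agent.Helper8.SekSuwaInj

open SekSuwa CategoryTheory AlgebraicGeometry
open nonZeroDivisors

universe u

/-- On a scheme flat over `Spec R`, a non-zero-divisor of `R` is a non-zero-divisor on global sections. -/
theorem nzd_top (R : Type u) [CommRing R] (X : Scheme.{u}) (f : X ⟶ Spec (CommRingCat.of R)) [Flat f]
    (r : R) (hr : r ∈ R⁰) (s : Γ(X, ⊤))
    (h' : (f.appTop ((Scheme.ΓSpecIso (CommRingCat.of R)).inv r)) * s = 0) : s = 0 := by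
  set r' : Γ(Spec (CommRingCat.of R), ⊤) := (Scheme.ΓSpecIso (CommRingCat.of R)).inv r with hr'
  have hr'nz : r' ∈ (Γ(Spec (CommRingCat.of R), ⊤))⁰ := by
    let e : R ≃+* Γ(Spec (CommRingCat.of R), ⊤) :=
      (Scheme.ΓSpecIso (CommRingCat.of R)).symm.commRingCatIsoToRingEquiv
    have he : r' = e r := rfl
    refine mem_nonZeroDivisors_iff.mpr ⟨fun x hx => ?_, fun x hx => ?_⟩
    · have h1 : r * e.symm x = 0 := by
        have := congrArg e.symm hx
        rwa [map_mul, map_zero, he, e.symm_apply_apply] at this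
      have h2 := (mem_nonZeroDivisors_iff.mp hr).1 _ h1
      exact (e.symm.map_eq_zero_iff).mp h2
    · have h1 : e.symm x * r = 0 := by
        have := congrArg e.symm hx
        rwa [map_mul, map_zero, he, e.symm_apply_apply] at this
      have h2 := (mem_nonZeroDivisors_iff.mp hr).2 _ h1
      exact (e.symm.map_eq_zero_iff).mp h2
  refine TopCat.Sheaf.eq_of_locally_eq' X.sheaf (fun U : X.affineOpens => (U : X.Opens)) ⊤
    (fun U => homOfLE le_top) ?_ s 0 (fun U => ?_)
  · intro x _
    obtain ⟨W, hW, hxW, -⟩ := TopologicalSpace.Opens.isBasis_iff_nbhd.mp X.isBasis_affineOpens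
      (show x ∈ (⊤ : X.Opens) from trivial)
    exact TopologicalSpace.Opens.mem_iSup.mpr ⟨⟨W, hW⟩, hxW⟩
  · rw [map_zero]
    have hflat : (f.appLE ⊤ U le_top).hom.Flat :=
      f.flat_appLE (isAffineOpen_top _) U.2 le_top
    letI : Algebra Γ(Spec (CommRingCat.of R), ⊤) Γ(X, U) := (f.appLE ⊤ U le_top).hom.toAlgebra
    haveI : Module.Flat Γ(Spec (CommRingCat.of R), ⊤) Γ(X, U) := hflat
    have hreg := Module.Flat.isSMulRegular_of_nonZeroDivisors (M := Γ(X, U)) hr'nz
    apply hreg
    show (f.appLE ⊤ U le_top) r' * _ = r' • 0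
    rw [smul_zero]
    have := congrArg (X.presheaf.map (homOfLE (le_top : (U : X.Opens) ≤ ⊤)).op) h'
    rw [map_mul, map_zero] at this
    rw [← this]
    congr 1

theorem main_aux (R : Type u) [CommRing R] (N : ℕ) (lam : R) (h : DivCond lam N)
    (X : Scheme.{u}) (π : X ⟶ Spec (CommRingCat.of R)) [Flat π]
    (fl gl : X ⟶ Spec (CommRingCat.of (AK R lam N h)))
    (hwf : fl ≫ Spec.map (CommRingCat.ofHom (algebraMap R (AK R lam N h))) = π)
    (hwg : gl ≫ Spec.map (CommRingCat.ofHom (algebraMap R (AK R lam N h))) = π)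
    (hfg : fl ≫ Spec.map (CommRingCat.ofHom
        (alphaNHom R lam N h : MonoidAlgebra R (Multiplicative (ZMod N)) →+* AK R lam N h)) =
      gl ≫ Spec.map (CommRingCat.ofHom
        (alphaNHom R lam N h : MonoidAlgebra R (Multiplicative (ZMod N)) →+* AK R lam N h))) :
    fl = gl := by
  apply ext_of_isAffine
  let iso := Scheme.ΓSpecIso (CommRingCat.of (AK R lam N h))
  let ρf : AK R lam N h →+* Γ(X, ⊤) := (iso.inv ≫ fl.appTop).hom
  let ρg : AK R lam N h →+* Γ(X, ⊤) := (iso.inv ≫ gl.appTop).hom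
  suffices hρ : ρf = ρg by
    have : iso.inv ≫ fl.appTop = iso.inv ≫ gl.appTop := CommRingCat.hom_ext hρ
    exact (cancel_epi iso.inv).mp this
  let θ : R →+* Γ(X, ⊤) := ((Scheme.ΓSpecIso (CommRingCat.of R)).inv ≫ π.appTop).hom
  -- compatibility with the structure maps
  have key : ∀ kl : X ⟶ Spec (CommRingCat.of (AK R lam N h)),
      kl ≫ Spec.map (CommRingCat.ofHom (algebraMap R (AK R lam N h))) = π →
      (Scheme.ΓSpecIso (CommRingCat.of R)).inv ≫ π.appTop =
        CommRingCat.ofHom (algebraMap R (AK R lam N h)) ≫ iso.inv ≫ kl.appTop := by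
    intro kl hw
    rw [← hw, Scheme.Hom.comp_appTop, ← Category.assoc, ← Scheme.ΓSpecIso_inv_naturality,
      Category.assoc]
  have hθf : ∀ r : R, ρf (algebraMap R (AK R lam N h) r) = θ r := by
    intro r
    exact (congrArg (fun φ => φ.hom r) (key fl hwf)).symm
  have hθg : ∀ r : R, ρg (algebraMap R (AK R lam N h) r) = θ r := by
    intro r
    exact (congrArg (fun φ => φ.hom r) (key gl hwg)).symm
  -- the condition on alphaN
  have hα : ∀ z, ρf (alphaNHom R lam N h z) = ρg (alphaNHom R lam N h z) := by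
    intro z
    have e1 := congrArg (fun k => (Scheme.ΓSpecIso (CommRingCat.of
      (MonoidAlgebra R (Multiplicative (ZMod N))))).inv ≫ k.appTop) hfg
    simp only [Scheme.Hom.comp_appTop] at e1
    rw [← Category.assoc, ← Category.assoc, ← Scheme.ΓSpecIso_inv_naturality,
      Category.assoc, Category.assoc] at e1
    exact congrArg (fun φ => φ.hom z) e1
  have hu : ρf (1 + lam • AK.t) = ρg (1 + lam • AK.t) := by
    rw [← alphaNHom_single_one]
    exact hα _
  have ht : ρf AK.t = ρg AK.t := by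
    have e : θ lam * (ρf AK.t - ρg AK.t) = 0 := by
      have e2 := hu
      rw [Algebra.smul_def, map_add, map_add, map_one, map_one, map_mul, map_mul, hθf, hθg] at e2
      rw [mul_sub, sub_eq_zero]
      exact add_left_cancel e2
    exact sub_eq_zero.mp (nzd_top R X π lam h.nzd _ e)
  have hinv : ρf AK.inv = ρg AK.inv := by
    have e1 : ρf (1 + lam • AK.t) * ρf AK.inv = 1 := by
      rw [← map_mul, SekSuwaFree.u_mul_inv h, map_one]
    have e2 : ρg (1 + lam • AK.t) * ρg AK.inv = 1 := by
      rw [← map_mul, SekSuwaFree.u_mul_inv h, map_one]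
    calc ρf AK.inv = ρf AK.inv * (ρg (1 + lam • AK.t) * ρg AK.inv) := by rw [e2, mul_one]
      _ = (ρf (1 + lam • AK.t) * ρf AK.inv) * ρg AK.inv := by rw [← hu]; ring
      _ = ρg AK.inv := by rw [e1, one_mul]
  letI : Algebra R Γ(X, ⊤) := θ.toAlgebra
  let af : AK R lam N h →ₐ[R] Γ(X, ⊤) := { ρf with commutes' := hθf }
  let ag : AK R lam N h →ₐ[R] Γ(X, ⊤) := { ρg with commutes' := hθg }
  have hag : af = ag := AK.algHom_ext ht hinv
  exact RingHom.ext fun x => DFunLike.congr_fun hag x

theorem main (R : Type u) [CommRing R] (N : ℕ) (lam : R) (h : DivCond lam N)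
    (G : Over (Spec (CommRingCat.of R))) [Flat G.hom] (f g : G ⟶ GK R lam N h)
    (hfg : f ≫ alphaN R lam N h = g ≫ alphaN R lam N h) : f = g := by
  apply Over.OverMorphism.ext
  exact main_aux R N lam h G.left G.hom f.left g.left (Over.w f) (Over.w g)
    (congrArg (fun k => k.left) hfg)

end Groth.Agent.Helper8.SekSuwaInj
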