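import Mathlib
import Groth.Prelude.Def_SekSuwa2
import Groth.Prelude.Def_AlgGrp

set_option autoImplicit false

namespace Groth.Agent.Helper8.SekSuwaKer

open SekSuwa CategoryTheory Limits AlgebraicGeometry MonObj CartesianMonoidalCategory

universe u

variable (R : Type u) [CommRing R] (lam : R) (N : ℕ) (h : DivCond lam N)

/-- the four ring maps -/
noncomputable abbrev fPsi : A R (lam ^ N) →+* A R lam := (psiHom R lam N h : A R (lam ^ N) →+* A R lam)
noncomputable abbrev fCounit : A R (lam ^ N) →+* R :=
  ((Bialgebra.counitAlgHom R (A R (lam ^ N)) : A R (lam ^ N) →ₐ[R] R) : A R (lam ^ N) →+* R)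
noncomputable abbrev fMk : A R lam →+* AK R lam N h := (AK.mkHom R lam N h : A R lam →+* AK R lam N h)

theorem fMk_surjective : Function.Surjective (fMk R lam N h) :=
  Ideal.Quotient.mk_surjective

theorem fMk_eq_zero {a : A R lam} (ha : a ∈ kerIdeal lam N h) : fMk R lam N h a = 0 :=
  (Ideal.Quotient.eq_zero_iff_mem).mpr ha

theorem fMk_eq_zero_iff {a : A R lam} : fMk R lam N h a = 0 ↔ a ∈ kerIdeal lam N h :=
  Ideal.Quotient.eq_zero_iff_mem

theorem comm_sq : (fMk R lam N h).comp (fPsi R lam N h) =
    (algebraMap R (AK R lam N h)).comp (fCounit R lam N) := by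
  have := mkHom_comp_psiHom R lam N h
  ext x
  have e := congrArg (fun f => f x) this
  exact e

/-- a ring hom from `A R lam` killing `ψ(t)` factors through `AK`. -/
theorem exists_desc {B : Type u} [CommRing B] (f : A R lam →+* B) (g : R →+* B)
    (hfg : f.comp (fPsi R lam N h) = g.comp (fCounit R lam N)) :
    ∃ d : AK R lam N h →+* B, d.comp (fMk R lam N h) = f ∧ d.comp (algebraMap R (AK R lam N h)) = g := by
  have hker : ∀ a ∈ kerIdeal lam N h, f a = 0 := by
    intro a ha
    obtain ⟨c, rfl⟩ := Ideal.mem_span_singleton'.mp ha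
    have e := congrArg (fun φ => φ (A.t : A R (lam ^ N))) hfg
    simp only [RingHom.comp_apply] at e
    have e1 : fPsi R lam N h A.t = kerGen lam N h := psiHom_t R lam N h
    have e2 : fCounit R lam N A.t = 0 := A.counit_t
    rw [e1, e2, map_zero] at e
    rw [map_mul, e, mul_zero]
  refine ⟨Ideal.Quotient.lift (kerIdeal lam N h) f hker, ?_, ?_⟩
  · ext x
    exact Ideal.Quotient.lift_mk (kerIdeal lam N h) f hker
  · ext r
    have e := congrArg (fun φ => φ (algebraMap R (A R (lam ^ N)) r)) hfg
    simp only [RingHom.comp_apply] at e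
    have e1 : fPsi R lam N h (algebraMap R (A R (lam ^ N)) r) = algebraMap R (A R lam) r :=
      (psiHom R lam N h : A R (lam ^ N) →ₐ[R] A R lam).commutes r
    have e2 : fCounit R lam N (algebraMap R (A R (lam ^ N)) r) = r :=
      (Bialgebra.counitAlgHom R (A R (lam ^ N))).commutes r
    rw [e1, e2] at e
    rw [RingHom.comp_apply, ← e]
    exact Ideal.Quotient.lift_mk (kerIdeal lam N h) f hker

theorem isPushout : IsPushout (CommRingCat.ofHom (fPsi R lam N h))
    (CommRingCat.ofHom (fCounit R lam N))
    (CommRingCat.ofHom (fMk R lam N h))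
    (CommRingCat.ofHom (algebraMap R (AK R lam N h))) := by
  have eq : CommRingCat.ofHom (fPsi R lam N h) ≫ CommRingCat.ofHom (fMk R lam N h) =
      CommRingCat.ofHom (fCounit R lam N) ≫ CommRingCat.ofHom (algebraMap R (AK R lam N h)) := by
    rw [← CommRingCat.ofHom_comp, ← CommRingCat.ofHom_comp, comm_sq]
  have key : ∀ s : PushoutCocone (CommRingCat.ofHom (fPsi R lam N h))
      (CommRingCat.ofHom (fCounit R lam N)),
      ∃ d : AK R lam N h →+* s.pt, d.comp (fMk R lam N h) = s.inl.hom ∧
        d.comp (algebraMap R (AK R lam N h)) = s.inr.hom := by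
    intro s
    apply exists_desc
    have := s.condition
    have e := congrArg (fun φ => φ.hom) this
    exact e
  refine IsPushout.of_isColimit (PushoutCocone.IsColimit.mk eq
    (fun s => CommRingCat.ofHom (key s).choose) ?_ ?_ ?_)
  · intro s
    ext x
    exact congrArg (fun φ => φ x) (key s).choose_spec.1
  · intro s
    ext x
    exact congrArg (fun φ => φ x) (key s).choose_spec.2
  · intro s m hm _
    ext x
    obtain ⟨y, rfl⟩ := fMk_surjective R lam N h x
    have e1 := congrArg (fun φ => φ.hom y) hm
    have e2 := congrArg (fun φ => φ y) (key s).choose_spec.1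
    simp only [RingHom.comp_apply] at e2
    change m.hom (fMk R lam N h y) = (key s).choose (fMk R lam N h y)
    rw [e2]
    exact e1

theorem toUnit_left : (toUnit (GK R lam N h)).left =
    Spec.map (CommRingCat.ofHom (algebraMap R (AK R lam N h))) := by
  rw [← Category.comp_id (toUnit (GK R lam N h)).left]
  exact Over.w (toUnit (GK R lam N h))

theorem main : AlgGrp.IsKernel (incl R lam N h) (psi R lam N h) := by
  have e : incl R lam N h ≫ psi R lam N h = toUnit (GK R lam N h) ≫ η[G R (lam ^ N)] := by
    rw [incl_psi, Hom.one_def]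
  refine IsPullback.of_map (Over.forget _) e ?_
  have H := ((isPushout R lam N h).op.flip).map Scheme.Spec
  have h1 : (Over.forget _).map (toUnit (GK R lam N h)) =
      Spec.map (CommRingCat.ofHom (algebraMap R (AK R lam N h))) := toUnit_left R lam N h
  have h2 : (Over.forget _).map (η[G R (lam ^ N)]) =
      Spec.map (CommRingCat.ofHom (fCounit R lam N)) := one_spec_asOver_spec_left
  rw [h1, h2]
  exact H

end Groth.Agent.Helper8.SekSuwaKer
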