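import Mathlib
set_option autoImplicit false
universe u
open CategoryTheory Abelian

namespace Groth.Agent.Helper8.SerreFree

variable {A : Type u} [CommRing A]

/-- For a short exact sequence `S` with `X₁` projective, the class generates `Ext¹(X₃, X₁)`
(under `End X₁`) iff `Ext¹(X₂, X₁) = 0`. -/
theorem gen_iff (S : ShortComplex (ModuleCat.{u} A)) (hS : S.ShortExact) [Projective S.X₁] :
    (∀ x : Ext S.X₃ S.X₁ 1, ∃ f : S.X₁ ⟶ S.X₁,
        hS.extClass.comp (Ext.mk₀ f) (add_zero 1) = x) ↔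
      Subsingleton (Ext S.X₂ S.X₁ 1) := by
  constructor
  · intro h
    refine subsingleton_of_forall_eq 0 (fun y => ?_)
    have h0 : (Ext.mk₀ S.f).comp y (zero_add 1) = 0 := by
      haveI : Subsingleton (Ext S.X₁ S.X₁ 1) := Ext.subsingleton_of_projective S.X₁ S.X₁ 0
      exact Subsingleton.elim _ _
    obtain ⟨x, hx⟩ := Ext.contravariant_sequence_exact₂ hS S.X₁ y h0
    obtain ⟨f, hf⟩ := h x
    subst hf
    subst hx
    exact hS.comp_extClass_assoc (Ext.mk₀ f) (add_zero 1)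
  · intro h x
    have h0 : (Ext.mk₀ S.g).comp x (zero_add 1) = 0 := @Subsingleton.elim _ h _ _
    obtain ⟨x₁, hx₁⟩ := Ext.contravariant_sequence_exact₃ hS S.X₁ x h0 (add_zero 1)
    obtain ⟨f, rfl⟩ := (Ext.mk₀_bijective S.X₁ S.X₁).2 x₁
    exact ⟨f, hx₁⟩

/-- Vanishing of `Ext¹(M, X₁)` lets one extend maps from the kernel of a surjection onto `M`. -/
theorem extend_of_ext_vanish {X₁ M : Type u} [AddCommGroup X₁] [Module A X₁] [AddCommGroup M]
    [Module A M]
    (hsub : Subsingleton (Ext (ModuleCat.of A M) (ModuleCat.of A X₁) 1))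
    (P : Type u) [AddCommGroup P] [Module A P] (Θ : P →ₗ[A] M) (hΘ : Function.Surjective Θ)
    (c : LinearMap.ker Θ →ₗ[A] X₁) :
    ∃ c' : P →ₗ[A] X₁, ∀ k : LinearMap.ker Θ, c' k = c k := by
  have hT := LinearMap.shortExact_shortComplexKer hΘ
  have h0 : hT.extClass.comp (Ext.mk₀ (ModuleCat.ofHom c)) (add_zero 1) = 0 :=
    @Subsingleton.elim _ hsub _ _
  obtain ⟨x₂, hx₂⟩ := Ext.contravariant_sequence_exact₁ hT (ModuleCat.of A X₁)
    (Ext.mk₀ (ModuleCat.ofHom c)) (add_zero 1) h0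
  obtain ⟨c', rfl⟩ := (Ext.mk₀_bijective _ _).2 x₂
  rw [Ext.mk₀_comp_mk₀] at hx₂
  have h1 := (Ext.mk₀_bijective _ _).1 hx₂
  refine ⟨c'.hom, fun k => ?_⟩
  have h2 := congrArg (fun t => t.hom k) h1
  exact h2

theorem free_of_extend [IsNoetherianRing A] [IsLocalRing A]
    {X₁ M X₃ F : Type u} [AddCommGroup X₁] [Module A X₁] [AddCommGroup M] [Module A M]
    [AddCommGroup X₃] [Module A X₃] [AddCommGroup F] [Module A F] [Module.Free A F]
    [Module.Finite A F]
    (f : X₁ →ₗ[A] M) (g : M →ₗ[A] X₃) (hf : Function.Injective f) (hg : Function.Surjective g)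
    (hex : Function.Exact f g) (e₁ : X₁ ≃ₗ[A] A)
    (φ : F →ₗ[A] X₃) (hK : Module.Free A (LinearMap.ker φ))
    (EXT : ∀ (P : Type u) [AddCommGroup P] [Module A P] (Θ : P →ₗ[A] M),
      Function.Surjective Θ → ∀ c : LinearMap.ker Θ →ₗ[A] X₁,
        ∃ c' : P →ₗ[A] X₁, ∀ k : LinearMap.ker Θ, c' k = c k) :
    Function.Surjective φ → Module.Free A M := by
  intro hφ
  haveI : Module.Free A X₁ := Module.Free.of_equiv e₁.symm
  haveI : Module.Finite A X₁ := Module.Finite.equiv e₁.symm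
  obtain ⟨ψ, hψ⟩ := Module.projective_lifting_property g φ hg
  have hgψ : ∀ v, g (ψ v) = φ v := fun v => LinearMap.congr_fun hψ v
  obtain ⟨Θ, hΘdef⟩ : ∃ Θ : (X₁ × F) →ₗ[A] M, Θ = f.coprod ψ := ⟨_, rfl⟩
  have hΘapp : ∀ a v, Θ (a, v) = f a + ψ v := by
    intro a v
    rw [hΘdef, LinearMap.coprod_apply]
  have hΘ : Function.Surjective Θ := by
    intro m
    obtain ⟨v, hv⟩ := hφ (g m)
    have h1 : g (m - ψ v) = 0 := by
      rw [map_sub, hgψ, hv, sub_self]
    obtain ⟨a, ha⟩ := (hex (m - ψ v)).1 h1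
    refine ⟨(a, v), ?_⟩
    rw [hΘapp, ha, sub_add_cancel]
  have hker : ∀ k : LinearMap.ker Θ, f k.1.1 + ψ k.1.2 = 0 := by
    intro k
    have h1 : Θ k.1 = 0 := k.2
    have h2 : Θ k.1 = f k.1.1 + ψ k.1.2 := hΘapp k.1.1 k.1.2
    rw [← h2, h1]
  let π : LinearMap.ker Θ →ₗ[A] LinearMap.ker φ :=
    LinearMap.codRestrict (LinearMap.ker φ)
      ((LinearMap.snd A X₁ F).comp (LinearMap.ker Θ).subtype) (by
      intro k
      rw [LinearMap.mem_ker]
      show φ k.1.2 = 0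
      have h3 : ψ k.1.2 = -f k.1.1 := eq_neg_of_add_eq_zero_right (hker k)
      rw [← hgψ, h3, map_neg, hex.apply_apply_eq_zero, neg_zero])
  have hπval : ∀ k : LinearMap.ker Θ, (π k).1 = k.1.2 := fun k => rfl
  have hπ_inj : Function.Injective π := by
    rw [injective_iff_map_eq_zero]
    intro k hk0
    have hv : k.1.2 = 0 := by
      rw [← hπval k, hk0]; rfl
    have hk := hker k
    rw [hv, map_zero, add_zero] at hk
    have ha : k.1.1 = 0 := hf (hk.trans (map_zero f).symm)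
    apply Subtype.ext
    exact Prod.ext ha hv
  have hπ_surj : Function.Surjective π := by
    intro v
    have h2 : g (ψ v.1) = 0 := by
      rw [hgψ]; exact v.2
    obtain ⟨a, ha⟩ := (hex (ψ v.1)).1 h2
    have hmem : ((-a, v.1) : X₁ × F) ∈ LinearMap.ker Θ := by
      rw [LinearMap.mem_ker, hΘapp, map_neg, ha, neg_add_cancel]
    exact ⟨⟨(-a, v.1), hmem⟩, Subtype.ext rfl⟩
  let eK : LinearMap.ker Θ ≃ₗ[A] LinearMap.ker φ := LinearEquiv.ofBijective π ⟨hπ_inj, hπ_surj⟩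
  haveI : Module.Free A (LinearMap.ker Θ) := Module.Free.of_equiv eK.symm
  haveI : Module.Finite A (LinearMap.ker Θ) := inferInstance
  let b := Module.Free.chooseBasis A (LinearMap.ker Θ)
  have hext : ∀ j, ∃ c' : (X₁ × F) →ₗ[A] X₁,
      ∀ k : LinearMap.ker Θ, c' k = e₁.symm (b.coord j k) :=
    fun j => EXT (X₁ × F) Θ hΘ (e₁.symm.toLinearMap.comp (b.coord j))
  choose c' hc' using hext
  let r : (X₁ × F) →ₗ[A] LinearMap.ker Θ :=
    ∑ j, (e₁.toLinearMap.comp (c' j)).smulRight (b j)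
  have hr : ∀ k : LinearMap.ker Θ, r k.1 = k := by
    intro k
    show (∑ j, (e₁.toLinearMap.comp (c' j)).smulRight (b j)) k.1 = k
    rw [LinearMap.sum_apply]
    have h4 : ∀ j, ((e₁.toLinearMap.comp (c' j)).smulRight (b j)) k.1 = b.repr k j • b j := by
      intro j
      rw [LinearMap.smulRight_apply, LinearMap.comp_apply, hc' j k]
      simp
    rw [Finset.sum_congr rfl (fun j _ => h4 j)]
    exact b.sum_repr k
  have hexK : Function.Exact (LinearMap.ker Θ).subtype Θ := LinearMap.exact_subtype_ker_map Θ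
  have hret : ∃ l, l ∘ₗ (LinearMap.ker Θ).subtype = LinearMap.id := ⟨r, LinearMap.ext hr⟩
  have hsplit : ∃ l, Θ ∘ₗ l = LinearMap.id :=
    ((hexK.split_tfae (LinearMap.ker Θ).injective_subtype hΘ).out 1 0).1 hret
  obtain ⟨s, hs⟩ := hsplit
  haveI : Module.Projective A M := Module.Projective.of_split s Θ hs
  haveI : Module.Finite A M := Module.Finite.of_surjective Θ hΘ
  exact Module.free_of_flat_of_isLocalRing

theorem main (A : Type u) [CommRing A] [IsNoetherianRing A] [IsLocalRing A]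
    (I : Ideal A)
    (hres : ∃ (q : ℕ) (φ : (Fin q → A) →ₗ[A] ↥I),
      Function.Surjective φ ∧ Module.Free A ↥(LinearMap.ker φ))
    (S : ShortComplex (ModuleCat.{u} A)) (hS : S.ShortExact)
    (h₁ : Nonempty (S.X₁ ≅ ModuleCat.of A A)) (h₃ : Nonempty (S.X₃ ≅ ModuleCat.of A ↥I)) :
    Module.Free A S.X₂ ↔
      ∀ x : Abelian.Ext S.X₃ S.X₁ 1, ∃ f : S.X₁ ⟶ S.X₁,
        hS.extClass.comp (Abelian.Ext.mk₀ f) (add_zero 1) = x := by
  obtain ⟨i₁⟩ := h₁
  obtain ⟨i₃⟩ := h₃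
  obtain ⟨q, φ, hφ, hK⟩ := hres
  haveI : Projective S.X₁ := Projective.of_iso i₁.symm inferInstance
  refine Iff.trans ?_ (gen_iff S hS).symm
  constructor
  · intro hfree
    haveI := hfree
    exact Ext.subsingleton_of_projective S.X₂ S.X₁ 0
  · intro hsub
    have hex : Function.Exact S.f.hom S.g.hom :=
      (ShortComplex.ShortExact.moduleCat_exact_iff_function_exact S).1 hS.exact
    have hex' : Function.Exact S.f.hom (i₃.toLinearEquiv.toLinearMap ∘ₗ S.g.hom) := by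
      intro y
      rw [← hex y]
      exact i₃.toLinearEquiv.map_eq_zero_iff
    exact free_of_extend S.f.hom (i₃.toLinearEquiv.toLinearMap ∘ₗ S.g.hom)
      hS.moduleCat_injective_f
      (i₃.toLinearEquiv.surjective.comp hS.moduleCat_surjective_g) hex' i₁.toLinearEquiv φ hK
      (fun P _ _ Θ hΘ c => extend_of_ext_vanish hsub P Θ hΘ c) hφ

end Groth.Agent.Helper8.SerreFree
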