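import Mathlib

set_option autoImplicit false

namespace Groth.Agent.Helper8.SerreUniq

open CategoryTheory

universe w v u

section LA

variable {k : Type*} [Field k] {V W : Type*} [AddCommGroup V] [Module k V] [AddCommGroup W]
  [Module k W] [Module.Finite k W]

/-- The transpose of a perfect pairing. -/
noncomputable def flipEquiv (e : V ≃ₗ[k] Module.Dual k W) : W ≃ₗ[k] Module.Dual k V :=
  (Module.evalEquiv k W).trans e.dualMap

lemma flipEquiv_apply (e : V ≃ₗ[k] Module.Dual k W) (w : W) (v : V) :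
    flipEquiv e w v = e v w := by
  simp [flipEquiv]

lemma eq_of_forall_pair (e : V ≃ₗ[k] Module.Dual k W) (w w' : W) (h : ∀ v, e v w = e v w') :
    w = w' := by
  apply (flipEquiv e).injective
  ext v
  rw [flipEquiv_apply, flipEquiv_apply, h]

lemma exists_of_dual (e : V ≃ₗ[k] Module.Dual k W) (t : Module.Dual k V) :
    ∃ w : W, ∀ v, e v w = t v := by
  refine ⟨(flipEquiv e).symm t, fun v => ?_⟩
  rw [← flipEquiv_apply, LinearEquiv.apply_symm_apply]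

end LA

variable {k : Type w} [Field k]
  {T : Type u} [Category.{v} T] [Preadditive T] [Linear k T]
  [∀ X Y : T, Module.Finite k (X ⟶ Y)]

/-- One-sided Serre data: an endofunctor with a left-natural perfect pairing. -/
structure Data (S : T ⥤ T) where
  c : ∀ X Y : T, (X ⟶ Y) ≃ₗ[k] Module.Dual k (Y ⟶ S.obj X)
  hc₁ : ∀ (X Y Y' : T) (f : X ⟶ Y) (g : Y ⟶ Y'),
      c X Y' (f ≫ g) = (c X Y f) ∘ₗ Linear.leftComp k (S.obj X) g
  hc₂ : ∀ (X' X Y : T) (a : X' ⟶ X) (f : X ⟶ Y),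
      c X' Y (a ≫ f) = (c X Y f) ∘ₗ Linear.rightComp k Y (S.map a)

namespace Data

variable {S S' : T ⥤ T} (d : Data (k := k) S) (d' : Data (k := k) S')

lemma c_apply (X Y : T) (f : X ⟶ Y) (ψ : Y ⟶ S.obj X) :
    d.c X Y f ψ = d.c X X (𝟙 X) (f ≫ ψ) := by
  have := d.hc₁ X X Y (𝟙 X) f
  rw [Category.id_comp] at this
  rw [this]
  rfl

lemma c_comp (X Y Y' : T) (f : X ⟶ Y) (g : Y ⟶ Y') (ψ : Y' ⟶ S.obj X) :
    d.c X Y' (f ≫ g) ψ = d.c X Y f (g ≫ ψ) := by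
  rw [d.hc₁]; rfl

lemma c_comp' (X' X Y : T) (a : X' ⟶ X) (f : X ⟶ Y) (ψ : Y ⟶ S.obj X') :
    d.c X' Y (a ≫ f) ψ = d.c X Y f (ψ ≫ S.map a) := by
  rw [d.hc₂]; rfl

/-- The comparison morphism. -/
noncomputable def comp (X : T) : S.obj X ⟶ S'.obj X :=
  (exists_of_dual (d'.c X (S.obj X)) (d.c X X (𝟙 X))).choose

lemma comp_spec (X : T) (g : X ⟶ S.obj X) :
    d'.c X (S.obj X) g (comp d d' X) = d.c X X (𝟙 X) g :=
  (exists_of_dual (d'.c X (S.obj X)) (d.c X X (𝟙 X))).choose_spec g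

lemma compat (X Y : T) (f : X ⟶ Y) (ψ : Y ⟶ S.obj X) :
    d.c X Y f ψ = d'.c X Y f (ψ ≫ comp d d' X) := by
  rw [d.c_apply, ← comp_spec d d', d'.c_comp]

lemma comp_unique (X : T) (χ : S.obj X ⟶ S'.obj X)
    (h : ∀ g : X ⟶ S.obj X, d.c X (S.obj X) g (𝟙 _) = d'.c X (S.obj X) g χ) :
    χ = comp d d' X := by
  apply eq_of_forall_pair (d'.c X (S.obj X))
  intro g
  rw [comp_spec, ← h g, d.c_apply, Category.comp_id]

lemma comp_comp (X : T) : comp d d' X ≫ comp d' d X = 𝟙 _ := by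
  apply eq_of_forall_pair (d.c X (S.obj X))
  intro g
  have h1 := compat d d' X _ g (𝟙 _)
  have h2 := compat d' d X _ g (𝟙 _ ≫ comp d d' X)
  rw [h1, h2]
  simp

lemma comp_naturality {X' X : T} (a : X' ⟶ X) :
    S.map a ≫ comp d d' X = comp d d' X' ≫ S'.map a := by
  apply eq_of_forall_pair (d'.c X (S.obj X'))
  intro g
  rw [← d'.c_comp, comp_spec, ← d'.c_comp', comp_spec, ← d.c_comp', Category.comp_id,
    ← d.c_comp, Category.id_comp]

/-- The comparison isomorphism. -/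
noncomputable def compIso : S ≅ S' :=
  NatIso.ofComponents (fun X => ⟨comp d d' X, comp d' d X, comp_comp d d' X, comp_comp d' d X⟩)
    (fun a => comp_naturality d d' a)

end Data

theorem main
    (S : T ≌ T)
    (c : ∀ X Y : T, (X ⟶ Y) ≃ₗ[k] Module.Dual k (Y ⟶ S.functor.obj X))
    (hc₁ : ∀ (X Y Y' : T) (f : X ⟶ Y) (g : Y ⟶ Y'),
      c X Y' (f ≫ g) = (c X Y f) ∘ₗ Linear.leftComp k (S.functor.obj X) g)
    (hc₂ : ∀ (X' X Y : T) (a : X' ⟶ X) (f : X ⟶ Y),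
      c X' Y (a ≫ f) = (c X Y f) ∘ₗ Linear.rightComp k Y (S.functor.map a))
    (S' : T ≌ T)
    (c' : ∀ X Y : T, (X ⟶ Y) ≃ₗ[k] Module.Dual k (Y ⟶ S'.functor.obj X))
    (hc'₁ : ∀ (X Y Y' : T) (f : X ⟶ Y) (g : Y ⟶ Y'),
      c' X Y' (f ≫ g) = (c' X Y f) ∘ₗ Linear.leftComp k (S'.functor.obj X) g)
    (hc'₂ : ∀ (X' X Y : T) (a : X' ⟶ X) (f : X ⟶ Y),
      c' X' Y (a ≫ f) = (c' X Y f) ∘ₗ Linear.rightComp k Y (S'.functor.map a)) :
    ∃! φ : S.functor ≅ S'.functor, ∀ (X Y : T) (f : X ⟶ Y),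
      c X Y f = (c' X Y f) ∘ₗ Linear.rightComp k Y (φ.hom.app X) := by
  let d : Data (k := k) S.functor := ⟨c, hc₁, hc₂⟩
  let d' : Data (k := k) S'.functor := ⟨c', hc'₁, hc'₂⟩
  refine ⟨Data.compIso d d', ?_, ?_⟩
  · intro X Y f
    ext ψ
    exact Data.compat d d' X Y f ψ
  · intro φ hφ
    ext X
    apply Data.comp_unique d d'
    intro g
    have := LinearMap.congr_fun (hφ X _ g) (𝟙 _)
    simp only [LinearMap.comp_apply, Linear.rightComp_apply, Category.id_comp] at this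
    exact this

end Groth.Agent.Helper8.SerreUniq
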