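import Mathlib
import Groth.Agent.Helper8.SerreUniq

set_option autoImplicit false

namespace Groth.Agent.Helper8.SerreRep

open CategoryTheory
open Groth.Agent.Helper8.SerreUniq (flipEquiv flipEquiv_apply)

universe w v u

/-- Representing data for the dual Hom functors. -/
structure Rep (k : Type w) [Field k] (T : Type u) [Category.{v} T] [Preadditive T] [Linear k T] where
  S₀ : T → T
  e : ∀ X Y : T, (Y ⟶ S₀ X) ≃ₗ[k] Module.Dual k (X ⟶ Y)
  he : ∀ (X Y Y' : T) (g : Y' ⟶ Y) (f : Y ⟶ S₀ X),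
    e X Y' (g ≫ f) = (e X Y f) ∘ₗ Linear.rightComp k X g

variable {k : Type w} [Field k]
  {T : Type u} [Category.{v} T] [Preadditive T] [Linear k T]

namespace Rep

variable (d : Rep k T)

/-- The trace functional. -/
noncomputable def tr (X : T) : Module.Dual k (X ⟶ d.S₀ X) := d.e X (d.S₀ X) (𝟙 _)

lemma e_apply (X Y : T) (f : Y ⟶ d.S₀ X) (φ : X ⟶ Y) : d.e X Y f φ = d.tr X (φ ≫ f) := by
  have := d.he X (d.S₀ X) Y f (𝟙 _)
  rw [Category.comp_id] at this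
  rw [this]
  rfl

lemma ext_tr {X Y : T} (f f' : Y ⟶ d.S₀ X)
    (h : ∀ φ : X ⟶ Y, d.tr X (φ ≫ f) = d.tr X (φ ≫ f')) : f = f' := by
  apply (d.e X Y).injective
  ext φ
  rw [e_apply, e_apply, h]

lemma exists_tr {X Y : T} (t : Module.Dual k (X ⟶ Y)) :
    ∃ f : Y ⟶ d.S₀ X, ∀ φ, d.tr X (φ ≫ f) = t φ := by
  refine ⟨(d.e X Y).symm t, fun φ => ?_⟩
  rw [← e_apply, LinearEquiv.apply_symm_apply]

/-- The action on morphisms. -/
noncomputable def map {X' X : T} (a : X' ⟶ X) : d.S₀ X' ⟶ d.S₀ X :=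
  (d.exists_tr (X := X) (Y := d.S₀ X')
    ((d.tr X').comp (Linear.leftComp k (d.S₀ X') a))).choose

lemma map_spec {X' X : T} (a : X' ⟶ X) (φ : X ⟶ d.S₀ X') :
    d.tr X (φ ≫ d.map a) = d.tr X' (a ≫ φ) :=
  (d.exists_tr (X := X) (Y := d.S₀ X')
    ((d.tr X').comp (Linear.leftComp k (d.S₀ X') a))).choose_spec φ

/-- The Serre functor. -/
noncomputable def functor : T ⥤ T where
  obj := d.S₀
  map a := d.map a
  map_id X := d.ext_tr _ _ fun φ => by rw [map_spec, Category.id_comp, Category.comp_id]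
  map_comp {X'' X' X} a' a := d.ext_tr _ _ fun φ => by
    rw [map_spec, ← Category.assoc φ, map_spec, ← Category.assoc a, map_spec, Category.assoc]

lemma functor_map {X' X : T} (a : X' ⟶ X) : d.functor.map a = d.map a := rfl

instance : d.functor.Additive where
  map_add {X' X a b} := by
    show d.map (a + b) = d.map a + d.map b
    refine d.ext_tr _ _ fun φ => ?_
    rw [Preadditive.comp_add, map_add, map_spec, map_spec, map_spec, Preadditive.add_comp,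
      map_add]

instance : d.functor.Linear k where
  map_smul {X' X} a r := by
    show d.map (r • a) = r • d.map a
    refine d.ext_tr _ _ fun φ => ?_
    rw [Linear.comp_smul, map_smul, map_spec, map_spec, Linear.smul_comp, map_smul]

variable [∀ X Y : T, Module.Finite k (X ⟶ Y)]

/-- The Serre pairing. -/
noncomputable def c (X Y : T) : (X ⟶ Y) ≃ₗ[k] Module.Dual k (Y ⟶ d.S₀ X) :=
  flipEquiv (d.e X Y)

lemma c_apply (X Y : T) (φ : X ⟶ Y) (f : Y ⟶ d.S₀ X) : d.c X Y φ f = d.tr X (φ ≫ f) := by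
  rw [c, flipEquiv_apply, e_apply]

lemma map_bijective (X' X : T) : Function.Bijective (fun a : X' ⟶ X => d.functor.map a) := by
  show Function.Bijective (fun a : X' ⟶ X => d.map a)
  have h : (d.e X (d.S₀ X')) ∘ (fun a : X' ⟶ X => d.map a) = fun a => d.c X' X a := by
    funext a
    ext φ
    show d.e X (d.S₀ X') (d.map a) φ = _
    rw [e_apply, map_spec, c_apply]
  have hb : Function.Bijective ((d.e X (d.S₀ X')) ∘ (fun a : X' ⟶ X => d.map a)) := by
    rw [h]; exact (d.c X' X).bijective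
  exact (Function.Bijective.of_comp_iff' (d.e X (d.S₀ X')).bijective _).1 hb

lemma full : d.functor.Full := ⟨fun f => (d.map_bijective _ _).2 f⟩

lemma faithful : d.functor.Faithful := ⟨fun h => (d.map_bijective _ _).1 h⟩

lemma essSurj
    (h : ∀ X : T, ∃ (RX : T) (e : ∀ Y : T, (RX ⟶ Y) ≃ₗ[k] Module.Dual k (Y ⟶ X)),
        ∀ (Y Y' : T) (g : Y ⟶ Y') (f : RX ⟶ Y),
          e Y' (f ≫ g) = (e Y f) ∘ₗ Linear.leftComp k X g) : d.functor.EssSurj := by
  refine ⟨fun X => ?_⟩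
  obtain ⟨RX, e', he'⟩ := h X
  let θ : ∀ Y : T, (Y ⟶ d.S₀ RX) ≃ₗ[k] (Y ⟶ X) := fun Y =>
    (d.e RX Y) ≪≫ₗ (flipEquiv (e' Y)).symm
  have θ_spec : ∀ (Y : T) (f : Y ⟶ d.S₀ RX) (ρ : RX ⟶ Y), e' Y ρ (θ Y f) = d.e RX Y f ρ := by
    intro Y f ρ
    rw [← flipEquiv_apply]
    show flipEquiv (e' Y) ((flipEquiv (e' Y)).symm (d.e RX Y f)) ρ = _
    rw [LinearEquiv.apply_symm_apply]
  have θ_nat : ∀ (Y Y' : T) (g : Y' ⟶ Y) (f : Y ⟶ d.S₀ RX), θ Y' (g ≫ f) = g ≫ θ Y f := by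
    intro Y Y' g f
    apply (flipEquiv (e' Y')).injective
    ext ρ'
    rw [flipEquiv_apply, flipEquiv_apply, θ_spec, e_apply]
    have h1 := he' Y' Y g ρ'
    have h2 : e' Y (ρ' ≫ g) (θ Y f) = e' Y' ρ' (g ≫ θ Y f) := by rw [h1]; rfl
    rw [← h2, θ_spec, e_apply, Category.assoc]
  have θ_eq : ∀ (Y : T) (f : Y ⟶ d.S₀ RX), θ Y f = f ≫ θ (d.S₀ RX) (𝟙 _) := by
    intro Y f
    rw [← θ_nat, Category.comp_id]
  have iso : d.S₀ RX ≅ X := by
    refine ⟨θ (d.S₀ RX) (𝟙 _), (θ X).symm (𝟙 _), ?_, ?_⟩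
    · apply (θ (d.S₀ RX)).injective
      rw [θ_eq _ (_ ≫ _), Category.assoc, ← θ_eq, LinearEquiv.apply_symm_apply, Category.comp_id]
    · rw [← θ_eq, LinearEquiv.apply_symm_apply]
  exact ⟨RX, ⟨iso⟩⟩

end Rep

theorem main
    {k : Type w} [Field k]
    {T : Type u} [Category.{v} T] [Preadditive T] [Linear k T]
    [∀ X Y : T, Module.Finite k (X ⟶ Y)] :
    (∃ (S : T ≌ T) (_ : S.functor.Additive) (_ : S.functor.Linear k)
        (c : ∀ X Y : T, (X ⟶ Y) ≃ₗ[k] Module.Dual k (Y ⟶ S.functor.obj X)),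
        (∀ (X Y Y' : T) (f : X ⟶ Y) (g : Y ⟶ Y'),
          c X Y' (f ≫ g) = (c X Y f) ∘ₗ Linear.leftComp k (S.functor.obj X) g) ∧
        (∀ (X' X Y : T) (a : X' ⟶ X) (f : X ⟶ Y),
          c X' Y (a ≫ f) = (c X Y f) ∘ₗ Linear.rightComp k Y (S.functor.map a))) ↔
    ((∀ X : T, ∃ (SX : T) (e : ∀ Y : T, (Y ⟶ SX) ≃ₗ[k] Module.Dual k (X ⟶ Y)),
        ∀ (Y Y' : T) (g : Y' ⟶ Y) (f : Y ⟶ SX),
          e Y' (g ≫ f) = (e Y f) ∘ₗ Linear.rightComp k X g) ∧
      (∀ X : T, ∃ (RX : T) (e : ∀ Y : T, (RX ⟶ Y) ≃ₗ[k] Module.Dual k (Y ⟶ X)),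
        ∀ (Y Y' : T) (g : Y ⟶ Y') (f : RX ⟶ Y),
          e Y' (f ≫ g) = (e Y f) ∘ₗ Linear.leftComp k X g)) := by
  constructor
  · rintro ⟨S, _, _, c, hc₁, hc₂⟩
    refine ⟨fun X => ⟨S.functor.obj X, fun Y => flipEquiv (c X Y), ?_⟩,
      fun X => ⟨S.inverse.obj X, fun Y => (c (S.inverse.obj X) Y) ≪≫ₗ
        (Linear.homCongr k (Iso.refl Y) (S.counitIso.app X).symm).dualMap, ?_⟩⟩
    · intro Y Y' g f
      ext φ
      show flipEquiv (c X Y') (g ≫ f) φ = flipEquiv (c X Y) f (φ ≫ g)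
      rw [flipEquiv_apply, flipEquiv_apply, hc₁]
      rfl
    · intro Y Y' g f
      ext ψ
      show c (S.inverse.obj X) Y' (f ≫ g)
          (Linear.homCongr k (Iso.refl Y') (S.counitIso.app X).symm ψ) =
        c (S.inverse.obj X) Y f
          (Linear.homCongr k (Iso.refl Y) (S.counitIso.app X).symm (g ≫ ψ))
      rw [hc₁]
      simp [Linear.homCongr_apply]
  · rintro ⟨h1, h2⟩
    choose S₀ e he using h1
    let d : Rep k T := ⟨S₀, e, he⟩
    haveI : d.functor.IsEquivalence :=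
      { faithful := d.faithful, full := d.full, essSurj := d.essSurj h2 }
    refine ⟨d.functor.asEquivalence, (inferInstance : d.functor.Additive),
      (inferInstance : d.functor.Linear k), d.c, ?_, ?_⟩
    · intro X Y Y' f g
      refine LinearMap.ext fun (ψ : Y' ⟶ d.S₀ X) => ?_
      show d.c X Y' (f ≫ g) ψ = d.c X Y f (g ≫ ψ)
      rw [Rep.c_apply, Rep.c_apply, Category.assoc]
    · intro X' X Y a f
      refine LinearMap.ext fun (ψ : Y ⟶ d.S₀ X') => ?_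
      show d.c X' Y (a ≫ f) ψ = d.c X Y f (ψ ≫ d.map a)
      rw [Rep.c_apply, Rep.c_apply, ← Category.assoc, Rep.map_spec, Category.assoc]

end Groth.Agent.Helper8.SerreRep
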