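import Mathlib
import Groth.Agent.Helper8.EpsG

/-!
# ShC: a finite normal extension of `K` absorbing a finite extension of an algebraic extension `K'`
-/

set_option autoImplicit false
universe u

namespace Groth.Agent.Helper8.Sh

open Polynomial

theorem exists_K2 (K K' K₁' : Type u) [Field K] [Field K'] [Field K₁'] [Algebra K K']
    [Algebra K' K₁'] [Algebra.IsAlgebraic K K'] [FiniteDimensional K' K₁'] :
    ∃ (K₂ : Type u) (_ : Field K₂) (_ : Algebra K K₂), FiniteDimensional K K₂ ∧
      (Algebra.IsSeparable K K' → Algebra.IsSeparable K' K₁' → Algebra.IsSeparable K K₂) ∧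
      ∀ (M : Type u) [Field M] [Algebra K M] [Algebra K' M] [Algebra K₂ M]
        [IsScalarTower K K' M] [IsScalarTower K K₂ M],
        ∃ ι : K₁' →ₐ[K'] M, ∀ x, ι x ∈ Eps.Comp K' K₂ M := by
  classical
  letI algKK₁ : Algebra K K₁' := ((algebraMap K' K₁').comp (algebraMap K K')).toAlgebra
  haveI : IsScalarTower K K' K₁' := IsScalarTower.of_algebraMap_eq' rfl
  haveI : Algebra.IsAlgebraic K' K₁' := Algebra.IsAlgebraic.of_finite K' K₁'
  haveI : Algebra.IsAlgebraic K K₁' := Algebra.IsAlgebraic.trans K K' K₁'
  obtain ⟨s, hs⟩ := (Module.finite_def.1 (inferInstance : Module.Finite K' K₁'))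
  let p : K[X] := ∏ b ∈ s, minpoly K b
  have hint : ∀ b : K₁', IsIntegral K b := fun b => Algebra.IsIntegral.isIntegral b
  have hpmonic : p.Monic := monic_prod_of_monic _ _ (fun b _ => minpoly.monic (hint b))
  have hdvd : ∀ b ∈ s, minpoly K b ∣ p := fun b hb => Finset.dvd_prod_of_mem _ hb
  refine ⟨p.SplittingField, inferInstance, inferInstance,
    Polynomial.IsSplittingField.finiteDimensional p.SplittingField p, ?_, ?_⟩
  · intro h1 h2
    haveI : Algebra.IsSeparable K K₁' := Algebra.IsSeparable.trans K K' K₁'
    have sp : p.IsSplittingField K p.SplittingField := inferInstance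
    rw [← IntermediateField.isSeparable_top (F := K) (E := p.SplittingField),
      ← (_root_.isSplittingField_iff_intermediateField.mp sp).2,
      IntermediateField.isSeparable_adjoin_iff_isSeparable]
    intro x hx
    have hx0 : aeval x p = 0 := aeval_eq_zero_of_mem_rootSet hx
    rw [map_prod, Finset.prod_eq_zero_iff] at hx0
    obtain ⟨b, hb, hb0⟩ := hx0
    have hsep : (minpoly K b).Separable := Algebra.IsSeparable.isSeparable K b
    exact hsep.of_dvd (minpoly.dvd K x hb0)
  · intro M _ _ _ _ _ _
    have hsplit : (p.map (algebraMap K p.SplittingField)).Splits := SplittingField.splits p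
    let F : IntermediateField K' M := Eps.Comp K' p.SplittingField M
    let j : p.SplittingField →+* F := algebraMap p.SplittingField F
    have hj : j.comp (algebraMap K p.SplittingField) = (algebraMap K' F).comp (algebraMap K K') := by
      ext x
      show algebraMap p.SplittingField M (algebraMap K p.SplittingField x) =
        algebraMap K' M (algebraMap K K' x)
      rw [← IsScalarTower.algebraMap_apply, ← IsScalarTower.algebraMap_apply]
    have hadj : IntermediateField.adjoin K' (s : Set K₁') = ⊤ := by
      apply IntermediateField.adjoin_eq_top_of_algebra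
      rw [eq_top_iff]
      intro x _
      have hx : x ∈ Submodule.span K' (s : Set K₁') := by rw [hs]; trivial
      exact Algebra.span_le_adjoin K' _ hx
    have hK : ∀ b ∈ (s : Set K₁'), IsIntegral K' b ∧
        ((minpoly K' b).map (algebraMap K' F)).Splits := by
      intro b hb
      refine ⟨Algebra.IsIntegral.isIntegral b, ?_⟩
      have h1 : ((minpoly K b).map (algebraMap K p.SplittingField)).Splits :=
        Splits.of_dvd hsplit (Polynomial.map_monic_ne_zero hpmonic)
          (Polynomial.map_dvd _ (hdvd b hb))
      have h2 : (((minpoly K b).map (algebraMap K p.SplittingField)).map j).Splits := h1.map j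
      rw [Polynomial.map_map, hj, ← Polynomial.map_map] at h2
      refine Splits.of_dvd h2 ?_ (Polynomial.map_dvd _ (minpoly.dvd_map_of_isScalarTower K K' b))
      exact Polynomial.map_monic_ne_zero ((minpoly.monic (hint b)).map _)
    obtain ⟨φ⟩ := IntermediateField.nonempty_algHom_of_adjoin_splits hK hadj
    exact ⟨F.val.comp φ, fun x => (φ x).2⟩

end Groth.Agent.Helper8.Sh
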