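import Mathlib
import Groth.Prelude.Def_EtRam
import Groth.Agent.Helper8.EpD
import Groth.Agent.Helper8.EpsG
import Groth.Agent.Helper8.EpsH
import Groth.Agent.Helper8.ShA
import Groth.Agent.Helper8.ShC

/-!
# ShD: descent of solutions along an unramified algebraic extension of the base DVR
-/

set_option autoImplicit false
set_option linter.unusedSectionVars false
set_option maxHeartbeats 1000000
universe u

namespace Groth.Agent.Helper8.Sh

open IsLocalRing Groth.Agent.Helper7

section GoUp

variable (A' B' K' L' : Type u)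
  [CommRing A'] [IsDomain A'] [IsDiscreteValuationRing A']
  [CommRing B'] [IsDomain B'] [IsDiscreteValuationRing B']
  [Algebra A' B'] [IsLocalHom (algebraMap A' B')]
  [Field K'] [Field L'] [Algebra A' K'] [IsFractionRing A' K'] [Algebra B' L']
  [IsFractionRing B' L']
  [Algebra K' L'] [Algebra A' L'] [IsScalarTower A' K' L'] [IsScalarTower A' B' L']
  (K₁' : Type u) [Field K₁'] [Algebra K' K₁'] [FiniteDimensional K' K₁']
  (F : Type u) [Field F] [Algebra K₁' F] [FiniteDimensional K₁' F]
  (M : Type u) [Field M] [Algebra K' M] [Algebra L' M] [Algebra K₁' M] [Algebra F M]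
  [IsScalarTower K' L' M] [IsScalarTower K' K₁' M] [IsScalarTower K₁' F M]
  (W : ValuationSubring M)

local notation "M₁" => Eps.Comp L' K₁' M
local notation "W₁" => ValuationSubring.comap W (algebraMap (Eps.Comp L' K₁' M) M)
local notation "V₁" => ValuationSubring.comap
  (ValuationSubring.comap W (algebraMap (Eps.Comp L' K₁' M) M))
  (algebraMap K₁' (Eps.Comp L' K₁' M))

include A' in
/-- if `K₁'` is a solution, then so is every finite extension `F` of `K₁'` (local form) -/
theorem go_up (hsol : EtRam.IsSolution B' K' L' K₁')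
    (hadj : Algebra.adjoin L' (Set.range (algebraMap F M)) = ⊤)
    (hW : EtRam.Dominates B' ((algebraMap L' M).comp (algebraMap B' L')) W) :
    DomVal.WU W (algebraMap F M) ∧ DomVal.GR W (algebraMap F M) := by
  classical
  haveI : Algebra.IsAlgebraic K' K₁' := Algebra.IsAlgebraic.of_finite K' K₁'
  have hadj₁ : Algebra.adjoin L' (Set.range (algebraMap K₁' M₁)) = ⊤ :=
    Eps.Comp.adjoin_eq_top L' K₁' M K'
  haveI : FiniteDimensional L' M₁ := Eps.finiteDimensional_of_adjoin (K := K') hadj₁
  have hW₁ : EtRam.Dominates B' ((algebraMap L' M₁).comp (algebraMap B' L')) W₁ :=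
    Eps.dominates_comp M₁ W hW
  have h₁ := hsol M₁ hadj₁ W₁ hW₁
  have h₁wu : DomVal.WU W₁ (algebraMap K₁' M₁) := h₁.1
  have h₁gr : DomVal.GR W₁ (algebraMap K₁' M₁) := h₁.2
  -- uniformizers
  obtain ⟨πB, hπB⟩ := IsDiscreteValuationRing.exists_irreducible B'
  obtain ⟨πA, hπA⟩ := IsDiscreteValuationRing.exists_irreducible A'
  have hπBm : πB ∈ maximalIdeal B' := by
    rw [hπB.maximalIdeal_eq]; exact Ideal.mem_span_singleton_self πB
  have hπAm : πA ∈ maximalIdeal A' := by
    rw [hπA.maximalIdeal_eq]; exact Ideal.mem_span_singleton_self πA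
  have hπAB : algebraMap A' B' πA ∈ maximalIdeal B' := by
    rw [mem_maximalIdeal] at hπAm ⊢
    exact (map_mem_nonunits_iff (algebraMap A' B') πA).2 hπAm
  -- `W₁` is a DVR
  letI algB'M₁ : Algebra B' M₁ := ((algebraMap L' M₁).comp (algebraMap B' L')).toAlgebra
  haveI : IsScalarTower B' L' M₁ := IsScalarTower.of_algebraMap_eq' rfl
  have hπB0 : algebraMap B' M₁ πB ≠ 0 := by
    intro h
    refine hπB.ne_zero (((algebraMap L' M₁).injective.comp (IsFractionRing.injective B' L')) ?_)
    show algebraMap L' M₁ (algebraMap B' L' πB) = algebraMap L' M₁ (algebraMap B' L' 0)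
    rw [map_zero, map_zero]
    exact h
  have hW₁top : W₁ ≠ ⊤ :=
    Eps.ne_top_of_val_lt_one W₁ (algebraMap B' M₁ πB) hπB0 (hW₁.2 πB hπBm)
  obtain ⟨hDVRW, -⟩ := Ep.dvr_package L' W₁ (fun r => hW₁.1 r) hW₁top
  haveI := hDVRW
  -- `V₁` is a DVR
  letI algA'K₁ : Algebra A' K₁' := ((algebraMap K' K₁').comp (algebraMap A' K')).toAlgebra
  haveI : IsScalarTower A' K' K₁' := IsScalarTower.of_algebraMap_eq' rfl
  have hcompA : ∀ a : A', algebraMap M₁ M (algebraMap K₁' M₁ (algebraMap A' K₁' a)) =
      algebraMap L' M (algebraMap B' L' (algebraMap A' B' a)) := by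
    intro a
    show algebraMap K₁' M (algebraMap K' K₁' (algebraMap A' K' a)) = _
    rw [← IsScalarTower.algebraMap_apply K' K₁' M, IsScalarTower.algebraMap_apply K' L' M,
      ← IsScalarTower.algebraMap_apply A' K' L', IsScalarTower.algebraMap_apply A' B' L']
  have hV₁mem : ∀ a : A', algebraMap A' K₁' a ∈ V₁ := by
    intro a
    show algebraMap M₁ M (algebraMap K₁' M₁ (algebraMap A' K₁' a)) ∈ W
    rw [hcompA]
    exact hW.1 _
  have hπA0 : algebraMap A' K₁' πA ≠ 0 := by
    intro h
    refine hπA.ne_zero (((algebraMap K' K₁').injective.comp (IsFractionRing.injective A' K')) ?_)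
    show algebraMap K' K₁' (algebraMap A' K' πA) = algebraMap K' K₁' (algebraMap A' K' 0)
    rw [map_zero, map_zero]
    exact h
  have hV₁top : V₁ ≠ ⊤ := by
    refine Eps.ne_top_of_val_lt_one V₁ (algebraMap A' K₁' πA) hπA0 ?_
    rw [DomVal.valuation_comap_lt_one_iff, DomVal.valuation_comap_lt_one_iff, hcompA]
    exact hW.2 _ hπAB
  obtain ⟨hDVRV, -⟩ := Ep.dvr_package K' V₁ hV₁mem hV₁top
  haveI := hDVRV
  -- the local extension `V₁ → W₁`
  letI algVW : Algebra V₁ W₁ := (EtRam.inclOfComap W₁ (algebraMap K₁' M₁)).toAlgebra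
  haveI : IsLocalHom (algebraMap V₁ W₁) := EtRam.isLocalHom_inclOfComap W₁ (algebraMap K₁' M₁)
  letI algVM₁ : Algebra V₁ M₁ := ((algebraMap K₁' M₁).comp (algebraMap V₁ K₁')).toAlgebra
  haveI : IsScalarTower V₁ K₁' M₁ := IsScalarTower.of_algebraMap_eq' rfl
  haveI : IsScalarTower V₁ W₁ M₁ := IsScalarTower.of_algebraMap_eq (fun x => rfl)
  haveI : Algebra.IsGeometricallyReduced (ResidueField V₁) (ResidueField W₁) := by
    rw [resAlg_eq]
    exact h₁gr
  have hadj₂ : Algebra.adjoin M₁ (Set.range (algebraMap F M)) = ⊤ := by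
    have key : ∀ x : M, x ∈ Algebra.adjoin L' (Set.range (algebraMap F M)) →
        x ∈ Algebra.adjoin M₁ (Set.range (algebraMap F M)) := by
      intro x hx
      induction hx using Algebra.adjoin_induction with
      | mem x hx => exact Algebra.subset_adjoin hx
      | algebraMap l =>
        have : algebraMap L' M l = algebraMap M₁ M (algebraMap L' M₁ l) := rfl
        rw [this]
        exact Subalgebra.algebraMap_mem _ _
      | add x y _ _ hx hy => exact add_mem hx hy
      | mul x y _ _ hx hy => exact mul_mem hx hy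
    rw [eq_top_iff]
    intro x _
    exact key x (by rw [hadj]; trivial)
  have hW₂ : EtRam.Dominates W₁ ((algebraMap M₁ M).comp (algebraMap W₁ M₁)) W := by
    refine ⟨fun w => w.2, fun w hw => ?_⟩
    rw [DomVal.mem_maximalIdeal_iff, DomVal.valuation_comap_lt_one_iff] at hw
    exact hw
  exact Ep.main_local V₁ W₁ K₁' M₁ F M h₁wu hadj₂ W hW₂

end GoUp

section CoreLocal

variable (A A' B' K K' L' : Type u)
  [CommRing A] [IsDomain A] [IsDiscreteValuationRing A]
  [CommRing A'] [IsDomain A'] [IsDiscreteValuationRing A']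
  [CommRing B'] [IsDomain B'] [IsDiscreteValuationRing B']
  [Algebra A A'] [IsLocalHom (algebraMap A A')]
  [Algebra A' B'] [IsLocalHom (algebraMap A' B')]
  [Field K] [Field K'] [Field L']
  [Algebra A K] [IsFractionRing A K] [Algebra A' K'] [IsFractionRing A' K'] [Algebra B' L']
  [IsFractionRing B' L']
  [Algebra K K'] [Algebra A K'] [IsScalarTower A K K'] [IsScalarTower A A' K']
  [Algebra K' L'] [Algebra A' L'] [IsScalarTower A' K' L'] [IsScalarTower A' B' L']
  [Algebra.IsGeometricallyReduced (ResidueField A) (ResidueField A')]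
  (K₁' : Type u) [Field K₁'] [Algebra K' K₁'] [FiniteDimensional K' K₁']
  (K₂ : Type u) [Field K₂] [Algebra K K₂] [FiniteDimensional K K₂]
  (M : Type u) [Field M] [Algebra K M] [Algebra K' M] [Algebra L' M] [Algebra K₂ M]
  [Algebra K₁' M]
  [IsScalarTower K K' M] [IsScalarTower K' L' M] [IsScalarTower K K₂ M] [IsScalarTower K' K₁' M]
  (W : ValuationSubring M)

local notation "FF" => Eps.Comp K' K₂ M

include K in
theorem core_local (hw : EtRam.IsWeaklyUnramified A A') (hsol : EtRam.IsSolution B' K' L' K₁')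
    (hι : ∀ x : K₁', algebraMap K₁' M x ∈ Eps.Comp K' K₂ M)
    (hadj : Algebra.adjoin L' (Set.range (algebraMap K₂ M)) = ⊤)
    (hW : EtRam.Dominates B' ((algebraMap L' M).comp (algebraMap B' L')) W) :
    DomVal.WU W (algebraMap K₂ M) ∧ DomVal.GR W (algebraMap K₂ M) := by
  classical
  haveI : Algebra.IsAlgebraic K K₂ := Algebra.IsAlgebraic.of_finite K K₂
  have hadjF : Algebra.adjoin K' (Set.range (algebraMap K₂ FF)) = ⊤ :=
    Eps.Comp.adjoin_eq_top K' K₂ M K
  haveI : FiniteDimensional K' FF := Eps.finiteDimensional_of_adjoin (K := K) hadjF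
  -- the unramified step `W ∩ K₂ → W ∩ F`
  have hcompA : ∀ a : A', algebraMap FF M (algebraMap K' FF (algebraMap A' K' a)) =
      algebraMap L' M (algebraMap B' L' (algebraMap A' B' a)) := by
    intro a
    show algebraMap K' M (algebraMap A' K' a) = _
    rw [IsScalarTower.algebraMap_apply K' L' M, ← IsScalarTower.algebraMap_apply A' K' L',
      IsScalarTower.algebraMap_apply A' B' L']
  have hWF : EtRam.Dominates A' ((algebraMap K' FF).comp (algebraMap A' K'))
      (W.comap (algebraMap FF M)) := by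
    refine ⟨fun a => ?_, fun a ha => ?_⟩
    · show algebraMap FF M (algebraMap K' FF (algebraMap A' K' a)) ∈ W
      rw [hcompA]
      exact hW.1 _
    · rw [DomVal.valuation_comap_lt_one_iff]
      show W.valuation (algebraMap FF M (algebraMap K' FF (algebraMap A' K' a))) < 1
      rw [hcompA]
      refine hW.2 _ ?_
      rw [mem_maximalIdeal] at ha ⊢
      exact (map_mem_nonunits_iff (algebraMap A' B') a).2 ha
  have hX := Ep.main_local A A' K K' K₂ FF hw hadjF (W.comap (algebraMap FF M)) hWF
  -- going up from `K₁'` to `F`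
  letI algK₁F : Algebra K₁' FF :=
    ((algebraMap K₁' M).codRestrict (Eps.Comp K' K₂ M).toSubring hι).toAlgebra
  haveI : IsScalarTower K₁' FF M := IsScalarTower.of_algebraMap_eq' rfl
  haveI : IsScalarTower K' K₁' FF := IsScalarTower.of_algebraMap_eq (fun x => Subtype.ext (by
    show algebraMap K' M x = algebraMap K₁' M (algebraMap K' K₁' x)
    rw [← IsScalarTower.algebraMap_apply]))
  haveI : FiniteDimensional K₁' FF := FiniteDimensional.right K' K₁' FF
  have hadjM : Algebra.adjoin L' (Set.range (algebraMap FF M)) = ⊤ := by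
    rw [eq_top_iff, ← hadj]
    apply Algebra.adjoin_mono
    rintro _ ⟨k, rfl⟩
    exact ⟨algebraMap K₂ FF k, rfl⟩
  have hUp := go_up A' B' K' L' K₁' FF M W hsol hadjM hW
  have hcomp : algebraMap K₂ M = (algebraMap FF M).comp (algebraMap K₂ FF) := rfl
  rw [hcomp]
  exact ⟨wu_trans _ _ W hX.1 hUp.1, gr_trans _ _ W hX.2 hUp.2⟩

end CoreLocal

section Core

variable (A A' B' K K' L' : Type u)
  [CommRing A] [IsDomain A] [IsDiscreteValuationRing A]
  [CommRing A'] [IsDomain A'] [IsDiscreteValuationRing A']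
  [CommRing B'] [IsDomain B'] [IsDiscreteValuationRing B']
  [Algebra A A'] [IsLocalHom (algebraMap A A')]
  [Algebra A' B'] [IsLocalHom (algebraMap A' B')]
  [Field K] [Field K'] [Field L']
  [Algebra A K] [IsFractionRing A K] [Algebra A' K'] [IsFractionRing A' K'] [Algebra B' L']
  [IsFractionRing B' L']
  [Algebra K K'] [Algebra A K'] [IsScalarTower A K K'] [IsScalarTower A A' K']
  [Algebra K' L'] [Algebra A' L'] [IsScalarTower A' K' L'] [IsScalarTower A' B' L']
  [Algebra K L'] [IsScalarTower K K' L'] [Algebra.IsAlgebraic K K']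
  [Algebra.IsGeometricallyReduced (ResidueField A) (ResidueField A')]
  (K₁' : Type u) [Field K₁'] [Algebra K' K₁'] [FiniteDimensional K' K₁']

theorem core (hw : EtRam.IsWeaklyUnramified A A') (hsol : EtRam.IsSolution B' K' L' K₁') :
    ∃ (K₂ : Type u) (_ : Field K₂) (_ : Algebra K K₂), FiniteDimensional K K₂ ∧
      (Algebra.IsSeparable K K' → Algebra.IsSeparable K' K₁' → Algebra.IsSeparable K K₂) ∧
      EtRam.IsSolution B' K L' K₂ := by
  obtain ⟨K₂, _, _, hfin, hsep, hι⟩ := exists_K2 K K' K₁'
  refine ⟨K₂, inferInstance, inferInstance, hfin, hsep, ?_⟩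
  intro M _ _ _ _ _ _ hadj W hW
  letI algK'M : Algebra K' M := ((algebraMap L' M).comp (algebraMap K' L')).toAlgebra
  haveI : IsScalarTower K' L' M := IsScalarTower.of_algebraMap_eq' rfl
  haveI : IsScalarTower K K' M := IsScalarTower.of_algebraMap_eq (fun x => by
    rw [IsScalarTower.algebraMap_apply K L' M, IsScalarTower.algebraMap_apply K K' L']
    rfl)
  obtain ⟨ι, hιmem⟩ := hι M
  letI algK₁M : Algebra K₁' M := ι.toRingHom.toAlgebra
  haveI : IsScalarTower K' K₁' M := IsScalarTower.of_algebraMap_eq (fun x => (ι.commutes x).symm)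
  exact core_local A A' B' K K' L' K₁' K₂ M W hw hsol hιmem hadj hW

end Core

end Groth.Agent.Helper8.Sh
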