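import Mathlib
import Groth.Prelude.Def_EtRam
import Groth.Agent.Helper7.DomValG
import Groth.Agent.Helper8.TmA
import Groth.Agent.Helper8.ShB
import Groth.Agent.Helper8.ShD

/-!
# ShE: the strictly henselian extension of an extension of DVRs reflecting solutions (S7162)
-/

set_option autoImplicit false
set_option linter.unusedSectionVars false
set_option linter.dupNamespace false
set_option maxHeartbeats 1000000
universe u

namespace Groth.Agent.Helper8.Sh

open IsLocalRing Groth.Agent.Helper7

section Frac

variable (A B A' B' K L : Type u) [CommRing A] [IsDomain A] [CommRing B] [IsDomain B]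
  [CommRing A'] [IsDomain A'] [CommRing B'] [IsDomain B']
  [Algebra A B] [Algebra A A'] [Algebra B B'] [Algebra A' B'] [Algebra A B']
  [IsScalarTower A B B'] [IsScalarTower A A' B']
  [Field K] [Field L] [Algebra A K] [IsFractionRing A K] [Algebra B L] [IsFractionRing B L]

theorem exists_frac_data (h1 : Function.Injective (algebraMap A A'))
    (h2 : Function.Injective (algebraMap B B')) (h3 : Function.Injective (algebraMap A' B')) :
    ∃ (K' L' : Type u) (_ : Field K') (_ : Field L')
      (_ : Algebra A' K') (_ : IsFractionRing A' K') (_ : Algebra B' L') (_ : IsFractionRing B' L')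
      (_ : Algebra K' L') (_ : Algebra A' L') (_ : IsScalarTower A' K' L')
      (_ : IsScalarTower A' B' L')
      (_ : Algebra K K') (_ : Algebra A K') (_ : IsScalarTower A K K') (_ : IsScalarTower A A' K')
      (_ : Algebra L L') (_ : Algebra B L') (_ : IsScalarTower B L L')
      (_ : IsScalarTower B B' L'), True := by
  obtain ⟨K', fK', aA'K', frA'⟩ : ∃ (K' : Type u) (_ : Field K') (_ : Algebra A' K'),
      IsFractionRing A' K' := ⟨FractionRing A', inferInstance, inferInstance, inferInstance⟩
  obtain ⟨L', fL', aB'L', frB'⟩ : ∃ (L' : Type u) (_ : Field L') (_ : Algebra B' L'),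
      IsFractionRing B' L' := ⟨FractionRing B', inferInstance, inferInstance, inferInstance⟩
  -- `K' → L'`
  have hgA' : Function.Injective ((algebraMap B' L').comp (algebraMap A' B')) :=
    (IsFractionRing.injective B' L').comp h3
  letI aK'L' : Algebra K' L' := (IsFractionRing.lift hgA').toAlgebra
  letI aA'L' : Algebra A' L' := ((algebraMap B' L').comp (algebraMap A' B')).toAlgebra
  have t1 : IsScalarTower A' K' L' := IsScalarTower.of_algebraMap_eq (fun a =>
    (IsFractionRing.lift_algebraMap hgA' a).symm)
  have t2 : IsScalarTower A' B' L' := IsScalarTower.of_algebraMap_eq' rfl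
  -- `K → K'`
  have hgA : Function.Injective ((algebraMap A' K').comp (algebraMap A A')) :=
    (IsFractionRing.injective A' K').comp h1
  letI aKK' : Algebra K K' := (IsFractionRing.lift hgA).toAlgebra
  letI aAK' : Algebra A K' := ((algebraMap A' K').comp (algebraMap A A')).toAlgebra
  have t3 : IsScalarTower A K K' := IsScalarTower.of_algebraMap_eq (fun a =>
    (IsFractionRing.lift_algebraMap hgA a).symm)
  have t4 : IsScalarTower A A' K' := IsScalarTower.of_algebraMap_eq' rfl
  -- `L → L'`
  have hgB : Function.Injective ((algebraMap B' L').comp (algebraMap B B')) :=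
    (IsFractionRing.injective B' L').comp h2
  letI aLL' : Algebra L L' := (IsFractionRing.lift hgB).toAlgebra
  letI aBL' : Algebra B L' := ((algebraMap B' L').comp (algebraMap B B')).toAlgebra
  have t5 : IsScalarTower B L L' := IsScalarTower.of_algebraMap_eq (fun a =>
    (IsFractionRing.lift_algebraMap hgB a).symm)
  have t6 : IsScalarTower B B' L' := IsScalarTower.of_algebraMap_eq' rfl
  exact ⟨K', L', fK', fL', aA'K', frA', aB'L', frB', aK'L', aA'L', t1, t2, aKK', aAK', t3, t4,
    aLL', aBL', t5, t6, trivial⟩

end Frac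

section Square

/-- compatibility of the two maps `K → L'` in a commutative square of fraction fields -/
theorem square_comm (A B A' B' K L K' L' : Type u) [CommRing A] [IsDomain A] [CommRing B]
    [CommRing A'] [CommRing B']
    [Algebra A B] [Algebra A A'] [Algebra B B'] [Algebra A' B'] [Algebra A B']
    [IsScalarTower A B B'] [IsScalarTower A A' B']
    [Field K] [Field L] [Field K'] [Field L'] [Algebra A K] [IsFractionRing A K] [Algebra B L]
    [Algebra K L] [Algebra A L] [IsScalarTower A K L] [IsScalarTower A B L]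
    [Algebra A' K'] [Algebra B' L'] [Algebra K' L'] [Algebra A' L'] [IsScalarTower A' K' L']
    [IsScalarTower A' B' L'] [Algebra K K'] [Algebra A K'] [IsScalarTower A K K']
    [IsScalarTower A A' K'] [Algebra L L'] [Algebra B L'] [IsScalarTower B L L']
    [IsScalarTower B B' L'] :
    (algebraMap L L').comp (algebraMap K L) = (algebraMap K' L').comp (algebraMap K K') := by
  apply IsLocalization.ringHom_ext (nonZeroDivisors A)
  ext a
  simp only [RingHom.comp_apply]
  rw [← IsScalarTower.algebraMap_apply A K L, IsScalarTower.algebraMap_apply A B L,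
    ← IsScalarTower.algebraMap_apply B L L', IsScalarTower.algebraMap_apply B B' L',
    ← IsScalarTower.algebraMap_apply A B B', IsScalarTower.algebraMap_apply A A' B',
    ← IsScalarTower.algebraMap_apply A' B' L', IsScalarTower.algebraMap_apply A' K' L',
    ← IsScalarTower.algebraMap_apply A A' K', IsScalarTower.algebraMap_apply A K K']

end Square

section Main

variable (A B K L : Type u) [CommRing A] [IsDomain A] [IsDiscreteValuationRing A]
  [CommRing B] [IsDomain B] [IsDiscreteValuationRing B] [Algebra A B]
  [IsLocalHom (algebraMap A B)]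
  [Field K] [Field L] [Algebra A K] [IsFractionRing A K] [Algebra B L] [IsFractionRing B L]
  [Algebra K L] [Algebra A L] [IsScalarTower A K L] [IsScalarTower A B L]

/-- the descent step, for an abstract square with the needed properties -/
theorem descend (A' B' K' L' : Type u)
    [CommRing A'] [IsDomain A'] [IsDiscreteValuationRing A']
    [CommRing B'] [IsDomain B'] [IsDiscreteValuationRing B']
    [Field K'] [Field L'] [Algebra A A'] [Algebra B B'] [Algebra A' B'] [Algebra A B']
    [IsScalarTower A B B'] [IsScalarTower A A' B']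
    [Algebra A' K'] [IsFractionRing A' K'] [Algebra B' L'] [IsFractionRing B' L']
    [Algebra K' L'] [Algebra A' L'] [IsScalarTower A' K' L'] [IsScalarTower A' B' L']
    [Algebra K K'] [Algebra A K'] [IsScalarTower A K K'] [IsScalarTower A A' K']
    [Algebra L L'] [Algebra B L'] [IsScalarTower B L L'] [IsScalarTower B B' L']
    [IsLocalHom (algebraMap A A')] [IsLocalHom (algebraMap B B')] [IsLocalHom (algebraMap A' B')]
    (hBB' : Function.Injective (algebraMap B B'))
    (hw : EtRam.IsWeaklyUnramified A A')
    [Algebra.IsSeparable (ResidueField A) (ResidueField A')]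
    [Algebra.IsSeparable K K']
    (K₁' : Type u) [Field K₁'] [Algebra K' K₁'] [FiniteDimensional K' K₁']
    (hsol : EtRam.IsSolution B' K' L' K₁') :
    ∃ (K₂ : Type u) (_ : Field K₂) (_ : Algebra K K₂), FiniteDimensional K K₂ ∧
      (Algebra.IsSeparable K' K₁' → Algebra.IsSeparable K K₂) ∧ EtRam.IsSolution B K L K₂ := by
  letI algKL' : Algebra K L' := ((algebraMap L L').comp (algebraMap K L)).toAlgebra
  haveI : IsScalarTower K L L' := IsScalarTower.of_algebraMap_eq' rfl
  haveI : IsScalarTower K K' L' :=
    IsScalarTower.of_algebraMap_eq' (square_comm A B A' B' K L K' L')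
  haveI : Algebra.IsAlgebraic K K' := Algebra.IsSeparable.isAlgebraic K K'
  haveI : Algebra.IsGeometricallyReduced (ResidueField A) (ResidueField A') :=
    Tm.isGeometricallyReduced_of_isSeparable
  obtain ⟨K₂, fK₂, aK₂, hfin₂, hsep₂, hsol₂⟩ := core A A' B' K K' L' K₁' hw hsol
  haveI := hfin₂
  haveI : Algebra.IsAlgebraic K K₂ := Algebra.IsAlgebraic.of_finite K K₂
  refine ⟨K₂, fK₂, aK₂, hfin₂, fun h => hsep₂ inferInstance h, ?_⟩
  exact DomVal.forallLocalExt_descend (B := B) (C := B') hBB'
    (fun M M' _ _ ι f W' hp => ⟨DomVal.wu_descend ι f W' hp.1, DomVal.gr_descend ι f W' hp.2⟩)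
    hsol₂

theorem main (hinj : Function.Injective (algebraMap A B)) :
    ∃ (A' B' K' L' : Type u) (_ : CommRing A') (_ : IsDomain A') (_ : IsDiscreteValuationRing A')
      (_ : CommRing B') (_ : IsDomain B') (_ : IsDiscreteValuationRing B') (_ : Field K') (_ : Field L')
      (_ : Algebra A A') (_ : Algebra B B') (_ : Algebra A' B') (_ : Algebra A B')
      (_ : IsScalarTower A B B') (_ : IsScalarTower A A' B')
      (_ : Algebra A' K') (_ : IsFractionRing A' K') (_ : Algebra B' L') (_ : IsFractionRing B' L')
      (_ : Algebra K' L') (_ : Algebra A' L') (_ : IsScalarTower A' K' L') (_ : IsScalarTower A' B' L')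
      (_ : Algebra K K') (_ : Algebra A K') (_ : IsScalarTower A K K') (_ : IsScalarTower A A' K')
      (_ : Algebra L L') (_ : Algebra B L') (_ : IsScalarTower B L L') (_ : IsScalarTower B B' L')
      (hA : IsLocalHom (algebraMap A A')) (hB : IsLocalHom (algebraMap B B')) (_ : IsLocalHom (algebraMap A' B')),
      Function.Injective (algebraMap A A') ∧ Function.Injective (algebraMap B B') ∧
      Function.Injective (algebraMap A' B') ∧
      Algebra.IsSeparable K K' ∧ Algebra.IsSeparable L L' ∧
      (letI := (IsLocalRing.ResidueField.map (algebraMap A A')).toAlgebra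
       IsSepClosure (IsLocalRing.ResidueField A) (IsLocalRing.ResidueField A')) ∧
      (letI := (IsLocalRing.ResidueField.map (algebraMap B B')).toAlgebra
       IsSepClosure (IsLocalRing.ResidueField B) (IsLocalRing.ResidueField B')) ∧
      ((∃ (K₁ : Type u) (_ : Field K₁) (_ : Algebra K' K₁), FiniteDimensional K' K₁ ∧ EtRam.IsSolution B' K' L' K₁) →
        ∃ (K₁ : Type u) (_ : Field K₁) (_ : Algebra K K₁), FiniteDimensional K K₁ ∧ EtRam.IsSolution B K L K₁) ∧
      ((∃ (K₁ : Type u) (_ : Field K₁) (_ : Algebra K' K₁), FiniteDimensional K' K₁ ∧ Algebra.IsSeparable K' K₁ ∧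
          EtRam.IsSolution B' K' L' K₁) →
        ∃ (K₁ : Type u) (_ : Field K₁) (_ : Algebra K K₁), FiniteDimensional K K₁ ∧ Algebra.IsSeparable K K₁ ∧
          EtRam.IsSolution B K L K₁) := by
  classical
  obtain ⟨hdomA, hdvrA⟩ := sh_dvr A
  obtain ⟨hdomB, hdvrB⟩ := sh_dvr B
  obtain ⟨g, hg, hgloc⟩ := exists_shMap A B
  have hginj : Function.Injective g := shMap_injective A B hinj g hg
  letI algA'B' : Algebra (SH A) (SH B) := g.toAlgebra
  letI algAB' : Algebra A (SH B) := ((algebraMap B (SH B)).comp (algebraMap A B)).toAlgebra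
  haveI tABB' : IsScalarTower A B (SH B) := IsScalarTower.of_algebraMap_eq' rfl
  haveI tAA'B' : IsScalarTower A (SH A) (SH B) := IsScalarTower.of_algebraMap_eq' hg.symm
  haveI hloc' : IsLocalHom (algebraMap (SH A) (SH B)) := hgloc
  obtain ⟨K', L', fK', fL', aA'K', frA', aB'L', frB', aK'L', aA'L', t1, t2, aKK', aAK', t3, t4,
    aLL', aBL', t5, t6, -⟩ :=
    exists_frac_data A B (SH A) (SH B) K L (sh_injective A) (sh_injective B) hginj
  haveI hsepK : Algebra.IsSeparable K K' := isSeparable_frac A K K'
  haveI hsepL : Algebra.IsSeparable L L' := isSeparable_frac B L L'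
  haveI hresA : IsSepClosure (ResidueField A) (ResidueField (SH A)) := sh_isSepClosure A
  haveI : Algebra.IsSeparable (ResidueField A) (ResidueField (SH A)) := hresA.separable
  refine ⟨SH A, SH B, K', L', inferInstance, hdomA, hdvrA, inferInstance, hdomB, hdvrB, fK', fL',
    inferInstance, inferInstance, algA'B', algAB', tABB', tAA'B', aA'K', frA', aB'L', frB', aK'L',
    aA'L', t1, t2, aKK', aAK', t3, t4, aLL', aBL', t5, t6, inferInstance, inferInstance, hgloc,
    sh_injective A, sh_injective B, hginj, hsepK, hsepL, ?_, ?_, ?_, ?_⟩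
  · show @IsSepClosure (ResidueField A) _ (ResidueField (SH A)) _
      (ResidueField.map (algebraMap A (SH A))).toAlgebra
    rw [← resAlg_eq]
    exact sh_isSepClosure A
  · show @IsSepClosure (ResidueField B) _ (ResidueField (SH B)) _
      (ResidueField.map (algebraMap B (SH B))).toAlgebra
    rw [← resAlg_eq]
    exact sh_isSepClosure B
  · rintro ⟨K₁', fK₁, aK₁, hfin, hsol⟩
    haveI := hfin
    obtain ⟨K₂, fK₂, aK₂, hfin₂, -, hsol₂⟩ :=
      descend A B K L (SH A) (SH B) K' L' (sh_injective B) (sh_wu A) K₁' hsol
    exact ⟨K₂, fK₂, aK₂, hfin₂, hsol₂⟩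
  · rintro ⟨K₁', fK₁, aK₁, hfin, hsep, hsol⟩
    haveI := hfin
    obtain ⟨K₂, fK₂, aK₂, hfin₂, hsep₂, hsol₂⟩ :=
      descend A B K L (SH A) (SH B) K' L' (sh_injective B) (sh_wu A) K₁' hsol
    exact ⟨K₂, fK₂, aK₂, hfin₂, hsep₂ hsep, hsol₂⟩

end Main

end Groth.Agent.Helper8.Sh
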