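import Mathlib
import Groth.Prelude.Def_Hensel
import Groth.Agent.Helper8.ShB

/-!
# ShtA: transferring a strict henselization to an ind-etale local extension of the base
-/

set_option autoImplicit false
universe u

namespace Groth.Agent.Helper8.Sht

open IsLocalRing TensorProduct

section Generic

theorem isLocalHom_of_residue {S T : Type*} [CommRing S] [IsLocalRing S] [CommRing T]
    [IsLocalRing T] (g : S →+* T) (τ : ResidueField S →+* ResidueField T)
    (h : ∀ x, residue T (g x) = τ (residue S x)) : IsLocalHom g := by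
  refine ⟨fun x hx => ?_⟩
  by_contra hnu
  have h0 : residue S x = 0 := (residue_eq_zero_iff x).2 ((mem_maximalIdeal x).2 hnu)
  have h1 := h x
  rw [h0, map_zero, residue_eq_zero_iff, mem_maximalIdeal] at h1
  exact h1 hx

theorem exists_map_of_sepClosed (R S T : Type u) [CommRing R] [IsLocalRing R] [CommRing S]
    [IsLocalRing S] [Algebra R S] [IsLocalHom (algebraMap R S)]
    [hS : Hensel.IsStrictHenselization R S]
    [CommRing T] [HenselianLocalRing T] [IsSepClosed (ResidueField T)] (f : R →+* T)
    [IsLocalHom f] :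
    ∃ g : S →+* T, g.comp (algebraMap R S) = f ∧ IsLocalHom g := by
  haveI : IsSepClosure (ResidueField R) (ResidueField S) := hS.isSepClosure
  haveI : Algebra.IsSeparable (ResidueField R) (ResidueField S) := IsSepClosure.separable
  letI : Algebra (ResidueField R) (ResidueField T) := (ResidueField.map f).toAlgebra
  let τ : ResidueField S →ₐ[ResidueField R] ResidueField T := IsSepClosed.lift
  have hτ : τ.toRingHom.comp (ResidueField.map (algebraMap R S)) = ResidueField.map f := by
    ext x
    exact τ.commutes x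
  obtain ⟨g, ⟨hg1, hg2⟩, -⟩ := hS.universal T f τ.toRingHom hτ
  exact ⟨g, hg1, isLocalHom_of_residue g τ.toRingHom hg2⟩

theorem exists_lift_isLocalHom {B' : Type*} [CommRing B'] (m' : Ideal B') [m'.IsPrime]
    (R'' : Type*) [CommRing R''] [Algebra B' R''] [IsLocalization.AtPrime R'' m']
    {A : Type*} [CommRing A] [IsLocalRing A] (Φ : B' →+* A)
    (hΦ : ∀ y, y ∈ m' ↔ Φ y ∈ maximalIdeal A) :
    ∃ Λ : R'' →+* A, Λ.comp (algebraMap B' R'') = Φ ∧ IsLocalHom Λ := by
  have hunits : ∀ y : m'.primeCompl, IsUnit (Φ y) := fun y => by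
    have : Φ y ∉ maximalIdeal A := fun h => y.2 ((hΦ _).2 h)
    rwa [mem_maximalIdeal, mem_nonunits_iff, not_not] at this
  refine ⟨IsLocalization.lift hunits, IsLocalization.lift_comp hunits, ⟨fun x hx => ?_⟩⟩
  obtain ⟨⟨b, s⟩, hbs⟩ := IsLocalization.surj m'.primeCompl x
  have h1 : IsLocalization.lift hunits x * Φ s = Φ b := by
    have := congrArg (IsLocalization.lift hunits) hbs
    rwa [map_mul, IsLocalization.lift_eq, IsLocalization.lift_eq] at this
  have h2 : IsUnit (Φ b) := h1 ▸ hx.mul (hunits s)
  have h3 : b ∉ m' := fun h => by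
    have := (hΦ b).1 h
    rw [mem_maximalIdeal, mem_nonunits_iff] at this
    exact this h2
  have h4 : IsUnit (algebraMap B' R'' b) :=
    IsLocalization.map_units R'' (⟨b, h3⟩ : m'.primeCompl)
  rw [← hbs] at h4
  exact isUnit_of_mul_isUnit_left h4

theorem ker_isMaximal_of_algebraic {B' F Ω : Type*} [CommRing B'] [Field F] [Field Ω]
    [Algebra F Ω] [Algebra.IsAlgebraic F Ω] (Ψ : B' →+* Ω)
    (h : ∀ z : F, algebraMap F Ω z ∈ Ψ.range) :
    (RingHom.ker Ψ).IsMaximal := by
  let E : Subalgebra F Ω := { Ψ.range.toSubsemiring with algebraMap_mem' := h }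
  have hE : IsField E := Subalgebra.isField_of_algebraic E
  rw [Ideal.isMaximal_iff]
  refine ⟨fun h1 => ?_, fun J x hJ hx hxJ => ?_⟩
  · rw [RingHom.mem_ker, map_one] at h1
    exact one_ne_zero h1
  · have hx' : Ψ x ≠ 0 := hx
    have hmemx : Ψ x ∈ E := ⟨x, rfl⟩
    have hne : (⟨Ψ x, hmemx⟩ : E) ≠ 0 := fun h0 => hx' (congrArg Subtype.val h0)
    obtain ⟨⟨_, y, rfl⟩, hy⟩ := hE.mul_inv_cancel hne
    have hy' : Ψ x * Ψ y = 1 := congrArg Subtype.val hy
    have hmem : x * y - 1 ∈ RingHom.ker Ψ := by
      rw [RingHom.mem_ker, map_sub, map_mul, hy', map_one, sub_self]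
    have : (1 : B') = x * y - (x * y - 1) := by ring
    rw [this]
    exact J.sub_mem (J.mul_mem_right _ hxJ) (hJ hmem)

end Generic

section Transfer

variable (R R'' A : Type u) [CommRing R] [IsLocalRing R] [CommRing R''] [IsLocalRing R'']
  [CommRing A] [IsLocalRing A] [Algebra R R''] [Algebra R'' A] [Algebra R A]
  [IsScalarTower R R'' A] [IsLocalHom (algebraMap R R'')] [IsLocalHom (algebraMap R'' A)]
  [IsLocalHom (algebraMap R A)] [hRA : Hensel.IsStrictHenselization R A]

include hRA in
theorem strictHenselization_transfer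
    (huniq : ∀ (T : Type u) [CommRing T] [HenselianLocalRing T] (u v : R'' →+* T),
      IsLocalHom u → IsLocalHom v → u.comp (algebraMap R R'') = v.comp (algebraMap R R'') →
      (∀ x, residue T (u x) = residue T (v x)) → u = v) :
    Hensel.IsStrictHenselization R'' A := by
  have hsc : IsSepClosure (ResidueField R) (ResidueField A) := hRA.isSepClosure
  refine ⟨hRA.henselian, ?_, ?_⟩
  · haveI : IsSepClosed (ResidueField A) := hsc.sep_closed
    haveI : Algebra.IsSeparable (ResidueField R) (ResidueField A) := hsc.separable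
    exact ⟨inferInstance,
      Algebra.isSeparable_tower_top_of_isSeparable (ResidueField R) (ResidueField R'')
        (ResidueField A)⟩
  · intro T _ _ f' _ τ hτ
    let f : R →+* T := f'.comp (algebraMap R R'')
    haveI : IsLocalHom f := RingHom.isLocalHom_comp _ _
    have hcomp : algebraMap R A = (algebraMap R'' A).comp (algebraMap R R'') :=
      IsScalarTower.algebraMap_eq R R'' A
    have hτf : τ.comp (ResidueField.map (algebraMap R A)) = ResidueField.map f := by
      ext x
      obtain ⟨x, rfl⟩ := residue_surjective x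
      have h1 := congr($hτ (residue R'' (algebraMap R R'' x)))
      simp only [RingHom.comp_apply, ResidueField.map_residue] at h1 ⊢
      rw [IsScalarTower.algebraMap_apply R R'' A]
      exact h1
    obtain ⟨g, ⟨hg1, hg2⟩, hguniq⟩ := hRA.universal T f τ hτf
    haveI hgloc : IsLocalHom g := isLocalHom_of_residue g τ hg2
    have hkey : g.comp (algebraMap R'' A) = f' := by
      apply huniq T (g.comp (algebraMap R'' A)) f' (RingHom.isLocalHom_comp _ _) inferInstance
      · rw [RingHom.comp_assoc, ← hcomp, hg1]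
      · intro x
        have h1 := congr($hτ (residue R'' x))
        simp only [RingHom.comp_apply, ResidueField.map_residue] at h1
        rw [RingHom.comp_apply, hg2, h1]
    refine ⟨g, ⟨hkey, hg2⟩, ?_⟩
    rintro g' ⟨hg'1, hg'2⟩
    apply hguniq
    refine ⟨?_, hg'2⟩
    rw [hcomp, ← RingHom.comp_assoc, hg'1]

end Transfer

end Groth.Agent.Helper8.Sht
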