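import Mathlib
import Groth.Prelude.Def_Hensel
import Groth.Agent.Helper8.ShtA

/-!
# ShtB: the abstract theorem
`P` a ring with prime `𝔭`, `R₁ = P_𝔭`, `R'` a strict henselization of `R₁`, `B` a `P`-algebra with a
prime `q` over `𝔭`, `R = B_q` with residue field algebraic over that of `R₁`, `A` a strict
henselization of `R`.  Then `A` is a strict henselization of the localization of `R' ⊗[P] B` at a
maximal ideal over the maximal ideal of `R'`.
-/

set_option autoImplicit false
universe u

namespace Groth.Agent.Helper8.Sht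

open IsLocalRing TensorProduct

section Abstract

variable {P : Type u} [CommRing P] (𝔭 : Ideal P) [𝔭.IsPrime]
  (R₁ : Type u) [CommRing R₁] [IsLocalRing R₁] [Algebra P R₁] [IsLocalization.AtPrime R₁ 𝔭]
  (R' : Type u) [CommRing R'] [IsLocalRing R'] [Algebra R₁ R'] [IsLocalHom (algebraMap R₁ R')]
  [hR' : Hensel.IsStrictHenselization R₁ R'] [Algebra P R'] [IsScalarTower P R₁ R']
  (B : Type u) [CommRing B] [Algebra P B] (q : Ideal B) [q.IsPrime]
  (R : Type u) [CommRing R] [IsLocalRing R] [Algebra B R] [IsLocalization.AtPrime R q]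
  [Algebra P R] [IsScalarTower P B R] [Algebra R₁ R] [IsScalarTower P R₁ R]
  [IsLocalHom (algebraMap R₁ R)]
  [halg : Algebra.IsAlgebraic (ResidueField R₁) (ResidueField R)]
  (A : Type u) [CommRing A] [IsLocalRing A] [Algebra R A] [IsLocalHom (algebraMap R A)]
  [hA : Hensel.IsStrictHenselization R A]

include 𝔭 R₁ q R hR' halg hA in
theorem abstract_main :
    ∃ (m' : Ideal (R' ⊗[P] B)) (hm' : m'.IsMaximal),
      m'.comap (algebraMap R' (R' ⊗[P] B)) = maximalIdeal R' ∧
      ∀ (R'' : Type u) [CommRing R''] [IsLocalRing R''] [Algebra (R' ⊗[P] B) R''],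
        (haveI := hm'.isPrime; IsLocalization.AtPrime R'' m') →
        ∃ (_ : Algebra R'' A) (_ : IsLocalHom (algebraMap R'' A)),
          Hensel.IsStrictHenselization R'' A := by
  classical
  have hSA : IsSepClosure (ResidueField R) (ResidueField A) := hA.isSepClosure
  haveI : IsSepClosed (ResidueField A) := hSA.sep_closed
  haveI : Algebra.IsSeparable (ResidueField R) (ResidueField A) := hSA.separable
  haveI : HenselianLocalRing A := hA.henselian
  -- `R₁ → A`
  letI : Algebra R₁ A := ((algebraMap R A).comp (algebraMap R₁ R)).toAlgebra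
  haveI : IsScalarTower R₁ R A := .of_algebraMap_eq (fun _ => rfl)
  haveI : IsLocalHom (algebraMap R₁ A) :=
    (RingHom.isLocalHom_comp (algebraMap R A) (algebraMap R₁ R))
  obtain ⟨g₁, hg₁, hg₁loc⟩ := exists_map_of_sepClosed R₁ R' A (algebraMap R₁ A)
  letI : Algebra R' A := g₁.toAlgebra
  haveI : IsLocalHom (algebraMap R' A) := hg₁loc
  haveI : IsScalarTower R₁ R' A := .of_algebraMap_eq (fun x => (congr($hg₁ x)).symm)
  -- `P`-algebra structure on `A`
  letI : Algebra P A := ((algebraMap R A).comp (algebraMap P R)).toAlgebra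
  haveI : IsScalarTower P R A := .of_algebraMap_eq (fun _ => rfl)
  haveI : IsScalarTower P R₁ A := .of_algebraMap_eq (fun x => by
    show algebraMap R A (algebraMap P R x) = algebraMap R A (algebraMap R₁ R (algebraMap P R₁ x))
    rw [← IsScalarTower.algebraMap_apply P R₁ R])
  haveI : IsScalarTower P R' A := .of_algebraMap_eq (fun x => by
    rw [IsScalarTower.algebraMap_apply P R₁ A, IsScalarTower.algebraMap_apply P R₁ R',
      ← IsScalarTower.algebraMap_apply R₁ R' A])
  letI : Algebra B A := ((algebraMap R A).comp (algebraMap B R)).toAlgebra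
  haveI : IsScalarTower B R A := .of_algebraMap_eq (fun _ => rfl)
  haveI : IsScalarTower P B A := .of_algebraMap_eq (fun x => by
    show algebraMap R A (algebraMap P R x) = algebraMap R A (algebraMap B R (algebraMap P B x))
    rw [← IsScalarTower.algebraMap_apply P B R])
  let Φ : R' ⊗[P] B →ₐ[P] A :=
    Algebra.TensorProduct.productMap (IsScalarTower.toAlgHom P R' A) (IsScalarTower.toAlgHom P B A)
  have hΦl : ∀ x : R', Φ (x ⊗ₜ 1) = algebraMap R' A x := fun x => by simp [Φ]
  have hΦr : ∀ b : B, Φ (1 ⊗ₜ b) = algebraMap B A b := fun b => by simp [Φ]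
  -- algebraicity of residue fields
  haveI : Algebra.IsAlgebraic (ResidueField R) (ResidueField A) :=
    Algebra.IsSeparable.isAlgebraic _ _
  haveI : Algebra.IsAlgebraic (ResidueField R₁) (ResidueField A) :=
    Algebra.IsAlgebraic.trans (ResidueField R₁) (ResidueField R) (ResidueField A)
  haveI : Algebra.IsAlgebraic (ResidueField R') (ResidueField A) :=
    Algebra.IsAlgebraic.tower_top (K := ResidueField R₁) (ResidueField R')
  -- the maximal ideal
  let Ψ : R' ⊗[P] B →+* ResidueField A := (residue A).comp Φ.toRingHom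
  have hΨ : ∀ y, Ψ y = residue A (Φ y) := fun _ => rfl
  let m' : Ideal (R' ⊗[P] B) := (maximalIdeal A).comap Φ.toRingHom
  have hm'mem : ∀ y, y ∈ m' ↔ Φ y ∈ maximalIdeal A := fun y => Iff.rfl
  have hker : RingHom.ker Ψ = m' := by
    ext y
    rw [RingHom.mem_ker, hΨ, residue_eq_zero_iff, hm'mem]
  have hm' : m'.IsMaximal := by
    rw [← hker]
    apply ker_isMaximal_of_algebraic (F := ResidueField R') Ψ
    intro z
    obtain ⟨x, rfl⟩ := residue_surjective z
    exact ⟨x ⊗ₜ 1, by rw [hΨ, hΦl]; rfl⟩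
  haveI hm'p : m'.IsPrime := hm'.isPrime
  have hcomap : m'.comap (algebraMap R' (R' ⊗[P] B)) = maximalIdeal R' := by
    ext x
    rw [Ideal.mem_comap, hm'mem, Algebra.TensorProduct.algebraMap_apply, Algebra.algebraMap_self,
      RingHom.id_apply, hΦl, mem_maximalIdeal, mem_nonunits_iff, mem_maximalIdeal,
      mem_nonunits_iff, isUnit_map_iff]
  have hqmem : ∀ b : B, (1 : R') ⊗ₜ[P] b ∈ m' ↔ b ∈ q := fun b => by
    rw [hm'mem, hΦr, IsScalarTower.algebraMap_apply B R A, mem_maximalIdeal, mem_nonunits_iff,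
      isUnit_map_iff, ← mem_nonunits_iff, ← mem_maximalIdeal,
      IsLocalization.AtPrime.to_map_mem_maximal_iff R q]
  refine ⟨m', hm', hcomap, ?_⟩
  intro R'' _ _ _ hloc
  haveI : IsLocalization.AtPrime R'' m' := hloc
  obtain ⟨Λ, hΛ, hΛloc⟩ := exists_lift_isLocalHom m' R'' Φ.toRingHom hm'mem
  have hΛ' : ∀ y, Λ (algebraMap (R' ⊗[P] B) R'' y) = Φ y := fun y => congr($hΛ y)
  letI : Algebra R'' A := Λ.toAlgebra
  haveI : IsLocalHom (algebraMap R'' A) := hΛloc
  -- `R → R''`
  let jB : B →+* R'' := (algebraMap (R' ⊗[P] B) R'').comp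
    (Algebra.TensorProduct.includeRight (R := P) (A := R') (B := B)).toRingHom
  have hjB : ∀ b, jB b = algebraMap (R' ⊗[P] B) R'' (1 ⊗ₜ b) := fun _ => rfl
  have hunitsB : ∀ y : q.primeCompl, IsUnit (jB y) := fun y => by
    rw [hjB]
    exact IsLocalization.map_units R'' (⟨1 ⊗ₜ (y : B), fun h => y.2 ((hqmem _).1 h)⟩ : m'.primeCompl)
  let ρ : R →+* R'' := IsLocalization.lift hunitsB
  have hρ : ∀ b, ρ (algebraMap B R b) = algebraMap (R' ⊗[P] B) R'' (1 ⊗ₜ b) := fun b =>
    IsLocalization.lift_eq hunitsB b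
  letI : Algebra R R'' := ρ.toAlgebra
  have hΛρ : Λ.comp ρ = algebraMap R A := by
    apply IsLocalization.ringHom_ext q.primeCompl
    ext b
    rw [RingHom.comp_apply, RingHom.comp_apply, hρ, hΛ', hΦr, RingHom.comp_apply,
      IsScalarTower.algebraMap_apply B R A]
  haveI : IsScalarTower R R'' A := .of_algebraMap_eq (fun x => (congr($hΛρ x)).symm)
  haveI : IsLocalHom (algebraMap R R'') := by
    haveI : IsLocalHom (Λ.comp ρ) := hΛρ ▸ (inferInstance : IsLocalHom (algebraMap R A))
    exact isLocalHom_of_comp ρ Λ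
  -- `R' → R''`
  obtain ⟨ι', hι'⟩ : ∃ ι' : R' →+* R'', ∀ x, ι' x = algebraMap (R' ⊗[P] B) R'' (x ⊗ₜ 1) :=
    ⟨(algebraMap (R' ⊗[P] B) R'').comp
      (Algebra.TensorProduct.includeLeftRingHom (R := P) (A := R') (B := B)), fun _ => rfl⟩
  have hΛι' : Λ.comp ι' = algebraMap R' A := by
    ext x
    rw [RingHom.comp_apply, hι', hΛ', hΦl]
  haveI hι'loc : IsLocalHom ι' := by
    haveI : IsLocalHom (Λ.comp ι') := hΛι' ▸ (inferInstance : IsLocalHom (algebraMap R' A))
    exact isLocalHom_of_comp ι' Λ
  -- compatibility on `R₁`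
  have hR₁ : ι'.comp (algebraMap R₁ R') = ρ.comp (algebraMap R₁ R) := by
    apply IsLocalization.ringHom_ext 𝔭.primeCompl
    ext x
    show ι' (algebraMap R₁ R' (algebraMap P R₁ x)) = ρ (algebraMap R₁ R (algebraMap P R₁ x))
    rw [← IsScalarTower.algebraMap_apply P R₁ R', ← IsScalarTower.algebraMap_apply P R₁ R,
      IsScalarTower.algebraMap_apply P B R, hρ, hι']
    congr 1
    rw [Algebra.algebraMap_eq_smul_one, Algebra.algebraMap_eq_smul_one (R := P) (A := B),
      TensorProduct.smul_tmul]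
  refine ⟨inferInstance, hΛloc, ?_⟩
  apply strictHenselization_transfer R R'' A
  intro T _ _ u v hu hv huv hres
  haveI := hu
  haveI := hv
  apply IsLocalization.ringHom_ext m'.primeCompl
  -- the `R'` part
  have hR'part : u.comp ι' = v.comp ι' := by
    let f : R₁ →+* T := (u.comp ι').comp (algebraMap R₁ R')
    haveI : IsLocalHom (u.comp ι') := RingHom.isLocalHom_comp _ _
    haveI : IsLocalHom (v.comp ι') := RingHom.isLocalHom_comp _ _
    haveI : IsLocalHom f := RingHom.isLocalHom_comp _ _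
    let τ : ResidueField R' →+* ResidueField T := ResidueField.map (u.comp ι')
    have hτ : τ.comp (ResidueField.map (algebraMap R₁ R')) = ResidueField.map f :=
      (ResidueField.map_comp _ _).symm
    obtain ⟨g, -, hguniq⟩ := hR'.universal T f τ hτ
    have h1 : u.comp ι' = g := hguniq _ ⟨rfl, fun x => (ResidueField.map_residue _ x).symm⟩
    have h2 : v.comp ι' = g := by
      apply hguniq
      refine ⟨?_, fun x => ?_⟩
      · show (v.comp ι').comp (algebraMap R₁ R') = (u.comp ι').comp (algebraMap R₁ R')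
        ext x
        show v (ι' (algebraMap R₁ R' x)) = u (ι' (algebraMap R₁ R' x))
        have e : ι' (algebraMap R₁ R' x) = ρ (algebraMap R₁ R x) := congr($hR₁ x)
        rw [e]
        exact (congr($huv (algebraMap R₁ R x))).symm
      · show residue T (v (ι' x)) = τ (residue R' x)
        rw [← hres]
        exact (ResidueField.map_residue (u.comp ι') x).symm
    rw [h1, h2]
  have hBpart : ∀ b : B, u (algebraMap (R' ⊗[P] B) R'' (1 ⊗ₜ b)) =
      v (algebraMap (R' ⊗[P] B) R'' (1 ⊗ₜ b)) := fun b => by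
    rw [← hρ]
    exact congr($huv (algebraMap B R b))
  refine RingHom.ext fun w => ?_
  rw [RingHom.comp_apply, RingHom.comp_apply]
  induction w using TensorProduct.induction_on with
  | zero => rw [map_zero, map_zero, map_zero]
  | tmul x b =>
    have : x ⊗ₜ[P] b = (x ⊗ₜ 1) * (1 ⊗ₜ b) := by
      rw [Algebra.TensorProduct.tmul_mul_tmul, mul_one, one_mul]
    rw [this, map_mul, map_mul, map_mul, hBpart b]
    congr 1
    rw [← hι']
    exact congr($hR'part x)
  | add w₁ w₂ h₁ h₂ => rw [map_add, map_add, map_add, h₁, h₂]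

end Abstract

end Groth.Agent.Helper8.Sht
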