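import Mathlib
import Groth.Prelude.Def_Hensel
import Groth.Agent.Helper8.ShtB

/-!
# ShtC: the middle theorem (finite type algebra over a local ring, prime over the closed point)
-/

set_option autoImplicit false
universe u

namespace Groth.Agent.Helper8.Sht

open IsLocalRing TensorProduct Groth.Agent.Helper8.Sh

section PP

variable (ι : Type u) (R₀ : Type u) [CommRing R₀] [IsLocalRing R₀]

/-- the prime `m_{R₀}·R₀[T]` of the polynomial ring -/
noncomputable abbrev pp : Ideal (MvPolynomial ι R₀) :=
  (maximalIdeal R₀).map (MvPolynomial.C : R₀ →+* MvPolynomial ι R₀)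

theorem pp_eq_ker : pp ι R₀ = RingHom.ker
    (MvPolynomial.map (residue R₀) : MvPolynomial ι R₀ →+* MvPolynomial ι (ResidueField R₀)) := by
  rw [MvPolynomial.ker_map, ker_residue]

instance pp_isPrime : (pp ι R₀).IsPrime := by
  rw [pp_eq_ker]
  exact RingHom.ker_isPrime _

/-- the local ring `R₀[T]_{m R₀[T]}` -/
noncomputable abbrev PL : Type u := Localization.AtPrime (pp ι R₀)

end PP

section Middle

variable (R₀ : Type u) [CommRing R₀] [IsLocalRing R₀]
  (B : Type u) [CommRing B] [Algebra R₀ B] [Algebra.FiniteType R₀ B] (q : Ideal B) [q.IsPrime]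
  (R : Type u) [CommRing R] [IsLocalRing R] [Algebra B R] [IsLocalization.AtPrime R q]
  (A : Type u) [CommRing A] [IsLocalRing A] [Algebra R A] [IsLocalHom (algebraMap R A)]
  [hA : Hensel.IsStrictHenselization R A]

include hA in
theorem middle (hq : q.comap (algebraMap R₀ B) = maximalIdeal R₀) :
    ∃ (ι : Type u) (_ : Finite ι) (B' : Type u) (_ : CommRing B')
      (_ : Algebra (SH (PL ι R₀)) B') (_ : Algebra.FiniteType (SH (PL ι R₀)) B')
      (m' : Ideal B') (hm' : m'.IsMaximal),
      m'.comap (algebraMap (SH (PL ι R₀)) B') = maximalIdeal (SH (PL ι R₀)) ∧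
      ∀ (R'' : Type u) [CommRing R''] [IsLocalRing R''] [Algebra B' R''],
        (haveI := hm'.isPrime; IsLocalization.AtPrime R'' m') →
        ∃ (_ : Algebra R'' A) (_ : IsLocalHom (algebraMap R'' A)),
          Hensel.IsStrictHenselization R'' A := by
  classical
  letI : Algebra R₀ R := ((algebraMap B R).comp (algebraMap R₀ B)).toAlgebra
  haveI : IsScalarTower R₀ B R := .of_algebraMap_eq (fun _ => rfl)
  have hmemq : ∀ b : B, algebraMap B R b ∈ maximalIdeal R ↔ b ∈ q :=
    fun b => IsLocalization.AtPrime.to_map_mem_maximal_iff R q b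
  haveI hloc0 : IsLocalHom (algebraMap R₀ R) := by
    refine ⟨fun r hr => ?_⟩
    by_contra hnu
    have h1 : r ∈ maximalIdeal R₀ := (mem_maximalIdeal r).2 hnu
    rw [← hq, Ideal.mem_comap, ← hmemq, mem_maximalIdeal, mem_nonunits_iff] at h1
    exact h1 hr
  -- the residue map on `B`
  let β : B →ₐ[R₀] ResidueField R :=
    (IsScalarTower.toAlgHom R₀ R (ResidueField R)).comp (IsScalarTower.toAlgHom R₀ B R)
  have hβ : ∀ b, β b = residue R (algebraMap B R b) := fun _ => rfl
  have hβ0 : ∀ b, β b = 0 ↔ b ∈ q := fun b => by rw [hβ, residue_eq_zero_iff, hmemq]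
  -- generators
  obtain ⟨s, hs⟩ := (Algebra.FiniteType.out : (⊤ : Subalgebra R₀ B).FG)
  let t : Set (ResidueField R) := β '' (s : Set B)
  have ht_fin : t.Finite := (s.finite_toSet).image _
  have hβmem : ∀ b, β b ∈ Algebra.adjoin (ResidueField R₀) t := by
    intro b
    have hb : b ∈ Algebra.adjoin R₀ (s : Set B) := by rw [hs]; trivial
    induction hb using Algebra.adjoin_induction with
    | mem x hx => exact Algebra.subset_adjoin ⟨x, hx, rfl⟩
    | algebraMap r =>
      rw [β.commutes, IsScalarTower.algebraMap_apply R₀ (ResidueField R₀) (ResidueField R)]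
      exact Subalgebra.algebraMap_mem _ _
    | add x y _ _ hx hy => rw [map_add]; exact add_mem hx hy
    | mul x y _ _ hx hy => rw [map_mul]; exact mul_mem hx hy
  haveI halg_t : Algebra.IsAlgebraic (Algebra.adjoin (ResidueField R₀) t) (ResidueField R) := by
    refine ⟨fun y => ?_⟩
    obtain ⟨r, rfl⟩ := residue_surjective y
    obtain ⟨⟨b, s'⟩, hbs⟩ := IsLocalization.surj q.primeCompl r
    have h1 : residue R r * β s' = β b := by rw [hβ, hβ, ← map_mul, hbs]
    have hs'0 : β (s' : B) ≠ 0 := fun h => s'.2 ((hβ0 _).1 h)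
    let cs : Algebra.adjoin (ResidueField R₀) t := ⟨β s', hβmem _⟩
    let cb : Algebra.adjoin (ResidueField R₀) t := ⟨β b, hβmem _⟩
    refine ⟨Polynomial.C cs * Polynomial.X - Polynomial.C cb, ?_, ?_⟩
    · intro h0
      have h2 := congrArg (fun p => Polynomial.coeff p 1) h0
      simp only [Polynomial.coeff_sub, Polynomial.coeff_C_mul, Polynomial.coeff_X_one, mul_one,
        Polynomial.coeff_C_succ, sub_zero, Polynomial.coeff_zero] at h2
      exact hs'0 (congrArg Subtype.val h2)
    · rw [map_sub, map_mul, Polynomial.aeval_C, Polynomial.aeval_X, Polynomial.aeval_C]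
      show β s' * residue R r - β b = 0
      rw [mul_comm, h1, sub_self]
  -- transcendence basis
  obtain ⟨u, hut, hu⟩ := exists_isTranscendenceBasis_subset (R := ResidueField R₀) t
  haveI : Finite u := (ht_fin.subset hut).to_subtype
  have hex : ∀ i : u, ∃ b' : B, β b' = (i : ResidueField R) := fun i => by
    obtain ⟨b', _, h⟩ := hut i.2
    exact ⟨b', h⟩
  choose bfun hbfun using hex
  -- the polynomial ring
  letI : Algebra (MvPolynomial u R₀) B :=
    (MvPolynomial.aeval bfun : MvPolynomial u R₀ →ₐ[R₀] B).toRingHom.toAlgebra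
  have hPB : ∀ p, algebraMap (MvPolynomial u R₀) B p = MvPolynomial.aeval bfun p := fun _ => rfl
  haveI : IsScalarTower R₀ (MvPolynomial u R₀) B :=
    .of_algebraMap_eq (fun r => ((MvPolynomial.aeval bfun).commutes r).symm)
  haveI : Algebra.FiniteType (MvPolynomial u R₀) B :=
    Algebra.FiniteType.of_restrictScalars_finiteType R₀ (MvPolynomial u R₀) B
  have hqP : q.comap (algebraMap (MvPolynomial u R₀) B) = pp u R₀ := by
    ext p
    rw [Ideal.mem_comap, ← hβ0, hPB, MvPolynomial.comp_aeval_apply, pp_eq_ker, RingHom.mem_ker]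
    have h1 : (fun i => β (bfun i)) = ((↑) : u → ResidueField R) := funext hbfun
    rw [h1, ← MvPolynomial.aeval_map_algebraMap (ResidueField R₀), ResidueField.algebraMap_eq]
    exact (injective_iff_map_eq_zero' _).1 hu.1 _
  letI : Algebra (MvPolynomial u R₀) R :=
    ((algebraMap B R).comp (algebraMap (MvPolynomial u R₀) B)).toAlgebra
  haveI : IsScalarTower (MvPolynomial u R₀) B R := .of_algebraMap_eq (fun _ => rfl)
  have hΦ : ∀ y, y ∈ pp u R₀ ↔ algebraMap (MvPolynomial u R₀) R y ∈ maximalIdeal R := fun y => by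
    rw [← hqP, Ideal.mem_comap, ← hmemq]
    rfl
  obtain ⟨l₁, hl₁, hl₁loc⟩ := exists_lift_isLocalHom (pp u R₀) (PL u R₀)
    (algebraMap (MvPolynomial u R₀) R) hΦ
  letI : Algebra (PL u R₀) R := l₁.toAlgebra
  haveI : IsScalarTower (MvPolynomial u R₀) (PL u R₀) R :=
    .of_algebraMap_eq (fun x => (congr($hl₁ x)).symm)
  haveI : IsLocalHom (algebraMap (PL u R₀) R) := hl₁loc
  letI : Algebra (MvPolynomial u R₀) (SH (PL u R₀)) :=
    ((algebraMap (PL u R₀) (SH (PL u R₀))).comp (algebraMap (MvPolynomial u R₀) (PL u R₀))).toAlgebra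
  haveI : IsScalarTower (MvPolynomial u R₀) (PL u R₀) (SH (PL u R₀)) :=
    .of_algebraMap_eq (fun _ => rfl)
  -- algebraicity
  haveI : IsScalarTower R₀ (PL u R₀) R := .of_algebraMap_eq (fun r => by
    rw [IsScalarTower.algebraMap_apply R₀ (MvPolynomial u R₀) (PL u R₀),
      ← IsScalarTower.algebraMap_apply (MvPolynomial u R₀) (PL u R₀) R,
      IsScalarTower.algebraMap_apply (MvPolynomial u R₀) B R,
      ← IsScalarTower.algebraMap_apply R₀ (MvPolynomial u R₀) B,
      ← IsScalarTower.algebraMap_apply R₀ B R])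
  haveI : IsLocalHom (algebraMap R₀ (PL u R₀)) := by
    haveI : IsLocalHom ((algebraMap (PL u R₀) R).comp (algebraMap R₀ (PL u R₀))) := by
      rw [← IsScalarTower.algebraMap_eq R₀ (PL u R₀) R]
      exact hloc0
    exact isLocalHom_of_comp (algebraMap R₀ (PL u R₀)) (algebraMap (PL u R₀) R)
  haveI halg : Algebra.IsAlgebraic (ResidueField (PL u R₀)) (ResidueField R) := by
    rw [hu.isAlgebraic_iff (S := ResidueField (PL u R₀))]
    intro i
    have h1 : ((i : ResidueField R)) = algebraMap (ResidueField (PL u R₀)) (ResidueField R)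
        (residue (PL u R₀) (algebraMap (MvPolynomial u R₀) (PL u R₀) (MvPolynomial.X i))) := by
      rw [ResidueField.algebraMap_residue,
        ← IsScalarTower.algebraMap_apply (MvPolynomial u R₀) (PL u R₀) R,
        IsScalarTower.algebraMap_apply (MvPolynomial u R₀) B R, hPB, MvPolynomial.aeval_X, ← hβ,
        hbfun]
    rw [h1]
    exact isAlgebraic_algebraMap _
  obtain ⟨m', hm', hcomap, H⟩ :=
    abstract_main (pp u R₀) (PL u R₀) (SH (PL u R₀)) B q R A
  exact ⟨u, inferInstance, SH (PL u R₀) ⊗[MvPolynomial u R₀] B, inferInstance, inferInstance,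
    inferInstance, m', hm', hcomap, H⟩

end Middle

end Groth.Agent.Helper8.Sht
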