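import Mathlib
import Groth.Prelude.Def_Hensel
import Groth.Agent.Helper8.ShtC

/-!
# ShtD: scheme wrappers for the strict henselization statements
-/

set_option autoImplicit false
universe u

namespace Groth.Agent.Helper8.Sht

open IsLocalRing TensorProduct Groth.Agent.Helper8.Sh CategoryTheory AlgebraicGeometry

section Specifics

theorem isField_SH_PL (ι : Type u) (k : Type u) [Field k] : IsField (SH (PL ι k)) := by
  rw [IsLocalRing.isField_iff_maximalIdeal_eq]
  have h1 : maximalIdeal (PL ι k) = ⊥ := by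
    rw [← IsLocalization.AtPrime.map_eq_maximalIdeal (pp ι k) (PL ι k)]
    have : pp ι k = ⊥ := by
      show (maximalIdeal k).map _ = ⊥
      rw [IsLocalRing.maximalIdeal_eq_bot, Ideal.map_bot]
    rw [Ideal.map_eq_bot_iff_le_ker]
    exact this.le.trans bot_le
  have h2 := sh_wu (PL ι k)
  rw [← h2, h1, Ideal.map_bot]

theorem isSepClosed_SH_PL (ι : Type u) (k : Type u) [Field k] :
    @IsSepClosed (SH (PL ι k)) (isField_SH_PL ι k).toField := by
  letI : Field (SH (PL ι k)) := (isField_SH_PL ι k).toField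
  haveI : IsSepClosed (ResidueField (SH (PL ι k))) := (sh_isSepClosure (PL ι k)).sep_closed
  have hbot : maximalIdeal (SH (PL ι k)) = ⊥ :=
    IsLocalRing.isField_iff_maximalIdeal_eq.1 (isField_SH_PL ι k)
  have hinj : Function.Injective (residue (SH (PL ι k))) := by
    rw [RingHom.injective_iff_ker_eq_bot, ker_residue, hbot]
  let e : SH (PL ι k) ≃+* ResidueField (SH (PL ι k)) :=
    RingEquiv.ofBijective (residue (SH (PL ι k))) ⟨hinj, residue_surjective⟩
  exact Groth.Agent.Helper1.Hens.isSepClosed_of_ringEquiv e.symm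

theorem isDVR_PL (ι : Type u) [Finite ι] (R₀ : Type u) [CommRing R₀] [IsDomain R₀]
    [IsDiscreteValuationRing R₀] :
    ∃ _ : IsDomain (PL ι R₀), IsDiscreteValuationRing (PL ι R₀) := by
  haveI : Module.Flat R₀ (PL ι R₀) := Module.Flat.trans R₀ (MvPolynomial ι R₀) (PL ι R₀)
  haveI : IsNoetherianRing (PL ι R₀) :=
    IsLocalization.isNoetherianRing (pp ι R₀).primeCompl (PL ι R₀) inferInstance
  apply isDVR_of_flat R₀ (PL ι R₀)
  rw [← IsLocalization.AtPrime.map_eq_maximalIdeal (pp ι R₀) (PL ι R₀), Ideal.map_map,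
    IsScalarTower.algebraMap_eq R₀ (MvPolynomial ι R₀) (PL ι R₀)]
  rfl

end Specifics

section Wrappers

theorem exists_affine_model {R₀ : Type u} [CommRing R₀] {X : Scheme.{u}}
    (f : X ⟶ Spec (CommRingCat.of R₀)) [LocallyOfFiniteType f] (x : X) :
    ∃ (B : Type u) (_ : CommRing B) (_ : Algebra R₀ B) (_ : Algebra.FiniteType R₀ B)
      (q : Ideal B) (_ : q.IsPrime) (_ : Algebra B (X.presheaf.stalk x)),
      IsLocalization.AtPrime (X.presheaf.stalk x) q ∧
      q.comap (algebraMap R₀ B) = PrimeSpectrum.asIdeal (f.base x) := by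
  obtain ⟨U, hU, hxU, -⟩ := exists_isAffineOpen_mem_and_subset (X := X) (x := x)
    (U := ⊤) (Set.mem_univ x)
  let g : Spec Γ(X, U) ⟶ Spec (CommRingCat.of R₀) := hU.fromSpec ≫ f
  let ψ : CommRingCat.of R₀ ⟶ Γ(X, U) := Spec.preimage g
  have hψ : Spec.map ψ = g := Spec.map_preimage g
  letI : Algebra R₀ Γ(X, U) := ψ.hom.toAlgebra
  have hft : Algebra.FiniteType R₀ Γ(X, U) := by
    have h1 : LocallyOfFiniteType (Spec.map ψ) := by
      rw [hψ]
      infer_instance
    have h2 : ψ.hom.FiniteType := (HasRingHomProperty.Spec_iff (P := @LocallyOfFiniteType)).1 h1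
    exact h2
  let y : PrimeSpectrum Γ(X, U) := hU.primeIdealOf ⟨x, hxU⟩
  have hy : hU.fromSpec.base y = x := hU.fromSpec_primeIdealOf ⟨x, hxU⟩
  refine ⟨Γ(X, U), inferInstance, inferInstance, hft, y.asIdeal, y.2,
    TopCat.Presheaf.algebra_section_stalk X.presheaf ⟨x, hxU⟩,
    hU.isLocalization_stalk ⟨x, hxU⟩, ?_⟩
  have h3 : (Spec.map ψ).base y = f.base x := by
    rw [hψ]
    show f.base (hU.fromSpec.base y) = f.base x
    rw [hy]
  rw [← h3]
  rfl

end Wrappers

section Finals

theorem final_field (k : Type u) [Field k] {X : Scheme.{u}}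
    (f : X ⟶ Spec (CommRingCat.of k)) [LocallyOfFiniteType f] (x : X)
    (A : Type u) [CommRing A] [IsLocalRing A] [Algebra (X.presheaf.stalk x) A]
    [IsLocalHom (algebraMap (X.presheaf.stalk x) A)]
    [Hensel.IsStrictHenselization (X.presheaf.stalk x) A] :
    ∃ (k' : Type u) (_ : Field k') (_ : IsSepClosed k') (X' : Scheme.{u})
      (f' : X' ⟶ Spec (CommRingCat.of k'))
      (_ : LocallyOfFiniteType f') (_ : QuasiCompact f') (x' : X') (_ : IsClosed ({x'} : Set X'))
      (_ : Algebra (X'.presheaf.stalk x') A) (_ : IsLocalHom (algebraMap (X'.presheaf.stalk x') A)),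
      Hensel.IsStrictHenselization (X'.presheaf.stalk x') A := by
  obtain ⟨B, _, _, _, q, _, _, hloc, hq⟩ := exists_affine_model f x
  haveI := hloc
  have hq' : q.comap (algebraMap k B) = maximalIdeal k := by
    rw [IsLocalRing.maximalIdeal_eq_bot]
    exact Ideal.eq_bot_of_prime _
  obtain ⟨ι, _, B', _, _, hft, m', hm', -, H⟩ := middle k B q (X.presheaf.stalk x) A hq'
  haveI hm'p : m'.IsPrime := hm'.isPrime
  let x' : PrimeSpectrum B' := ⟨m', hm'p⟩
  letI : Algebra B' ((Spec (CommRingCat.of B')).presheaf.stalk x') :=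
    StructureSheaf.stalkAlgebra B' x'
  have hloc' : IsLocalization.AtPrime ((Spec (CommRingCat.of B')).presheaf.stalk x') m' :=
    StructureSheaf.IsLocalization.to_stalk B' x'
  obtain ⟨alg, hlocal, hSH⟩ := H ((Spec (CommRingCat.of B')).presheaf.stalk x') hloc'
  have hlft : LocallyOfFiniteType
      (Spec.map (CommRingCat.ofHom (algebraMap (SH (PL ι k)) B'))) := by
    rw [HasRingHomProperty.Spec_iff (P := @LocallyOfFiniteType)]
    exact RingHom.finiteType_algebraMap.2 hft
  refine ⟨SH (PL ι k), (isField_SH_PL ι k).toField, isSepClosed_SH_PL ι k,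
    Spec (CommRingCat.of B'), Spec.map (CommRingCat.ofHom (algebraMap (SH (PL ι k)) B')),
    hlft, inferInstance, x', ?_, alg, hlocal, hSH⟩
  exact (PrimeSpectrum.isClosed_singleton_iff_isMaximal x').2 hm'

theorem final_dvr (R : Type u) [CommRing R] [IsDomain R]
    [IsDiscreteValuationRing R] {X : Scheme.{u}} (f : X ⟶ Spec (CommRingCat.of R))
    [LocallyOfFiniteType f] (x : X)
    (hx : f.base x = ((IsLocalRing.closedPoint R : PrimeSpectrum R) : ↥(Spec (CommRingCat.of R))))
    (A : Type u) [CommRing A] [IsLocalRing A] [Algebra (X.presheaf.stalk x) A]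
    [IsLocalHom (algebraMap (X.presheaf.stalk x) A)]
    [Hensel.IsStrictHenselization (X.presheaf.stalk x) A] :
    ∃ (R' : Type u) (_ : CommRing R') (_ : IsDomain R') (_ : IsDiscreteValuationRing R')
      (_ : HenselianLocalRing R')
      (_ : IsSepClosed (IsLocalRing.ResidueField R'))
      (X' : Scheme.{u}) (f' : X' ⟶ Spec (CommRingCat.of R')) (_ : LocallyOfFiniteType f')
      (_ : QuasiCompact f')
      (x' : X') (_ : IsClosed ({x'} : Set X'))
      (_ : f'.base x' =
        ((IsLocalRing.closedPoint R' : PrimeSpectrum R') : ↥(Spec (CommRingCat.of R'))))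
      (_ : Algebra (X'.presheaf.stalk x') A) (_ : IsLocalHom (algebraMap (X'.presheaf.stalk x') A)),
      Hensel.IsStrictHenselization (X'.presheaf.stalk x') A := by
  obtain ⟨B, _, _, _, q, _, _, hloc, hq⟩ := exists_affine_model f x
  haveI := hloc
  have hq' : q.comap (algebraMap R B) = maximalIdeal R := by
    rw [hq, hx]
    rfl
  obtain ⟨ι, _, B', _, _, hft, m', hm', hcomap, H⟩ := middle R B q (X.presheaf.stalk x) A hq'
  haveI hm'p : m'.IsPrime := hm'.isPrime
  let x' : PrimeSpectrum B' := ⟨m', hm'p⟩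
  letI : Algebra B' ((Spec (CommRingCat.of B')).presheaf.stalk x') :=
    StructureSheaf.stalkAlgebra B' x'
  have hloc' : IsLocalization.AtPrime ((Spec (CommRingCat.of B')).presheaf.stalk x') m' :=
    StructureSheaf.IsLocalization.to_stalk B' x'
  obtain ⟨alg, hlocal, hSH⟩ := H ((Spec (CommRingCat.of B')).presheaf.stalk x') hloc'
  have hlft : LocallyOfFiniteType
      (Spec.map (CommRingCat.ofHom (algebraMap (SH (PL ι R)) B'))) := by
    rw [HasRingHomProperty.Spec_iff (P := @LocallyOfFiniteType)]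
    exact RingHom.finiteType_algebraMap.2 hft
  obtain ⟨hdom1, hdvr1⟩ := isDVR_PL ι R
  obtain ⟨hdom2, hdvr2⟩ := sh_dvr (PL ι R)
  refine ⟨SH (PL ι R), inferInstance, hdom2, hdvr2, (sh_strict (PL ι R)).henselian,
    (sh_isSepClosure (PL ι R)).sep_closed,
    Spec (CommRingCat.of B'), Spec.map (CommRingCat.ofHom (algebraMap (SH (PL ι R)) B')),
    hlft, inferInstance, x', ?_, ?_, alg, hlocal, hSH⟩
  · exact (PrimeSpectrum.isClosed_singleton_iff_isMaximal x').2 hm'
  · apply PrimeSpectrum.ext
    exact hcomap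

end Finals

end Groth.Agent.Helper8.Sht
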