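import Mathlib

namespace Groth.Agent.Helper8.Shuffle

open Equiv

variable {α B A₁ A₂ : Type*} [LinearOrder α] [Preorder B] [Preorder A₁] [Preorder A₂] {a : ℕ}
  (e : Fin a ⊕ B ≃ α) (κ₁ : A₁ → Fin a) (κ₂ : A₂ → Fin a)

/-- extension of a permutation of the first block by the identity -/
def ext (σ : Perm (Fin a)) : Perm α := e.permCongr (σ.sumCongr (Equiv.refl B))

lemma ext_inl (σ : Perm (Fin a)) (k : Fin a) : ext e σ (e (Sum.inl k)) = e (Sum.inl (σ k)) := by
  simp [ext, Equiv.permCongr_apply]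

lemma ext_inr (σ : Perm (Fin a)) (b : B) : ext e σ (e (Sum.inr b)) = e (Sum.inr b) := by
  simp [ext, Equiv.permCongr_apply]

lemma ext_mul (σ σ' : Perm (Fin a)) : ext e (σ * σ') = ext e σ * ext e σ' := by
  ext x
  obtain ⟨y, rfl⟩ := e.surjective x
  rcases y with k | b
  · simp [Perm.mul_apply, ext_inl]
  · simp [Perm.mul_apply, ext_inr]

lemma ext_one : ext e (1 : Perm (Fin a)) = 1 := by
  ext x
  obtain ⟨y, rfl⟩ := e.surjective x
  rcases y with k | b
  · simp [ext_inl]
  · simp [ext_inr]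

lemma ext_inv_inl (σ : Perm (Fin a)) (k : Fin a) :
    (ext e σ)⁻¹ (e (Sum.inl k)) = e (Sum.inl (σ⁻¹ k)) := by
  rw [Perm.inv_eq_iff_eq, ext_inl]
  simp

lemma ext_inv_inr (σ : Perm (Fin a)) (b : B) :
    (ext e σ)⁻¹ (e (Sum.inr b)) = e (Sum.inr b) := by
  rw [Perm.inv_eq_iff_eq, ext_inr]

/-- two-block shuffles -/
def Sh₂ (τ : Perm α) : Prop :=
  Monotone (fun k : Fin a => τ (e (Sum.inl k))) ∧ Monotone (fun b : B => τ (e (Sum.inr b)))

/-- shuffles of the first block -/
def ShA (σ : Perm (Fin a)) : Prop :=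
  Monotone (fun i : A₁ => σ (κ₁ i)) ∧ Monotone (fun j : A₂ => σ (κ₂ j))

/-- three-block shuffles -/
def Sh₃ (ν : Perm α) : Prop :=
  Monotone (fun i : A₁ => ν (e (Sum.inl (κ₁ i)))) ∧
    Monotone (fun j : A₂ => ν (e (Sum.inl (κ₂ j)))) ∧ Monotone (fun b : B => ν (e (Sum.inr b)))

lemma strictMono_of_sh₂ {τ : Perm α} (h : Sh₂ e τ) :
    StrictMono (fun k : Fin a => τ (e (Sum.inl k))) :=
  h.1.strictMono_of_injective fun x y hxy => by
    simpa using hxy

theorem bijOn :
    Set.BijOn (fun p : Perm α × Perm (Fin a) => p.1 * ext e p.2)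
      ({τ | Sh₂ e τ} ×ˢ {σ | ShA κ₁ κ₂ σ}) {ν | Sh₃ e κ₁ κ₂ ν} := by
  classical
  refine ⟨?_, ?_, ?_⟩
  · rintro ⟨τ, σ⟩ ⟨hτ, hσ⟩
    refine ⟨?_, ?_, ?_⟩
    · intro i i' hii'
      simp only [Perm.mul_apply, ext_inl]
      exact hτ.1 (hσ.1 hii')
    · intro j j' hjj'
      simp only [Perm.mul_apply, ext_inl]
      exact hτ.1 (hσ.2 hjj')
    · intro b b' hbb'
      simp only [Perm.mul_apply, ext_inr]
      exact hτ.2 hbb'
  · rintro ⟨τ, σ⟩ ⟨hτ, hσ⟩ ⟨τ', σ'⟩ ⟨hτ', hσ'⟩ heq
    simp only at heq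
    -- τ = τ' * ext (σ' * σ⁻¹)
    have h1 : τ = τ' * ext e (σ' * σ⁻¹) := by
      rw [ext_mul, ← mul_assoc, ← heq, mul_assoc, ← ext_mul, mul_inv_cancel, ext_one, mul_one]
    set ρ := σ' * σ⁻¹ with hρ
    have h2 : (fun k : Fin a => τ (e (Sum.inl k))) = fun k : Fin a => τ' (e (Sum.inl k)) := by
      apply (StrictMono.range_inj (strictMono_of_sh₂ e hτ) (strictMono_of_sh₂ e hτ')).mp
      ext x
      constructor
      · rintro ⟨k, rfl⟩
        refine ⟨ρ k, ?_⟩
        simp only [h1, Perm.mul_apply, ext_inl]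
      · rintro ⟨k, rfl⟩
        refine ⟨ρ⁻¹ k, ?_⟩
        simp only [h1, Perm.mul_apply, ext_inl, Perm.coe_inv, Equiv.apply_symm_apply]
    have h3 : ρ = 1 := by
      ext k
      have := congrFun h2 k
      simp only [h1, Perm.mul_apply, ext_inl] at this
      have := e.injective (τ'.injective this)
      simp only [Sum.inl.injEq] at this
      rw [this]
      rfl
    have h4 : σ' = σ := by
      have : σ' * σ⁻¹ = 1 := h3
      rwa [mul_inv_eq_one] at this
    rw [h3, ext_one, mul_one] at h1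
    rw [h1, h4]
  · intro ν hν
    -- enumerate the image of the first block
    have hinj : Function.Injective (fun k : Fin a => ν (e (Sum.inl k))) := fun x y hxy => by
      simpa using hxy
    set S : Finset α := Finset.univ.image (fun k : Fin a => ν (e (Sum.inl k))) with hS
    have hcard : S.card = a := by
      rw [hS, Finset.card_image_of_injective _ hinj]; simp
    set e' := S.orderEmbOfFin hcard with he'
    have hmem : ∀ k : Fin a, ∃ k' : Fin a, e' k' = ν (e (Sum.inl k)) := by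
      intro k
      have : ν (e (Sum.inl k)) ∈ Set.range e' := by
        rw [he', Finset.range_orderEmbOfFin]
        exact Finset.mem_image_of_mem _ (Finset.mem_univ k)
      exact this
    choose f hf using hmem
    have hfinj : Function.Injective f := by
      intro x y hxy
      apply hinj
      change ν (e (Sum.inl x)) = ν (e (Sum.inl y))
      rw [← hf x, ← hf y, hxy]
    let σ : Perm (Fin a) := Equiv.ofBijective f (Finite.injective_iff_bijective.mp hfinj)
    have hσ : ∀ k, e' (σ k) = ν (e (Sum.inl k)) := hf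
    refine ⟨(ν * (ext e σ)⁻¹, σ), ⟨⟨?_, ?_⟩, ⟨?_, ?_⟩⟩, ?_⟩
    · intro k k' hkk'
      simp only [Perm.mul_apply, ext_inv_inl]
      rw [← hσ, ← hσ, Perm.coe_inv, Equiv.apply_symm_apply, Equiv.apply_symm_apply]
      exact e'.monotone hkk'
    · intro b b' hbb'
      simp only [Perm.mul_apply, ext_inv_inr]
      exact hν.2.2 hbb'
    · intro i i' hii'
      have := hν.1 hii'
      simp only at this
      rw [← hσ, ← hσ] at this
      exact e'.le_iff_le.mp this
    · intro j j' hjj'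
      have := hν.2.1 hjj'
      simp only at this
      rw [← hσ, ← hσ] at this
      exact e'.le_iff_le.mp this
    · simp

end Groth.Agent.Helper8.Shuffle
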