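import Mathlib
import Groth.Prelude.Def_W4c2movlemaddchowShuffle
import Groth.Agent.Helper8.Shuffle

namespace Groth.Agent.Helper8.Shuffle1

open Equiv Groth.Agent.Helper8.Shuffle

theorem main80 (r s t : ℕ) :
    Set.BijOn
      (fun p : Equiv.Perm (Fin (r + s + t)) × Equiv.Perm (Fin (r + s)) =>
        p.1 * W4c2movlemaddchow.extRight (r + s) t p.2)
      ({τ | W4c2movlemaddchow.IsShuffle₂ (r + s) t τ} ×ˢ {σ | W4c2movlemaddchow.IsShuffle₂ r s σ})
      {ν | W4c2movlemaddchow.IsShuffle₃ r s t ν} :=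
  Shuffle.bijOn (finSumFinEquiv : Fin (r + s) ⊕ Fin t ≃ Fin (r + s + t))
    (Fin.castAdd s : Fin r → Fin (r + s)) (Fin.natAdd r : Fin s → Fin (r + s))

end Groth.Agent.Helper8.Shuffle1
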