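import Mathlib
import Groth.Prelude.Def_W4c2movlemaddchowShuffle
import Groth.Agent.Helper8.Shuffle

namespace Groth.Agent.Helper8.Shuffle2

open Equiv Groth.Agent.Helper8.Shuffle

/-- the block decomposition `Fin (s+t) ⊕ Fin r ≃ Fin (r+s+t)` with the `r` block first. -/
def eL (r s t : ℕ) : Fin (s + t) ⊕ Fin r ≃ Fin (r + s + t) :=
  (Equiv.sumComm _ _).trans (finSumFinEquiv.trans (finCongr (Nat.add_assoc r s t)).symm)

lemma eL_inl (r s t : ℕ) (k : Fin (s + t)) :
    eL r s t (Sum.inl k) = Fin.cast (Nat.add_assoc r s t).symm (Fin.natAdd r k) := by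
  simp [eL]

lemma eL_inr (r s t : ℕ) (i : Fin r) :
    eL r s t (Sum.inr i) = Fin.cast (Nat.add_assoc r s t).symm (Fin.castAdd (s + t) i) := by
  simp [eL]

lemma eL_inr' (r s t : ℕ) (i : Fin r) :
    eL r s t (Sum.inr i) = Fin.castAdd t (Fin.castAdd s i) := by
  rw [eL_inr]; ext; simp

lemma eL_inl_castAdd (r s t : ℕ) (j : Fin s) :
    eL r s t (Sum.inl (Fin.castAdd t j)) = Fin.castAdd t (Fin.natAdd r j) := by
  rw [eL_inl]; ext; simp

lemma eL_inl_natAdd (r s t : ℕ) (l : Fin t) :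
    eL r s t (Sum.inl (Fin.natAdd s l)) = Fin.natAdd (r + s) l := by
  rw [eL_inl]; ext; simp [Nat.add_assoc]

lemma extLeft_eq (r s t : ℕ) (σ : Perm (Fin (s + t))) :
    W4c2movlemaddchow.extLeft r s t σ = ext (eL r s t) σ := by
  ext x
  obtain ⟨y, rfl⟩ := (eL r s t).surjective x
  rcases y with k | i
  · rw [ext_inl, eL_inl, eL_inl]
    simp [W4c2movlemaddchow.extLeft, Equiv.permCongr_apply]
  · rw [ext_inr, eL_inr]
    simp [W4c2movlemaddchow.extLeft, Equiv.permCongr_apply]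

lemma sh₃_iff (r s t : ℕ) (ν : Perm (Fin (r + s + t))) :
    W4c2movlemaddchow.IsShuffle₃ r s t ν ↔
      Sh₃ (eL r s t) (Fin.castAdd t : Fin s → Fin (s + t)) (Fin.natAdd s : Fin t → Fin (s + t)) ν := by
  unfold W4c2movlemaddchow.IsShuffle₃ Sh₃
  simp only [eL_inr', eL_inl_castAdd, eL_inl_natAdd]
  tauto

lemma sh₂_iff (r s t : ℕ) (τ : Perm (Fin (r + s + t))) :
    W4c2movlemaddchow.IsShuffle₂ r (s + t) ((finCongr (Nat.add_assoc r s t)).permCongr τ) ↔
      Sh₂ (eL r s t) τ := by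
  unfold W4c2movlemaddchow.IsShuffle₂ Sh₂
  have key : ∀ {β : Type} [Preorder β] (f : β → Fin (r + s + t)),
      Monotone (fun b => (finCongr (Nat.add_assoc r s t)) (f b)) ↔ Monotone f := by
    intro β _ f
    constructor
    · intro h b b' hbb'
      exact h hbb'
    · intro h b b' hbb'
      exact h hbb'
  simp only [Equiv.permCongr_apply, eL_inl, eL_inr]
  rw [key, key]
  simp only [finCongr_symm, finCongr_apply]
  tauto

theorem main81 (r s t : ℕ) :
    Set.BijOn
      (fun p : Equiv.Perm (Fin (r + s + t)) × Equiv.Perm (Fin (s + t)) =>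
        p.1 * W4c2movlemaddchow.extLeft r s t p.2)
      ({τ | W4c2movlemaddchow.IsShuffle₂ r (s + t) ((finCongr (Nat.add_assoc r s t)).permCongr τ)} ×ˢ
        {σ | W4c2movlemaddchow.IsShuffle₂ s t σ})
      {ν | W4c2movlemaddchow.IsShuffle₃ r s t ν} := by
  have h := Shuffle.bijOn (eL r s t) (Fin.castAdd t : Fin s → Fin (s + t))
    (Fin.natAdd s : Fin t → Fin (s + t))
  have e1 : {τ : Perm (Fin (r + s + t)) |
      W4c2movlemaddchow.IsShuffle₂ r (s + t) ((finCongr (Nat.add_assoc r s t)).permCongr τ)} =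
      {τ | Sh₂ (eL r s t) τ} := by
    ext τ; exact sh₂_iff r s t τ
  have e2 : {ν : Perm (Fin (r + s + t)) | W4c2movlemaddchow.IsShuffle₃ r s t ν} =
      {ν | Sh₃ (eL r s t) (Fin.castAdd t : Fin s → Fin (s + t))
        (Fin.natAdd s : Fin t → Fin (s + t)) ν} := by
    ext ν; exact sh₃_iff r s t ν
  rw [e1, e2]
  have e3 : (fun p : Equiv.Perm (Fin (r + s + t)) × Equiv.Perm (Fin (s + t)) =>
        p.1 * W4c2movlemaddchow.extLeft r s t p.2) =
      (fun p => p.1 * ext (eL r s t) p.2) := by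
    funext p; rw [extLeft_eq]
  rw [e3]
  exact h

end Groth.Agent.Helper8.Shuffle2
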