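import Mathlib
import Groth.Prelude.Def_W4c2movlemaddchowShuffle
import Groth.Agent.Helper8.Shuffle1
import Groth.Agent.Helper8.Shuffle2

namespace Groth.Agent.Helper8.Shuffle3

open Equiv

lemma sum_eq {n m : ℕ} (E : Perm (Fin m) → Perm (Fin n))
    (hE : ∀ σ, Perm.sign (E σ) = Perm.sign σ)
    (PS PU : Perm (Fin n) → Prop) (PT : Perm (Fin m) → Prop)
    [DecidablePred PS] [DecidablePred PU] [DecidablePred PT]
    (h : Set.BijOn (fun p : Perm (Fin n) × Perm (Fin m) => p.1 * E p.2)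
      ({τ | PS τ} ×ˢ {σ | PT σ}) {ν | PU ν}) :
    (∑ ν ∈ Finset.univ.filter PU,
        MonoidAlgebra.single ν (((Equiv.Perm.sign ν : ℤˣ) : ℤ)) :
          MonoidAlgebra ℤ (Equiv.Perm (Fin n))) =
      ∑ τ ∈ Finset.univ.filter PS,
        ∑ σ ∈ Finset.univ.filter PT,
          MonoidAlgebra.single (τ * E σ)
            (((Equiv.Perm.sign τ : ℤˣ) : ℤ) * ((Equiv.Perm.sign σ : ℤˣ) : ℤ)) := by
  rw [← Finset.sum_product']
  symm
  refine Finset.sum_nbij (fun p => p.1 * E p.2) ?_ ?_ ?_ ?_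
  · rintro ⟨τ, σ⟩ hp
    simp only [Finset.mem_product, Finset.mem_filter, Finset.mem_univ, true_and] at hp
    simp only [Finset.mem_filter, Finset.mem_univ, true_and]
    exact h.mapsTo (show (τ, σ) ∈ {τ | PS τ} ×ˢ {σ | PT σ} from ⟨hp.1, hp.2⟩)
  · rintro ⟨τ, σ⟩ hp ⟨τ', σ'⟩ hp' heq
    simp only [Finset.coe_product, Finset.coe_filter, Finset.mem_univ, true_and,
      Set.mem_prod, Set.mem_setOf_eq] at hp hp'
    exact h.injOn (show (τ, σ) ∈ {τ | PS τ} ×ˢ {σ | PT σ} from ⟨hp.1, hp.2⟩)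
      (show (τ', σ') ∈ {τ | PS τ} ×ˢ {σ | PT σ} from ⟨hp'.1, hp'.2⟩) heq
  · intro ν hν
    simp only [Finset.coe_filter, Finset.mem_univ, true_and, Set.mem_setOf_eq] at hν
    obtain ⟨⟨τ, σ⟩, hp, rfl⟩ := h.surjOn (show ν ∈ {ν | PU ν} from hν)
    refine ⟨(τ, σ), ?_, rfl⟩
    simp only [Finset.coe_product, Finset.coe_filter, Finset.mem_univ, true_and,
      Set.mem_prod, Set.mem_setOf_eq]
    exact ⟨hp.1, hp.2⟩
  · rintro ⟨τ, σ⟩ _
    simp only [Perm.sign_mul, hE, Units.val_mul]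

lemma sign_extRight (a t : ℕ) (σ : Perm (Fin a)) :
    Perm.sign (W4c2movlemaddchow.extRight a t σ) = Perm.sign σ := by
  simp [W4c2movlemaddchow.extRight, Perm.sign_permCongr, Perm.sign_sumCongr]

lemma sign_extLeft (r s t : ℕ) (σ : Perm (Fin (s + t))) :
    Perm.sign (W4c2movlemaddchow.extLeft r s t σ) = Perm.sign σ := by
  simp [W4c2movlemaddchow.extLeft, Perm.sign_permCongr, Perm.sign_sumCongr]

theorem main82 (r s t : ℕ) :
    ((∑ ν ∈ Finset.univ.filter (W4c2movlemaddchow.IsShuffle₃ r s t),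
        MonoidAlgebra.single ν (((Equiv.Perm.sign ν : ℤˣ) : ℤ)) :
          MonoidAlgebra ℤ (Equiv.Perm (Fin (r + s + t)))) =
      ∑ τ ∈ Finset.univ.filter (W4c2movlemaddchow.IsShuffle₂ (r + s) t),
        ∑ σ ∈ Finset.univ.filter (W4c2movlemaddchow.IsShuffle₂ r s),
          MonoidAlgebra.single (τ * W4c2movlemaddchow.extRight (r + s) t σ)
            (((Equiv.Perm.sign τ : ℤˣ) : ℤ) * ((Equiv.Perm.sign σ : ℤˣ) : ℤ))) ∧
    ((∑ ν ∈ Finset.univ.filter (W4c2movlemaddchow.IsShuffle₃ r s t),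
        MonoidAlgebra.single ν (((Equiv.Perm.sign ν : ℤˣ) : ℤ)) :
          MonoidAlgebra ℤ (Equiv.Perm (Fin (r + s + t)))) =
      ∑ τ ∈ Finset.univ.filter (fun τ : Equiv.Perm (Fin (r + s + t)) =>
          W4c2movlemaddchow.IsShuffle₂ r (s + t) ((finCongr (Nat.add_assoc r s t)).permCongr τ)),
        ∑ σ ∈ Finset.univ.filter (W4c2movlemaddchow.IsShuffle₂ s t),
          MonoidAlgebra.single (τ * W4c2movlemaddchow.extLeft r s t σ)
            (((Equiv.Perm.sign τ : ℤˣ) : ℤ) * ((Equiv.Perm.sign σ : ℤˣ) : ℤ))) := by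
  refine ⟨?_, ?_⟩
  · exact sum_eq (W4c2movlemaddchow.extRight (r + s) t) (sign_extRight _ _) _ _ _
      (Shuffle1.main80 r s t)
  · exact sum_eq (W4c2movlemaddchow.extLeft r s t) (sign_extLeft _ _ _) _ _ _
      (Shuffle2.main81 r s t)

end Groth.Agent.Helper8.Shuffle3
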