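import Mathlib
import Groth.Agent.Helper5.KA4
import Groth.Agent.Helper5.IntegralDim

/-!
# SiA: integral closures in reduced Artinian rings, factor by factor; Krull–Akizuki per factor
-/

set_option autoImplicit false
universe u

namespace Groth.Agent.Helper8.Si

open TensorProduct Polynomial

section Prod

variable (B L' : Type u) [CommRing B] [CommRing L'] [Algebra B L'] [IsArtinianRing L']
  [IsReduced L']

theorem isIntegral_equivPi_symm
    (d : ∀ m : MaximalSpectrum L', integralClosure B (L' ⧸ m.asIdeal)) :
    IsIntegral B ((IsArtinianRing.equivPi L').symm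
      (fun m => ((d m : integralClosure B (L' ⧸ m.asIdeal)) : L' ⧸ m.asIdeal))) := by
  classical
  haveI : Fintype (MaximalSpectrum L') := Fintype.ofFinite _
  set y := (IsArtinianRing.equivPi L').symm
    (fun m => ((d m : integralClosure B (L' ⧸ m.asIdeal)) : L' ⧸ m.asIdeal)) with hy
  have hpm : ∀ m : MaximalSpectrum L', ∃ p : B[X], p.Monic ∧
      p.eval₂ (algebraMap B (L' ⧸ m.asIdeal)) ((d m : integralClosure B (L' ⧸ m.asIdeal)) : L' ⧸ m.asIdeal) = 0 :=
    fun m => (d m).2
  choose p hpmonic hp0 using hpm
  refine ⟨∏ m, p m, monic_prod_of_monic _ _ (fun m _ => hpmonic m), ?_⟩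
  apply (IsArtinianRing.equivPi L').injective
  rw [map_zero]
  ext m
  rw [IsArtinianRing.equivPi_apply, Pi.zero_apply]
  have h1 : Ideal.Quotient.mk m.asIdeal (eval₂ (algebraMap B L') y (∏ m, p m)) =
      eval₂ (algebraMap B (L' ⧸ m.asIdeal)) (Ideal.Quotient.mk m.asIdeal y) (∏ m, p m) := by
    rw [Polynomial.hom_eval₂]
    rfl
  have h2 : Ideal.Quotient.mk m.asIdeal y =
      ((d m : integralClosure B (L' ⧸ m.asIdeal)) : L' ⧸ m.asIdeal) := by
    rw [← IsArtinianRing.equivPi_apply, hy, AlgEquiv.apply_symm_apply]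
  rw [h1, h2]
  exact Polynomial.eval₂_eq_zero_of_dvd_of_eval₂_eq_zero _ _
    (Finset.dvd_prod_of_mem p (Finset.mem_univ m)) (hp0 m)

theorem isNoetherianRing_integralClosure_of_factors
    (h : ∀ m : MaximalSpectrum L', IsNoetherianRing (integralClosure B (L' ⧸ m.asIdeal))) :
    IsNoetherianRing (integralClosure B L') := by
  classical
  haveI := h
  haveI : IsNoetherianRing (∀ m : MaximalSpectrum L', integralClosure B (L' ⧸ m.asIdeal)) :=
    inferInstance
  let Ξ : (∀ m : MaximalSpectrum L', integralClosure B (L' ⧸ m.asIdeal)) →+*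
      integralClosure B L' :=
    { toFun := fun d => ⟨(IsArtinianRing.equivPi L').symm
        (fun m => ((d m : integralClosure B (L' ⧸ m.asIdeal)) : L' ⧸ m.asIdeal)),
        isIntegral_equivPi_symm B L' d⟩
      map_one' := Subtype.ext (by
        show (IsArtinianRing.equivPi L').symm _ = 1
        rw [AlgEquiv.symm_apply_eq, map_one]
        rfl)
      map_mul' := fun d d' => Subtype.ext (by
        show (IsArtinianRing.equivPi L').symm _ =
          (IsArtinianRing.equivPi L').symm _ * (IsArtinianRing.equivPi L').symm _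
        rw [← map_mul]
        rfl)
      map_zero' := Subtype.ext (by
        show (IsArtinianRing.equivPi L').symm _ = 0
        rw [AlgEquiv.symm_apply_eq, map_zero]
        rfl)
      map_add' := fun d d' => Subtype.ext (by
        show (IsArtinianRing.equivPi L').symm _ =
          (IsArtinianRing.equivPi L').symm _ + (IsArtinianRing.equivPi L').symm _
        rw [← map_add]
        rfl) }
  apply isNoetherianRing_of_surjective _ _ Ξ
  intro x
  refine ⟨fun m => ⟨Ideal.Quotient.mk m.asIdeal (x : L'),
    x.2.map (Ideal.Quotient.mkₐ B m.asIdeal)⟩, Subtype.ext ?_⟩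
  show (IsArtinianRing.equivPi L').symm (fun m => Ideal.Quotient.mk m.asIdeal (x : L')) = (x : L')
  rw [AlgEquiv.symm_apply_eq]
  ext m
  rw [IsArtinianRing.equivPi_apply]

end Prod

end Groth.Agent.Helper8.Si
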