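import Mathlib
import Groth.Agent.Helper8.SiA

/-!
# SiB: integral closure of an essentially-finite-type DVR extension in `(L ⊗_K K')_red`
-/

set_option autoImplicit false
universe u

namespace Groth.Agent.Helper8.Si

open TensorProduct Polynomial

section Field

variable (B T F : Type u) [CommRing B] [IsDomain B] [IsDiscreteValuationRing B] [CommRing T]
  [IsNoetherianRing T] [Field F] [Algebra B F]

theorem isNoetherianRing_integralClosure_field
    (ψ : T →+* F) (β : B →+* T) (hβ : ∀ b, ψ (β b) = algebraMap B F b)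
    (hint : ∀ t, IsIntegral B (ψ t))
    (hfrac : ∀ x : F, ∃ t s, ψ s ≠ 0 ∧ x * ψ s = ψ t) :
    IsNoetherianRing (integralClosure B F) := by
  letI : Algebra B T := β.toAlgebra
  let ψ' : T →ₐ[B] F := { ψ with commutes' := fun b => hβ b }
  let R : Subalgebra B F := ψ'.range
  haveI : IsNoetherianRing R :=
    isNoetherianRing_of_surjective T R ψ'.rangeRestrict.toRingHom ψ'.rangeRestrict_surjective
  haveI : Algebra.IsIntegral B R := ⟨fun r => by
    obtain ⟨t, ht⟩ := r.2
    have h1 : IsIntegral B (algebraMap R F r) := by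
      show IsIntegral B (r : F)
      rw [← ht]
      exact hint t
    exact (isIntegral_algebraMap_iff (A := R) (B := F) Subtype.val_injective).1 h1⟩
  haveI : Ring.KrullDimLE 1 R := by
    rw [Ring.krullDimLE_iff]
    exact (Groth.Agent.Helper5.IntegralDim.ringKrullDim_le_of_isIntegral (R := B) (S := R)).trans
      (Ring.krullDimLE_iff.1 inferInstance)
  haveI : IsFractionRing R F := by
    refine IsFractionRing.of_field (R := R) (K := F) fun z => ?_
    obtain ⟨t, s, hs, hts⟩ := hfrac z
    refine ⟨⟨ψ t, t, rfl⟩, ⟨ψ s, s, rfl⟩, ?_⟩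
    show z = ψ t / ψ s
    rw [eq_div_iff hs]
    exact hts
  have hle : R ≤ integralClosure B F := by
    rintro _ ⟨t, rfl⟩
    exact hint t
  letI : Algebra R (integralClosure B F) := (Subalgebra.inclusion hle).toRingHom.toAlgebra
  haveI : IsScalarTower R (integralClosure B F) F := IsScalarTower.of_algebraMap_eq (fun _ => rfl)
  exact Groth.Agent.Helper5.KA.isNoetherianRing_of_between R F F (integralClosure B F)
    Subtype.val_injective

end Field

section Core

variable (A B A' L L' : Type u) [CommRing A] [CommRing B] [IsDomain B] [IsDiscreteValuationRing B]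
  [Algebra A B] [Algebra.EssFiniteType A B]
  [CommRing A'] [Algebra A A'] [IsNoetherianRing A'] [Algebra.IsIntegral A A']
  [Field L] [Algebra B L] [IsFractionRing B L]
  [CommRing L'] [IsReduced L'] [Algebra A L'] [Algebra B L'] [Algebra A' L'] [Algebra L L']
  [IsScalarTower A B L'] [IsScalarTower A A' L'] [IsScalarTower B L L'] [Algebra.IsIntegral L L']

/-- the product map `A' ⊗[A] B → L'` -/
noncomputable abbrev phi : A' ⊗[A] B →ₐ[A] L' :=
  Algebra.TensorProduct.productMap (IsScalarTower.toAlgHom A A' L') (IsScalarTower.toAlgHom A B L')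

omit [IsDomain B] [IsDiscreteValuationRing B] [Algebra.EssFiniteType A B] [IsNoetherianRing A']
  [Algebra.IsIntegral A A'] [IsReduced L'] in
theorem phi_tmul (a' : A') (b : B) :
    phi A B A' L' (a' ⊗ₜ b) = algebraMap A' L' a' * algebraMap B L' b := by
  simp [phi]

include L in
omit [IsDiscreteValuationRing B] [IsReduced L'] [Algebra.IsIntegral L L'] in
theorem isUnit_algebraMap_of_ne_zero (s : B) (hs : s ≠ 0) : IsUnit (algebraMap B L' s) := by
  rw [IsScalarTower.algebraMap_apply B L L']
  apply IsUnit.map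
  rw [isUnit_iff_ne_zero]
  exact (map_ne_zero_iff _ (IsFractionRing.injective B L)).2 hs

omit [IsDomain B] [IsDiscreteValuationRing B] [Algebra.EssFiniteType A B] [IsNoetherianRing A']
  [IsReduced L'] in
theorem isIntegral_phi (t : A' ⊗[A] B) : IsIntegral B (phi A B A' L' t) := by
  induction t using TensorProduct.induction_on with
  | zero => rw [map_zero]; exact isIntegral_zero
  | tmul a' b =>
    rw [phi_tmul]
    refine IsIntegral.mul ?_ isIntegral_algebraMap
    have h1 : IsIntegral A a' := Algebra.IsIntegral.isIntegral a'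
    have h2 : IsIntegral A (algebraMap A' L' a') := h1.map (IsScalarTower.toAlgHom A A' L')
    exact h2.tower_top
  | add x y hx hy => rw [map_add]; exact hx.add hy

include L in
omit [IsDiscreteValuationRing B] [Algebra.IsIntegral A A'] [IsReduced L']
  [Algebra.IsIntegral L L'] in
theorem isNoetherianRing_L'
    (hfrac : ∀ x : L', ∃ (t : A' ⊗[A] B) (s : B), s ≠ 0 ∧
      x * algebraMap B L' s = phi A B A' L' t) : IsNoetherianRing L' := by
  haveI : IsNoetherianRing (A' ⊗[A] B) := Algebra.EssFiniteType.isNoetherianRing A' (A' ⊗[A] B)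
  let C : Subalgebra A L' := (phi A B A' L').range
  haveI : IsNoetherianRing C :=
    isNoetherianRing_of_surjective (A' ⊗[A] B) C (phi A B A' L').rangeRestrict.toRingHom
      (phi A B A' L').rangeRestrict_surjective
  let β' : B →* C :=
    { toFun := fun b => ⟨algebraMap B L' b, ⟨1 ⊗ₜ b, by
        show phi A B A' L' (1 ⊗ₜ b) = _
        rw [phi_tmul, map_one, one_mul]⟩⟩
      map_one' := Subtype.ext (map_one _)
      map_mul' := fun x y => Subtype.ext (map_mul _ _ _) }
  let M : Submonoid C := (nonZeroDivisors B).map β'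
  haveI : IsLocalization M L' := by
    rw [isLocalization_iff]
    refine ⟨?_, ?_, ?_⟩
    · rintro ⟨_, b, hb, rfl⟩
      exact isUnit_algebraMap_of_ne_zero B L L' b (nonZeroDivisors.ne_zero hb)
    · intro z
      obtain ⟨t, s, hs, hts⟩ := hfrac z
      exact ⟨(⟨phi A B A' L' t, t, rfl⟩, ⟨β' s, s, mem_nonZeroDivisors_of_ne_zero hs, rfl⟩), hts⟩
    · intro x y hxy
      exact ⟨1, by rw [Subtype.ext hxy]⟩
  exact IsLocalization.isNoetherianRing M L' inferInstance

include L in
omit [IsReduced L'] in
theorem isArtinianRing_L' (hN : IsNoetherianRing L') : IsArtinianRing L' := by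
  rw [isArtinianRing_iff_isNoetherianRing_krullDimLE_zero]
  refine ⟨hN, ?_⟩
  rw [Ring.krullDimLE_zero_iff]
  intro p hp
  apply Ideal.isMaximal_of_isIntegral_of_isMaximal_comap (R := L) p
  have : (p.comap (algebraMap L L')).IsPrime := Ideal.comap_isPrime _ _
  rw [Ideal.eq_bot_of_prime (p.comap (algebraMap L L'))]
  exact Ideal.bot_isMaximal

include L in
theorem core
    (hfrac : ∀ x : L', ∃ (t : A' ⊗[A] B) (s : B), s ≠ 0 ∧
      x * algebraMap B L' s = phi A B A' L' t) :
    IsNoetherianRing (integralClosure B L') := by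
  have hN : IsNoetherianRing L' := isNoetherianRing_L' A B A' L L' hfrac
  haveI : IsArtinianRing L' := isArtinianRing_L' L L' hN
  apply isNoetherianRing_integralClosure_of_factors B L'
  intro m
  haveI : IsNoetherianRing (A' ⊗[A] B) := Algebra.EssFiniteType.isNoetherianRing A' (A' ⊗[A] B)
  letI : Field (L' ⧸ m.asIdeal) := Ideal.Quotient.field m.asIdeal
  refine isNoetherianRing_integralClosure_field B (A' ⊗[A] B) (L' ⧸ m.asIdeal)
    ((Ideal.Quotient.mk m.asIdeal).comp (phi A B A' L').toRingHom)
    (Algebra.TensorProduct.includeRight (R := A) (A := A') (B := B)).toRingHom ?_ ?_ ?_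
  · intro b
    show Ideal.Quotient.mk m.asIdeal (phi A B A' L' (1 ⊗ₜ b)) = _
    rw [phi_tmul, map_one, one_mul]
    rfl
  · intro t
    exact (isIntegral_phi A B A' L' t).map (Ideal.Quotient.mkₐ B m.asIdeal)
  · intro x
    obtain ⟨x', rfl⟩ := Ideal.Quotient.mk_surjective x
    obtain ⟨t, s, hs, hts⟩ := hfrac x'
    refine ⟨t, 1 ⊗ₜ s, ?_, ?_⟩
    · show Ideal.Quotient.mk m.asIdeal (phi A B A' L' (1 ⊗ₜ s)) ≠ 0
      rw [phi_tmul, map_one, one_mul]
      exact ((isUnit_algebraMap_of_ne_zero B L L' s hs).map (Ideal.Quotient.mk m.asIdeal)).ne_zero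
    · show Ideal.Quotient.mk m.asIdeal x' * Ideal.Quotient.mk m.asIdeal (phi A B A' L' (1 ⊗ₜ s)) =
        Ideal.Quotient.mk m.asIdeal (phi A B A' L' t)
      rw [phi_tmul, map_one, one_mul, ← map_mul, hts]

end Core

section Main

theorem main (A B K L : Type u) [CommRing A] [IsDomain A]
    [IsDiscreteValuationRing A] [CommRing B] [IsDomain B] [IsDiscreteValuationRing B] [Algebra A B]
    (hinj : Function.Injective (algebraMap A B)) [Algebra.EssFiniteType A B]
    [Field K] [Field L] [Algebra A K] [IsFractionRing A K] [Algebra B L] [IsFractionRing B L]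
    [Algebra K L] [Algebra A L] [IsScalarTower A K L] [IsScalarTower A B L]
    (K' : Type u) [Field K'] [Algebra K K'] [Algebra A K'] [IsScalarTower A K K']
    [Algebra.IsAlgebraic K K']
    (hA' : IsNoetherianRing (integralClosure A K'))
    (L' : Type u) [CommRing L'] [IsReduced L'] [Algebra K L'] [Algebra L L'] [Algebra K' L']
    [Algebra B L']
    [IsScalarTower K L L'] [IsScalarTower K K' L'] [IsScalarTower B L L']
    (q : L ⊗[K] K' →ₐ[K] L') (hq : Function.Surjective q)
    (hqL : ∀ y : L, q (y ⊗ₜ 1) = algebraMap L L' y)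
    (hqK : ∀ z : K', q (1 ⊗ₜ z) = algebraMap K' L' z) :
    IsNoetherianRing (integralClosure B L') := by
  letI : Algebra A L' := ((algebraMap K L').comp (algebraMap A K)).toAlgebra
  haveI : IsScalarTower A K L' := IsScalarTower.of_algebraMap_eq (fun _ => rfl)
  haveI : IsScalarTower A K' L' := IsScalarTower.of_algebraMap_eq (fun a => by
    rw [IsScalarTower.algebraMap_apply A K L', IsScalarTower.algebraMap_apply A K K',
      ← IsScalarTower.algebraMap_apply K K' L'])
  haveI : IsScalarTower A B L' := IsScalarTower.of_algebraMap_eq (fun a => by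
    rw [IsScalarTower.algebraMap_apply B L L', ← IsScalarTower.algebraMap_apply A B L,
      IsScalarTower.algebraMap_apply A K L, ← IsScalarTower.algebraMap_apply K L L']
    rfl)
  haveI : IsScalarTower A (integralClosure A K') L' := IsScalarTower.of_algebraMap_eq (fun a => by
    rw [IsScalarTower.algebraMap_apply A K' L']
    rfl)
  haveI := hA'
  haveI : Algebra.IsIntegral K K' := Algebra.IsAlgebraic.isIntegral
  haveI : Algebra.IsIntegral L L' := by
    let qL : L ⊗[K] K' →ₐ[L] L' :=
      { q.toRingHom with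
        commutes' := fun l => by
          show q (l ⊗ₜ 1) = _
          exact hqL l }
    exact ⟨fun x => by
      obtain ⟨w, rfl⟩ := hq x
      exact (Algebra.IsIntegral.isIntegral (R := L) w).map qL⟩
  apply core A B (integralClosure A K') L L'
  intro x
  obtain ⟨w, rfl⟩ := hq x
  induction w using TensorProduct.induction_on with
  | zero => exact ⟨0, 1, one_ne_zero, by rw [map_zero, map_zero, zero_mul]⟩
  | tmul l z =>
    obtain ⟨b, s₁, hs₁, rfl⟩ := IsFractionRing.div_surjective (A := B) l
    have hz : IsIntegral K z := Algebra.IsIntegral.isIntegral z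
    obtain ⟨⟨a, ha⟩, haz⟩ :=
      IsIntegral.exists_multiple_integral_of_isLocalization (nonZeroDivisors A) z hz
    have haz' : IsIntegral A (a • z) := haz
    refine ⟨(⟨a • z, haz'⟩ : integralClosure A K') ⊗ₜ b, s₁ * algebraMap A B a, ?_, ?_⟩
    · exact mul_ne_zero (nonZeroDivisors.ne_zero hs₁)
        ((map_ne_zero_iff _ hinj).2 (nonZeroDivisors.ne_zero ha))
    · rw [phi_tmul]
      have e1 : q ((algebraMap B L b / algebraMap B L s₁) ⊗ₜ z) =
          algebraMap L L' (algebraMap B L b / algebraMap B L s₁) * algebraMap K' L' z := by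
        rw [← hqL, ← hqK, ← map_mul, Algebra.TensorProduct.tmul_mul_tmul, mul_one, one_mul]
      rw [e1]
      have e2 : algebraMap (integralClosure A K') L' ⟨a • z, haz'⟩ =
          algebraMap K' L' z * algebraMap B L' (algebraMap A B a) := by
        show algebraMap K' L' (a • z) = _
        rw [Algebra.smul_def, map_mul, ← IsScalarTower.algebraMap_apply A K' L',
          ← IsScalarTower.algebraMap_apply A B L', mul_comm]
      have e3 : algebraMap L L' (algebraMap B L b / algebraMap B L s₁) * algebraMap B L' s₁ =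
          algebraMap B L' b := by
        rw [IsScalarTower.algebraMap_apply B L L' s₁, ← map_mul, div_mul_cancel₀,
          ← IsScalarTower.algebraMap_apply]
        exact (map_ne_zero_iff _ (IsFractionRing.injective B L)).2 (nonZeroDivisors.ne_zero hs₁)
      rw [e2, map_mul, ← e3]
      ring
  | add w₁ w₂ h₁ h₂ =>
    obtain ⟨t₁, s₁, hs₁, e₁⟩ := h₁
    obtain ⟨t₂, s₂, hs₂, e₂⟩ := h₂
    refine ⟨t₁ * (1 ⊗ₜ s₂) + t₂ * (1 ⊗ₜ s₁), s₁ * s₂, mul_ne_zero hs₁ hs₂, ?_⟩
    rw [map_add, map_add, map_mul, map_mul, map_mul, phi_tmul, phi_tmul, map_one, one_mul,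
      one_mul, ← e₁, ← e₂]
    ring

end Main

end Groth.Agent.Helper8.Si
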