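import Mathlib

set_option autoImplicit false
universe u

namespace Groth.Agent.Helper8.SigFract

open Finset

/-- if `p^i * (h/m)` is an integer and `m` is coprime to `p` then `h/m` is an integer -/
theorem int_of_pow_mul (p : ℕ) (i : ℕ) (m : ℕ) (hm : 0 < m) (hmp : Nat.Coprime m p) (h : ℤ)
    (hz : Int.fract ((p : ℚ) ^ i * ((h : ℚ) / (m : ℚ))) = 0) :
    ∃ q : ℤ, (h : ℚ) / (m : ℚ) = q := by
  rw [Int.fract_eq_zero_iff] at hz
  obtain ⟨z, hz⟩ := hz
  have hm0 : (m : ℚ) ≠ 0 := by exact_mod_cast hm.ne'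
  have h1 : (p : ℚ) ^ i * h = z * m := by
    field_simp at hz
    linarith
  have h2 : ((p : ℤ) ^ i * h) = z * m := by exact_mod_cast h1
  have h3 : (m : ℤ) ∣ (p : ℤ) ^ i * h := ⟨z, by rw [h2]; ring⟩
  have hcop : IsCoprime (m : ℤ) ((p : ℤ) ^ i) := by
    apply IsCoprime.pow_right
    exact Nat.isCoprime_iff_coprime.2 hmp
  obtain ⟨q, hq⟩ := hcop.dvd_of_dvd_mul_left h3
  refine ⟨q, ?_⟩
  rw [hq]
  push_cast
  field_simp

theorem main {B : Type u} [Fintype B] [DecidableEq B] (B₀ : Finset B) (hB₀ : B₀.card = 3)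
    (p : ℕ) (hp : p.Prime) (s : ℕ) (hs : 0 < s)
    (m : B → ℕ) (hm : ∀ j, 0 < m j) (hmp : ∀ j, Nat.Coprime (m j) p)
    (σ : Fin s → B → ℚ) (hint : ∀ i j, ∃ h : ℤ, σ i j = (h : ℚ) / (m j : ℚ))
    (hsum : ∀ i, ∑ j, (σ i j - 1) = -2)
    (hfract : ∀ i j, Int.fract (σ i j) = Int.fract ((p : ℚ) ^ (i : ℕ) * σ ⟨0, hs⟩ j))
    (hne : ∀ i j, σ i j ≠ 1)
    (hB₀min : ∀ j ∈ B₀, (∃ i, ⌊σ i j⌋ = 0) ∧ ∀ i, 0 ≤ ⌊σ i j⌋)
    (hBmin : ∀ j ∉ B₀, (∃ i, ⌊σ i j⌋ = 1) ∧ ∀ i, 1 ≤ ⌊σ i j⌋) :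
    (∀ i, ∑ j, Int.fract (σ i j) = 1) ∧ (∀ i j, ⌊σ i j⌋ = if j ∈ B₀ then 0 else 1) := by
  obtain ⟨a, ha⟩ : ∃ a : Fin s → B → ℤ, ∀ i j, a i j = ⌊σ i j⌋ - (if j ∈ B₀ then 0 else 1) :=
    ⟨_, fun _ _ => rfl⟩
  have ha0 : ∀ i j, 0 ≤ a i j := by
    intro i j
    rw [ha]
    by_cases hj : j ∈ B₀
    · simp only [hj, if_true, sub_zero]; exact (hB₀min j hj).2 i
    · simp only [hj, if_false]; linarith [(hBmin j hj).2 i]
  have hcard : ∑ j : B, (if j ∈ B₀ then (1 : ℚ) else 0) = 3 := by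
    rw [Finset.sum_boole]
    simp [hB₀]
  have hkey : ∀ i, ((∑ j, a i j : ℤ) : ℚ) + ∑ j, Int.fract (σ i j) = 1 := by
    intro i
    have h1 : ∀ j, σ i j - 1 =
        (a i j : ℚ) + Int.fract (σ i j) - (if j ∈ B₀ then (1 : ℚ) else 0) := by
      intro j
      have := Int.floor_add_fract (σ i j)
      rw [ha]
      by_cases hj : j ∈ B₀
      · simp only [hj, if_true]; push_cast; linarith
      · simp only [hj, if_false]; push_cast; linarith
    have h2 := hsum i
    simp_rw [h1] at h2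
    rw [Finset.sum_sub_distrib, Finset.sum_add_distrib, hcard] at h2
    push_cast
    linarith
  have hfr0 : ∀ i, 0 ≤ ∑ j, Int.fract (σ i j) := fun i =>
    Finset.sum_nonneg (fun j _ => Int.fract_nonneg _)
  have hA0 : ∀ i, 0 ≤ ∑ j, a i j := fun i => Finset.sum_nonneg (fun j _ => ha0 i j)
  -- the main claim
  have hmain : ∀ i, ∑ j, a i j = 0 := by
    intro i
    by_contra hA
    have hA1 : 1 ≤ ∑ j, a i j := by
      have := hA0 i
      omega
    have hA1' : ((∑ j, a i j : ℤ) : ℚ) ≥ 1 := by exact_mod_cast hA1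
    have hS : ∑ j, Int.fract (σ i j) = 0 := by
      have := hkey i
      have := hfr0 i
      linarith
    have hAeq : ∑ j, a i j = 1 := by
      have := hkey i
      rw [hS, add_zero] at this
      exact_mod_cast this
    have hfr : ∀ j, Int.fract (σ i j) = 0 := by
      intro j
      exact (Finset.sum_eq_zero_iff_of_nonneg (fun j _ => Int.fract_nonneg _)).1 hS j
        (Finset.mem_univ j)
    -- all σ 0 j are integers
    have hint0 : ∀ j, ∃ q : ℤ, σ ⟨0, hs⟩ j = q := by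
      intro j
      obtain ⟨h, hh⟩ := hint ⟨0, hs⟩ j
      rw [hh]
      apply int_of_pow_mul p i (m j) (hm j) (hmp j) h
      rw [← hh, ← hfract, hfr]
    have hfrall : ∀ i' j, Int.fract (σ i' j) = 0 := by
      intro i' j
      obtain ⟨q, hq⟩ := hint0 j
      rw [hfract, hq, Int.fract_eq_zero_iff]
      exact ⟨p ^ (i' : ℕ) * q, by push_cast; ring⟩
    have hσ : ∀ i' j, σ i' j = ⌊σ i' j⌋ := by
      intro i' j
      have := Int.floor_add_fract (σ i' j)
      rw [hfrall, add_zero] at this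
      exact this.symm
    -- find j0 with a i j0 ≥ 1
    obtain ⟨j0, hj0⟩ : ∃ j0, 1 ≤ a i j0 := by
      by_contra hcon
      push Not at hcon
      have : ∑ j, a i j = 0 := by
        apply Finset.sum_eq_zero
        intro j _
        have := ha0 i j
        have := hcon j
        omega
      omega
    have hj0le : a i j0 ≤ 1 := by
      rw [← hAeq]
      exact Finset.single_le_sum (fun j _ => ha0 i j) (Finset.mem_univ j0)
    have hj0eq : a i j0 = 1 := le_antisymm hj0le hj0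
    by_cases hj : j0 ∈ B₀
    · rw [ha] at hj0eq
      simp only [hj, if_true, sub_zero] at hj0eq
      apply hne i j0
      rw [hσ i j0, hj0eq]
      norm_num
    · obtain ⟨i', hi'⟩ := (hBmin j0 hj).1
      apply hne i' j0
      rw [hσ i' j0, hi']
      norm_num
  refine ⟨?_, ?_⟩
  · intro i
    have := hkey i
    rw [hmain i] at this
    simpa using this
  · intro i j
    have h0 : a i j = 0 :=
      (Finset.sum_eq_zero_iff_of_nonneg (fun j _ => ha0 i j)).1 (hmain i) j (Finset.mem_univ j)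
    rw [ha] at h0
    omega

end Groth.Agent.Helper8.SigFract
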