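import Mathlib.CategoryTheory.Sites.Over
import Mathlib.CategoryTheory.Sites.Canonical

universe w v u

open CategoryTheory Opposite Limits

namespace Groth.Agent.Helper8.SigSheaf

variable {C : Type u} [Category.{v} C] (S : C) (G : (Over S)ᵒᵖ ⥤ Type w)

/-- the identity as a morphism between two presentations of the same object of `Over S` -/
def castHom {Y : C} {g g' : Y ⟶ S} (h : g = g') : Over.mk g ⟶ Over.mk g' :=
  Over.homMk (𝟙 Y) (by simp [h])

lemma castHom_rfl {Y : C} (g : Y ⟶ S) : castHom S (rfl : g = g) = 𝟙 _ := by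
  apply Over.OverMorphism.ext
  rfl

lemma sig_ext {Y : C} {g g' : Y ⟶ S} (h : g = g') (x : G.obj (op (Over.mk g)))
    (x' : G.obj (op (Over.mk g'))) (hx : G.map (castHom S h).op x' = x) :
    (⟨g, x⟩ : Σ g : Y ⟶ S, G.obj (op (Over.mk g))) = ⟨g', x'⟩ := by
  subst h
  rw [castHom_rfl, op_id, Functor.map_id_apply] at hx
  subst hx
  rfl

lemma sig_ext_iff {Y : C} {g g' : Y ⟶ S} (x : G.obj (op (Over.mk g)))
    (x' : G.obj (op (Over.mk g'))) :
    (⟨g, x⟩ : Σ g : Y ⟶ S, G.obj (op (Over.mk g))) = ⟨g', x'⟩ ↔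
      ∃ h : g = g', G.map (castHom S h).op x' = x := by
  constructor
  · intro h
    obtain ⟨h1, h2⟩ := Sigma.mk.inj_iff.1 h
    subst h1
    refine ⟨rfl, ?_⟩
    rw [castHom_rfl, op_id, Functor.map_id_apply]
    exact (eq_of_heq h2).symm
  · rintro ⟨h, hx⟩
    exact sig_ext S G h x x' hx

/-- the presheaf `Y ↦ Σ (g : Y ⟶ S), G (Y, g)` on `C` attached to a presheaf `G` on `Over S` -/
def sigF : Cᵒᵖ ⥤ Type (max v w) where
  obj Y := Σ g : Y.unop ⟶ S, G.obj (op (Over.mk g))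
  map {Y Y'} k := ↾fun p =>
    ⟨k.unop ≫ p.1, G.map (Over.homMk k.unop rfl : Over.mk (k.unop ≫ p.1) ⟶ Over.mk p.1).op p.2⟩
  map_id Y := by
    refine ConcreteCategory.hom_ext _ _ fun p => ?_
    obtain ⟨g, x⟩ := p
    refine (sig_ext S G (Category.id_comp g).symm x _ ?_).symm
    have h1 : castHom S (Category.id_comp g).symm ≫
        (Over.homMk (𝟙 Y).unop rfl : Over.mk ((𝟙 Y).unop ≫ g) ⟶ Over.mk g) = 𝟙 _ := by
      apply Over.OverMorphism.ext
      simp [castHom]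
    change G.map (castHom S (Category.id_comp g).symm).op
      (G.map (Over.homMk (𝟙 Y).unop rfl : Over.mk ((𝟙 Y).unop ≫ g) ⟶ Over.mk g).op x) = x
    rw [← Functor.map_comp_apply, ← op_comp, h1, op_id, Functor.map_id_apply]
  map_comp {Y Y' Y''} k k' := by
    refine ConcreteCategory.hom_ext _ _ fun p => ?_
    obtain ⟨g, x⟩ := p
    refine sig_ext S G (Category.assoc _ _ _) _ _ ?_
    change G.map _ (G.map _ (G.map _ x)) = G.map _ x
    rw [← Functor.map_comp_apply, ← Functor.map_comp_apply, ← op_comp, ← op_comp]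
    congr 4
    apply Over.OverMorphism.ext
    simp [castHom]

lemma sigF_map {Y Y' : Cᵒᵖ} (k : Y ⟶ Y') (p : (sigF S G).obj Y) :
    (sigF S G).map k p =
      ⟨k.unop ≫ p.1, G.map (Over.homMk k.unop rfl : Over.mk (k.unop ≫ p.1) ⟶ Over.mk p.1).op p.2⟩ :=
  rfl

variable (J : GrothendieckTopology C)

/-- if the `Σ`-presheaf is a sheaf on `C` then `G` is a sheaf on `Over S` -/
theorem isSheaf_over_of_sigF (hS : Presieve.IsSeparated J (yoneda.obj S))
    (hF : Presieve.IsSheaf J (sigF S G)) : Presieve.IsSheaf (J.over S) G := by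
  intro Y T' hT'
  obtain ⟨T, rfl⟩ := (Sieve.overEquiv Y).symm.surjective T'
  have hT : T ∈ J Y.left := by
    simpa [GrothendieckTopology.mem_over_iff] using hT'
  intro x hx
  let x' : Presieve.FamilyOfElements (sigF S G) T.arrows := fun Z h hh =>
    ⟨h ≫ Y.hom, x (Over.homMk h rfl : Over.mk (h ≫ Y.hom) ⟶ Y) hh⟩
  have hx' : x'.Compatible := by
    intro Z₁ Z₂ W k₁ k₂ h₁ h₂ hh₁ hh₂ hcomm
    have hc : k₁ ≫ h₁ ≫ Y.hom = k₂ ≫ h₂ ≫ Y.hom := by
      rw [← Category.assoc, hcomm, Category.assoc]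
    refine sig_ext S G hc _ _ ?_
    have h3 := hx (Over.homMk k₁ rfl : Over.mk (k₁ ≫ h₁ ≫ Y.hom) ⟶ Over.mk (h₁ ≫ Y.hom))
      (castHom S hc ≫ (Over.homMk k₂ rfl : Over.mk (k₂ ≫ h₂ ≫ Y.hom) ⟶ Over.mk (h₂ ≫ Y.hom)))
      (f₁ := (Over.homMk h₁ rfl : Over.mk (h₁ ≫ Y.hom) ⟶ Y))
      (f₂ := (Over.homMk h₂ rfl : Over.mk (h₂ ≫ Y.hom) ⟶ Y)) hh₁ hh₂ (by
        apply Over.OverMorphism.ext
        simp [castHom, hcomm])
    rw [op_comp, Functor.map_comp_apply] at h3
    exact h3.symm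
  obtain ⟨p, hp, hpu⟩ := hF T hT x' hx'
  obtain ⟨g', t⟩ := p
  have key : ∀ {Z : C} (h : Z ⟶ Y.left) (hh : T h), ∃ heq : h ≫ g' = h ≫ Y.hom,
      G.map (castHom S heq).op (x (Over.homMk h rfl : Over.mk (h ≫ Y.hom) ⟶ Y) hh) =
        G.map (Over.homMk h rfl : Over.mk (h ≫ g') ⟶ Over.mk g').op t := by
    intro Z h hh
    exact (sig_ext_iff S G _ _).1 (hp h hh)
  have hg' : g' = Y.hom := by
    apply (hS T hT).ext
    intro Z h hh
    exact (key h hh).1
  subst hg'
  have key' : ∀ {Z : C} (h : Z ⟶ Y.left) (hh : T h),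
      x (Over.homMk h rfl : Over.mk (h ≫ Y.hom) ⟶ Y) hh =
        G.map (Over.homMk h rfl : Over.mk (h ≫ Y.hom) ⟶ Y).op t := by
    intro Z h hh
    obtain ⟨heq, h4⟩ := key h hh
    rw [castHom_rfl, op_id, Functor.map_id_apply] at h4
    exact h4
  refine ⟨t, ?_, ?_⟩
  · intro Z f hf
    let ez : Z ⟶ Over.mk (f.left ≫ Y.hom) := Over.homMk (𝟙 Z.left) (by simp)
    have hez : ez ≫ (Over.homMk f.left rfl : Over.mk (f.left ≫ Y.hom) ⟶ Y) = f := by
      apply Over.OverMorphism.ext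
      simp [ez]
    have h5 := hx (𝟙 Z) ez (f₁ := f)
      (f₂ := (Over.homMk f.left rfl : Over.mk (f.left ≫ Y.hom) ⟶ Y)) hf hf (by
        rw [Category.id_comp, hez])
    rw [op_id, Functor.map_id_apply, key' f.left hf, ← Functor.map_comp_apply, ← op_comp,
      hez] at h5
    exact h5.symm
  · intro t₂ ht₂
    have h6 : x'.IsAmalgamation ⟨Y.hom, t₂⟩ := by
      intro Z h hh
      have h7 := ht₂ (Over.homMk h rfl : Over.mk (h ≫ Y.hom) ⟶ Y) hh
      change (⟨h ≫ Y.hom, G.map (Over.homMk h rfl : Over.mk (h ≫ Y.hom) ⟶ Y).op t₂⟩ :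
        Σ g : Z ⟶ S, G.obj (op (Over.mk g))) = ⟨h ≫ Y.hom, _⟩
      rw [h7]
    have h8 := hpu _ h6
    obtain ⟨heq, h9⟩ := (sig_ext_iff S G _ _).1 h8
    rw [castHom_rfl, op_id, Functor.map_id_apply] at h9
    exact h9.symm

/-- a morphism of `Over S` determined by the identity of the underlying object -/
def idHom (Z : Over S) {g : Z.left ⟶ S} (h : g = Z.hom) : Z ⟶ Over.mk g :=
  Over.homMk (𝟙 Z.left) (by simp [h])

lemma G_congr {Z W : Over S} {m m' : Z ⟶ W} (h : m.left = m'.left) (a : G.obj (op W)) :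
    G.map m.op a = G.map m'.op a := by
  rw [Over.OverMorphism.ext h]

/-- sieve-level version: the `Σ`-presheaf satisfies the sheaf condition for a sieve `T` as soon as
`yoneda.obj S` does and `G` does for all the sieves over `T` in `Over S` -/
theorem isSheafFor_sigF {Y₀ : C} (T : Sieve Y₀)
    (hS : Presieve.IsSheafFor (yoneda.obj S) T.arrows)
    (hG : ∀ g : Y₀ ⟶ S, Presieve.IsSheafFor G ((Sieve.overEquiv (Over.mk g)).symm T).arrows) :
    Presieve.IsSheafFor (sigF S G) T.arrows := by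
  intro p hp
  let q : Presieve.FamilyOfElements (yoneda.obj S) T.arrows := fun Z h hh => (p h hh).1
  have hq : q.Compatible := by
    intro Z₁ Z₂ W k₁ k₂ h₁ h₂ hh₁ hh₂ hcomm
    exact congrArg Sigma.fst (hp k₁ k₂ hh₁ hh₂ hcomm)
  obtain ⟨g, hg, hgu⟩ := hS q hq
  have hg' : ∀ {Z : C} (h : Z ⟶ Y₀) (hh : T h), h ≫ g = (p h hh).1 := fun h hh => hg h hh
  have hw : ∀ {Z : Over S} (f : Z ⟶ Over.mk g) (hf : T f.left), (p f.left hf).1 = Z.hom := by
    intro Z f hf
    rw [← hg' f.left hf]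
    exact Over.w f
  let x : Presieve.FamilyOfElements G ((Sieve.overEquiv (Over.mk g)).symm T).arrows :=
    fun Z f hf => G.map (idHom S Z (hw f hf)).op (p f.left hf).2
  have hx : x.Compatible := by
    intro Z₁ Z₂ W g₁ g₂ f₁ f₂ hf₁ hf₂ hcomm
    have h1 : (sigF S G).map g₁.left.op (p f₁.left hf₁) =
        (sigF S G).map g₂.left.op (p f₂.left hf₂) :=
      hp g₁.left g₂.left hf₁ hf₂ (congrArg CommaMorphism.left hcomm)
    have heq : g₁.left ≫ (p f₁.left hf₁).1 = g₂.left ≫ (p f₂.left hf₂).1 :=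
      congrArg Sigma.fst h1
    have h2 : G.map (castHom S heq).op (G.map (Over.homMk g₂.left rfl :
        Over.mk (g₂.left ≫ (p f₂.left hf₂).1) ⟶ Over.mk (p f₂.left hf₂).1).op (p f₂.left hf₂).2) =
        G.map (Over.homMk g₁.left rfl :
          Over.mk (g₁.left ≫ (p f₁.left hf₁).1) ⟶ Over.mk (p f₁.left hf₁).1).op
            (p f₁.left hf₁).2 := by
      obtain ⟨_, h2⟩ := (sig_ext_iff S G _ _).1 h1
      exact h2
    have hW1 : g₁.left ≫ (p f₁.left hf₁).1 = W.hom := by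
      rw [hw f₁ hf₁]
      exact Over.w g₁
    change G.map g₁.op (G.map (idHom S Z₁ (hw f₁ hf₁)).op (p f₁.left hf₁).2) =
      G.map g₂.op (G.map (idHom S Z₂ (hw f₂ hf₂)).op (p f₂.left hf₂).2)
    rw [← Functor.map_comp_apply, ← Functor.map_comp_apply, ← op_comp, ← op_comp]
    have e1 : G.map (g₁ ≫ idHom S Z₁ (hw f₁ hf₁)).op (p f₁.left hf₁).2 =
        G.map (idHom S W hW1).op (G.map (Over.homMk g₁.left rfl :
          Over.mk (g₁.left ≫ (p f₁.left hf₁).1) ⟶ Over.mk (p f₁.left hf₁).1).op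
            (p f₁.left hf₁).2) := by
      rw [← Functor.map_comp_apply, ← op_comp]
      apply G_congr
      simp [idHom]
    rw [e1, ← h2, ← Functor.map_comp_apply, ← Functor.map_comp_apply, ← op_comp, ← op_comp]
    apply G_congr
    simp [idHom, castHom]
  obtain ⟨t, ht, htu⟩ := hG g x hx
  refine ⟨⟨g, t⟩, ?_, ?_⟩
  · intro Z h hh
    have h3 := ht (Over.homMk h rfl : Over.mk (h ≫ g) ⟶ Over.mk g) hh
    refine (sig_ext S G (hg' h hh) _ (p h hh).2 ?_).trans (Sigma.eta _)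
    exact h3.symm
  · rintro ⟨g₁, t₁⟩ hp₁
    have key : ∀ {Z : C} (h : Z ⟶ Y₀) (hh : T h), ∃ heq : h ≫ g₁ = (p h hh).1,
        G.map (castHom S heq).op (p h hh).2 =
          G.map (Over.homMk h rfl : Over.mk (h ≫ g₁) ⟶ Over.mk g₁).op t₁ := by
      intro Z h hh
      have h4 : (⟨h ≫ g₁, G.map (Over.homMk h rfl : Over.mk (h ≫ g₁) ⟶ Over.mk g₁).op t₁⟩ :
          Σ g : Z ⟶ S, G.obj (op (Over.mk g))) = ⟨(p h hh).1, (p h hh).2⟩ :=
        (hp₁ h hh).trans (Sigma.eta _).symm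
      exact (sig_ext_iff S G _ _).1 h4
    have hg₁ : g₁ = g := hgu g₁ (fun Z h hh => (key h hh).1)
    subst hg₁
    have ht₁ : x.IsAmalgamation t₁ := by
      intro Z f hf
      obtain ⟨heq, h5⟩ := key f.left hf
      change G.map f.op t₁ = G.map (idHom S Z (hw f hf)).op (p f.left hf).2
      have hZ : f.left ≫ g₁ = Z.hom := Over.w f
      have e2 : G.map (idHom S Z (hw f hf)).op (p f.left hf).2 =
          G.map (idHom S Z hZ).op (G.map (castHom S heq).op (p f.left hf).2) := by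
        rw [← Functor.map_comp_apply, ← op_comp]
        apply G_congr
        simp [idHom, castHom]
      rw [e2, h5, ← Functor.map_comp_apply, ← op_comp]
      apply G_congr
      simp [idHom]
    rw [htu t₁ ht₁]

/-- if `G` is a sheaf on `Over S` and `S` represents a sheaf, the `Σ`-presheaf is a sheaf -/
theorem isSheaf_sigF_of_over (hS : Presieve.IsSheaf J (yoneda.obj S))
    (hG : Presieve.IsSheaf (J.over S) G) : Presieve.IsSheaf J (sigF S G) := by
  intro Y₀ T hT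
  exact isSheafFor_sigF S G T (hS T hT)
    (fun g => hG _ (J.overEquiv_symm_mem_over (Over.mk g) T hT))

/-- the sheaf condition of the `Σ`-presheaf for a single morphism -/
theorem isSheafFor_sigF_singleton {X Y : C} (f : X ⟶ Y)
    (hS : Presieve.IsSheafFor (yoneda.obj S) (Presieve.singleton f))
    (hG : ∀ g : Y ⟶ S, Presieve.IsSheafFor G
      (Presieve.ofArrows (fun _ : Unit => Over.mk (f ≫ g))
        (fun _ => (Over.homMk f rfl : Over.mk (f ≫ g) ⟶ Over.mk g)))) :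
    Presieve.IsSheafFor (sigF S G) (Presieve.singleton f) := by
  rw [Presieve.isSheafFor_iff_generate] at hS ⊢
  refine isSheafFor_sigF S G _ hS (fun g => ?_)
  have h1 := hG g
  rw [Presieve.isSheafFor_iff_generate] at h1
  have h2 : (Sieve.overEquiv (Over.mk g)).symm (Sieve.generate (Presieve.singleton f)) =
      Sieve.generate (Presieve.ofArrows (fun _ : Unit => Over.mk (f ≫ g))
        (fun _ => (Over.homMk f rfl : Over.mk (f ≫ g) ⟶ Over.mk g))) := by
    rw [OrderIso.symm_apply_eq]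
    have h3 := Sieve.overEquiv_ofArrows (Y := Over.mk g) (fun _ : Unit => Over.mk (f ≫ g))
      (fun _ => (Over.homMk f rfl : Over.mk (f ≫ g) ⟶ Over.mk g))
    change Sieve.overEquiv (Over.mk g) (Sieve.generate _) = _ at h3
    rw [h3]
    change _ = Sieve.generate (Presieve.ofArrows (fun _ : Unit => X) (fun _ => f))
    rw [Presieve.ofArrows_pUnit]
  rw [h2]
  exact h1

end Groth.Agent.Helper8.SigSheaf
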