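import Mathlib

namespace Groth.Agent.Helper8.SimpleSub

open Polynomial

universe u

variable {k : Type u} [Field k] {A : Type u} [CommRing A] [Algebra k A]

theorem aeval_mul_eq (a b : A) (l : k) (hab : a * b = l • b) (P : k[X]) :
    aeval a P * b = (P.eval l) • b := by
  obtain ⟨q, hq⟩ := Polynomial.X_sub_C_dvd_sub_C_eval (a := l) (p := P)
  have h1 : aeval a (P - C (P.eval l)) * b = 0 := by
    rw [hq, map_mul, mul_assoc, map_sub, aeval_X, aeval_C, mul_comm (aeval a q), ← mul_assoc,
      sub_mul, hab, Algebra.algebraMap_eq_smul_one, smul_mul_assoc, one_mul, sub_self, zero_mul]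
  rw [map_sub, aeval_C, sub_mul, sub_eq_zero] at h1
  rw [h1, Algebra.algebraMap_eq_smul_one, smul_mul_assoc, one_mul]

/-- every element outside `k` is algebraic -/
theorem isAlgebraic_of_simple (h2 : ∀ S : Subalgebra k A, S = ⊥ ∨ S = ⊤) [Nontrivial A] (a : A) :
    IsAlgebraic k a := by
  rcases h2 (Algebra.adjoin k {a ^ 2}) with h | h
  · have : a ^ 2 ∈ (⊥ : Subalgebra k A) := h ▸ Algebra.subset_adjoin (Set.mem_singleton _)
    obtain ⟨c, hc⟩ := Algebra.mem_bot.mp this
    refine ⟨X ^ 2 - C c, ?_, by simp [hc]⟩
    intro h0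
    have := congrArg (fun p => p.coeff 2) h0
    simp [coeff_X_pow] at this
  · have : a ∈ Algebra.adjoin k {a ^ 2} := h ▸ Algebra.mem_top
    rw [Algebra.adjoin_singleton_eq_range_aeval] at this
    obtain ⟨P, hP⟩ := this
    refine ⟨X - expand k 2 P, ?_, ?_⟩
    · intro h0
      have := congrArg (fun p => p.coeff 1) h0
      simp [coeff_expand] at this
    · rw [map_sub, aeval_X, expand_aeval]
      simp only [AlgHom.toRingHom_eq_coe, RingHom.coe_coe] at hP
      rw [hP, sub_self]

theorem finite_of_simple (hbt : (⊥ : Subalgebra k A) ≠ ⊤)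
    (h2 : ∀ S : Subalgebra k A, S = ⊥ ∨ S = ⊤) [Nontrivial A] : Module.Finite k A := by
  obtain ⟨a, ha⟩ : ∃ a : A, a ∉ (⊥ : Subalgebra k A) := by
    by_contra hc
    push Not at hc
    exact hbt (eq_top_iff.mpr fun x _ => hc x)
  have htop : Algebra.adjoin k {a} = ⊤ := by
    rcases h2 (Algebra.adjoin k {a}) with h | h
    · exact absurd (h ▸ Algebra.subset_adjoin (Set.mem_singleton _)) ha
    · exact h
  have hint : IsIntegral k a := (isAlgebraic_of_simple h2 a).isIntegral
  have := hint.fg_adjoin_singleton
  rw [htop, Algebra.top_toSubmodule] at this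
  exact Module.finite_def.mpr this

/-- spanning by `1, b` -/
theorem span_of_gen (h2 : ∀ S : Subalgebra k A, S = ⊥ ∨ S = ⊤) (b : A) (c : k)
    (hbb : b * b = c • b) (hbk : b ∉ (⊥ : Subalgebra k A)) :
    ∀ x : A, ∃ s t : k, x = s • (1 : A) + t • b := by
  have htop : Algebra.adjoin k {b} = ⊤ := by
    rcases h2 (Algebra.adjoin k {b}) with h | h
    · exact absurd (h ▸ Algebra.subset_adjoin (Set.mem_singleton _)) hbk
    · exact h
  have hpow : ∀ n : ℕ, ∃ s t : k, b ^ n = s • (1 : A) + t • b := by
    intro n
    induction n with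
    | zero => exact ⟨1, 0, by simp⟩
    | succ n ih =>
      obtain ⟨s, t, hst⟩ := ih
      refine ⟨0, s + t * c, ?_⟩
      rw [pow_succ, hst, add_mul, smul_mul_assoc, one_mul, smul_mul_assoc, hbb, smul_smul, zero_smul,
        zero_add, add_smul]
  intro x
  have hx : x ∈ Algebra.adjoin k {b} := htop ▸ Algebra.mem_top
  rw [Algebra.adjoin_singleton_eq_range_aeval] at hx
  obtain ⟨P, hP⟩ := hx
  simp only [AlgHom.toRingHom_eq_coe, RingHom.coe_coe] at hP
  subst hP
  induction P using Polynomial.induction_on' with
  | add p q hp hq =>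
    obtain ⟨s, t, h1⟩ := hp
    obtain ⟨s', t', h2⟩ := hq
    exact ⟨s + s', t + t', by rw [map_add, h1, h2, add_smul, add_smul]; abel⟩
  | monomial n r =>
    obtain ⟨s, t, h1⟩ := hpow n
    refine ⟨r * s, r * t, ?_⟩
    rw [aeval_monomial, h1, Algebra.algebraMap_eq_smul_one, smul_mul_assoc, one_mul, smul_add,
      smul_smul, smul_smul]

theorem iso_of_gen [Nontrivial A] (b : A) (c : k) (hbb : b * b = c • b)
    (hbk : b ∉ (⊥ : Subalgebra k A)) (hspan : ∀ x : A, ∃ s t : k, x = s • (1 : A) + t • b) :
    Nonempty (A ≃ₐ[k] (k × k)) ∨ Nonempty (A ≃ₐ[k] DualNumber k) := by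
  have hinj : Function.Injective (algebraMap k A) := (algebraMap k A).injective
  have huniq : ∀ s t : k, s • (1 : A) + t • b = 0 → s = 0 ∧ t = 0 := by
    intro s t hst
    have ht : t = 0 := by
      by_contra ht
      apply hbk
      rw [Algebra.mem_bot]
      refine ⟨-(t⁻¹ * s), ?_⟩
      have h1 : t • b = -(s • (1 : A)) := by
        rw [← add_eq_zero_iff_eq_neg']; exact hst
      have := congrArg (fun z => t⁻¹ • z) h1
      simp only [smul_smul, inv_mul_cancel₀ ht, one_smul, smul_neg] at this
      rw [this, Algebra.algebraMap_eq_smul_one, neg_smul]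
    refine ⟨?_, ht⟩
    rw [ht, zero_smul, add_zero, ← Algebra.algebraMap_eq_smul_one] at hst
    exact hinj (by rw [hst, map_zero])
  by_cases hc : c = 0
  · right
    rw [hc, zero_smul] at hbb
    let φ : DualNumber k →ₐ[k] A :=
      DualNumber.lift ⟨(Algebra.ofId k A, b), hbb, fun _ => Commute.all _ _⟩
    have hφ : ∀ z : DualNumber k, φ z = z.fst • (1 : A) + z.snd • b := by
      intro z
      rw [DualNumber.lift_apply_apply]
      simp only [Algebra.ofId_apply, Algebra.algebraMap_eq_smul_one, smul_mul_assoc, one_mul]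
    have hbij : Function.Bijective φ := by
      constructor
      · rw [injective_iff_map_eq_zero]
        intro z hz
        rw [hφ] at hz
        obtain ⟨h1, h2⟩ := huniq _ _ hz
        exact TrivSqZeroExt.ext h1 h2
      · intro x
        obtain ⟨s, t, hx⟩ := hspan x
        refine ⟨TrivSqZeroExt.inl s + TrivSqZeroExt.inr t, ?_⟩
        rw [hφ, hx]
        simp
    exact ⟨(AlgEquiv.ofBijective φ hbij).symm⟩
  · left
    set e : A := c⁻¹ • b with he
    have hee : e * e = e := by
      rw [he, smul_mul_smul_comm, hbb, smul_smul]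
      congr 1
      field_simp
    have he1 : e * (1 - e) = 0 := by rw [mul_sub, mul_one, hee, sub_self]
    have h11 : (1 - e) * (1 - e) = 1 - e := by
      rw [sub_mul, one_mul, he1, sub_zero]
    let ψ : (k × k) →ₐ[k] A :=
      { toFun := fun z => z.1 • (1 - e) + z.2 • e
        map_one' := by simp
        map_mul' := by
          intro z w
          simp only [Prod.fst_mul, Prod.snd_mul]
          have e2 : (1 - e) * e = 0 := by rw [mul_comm]; exact he1
          calc (z.1 * w.1) • (1 - e) + (z.2 * w.2) • e
              = (z.1 * w.1) • ((1 - e) * (1 - e)) + (z.1 * w.2) • ((1 - e) * e) +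
                (z.2 * w.1) • (e * (1 - e)) + (z.2 * w.2) • (e * e) := by
                rw [h11, e2, he1, hee, smul_zero, smul_zero, add_zero, add_zero]
            _ = (z.1 • (1 - e) + z.2 • e) * (w.1 • (1 - e) + w.2 • e) := by
                simp only [add_mul, mul_add, smul_mul_smul_comm]
                abel
        map_zero' := by simp
        map_add' := by
          intro z w
          simp only [Prod.fst_add, Prod.snd_add, add_smul]
          abel
        commutes' := by
          intro r
          simp only [Prod.algebraMap_apply, Algebra.algebraMap_self, RingHom.id_apply]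
          rw [← smul_add, sub_add_cancel, Algebra.algebraMap_eq_smul_one] }
    have hψ : ∀ z : k × k, ψ z = z.1 • (1 : A) + ((z.2 - z.1) * c⁻¹) • b := by
      intro z
      show z.1 • (1 - e) + z.2 • e = _
      rw [he, smul_sub, smul_smul, smul_smul, sub_mul, sub_smul]
      abel
    have hbij : Function.Bijective ψ := by
      constructor
      · rw [injective_iff_map_eq_zero]
        intro z hz
        rw [hψ] at hz
        obtain ⟨h1, h2⟩ := huniq _ _ hz
        have h3 : z.2 - z.1 = 0 := by
          rcases mul_eq_zero.mp h2 with h | h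
          · exact h
          · exact absurd (inv_eq_zero.mp h) hc
        exact Prod.ext h1 (by rw [sub_eq_zero] at h3; rw [h3, h1]; rfl)
      · intro x
        obtain ⟨s, t, hx⟩ := hspan x
        refine ⟨(s, s + t * c), ?_⟩
        rw [hψ, hx]
        simp only [add_sub_cancel_left, mul_assoc, mul_inv_cancel₀ hc, mul_one]
    exact ⟨(AlgEquiv.ofBijective ψ hbij).symm⟩

/-- the non-domain case -/
theorem nondomain_case (h2 : ∀ S : Subalgebra k A, S = ⊥ ∨ S = ⊤) [Nontrivial A]
    [Module.Finite k A] (u v : A) (hu : u ≠ 0) (hv : v ≠ 0) (huv : u * v = 0) :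
    Nonempty (A ≃ₐ[k] (k × k)) ∨ Nonempty (A ≃ₐ[k] DualNumber k) := by
  have hint : IsIntegral k u := Algebra.IsIntegral.isIntegral u
  set m := minpoly k u with hm
  have hm0 : m.coeff 0 = 0 := by
    have h1 : aeval u m = 0 := minpoly.aeval k u
    rw [← Polynomial.X_mul_divX_add m, map_add, map_mul, aeval_X, aeval_C] at h1
    have h3 := congrArg (fun z => v * z) h1
    simp only [mul_add, mul_zero] at h3
    rw [← mul_assoc, mul_comm v u, huv, zero_mul, zero_add, Algebra.algebraMap_eq_smul_one,
      mul_smul_comm, mul_one] at h3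
    rcases smul_eq_zero.mp h3 with h | h
    · exact h
    · exact absurd h hv
  set q := m.divX with hq
  have hmq : m = X * q := by
    have := Polynomial.X_mul_divX_add m
    rw [hm0, map_zero, add_zero] at this
    exact this.symm
  have hq0 : q ≠ 0 := by
    intro h0
    rw [h0, mul_zero] at hmq
    exact minpoly.ne_zero hint hmq
  set b : A := aeval u q with hb
  have hub : u * b = (0 : k) • b := by
    have h1 : aeval u m = 0 := minpoly.aeval k u
    rw [hmq, map_mul, aeval_X] at h1
    rw [h1, zero_smul]
  have hb0 : b ≠ 0 := by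
    intro h0
    have h1 := natDegree_le_natDegree (minpoly.degree_le_of_ne_zero k u hq0 h0)
    rw [← hm, hmq, natDegree_mul X_ne_zero hq0, natDegree_X] at h1
    omega
  have hbb : b * b = (q.eval 0) • b := aeval_mul_eq u b 0 hub q
  have hbk : b ∉ (⊥ : Subalgebra k A) := by
    intro hmem
    obtain ⟨μ, hμ⟩ := Algebra.mem_bot.mp hmem
    have hμ0 : μ ≠ 0 := by
      intro h0; rw [h0, map_zero] at hμ; exact hb0 hμ.symm
    rw [zero_smul, ← hμ, Algebra.algebraMap_eq_smul_one, mul_smul_comm, mul_one] at hub
    rcases smul_eq_zero.mp hub with h | h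
    · exact hμ0 h
    · exact hu h
  exact iso_of_gen b (q.eval 0) hbb hbk (span_of_gen h2 b _ hbb hbk)


/-- the field case -/
theorem field_case (hbt : (⊥ : Subalgebra k A) ≠ ⊤)
    (h2 : ∀ S : Subalgebra k A, S = ⊥ ∨ S = ⊤) [Module.Finite k A] (hA : IsField A) :
    Algebra.IsSeparable k A ∨
      ∃ (p : ℕ) (a : k), p.Prime ∧ CharP k p ∧ (∀ b : k, b ^ p ≠ a) ∧
        Nonempty (A ≃ₐ[k] AdjoinRoot (X ^ p - C a)) := by
  letI : Field A := hA.toField
  rcases h2 (separableClosure k A).toSubalgebra with h | h
  · right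
    have hsc : separableClosure k A = ⊥ :=
      IntermediateField.toSubalgebra_injective (by rw [h, IntermediateField.bot_toSubalgebra])
    haveI : Algebra.IsAlgebraic k A := Algebra.IsAlgebraic.of_finite k A
    haveI : IsPurelyInseparable k A := separableClosure.eq_bot_iff.mp hsc
    obtain ⟨a, ha⟩ : ∃ a : A, a ∉ (⊥ : Subalgebra k A) := by
      by_contra hc
      push Not at hc
      exact hbt (eq_top_iff.mpr fun x _ => hc x)
    obtain ⟨q, hq⟩ := ExpChar.exists k
    have hex := IsPurelyInseparable.pow_mem k q a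
    classical
    have hn : a ^ q ^ (Nat.find hex) ∈ (algebraMap k A).range := Nat.find_spec hex
    have hn0 : Nat.find hex ≠ 0 := by
      intro h0
      rw [h0, pow_zero, pow_one] at hn
      exact ha (Algebra.mem_bot.mpr hn)
    obtain ⟨n', hn'⟩ : ∃ n', Nat.find hex = n' + 1 := ⟨Nat.find hex - 1, by omega⟩
    set c := a ^ q ^ n' with hc
    have hcr : c ∉ (algebraMap k A).range := Nat.find_min hex (by omega : n' < Nat.find hex)
    have hcq : c ^ q ∈ (algebraMap k A).range := by
      rw [hc, ← pow_mul, ← pow_succ, ← hn']; exact hn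
    obtain ⟨d, hd⟩ := hcq
    -- q is prime
    rcases hq with _ | ⟨hprime⟩
    · exfalso
      apply hcr
      rw [pow_one] at hd
      exact ⟨d, hd⟩
    · rename_i hchar
      refine ⟨q, d, hprime, hchar, ?_, ?_⟩
      · intro b hb
        apply hcr
        haveI : CharP A q := charP_of_injective_algebraMap (algebraMap k A).injective q
        haveI : Fact q.Prime := ⟨hprime⟩
        refine ⟨b, ?_⟩
        have h3 : (algebraMap k A b) ^ q = c ^ q := by rw [← map_pow, hb, hd]
        exact frobenius_inj A q h3
      · have hirr : Irreducible (X ^ q - C d : k[X]) := by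
          apply X_pow_sub_C_irreducible_of_prime hprime
          intro b hb
          apply hcr
          haveI : CharP A q := charP_of_injective_algebraMap (algebraMap k A).injective q
          haveI : Fact q.Prime := ⟨hprime⟩
          refine ⟨b, ?_⟩
          have h3 : (algebraMap k A b) ^ q = c ^ q := by rw [← map_pow, hb, hd]
          exact frobenius_inj A q h3
        haveI : Fact (Irreducible (X ^ q - C d : k[X])) := ⟨hirr⟩
        have hroot : (X ^ q - C d : k[X]).eval₂ (Algebra.ofId k A : k →+* A) c = 0 := by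
          rw [eval₂_sub, eval₂_pow, eval₂_X, eval₂_C]
          show c ^ q - algebraMap k A d = 0
          rw [hd, sub_self]
        let φ : AdjoinRoot (X ^ q - C d : k[X]) →ₐ[k] A :=
          AdjoinRoot.liftAlgHom (X ^ q - C d : k[X]) (Algebra.ofId k A) c hroot
        have hinj : Function.Injective φ := (φ : AdjoinRoot (X ^ q - C d : k[X]) →+* A).injective
        have hsurj : Function.Surjective φ := by
          have : φ.range = ⊤ := by
            rcases h2 φ.range with hr | hr
            · exfalso
              apply hcr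
              have : c ∈ φ.range := ⟨AdjoinRoot.root _, AdjoinRoot.liftAlgHom_root _ _ _ _⟩
              rw [hr] at this
              exact Algebra.mem_bot.mp this
            · exact hr
          intro x
          have hx : x ∈ φ.range := this ▸ Algebra.mem_top
          exact hx
        exact ⟨(AlgEquiv.ofBijective φ ⟨hinj, hsurj⟩).symm⟩
  · left
    have hsc : separableClosure k A = ⊤ :=
      IntermediateField.toSubalgebra_injective (by rw [h, IntermediateField.top_toSubalgebra])
    exact (separableClosure.eq_top_iff k A).mp hsc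

theorem main (κ A : Type u) [Field κ] [CommRing A] [Algebra κ A]
    (h : IsSimpleOrder (Subalgebra κ A)) :
    FiniteDimensional κ A ∧
    (Nonempty (A ≃ₐ[κ] DualNumber κ) ∨ Nonempty (A ≃ₐ[κ] (κ × κ)) ∨
      (IsField A ∧ (Algebra.IsSeparable κ A ∨
        ∃ (p : ℕ) (a : κ), p.Prime ∧ CharP κ p ∧ (∀ b : κ, b ^ p ≠ a) ∧
          Nonempty (A ≃ₐ[κ] AdjoinRoot (X ^ p - C a))))) := by
  have hbt : (⊥ : Subalgebra κ A) ≠ ⊤ := bot_ne_top
  have h2 : ∀ S : Subalgebra κ A, S = ⊥ ∨ S = ⊤ := fun S => eq_bot_or_eq_top S
  have hnt : Nontrivial A := by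
    by_contra hnt
    rw [not_nontrivial_iff_subsingleton] at hnt
    exact hbt (Subsingleton.elim _ _)
  have hfin : Module.Finite κ A := finite_of_simple hbt h2
  refine ⟨hfin, ?_⟩
  by_cases hdom : ∀ u v : A, u * v = 0 → u = 0 ∨ v = 0
  · right; right
    haveI : NoZeroDivisors A := ⟨fun {u v} huv => hdom u v huv⟩
    haveI : IsDomain A := NoZeroDivisors.to_isDomain A
    haveI : Algebra.IsIntegral κ A := Algebra.IsIntegral.of_finite κ A
    have hA : IsField A := isField_of_isIntegral_of_isField' (Field.toIsField κ)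
    exact ⟨hA, field_case hbt h2 hA⟩
  · push Not at hdom
    obtain ⟨u, v, huv, hu, hv⟩ := hdom
    rcases nondomain_case h2 u v hu hv huv with h | h
    · exact Or.inr (Or.inl h)
    · exact Or.inl h

end Groth.Agent.Helper8.SimpleSub
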