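import Groth.Agent.Helper8.HermDiag

set_option autoImplicit false
universe u v

namespace Groth.Agent.Helper8.SkewHerm

open Matrix Groth.Agent.Helper8.HermDiag

variable {B : Type u} {A : Type v} [CommRing B] [CommRing A] [Algebra B A]
  (lam : A ≃+* A)

variable {n : ℕ} (h : Matrix (Fin n) (Fin n) A)

theorem gram_apply' {κ : Type*} [Fintype κ] (X : Matrix (Fin n) κ A) (a b : κ) :
    ((X.map lam).transpose * h * X) a b = Hf lam h (fun i => X i a) (fun i => X i b) := by
  unfold Hf
  simp only [Matrix.mul_apply, Matrix.transpose_apply, Matrix.map_apply, Finset.sum_mul]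
  exact Finset.sum_comm

/-- interleaving equivalence -/
def eqv (m : ℕ) : Fin m ⊕ Fin m ≃ Fin (m + m) where
  toFun := Sum.elim (fun a => ⟨2 * a.val, by omega⟩) (fun a => ⟨2 * a.val + 1, by omega⟩)
  invFun := fun j => if Even j.val then Sum.inl ⟨j.val / 2, by omega⟩
    else Sum.inr ⟨j.val / 2, by omega⟩
  left_inv := by
    rintro (a | a)
    · have he : Even (2 * a.val) := even_two_mul _
      simp only [Sum.elim_inl, if_pos he]
      congr 1
      ext
      simp
    · have he : ¬ Even (2 * a.val + 1) := by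
        rw [Nat.not_even_iff_odd]; exact odd_two_mul_add_one _
      simp only [Sum.elim_inr, if_neg he]
      congr 1
      ext
      simp only
      omega
  right_inv := by
    intro j
    by_cases hj : Even j.val
    · simp only [if_pos hj, Sum.elim_inl]
      ext
      simp only
      have := Nat.even_iff.mp hj
      omega
    · simp only [if_neg hj, Sum.elim_inr]
      ext
      simp only
      have := Nat.not_even_iff.mp hj
      omega

theorem eqv_symm_apply (m : ℕ) (j : Fin (m + m)) :
    (eqv m).symm j = if Even j.val then Sum.inl ⟨j.val / 2, by omega⟩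
      else Sum.inr ⟨j.val / 2, by omega⟩ := rfl

/-- pair-family invariant -/
def PairInv (k : ℕ) (p q : Fin k → Fin n → A) : Prop :=
  (∀ a b, a ≠ b → Hf lam h (p a) (p b) = 0 ∧ Hf lam h (p a) (q b) = 0 ∧
      Hf lam h (q a) (p b) = 0 ∧ Hf lam h (q a) (q b) = 0) ∧
  (∀ a, Hf lam h (p a) (q a) = 1)

theorem norm_mem (hlam : Function.Involutive lam)
    (hid : ∀ a : A, lam a - a ∈ Ring.jacobson A) (h2 : IsUnit (2 : A))
    (herm : (-1 : A) • (h.map lam).transpose = h) (u : Fin n → A) :
    Hf lam h u u ∈ Ring.jacobson A := by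
  have hs := Hf_symm lam h hlam herm u u
  obtain ⟨t, ht⟩ := h2
  have h3 : (2 : A) * Hf lam h u u ∈ Ring.jacobson A := by
    have h4 : (2 : A) * Hf lam h u u = -(lam (Hf lam h u u) - Hf lam h u u) := by
      linear_combination hs
    rw [h4]; exact (Ring.jacobson A).neg_mem (hid _)
  have h5 : Hf lam h u u = (↑t⁻¹ : A) * ((2 : A) * Hf lam h u u) := by
    rw [← mul_assoc, ← ht, Units.inv_mul, one_mul]
  rw [h5]; exact (Ring.jacobson A).mul_mem_left _ h3

/-- the inverse Gram matrix of a family of hyperbolic-like pairs -/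
def GiP {k : ℕ} (α β di : Fin k → A) : Fin k ⊕ Fin k → Fin k ⊕ Fin k → A
  | Sum.inl a, Sum.inl b => if a = b then β a * di a else 0
  | Sum.inl a, Sum.inr b => if a = b then - di a else 0
  | Sum.inr a, Sum.inl b => if a = b then di a else 0
  | Sum.inr a, Sum.inr b => if a = b then α a * di a else 0

theorem pair_hGi (hlam : Function.Involutive lam)
    (herm : (-1 : A) • (h.map lam).transpose = h) {k : ℕ} (p q : Fin k → Fin n → A)
    (hpq : PairInv lam h k p q) (di : Fin k → A)
    (hdi : ∀ a, (Hf lam h (p a) (p a) * Hf lam h (q a) (q a) + 1) * di a = 1)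
    (c b : Fin k ⊕ Fin k) :
    ∑ a, Hf lam h (Sum.elim p q c) (Sum.elim p q a) *
      GiP (fun a => Hf lam h (p a) (p a)) (fun a => Hf lam h (q a) (q a)) di a b
      = if c = b then 1 else 0 := by
  rw [Fintype.sum_sum_type]
  obtain ⟨hP1, hP2⟩ := hpq
  have hqp : ∀ a, Hf lam h (q a) (p a) = -1 := fun a => by
    rw [Hf_symm lam h hlam herm (p a) (q a), hP2 a, map_one, mul_one]
  rcases b with b | b
  · simp only [Sum.elim_inl, Sum.elim_inr, GiP, mul_ite, mul_zero, Finset.sum_ite_eq',
      Finset.mem_univ, if_true]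
    rcases c with c | c
    · simp only [Sum.elim_inl, Sum.inl.injEq]
      by_cases hcb : c = b
      · subst hcb
        rw [if_pos rfl, hP2 c]
        linear_combination hdi c
      · rw [if_neg hcb, (hP1 c b hcb).1, (hP1 c b hcb).2.1]; ring
    · simp only [Sum.elim_inr, reduceCtorEq, if_false]
      by_cases hcb : c = b
      · subst hcb
        rw [hqp c]; ring
      · rw [(hP1 c b hcb).2.2.1, (hP1 c b hcb).2.2.2]; ring
  · simp only [Sum.elim_inl, Sum.elim_inr, GiP, mul_ite, mul_zero, Finset.sum_ite_eq',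
      Finset.mem_univ, if_true]
    rcases c with c | c
    · simp only [Sum.elim_inl, reduceCtorEq, if_false]
      by_cases hcb : c = b
      · subst hcb
        rw [hP2 c]; ring
      · rw [(hP1 c b hcb).1, (hP1 c b hcb).2.1]; ring
    · simp only [Sum.elim_inr, Sum.inr.injEq]
      by_cases hcb : c = b
      · subst hcb
        rw [if_pos rfl, hqp c]
        linear_combination hdi c
      · rw [if_neg hcb, (hP1 c b hcb).2.2.1, (hP1 c b hcb).2.2.2]; ring

theorem exists_di (hlam : Function.Involutive lam)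
    (hid : ∀ a : A, lam a - a ∈ Ring.jacobson A) (h2 : IsUnit (2 : A))
    (herm : (-1 : A) • (h.map lam).transpose = h) {k : ℕ} (p q : Fin k → Fin n → A) :
    ∃ di : Fin k → A,
      ∀ a, (Hf lam h (p a) (p a) * Hf lam h (q a) (q a) + 1) * di a = 1 := by
  have hu : ∀ a, IsUnit (Hf lam h (p a) (p a) * Hf lam h (q a) (q a) + 1) := by
    intro a
    have hα := norm_mem lam h hlam hid h2 herm (p a)
    rw [← Ideal.jacobson_bot, Ideal.mem_jacobson_bot] at hα
    exact hα _
  exact ⟨fun a => Ring.inverse (Hf lam h (p a) (p a) * Hf lam h (q a) (q a) + 1),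
    fun a => Ring.mul_inverse_cancel _ (hu a)⟩

theorem pair_step [IsLocalRing B] (hlam : Function.Involutive lam)
    (hB : RInv.IsFixedRing B A lam)
    (hid : ∀ a : A, lam a - a ∈ Ring.jacobson A) (h2 : IsUnit (2 : A))
    (herm : (-1 : A) • (h.map lam).transpose = h) (g : Matrix (Fin n) (Fin n) A) (hg : g * h = 1)
    {k : ℕ} (hk : 2 * k < n) (p q : Fin k → Fin n → A) (hpq : PairInv lam h k p q) :
    ∃ p' q' : Fin (k + 1) → Fin n → A, PairInv lam h (k + 1) p' q' := by
  classical
  obtain ⟨di, hdi⟩ := exists_di lam h hlam hid h2 herm p q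
  have hcard : Fintype.card (Fin k ⊕ Fin k) < n := by
    rw [Fintype.card_sum, Fintype.card_fin]; omega
  obtain ⟨w₁, w₂, hw₁, hw₂, hb⟩ := exists_unit_pair lam h (Sum.elim p q)
    (GiP (fun a => Hf lam h (p a) (p a)) (fun a => Hf lam h (q a) (q a)) di) hlam hB g hg hcard
    (pair_hGi lam h hlam herm p q hpq di hdi)
  have hpw₁ : ∀ a, Hf lam h (p a) w₁ = 0 := fun a => hw₁ (Sum.inl a)
  have hqw₁ : ∀ a, Hf lam h (q a) w₁ = 0 := fun a => hw₁ (Sum.inr a)
  have hpw₂ : ∀ a, Hf lam h (p a) w₂ = 0 := fun a => hw₂ (Sum.inl a)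
  have hqw₂ : ∀ a, Hf lam h (q a) w₂ = 0 := fun a => hw₂ (Sum.inr a)
  have hw₁p : ∀ a, Hf lam h w₁ (p a) = 0 := fun a => Hf_orth_symm lam h hlam herm _ _ (hpw₁ a)
  have hw₁q : ∀ a, Hf lam h w₁ (q a) = 0 := fun a => Hf_orth_symm lam h hlam herm _ _ (hqw₁ a)
  have hw₂p : ∀ a, Hf lam h w₂ (p a) = 0 := fun a => Hf_orth_symm lam h hlam herm _ _ (hpw₂ a)
  have hw₂q : ∀ a, Hf lam h w₂ (q a) = 0 := fun a => Hf_orth_symm lam h hlam herm _ _ (hqw₂ a)
  obtain ⟨ub, hub⟩ := hb
  have hbi : (↑ub⁻¹ : A) * Hf lam h w₁ w₂ = 1 := by rw [← hub]; exact Units.inv_mul ub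
  obtain ⟨hP1, hP2⟩ := hpq
  refine ⟨Fin.cons w₁ p, Fin.cons ((↑ub⁻¹ : A) • w₂) q, ?_, ?_⟩
  · intro a b
    refine Fin.cases ?_ (fun a' => ?_) a
    · refine Fin.cases ?_ (fun b' => ?_) b
      · intro hab; exact absurd rfl hab
      · intro _
        simp only [Fin.cons_zero, Fin.cons_succ]
        refine ⟨hw₁p b', hw₁q b', ?_, ?_⟩
        · rw [Hf_smul_left, hw₂p b', mul_zero]
        · rw [Hf_smul_left, hw₂q b', mul_zero]
    · refine Fin.cases ?_ (fun b' => ?_) b
      · intro _
        simp only [Fin.cons_zero, Fin.cons_succ]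
        refine ⟨hpw₁ a', ?_, hqw₁ a', ?_⟩
        · rw [Hf_smul_right, hpw₂ a', mul_zero]
        · rw [Hf_smul_right, hqw₂ a', mul_zero]
      · intro hab
        simp only [Fin.cons_succ]
        exact hP1 a' b' (fun e => hab (by rw [e]))
  · intro a
    refine Fin.cases ?_ (fun a' => ?_) a
    · simp only [Fin.cons_zero]
      rw [Hf_smul_right, hbi]
    · simp only [Fin.cons_succ]
      exact hP2 a'

theorem pair_chain [IsLocalRing B] (hlam : Function.Involutive lam)
    (hB : RInv.IsFixedRing B A lam)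
    (hid : ∀ a : A, lam a - a ∈ Ring.jacobson A) (h2 : IsUnit (2 : A))
    (herm : (-1 : A) • (h.map lam).transpose = h) (g : Matrix (Fin n) (Fin n) A) (hg : g * h = 1) :
    ∀ k, 2 * k ≤ n → ∃ p q : Fin k → Fin n → A, PairInv lam h k p q := by
  intro k
  induction k with
  | zero =>
    intro _
    exact ⟨fun a => a.elim0, fun a => a.elim0, fun a => a.elim0, fun a => a.elim0⟩
  | succ k ih =>
    intro hk
    obtain ⟨p, q, hpq⟩ := ih (by omega)
    exact pair_step lam h hlam hB hid h2 herm g hg (by omega) p q hpq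

theorem main [IsLocalRing B] (hlam : Function.Involutive lam)
    (hB : RInv.IsFixedRing B A lam) (n : ℕ)
    (hid : ∀ a : A, lam a - a ∈ Ring.jacobson A) (h2 : IsUnit (2 : A))
    (h : Matrix (Fin n) (Fin n) A) (hh : IsUnit h) (herm : -(h.map lam).transpose = h) :
    Even n ∧ ∃ v : Matrix (Fin n) (Fin n) A, IsUnit v ∧
      ∀ i j : Fin n,
        (i.val / 2 ≠ j.val / 2 → ((v.map lam).transpose * h * v) i j = 0) ∧
        (i.val / 2 = j.val / 2 → (Even i.val ↔ Even j.val) →
          ((v.map lam).transpose * h * v) i j ∈ Ring.jacobson A) ∧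
        (i.val / 2 = j.val / 2 → Even i.val → ¬ Even j.val →
          ((v.map lam).transpose * h * v) i j - 1 ∈ Ring.jacobson A) ∧
        (i.val / 2 = j.val / 2 → ¬ Even i.val → Even j.val →
          ((v.map lam).transpose * h * v) i j + 1 ∈ Ring.jacobson A) := by
  classical
  have herm' : (-1 : A) • (h.map lam).transpose = h := by rw [neg_one_smul]; exact herm
  haveI : Nontrivial A := hB.1.nontrivial
  obtain ⟨M, hM⟩ := Ideal.exists_maximal A
  haveI := hM
  have hJM : Ring.jacobson A ≤ M := by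
    rw [Ring.jacobson_eq_sInf_isMaximal]; exact sInf_le hM
  have hdetu : IsUnit h.det := (Matrix.isUnit_iff_isUnit_det h).mp hh
  -- evenness
  have heven : Even n := by
    by_contra hodd
    rw [Nat.not_even_iff_odd] at hodd
    have h1 : h.det = - lam h.det := by
      have h3 : h.det = (-(h.map lam).transpose).det := by rw [herm]
      rw [Matrix.det_neg, Matrix.det_transpose, Fintype.card_fin, hodd.neg_one_pow] at h3
      have h4 : (h.map lam).det = lam h.det := by
        have := (RingHom.map_det (lam : A →+* A) h).symm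
        rw [RingHom.mapMatrix_apply] at this
        exact this
      rw [h4, neg_one_mul] at h3
      exact h3
    have h5 : (2 : A) * h.det ∈ Ring.jacobson A := by
      have h6 : (2 : A) * h.det = -(lam h.det - h.det) := by linear_combination h1
      rw [h6]; exact (Ring.jacobson A).neg_mem (hid _)
    exact hM.ne_top (Ideal.eq_top_of_isUnit_mem _ (hJM h5) (h2.mul hdetu))
  refine ⟨heven, ?_⟩
  obtain ⟨m, rfl⟩ := heven
  obtain ⟨g, hg⟩ : ∃ g : Matrix (Fin (m + m)) (Fin (m + m)) A, g * h = 1 := by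
    obtain ⟨u, hu⟩ := id hh
    exact ⟨↑u⁻¹, by rw [← hu]; exact Units.inv_mul u⟩
  obtain ⟨p, q, hpq⟩ := pair_chain lam h hlam hB hid h2 herm' g hg m (by omega)
  obtain ⟨di, hdi⟩ := exists_di lam h hlam hid h2 herm' p q
  have hGi := pair_hGi lam h hlam herm' p q hpq di hdi
  obtain ⟨hP1, hP2⟩ := hpq
  have hqp : ∀ a, Hf lam h (q a) (p a) = -1 := fun a => by
    rw [Hf_symm lam h hlam herm' (p a) (q a), hP2 a, map_one, mul_one]
  obtain ⟨X, hX⟩ : ∃ X : Matrix (Fin (m + m)) (Fin m ⊕ Fin m) A,
      X = Matrix.of fun i c => Sum.elim p q c i := ⟨_, rfl⟩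
  have hGι : ∀ c b, ((X.map lam).transpose * h * X) c b
      = Hf lam h (Sum.elim p q c) (Sum.elim p q b) := by
    intro c b
    rw [gram_apply', hX]
    rfl
  have hinv : ((X.map lam).transpose * h * X) *
      Matrix.of (GiP (fun a => Hf lam h (p a) (p a)) (fun a => Hf lam h (q a) (q a)) di) = 1 := by
    ext c b
    rw [Matrix.mul_apply, Matrix.one_apply]
    simp only [hGι, Matrix.of_apply]
    exact hGi c b
  have hGdet : IsUnit ((X.map lam).transpose * h * X).det := Matrix.isUnit_det_of_right_inverse hinv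
  have hv : ((X.submatrix id (eqv m).symm).map lam).transpose * h * (X.submatrix id (eqv m).symm)
      = ((X.map lam).transpose * h * X).submatrix (eqv m).symm (eqv m).symm := by
    ext i j
    rw [gram_apply', Matrix.submatrix_apply, gram_apply']
    rfl
  refine ⟨X.submatrix id (eqv m).symm, ?_, ?_⟩
  · rw [Matrix.isUnit_iff_isUnit_det]
    have hdet := congrArg Matrix.det hv
    rw [Matrix.det_submatrix_equiv_self, Matrix.det_mul, Matrix.det_mul] at hdet
    rw [← hdet] at hGdet
    exact isUnit_of_mul_isUnit_right hGdet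
  · intro i j
    rw [hv, Matrix.submatrix_apply, hGι]
    have hE : ∀ (i : Fin (m + m)) (hi : Even i.val),
        Sum.elim p q ((eqv m).symm i) = p ⟨i.val / 2, by omega⟩ := by
      intro i hi
      rw [eqv_symm_apply, if_pos hi]; rfl
    have hO : ∀ (i : Fin (m + m)) (hi : ¬ Even i.val),
        Sum.elim p q ((eqv m).symm i) = q ⟨i.val / 2, by omega⟩ := by
      intro i hi
      rw [eqv_symm_apply, if_neg hi]; rfl
    refine ⟨?_, ?_, ?_, ?_⟩
    · intro hij
      have hne : (⟨i.val / 2, by omega⟩ : Fin m) ≠ ⟨j.val / 2, by omega⟩ := by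
        intro e; exact hij (Fin.mk.inj e)
      by_cases hi : Even i.val
      · by_cases hj : Even j.val
        · rw [hE i hi, hE j hj]; exact (hP1 _ _ hne).1
        · rw [hE i hi, hO j hj]; exact (hP1 _ _ hne).2.1
      · by_cases hj : Even j.val
        · rw [hO i hi, hE j hj]; exact (hP1 _ _ hne).2.2.1
        · rw [hO i hi, hO j hj]; exact (hP1 _ _ hne).2.2.2
    · intro hij hpar
      have hijeq : i = j := by
        apply Fin.ext
        by_cases hi : Even i.val
        · have hj := hpar.mp hi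
          have := Nat.even_iff.mp hi
          have := Nat.even_iff.mp hj
          omega
        · have hj : ¬ Even j.val := fun hj => hi (hpar.mpr hj)
          have := Nat.not_even_iff.mp hi
          have := Nat.not_even_iff.mp hj
          omega
      rw [hijeq]
      exact norm_mem lam h hlam hid h2 herm' _
    · intro hij hi hj
      have hfe : (⟨i.val / 2, by omega⟩ : Fin m) = ⟨j.val / 2, by omega⟩ := Fin.ext hij
      rw [hE i hi, hO j hj, hfe, hP2, sub_self]
      exact zero_mem _
    · intro hij hi hj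
      have hfe : (⟨i.val / 2, by omega⟩ : Fin m) = ⟨j.val / 2, by omega⟩ := Fin.ext hij
      rw [hO i hi, hE j hj, hfe, hqp, neg_add_cancel]
      exact zero_mem _

end Groth.Agent.Helper8.SkewHerm
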