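import Mathlib

set_option autoImplicit false
universe u v

namespace Groth.Agent.Helper8.SliceMap

theorem main
    (k : Type u) [CommRing k] (r : ℕ) (L : Type v) [AddCommGroup L]
    (b : L →+ (Fin r → ℤ)) (hb : Function.Injective b) :
    Set.BijOn
      (AddMonoidAlgebra.mapDomainAlgHom k k (AddMonoidHom.snd L (Fin r → ℕ)))
      (AddMonoidAlgebra.gradeBy k
        (b.comp (AddMonoidHom.fst L (Fin r → ℕ)) +
          (AddMonoidHom.compLeft (Nat.castAddMonoidHom ℤ) (Fin r)).comp (AddMonoidHom.snd L (Fin r → ℕ))) 0 :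
        Set (AddMonoidAlgebra k (L × (Fin r → ℕ))))
      (AddMonoidAlgebra.gradeBy k
        ((QuotientAddGroup.mk' b.range).comp (AddMonoidHom.compLeft (Nat.castAddMonoidHom ℤ) (Fin r))) 0 :
        Set (AddMonoidAlgebra k (Fin r → ℕ))) := by
  classical
  set ι : (Fin r → ℕ) →+ (Fin r → ℤ) := AddMonoidHom.compLeft (Nat.castAddMonoidHom ℤ) (Fin r)
    with hι
  have hφ : ∀ x : AddMonoidAlgebra k (L × (Fin r → ℕ)),
      (AddMonoidAlgebra.mapDomainAlgHom k k (AddMonoidHom.snd L (Fin r → ℕ)) x).coeff =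
        Finsupp.mapDomain Prod.snd x.coeff := fun x => rfl
  set S₀ : Set (L × (Fin r → ℕ)) := {q | b q.1 + ι q.2 = 0} with hS₀
  have hinjS : Set.InjOn (Prod.snd : L × (Fin r → ℕ) → (Fin r → ℕ)) S₀ := by
    rintro ⟨w, n⟩ h ⟨w', n'⟩ h' (rfl : n = n')
    have : b w = b w' := by
      have h1 : b w + ι n = 0 := h
      have h2 : b w' + ι n = 0 := h'
      exact add_right_cancel (h1.trans h2.symm)
    rw [hb this]
  refine ⟨?_, ?_, ?_⟩
  · intro x hx
    rw [SetLike.mem_coe, AddMonoidAlgebra.mem_gradeBy_iff] at hx ⊢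
    intro n hn
    rw [Finset.mem_coe, hφ] at hn
    obtain ⟨⟨w, n'⟩, hwn, rfl⟩ := Finset.mem_image.1 (Finsupp.mapDomain_support hn)
    have h0 : b w + ι n' = 0 := hx hwn
    show (QuotientAddGroup.mk' b.range) (ι n') = 0
    rw [QuotientAddGroup.mk'_apply, QuotientAddGroup.eq_zero_iff]
    refine ⟨-w, ?_⟩
    rw [map_neg]
    exact neg_eq_of_add_eq_zero_right h0
  · intro x hx y hy hxy
    rw [SetLike.mem_coe, AddMonoidAlgebra.mem_gradeBy_iff] at hx hy
    have h1 : (x.coeff.support : Set _) ⊆ S₀ := fun q hq => hx hq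
    have h2 : (y.coeff.support : Set _) ⊆ S₀ := fun q hq => hy hq
    have h3 : Finsupp.mapDomain Prod.snd x.coeff = Finsupp.mapDomain Prod.snd y.coeff := by
      rw [← hφ, ← hφ, hxy]
    exact AddMonoidAlgebra.coeff_injective (Finsupp.mapDomain_injOn S₀ hinjS h1 h2 h3)
  · intro y hy
    rw [SetLike.mem_coe, AddMonoidAlgebra.mem_gradeBy_iff] at hy
    let g : (Fin r → ℕ) → L × (Fin r → ℕ) := fun n =>
      (if h : ∃ w, b w + ι n = 0 then h.choose else 0, n)
    have hg : ∀ n ∈ y.coeff.support, g n ∈ S₀ := by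
      intro n hn
      have h0 : (QuotientAddGroup.mk' b.range) (ι n) = 0 := hy hn
      rw [QuotientAddGroup.mk'_apply, QuotientAddGroup.eq_zero_iff] at h0
      obtain ⟨w', hw'⟩ := h0
      have hex : ∃ w, b w + ι n = 0 := ⟨-w', by rw [map_neg, hw', neg_add_cancel]⟩
      show b (g n).1 + ι (g n).2 = 0
      simp only [g, dif_pos hex]
      exact hex.choose_spec
    refine ⟨AddMonoidAlgebra.ofCoeff (Finsupp.mapDomain g y.coeff), ?_, ?_⟩
    · rw [SetLike.mem_coe, AddMonoidAlgebra.mem_gradeBy_iff]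
      intro q hq
      rw [AddMonoidAlgebra.coeff_ofCoeff] at hq
      obtain ⟨n, hn, rfl⟩ := Finset.mem_image.1 (Finsupp.mapDomain_support hq)
      exact hg n hn
    · apply AddMonoidAlgebra.coeff_injective
      rw [hφ, AddMonoidAlgebra.coeff_ofCoeff, ← Finsupp.mapDomain_comp]
      have : (Prod.snd ∘ g) = id := rfl
      rw [this, Finsupp.mapDomain_id]

end Groth.Agent.Helper8.SliceMap
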