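import Mathlib
import Groth.Prelude
import Groth.Agent.Helper2.EtLiftE
set_option autoImplicit false

universe u

noncomputable section

namespace Groth.Agent.Helper8.SmHens

open MvPolynomial Groth.Agent.Helper2.PairHens Groth.Agent.Helper2.JacEt

variable (A : Type u) [CommRing A] (I : Ideal A)
  (E : Type u) [CommRing E] [Algebra A E]
  (H : Type u) [CommRing H] [Algebra E H] [Algebra A H] [IsScalarTower A E H]
  (hH : Hens2.IsPairHenselization E (I.map (algebraMap A E)) H)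
  (R₀ : Type u) [CommRing R₀] [Algebra A R₀] [Algebra.FinitePresentation A R₀]
  (B : Type u) [CommRing B] [Algebra R₀ B] [Algebra A B] [IsScalarTower A R₀ B]
  (hB : Hens2.IsPairHenselization R₀ (I.map (algebraMap A R₀)) B)
  (φ : H →ₐ[A] B)

include hH hB in
theorem surj_aux [Algebra.FinitePresentation A E]
    (hsurj : ∀ b : B, ∃ e : E, b - φ (algebraMap E H e) ∈ I.map (algebraMap A B)) :
    Function.Surjective φ := by
  letI : Algebra H B := φ.toRingHom.toAlgebra
  haveI : IsScalarTower A H B := IsScalarTower.of_algebraMap_eq (fun a => (φ.commutes a).symm)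
  obtain ⟨T, _, _, _, _, hTfp, hT⟩ := s17609 A I E H hH R₀ B hB
  haveI : HenselianRing H (I.map (algebraMap A H)) := map_map_eq A I E H hH ▸ hH.1
  haveI := hTfp
  have := s17597 H (I.map (algebraMap A H)) T B hT (by
    intro x
    obtain ⟨b, rfl⟩ := Ideal.Quotient.mk_surjective x
    obtain ⟨e, he⟩ := hsurj b
    refine ⟨Ideal.Quotient.mk _ (algebraMap E H e), ?_⟩
    rw [Ideal.quotientMap_mk, eq_comm, Ideal.Quotient.eq, Ideal.map_map,
      ← IsScalarTower.algebraMap_eq]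
    exact he)
  exact this

omit [Algebra.FinitePresentation A R₀] in
/-- flat version of `pow_aux`: no use of `E`. -/
theorem pow_aux
    (hfl : ∀ r : ℕ, 1 ≤ r → Module.Flat (A ⧸ I ^ r) (B ⧸ (I ^ r).map (algebraMap A B)))
    (hsurj : Function.Surjective φ)
    (hmodI : ∀ h : H, φ h ∈ I.map (algebraMap A B) → h ∈ I.map (algebraMap A H))
    (n : ℕ) : RingHom.ker φ ≤ (I ^ n).map (algebraMap A H) := by
  rcases Nat.eq_zero_or_pos n with rfl | hn
  · rw [pow_zero, Ideal.one_eq_top, Ideal.map_top]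
    exact le_top
  haveI := hfl n hn
  set An := A ⧸ I ^ n with hAn
  set Hn := H ⧸ (I ^ n).map (algebraMap A H) with hHn
  set Bn := B ⧸ (I ^ n).map (algebraMap A B) with hBn
  let p : Hn →ₐ[A] Bn := Ideal.Quotient.liftₐ _ ((Ideal.Quotient.mkₐ A _).comp φ) (by
    intro x hx
    show Ideal.Quotient.mk _ (φ x) = 0
    exact Ideal.Quotient.eq_zero_iff_mem.mpr (map_algHom_mem (I ^ n) φ hx))
  have hpmk : ∀ h : H, p (Ideal.Quotient.mk _ h) = Ideal.Quotient.mk _ (φ h) := fun h => rfl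
  have hp : Function.Surjective p := by
    intro y
    obtain ⟨b, rfl⟩ := Ideal.Quotient.mk_surjective y
    obtain ⟨h, rfl⟩ := hsurj b
    exact ⟨Ideal.Quotient.mk _ h, hpmk h⟩
  have hAsurj : Function.Surjective (algebraMap A An) := Ideal.Quotient.mk_surjective
  let pn : Hn →ₗ[An] Bn := LinearMap.extendScalarsOfSurjective hAsurj p.toLinearMap
  have hpn : ∀ x, pn x = p x := fun _ => rfl
  set Ib : Ideal An := I.map (Ideal.Quotient.mk (I ^ n)) with hIb
  have hIbn : Ib ^ n = ⊥ := by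
    rw [hIb, ← Ideal.map_pow, Ideal.map_quotient_self]
  have hkertop : ∀ k : Hn, pn k = 0 → k ∈ Ib • (⊤ : Submodule An Hn) := by
    intro k hk
    obtain ⟨h, rfl⟩ := Ideal.Quotient.mk_surjective k
    rw [hpn, hpmk, Ideal.Quotient.eq_zero_iff_mem] at hk
    have h1 : φ h ∈ I.map (algebraMap A B) :=
      Ideal.map_mono (Ideal.pow_le_self (Nat.pos_iff_ne_zero.mp hn)) hk
    have h2 := hmodI h h1
    rw [Ideal.smul_top_eq_map]
    have h3 : Ib.map (algebraMap An Hn) = (I.map (algebraMap A H)).map (Ideal.Quotient.mk _) := by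
      rw [hIb, Ideal.map_map, Ideal.map_map]
      congr 1
    show Ideal.Quotient.mk _ h ∈ Ib.map (algebraMap An Hn)
    rw [h3]
    exact Ideal.mem_map_of_mem _ h2
  have hstep : LinearMap.ker pn ≤ Ib • LinearMap.ker pn := by
    intro k hk
    exact mem_smul_ker_of_flat Ib pn hp k hk (hkertop k hk)
  have hall : ∀ m : ℕ, LinearMap.ker pn ≤ Ib ^ m • LinearMap.ker pn := by
    intro m
    induction m with
    | zero => rw [pow_zero, Ideal.one_eq_top, Submodule.top_smul]
    | succ m ih =>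
      calc LinearMap.ker pn ≤ Ib • LinearMap.ker pn := hstep
        _ ≤ Ib • (Ib ^ m • LinearMap.ker pn) := Submodule.smul_mono le_rfl ih
        _ = Ib ^ (m + 1) • LinearMap.ker pn := by rw [← Submodule.mul_smul, ← pow_succ']
  have hbot : LinearMap.ker pn = ⊥ := by
    rw [eq_bot_iff]
    calc LinearMap.ker pn ≤ Ib ^ n • LinearMap.ker pn := hall n
      _ = ⊥ := by rw [hIbn, Submodule.bot_smul]
  intro h hh
  rw [RingHom.mem_ker] at hh
  have h4 : (Ideal.Quotient.mk _ h : Hn) ∈ LinearMap.ker pn := by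
    rw [LinearMap.mem_ker, hpn, hpmk, hh, map_zero]
  rw [hbot, Submodule.mem_bot] at h4
  exact Ideal.Quotient.eq_zero_iff_mem.mp h4

include hH hB in
/-- finite generation of the kernel, for `E` of finite type (no unramifiedness used). -/
theorem fg_aux [Algebra.FiniteType A E] (hsurj : Function.Surjective φ) :
    (RingHom.ker φ).FG := by
  classical
  obtain ⟨m, f, hfsurj, s, hs⟩ := Algebra.FinitePresentation.out (R := A) (A := R₀)
  choose η hη using fun i : Fin m => hsurj (algebraMap R₀ B (f (X i)))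
  let ev : MvPolynomial (Fin m) A →ₐ[A] H := aeval η
  have hev : ∀ p, φ (ev p) = algebraMap R₀ B (f p) := by
    intro p
    have : φ.comp ev = (IsScalarTower.toAlgHom A R₀ B).comp f := by
      apply MvPolynomial.algHom_ext
      intro i
      show φ (aeval η (X i)) = algebraMap R₀ B (f (X i))
      rw [aeval_X, hη]
    exact congr($this p)
  let K₀ : Ideal H := Ideal.span (ev '' (s : Set (MvPolynomial (Fin m) A)))
  have hfs : ∀ g ∈ s, f g = 0 := by
    intro g hg
    have : g ∈ RingHom.ker f.toRingHom := hs ▸ Ideal.subset_span hg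
    exact this
  have hK₀ : K₀ ≤ RingHom.ker φ := by
    rw [Ideal.span_le]
    rintro _ ⟨g, hg, rfl⟩
    rw [SetLike.mem_coe, RingHom.mem_ker, hev, hfs g hg, map_zero]
  have hK₀fg : K₀.FG := ⟨s.image ev, by rw [Finset.coe_image]⟩
  haveI hHhens : HenselianRing H (I.map (algebraMap A H)) := map_map_eq A I E H hH ▸ hH.1
  have hhensQ : ∀ K' : Ideal H, HenselianRing (H ⧸ K') (I.map (algebraMap A (H ⧸ K'))) := by
    intro K'
    have hJ'eq : (I.map (algebraMap A H)).map (Ideal.Quotient.mk K') =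
        I.map (algebraMap A (H ⧸ K')) := by
      rw [Ideal.map_map]
      rfl
    exact hJ'eq ▸ Groth.Agent.Helper3.HensGabber.henselian_map_of_surjective
      (I.map (algebraMap A H)) (Ideal.Quotient.mk K') Ideal.Quotient.mk_surjective
  -- generic construction
  have key : ∀ K' : Ideal H, K₀ ≤ K' → K' ≤ RingHom.ker φ →
      ∃ ψ : B →+* H ⧸ K',
        (∀ p, ψ (algebraMap R₀ B (f p)) = Ideal.Quotient.mk K' (ev p)) ∧
        (∀ b, ∃ h, ψ b = Ideal.Quotient.mk K' h ∧ φ h = b) ∧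
        (∀ ψ' : B →+* H ⧸ K',
          (∀ p, ψ' (algebraMap R₀ B (f p)) = Ideal.Quotient.mk K' (ev p)) → ψ' = ψ) := by
    intro K' hK₀K' hK'
    let mk' : H →+* H ⧸ K' := Ideal.Quotient.mk K'
    have hψ₀ker : RingHom.ker f.toRingHom ≤ RingHom.ker (mk'.comp ev.toRingHom) := by
      rw [← hs, Ideal.span_le]
      intro g hg
      rw [SetLike.mem_coe, RingHom.mem_ker]
      show mk' (ev g) = 0
      exact Ideal.Quotient.eq_zero_iff_mem.mpr (hK₀K' (Ideal.subset_span ⟨g, hg, rfl⟩))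
    let ψ₀ : R₀ →+* H ⧸ K' :=
      RingHom.liftOfSurjective f.toRingHom hfsurj ⟨mk'.comp ev.toRingHom, hψ₀ker⟩
    have hψ₀ : ∀ p, ψ₀ (f p) = mk' (ev p) := fun p =>
      RingHom.liftOfSurjective_comp_apply f.toRingHom hfsurj ⟨mk'.comp ev.toRingHom, hψ₀ker⟩ p
    have hψ₀A : ∀ a : A, ψ₀ (algebraMap A R₀ a) = algebraMap A (H ⧸ K') a := by
      intro a
      rw [← f.commutes a, hψ₀, ev.commutes]
      rfl
    obtain ⟨ψ, hψ, hψuniq⟩ := hB.2 (H ⧸ K') (I.map (algebraMap A (H ⧸ K'))) ψ₀ (hhensQ K') (by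
      rw [Ideal.map_map]
      have : ψ₀.comp (algebraMap A R₀) = algebraMap A (H ⧸ K') := RingHom.ext hψ₀A
      rw [this])
    have hψ' : ∀ r, ψ (algebraMap R₀ B r) = ψ₀ r := fun r => congr($hψ r)
    let φb : H ⧸ K' →+* B := Ideal.Quotient.lift K' φ.toRingHom (fun x hx => hK' hx)
    have hφb : ∀ h, φb (mk' h) = φ h := fun h => rfl
    have hi : ∀ b, φb (ψ b) = b := by
      obtain ⟨g, -, hguniq⟩ := hB.2 B ((I.map (algebraMap A R₀)).map (algebraMap R₀ B))
        (algebraMap R₀ B) hB.1 le_rfl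
      have h1 : φb.comp ψ = g := by
        apply hguniq
        refine RingHom.ext fun r => ?_
        obtain ⟨p, rfl⟩ := hfsurj r
        show φb (ψ (algebraMap R₀ B (f p))) = algebraMap R₀ B (f p)
        rw [hψ', hψ₀, hφb, hev]
      have h2 : RingHom.id B = g := by
        apply hguniq
        rfl
      intro b
      exact congr($(h1.trans h2.symm) b)
    refine ⟨ψ, fun p => by rw [hψ', hψ₀], fun b => ?_, fun ψ' hψ'f => ?_⟩
    · obtain ⟨h, hh⟩ := Ideal.Quotient.mk_surjective (ψ b)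
      refine ⟨h, hh.symm, ?_⟩
      have h3 := hi b
      rw [← hh] at h3
      exact h3
    · apply hψuniq
      refine RingHom.ext fun r => ?_
      obtain ⟨p, rfl⟩ := hfsurj r
      show ψ' (algebraMap R₀ B (f p)) = ψ₀ (f p)
      rw [hψ'f, hψ₀]
  obtain ⟨ψ₁, hψ₁f, hψ₁φ, -⟩ := key K₀ le_rfl hK₀
  obtain ⟨S, hS⟩ := Algebra.FiniteType.out (R := A) (A := E)
  choose hh hh1 hh2 using fun e : E => hψ₁φ (φ (algebraMap E H e))
  let K₁ : Ideal H := K₀ ⊔ Ideal.span ((fun e => hh e - algebraMap E H e) '' (S : Set E))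
  have hK₁fg : K₁.FG := Submodule.FG.sup hK₀fg
    ⟨S.image (fun e => hh e - algebraMap E H e), by rw [Finset.coe_image]⟩
  have hK₁ker : K₁ ≤ RingHom.ker φ := by
    refine sup_le hK₀ ?_
    rw [Ideal.span_le]
    rintro _ ⟨e, -, rfl⟩
    rw [SetLike.mem_coe, RingHom.mem_ker, map_sub, hh2, sub_self]
  obtain ⟨ψ₂, hψ₂f, -, hψ₂uniq⟩ := key K₁ le_sup_left hK₁ker
  let π : H ⧸ K₀ →+* H ⧸ K₁ := Ideal.Quotient.factor (le_sup_left : K₀ ≤ K₁)
  have hπ : ∀ h, π (Ideal.Quotient.mk K₀ h) = Ideal.Quotient.mk K₁ h := fun h => rfl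
  have hπψ : π.comp ψ₁ = ψ₂ := hψ₂uniq _ (fun p => by
    show π (ψ₁ _) = _
    rw [hψ₁f, hπ])
  have hψ₂e : ∀ e ∈ S, ψ₂ (φ (algebraMap E H e)) = Ideal.Quotient.mk K₁ (algebraMap E H e) := by
    intro e he
    rw [← hπψ]
    show π (ψ₁ (φ (algebraMap E H e))) = _
    rw [hh1, hπ, Ideal.Quotient.eq]
    exact le_sup_right (α := Ideal H) (Ideal.subset_span ⟨e, he, rfl⟩)
  have hψ₂A : ∀ a : A, ψ₂ (algebraMap A B a) = algebraMap A (H ⧸ K₁) a := by
    intro a
    have h1 := hψ₂f (C a)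
    have h2 : f (C a) = algebraMap A R₀ a := f.commutes a
    have h3 : ev (C a) = algebraMap A H a := ev.commutes a
    rw [h2, h3, ← IsScalarTower.algebraMap_apply] at h1
    exact h1
  let a₂ : E →ₐ[A] H ⧸ K₁ := (Ideal.Quotient.mkₐ A K₁).comp (IsScalarTower.toAlgHom A E H)
  let a₁ : E →ₐ[A] H ⧸ K₁ :=
    { ψ₂.comp (φ.toRingHom.comp (algebraMap E H)) with
      commutes' := by
        intro a
        show ψ₂ (φ (algebraMap E H (algebraMap A E a))) = algebraMap A (H ⧸ K₁) a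
        rw [← IsScalarTower.algebraMap_apply, φ.commutes, hψ₂A] }
  have ha : a₁ = a₂ := by
    refine AlgHom.ext_of_adjoin_eq_top hS (fun e he => ?_)
    exact hψ₂e e he
  obtain ⟨g, -, hguniq⟩ := hH.2 (H ⧸ K₁) (I.map (algebraMap A (H ⧸ K₁))) (a₂ : E →+* H ⧸ K₁)
    (hhensQ K₁) (by
    rw [Ideal.map_map]
    have : (a₂ : E →+* H ⧸ K₁).comp (algebraMap A E) = algebraMap A (H ⧸ K₁) := by
      refine RingHom.ext fun a => ?_
      exact a₂.commutes a
    rw [this])
  have h1 : ψ₂.comp φ.toRingHom = g := by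
    apply hguniq
    refine RingHom.ext fun e => ?_
    exact congr($ha e)
  have h2 : Ideal.Quotient.mk K₁ = g := by
    apply hguniq
    rfl
  have hle : RingHom.ker φ ≤ K₁ := by
    intro h hhk
    have h3 : ψ₂ (φ h) = Ideal.Quotient.mk K₁ h := congr($(h1.trans h2.symm) h)
    rw [RingHom.mem_ker] at hhk
    rw [hhk, map_zero] at h3
    exact Ideal.Quotient.eq_zero_iff_mem.mp h3.symm
  rw [le_antisymm hle hK₁ker]
  exact hK₁fg

end Groth.Agent.Helper8.SmHens
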