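import Mathlib
set_option autoImplicit false
universe u v w

namespace Groth.Agent.Helper8.SmLiftA

/-- Derivation criterion: `B` formally smooth over `R`, `𝔞 = θ(P)`, a derivation `D : B → P/𝔞P` and
an endomorphism `φ'` with `φ' (D (θ p)) = g • [p]`; then `(B/𝔞)_g` is formally smooth over `R`. -/
theorem formallySmooth_away_of_der
    {R : Type u} {B : Type v} [CommRing R] [CommRing B] [Algebra R B] [Algebra.FormallySmooth R B]
    {P : Type w} [AddCommGroup P] [Module B P] [Module R P] [IsScalarTower R B P]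
    (θ : P →ₗ[B] B) (𝔞 : Ideal B) (h𝔞 : ∀ p, θ p ∈ 𝔞) (h𝔞' : ∀ x ∈ 𝔞, ∃ p, θ p = x)
    (D : Derivation R B (P ⧸ (𝔞 • (⊤ : Submodule B P))))
    (φ' : (P ⧸ (𝔞 • (⊤ : Submodule B P))) →ₗ[B] (P ⧸ (𝔞 • (⊤ : Submodule B P))))
    (g : B) (hφ : ∀ p, φ' (D (θ p)) = g • Submodule.Quotient.mk p) :
    Algebra.FormallySmooth R (Localization.Away (Ideal.Quotient.mk 𝔞 g)) := by
  refine Algebra.FormallySmooth.of_comp_surjective ?_
  intro T _ _ 𝔫 h𝔫 fbar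
  let ρ : B →ₐ[R] Localization.Away (Ideal.Quotient.mk 𝔞 g) :=
    (IsScalarTower.toAlgHom R (B ⧸ 𝔞) (Localization.Away (Ideal.Quotient.mk 𝔞 g))).comp
      (Ideal.Quotient.mkₐ R 𝔞)
  obtain ⟨h, hh⟩ := Algebra.FormallySmooth.comp_surjective R B 𝔫 h𝔫 (fbar.comp ρ)
  have hmk : ∀ b, Ideal.Quotient.mk 𝔫 (h b) = fbar (ρ b) := fun b => congr($hh b)
  have hρ𝔞 : ∀ x ∈ 𝔞, ρ x = 0 := by
    intro x hx
    show algebraMap (B ⧸ 𝔞) (Localization.Away (Ideal.Quotient.mk 𝔞 g)) (Ideal.Quotient.mk 𝔞 x) = 0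
    rw [Ideal.Quotient.eq_zero_iff_mem.mpr hx, map_zero]
  have hh𝔞 : ∀ x ∈ 𝔞, h x ∈ 𝔫 := by
    intro x hx
    rw [← Ideal.Quotient.eq_zero_iff_mem, hmk, hρ𝔞 x hx, map_zero]
  have hnil : IsNilpotent 𝔫 := ⟨2, h𝔫⟩
  have hρg : IsUnit (ρ g) := by
    show IsUnit (algebraMap (B ⧸ 𝔞) (Localization.Away (Ideal.Quotient.mk 𝔞 g))
      (Ideal.Quotient.mk 𝔞 g))
    exact IsLocalization.Away.algebraMap_isUnit _
  have hug : IsUnit (h g) := by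
    rw [← IsNilpotent.isUnit_quotient_mk_iff hnil, hmk]
    exact hρg.map fbar
  obtain ⟨u, hu⟩ := hug
  letI : Algebra B T := h.toRingHom.toAlgebra
  haveI : IsScalarTower R B T := IsScalarTower.of_algebraMap_eq (fun r => (h.commutes r).symm)
  have halg : ∀ b : B, algebraMap B T b = h b := fun _ => rfl
  let l₀ : P →ₗ[B] 𝔫 :=
    { toFun := fun p => ⟨h (θ p), hh𝔞 _ (h𝔞 p)⟩
      map_add' := fun p q => by
        apply Subtype.ext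
        simp [map_add]
      map_smul' := fun b p => by
        apply Subtype.ext
        simp [Algebra.smul_def, halg] }
  have hl₀v : ∀ p, (l₀ p : T) = h (θ p) := fun _ => rfl
  have hl₀ : 𝔞 • (⊤ : Submodule B P) ≤ LinearMap.ker l₀ := by
    rw [Submodule.smul_le]
    intro a ha p _
    rw [LinearMap.mem_ker, map_smul]
    apply Subtype.ext
    rw [Submodule.coe_smul_of_tower, Algebra.smul_def, halg]
    have : h a * (l₀ p : T) ∈ 𝔫 ^ 2 := by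
      rw [pow_two]; exact Ideal.mul_mem_mul (hh𝔞 a ha) (l₀ p).2
    rw [h𝔫] at this
    exact this
  let l₁ : (P ⧸ 𝔞 • (⊤ : Submodule B P)) →ₗ[B] 𝔫 := Submodule.liftQ _ l₀ hl₀
  have hl₁ : ∀ p, l₁ (Submodule.Quotient.mk p) = l₀ p := fun _ => rfl
  let mu : 𝔫 →ₗ[B] 𝔫 := (LinearMap.lsmul T 𝔫 (↑u⁻¹ : T)).restrictScalars B
  have hmu : ∀ x : 𝔫, (mu x : T) = (↑u⁻¹ : T) * (x : T) := fun _ => rfl
  let Λ : (P ⧸ 𝔞 • (⊤ : Submodule B P)) →ₗ[B] 𝔫 := mu ∘ₗ l₁ ∘ₗ φ'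
  let δ : Derivation R B 𝔫 := Λ.compDer D
  have hδ : ∀ b, δ b = mu (l₁ (φ' (D b))) := fun _ => rfl
  let f₀ : B →ₐ[R] T := liftOfDerivationToSquareZero 𝔫 h𝔫 (-δ)
  have hf₀ : ∀ b, f₀ b = h b - (δ b : T) := by
    intro b
    rw [liftOfDerivationToSquareZero_apply, halg]
    simp only [Derivation.neg_apply, NegMemClass.coe_neg]
    ring
  have hδθ : ∀ p, (δ (θ p) : T) = h (θ p) := by
    intro p
    rw [hδ, hmu, hφ, map_smul, hl₁, Submodule.coe_smul_of_tower, Algebra.smul_def, halg, hl₀v, ← hu,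
      ← mul_assoc, Units.inv_mul, one_mul]
  have hf₀𝔞 : ∀ x ∈ 𝔞, f₀ x = 0 := by
    intro x hx
    obtain ⟨p, rfl⟩ := h𝔞' x hx
    rw [hf₀, hδθ, sub_self]
  let f₁ : B ⧸ 𝔞 →ₐ[R] T := Ideal.Quotient.liftₐ 𝔞 f₀ hf₀𝔞
  have hf₁ : ∀ b, f₁ (Ideal.Quotient.mk 𝔞 b) = f₀ b := fun b => rfl
  have hmkf₀ : ∀ b, Ideal.Quotient.mk 𝔫 (f₀ b) = fbar (ρ b) := by
    intro b
    rw [hf₀, map_sub, Ideal.Quotient.eq_zero_iff_mem.mpr (δ b).2, sub_zero, hmk]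
  have hunit : ∀ y : Submonoid.powers (Ideal.Quotient.mk 𝔞 g), IsUnit (f₁ y) := by
    rintro ⟨_, n, rfl⟩
    show IsUnit (f₁ ((Ideal.Quotient.mk 𝔞 g) ^ n))
    rw [map_pow, hf₁]
    apply IsUnit.pow
    rw [← IsNilpotent.isUnit_quotient_mk_iff hnil, hmkf₀]
    exact hρg.map fbar
  let f : Localization.Away (Ideal.Quotient.mk 𝔞 g) →ₐ[R] T :=
    IsLocalization.liftAlgHom (M := Submonoid.powers (Ideal.Quotient.mk 𝔞 g)) hunit
  refine ⟨f, ?_⟩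
  apply AlgHom.coe_ringHom_injective
  apply IsLocalization.ringHom_ext (Submonoid.powers (Ideal.Quotient.mk 𝔞 g))
  apply Ideal.Quotient.ringHom_ext
  ext b
  show Ideal.Quotient.mk 𝔫 (f (algebraMap (B ⧸ 𝔞) _ (Ideal.Quotient.mk 𝔞 b))) =
    fbar (algebraMap (B ⧸ 𝔞) _ (Ideal.Quotient.mk 𝔞 b))
  have : f (algebraMap (B ⧸ 𝔞) _ (Ideal.Quotient.mk 𝔞 b)) = f₁ (Ideal.Quotient.mk 𝔞 b) :=
    IsLocalization.lift_eq _ _
  rw [this, hf₁, hmkf₀]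
  rfl

end Groth.Agent.Helper8.SmLiftA
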