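import Mathlib
import Groth.Agent.Helper8.SmLiftA
set_option autoImplicit false
universe u v w

namespace Groth.Agent.Helper8.SmLiftB

open Polynomial

/-- From a derivation modulo `J ⊇ 𝔞` with `D₀ (θ p) = [p]`, produce `g ≡ 1 mod J` such that
`(B/𝔞)_g` is formally smooth. -/
theorem exists_formallySmooth_away
    {R : Type u} {B : Type v} [CommRing R] [CommRing B] [Algebra R B] [Algebra.FormallySmooth R B]
    {P : Type w} [AddCommGroup P] [Module B P] [Module R P] [IsScalarTower R B P] [Module.Finite B P]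
    (θ : P →ₗ[B] B) (𝔞 : Ideal B) (h𝔞 : ∀ p, θ p ∈ 𝔞) (h𝔞' : ∀ x ∈ 𝔞, ∃ p, θ p = x)
    (J : Ideal B) (h𝔞J : 𝔞 ≤ J)
    (D₀ : Derivation R B (P ⧸ (J • (⊤ : Submodule B P))))
    (hD₀ : ∀ p, D₀ (θ p) = Submodule.Quotient.mk p) :
    ∃ g : B, g - 1 ∈ J ∧ ∀ g' : B,
      Algebra.FormallySmooth R (Localization.Away (Ideal.Quotient.mk 𝔞 (g * g'))) := by
  classical
  have hle : 𝔞 • (⊤ : Submodule B P) ≤ J • (⊤ : Submodule B P) := Submodule.smul_mono_left h𝔞J
  -- the projection N → P/JP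
  let π : (P ⧸ (𝔞 • (⊤ : Submodule B P))) →ₗ[B] (P ⧸ (J • (⊤ : Submodule B P))) :=
    Submodule.mapQ _ _ LinearMap.id (by simpa using hle)
  have hπmk : ∀ p, π (Submodule.Quotient.mk p) = Submodule.Quotient.mk p := fun _ => rfl
  have hπsurj : Function.Surjective π := by
    intro y
    obtain ⟨p, rfl⟩ := Submodule.Quotient.mk_surjective _ y
    exact ⟨Submodule.Quotient.mk p, rfl⟩
  have hkerπ : LinearMap.ker π ≤ J • (⊤ : Submodule B (P ⧸ (𝔞 • (⊤ : Submodule B P)))) := by
    intro n hn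
    obtain ⟨p, rfl⟩ := Submodule.Quotient.mk_surjective _ n
    rw [LinearMap.mem_ker, hπmk, Submodule.Quotient.mk_eq_zero] at hn
    have h1 : (J • (⊤ : Submodule B P)).map (Submodule.mkQ (𝔞 • (⊤ : Submodule B P))) =
        J • (⊤ : Submodule B (P ⧸ (𝔞 • (⊤ : Submodule B P)))) := by
      rw [Submodule.map_smul'', Submodule.map_top, Submodule.range_mkQ]
    rw [← h1]
    exact ⟨p, hn, rfl⟩
  -- lift the derivation
  obtain ⟨L, hL⟩ := Module.projective_lifting_property π D₀.liftKaehlerDifferential hπsurj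
  let D : Derivation R B (P ⧸ (𝔞 • (⊤ : Submodule B P))) := L.compDer (KaehlerDifferential.D R B)
  have hDL : ∀ b, D b = L (KaehlerDifferential.D R B b) := fun _ => rfl
  have hπD : ∀ b, π (D b) = D₀ b := by
    intro b
    rw [hDL]
    have := congr($hL (KaehlerDifferential.D R B b))
    rw [LinearMap.comp_apply] at this
    rw [this, Derivation.liftKaehlerDifferential_comp_D]
  -- 𝔞 kills N
  have h𝔞N : ∀ a ∈ 𝔞, ∀ n : (P ⧸ (𝔞 • (⊤ : Submodule B P))), a • n = 0 := by
    intro a ha n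
    obtain ⟨p, rfl⟩ := Submodule.Quotient.mk_surjective _ n
    rw [← Submodule.Quotient.mk_smul, Submodule.Quotient.mk_eq_zero]
    exact Submodule.smul_mem_smul ha Submodule.mem_top
  -- φ
  let φ₀ : P →ₗ[B] (P ⧸ (𝔞 • (⊤ : Submodule B P))) :=
    { toFun := fun p => D (θ p)
      map_add' := fun p q => by rw [map_add, map_add]
      map_smul' := fun b p => by
        rw [map_smul, smul_eq_mul, Derivation.leibniz, h𝔞N _ (h𝔞 p), add_zero]
        rfl }
  have hφ₀ : 𝔞 • (⊤ : Submodule B P) ≤ LinearMap.ker φ₀ := by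
    rw [Submodule.smul_le]
    intro a ha p _
    rw [LinearMap.mem_ker, map_smul, h𝔞N a ha]
  let φ : (P ⧸ (𝔞 • (⊤ : Submodule B P))) →ₗ[B] (P ⧸ (𝔞 • (⊤ : Submodule B P))) :=
    Submodule.liftQ _ φ₀ hφ₀
  have hφmk : ∀ p, φ (Submodule.Quotient.mk p) = D (θ p) := fun _ => rfl
  let ε : Module.End B (P ⧸ (𝔞 • (⊤ : Submodule B P))) := LinearMap.id - φ
  have hε : LinearMap.range ε ≤ J • (⊤ : Submodule B (P ⧸ (𝔞 • (⊤ : Submodule B P)))) := by
    rintro _ ⟨n, rfl⟩
    apply hkerπ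
    obtain ⟨p, rfl⟩ := Submodule.Quotient.mk_surjective _ n
    rw [LinearMap.mem_ker]
    show π (Submodule.Quotient.mk p - φ (Submodule.Quotient.mk p)) = 0
    rw [map_sub, hφmk, hπD, hD₀, hπmk, sub_self]
  obtain ⟨p, hmonic, -, hcoeff, hp⟩ :=
    LinearMap.exists_monic_and_natDegree_eq_and_coeff_mem_pow_and_aeval_eq_zero B ε J hε
  set c : B := p.eval 1 with hc
  have hcJ : c - 1 ∈ J := by
    rw [hc, Polynomial.eval_eq_sum_range, Finset.sum_range_succ, one_pow, mul_one,
      hmonic.coeff_natDegree, add_sub_cancel_right]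
    refine Ideal.sum_mem _ fun i hi => ?_
    rw [one_pow, mul_one]
    have hi' : i < p.natDegree := Finset.mem_range.mp hi
    exact Ideal.pow_le_self (by omega) (hcoeff i)
  let s : B[X] := p /ₘ (X - C 1)
  have hps : p = s * (X - C 1) + C c := by
    have h1 := Polynomial.modByMonic_add_div p (X - C (1 : B))
    rw [Polynomial.modByMonic_X_sub_C_eq_C_eval] at h1
    rw [← h1]
    ring
  have hkey : ∀ n, (Polynomial.aeval ε s) (φ n) = c • n := by
    intro n
    have h2 := congr(Polynomial.aeval ε $hps)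
    rw [hp, map_add, map_mul, map_sub, Polynomial.aeval_X, Polynomial.aeval_C, Polynomial.aeval_C, map_one] at h2
    have h3 := congr($h2 n)
    rw [LinearMap.zero_apply, LinearMap.add_apply, Module.End.mul_apply, LinearMap.sub_apply,
      Module.End.one_apply, Module.algebraMap_end_apply] at h3
    have h4 : ε n - n = - φ n := by
      show (n - φ n) - n = - φ n
      abel
    rw [h4, map_neg] at h3
    rw [← sub_eq_zero, ← neg_eq_zero, neg_sub, sub_eq_neg_add]
    exact h3.symm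
  refine ⟨c, hcJ, fun g' => ?_⟩
  exact Groth.Agent.Helper8.SmLiftA.formallySmooth_away_of_der θ 𝔞 h𝔞 h𝔞' D
    (g' • Polynomial.aeval ε s) (c * g') (fun p₀ => by
      rw [LinearMap.smul_apply, ← hφmk, hkey, smul_smul, mul_comm])

end Groth.Agent.Helper8.SmLiftB
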