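import Mathlib
set_option autoImplicit false
universe u v w

namespace Groth.Agent.Helper8.SmLiftC

/-- If `A₀ = B/J` is formally smooth over `R/I`, there is an `R`-derivation
`D₁ : B → B/(J² + IB)` with `D₁ y = [y]` for `y ∈ J` and values in `J/(J²+IB)`. -/
theorem exists_derT
    {R : Type u} [CommRing R] (I : Ideal R) {B : Type v} [CommRing B] [Algebra R B]
    {A₀ : Type v} [CommRing A₀] [Algebra (R ⧸ I) A₀] [Algebra R A₀] [IsScalarTower R (R ⧸ I) A₀]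
    [Algebra.FormallySmooth (R ⧸ I) A₀]
    (ρ : B →ₐ[R] A₀) (hρ : Function.Surjective ρ) :
    ∃ D₁ : Derivation R B (B ⧸ ((RingHom.ker ρ) ^ 2 ⊔ I.map (algebraMap R B))),
      (∀ y ∈ RingHom.ker ρ, D₁ y = Ideal.Quotient.mk _ y) ∧
      (∀ b, ∃ j ∈ RingHom.ker ρ, D₁ b = Ideal.Quotient.mk _ j) := by
  classical
  set J : Ideal B := RingHom.ker ρ with hJ
  set 𝔠 : Ideal B := J ^ 2 ⊔ I.map (algebraMap R B) with h𝔠
  have hIA₀ : ∀ i ∈ I, algebraMap R A₀ i = 0 := by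
    intro i hi
    rw [IsScalarTower.algebraMap_apply R (R ⧸ I) A₀, Ideal.Quotient.algebraMap_eq,
      Ideal.Quotient.eq_zero_iff_mem.mpr hi, map_zero]
  have hIJ : I.map (algebraMap R B) ≤ J := by
    rw [Ideal.map_le_iff_le_comap]
    intro i hi
    rw [Ideal.mem_comap, hJ, RingHom.mem_ker]
    show ρ (algebraMap R B i) = 0
    rw [ρ.commutes, hIA₀ i hi]
  have h𝔠J : 𝔠 ≤ J := sup_le (Ideal.pow_le_self two_ne_zero) hIJ
  have hI0 : ∀ i ∈ I, algebraMap R (B ⧸ 𝔠) i = 0 := by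
    intro i hi
    rw [IsScalarTower.algebraMap_apply R B (B ⧸ 𝔠), Ideal.Quotient.algebraMap_eq,
      Ideal.Quotient.eq_zero_iff_mem]
    exact le_sup_right (α := Ideal B) (Ideal.mem_map_of_mem _ hi)
  letI algT : Algebra (R ⧸ I) (B ⧸ 𝔠) := (Ideal.Quotient.lift I (algebraMap R (B ⧸ 𝔠)) hI0).toAlgebra
  haveI : IsScalarTower R (R ⧸ I) (B ⧸ 𝔠) := IsScalarTower.of_algebraMap_eq (fun r => rfl)
  let q₀ : (B ⧸ 𝔠) →+* A₀ := Ideal.Quotient.lift 𝔠 ρ.toRingHom (fun x hx => h𝔠J hx)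
  have hq₀ : ∀ b, q₀ (Ideal.Quotient.mk 𝔠 b) = ρ b := fun _ => rfl
  let q : (B ⧸ 𝔠) →ₐ[R ⧸ I] A₀ :=
    { q₀ with
      commutes' := by
        intro r
        obtain ⟨r, rfl⟩ := Ideal.Quotient.mk_surjective r
        show q₀ (algebraMap R (B ⧸ 𝔠) r) = _
        rw [IsScalarTower.algebraMap_apply R B (B ⧸ 𝔠), Ideal.Quotient.algebraMap_eq, hq₀,
          ρ.commutes, IsScalarTower.algebraMap_apply R (R ⧸ I) A₀]
        rfl }
  have hq : ∀ b, q (Ideal.Quotient.mk 𝔠 b) = ρ b := fun _ => rfl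
  have hqsurj : Function.Surjective q := by
    intro a
    obtain ⟨b, rfl⟩ := hρ a
    exact ⟨Ideal.Quotient.mk 𝔠 b, rfl⟩
  have hker : ∀ t ∈ RingHom.ker q, ∃ j ∈ J, t = Ideal.Quotient.mk 𝔠 j := by
    intro t ht
    obtain ⟨b, rfl⟩ := Ideal.Quotient.mk_surjective t
    rw [RingHom.mem_ker, hq] at ht
    exact ⟨b, ht, rfl⟩
  have hker2 : ∀ x ∈ RingHom.ker q, ∀ y ∈ RingHom.ker q, x * y = 0 := by
    intro x hx y hy
    obtain ⟨a, ha, rfl⟩ := hker x hx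
    obtain ⟨b, hb, rfl⟩ := hker y hy
    rw [← map_mul, Ideal.Quotient.eq_zero_iff_mem]
    apply le_sup_left (α := Ideal B)
    rw [pow_two]
    exact Ideal.mul_mem_mul ha hb
  have hK2 : (RingHom.ker q) ^ 2 = ⊥ := by
    rw [pow_two, eq_bot_iff, Ideal.mul_le]
    intro x hx y hy
    rw [Ideal.mem_bot]
    exact hker2 x hx y hy
  let s : A₀ →ₐ[R ⧸ I] (B ⧸ 𝔠) :=
    Algebra.FormallySmooth.liftOfSurjective (AlgHom.id (R ⧸ I) A₀) q hqsurj ⟨2, hK2⟩
  have hs : ∀ a, q (s a) = a := fun a =>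
    congr($(Algebra.FormallySmooth.comp_liftOfSurjective (AlgHom.id (R ⧸ I) A₀) q hqsurj ⟨2, hK2⟩) a)
  have hsR : ∀ r : R, s (algebraMap R A₀ r) = algebraMap R (B ⧸ 𝔠) r := by
    intro r
    rw [IsScalarTower.algebraMap_apply R (R ⧸ I) A₀, s.commutes,
      ← IsScalarTower.algebraMap_apply R (R ⧸ I) (B ⧸ 𝔠)]
  let D₁ : B → (B ⧸ 𝔠) := fun b => Ideal.Quotient.mk 𝔠 b - s (ρ b)
  have hD₁ker : ∀ b, D₁ b ∈ RingHom.ker q := by
    intro b
    rw [RingHom.mem_ker, map_sub, hq, hs, sub_self]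
  have hD₁J : ∀ x ∈ J, D₁ x = Ideal.Quotient.mk 𝔠 x := by
    intro x hx
    have : ρ x = 0 := hx
    show Ideal.Quotient.mk 𝔠 x - s (ρ x) = _
    rw [this, map_zero, sub_zero]
  have hD₁add : ∀ a b, D₁ (a + b) = D₁ a + D₁ b := by
    intro a b
    show Ideal.Quotient.mk 𝔠 (a + b) - s (ρ (a + b)) = (Ideal.Quotient.mk 𝔠 a - s (ρ a)) +
      (Ideal.Quotient.mk 𝔠 b - s (ρ b))
    rw [map_add, map_add, map_add]
    ring
  have hD₁smul : ∀ (r : R) b, D₁ (r • b) = r • D₁ b := by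
    intro r b
    show Ideal.Quotient.mk 𝔠 (r • b) - s (ρ (r • b)) = r • (Ideal.Quotient.mk 𝔠 b - s (ρ b))
    rw [Algebra.smul_def, map_mul, map_mul, ρ.commutes, map_mul, hsR, Algebra.smul_def,
      ← Ideal.Quotient.algebraMap_eq, ← IsScalarTower.algebraMap_apply R B (B ⧸ 𝔠)]
    ring
  have hD₁mul : ∀ a b, D₁ (a * b) = a • D₁ b + b • D₁ a := by
    intro a b
    have h0 := hker2 _ (hD₁ker a) _ (hD₁ker b)
    show Ideal.Quotient.mk 𝔠 (a * b) - s (ρ (a * b)) =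
      a • (Ideal.Quotient.mk 𝔠 b - s (ρ b)) + b • (Ideal.Quotient.mk 𝔠 a - s (ρ a))
    rw [Algebra.smul_def, Algebra.smul_def, Ideal.Quotient.algebraMap_eq, map_mul, map_mul, map_mul]
    have h0' : (Ideal.Quotient.mk 𝔠 a - s (ρ a)) * (Ideal.Quotient.mk 𝔠 b - s (ρ b)) = 0 := h0
    linear_combination (-1 : B ⧸ 𝔠) * h0'
  refine ⟨{ toFun := D₁
            map_add' := hD₁add
            map_smul' := hD₁smul
            map_one_eq_zero' := by
              show Ideal.Quotient.mk 𝔠 1 - s (ρ 1) = 0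
              rw [map_one, map_one, map_one, sub_self]
            leibniz' := hD₁mul }, hD₁J, fun b => hker _ (hD₁ker b)⟩

/-- If moreover `θ : P → J` induces a bijection `P/JP → J/(J² + IB)`, then there is an
`R`-derivation `D₀ : B → P/JP` with `D₀ (θ p) = [p]`. -/
theorem exists_derivation
    {R : Type u} [CommRing R] (I : Ideal R) {B : Type v} [CommRing B] [Algebra R B]
    {A₀ : Type v} [CommRing A₀] [Algebra (R ⧸ I) A₀] [Algebra R A₀] [IsScalarTower R (R ⧸ I) A₀]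
    [Algebra.FormallySmooth (R ⧸ I) A₀]
    (ρ : B →ₐ[R] A₀) (hρ : Function.Surjective ρ)
    {P : Type w} [AddCommGroup P] [Module B P] [Module R P] [IsScalarTower R B P]
    (θ : P →ₗ[B] B) (hθJ : ∀ p, ρ (θ p) = 0)
    (hinj : ∀ p, θ p ∈ (RingHom.ker ρ) ^ 2 ⊔ I.map (algebraMap R B) →
      p ∈ (RingHom.ker ρ) • (⊤ : Submodule B P))
    (hsurj : ∀ x ∈ RingHom.ker ρ, ∃ p, x - θ p ∈ (RingHom.ker ρ) ^ 2 ⊔ I.map (algebraMap R B)) :
    ∃ D₀ : Derivation R B (P ⧸ ((RingHom.ker ρ) • (⊤ : Submodule B P))),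
      ∀ p, D₀ (θ p) = Submodule.Quotient.mk p := by
  classical
  set J : Ideal B := RingHom.ker ρ with hJ
  set 𝔠 : Ideal B := J ^ 2 ⊔ I.map (algebraMap R B) with h𝔠
  obtain ⟨D₁, hD₁J, hD₁ker⟩ : ∃ D₁ : Derivation R B (B ⧸ 𝔠),
      (∀ y ∈ J, D₁ y = Ideal.Quotient.mk 𝔠 y) ∧ (∀ b, ∃ j ∈ J, D₁ b = Ideal.Quotient.mk 𝔠 j) :=
    exists_derT I ρ hρ
  let θ₀ : P →ₗ[B] (B ⧸ 𝔠) := (Algebra.linearMap B (B ⧸ 𝔠)) ∘ₗ θ
  have hθ₀ : ∀ p, θ₀ p = Ideal.Quotient.mk 𝔠 (θ p) := fun _ => rfl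
  have hθ₀le : J • (⊤ : Submodule B P) ≤ LinearMap.ker θ₀ := by
    rw [Submodule.smul_le]
    intro a ha p _
    rw [LinearMap.mem_ker, hθ₀, map_smul, smul_eq_mul, Ideal.Quotient.eq_zero_iff_mem]
    apply le_sup_left (α := Ideal B)
    rw [pow_two]
    exact Ideal.mul_mem_mul ha (hθJ p)
  let θb : (P ⧸ (J • (⊤ : Submodule B P))) →ₗ[B] (B ⧸ 𝔠) := Submodule.liftQ _ θ₀ hθ₀le
  have hθb : ∀ p, θb (Submodule.Quotient.mk p) = Ideal.Quotient.mk 𝔠 (θ p) := fun _ => rfl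
  have hθbinj : Function.Injective θb := by
    rw [← LinearMap.ker_eq_bot, eq_bot_iff]
    intro n hn
    obtain ⟨p, rfl⟩ := Submodule.Quotient.mk_surjective _ n
    rw [LinearMap.mem_ker, hθb, Ideal.Quotient.eq_zero_iff_mem] at hn
    rw [Submodule.mem_bot, Submodule.Quotient.mk_eq_zero]
    exact hinj p hn
  have hθbrange : ∀ b, ∃ n, θb n = D₁ b := by
    intro b
    obtain ⟨j, hj, hjeq⟩ := hD₁ker b
    obtain ⟨p, hp⟩ := hsurj j hj
    refine ⟨Submodule.Quotient.mk p, ?_⟩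
    rw [hθb, hjeq, eq_comm, Ideal.Quotient.eq]
    exact hp
  choose E hE using hθbrange
  refine ⟨{ toFun := E
            map_add' := fun a b => hθbinj (by rw [map_add, hE, hE, hE, map_add])
            map_smul' := fun r b => hθbinj (by
              rw [RingHom.id_apply, hE, Derivation.map_smul, ← hE b]
              exact (LinearMap.map_smul_of_tower θb r (E b)).symm)
            map_one_eq_zero' := hθbinj (by
              show θb (E 1) = θb 0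
              rw [hE, map_zero, Derivation.map_one_eq_zero])
            leibniz' := fun a b => hθbinj (by
              show θb (E (a * b)) = θb (a • E b + b • E a)
              rw [hE, map_add, map_smul, map_smul, hE, hE, Derivation.leibniz]) }, ?_⟩
  intro p
  apply hθbinj
  show θb (E (θ p)) = _
  rw [hE, hθb, hD₁J _ (hθJ p)]

end Groth.Agent.Helper8.SmLiftC
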