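import Mathlib
import Groth.Agent.Helper8.SmLiftB
import Groth.Agent.Helper8.SmLiftC
set_option autoImplicit false
universe u

namespace Groth.Agent.Helper8.SmLiftD

/-- Assembling: a smooth `R`-algebra `B` with a surjection onto `A₀` (smooth over `R/I`) with
kernel `J`, and `θ : P → J` from a finite module inducing a bijection `P/JP → J/(J²+IB)`, give a
smooth `R`-algebra lifting `A₀`. -/
theorem exists_smooth_lift_of_data
    {R : Type u} [CommRing R] (I : Ideal R) {B : Type u} [CommRing B] [Algebra R B]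
    [Algebra.Smooth R B]
    {A₀ : Type u} [CommRing A₀] [Algebra (R ⧸ I) A₀] [Algebra R A₀] [IsScalarTower R (R ⧸ I) A₀]
    [Algebra.FormallySmooth (R ⧸ I) A₀]
    (ρ : B →ₐ[R] A₀) (hρ : Function.Surjective ρ)
    (hfg : ∃ s : Finset B, RingHom.ker ρ = Ideal.span (s : Set B) ⊔ I.map (algebraMap R B))
    {P : Type u} [AddCommGroup P] [Module B P] [Module.Finite B P]
    (θ : P →ₗ[B] B) (hθJ : ∀ p, ρ (θ p) = 0)
    (hinj : ∀ p, θ p ∈ (RingHom.ker ρ) ^ 2 ⊔ I.map (algebraMap R B) →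
      p ∈ (RingHom.ker ρ) • (⊤ : Submodule B P))
    (hsurj : ∀ x ∈ RingHom.ker ρ, ∃ p, x - θ p ∈ (RingHom.ker ρ) ^ 2 ⊔ I.map (algebraMap R B)) :
    ∃ (A : Type u) (_ : CommRing A) (_ : Algebra R A), Algebra.Smooth R A ∧
      Nonempty ((A ⧸ I.map (algebraMap R A)) ≃ₐ[R ⧸ I] A₀) := by
  classical
  letI : Module R P := Module.compHom P (algebraMap R B)
  haveI : IsScalarTower R B P := IsScalarTower.of_algebraMap_smul (fun r m => rfl)
  set J := RingHom.ker ρ with hJ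
  let 𝔞 : Ideal B := LinearMap.range θ
  have h𝔞 : ∀ p, θ p ∈ 𝔞 := fun p => LinearMap.mem_range_self θ p
  have h𝔞' : ∀ x ∈ 𝔞, ∃ p, θ p = x := fun x hx => hx
  have h𝔞J : 𝔞 ≤ J := by
    rintro _ ⟨p, rfl⟩
    exact hθJ p
  have hIA₀ : ∀ i ∈ I, algebraMap R A₀ i = 0 := by
    intro i hi
    rw [IsScalarTower.algebraMap_apply R (R ⧸ I) A₀, Ideal.Quotient.algebraMap_eq,
      Ideal.Quotient.eq_zero_iff_mem.mpr hi, map_zero]
  have hIJ : I.map (algebraMap R B) ≤ J := by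
    rw [Ideal.map_le_iff_le_comap]
    intro i hi
    rw [Ideal.mem_comap, hJ, RingHom.mem_ker]
    show ρ (algebraMap R B i) = 0
    rw [ρ.commutes, hIA₀ i hi]
  obtain ⟨D₀, hD₀⟩ := SmLiftC.exists_derivation I ρ hρ θ hθJ hinj hsurj
  obtain ⟨g₁, hg₁, hsm⟩ := SmLiftB.exists_formallySmooth_away θ 𝔞 h𝔞 h𝔞' J h𝔞J D₀ hD₀
  -- Nakayama
  obtain ⟨g₂, hg₂, hg₂J⟩ : ∃ g₂ : B, g₂ - 1 ∈ J ∧
      ∀ x ∈ J, g₂ * x ∈ 𝔞 ⊔ I.map (algebraMap R B) := by
    obtain ⟨s, hs⟩ := hfg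
    set 𝔟 : Ideal B := 𝔞 ⊔ I.map (algebraMap R B) with h𝔟
    have h𝔟J : 𝔟 ≤ J := sup_le h𝔞J hIJ
    set 𝔧 : Ideal (B ⧸ 𝔟) := J.map (Ideal.Quotient.mk 𝔟) with h𝔧
    have h𝔧fg : (𝔧 : Submodule (B ⧸ 𝔟) (B ⧸ 𝔟)).FG := by
      have h1 : 𝔧 = Ideal.span ((Ideal.Quotient.mk 𝔟) '' (s : Set B)) := by
        rw [h𝔧, hs, Ideal.map_sup, Ideal.map_span]
        have h2 : (I.map (algebraMap R B)).map (Ideal.Quotient.mk 𝔟) = ⊥ := by
          rw [eq_bot_iff, Ideal.map_le_iff_le_comap]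
          intro x hx
          rw [Ideal.mem_comap, Ideal.mem_bot, Ideal.Quotient.eq_zero_iff_mem]
          exact le_sup_right (α := Ideal B) hx
        rw [h2, sup_bot_eq]
      rw [h1]
      exact ⟨s.image (Ideal.Quotient.mk 𝔟), by rw [Finset.coe_image]⟩
    have h𝔧le : 𝔧 ≤ 𝔧 • 𝔧 := by
      rw [h𝔧, Ideal.map_le_iff_le_comap]
      intro x hx
      obtain ⟨p, hp⟩ := hsurj x hx
      rw [Ideal.mem_comap]
      have h1 : Ideal.Quotient.mk 𝔟 x = Ideal.Quotient.mk 𝔟 (x - θ p) := by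
        rw [map_sub, Ideal.Quotient.eq_zero_iff_mem.mpr (le_sup_left (α := Ideal B) (h𝔞 p)),
          sub_zero]
      rw [h1, smul_eq_mul, ← Ideal.map_mul, ← pow_two]
      have h2 : x - θ p ∈ J ^ 2 ⊔ 𝔟 :=
        (sup_le_sup_left (le_sup_right : I.map (algebraMap R B) ≤ 𝔟) (J ^ 2)) hp
      obtain ⟨y, hy, z, hz, hyz⟩ := Submodule.mem_sup.mp h2
      rw [← hyz, map_add, Ideal.Quotient.eq_zero_iff_mem.mpr hz, add_zero]
      exact Ideal.mem_map_of_mem _ hy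
    obtain ⟨r, hr1, hr2⟩ :=
      Submodule.exists_sub_one_mem_and_smul_eq_zero_of_fg_of_le_smul 𝔧 𝔧 h𝔧fg h𝔧le
    obtain ⟨g₂, rfl⟩ := Ideal.Quotient.mk_surjective r
    refine ⟨g₂, ?_, ?_⟩
    · have h3 : Ideal.Quotient.mk 𝔟 (g₂ - 1) ∈ J.map (Ideal.Quotient.mk 𝔟) := by
        rwa [map_sub, map_one]
      rw [Ideal.mem_map_iff_of_surjective _ Ideal.Quotient.mk_surjective] at h3
      obtain ⟨j, hj, hjeq⟩ := h3
      have h4 : j - (g₂ - 1) ∈ 𝔟 := Ideal.Quotient.eq.mp hjeq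
      have h5 : g₂ - 1 = j - (j - (g₂ - 1)) := by ring
      rw [h5]
      exact J.sub_mem hj (h𝔟J h4)
    · intro x hx
      have h6 := hr2 (Ideal.Quotient.mk 𝔟 x) (Ideal.mem_map_of_mem _ hx)
      rw [smul_eq_mul, ← map_mul, Ideal.Quotient.eq_zero_iff_mem] at h6
      exact h6
  set g := g₁ * g₂ with hg
  have h𝔞fg : 𝔞.FG := by
    have h1 := (Module.Finite.fg_top (R := B) (M := P)).map θ
    rwa [Submodule.map_top] at h1
  haveI : Algebra.FinitePresentation R (B ⧸ 𝔞) := Algebra.FinitePresentation.quotient h𝔞fg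
  haveI : Algebra.FormallySmooth R (Localization.Away (Ideal.Quotient.mk 𝔞 g)) := hsm g₂
  haveI : Algebra.Smooth R (Localization.Away (Ideal.Quotient.mk 𝔞 g)) := ⟨inferInstance, inferInstance⟩
  -- the map to A₀
  let ρb : (B ⧸ 𝔞) →ₐ[R] A₀ := Ideal.Quotient.liftₐ 𝔞 ρ (fun x hx => h𝔞J hx)
  have hρb : ∀ b, ρb (Ideal.Quotient.mk 𝔞 b) = ρ b := fun _ => rfl
  have hρ1 : ∀ x, x - 1 ∈ J → ρ x = 1 := by
    intro x hx
    have h1 : ρ (x - 1) = 0 := hx
    rwa [map_sub, map_one, sub_eq_zero] at h1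
  have hρg : ρ g = 1 := by rw [hg, map_mul, hρ1 _ hg₁, hρ1 _ hg₂, one_mul]
  have hunit : ∀ y : Submonoid.powers (Ideal.Quotient.mk 𝔞 g), IsUnit (ρb y) := by
    rintro ⟨_, n, rfl⟩
    show IsUnit (ρb ((Ideal.Quotient.mk 𝔞 g) ^ n))
    rw [map_pow, hρb, hρg, one_pow]
    exact isUnit_one
  let Φ : Localization.Away (Ideal.Quotient.mk 𝔞 g) →ₐ[R] A₀ :=
    IsLocalization.liftAlgHom (M := Submonoid.powers (Ideal.Quotient.mk 𝔞 g)) hunit
  let ι : B →+* Localization.Away (Ideal.Quotient.mk 𝔞 g) :=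
    (algebraMap (B ⧸ 𝔞) (Localization.Away (Ideal.Quotient.mk 𝔞 g))).comp (Ideal.Quotient.mk 𝔞)
  have hΦ : ∀ b, Φ (ι b) = ρ b := fun b => IsLocalization.lift_eq _ _
  have hΦsurj : Function.Surjective Φ := fun a => by
    obtain ⟨b, rfl⟩ := hρ a
    exact ⟨_, hΦ b⟩
  have hιR : ι.comp (algebraMap R B) = algebraMap R (Localization.Away (Ideal.Quotient.mk 𝔞 g)) := by
    ext r
    show algebraMap (B ⧸ 𝔞) _ (Ideal.Quotient.mk 𝔞 (algebraMap R B r)) = _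
    rw [← Ideal.Quotient.algebraMap_eq, ← IsScalarTower.algebraMap_apply R B (B ⧸ 𝔞),
      ← IsScalarTower.algebraMap_apply R (B ⧸ 𝔞)]
  have hιI : ∀ z ∈ I.map (algebraMap R B),
      ι z ∈ I.map (algebraMap R (Localization.Away (Ideal.Quotient.mk 𝔞 g))) := by
    intro z hz
    rw [← hιR, ← Ideal.map_map]
    exact Ideal.mem_map_of_mem _ hz
  have hι𝔞 : ∀ a ∈ 𝔞, ι a = 0 := by
    intro a ha
    show algebraMap (B ⧸ 𝔞) _ (Ideal.Quotient.mk 𝔞 a) = 0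
    rw [Ideal.Quotient.eq_zero_iff_mem.mpr ha, map_zero]
  have hιg : IsUnit (ι g) :=
    IsLocalization.map_units (Localization.Away (Ideal.Quotient.mk 𝔞 g))
      (⟨Ideal.Quotient.mk 𝔞 g, Submonoid.mem_powers _⟩ : Submonoid.powers (Ideal.Quotient.mk 𝔞 g))
  have hιg₂ : IsUnit (ι g₂) := by
    have h7 : ι g = ι g₁ * ι g₂ := map_mul ι g₁ g₂
    rw [h7] at hιg
    exact isUnit_of_mul_isUnit_right hιg
  let Φr : Localization.Away (Ideal.Quotient.mk 𝔞 g) →+* A₀ := Φ.toRingHom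
  have hΦr : ∀ x, Φr x = Φ x := fun _ => rfl
  have hΦrsurj : Function.Surjective Φr := hΦsurj
  have hker : RingHom.ker Φr = I.map (algebraMap R (Localization.Away (Ideal.Quotient.mk 𝔞 g))) := by
    apply le_antisymm
    · intro x hx
      obtain ⟨y, s, rfl⟩ :=
        IsLocalization.exists_mk'_eq (Submonoid.powers (Ideal.Quotient.mk 𝔞 g)) x
      obtain ⟨b, rfl⟩ := Ideal.Quotient.mk_surjective y
      have hσ : IsUnit (algebraMap (B ⧸ 𝔞) (Localization.Away (Ideal.Quotient.mk 𝔞 g)) s) :=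
        IsLocalization.map_units _ s
      have hspec : IsLocalization.mk' (Localization.Away (Ideal.Quotient.mk 𝔞 g))
          (Ideal.Quotient.mk 𝔞 b) s * algebraMap (B ⧸ 𝔞) _ s = ι b :=
        IsLocalization.mk'_spec _ _ _
      have hb : b ∈ J := by
        rw [hJ, RingHom.mem_ker, ← hΦ, ← hspec, map_mul]
        rw [RingHom.mem_ker, hΦr] at hx
        have hx' : Φ (IsLocalization.mk' (Localization.Away (Ideal.Quotient.mk 𝔞 g))
          (Ideal.Quotient.mk 𝔞 b) s) = 0 := hx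
        rw [hx', zero_mul]
      obtain ⟨a, ha, z, hz, haz⟩ := Submodule.mem_sup.mp (hg₂J b hb)
      have h1 : ι g₂ * ι b ∈ I.map (algebraMap R (Localization.Away (Ideal.Quotient.mk 𝔞 g))) := by
        rw [← map_mul, ← haz, map_add, hι𝔞 a ha, zero_add]
        exact hιI z hz
      obtain ⟨v, hv⟩ := hιg₂
      obtain ⟨w, hw⟩ := hσ
      have h2 : IsLocalization.mk' (Localization.Away (Ideal.Quotient.mk 𝔞 g))
          (Ideal.Quotient.mk 𝔞 b) s = (↑w⁻¹ * ↑v⁻¹) * (ι g₂ * ι b) := by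
        rw [← hspec, ← hv, ← hw]
        have e1 : (↑v⁻¹ : Localization.Away (Ideal.Quotient.mk 𝔞 g)) * ↑v = 1 := Units.inv_mul v
        have e2 : (↑w⁻¹ : Localization.Away (Ideal.Quotient.mk 𝔞 g)) * ↑w = 1 := Units.inv_mul w
        linear_combination (-(IsLocalization.mk' (Localization.Away (Ideal.Quotient.mk 𝔞 g))
          (Ideal.Quotient.mk 𝔞 b) s) * (↑w⁻¹ * ↑w)) * e1 -
          (IsLocalization.mk' (Localization.Away (Ideal.Quotient.mk 𝔞 g))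
          (Ideal.Quotient.mk 𝔞 b) s) * e2
      rw [h2]
      exact Ideal.mul_mem_left _ _ h1
    · rw [Ideal.map_le_iff_le_comap]
      intro i hi
      rw [Ideal.mem_comap, RingHom.mem_ker, hΦr]
      show Φ (algebraMap R _ i) = 0
      rw [Φ.commutes, hIA₀ i hi]
  let e₁ : (Localization.Away (Ideal.Quotient.mk 𝔞 g) ⧸
      I.map (algebraMap R (Localization.Away (Ideal.Quotient.mk 𝔞 g)))) ≃+* A₀ :=
    (Ideal.quotEquivOfEq hker.symm).trans (RingHom.quotientKerEquivOfSurjective hΦrsurj)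
  refine ⟨Localization.Away (Ideal.Quotient.mk 𝔞 g), inferInstance, inferInstance, inferInstance,
    ⟨AlgEquiv.ofRingEquiv (f := e₁) ?_⟩⟩
  intro r
  obtain ⟨r, rfl⟩ := Ideal.Quotient.mk_surjective r
  show e₁ (Ideal.Quotient.mk _ (algebraMap R _ r)) = _
  show (RingHom.quotientKerEquivOfSurjective hΦrsurj) ((Ideal.quotEquivOfEq hker.symm)
    (Ideal.Quotient.mk _ (algebraMap R _ r))) = _
  rw [Ideal.quotEquivOfEq_mk]
  rw [RingHom.quotientKerEquivOfSurjective_apply_mk, hΦr]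
  show Φ (algebraMap R _ r) = _
  rw [Φ.commutes, IsScalarTower.algebraMap_apply R (R ⧸ I) A₀]
  rfl

end Groth.Agent.Helper8.SmLiftD
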