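import Mathlib
set_option autoImplicit false
universe u v

namespace Groth.Agent.Helper8.SmLiftE

open scoped BigOperators

/-- Contraction of extended ideals along a flat map which is an isomorphism modulo `J`, for ideals
between `J²` and `J`. -/
theorem mem_of_map_mem {B : Type u} {B' : Type v} [CommRing B] [CommRing B'] [Algebra B B']
    [Module.Flat B B']
    (J 𝔠 : Ideal B) (h1 : J * J ≤ 𝔠) (h2 : 𝔠 ≤ J)
    (hinj : ∀ b : B, algebraMap B B' b ∈ J.map (algebraMap B B') → b ∈ J)
    (hsurj : ∀ b' : B', ∃ b : B, algebraMap B B' b - b' ∈ J.map (algebraMap B B'))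
    (y : B) (hy : algebraMap B B' y ∈ 𝔠.map (algebraMap B B')) : y ∈ 𝔠 := by
  classical
  have hyJ : y ∈ J := hinj y (Ideal.map_mono h2 hy)
  have hy' : algebraMap B B' y ∈ Submodule.span B' ((algebraMap B B') '' (𝔠 : Set B)) := hy
  obtain ⟨n, β, γ, hsum⟩ := Submodule.mem_span_set'.mp hy'
  choose c hc hcγ using fun i => (γ i).2
  let f : Option (Fin n) → B := fun o => o.elim y (fun i => - c i)
  let x : Option (Fin n) → B' := fun o => o.elim 1 β
  have hrel : ∑ o, f o • x o = 0 := by
    rw [Fintype.sum_option]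
    show y • (1 : B') + ∑ i, (- c i) • β i = 0
    rw [Algebra.smul_def, mul_one, ← hsum]
    rw [← Finset.sum_add_distrib]
    refine Finset.sum_eq_zero fun i _ => ?_
    rw [smul_eq_mul, Algebra.smul_def (- c i), map_neg, hcγ i]
    ring
  obtain ⟨k, a, z, hx, hfa⟩ := Module.Flat.isTrivialRelation_of_sum_smul_eq_zero
    (R := B) (M := B') (f := f) (x := x) hrel
  have h1z : (1 : B') = ∑ j, algebraMap B B' (a none j) * z j := by
    have := hx none
    simpa [x, Algebra.smul_def] using this
  have hya : ∀ j, y * a none j ∈ 𝔠 := by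
    intro j
    have h3 := hfa j
    rw [Fintype.sum_option] at h3
    have h4 : y * a none j = ∑ i, c i * a (some i) j := by
      have h5 : y * a none j + ∑ i, (- c i) * a (some i) j = 0 := h3
      have h8 : ∑ i, (- c i) * a (some i) j = - ∑ i, c i * a (some i) j := by
        rw [← Finset.sum_neg_distrib]
        exact Finset.sum_congr rfl fun i _ => neg_mul _ _
      rw [h8] at h5
      linear_combination h5
    rw [h4]
    exact Ideal.sum_mem _ fun i _ => Ideal.mul_mem_right _ _ (hc i)
  choose ζ hζ using fun j => hsurj (z j)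
  set u : B := ∑ j, a none j * ζ j with hu
  have hu1 : u - 1 ∈ J := by
    apply hinj
    have h6 : algebraMap B B' (u - 1) =
        ∑ j, algebraMap B B' (a none j) * (algebraMap B B' (ζ j) - z j) := by
      rw [map_sub, map_one, h1z, hu, map_sum, ← Finset.sum_sub_distrib]
      refine Finset.sum_congr rfl fun j _ => ?_
      rw [map_mul]
      ring
    rw [h6]
    exact Ideal.sum_mem _ fun j _ => Ideal.mul_mem_left _ _ (hζ j)
  have h7 : y = y * u - y * (u - 1) := by ring
  rw [h7]
  refine 𝔠.sub_mem ?_ (h1 (Ideal.mul_mem_mul hyJ hu1))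
  rw [hu, Finset.mul_sum]
  refine Ideal.sum_mem _ fun j _ => ?_
  rw [← mul_assoc]
  exact Ideal.mul_mem_right _ _ (hya j)

end Groth.Agent.Helper8.SmLiftE
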