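import Mathlib
import Groth.Agent.Helper8.SmLiftC
set_option autoImplicit false
universe u v

namespace Groth.Agent.Helper8.SmLiftF

open MvPolynomial

/-- Chain rule for derivations on polynomial rings in finitely many variables. -/
theorem derivation_eq_sum_pderiv {R : Type u} [CommRing R] {n : ℕ} {N : Type v} [AddCommGroup N]
    [Module R N] [Module (MvPolynomial (Fin n) R) N] [IsScalarTower R (MvPolynomial (Fin n) R) N]
    (D : Derivation R (MvPolynomial (Fin n) R) N) (y : MvPolynomial (Fin n) R) :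
    D y = ∑ k, pderiv k y • D (X k) := by
  have h2 : KaehlerDifferential.D R (MvPolynomial (Fin n) R) y =
      ∑ k, pderiv k y • KaehlerDifferential.D R (MvPolynomial (Fin n) R) (X k) := by
    conv_lhs => rw [← (KaehlerDifferential.mvPolynomialBasis R (Fin n)).sum_repr
      (KaehlerDifferential.D R (MvPolynomial (Fin n) R) y)]
    refine Finset.sum_congr rfl fun k _ => ?_
    rw [KaehlerDifferential.mvPolynomialBasis_repr_apply, KaehlerDifferential.mvPolynomialBasis_apply]
  rw [← Derivation.liftKaehlerDifferential_comp_D D y, h2, map_sum]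
  refine Finset.sum_congr rfl fun k _ => ?_
  rw [map_smul, Derivation.liftKaehlerDifferential_comp_D]

theorem exists_coords {R : Type u} [CommRing R] (I : Ideal R) (n : ℕ)
    {A₀ : Type u} [CommRing A₀] [Algebra (R ⧸ I) A₀] [Algebra R A₀] [IsScalarTower R (R ⧸ I) A₀]
    [Algebra.FormallySmooth (R ⧸ I) A₀]
    (ρ : MvPolynomial (Fin n) R →ₐ[R] A₀) (hρ : Function.Surjective ρ) :
    ∃ x : Fin n → MvPolynomial (Fin n) R, (∀ k, x k ∈ RingHom.ker ρ) ∧
      ∀ y ∈ RingHom.ker ρ, y - ∑ k, pderiv k y * x k ∈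
        (RingHom.ker ρ) ^ 2 ⊔ I.map (algebraMap R (MvPolynomial (Fin n) R)) := by
  obtain ⟨D₁, hD₁J, hD₁ker⟩ := SmLiftC.exists_derT I ρ hρ
  choose x hxJ hx using fun k => hD₁ker (X k)
  refine ⟨x, hxJ, fun y hy => ?_⟩
  rw [← Ideal.Quotient.eq_zero_iff_mem, map_sub, ← hD₁J y hy, derivation_eq_sum_pderiv D₁ y,
    map_sum, sub_eq_zero]
  refine Finset.sum_congr rfl fun k _ => ?_
  rw [hx k, map_mul, Algebra.smul_def, Ideal.Quotient.algebraMap_eq]

theorem pderiv_mem {R : Type u} [CommRing R] (I : Ideal R) {n : ℕ}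
    (J : Ideal (MvPolynomial (Fin n) R))
    (hIJ : I.map (algebraMap R (MvPolynomial (Fin n) R)) ≤ J) (k : Fin n)
    (c : MvPolynomial (Fin n) R)
    (hc : c ∈ J ^ 2 ⊔ I.map (algebraMap R (MvPolynomial (Fin n) R))) : pderiv k c ∈ J := by
  obtain ⟨u, hu, v, hv, rfl⟩ := Submodule.mem_sup.mp hc
  rw [map_add]
  apply J.add_mem
  · rw [pow_two] at hu
    refine Submodule.mul_induction_on hu (fun a ha b hb => ?_) (fun a b ha hb => ?_)
    · rw [pderiv_mul]
      exact J.add_mem (Ideal.mul_mem_left _ _ hb) (Ideal.mul_mem_right _ _ ha)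
    · rw [map_add]
      exact J.add_mem ha hb
  · have hv' : v ∈ Submodule.span (MvPolynomial (Fin n) R)
        ((algebraMap R (MvPolynomial (Fin n) R)) '' (I : Set R)) := hv
    refine Submodule.span_induction (p := fun z _ => pderiv k z ∈ J) ?_ ?_ ?_ ?_ hv'
    · rintro _ ⟨i, -, rfl⟩
      rw [MvPolynomial.algebraMap_eq, pderiv_C]
      exact J.zero_mem
    · rw [map_zero]
      exact J.zero_mem
    · intro a b _ _ ha hb
      rw [map_add]
      exact J.add_mem ha hb
    · intro a z hz hpz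
      rw [smul_eq_mul, pderiv_mul]
      exact J.add_mem (Ideal.mul_mem_left _ _ (hIJ hz)) (Ideal.mul_mem_left _ _ hpz)

theorem coords_props {R : Type u} [CommRing R] (I : Ideal R) {n : ℕ}
    (J : Ideal (MvPolynomial (Fin n) R))
    (hIJ : I.map (algebraMap R (MvPolynomial (Fin n) R)) ≤ J)
    (x : Fin n → MvPolynomial (Fin n) R) (hxJ : ∀ k, x k ∈ J)
    (hK1 : ∀ y ∈ J, y - ∑ k, pderiv k y * x k ∈
      J ^ 2 ⊔ I.map (algebraMap R (MvPolynomial (Fin n) R)))
    (a : Matrix (Fin n) (Fin n) (MvPolynomial (Fin n) R)) (ha : ∀ k l, a k l = pderiv k (x l)) :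
    (∀ k l, (a * a - a) k l ∈ J) ∧
    (∀ l, x l - ∑ k, a k l * x k ∈ J ^ 2 ⊔ I.map (algebraMap R (MvPolynomial (Fin n) R))) ∧
    (∀ w : Fin n → MvPolynomial (Fin n) R, (∀ k, w k - ∑ l, a k l * w l ∈ J) →
      ∑ k, w k * x k ∈ J ^ 2 ⊔ I.map (algebraMap R (MvPolynomial (Fin n) R)) → ∀ k, w k ∈ J) ∧
    (J ≤ Ideal.span (Set.range x) ⊔ (J ^ 2 ⊔ I.map (algebraMap R (MvPolynomial (Fin n) R)))) := by
  refine ⟨fun k l => ?_, fun l => ?_, fun w hw1 hw2 k => ?_, fun y hy => ?_⟩
  · have h1 := pderiv_mem I J hIJ k _ (hK1 (x l) (hxJ l))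
    rw [map_sub, map_sum] at h1
    simp only [pderiv_mul] at h1
    rw [Finset.sum_add_distrib] at h1
    have h2 : ∑ i, pderiv k (pderiv i (x l)) * x i ∈ J :=
      Ideal.sum_mem _ fun i _ => Ideal.mul_mem_left _ _ (hxJ i)
    have e : (a * a - a) k l = -(pderiv k (x l) - (∑ i, pderiv k (pderiv i (x l)) * x i +
        ∑ i, pderiv i (x l) * pderiv k (x i))) - ∑ i, pderiv k (pderiv i (x l)) * x i := by
      rw [Matrix.sub_apply, Matrix.mul_apply, ha k l]
      have e1 : ∑ i, a k i * a i l = ∑ i, pderiv i (x l) * pderiv k (x i) :=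
        Finset.sum_congr rfl fun i _ => by rw [ha, ha, mul_comm]
      rw [e1]
      ring
    rw [e]
    exact J.sub_mem (J.neg_mem h1) h2
  · have h1 := hK1 (x l) (hxJ l)
    have e : ∑ k, a k l * x k = ∑ k, pderiv k (x l) * x k :=
      Finset.sum_congr rfl fun k _ => by rw [ha]
    rw [e]
    exact h1
  · have h1 := pderiv_mem I J hIJ k _ hw2
    rw [map_sum] at h1
    simp only [pderiv_mul] at h1
    rw [Finset.sum_add_distrib] at h1
    have h2 : ∑ l, pderiv k (w l) * x l ∈ J :=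
      Ideal.sum_mem _ fun l _ => Ideal.mul_mem_left _ _ (hxJ l)
    have h3 : ∑ l, a k l * w l ∈ J := by
      have e : ∑ l, a k l * w l = (∑ l, pderiv k (w l) * x l + ∑ l, w l * pderiv k (x l)) -
          ∑ l, pderiv k (w l) * x l := by
        have e1 : ∑ l, a k l * w l = ∑ l, w l * pderiv k (x l) :=
          Finset.sum_congr rfl fun l _ => by rw [ha, mul_comm]
        rw [e1]
        ring
      rw [e]
      exact J.sub_mem h1 h2
    have e2 : w k = (w k - ∑ l, a k l * w l) + ∑ l, a k l * w l := by ring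
    rw [e2]
    exact J.add_mem (hw1 k) h3
  · have h1 := hK1 y hy
    have e : y = ∑ k, pderiv k y * x k + (y - ∑ k, pderiv k y * x k) := by ring
    rw [e]
    refine Submodule.add_mem_sup ?_ h1
    exact Ideal.sum_mem _ fun k _ => Ideal.mul_mem_left _ _ (Ideal.subset_span ⟨k, rfl⟩)

end Groth.Agent.Helper8.SmLiftF
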