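import Mathlib
import Groth.Agent.Helper8.SmLiftD
import Groth.Agent.Helper8.SmLiftE
import Groth.Agent.Helper8.SmLiftF
import Groth.Agent.Helper3.EtProj
set_option autoImplicit false
universe u

namespace Groth.Agent.Helper8.SmLiftG

open MvPolynomial

/-- Smooth algebras lift along any surjection `R → R/I`. -/
theorem main {R A₀ : Type u} [CommRing R] (I : Ideal R) [CommRing A₀]
    [Algebra (R ⧸ I) A₀] [Algebra.Smooth (R ⧸ I) A₀] :
    ∃ (A : Type u) (_ : CommRing A) (_ : Algebra R A), Algebra.Smooth R A ∧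
      Nonempty ((A ⧸ I.map (algebraMap R A)) ≃ₐ[R ⧸ I] A₀) := by
  classical
  letI : Algebra R A₀ := ((algebraMap (R ⧸ I) A₀).comp (Ideal.Quotient.mk I)).toAlgebra
  haveI : IsScalarTower R (R ⧸ I) A₀ := IsScalarTower.of_algebraMap_eq (fun r => rfl)
  obtain ⟨n, π₀, hπ₀surj, hπ₀fg⟩ := Algebra.FinitePresentation.out (R := R ⧸ I) (A := A₀)
  let m : MvPolynomial (Fin n) R →+* MvPolynomial (Fin n) (R ⧸ I) :=
    MvPolynomial.map (Ideal.Quotient.mk I)
  have hmsurj : Function.Surjective m := MvPolynomial.map_surjective _ Ideal.Quotient.mk_surjective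
  let ρ : MvPolynomial (Fin n) R →ₐ[R] A₀ :=
    { (π₀.toRingHom.comp m) with
      commutes' := fun r => by
        show π₀ (MvPolynomial.map (Ideal.Quotient.mk I) (MvPolynomial.C r)) = _
        rw [MvPolynomial.map_C]
        exact π₀.commutes (Ideal.Quotient.mk I r) }
  have hρm : ∀ b, ρ b = π₀ (m b) := fun _ => rfl
  have hρsurj : Function.Surjective ρ := by
    intro a
    obtain ⟨b₀, rfl⟩ := hπ₀surj a
    obtain ⟨b, rfl⟩ := hmsurj b₀
    exact ⟨b, rfl⟩
  set J : Ideal (MvPolynomial (Fin n) R) := RingHom.ker ρ with hJ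
  have hIA₀ : ∀ i ∈ I, algebraMap R A₀ i = 0 := by
    intro i hi
    rw [IsScalarTower.algebraMap_apply R (R ⧸ I) A₀, Ideal.Quotient.algebraMap_eq,
      Ideal.Quotient.eq_zero_iff_mem.mpr hi, map_zero]
  have hIJ : I.map (algebraMap R (MvPolynomial (Fin n) R)) ≤ J := by
    rw [Ideal.map_le_iff_le_comap]
    intro i hi
    rw [Ideal.mem_comap, hJ, RingHom.mem_ker]
    show ρ (algebraMap R _ i) = 0
    rw [ρ.commutes, hIA₀ i hi]
  -- finite generation of J modulo I
  have hfgB : ∃ s : Finset (MvPolynomial (Fin n) R),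
      J = Ideal.span (s : Set (MvPolynomial (Fin n) R)) ⊔
        I.map (algebraMap R (MvPolynomial (Fin n) R)) := by
    obtain ⟨t, ht⟩ := hπ₀fg
    have hmsurj' := hmsurj
    choose lift hlift using hmsurj'
    refine ⟨t.image lift, ?_⟩
    have h1 : (Ideal.span ((t.image lift : Finset _) : Set (MvPolynomial (Fin n) R))).map m =
        RingHom.ker π₀.toRingHom := by
      rw [Ideal.map_span, ← ht, Finset.coe_image, ← Set.image_comp]
      congr 1
      ext z
      simp [hlift]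
    have h2 : J = Ideal.comap m (RingHom.ker π₀.toRingHom) := by
      rw [RingHom.comap_ker]
      rfl
    rw [h2, ← h1, Ideal.comap_map_of_surjective m hmsurj]
    congr 1
    have h3 : Ideal.comap m ⊥ = RingHom.ker m := rfl
    rw [h3, MvPolynomial.ker_map, Ideal.mk_ker]
    rfl
  -- coordinates
  obtain ⟨x, hxJ, hK1⟩ := SmLiftF.exists_coords I n ρ hρsurj
  let a : Matrix (Fin n) (Fin n) (MvPolynomial (Fin n) R) := fun k l => pderiv k (x l)
  obtain ⟨hC1, hC2, hC3, hC4⟩ := SmLiftF.coords_props I J hIJ x hxJ hK1 a (fun _ _ => rfl)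
  set 𝔠 : Ideal (MvPolynomial (Fin n) R) :=
    J ^ 2 ⊔ I.map (algebraMap R (MvPolynomial (Fin n) R)) with h𝔠
  have h𝔠J : 𝔠 ≤ J := sup_le (Ideal.pow_le_self two_ne_zero) hIJ
  -- étale neighbourhood
  obtain ⟨B', _, _, hBet, hbij, E, hEE, hEa⟩ :=
    Groth.Agent.Helper3.EtProj.matrix_idem_etale J n a hC1
  let φ : MvPolynomial (Fin n) R →+* B' := algebraMap (MvPolynomial (Fin n) R) B'
  set J' : Ideal B' := J.map φ with hJ'
  letI : Algebra R B' := (φ.comp (algebraMap R (MvPolynomial (Fin n) R))).toAlgebra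
  haveI : IsScalarTower R (MvPolynomial (Fin n) R) B' := IsScalarTower.of_algebraMap_eq (fun r => rfl)
  haveI : Algebra.Smooth R (MvPolynomial (Fin n) R) := ⟨inferInstance, inferInstance⟩
  haveI : Algebra.Smooth R B' := Algebra.Smooth.comp R (MvPolynomial (Fin n) R) B'
  have hinjφ : ∀ b, φ b ∈ J' → b ∈ J := by
    intro b hb
    rw [← Ideal.Quotient.eq_zero_iff_mem]
    apply hbij.1
    rw [map_zero]
    show Ideal.Quotient.mk J' (φ b) = 0
    exact Ideal.Quotient.eq_zero_iff_mem.mpr hb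
  have hsurjφ : ∀ b' : B', ∃ b, φ b - b' ∈ J' := by
    intro b'
    obtain ⟨y, hy⟩ := hbij.2 (Ideal.Quotient.mk J' b')
    obtain ⟨b, rfl⟩ := Ideal.Quotient.mk_surjective y
    refine ⟨b, ?_⟩
    rw [← Ideal.Quotient.eq]
    exact hy
  -- the map ρ'
  let e₁ : (MvPolynomial (Fin n) R ⧸ J) ≃+* (B' ⧸ J') := RingEquiv.ofBijective _ hbij
  have he₁ : ∀ b, e₁ (Ideal.Quotient.mk J b) = Ideal.Quotient.mk J' (φ b) := fun _ => rfl
  let ρr : MvPolynomial (Fin n) R →+* A₀ := ρ.toRingHom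
  have hρrsurj : Function.Surjective ρr := hρsurj
  let e₂ : (MvPolynomial (Fin n) R ⧸ J) ≃+* A₀ := RingHom.quotientKerEquivOfSurjective hρrsurj
  have he₂ : ∀ b, e₂ (Ideal.Quotient.mk J b) = ρ b := fun b =>
    RingHom.quotientKerEquivOfSurjective_apply_mk hρrsurj b
  let ρ'₀ : B' →+* A₀ :=
    e₂.toRingHom.comp (e₁.symm.toRingHom.comp (Ideal.Quotient.mk J'))
  have hρ'₀ : ∀ b', ρ'₀ b' = e₂ (e₁.symm (Ideal.Quotient.mk J' b')) := fun _ => rfl
  have hρ'φ : ∀ b, ρ'₀ (φ b) = ρ b := by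
    intro b
    rw [hρ'₀, ← he₁, RingEquiv.symm_apply_apply, he₂]
  let ρ' : B' →ₐ[R] A₀ :=
    { ρ'₀ with
      commutes' := fun r => by
        show ρ'₀ (φ (algebraMap R _ r)) = _
        rw [hρ'φ, ρ.commutes] }
  have hρ'eq : ∀ b', ρ' b' = ρ'₀ b' := fun _ => rfl
  have hkerρ' : RingHom.ker ρ' = J' := by
    ext b'
    rw [RingHom.mem_ker, hρ'eq, hρ'₀, map_eq_zero_iff _ e₂.injective,
      map_eq_zero_iff _ e₁.symm.injective, Ideal.Quotient.eq_zero_iff_mem]
  have hρ'surj : Function.Surjective ρ' := by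
    intro a₀
    obtain ⟨b, rfl⟩ := hρsurj a₀
    exact ⟨φ b, hρ'φ b⟩
  have hφR : φ.comp (algebraMap R (MvPolynomial (Fin n) R)) = algebraMap R B' := rfl
  have hImap : (I.map (algebraMap R (MvPolynomial (Fin n) R))).map φ = I.map (algebraMap R B') := by
    rw [Ideal.map_map, hφR]
  set 𝔠' : Ideal B' := J' ^ 2 ⊔ I.map (algebraMap R B') with h𝔠'
  have h𝔠map : 𝔠.map φ = 𝔠' := by
    rw [h𝔠, Ideal.map_sup, Ideal.map_pow, hImap]
  have hJ'2 : ∀ p ∈ J', ∀ q ∈ J', p * q ∈ 𝔠' := by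
    intro p hp q hq
    apply le_sup_left (α := Ideal B')
    rw [pow_two]
    exact Ideal.mul_mem_mul hp hq
  have hfg' : ∃ s : Finset B', RingHom.ker ρ' = Ideal.span (s : Set B') ⊔
      I.map (algebraMap R B') := by
    obtain ⟨s, hs⟩ := hfgB
    refine ⟨s.image φ, ?_⟩
    rw [hkerρ', hJ', hs, Ideal.map_sup, Ideal.map_span, hImap, Finset.coe_image]
  -- the module P' and the map θ
  let P' : Submodule B' (Fin n → B') := LinearMap.range (Matrix.toLin' E)
  let θfull : (Fin n → B') →ₗ[B'] B' :=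
    { toFun := fun v => ∑ k, v k * φ (x k)
      map_add' := fun v w => by
        rw [← Finset.sum_add_distrib]
        exact Finset.sum_congr rfl fun k _ => by rw [Pi.add_apply, add_mul]
      map_smul' := fun c v => by
        rw [RingHom.id_apply, smul_eq_mul, Finset.mul_sum]
        exact Finset.sum_congr rfl fun k _ => by rw [Pi.smul_apply, smul_eq_mul, mul_assoc] }
  let θ : P' →ₗ[B'] B' := θfull ∘ₗ P'.subtype
  have hθ : ∀ v : P', θ v = ∑ k, (v : Fin n → B') k * φ (x k) := fun _ => rfl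
  have hφxJ' : ∀ k, φ (x k) ∈ J' := fun k => Ideal.mem_map_of_mem _ (hxJ k)
  have hEv : ∀ v : P', ∀ k, (v : Fin n → B') k = ∑ l, E k l * (v : Fin n → B') l := by
    rintro ⟨_, b₀, rfl⟩ k
    have h1 : Matrix.toLin' E (Matrix.toLin' E b₀) = Matrix.toLin' E b₀ := by
      rw [← LinearMap.comp_apply, ← Matrix.toLin'_mul, hEE]
    have h2 := congrFun h1 k
    rw [Matrix.toLin'_apply (M := E) (v := Matrix.toLin' E b₀)] at h2
    exact h2.symm
  have hEaJ' : ∀ k l, E k l - φ (a k l) ∈ J' := fun k l => hEa k l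
  have hd : ∀ l, φ (x l) - ∑ k, E k l * φ (x k) ∈ 𝔠' := by
    intro l
    have e : φ (x l) - ∑ k, E k l * φ (x k) = φ (x l - ∑ k, a k l * x k) -
        ∑ k, (E k l - φ (a k l)) * φ (x k) := by
      rw [map_sub, map_sum]
      simp only [map_mul, sub_mul, Finset.sum_sub_distrib]
      ring
    rw [e]
    refine 𝔠'.sub_mem ?_ (Ideal.sum_mem _ fun k _ => hJ'2 _ (hEaJ' k l) _ (hφxJ' k))
    rw [← h𝔠map]
    exact Ideal.mem_map_of_mem _ (hC2 l)
  refine SmLiftD.exists_smooth_lift_of_data I ρ' hρ'surj hfg' θ ?_ ?_ ?_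
  · -- hθJ
    intro v
    rw [hθ, map_sum]
    refine Finset.sum_eq_zero fun k _ => ?_
    rw [map_mul, hρ'eq (φ (x k)), hρ'φ]
    have : ρ (x k) = 0 := hxJ k
    rw [this, mul_zero]
  · -- hinj
    intro v hv
    rw [hkerρ'] at hv ⊢
    choose w hw using fun k => hsurjφ ((v : Fin n → B') k)
    have hwx : ∑ k, w k * x k ∈ 𝔠 := by
      apply SmLiftE.mem_of_map_mem J 𝔠 (by rw [← pow_two]; exact le_sup_left) h𝔠J hinjφ hsurjφ
      rw [h𝔠map]
      have e : algebraMap _ B' (∑ k, w k * x k) =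
          ∑ k, (φ (w k) - (v : Fin n → B') k) * φ (x k) + θ v := by
        rw [hθ, ← Finset.sum_add_distrib, map_sum]
        refine Finset.sum_congr rfl fun k _ => ?_
        rw [map_mul]
        show φ (w k) * φ (x k) = _
        ring
      rw [e]
      exact 𝔠'.add_mem (Ideal.sum_mem _ fun k _ => hJ'2 _ (hw k) _ (hφxJ' k)) hv
    have hwa : ∀ k, w k - ∑ l, a k l * w l ∈ J := by
      intro k
      apply hinjφ
      have e : φ (w k - ∑ l, a k l * w l) = (φ (w k) - (v : Fin n → B') k) +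
          ∑ l, ((E k l - φ (a k l)) * (v : Fin n → B') l -
            φ (a k l) * (φ (w l) - (v : Fin n → B') l)) := by
        rw [map_sub, map_sum]
        conv_rhs => rw [hEv v k]
        simp only [map_mul, sub_mul, mul_sub, Finset.sum_sub_distrib]
        ring
      rw [e]
      refine J'.add_mem (hw k) (Ideal.sum_mem _ fun l _ => J'.sub_mem ?_ ?_)
      · exact Ideal.mul_mem_right _ _ (hEaJ' k l)
      · exact Ideal.mul_mem_left _ _ (hw l)
    have hwJ := hC3 w hwa hwx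
    have hvJ : ∀ k, (v : Fin n → B') k ∈ J' := by
      intro k
      have e : (v : Fin n → B') k = φ (w k) - (φ (w k) - (v : Fin n → B') k) := by ring
      rw [e]
      exact J'.sub_mem (Ideal.mem_map_of_mem _ (hwJ k)) (hw k)
    have hv' : v = ∑ l, (v : Fin n → B') l •
        (⟨Matrix.toLin' E (Pi.single l 1), ⟨_, rfl⟩⟩ : P') := by
      apply Subtype.ext
      rw [Submodule.coe_sum]
      simp only [Submodule.coe_smul]
      rw [← Finset.sum_congr rfl (fun l _ => map_smul (Matrix.toLin' E) ((v : Fin n → B') l)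
        (Pi.single l (1 : B'))), ← map_sum]
      have h3 : ∑ l, (v : Fin n → B') l • (Pi.single l (1 : B') : Fin n → B') =
          (v : Fin n → B') := by
        ext k
        simp [Finset.sum_apply, Pi.single_apply]
      rw [h3]
      obtain ⟨_, b₀, rfl⟩ := v
      show Matrix.toLin' E b₀ = Matrix.toLin' E (Matrix.toLin' E b₀)
      rw [← LinearMap.comp_apply, ← Matrix.toLin'_mul, hEE]
    rw [hv']
    exact Submodule.sum_mem _ fun l _ => Submodule.smul_mem_smul (hvJ l) Submodule.mem_top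
  · -- hsurj
    intro y' hy'
    rw [hkerρ'] at hy' ⊢
    have h1 : J' ≤ Ideal.span (Set.range (φ ∘ x)) ⊔ 𝔠' := by
      rw [hJ', ← h𝔠map, Set.range_comp, ← Ideal.map_span, ← Ideal.map_sup]
      exact Ideal.map_mono hC4
    obtain ⟨u, hu, c', hc', rfl⟩ := Submodule.mem_sup.mp (h1 hy')
    obtain ⟨b, rfl⟩ := Ideal.mem_span_range_iff_exists_fun.mp hu
    refine ⟨⟨Matrix.toLin' E b, ⟨b, rfl⟩⟩, ?_⟩
    have e : (∑ l, b l * (φ ∘ x) l + c') -
        θ ⟨Matrix.toLin' E b, ⟨b, rfl⟩⟩ = c' + ∑ l, b l * (φ (x l) - ∑ k, E k l * φ (x k)) := by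
      rw [hθ]
      show (∑ l, b l * φ (x l) + c') - ∑ k, (Matrix.toLin' E b) k * φ (x k) = _
      have e2 : ∑ k, (Matrix.toLin' E b) k * φ (x k) = ∑ l, b l * ∑ k, E k l * φ (x k) := by
        simp only [Matrix.toLin'_apply, Matrix.mulVec, dotProduct, Finset.sum_mul, Finset.mul_sum]
        rw [Finset.sum_comm]
        refine Finset.sum_congr rfl fun l _ => Finset.sum_congr rfl fun k _ => ?_
        ring
      rw [e2]
      simp only [mul_sub, Finset.sum_sub_distrib]
      ring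
    rw [e]
    exact 𝔠'.add_mem hc' (Ideal.sum_mem _ fun l _ => Ideal.mul_mem_left _ _ (hd l))

end Groth.Agent.Helper8.SmLiftG
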