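import Mathlib
import Groth.Prelude
import Groth.Agent.Helper8.SmHensA
import Groth.Agent.S0536
import Groth.Agent.S6827
set_option autoImplicit false

universe u

noncomputable section

namespace Groth.Agent.Helper8.SmHens

open MvPolynomial Groth.Agent.Helper2.PairHens Groth.Agent.Helper2.JacEt

theorem s17599_aux (A : Type u) [CommRing A] (I : Ideal A)
    [HenselianRing A I] (R₀ : Type u) [CommRing R₀] [Algebra A R₀] [Algebra.FinitePresentation A R₀]
    (B : Type u) [CommRing B] [Algebra R₀ B] [Algebra A B] [IsScalarTower A R₀ B]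
    (hB : Hens2.IsPairHenselization R₀ (I.map (algebraMap A R₀)) B)
    (het : ∀ r : ℕ, 1 ≤ r → Algebra.Smooth (A ⧸ I ^ r) (B ⧸ (I ^ r).map (algebraMap A B)))
    (E : Type u) [CommRing E] [Algebra A E] [Algebra.Smooth A E]
    (νb : E →ₐ[A] B ⧸ (I ^ 1).map (algebraMap A B)) (hνsurj : Function.Surjective νb)
    (hνker : RingHom.ker νb = (I ^ 1).map (algebraMap A E)) :
    ∃ (H : Type u) (_ : CommRing H) (_ : Algebra E H)
      (_ : Algebra A H) (_ : IsScalarTower A E H),
      Hens2.IsPairHenselization E (I.map (algebraMap A E)) H ∧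
      ∃ φ : H →ₐ[A] B, Function.Surjective φ ∧ (RingHom.ker φ).FG ∧
        ∀ n : ℕ, RingHom.ker φ ≤ (I ^ n).map (algebraMap A H) := by
  have hIB : (I.map (algebraMap A R₀)).map (algebraMap R₀ B) = I.map (algebraMap A B) := by
    rw [Ideal.map_map, ← IsScalarTower.algebraMap_eq]
  haveI hBh : HenselianRing B (I.map (algebraMap A B)) := hIB ▸ hB.1
  haveI : HenselianRing B ((I ^ 1).map (algebraMap A B)) := by rw [pow_one]; exact hBh
  obtain ⟨ν, hν0⟩ := Groth.Agent.S0536.result A E B ((I ^ 1).map (algebraMap A B)) νb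
  have hν : ∀ e, Ideal.Quotient.mk ((I ^ 1).map (algebraMap A B)) (ν e) = νb e :=
    fun e => congr($hν0 e)
  let J : Ideal E := I.map (algebraMap A E)
  letI : Algebra A (Hens J) := ((algebraMap E (Hens J)).comp (algebraMap A E)).toAlgebra
  haveI : IsScalarTower A E (Hens J) := IsScalarTower.of_algebraMap_eq (fun _ => rfl)
  have hH := Hens.isPairHenselization E J
  obtain ⟨φr, hφr, -⟩ := hH.2 B (I.map (algebraMap A B)) (ν : E →+* B) hBh (by
    rw [Ideal.map_map]
    have : (ν : E →+* B).comp (algebraMap A E) = algebraMap A B := by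
      refine RingHom.ext fun a => ?_
      exact ν.commutes a
    rw [this])
  have hφr' : ∀ e, φr (algebraMap E (Hens J) e) = ν e := fun e => congr($hφr e)
  let φ : Hens J →ₐ[A] B :=
    { φr with
      commutes' := fun a => by
        show φr (algebraMap E (Hens J) (algebraMap A E a)) = _
        rw [hφr']
        exact ν.commutes a }
  have hφ : ∀ e, φ (algebraMap E (Hens J) e) = ν e := hφr'
  have hsurj0 : ∀ b : B, ∃ e : E,
      b - φ (algebraMap E (Hens J) e) ∈ I.map (algebraMap A B) := by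
    intro b
    obtain ⟨e, he⟩ := hνsurj (Ideal.Quotient.mk _ b)
    refine ⟨e, ?_⟩
    rw [hφ]
    have h1 := (hν e).trans he
    rw [eq_comm, Ideal.Quotient.eq, pow_one] at h1
    exact h1
  have hker0 : ∀ e : E, φ (algebraMap E (Hens J) e) ∈ I.map (algebraMap A B) →
      e ∈ I.map (algebraMap A E) := by
    intro e he
    rw [hφ] at he
    have h1 : νb e = 0 := by
      rw [← hν e, Ideal.Quotient.eq_zero_iff_mem, pow_one]
      exact he
    have h2 : e ∈ RingHom.ker νb := h1
    rw [hνker, pow_one] at h2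
    exact h2
  have hsurj := surj_aux A I E (Hens J) hH R₀ B hB φ hsurj0
  have hmodI := modI_aux A I E (Hens J) hH B φ hker0
  refine ⟨Hens J, inferInstance, inferInstance,
    inferInstance, inferInstance, hH, φ, hsurj, ?_, ?_⟩
  · exact fg_aux A I E (Hens J) hH R₀ B hB φ hsurj
  · exact pow_aux A I (Hens J) B φ (fun r hr => by haveI := het r hr; infer_instance) hsurj hmodI

theorem s17599 (A : Type u) [CommRing A] (I : Ideal A)
    [HenselianRing A I] (R₀ : Type u) [CommRing R₀] [Algebra A R₀] [Algebra.FinitePresentation A R₀]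
    (B : Type u) [CommRing B] [Algebra R₀ B] [Algebra A B] [IsScalarTower A R₀ B]
    (hB : Hens2.IsPairHenselization R₀ (I.map (algebraMap A R₀)) B)
    (het : ∀ r : ℕ, 1 ≤ r → Algebra.Smooth (A ⧸ I ^ r) (B ⧸ (I ^ r).map (algebraMap A B))) :
    ∃ (R : Type u) (_ : CommRing R) (_ : Algebra A R) (H : Type u) (_ : CommRing H) (_ : Algebra R H)
      (_ : Algebra A H) (_ : IsScalarTower A R H),
      Algebra.Smooth A R ∧ Hens2.IsPairHenselization R (I.map (algebraMap A R)) H ∧
      ∃ φ : H →ₐ[A] B, Function.Surjective φ ∧ (RingHom.ker φ).FG ∧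
        ∀ n : ℕ, RingHom.ker φ ≤ (I ^ n).map (algebraMap A H) := by
  haveI := het 1 le_rfl
  obtain ⟨E, _, _, hEsm, ⟨e⟩⟩ :=
    Groth.Agent.S6827.result (R := A) (I ^ 1) (A₀ := B ⧸ (I ^ 1).map (algebraMap A B))
  let νb : E →ₐ[A] B ⧸ (I ^ 1).map (algebraMap A B) :=
    (e.restrictScalars A).toAlgHom.comp (Ideal.Quotient.mkₐ A ((I ^ 1).map (algebraMap A E)))
  have hνb : ∀ x, νb x = e (Ideal.Quotient.mk _ x) := fun _ => rfl
  have hνsurj : Function.Surjective νb := by
    intro y
    obtain ⟨z, rfl⟩ := e.surjective y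
    obtain ⟨x, rfl⟩ := Ideal.Quotient.mk_surjective z
    exact ⟨x, rfl⟩
  have hνker : RingHom.ker νb = (I ^ 1).map (algebraMap A E) := by
    ext x
    rw [RingHom.mem_ker, hνb, map_eq_zero_iff _ e.injective, Ideal.Quotient.eq_zero_iff_mem]
  obtain ⟨H, _, _, _, _, hH, hφ⟩ := s17599_aux A I R₀ B hB het E νb hνsurj hνker
  exact ⟨E, inferInstance, inferInstance, H, inferInstance, inferInstance,
    inferInstance, inferInstance, hEsm, hH, hφ⟩

theorem s17601 (A : Type u) [CommRing A] (I : Ideal A)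
    [HenselianRing A I] (R₀ : Type u) [CommRing R₀] [Algebra A R₀] [Algebra.FinitePresentation A R₀]
    (B : Type u) [CommRing B] [Algebra R₀ B] [Algebra A B] [IsScalarTower A R₀ B]
    (hB : Hens2.IsPairHenselization R₀ (I.map (algebraMap A R₀)) B) [Module.Flat A B]
    (het : ∀ r : ℕ, 1 ≤ r → Algebra.Smooth (A ⧸ I ^ r) (B ⧸ (I ^ r).map (algebraMap A B))) :
    ∃ (R : Type u) (_ : CommRing R) (_ : Algebra A R) (_ : Algebra R B) (_ : IsScalarTower A R B),
      Algebra.Smooth A R ∧ Hens2.IsPairHenselization R (I.map (algebraMap A R)) B := by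
  obtain ⟨R, _, _, H, _, _, _, _, hRet, hH, φ, hsurj, hfg, hpow⟩ := s17599 A I R₀ B hB het
  have hIH : (I.map (algebraMap A R)).map (algebraMap R H) = I.map (algebraMap A H) := by
    rw [Ideal.map_map, ← IsScalarTower.algebraMap_eq]
  have hjac : I.map (algebraMap A H) ≤ Ideal.jacobson ⊥ := hIH ▸ hH.1.jac
  have hK1 : RingHom.ker φ ≤ I.map (algebraMap A H) := by
    have := hpow 1
    rwa [pow_one] at this
  have hKle : RingHom.ker φ ≤ I.map (algebraMap A H) * RingHom.ker φ := by
    intro k hk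
    have h1 : k ∈ I • (⊤ : Submodule A H) := by
      rw [Ideal.smul_top_eq_map]
      exact hK1 hk
    have h2 := mem_smul_ker_of_flat I φ.toLinearMap hsurj k hk h1
    refine Submodule.smul_induction_on h2 ?_ ?_
    · intro a ha x hx
      rw [Algebra.smul_def]
      have hx' : x ∈ RingHom.ker φ := hx
      exact Ideal.mul_mem_mul (Ideal.mem_map_of_mem (algebraMap A H) ha) hx'
    · intro x y hx hy
      exact Ideal.add_mem _ hx hy
  have hK0 : RingHom.ker φ = ⊥ :=
    Submodule.eq_bot_of_le_smul_of_le_jacobson_bot (I.map (algebraMap A H)) (RingHom.ker φ) hfg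
      (by rw [Ideal.smul_eq_mul]; exact hKle) hjac
  have hinj : Function.Injective φ := (RingHom.injective_iff_ker_eq_bot φ.toRingHom).mpr hK0
  letI : Algebra R B := (φ.toRingHom.comp (algebraMap R H)).toAlgebra
  haveI : IsScalarTower A R B := IsScalarTower.of_algebraMap_eq (fun a => by
    show algebraMap A B a = φ (algebraMap R H (algebraMap A R a))
    rw [← IsScalarTower.algebraMap_apply, φ.commutes])
  let e : H ≃ₐ[R] B :=
    { RingEquiv.ofBijective φ.toRingHom ⟨hinj, hsurj⟩ with
      commutes' := fun r => rfl }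
  exact ⟨R, inferInstance, inferInstance, inferInstance, inferInstance, hRet,
    isPairHenselization_of_algEquiv e hH⟩

end Groth.Agent.Helper8.SmHens
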