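import Groth.Prelude.Def_FSch2
import Groth.Agent.S14008
import Mathlib

set_option autoImplicit false
set_option backward.isDefEq.respectTransparency false
set_option backward.isDefEq.respectTransparency.types false
universe u

open CategoryTheory AlgebraicGeometry Limits

namespace Groth.Agent.Helper8.SmLift

/-- The residue field map of a morphism surjective on stalks is an isomorphism. -/
theorem isIso_residueFieldMap {X Y : Scheme.{u}} (j : X ⟶ Y) [SurjectiveOnStalks j] (x : X) :
    IsIso (j.residueFieldMap x) := by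
  rw [ConcreteCategory.isIso_iff_bijective]
  refine ⟨(j.residueFieldMap x).hom.injective, ?_⟩
  intro a
  obtain ⟨b, rfl⟩ := IsLocalRing.residue_surjective (R := X.presheaf.stalk x) a
  obtain ⟨c, rfl⟩ := j.stalkMap_surjective x b
  refine ⟨Y.residue (j x) c, ?_⟩
  have := congr($(Scheme.residue_residueFieldMap j x) c)
  exact this

/-- The kernel of a surjective morphism to a locally Noetherian scheme is nilpotent on affine opens. -/
theorem ker_nilpotent {X X' : Scheme.{u}} (i : X ⟶ X') [Surjective i] [IsLocallyNoetherian X']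
    (U : X'.affineOpens) : IsNilpotent (i.ker.ideal U) := by
  have hN : IsNoetherianRing Γ(X', U.1) := IsLocallyNoetherian.component_noetherian U
  have hfg : (i.ker.ideal U).FG := IsNoetherian.noetherian _
  rw [hfg.isNilpotent_iff_le_nilradical]
  intro s hs
  have h0 : (i.app U.1).hom s = 0 := RingHom.mem_ker.mp (i.ideal_ker_le U hs)
  have hb : X'.basicOpen s = ⊥ := by
    have h1 : i ⁻¹ᵁ X'.basicOpen s = ⊥ := by
      rw [Scheme.preimage_basicOpen]
      have : (i.app U.1) s = 0 := h0
      rw [this, Scheme.basicOpen_zero]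
    ext y
    simp only [TopologicalSpace.Opens.coe_bot, Set.mem_empty_iff_false, iff_false]
    intro hy
    obtain ⟨x, rfl⟩ := i.surjective y
    have : x ∈ i ⁻¹ᵁ X'.basicOpen s := hy
    rw [h1] at this
    exact this
  exact (Scheme.isNilpotent_iff_basicOpen_eq_bot_of_isCompact U.2.isCompact s).mpr hb

theorem ker_fg {X X' : Scheme.{u}} (i : X ⟶ X') [IsLocallyNoetherian X']
    (U : X'.affineOpens) : (i.ker.ideal U).FG := by
  have hN : IsNoetherianRing Γ(X', U.1) := IsLocallyNoetherian.component_noetherian U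
  exact IsNoetherian.noetherian _

/-- Lifting smoothness along a thickening of the base for a flat morphism. -/
theorem smooth_of_isPullback {X X' Y Y' : Scheme.{u}} {i : X ⟶ X'} {f : X ⟶ Y} {f' : X' ⟶ Y'}
    {j : Y ⟶ Y'} (sq : IsPullback i f f' j) [IsClosedImmersion j] [Surjective j]
    [LocallyOfFinitePresentation f'] [Flat f'] [Smooth f] : Smooth f' := by
  refine Smooth.of_smooth_fiberToSpecResidueField f' fun y' => ?_
  obtain ⟨y, rfl⟩ := j.surjective y'
  have hp := isPullback_fiberToSpecResidueField_of_isPullback sq y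
  have hiso : IsIso (Spec.map (j.residueFieldMap y)) := by
    have := isIso_residueFieldMap j y
    infer_instance
  have hsm : Smooth (f.fiberToSpecResidueField y) := by
    unfold Scheme.Hom.fiberToSpecResidueField
    infer_instance
  obtain ⟨t, ht⟩ : ∃ t : f.fiber y ⟶ f'.fiber (j y), IsPullback t (f.fiberToSpecResidueField y)
      (f'.fiberToSpecResidueField (j y)) (Spec.map (j.residueFieldMap y)) := ⟨_, hp⟩
  have htop : IsIso t := ht.isIso_fst_of_isIso
  have e : f'.fiberToSpecResidueField (j y) =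
      inv t ≫ f.fiberToSpecResidueField y ≫ Spec.map (j.residueFieldMap y) := by
    rw [IsIso.eq_inv_comp]
    exact ht.w
  rw [e]
  infer_instance

theorem main (𝔛 𝔜 : FSch.Sys.{u})
    (h𝔛 : 𝔛.IsLocNoethFormal) (h𝔜 : 𝔜.IsLocNoethFormal) (f : 𝔛 ⟶ 𝔜) (hf : FSch.IsAdicHom f)
    (hflat : ∀ n : ℕ, Flat ((f : FSch.Hom 𝔛 𝔜).app n)) :
    (∀ n : ℕ, AlgebraicGeometry.Smooth ((f : FSch.Hom 𝔛 𝔜).app n)) ↔
      AlgebraicGeometry.Smooth ((f : FSch.Hom 𝔛 𝔜).app 0) := by
  refine ⟨fun h => h 0, fun h0 n => ?_⟩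
  induction n with
  | zero => exact h0
  | succ n ih =>
    have sq := hf n
    have hX := h𝔛.1 n
    have hY := h𝔜.1 n
    haveI := hX.1
    haveI := hY.1
    haveI : Surjective (𝔛.ι n) := ⟨hX.2⟩
    haveI : Surjective (𝔜.ι n) := ⟨hY.2⟩
    haveI := h𝔛.2.2 (n + 1)
    haveI := h𝔜.2.2 (n + 1)
    haveI := hflat (n + 1)
    haveI := ih
    haveI : LocallyOfFinitePresentation ((f : FSch.Hom 𝔛 𝔜).app (n + 1)) :=
      (Groth.Agent.S14008.result ((f : FSch.Hom 𝔛 𝔜).app (n + 1)) ((f : FSch.Hom 𝔛 𝔜).app n)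
        (𝔛.ι n) (𝔜.ι n) ⟨inferInstance, inferInstance⟩ ⟨inferInstance, inferInstance⟩
        (ker_nilpotent _) (ker_nilpotent _) (ker_fg _) sq.w.symm).mpr inferInstance
    exact smooth_of_isPullback sq

end Groth.Agent.Helper8.SmLift
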