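import Mathlib

/-!
# Sheaf criterion on the small étale site (S14453)

A presheaf of types on `X.Etale` is an étale sheaf iff it is a Zariski sheaf and satisfies the
sheaf condition for surjective single arrows between affine objects.
-/

universe u w
open CategoryTheory AlgebraicGeometry Limits MorphismProperty

namespace Groth.Agent.Helper8.SmallEt

variable {X : Scheme.{u}}

set_option backward.isDefEq.respectTransparency.types false in
/-- the Zariski topology on `X.Etale` -/
abbrev Jzar (X : Scheme.{u}) : GrothendieckTopology X.Etale :=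
  X.smallGrothendieckTopology (P := @IsOpenImmersion)

set_option backward.isDefEq.respectTransparency.types false in
theorem mem_Jzar_iff (W : X.Etale) (R : Sieve W) : R ∈ Jzar X W ↔
    ∀ x : W.left, ∃ (Y : X.Etale) (f : Y ⟶ W) (y : Y.left),
      R f ∧ IsOpenImmersion f.left ∧ f.left y = x := by
  rw [Jzar, Scheme.smallGrothendieckTopology_eq_toGrothendieck_smallPretopology X
    (P := @IsOpenImmersion) (Q := @Etale) (fun _ _ f hf => inferInstance)]
  exact Scheme.mem_toGrothendieck_smallPretopology W R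

set_option backward.isDefEq.respectTransparency.types false in
theorem mem_Jet_iff (W : X.Etale) (R : Sieve W) : R ∈ X.smallEtaleTopology W ↔
    ∀ x : W.left, ∃ (Y : X.Etale) (f : Y ⟶ W) (y : Y.left),
      R f ∧ Etale f.left ∧ f.left y = x := by
  rw [Scheme.smallEtaleTopology,
    Scheme.smallGrothendieckTopology_eq_toGrothendieck_smallPretopology X
    (P := @Etale) (Q := @Etale) le_rfl]
  exact Scheme.mem_toGrothendieck_smallPretopology W R

theorem Jzar_le_Jet : Jzar X ≤ X.smallEtaleTopology := by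
  intro W R hR
  rw [mem_Jzar_iff] at hR
  rw [mem_Jet_iff]
  intro x
  obtain ⟨Y, f, y, h1, h2, h3⟩ := hR x
  exact ⟨Y, f, y, h1, inferInstance, h3⟩

/-- object of `X.Etale` from an étale map into an object -/
noncomputable abbrev mkOver (W : X.Etale) {Y : Scheme.{u}} (g : Y ⟶ W.left) [Etale g] : X.Etale :=
  Scheme.Etale.mk (g ≫ W.hom)

noncomputable abbrev mkHom (W : X.Etale) {Y : Scheme.{u}} (g : Y ⟶ W.left) [Etale g] :
    mkOver W g ⟶ W :=
  MorphismProperty.Over.homMk g rfl trivial

theorem mem_generate_singleton {C : Type*} [Category C] {X Y : C} (f : Y ⟶ X) {Z : C}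
    (g : Z ⟶ X) : (Sieve.generate (Presieve.singleton f)) g ↔ ∃ e : Z ⟶ Y, e ≫ f = g := by
  constructor
  · rintro ⟨W, e, s, hs, rfl⟩
    cases hs
    exact ⟨e, rfl⟩
  · rintro ⟨e, rfl⟩
    exact ⟨_, e, f, Presieve.singleton_self f, rfl⟩

theorem hom_ext' {A B : X.Etale} (f g : A ⟶ B) (h : f.left = g.left) : f = g :=
  MorphismProperty.Over.Hom.ext h

/-- Every point of an object has an affine open neighbourhood, as an object of `X.Etale`. -/
theorem exists_affine_nbhd (W : X.Etale) (x : W.left) :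
    ∃ (T : X.Etale) (h : T ⟶ W) (y : T.left), IsAffine T.left ∧ IsOpenImmersion h.left ∧
      h.left y = x := by
  obtain ⟨_, ⟨U, hU, rfl⟩, hxU, -⟩ := W.left.isBasis_affineOpens.exists_subset_of_mem_open
    (Set.mem_univ x) isOpen_univ
  let U' : W.left.Opens := U
  exact ⟨mkOver W U'.ι, mkHom W U'.ι, ⟨x, hxU⟩, hU, inferInstanceAs (IsOpenImmersion U'.ι), rfl⟩

/-- The sheaf condition for a sieve can be checked after pulling back to affine objects. -/
theorem isSheafFor_of_affine (F : X.Etaleᵒᵖ ⥤ Type w) (hzar : Presieve.IsSheaf (Jzar X) F)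
    {W : X.Etale} (S : Sieve W)
    (H : ∀ (T : X.Etale) [IsAffine T.left] (h : T ⟶ W),
      Presieve.IsSheafFor F (S.pullback h).arrows) :
    Presieve.IsSheafFor F S.arrows := by
  let E : (Jzar X).OneHypercover W :=
  { I₀ := Σ T : X.Etale, {h : T ⟶ W // IsAffine T.left}
    X := fun i => i.1
    f := fun i => i.2.1
    I₁ := fun i j => Σ T : X.Etale,
      {ab : (T ⟶ i.1) × (T ⟶ j.1) // IsAffine T.left ∧ ab.1 ≫ i.2.1 = ab.2 ≫ j.2.1}
    Y := fun i j k => k.1
    p₁ := fun i j k => k.2.1.1
    p₂ := fun i j k => k.2.1.2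
    w := fun i j k => k.2.2.2
    mem₀ := by
      rw [mem_Jzar_iff]
      intro x
      obtain ⟨T, h, y, hT, ho, hy⟩ := exists_affine_nbhd W x
      exact ⟨T, h, y, Sieve.ofArrows_mk _ _ (⟨T, ⟨h, hT⟩⟩ : Σ T : X.Etale, {h : T ⟶ W // IsAffine T.left}),
        ho, hy⟩
    mem₁ := by
      intro i j Z a b hab
      rw [mem_Jzar_iff]
      intro z
      obtain ⟨T, h, y, hT, ho, hy⟩ := exists_affine_nbhd Z z
      refine ⟨T, h, y, ?_, ho, hy⟩
      refine ⟨⟨T, ⟨(h ≫ a, h ≫ b), hT, by simp [hab]⟩⟩, 𝟙 _, ?_, ?_⟩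
      · simp
      · simp }
  refine E.isSheafFor_sieve_of_pullback hzar (fun i => ?_) (fun i j k => ?_)
  · haveI := i.2.2
    exact H i.1 i.2.1
  · haveI := k.2.2.1
    exact (H k.1 (k.2.1.1 ≫ i.2.1)).isSeparatedFor

section FibreProduct

variable {P W T : X.Etale} (p : P ⟶ W) (h : T ⟶ W)

/-- the fibre product `P ×_W T` as an object of `X.Etale` -/
noncomputable abbrev fib : X.Etale := mkOver T (pullback.snd p.left h.left)

/-- projection to `T` -/
noncomputable abbrev fibSnd : fib p h ⟶ T := mkHom T (pullback.snd p.left h.left)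

/-- projection to `P` -/
noncomputable def fibFst : fib p h ⟶ P :=
  MorphismProperty.Over.homMk (pullback.fst p.left h.left) (by
    show pullback.fst p.left h.left ≫ P.hom = pullback.snd p.left h.left ≫ T.hom
    rw [← MorphismProperty.Over.w p, ← MorphismProperty.Over.w h, ← Category.assoc,
      ← Category.assoc, pullback.condition]) trivial

theorem fib_condition : fibFst p h ≫ p = fibSnd p h ≫ h :=
  hom_ext' _ _ pullback.condition

theorem fib_lift {Y : X.Etale} (a : Y ⟶ P) (b : Y ⟶ T) (hab : a ≫ p = b ≫ h) :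
    ∃ l : Y ⟶ fib p h, l ≫ fibFst p h = a ∧ l ≫ fibSnd p h = b := by
  have hab' : a.left ≫ p.left = b.left ≫ h.left := congrArg (fun f => f.left) hab
  refine ⟨MorphismProperty.Over.homMk (pullback.lift a.left b.left hab') ?_ trivial, ?_, ?_⟩
  · show pullback.lift a.left b.left hab' ≫ pullback.snd p.left h.left ≫ T.hom = Y.hom
    rw [← Category.assoc, pullback.lift_snd, MorphismProperty.Over.w b]
  · exact hom_ext' _ _ (pullback.lift_fst _ _ _)
  · exact hom_ext' _ _ (pullback.lift_snd _ _ _)

end FibreProduct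

section Coproduct

variable {T : X.Etale} {ι : Type u} [Finite ι] (Q : ι → X.Etale) (q : ∀ j, Q j ⟶ T)

/-- the coproduct of a finite family of objects over `T` -/
noncomputable def sig : X.Etale :=
  haveI : Etale (Sigma.desc fun j => (q j).left) :=
    IsZariskiLocalAtSource.sigmaDesc (P := @Etale) (fun j => inferInstance)
  mkOver T (Sigma.desc fun j => (q j).left)

noncomputable def sigπ : sig Q q ⟶ T :=
  haveI : Etale (Sigma.desc fun j => (q j).left) :=
    IsZariskiLocalAtSource.sigmaDesc (P := @Etale) (fun j => inferInstance)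
  mkHom T (Sigma.desc fun j => (q j).left)

noncomputable def sigι (j : ι) : Q j ⟶ sig Q q :=
  MorphismProperty.Over.homMk (Sigma.ι (fun j => (Q j).left) j) (by
    show Sigma.ι (fun j => (Q j).left) j ≫ (Sigma.desc fun j => (q j).left) ≫ T.hom = (Q j).hom
    rw [← Category.assoc, Sigma.ι_desc, MorphismProperty.Over.w (q j)]) trivial

theorem sigι_π (j : ι) : sigι Q q j ≫ sigπ Q q = q j :=
  hom_ext' _ _ (Sigma.ι_desc _ _)

theorem sig_left : (sig Q q).left = ∐ fun j => (Q j).left := rfl

instance [∀ j, IsAffine (Q j).left] : IsAffine (sig Q q).left := by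
  rw [sig_left]; infer_instance

theorem sigι_left (j : ι) : (sigι Q q j).left = Sigma.ι (fun j => (Q j).left) j := rfl

theorem sigπ_left : (sigπ Q q).left = Sigma.desc fun j => (q j).left := rfl

instance (j : ι) : IsOpenImmersion (sigι Q q j).left := by
  rw [sigι_left]
  exact inferInstanceAs (IsOpenImmersion ((sigmaOpenCover fun j => (Q j).left).f j))

theorem sig_exists (x : (sig Q q).left) : ∃ (j : ι) (y : (Q j).left), (sigι Q q j).left y = x := by
  obtain ⟨⟨j, y⟩, rfl⟩ := (sigmaMk (fun j => (Q j).left)).surjective x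
  refine ⟨j, y, ?_⟩
  rw [sigι_left]
  exact (sigmaMk_mk (fun j => (Q j).left) j y).symm

end Coproduct

/-- the core case: all objects affine, finite jointly surjective family, pulled back to an
affine -/
theorem isSheafFor_pullback_of_affine (F : X.Etaleᵒᵖ ⥤ Type w)
    (hzar : Presieve.IsSheaf (Jzar X) F)
    (hA : ∀ (U V : X.Etale) [IsAffine U.left] [IsAffine V.left] (f : V ⟶ U) [Surjective f.left],
          Presieve.IsSheafFor F (Presieve.singleton f))
    {W : X.Etale} [IsAffine W.left] {ι : Type u} [Finite ι] (V : ι → X.Etale)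
    [∀ j, IsAffine (V j).left] (f : ∀ j, V j ⟶ W)
    (hsurj : ∀ x : W.left, ∃ (j : ι) (v : (V j).left), (f j).left v = x)
    {T : X.Etale} [IsAffine T.left] (g : T ⟶ W) :
    Presieve.IsSheafFor F ((Sieve.ofArrows V f).pullback g).arrows := by
  let Q : ι → X.Etale := fun j => fib (f j) g
  let q : ∀ j, Q j ⟶ T := fun j => fibSnd (f j) g
  haveI : ∀ j, IsAffine (Q j).left := fun j =>
    inferInstanceAs (IsAffine (pullback (f j).left g.left))
  haveI hπ : Surjective (sigπ Q q).left := by
    refine ⟨fun t => ?_⟩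
    obtain ⟨j, v, hv⟩ := hsurj (g.left t)
    obtain ⟨z, -, hz⟩ := Scheme.Pullback.exists_preimage_pullback (f := (f j).left)
      (g := g.left) v t hv
    refine ⟨(sigι Q q j).left z, ?_⟩
    rw [← Scheme.Hom.comp_apply]
    have : (sigι Q q j).left ≫ (sigπ Q q).left = (q j).left :=
      congrArg (fun f => f.left) (sigι_π Q q j)
    rw [this]
    exact hz
  refine Presieve.isSheafFor_trans F (Sieve.generate (Presieve.singleton (sigπ Q q))) _
    ((Presieve.isSheafFor_iff_generate _).mp (hA T (sig Q q) (sigπ Q q))) ?_ ?_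
  · -- separatedness
    intro Y k hk
    obtain ⟨Z, t, _, ⟨j⟩, hfac⟩ := hk
    obtain ⟨l, -, hl⟩ := fib_lift (f j) g t k hfac
    have : (Sieve.generate (Presieve.singleton (sigπ Q q))) k := by
      refine (mem_generate_singleton _ _).mpr ⟨l ≫ sigι Q q j, ?_⟩
      rw [Category.assoc, sigι_π]
      exact hl
    rw [Sieve.pullback_eq_top_of_mem _ this]
    exact Presieve.isSeparatedFor_top F
  · -- Zariski covering
    intro Y k hk
    obtain ⟨t, hfac⟩ := (mem_generate_singleton _ _).mp hk
    apply hzar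
    rw [mem_Jzar_iff]
    intro y
    obtain ⟨j, z, hz⟩ := sig_exists Q q (t.left y)
    -- open neighbourhood of `y` mapping into `Q j`
    let O : Y.left.Opens := t.left ⁻¹ᵁ (sigι Q q j).left.opensRange
    have hyO : y ∈ O := ⟨z, hz⟩
    let c : mkOver Y O.ι ⟶ Y := mkHom Y O.ι
    have hrange : Set.range (O.ι ≫ t.left) ⊆ Set.range (sigι Q q j).left := by
      rintro _ ⟨⟨a, ha⟩, rfl⟩
      rw [Scheme.Hom.comp_apply]
      exact ha
    let t'left : O.toScheme ⟶ (Q j).left :=
      IsOpenImmersion.lift (sigι Q q j).left (O.ι ≫ t.left) hrange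
    have ht'left : t'left ≫ (sigι Q q j).left = O.ι ≫ t.left :=
      IsOpenImmersion.lift_fac _ _ _
    let t' : mkOver Y O.ι ⟶ Q j := MorphismProperty.Over.homMk t'left (by
      show t'left ≫ (Q j).hom = O.ι ≫ Y.hom
      rw [← MorphismProperty.Over.w (sigι Q q j), ← Category.assoc, ht'left, Category.assoc,
        MorphismProperty.Over.w t]) trivial
    have ht' : t' ≫ sigι Q q j = c ≫ t := hom_ext' _ _ ht'left
    refine ⟨mkOver Y O.ι, c, ⟨y, hyO⟩, ?_, inferInstanceAs (IsOpenImmersion O.ι), rfl⟩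
    -- `c ≫ k ≫ g` factors through `f j`
    show (Sieve.ofArrows V f) ((c ≫ k) ≫ g)
    have : (c ≫ k) ≫ g = (t' ≫ fibFst (f j) g) ≫ f j := by
      calc (c ≫ k) ≫ g = ((c ≫ t) ≫ sigπ Q q) ≫ g := by
            rw [← hfac]; simp only [Category.assoc]
        _ = ((t' ≫ sigι Q q j) ≫ sigπ Q q) ≫ g := by rw [ht']
        _ = (t' ≫ q j) ≫ g := by rw [Category.assoc t', sigι_π]
        _ = t' ≫ (fibSnd (f j) g ≫ g) := by rw [Category.assoc]
        _ = t' ≫ (fibFst (f j) g ≫ f j) := by rw [fib_condition]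
        _ = _ := by rw [Category.assoc]
    rw [this]
    exact Sieve.downward_closed _ (Sieve.ofArrows_mk _ _ j) _

/-- finite affine refinement of an étale covering sieve of an affine object -/
theorem exists_finite_affine (W : X.Etale) [IsAffine W.left] (R : Sieve W)
    (hR : R ∈ X.smallEtaleTopology W) :
    ∃ (ι : Type u) (_ : Finite ι) (V : ι → X.Etale) (f : ∀ j, V j ⟶ W),
      (∀ j, IsAffine (V j).left) ∧ (∀ j, R (f j)) ∧
      ∀ x : W.left, ∃ (j : ι) (v : (V j).left), (f j).left v = x := by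
  rw [mem_Jet_iff] at hR
  choose Y f y hRf _ hy using hR
  have hT : ∀ x, ∃ (T : X.Etale) (h : T ⟶ Y x) (z : T.left), IsAffine T.left ∧
      IsOpenImmersion h.left ∧ h.left z = y x := fun x => exists_affine_nbhd (Y x) (y x)
  choose T h z hTaff _ hz using hT
  have hopen : ∀ x, IsOpen (Set.range (h x ≫ f x).left) := fun x =>
    ((h x ≫ f x).left.isOpenMap).isOpen_range
  have hcover : (Set.univ : Set W.left) ⊆ ⋃ x, Set.range (h x ≫ f x).left := by
    intro x _
    refine Set.mem_iUnion.mpr ⟨x, z x, ?_⟩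
    show (f x).left ((h x).left (z x)) = x
    rw [hz, hy]
  obtain ⟨s, hs⟩ := isCompact_univ.elim_finite_subcover _ hopen hcover
  refine ⟨s, inferInstance, fun j => T j.1, fun j => h j.1 ≫ f j.1, fun j => hTaff j.1,
    fun j => R.downward_closed (hRf j.1) _, fun x => ?_⟩
  obtain ⟨i, hi, v, hv⟩ : ∃ i ∈ s, x ∈ Set.range (h i ≫ f i).left := by
    simpa using hs (Set.mem_univ x)
  exact ⟨⟨i, hi⟩, v, hv⟩

theorem isSheaf_of_zariski_of_affine (F : X.Etaleᵒᵖ ⥤ Type w)
    (hzar : Presieve.IsSheaf (Jzar X) F)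
    (hA : ∀ (U V : X.Etale) [IsAffine U.left] [IsAffine V.left] (f : V ⟶ U) [Surjective f.left],
          Presieve.IsSheafFor F (Presieve.singleton f)) :
    Presieve.IsSheaf X.smallEtaleTopology F := by
  -- affine case
  have key : ∀ (W : X.Etale) [IsAffine W.left] (R : Sieve W), R ∈ X.smallEtaleTopology W →
      Presieve.IsSheafFor F R.arrows := by
    intro W _ R hR
    obtain ⟨ι, _, V, f, hV, hRf, hsurj⟩ := exists_finite_affine W R hR
    have hle : (Sieve.ofArrows V f).arrows ≤ R.arrows := by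
      rintro Y k ⟨Z, t, _, ⟨j⟩, rfl⟩
      exact R.downward_closed (hRf j) _
    refine Presieve.isSheafFor_subsieve F hle (fun Y g => ?_)
    refine isSheafFor_of_affine F hzar _ (fun T _ k => ?_)
    rw [← Sieve.pullback_comp]
    exact isSheafFor_pullback_of_affine F hzar hA V f hsurj (k ≫ g)
  intro W R hR
  refine isSheafFor_of_affine F hzar R (fun T _ k => ?_)
  exact key T _ (X.smallEtaleTopology.pullback_stable k hR)

theorem main (F : X.Etaleᵒᵖ ⥤ Type w) :
    Presieve.IsSheaf X.smallEtaleTopology F ↔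
      Presieve.IsSheaf (X.smallGrothendieckTopology (P := @IsOpenImmersion)) F ∧
        ∀ (U V : X.Etale) [IsAffine U.left] [IsAffine V.left] (f : V ⟶ U) [Surjective f.left],
          Presieve.IsSheafFor F (Presieve.singleton f) := by
  constructor
  · intro hF
    refine ⟨Presieve.isSheaf_of_le F Jzar_le_Jet hF, fun U V _ _ f _ => ?_⟩
    rw [Presieve.isSheafFor_iff_generate]
    apply hF
    rw [mem_Jet_iff]
    intro x
    obtain ⟨y, hy⟩ := f.left.surjective x
    exact ⟨V, f, y, (mem_generate_singleton f f).mpr ⟨𝟙 _, Category.id_comp _⟩, inferInstance, hy⟩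
  · rintro ⟨hzar, hA⟩
    exact isSheaf_of_zariski_of_affine F hzar hA

end Groth.Agent.Helper8.SmallEt
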