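import Groth.Agent.Helper8.ProjDim
import Groth.Agent.Helper8.LinSub2

namespace Groth.Agent.Helper8.SmoothSub

open MvPolynomial Groth.Agent.Helper8.LinSub

universe u

theorem main (k : Type u) [Field k] [IsAlgClosed k]
    (n d : ℕ) (hd : 2 ≤ d) (f : MvPolynomial (Fin (n + 1)) k) (hf : f.IsHomogeneous d)
    (U : Submodule k (Fin (n + 1) → k)) (hU : ∀ u ∈ U, MvPolynomial.eval u f = 0)
    (hsm : ∀ u ∈ U, u ≠ 0 → ∃ i : Fin (n + 1), MvPolynomial.eval u (MvPolynomial.pderiv i f) ≠ 0) :
    2 * Module.finrank k ↥U ≤ n + 1 := by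
  classical
  by_contra hcon
  push Not at hcon
  obtain ⟨m, hm⟩ : ∃ m, m = Module.finrank k ↥U := ⟨_, rfl⟩
  rw [← hm] at hcon
  -- a complement
  obtain ⟨W, hW⟩ := Submodule.exists_isCompl U
  obtain ⟨r, hr⟩ : ∃ r, r = Module.finrank k ↥W := ⟨_, rfl⟩
  have hdim : m + r = n + 1 := by
    have := Submodule.finrank_add_eq_of_isCompl hW
    rw [← hm, ← hr] at this
    simpa using this
  have hrm : r < m := by omega
  let bU : Module.Basis (Fin m) k ↥U := Module.finBasisOfFinrankEq k ↥U hm.symm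
  let bW : Module.Basis (Fin r) k ↥W := Module.finBasisOfFinrankEq k ↥W hr.symm
  let A : Matrix (Fin (n + 1)) (Fin m) k := fun i s => (bU s : Fin (n + 1) → k) i
  have hA : ∀ t : Fin m → k, A.mulVec t = ((∑ s, t s • bU s : ↥U) : Fin (n + 1) → k) := by
    intro t
    funext i
    simp only [Matrix.mulVec, dotProduct, A, Submodule.coe_sum, Submodule.coe_smul,
      Finset.sum_apply, Pi.smul_apply, smul_eq_mul]
    refine Finset.sum_congr rfl fun s _ => by ring
  have hAU : ∀ t : Fin m → k, A.mulVec t ∈ U := by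
    intro t
    rw [hA]
    exact Submodule.coe_mem _
  let G : Fin r → MvPolynomial (Fin m) k := fun j =>
    ∑ i, C ((bW j : Fin (n + 1) → k) i) * φ A (pderiv i f)
  have hG : ∀ j, (G j).IsHomogeneous (d - 1) := by
    intro j
    apply IsHomogeneous.sum
    intro i _
    exact (isHomogeneous_φ A (hf.pderiv)).C_mul _
  obtain ⟨t, ht0, htG⟩ := ProjDim.exists_common_zero k m r hrm G (fun _ => d - 1)
    (fun _ => by omega) hG
  have hu0 : A.mulVec t ≠ 0 := by
    intro h0
    apply ht0
    rw [hA] at h0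
    have h1 : (∑ s, t s • bU s : ↥U) = 0 := Subtype.ext h0
    have := (Fintype.linearIndependent_iff.mp bU.linearIndependent) t h1
    funext s
    exact this s
  obtain ⟨i₀, hi₀⟩ := hsm _ (hAU t) hu0
  -- the gradient functional at `u`
  let ψ : (Fin (n + 1) → k) →ₗ[k] k :=
    { toFun := fun w => ∑ i, w i * eval (A.mulVec t) (pderiv i f)
      map_add' := fun w w' => by
        simp only [Pi.add_apply, add_mul, Finset.sum_add_distrib]
      map_smul' := fun c w => by
        simp only [Pi.smul_apply, smul_eq_mul, RingHom.id_apply, Finset.mul_sum, mul_assoc] }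
  have hψU : ∀ w ∈ U, ψ w = 0 := by
    intro w hw
    have h0 : lineRestrict (A.mulVec t) w f = 0 := by
      apply lineRestrict_eq_zero_of_forall
      intro s
      exact hU _ (U.add_mem (hAU t) (U.smul_mem _ hw))
    have := coeff_one_lineRestrict (A.mulVec t) w f
    rw [h0, Polynomial.coeff_zero] at this
    exact this.symm
  have hψW : ∀ w ∈ W, ψ w = 0 := by
    intro w hw
    have hw' : (⟨w, hw⟩ : ↥W) = ∑ j, bW.repr ⟨w, hw⟩ j • bW j := (bW.sum_repr _).symm
    have hw'' : w = ∑ j, bW.repr ⟨w, hw⟩ j • (bW j : Fin (n + 1) → k) := by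
      calc w = ((∑ j, bW.repr ⟨w, hw⟩ j • bW j : ↥W) : Fin (n + 1) → k) :=
            congrArg Subtype.val hw'
        _ = ∑ j, bW.repr ⟨w, hw⟩ j • (bW j : Fin (n + 1) → k) := by
            rw [Submodule.coe_sum]
            rfl
    rw [hw'', map_sum]
    refine Finset.sum_eq_zero fun j _ => ?_
    rw [map_smul]
    have : ψ (bW j : Fin (n + 1) → k) = eval t (G j) := by
      simp only [ψ, G, LinearMap.coe_mk, AddHom.coe_mk, map_sum, map_mul, eval_C, eval_φ]
    rw [this, htG j, smul_zero]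
  have hψ : ∀ w, ψ w = 0 := by
    intro w
    have hw : w ∈ U ⊔ W := by rw [hW.sup_eq_top]; trivial
    obtain ⟨a, ha, b, hb, rfl⟩ := Submodule.mem_sup.mp hw
    rw [map_add, hψU a ha, hψW b hb, add_zero]
  apply hi₀
  have := hψ (Pi.single i₀ 1)
  simp only [ψ, LinearMap.coe_mk, AddHom.coe_mk] at this
  rw [Finset.sum_eq_single i₀] at this
  · simpa using this
  · intro j _ hj
    simp [Pi.single_apply, hj]
  · simp

end Groth.Agent.Helper8.SmoothSub
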