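import Groth.Agent.Helper7.SnSch3
import Groth.Agent.Helper5.UnivHomeo1
import Groth.Prelude.Def_Pi1

set_option autoImplicit false
universe u
open CategoryTheory AlgebraicGeometry

namespace Groth.Agent.Helper8.SnDom

/-- If `ψ ∘ φ` is finite, `ψ` injective and the source Noetherian then `φ` is finite. -/
theorem finite_of_comp_injective {A B C : Type u} [CommRing A] [CommRing B] [CommRing C]
    [IsNoetherianRing A] (φ : A →+* B) (ψ : B →+* C) (hψ : Function.Injective ψ)
    (h : (ψ.comp φ).Finite) : φ.Finite := by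
  letI : Algebra A B := φ.toAlgebra
  letI : Algebra A C := (ψ.comp φ).toAlgebra
  haveI : Module.Finite A C := h
  haveI : IsNoetherian A C := isNoetherian_of_isNoetherianRing_of_finite A C
  let l : B →ₗ[A] C :=
    { toFun := ψ
      map_add' := map_add ψ
      map_smul' := by
        intro a b
        show ψ (φ a * b) = (ψ.comp φ) a * ψ b
        rw [map_mul]; rfl }
  exact Module.Finite.of_injective l hψ

theorem main {S Sn X' : Scheme.{u}}
    [IsNoetherian S] [IsReduced S]
    (π : Sn ⟶ S) [IsIntegralHom π]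
    (hbir : ∃ U : S.Opens, Dense (U : Set S) ∧ Dense ((π ⁻¹ᵁ U : Sn.Opens) : Set Sn) ∧ IsIso (π ∣_ U))
    (ν : X' ⟶ S) (hν : HTop.IsSeminormalization ν) (hX' : HTop.IsSeminormal X')
    (g : Sn ⟶ X') (hg : g ≫ ν = π) :
    (IsSchemeTheoreticallyDominant ν ∧ IsSchemeTheoreticallyDominant g) ∧
      (IsFinite π → IsFinite ν ∧ IsFinite g) := by
  obtain ⟨hνi, hνinj, hνs⟩ := (Groth.Agent.Helper5.UnivHomeo.isUnivHomeo_iff ν).1 hν.1.1
  have hνhomeo : IsHomeomorph ν.base := hν.1.1 _ _ _ .of_id_snd
  -- π is surjective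
  have hπs : Surjective π := by
    obtain ⟨U, hU, -, hiso⟩ := hbir
    constructor
    have hcl : IsClosed (Set.range π.base) := π.isClosedMap.isClosed_range
    have hsub : (U : Set S) ⊆ Set.range π.base := by
      intro s hs
      have hsur : Function.Surjective (π ∣_ U).base :=
        (ConcreteCategory.bijective_of_isIso (π ∣_ U).base).2
      obtain ⟨z, hz⟩ := hsur ⟨s, hs⟩
      refine ⟨(π ⁻¹ᵁ U).ι z, ?_⟩
      have h1 := congrArg (fun m => m.base z) (morphismRestrict_ι π U)
      have h2 : π ((π ⁻¹ᵁ U).ι z) = U.ι ((π ∣_ U) z) := h1.symm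
      rw [h2, hz]
      rfl
    have : Set.range π.base = Set.univ := by
      apply Set.eq_univ_of_univ_subset
      rw [← hU.closure_eq]
      exact hcl.closure_subset_iff.2 hsub
    exact Set.range_eq_univ.1 this
  have hgs : Surjective g := by
    constructor
    intro x'
    obtain ⟨z, hz⟩ := hπs.surj (ν x')
    refine ⟨z, ?_⟩
    apply hνhomeo.injective
    have h1 := congrArg (fun m => m.base z) hg
    have h2 : ν (g z) = π z := h1
    rw [h2, hz]
  have hredX' : IsReduced X' := Groth.Agent.Helper7.SnSch.isReduced_of_isSeminormal hX'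
  have hd1 : IsSchemeTheoreticallyDominant ν := .of_isDominant ν
  have hd2 : IsSchemeTheoreticallyDominant g := .of_isDominant g
  refine ⟨⟨hd1, hd2⟩, ?_⟩
  intro hπf
  subst hg
  have hgf : IsFinite g :=
    MorphismProperty.of_postcomp (W := @IsFinite) (W' := @IsSeparated) g ν inferInstance hπf
  refine ⟨?_, hgf⟩
  refine { toIsAffineHom := inferInstance, finite_app := ?_ }
  intro U hU
  have : IsNoetherianRing Γ(S, U) := IsLocallyNoetherian.component_noetherian ⟨U, hU⟩
  have h1 : ((g ≫ ν).app U).hom.Finite := hπf.finite_app U hU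
  rw [Scheme.Hom.comp_app] at h1
  exact finite_of_comp_injective (ν.app U).hom (g.app (ν ⁻¹ᵁ U)).hom
    (g.app_injective (ν ⁻¹ᵁ U)) h1

end Groth.Agent.Helper8.SnDom
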