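import Mathlib
import Groth.Prelude.Def_SpSeq
import Groth.Agent.Helper8.EulerSS
import Groth.Agent.Helper8.SpSeqOne

set_option autoImplicit false

namespace Groth.Agent.Helper8.SpSeqDim

open CategoryTheory Limits

universe w u

section Cx

variable {A : Type u} [Ring A] {v : ℤ × ℤ}
  (K : HomologicalComplex (ModuleCat.{w} A) (ComplexShape.up' v))

/-- Length of the image of a differential. -/
noncomputable def bl (i j : ℤ × ℤ) : ℕ∞ := Module.length A (LinearMap.range (K.d i j).hom)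

lemma length_X_eq (pq : ℤ × ℤ) :
    Module.length A (K.X pq) = Module.length A (K.homology pq) + bl K (pq - v) pq +
      bl K pq (pq + v) := by
  have hprev : (ComplexShape.up' v).prev pq = pq - v :=
    (ComplexShape.up' v).prev_eq' (by simp [ComplexShape.up'])
  have hnext : (ComplexShape.up' v).next pq = pq + v :=
    (ComplexShape.up' v).next_eq' (by simp [ComplexShape.up'])
  have key := EulerSS.length_mid (K.sc pq).f.hom (K.sc pq).g.hom (K.sc pq).moduleCatToCycles
    (fun x => rfl)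
  have hH : Module.length A (K.homology pq) =
      Module.length A (LinearMap.ker (K.sc pq).g.hom ⧸
        LinearMap.range (K.sc pq).moduleCatToCycles) :=
    ((K.sc pq).moduleCatHomologyIso).toLinearEquiv.length_eq
  have hb1 : Module.length A (LinearMap.range (K.sc pq).f.hom) = bl K (pq - v) pq := by
    show Module.length A (LinearMap.range (K.d ((ComplexShape.up' v).prev pq) pq).hom) = _
    rw [hprev]; rfl
  have hb2 : Module.length A (LinearMap.range (K.sc pq).g.hom) = bl K pq (pq + v) := by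
    show Module.length A (LinearMap.range (K.d pq ((ComplexShape.up' v).next pq)).hom) = _
    rw [hnext]; rfl
  have key' : Module.length A (K.X pq) = _ := key
  rw [key', hH, hb1, hb2]

lemma d_eq_zero_of_bl (i j : ℤ × ℤ) (h : bl K i j = 0) : K.d i j = 0 := by
  haveI : Subsingleton (LinearMap.range (K.d i j).hom) := Module.length_eq_zero_iff.1 h
  ext x
  have h0 := Subsingleton.elim
    (⟨(K.d i j).hom x, ⟨x, rfl⟩⟩ : LinearMap.range (K.d i j).hom) 0
  simpa using congrArg Subtype.val h0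

end Cx

section SS

variable {K : Type u} [Field K] {r₀ : ℤ}
  (E : CohomologicalSpectralSequence (ModuleCat.{w} K) r₀)

/-- length of a term -/
noncomputable def L (r : ℤ) (hr : r₀ ≤ r) (pq : ℤ × ℤ) : ℕ∞ :=
  Module.length K ((E.page r hr).X pq)

lemma L_succ (r : ℤ) (hr : r₀ ≤ r) (pq : ℤ × ℤ) :
    L E r hr pq = L E (r + 1) (Int.le_add_one hr) pq +
      bl (E.page r hr) (pq - (r, 1 - r)) pq + bl (E.page r hr) pq (pq + (r, 1 - r)) := by
  unfold L
  rw [length_X_eq (E.page r hr) pq, ((E.iso r (r + 1) pq rfl hr).toLinearEquiv).length_eq]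

lemma L_le (pq : ℤ × ℤ) (r : ℤ) (hr : r₀ ≤ r) :
    ∀ (r' : ℤ) (hr' : r₀ ≤ r'), r ≤ r' → L E r' hr' pq ≤ L E r hr pq := by
  intro r' hr' hle
  induction r', hle using Int.le_induction with
  | base => exact le_rfl
  | succ k hk ih =>
    have hk' : r₀ ≤ k := hr.trans hk
    refine le_trans ?_ (ih hk')
    rw [L_succ E k hk' pq, add_assoc]
    exact le_self_add

lemma d_zero_of_L_eq (r : ℤ) (hr : r₀ ≤ r) (pq : ℤ × ℤ) (hfin : L E r hr pq ≠ ⊤)
    (h : L E (r + 1) (Int.le_add_one hr) pq = L E r hr pq) :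
    (E.page r hr).d (pq - (r, 1 - r)) pq = 0 ∧ (E.page r hr).d pq (pq + (r, 1 - r)) = 0 := by
  have h1 := L_succ E r hr pq
  rw [h, add_assoc] at h1
  have h2 : bl (E.page r hr) (pq - (r, 1 - r)) pq + bl (E.page r hr) pq (pq + (r, 1 - r)) = 0 := by
    have h3 : L E r hr pq + 0 = L E r hr pq +
        (bl (E.page r hr) (pq - (r, 1 - r)) pq + bl (E.page r hr) pq (pq + (r, 1 - r))) := by
      rw [add_zero]; exact h1
    exact (ENat.add_right_injective_of_ne_top hfin h3).symm
  rw [add_eq_zero] at h2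
  exact ⟨d_eq_zero_of_bl _ _ _ h2.1, d_eq_zero_of_bl _ _ _ h2.2⟩

end SS

section Fil

variable {K : Type u} [Field K] {X : ModuleCat.{w} K} (F : ℤ → Subobject X) (hF : Antitone F)

lemma length_step (p : ℤ) :
    Module.length K ((F p : ModuleCat.{w} K)) =
      Module.length K ((F (p + 1) : ModuleCat.{w} K)) +
        Module.length K (SpSeq.grPiece F hF p : ModuleCat.{w} K) := by
  obtain ⟨m, hm⟩ : ∃ m : (F (p + 1) : ModuleCat.{w} K) ⟶ (F p : ModuleCat.{w} K),
      m = (F (p + 1)).ofLE (F p) (hF (Int.le_add_one le_rfl)) := ⟨_, rfl⟩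
  haveI : Mono m := by rw [hm]; infer_instance
  have hex : (ShortComplex.mk m (cokernel.π m) (cokernel.condition m)).Exact :=
    ShortComplex.exact_cokernel m
  have hinj : Function.Injective m.hom := (ModuleCat.mono_iff_injective m).1 inferInstance
  have hsurj : Function.Surjective (cokernel.π m).hom :=
    (ModuleCat.epi_iff_surjective _).1 inferInstance
  have hfe : Function.Exact m.hom (cokernel.π m).hom :=
    (ShortComplex.ShortExact.moduleCat_exact_iff_function_exact _).1 hex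
  have := Module.length_eq_add_of_exact m.hom (cokernel.π m).hom hinj hsurj hfe
  subst hm
  exact this

lemma length_sum (k : ℕ) (A₀ : ℤ) :
    Module.length K ((F A₀ : ModuleCat.{w} K)) =
      Module.length K ((F (A₀ + k) : ModuleCat.{w} K)) +
        ∑ i ∈ Finset.range k,
          Module.length K (SpSeq.grPiece F hF (A₀ + i) : ModuleCat.{w} K) := by
  induction k with
  | zero =>
    have e : A₀ + ((0 : ℕ) : ℤ) = A₀ := by simp
    rw [e]
    simp
  | succ k ih =>
    have e : A₀ + ((k + 1 : ℕ) : ℤ) = A₀ + k + 1 := by push_cast; ring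
    rw [ih, Finset.sum_range_succ, length_step F hF (A₀ + k), e]
    ring

end Fil


theorem main {K : Type u} [Field K] {r₀ : ℤ}
    (E : CohomologicalSpectralSequence (ModuleCat.{w} K) r₀) (H : ℤ → ModuleCat.{w} K)
    (a : SpSeq.Abutment E H) (n : ℤ) (hfin : a.IsFinite n)
    (hquad : ∀ pq : ℤ × ℤ, pq.1 < 0 ∨ pq.2 < 0 → IsZero ((E.page r₀ le_rfl).X pq))
    (hfd : ∀ pq : ℤ × ℤ, Module.Finite K ((E.page r₀ le_rfl).X pq))
    (hH : Module.Finite K (H n))
    (hsum : ∑ s ∈ Finset.Icc (0 : ℤ) n, Module.finrank K ((E.page r₀ le_rfl).X (s, n - s)) =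
      Module.finrank K (H n)) :
    ∀ s : ℤ, SpSeq.StationaryAt E (s, n - s) r₀ := by
  have hLr₀ : ∀ pq, L E r₀ le_rfl pq = (Module.finrank K ((E.page r₀ le_rfl).X pq) : ℕ∞) := by
    intro pq
    haveI := hfd pq
    unfold L
    rw [Module.length_eq_finrank]
  have hLfin : ∀ pq, L E r₀ le_rfl pq ≠ ⊤ := by
    intro pq
    rw [hLr₀]
    exact ENat.coe_ne_top _
  have hzero : ∀ pq : ℤ × ℤ, (pq.1 < 0 ∨ pq.2 < 0) → ∀ (r : ℤ) (hr : r₀ ≤ r),
      IsZero ((E.page r hr).X pq) :=
    fun pq h r hr => SpSeqOne.isZero_page_of_le E pq r₀ le_rfl (hquad pq h) r hr hr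
  have hgrL : ∀ s, Module.length K (SpSeq.grPiece (a.fil n) (a.anti n) s : ModuleCat.{w} K) =
      L E (a.rk (s, n - s)) (a.stat _).1 (s, n - s) := by
    intro s
    exact ((SpSeqOne.β' a (s, n - s) n (by simp)).toLinearEquiv).length_eq.symm
  obtain ⟨⟨A₁, hA₁⟩, ⟨B₁, hB₁⟩⟩ := hfin
  have hA₁' : a.fil n A₁ = ⊤ := hA₁
  have hB₁' : a.fil n B₁ = ⊥ := hB₁
  obtain ⟨A₀, hA₀⟩ : ∃ A₀, A₀ = min A₁ 0 := ⟨_, rfl⟩
  obtain ⟨k, hk⟩ : ∃ k : ℕ, k = (max B₁ (n + 1) - A₀).toNat := ⟨_, rfl⟩
  have hA₀le : A₀ ≤ 0 := by rw [hA₀]; exact min_le_right _ _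
  have hktop : n + 1 ≤ A₀ + k := by
    rw [hk]
    have := le_max_right B₁ (n + 1)
    omega
  have htop : a.fil n A₀ = ⊤ := by
    apply top_le_iff.1
    rw [← hA₁']
    exact a.anti n (by rw [hA₀]; exact min_le_left _ _)
  have hbot : a.fil n (A₀ + k) = ⊥ := by
    apply le_bot_iff.1
    rw [← hB₁']
    exact a.anti n (by
      rw [hk]
      have := le_max_left B₁ (n + 1)
      omega)
  have hlen := length_sum (a.fil n) (a.anti n) k A₀
  have h1 : Module.length K ((a.fil n A₀ : ModuleCat.{w} K)) = Module.length K (H n) := by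
    haveI : IsIso (a.fil n A₀).arrow := (Subobject.isIso_arrow_iff_eq_top _).2 htop
    exact ((asIso (a.fil n A₀).arrow).toLinearEquiv).length_eq
  have h2 : Module.length K ((a.fil n (A₀ + k) : ModuleCat.{w} K)) = 0 := by
    rw [Module.length_eq_zero_iff]
    apply ModuleCat.subsingleton_of_isZero
    rw [hbot]
    exact IsZero.of_iso (isZero_zero _) Subobject.botCoeIsoZero
  rw [h1, h2, zero_add] at hlen
  -- the two families
  obtain ⟨m, hm⟩ : ∃ m : ℤ → ℕ∞, m = fun s =>
      L E (a.rk (s, n - s)) (a.stat _).1 (s, n - s) := ⟨_, rfl⟩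
  have hm_le : ∀ s, m s ≤ L E r₀ le_rfl (s, n - s) := by
    intro s
    rw [hm]
    exact L_le E _ r₀ le_rfl _ _ (a.stat (s, n - s)).1
  have hm_zero : ∀ s, s ∉ Finset.Icc (0 : ℤ) n → m s = 0 := by
    intro s hs
    have h0 : s < 0 ∨ n - s < 0 := by
      rw [Finset.mem_Icc] at hs
      omega
    rw [hm]
    show Module.length K _ = 0
    rw [Module.length_eq_zero_iff]
    exact ModuleCat.subsingleton_of_isZero (hzero (s, n - s) h0 _ _)
  have hsum1 : Module.length K (H n) = ∑ s ∈ Finset.Icc (0 : ℤ) n, m s := by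
    rw [hlen]
    have e1 : ∑ i ∈ Finset.range k,
        Module.length K (SpSeq.grPiece (a.fil n) (a.anti n) (A₀ + i) : ModuleCat.{w} K) =
        ∑ i ∈ Finset.range k, m (A₀ + (i : ℤ)) := by
      refine Finset.sum_congr rfl (fun i _ => ?_)
      rw [hgrL, hm]
    rw [e1]
    have e2 : ∑ i ∈ Finset.range k, m (A₀ + (i : ℤ)) =
        ∑ s ∈ (Finset.range k).image (fun i : ℕ => A₀ + (i : ℤ)), m s := by
      rw [Finset.sum_image]
      intro i _ j _ hij
      have : (i : ℤ) = j := by linarith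
      exact_mod_cast this
    rw [e2]
    symm
    refine Finset.sum_subset ?_ (fun s _ hs => hm_zero s hs)
    intro s hs
    rw [Finset.mem_Icc] at hs
    rw [Finset.mem_image]
    refine ⟨(s - A₀).toNat, ?_, ?_⟩
    · rw [Finset.mem_range]
      omega
    · omega
  have hsum2 : (∑ s ∈ Finset.Icc (0 : ℤ) n, m s) =
      ∑ s ∈ Finset.Icc (0 : ℤ) n, L E r₀ le_rfl (s, n - s) := by
    rw [← hsum1, Module.length_eq_finrank, ← hsum, Nat.cast_sum]
    refine Finset.sum_congr rfl (fun s _ => ?_)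
    rw [hLr₀]
  have hm_eq : ∀ s ∈ Finset.Icc (0 : ℤ) n, m s = L E r₀ le_rfl (s, n - s) := by
    have hmfin : ∀ s, m s ≠ ⊤ := fun s => ne_top_of_le_ne_top (hLfin _) (hm_le s)
    have hcast1 : ∀ s, m s = ((m s).toNat : ℕ∞) := fun s => (ENat.coe_toNat (hmfin s)).symm
    have hcast2 : ∀ s, L E r₀ le_rfl (s, n - s) = ((L E r₀ le_rfl (s, n - s)).toNat : ℕ∞) :=
      fun s => (ENat.coe_toNat (hLfin _)).symm
    have hle' : ∀ s ∈ Finset.Icc (0 : ℤ) n,
        (m s).toNat ≤ (L E r₀ le_rfl (s, n - s)).toNat := by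
      intro s _
      exact ENat.toNat_le_toNat (hm_le s) (hLfin _)
    have hsum3 : ∑ s ∈ Finset.Icc (0 : ℤ) n, (m s).toNat =
        ∑ s ∈ Finset.Icc (0 : ℤ) n, (L E r₀ le_rfl (s, n - s)).toNat := by
      have h3 : ((∑ s ∈ Finset.Icc (0 : ℤ) n, (m s).toNat : ℕ) : ℕ∞) =
          ((∑ s ∈ Finset.Icc (0 : ℤ) n, (L E r₀ le_rfl (s, n - s)).toNat : ℕ) : ℕ∞) := by
        rw [Nat.cast_sum, Nat.cast_sum]
        calc ∑ s ∈ Finset.Icc (0 : ℤ) n, ((m s).toNat : ℕ∞)
            = ∑ s ∈ Finset.Icc (0 : ℤ) n, m s :=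
              Finset.sum_congr rfl (fun s _ => (hcast1 s).symm)
          _ = ∑ s ∈ Finset.Icc (0 : ℤ) n, L E r₀ le_rfl (s, n - s) := hsum2
          _ = _ := Finset.sum_congr rfl (fun s _ => hcast2 s)
      exact_mod_cast h3
    intro s hs
    have := (Finset.sum_eq_sum_iff_of_le hle').1 hsum3 s hs
    rw [hcast1 s, hcast2 s, this]
  -- conclusion
  intro s
  refine ⟨le_rfl, fun r hr _ => ?_⟩
  by_cases hs : s ∈ Finset.Icc (0 : ℤ) n
  · rcases lt_or_ge r (a.rk (s, n - s)) with hlt | hge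
    · have hrk : r₀ ≤ a.rk (s, n - s) := (a.stat (s, n - s)).1
      have e1 : L E (a.rk (s, n - s)) hrk (s, n - s) = L E r₀ le_rfl (s, n - s) := by
        have := hm_eq s hs
        rw [hm] at this
        exact this
      have c1 : L E (a.rk (s, n - s)) hrk (s, n - s) ≤ L E (r + 1) (Int.le_add_one hr) (s, n - s) :=
        L_le E _ (r + 1) _ _ _ (by omega)
      have c2 : L E (r + 1) (Int.le_add_one hr) (s, n - s) ≤ L E r hr (s, n - s) :=
        L_le E _ r hr _ _ (by omega)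
      have c3 : L E r hr (s, n - s) ≤ L E r₀ le_rfl (s, n - s) := L_le E _ r₀ le_rfl _ _ hr
      have hfin' : L E r hr (s, n - s) ≠ ⊤ := ne_top_of_le_ne_top (hLfin _) c3
      have heq : L E (r + 1) (Int.le_add_one hr) (s, n - s) = L E r hr (s, n - s) :=
        le_antisymm c2 (c3.trans (e1 ▸ c1))
      exact d_zero_of_L_eq E r hr _ hfin' heq
    · exact (a.stat (s, n - s)).2 r hr hge
  · have h0 : s < 0 ∨ n - s < 0 := by
      rw [Finset.mem_Icc] at hs
      omega
    have hz := hzero (s, n - s) h0 r hr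
    exact ⟨hz.eq_of_tgt _ _, hz.eq_of_src _ _⟩

end Groth.Agent.Helper8.SpSeqDim
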