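import Mathlib
import Groth.Prelude.Def_W4c1gvcharpAbut
import Groth.Agent.Helper8.SpSeqOne

set_option autoImplicit false

namespace Groth.Agent.Helper8.SpSeqLine

open CategoryTheory Limits Groth.Agent.Helper8.SpSeqOne

universe v u

variable {C : Type u} [Category.{v} C] [Abelian C]

lemma homologyMap_eq_zero {S₁ S₂ : ShortComplex C} (ψ : S₁ ⟶ S₂) (h : ψ.τ₂ = 0) :
    ShortComplex.homologyMap ψ = 0 := by
  have h1 : ShortComplex.cyclesMap ψ = 0 := by
    rw [← cancel_mono S₂.iCycles, ShortComplex.cyclesMap_i, h, comp_zero, zero_comp]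
  rw [← cancel_epi S₁.homologyπ, comp_zero, ShortComplex.homologyπ_naturality, h1, zero_comp]

lemma mono_cokernel_π_of_bot {Y : C} (B Z : Subobject Y) (h : B ≤ Z) (hB : B = ⊥) :
    Mono (cokernel.π (B.ofLE Z h)) := by
  subst hB
  have h0 : (⊥ : Subobject Y).ofLE Z h = 0 :=
    (IsZero.of_iso (isZero_zero C) Subobject.botCoeIsoZero).eq_of_src _ _
  have h1 : cokernel.π ((⊥ : Subobject Y).ofLE Z h) =
      cokernel.π (0 : ((⊥ : Subobject Y) : C) ⟶ (Z : C)) ≫ (cokernelIsoOfEq h0).inv := by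
    rw [Iso.eq_comp_inv, π_comp_cokernelIsoOfEq_hom]
  rw [h1]
  infer_instance

variable {E E' : E₂CohomologicalSpectralSequence C} (φ : E ⟶ E')

lemma φ_f_eq_zero (pq : ℤ × ℤ) (hφ : (φ.hom 2 le_rfl).f pq = 0) :
    ∀ (r : ℤ) (hr : 2 ≤ r), (φ.hom r hr).f pq = 0 := by
  intro r hr
  induction r, hr using Int.le_induction with
  | base => exact hφ
  | succ k hk ih =>
    have h1 := φ.comm k (k + 1) pq rfl hk
    have h2 : HomologicalComplex.homologyMap (φ.hom k hk) pq = 0 :=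
      homologyMap_eq_zero _ ih
    rw [h2, zero_comp] at h1
    rw [← cancel_epi (E.iso k (k + 1) pq rfl hk).hom, ← h1, comp_zero]

theorem core {H H' : ℤ → C}
    (a : SpSeq.Abutment E H) (a' : SpSeq.Abutment E' H')
    (f : SpSeqMor.AbutHom φ a a') (pq : ℤ × ℤ)
    (ha : a.IsFinite (pq.1 + pq.2)) (ha' : a'.IsFinite (pq.1 + pq.2))
    (hE : ∀ i : ℤ, i < pq.1 → IsZero ((E.page 2 le_rfl).X (i, pq.1 + pq.2 - i)))
    (hE' : ∀ i : ℤ, pq.1 < i → IsZero ((E'.page 2 le_rfl).X (i, pq.1 + pq.2 - i)))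
    (hφ : (φ.hom 2 le_rfl).f pq = 0) :
    f.hom (pq.1 + pq.2) = 0 := by
  obtain ⟨n, hn⟩ : ∃ n, n = pq.1 + pq.2 := ⟨_, rfl⟩
  obtain ⟨p, hp⟩ : ∃ p, p = pq.1 := ⟨_, rfl⟩
  -- graded pieces vanish
  have hgr : ∀ i, i < pq.1 → IsZero (SpSeq.grPiece (a.fil (pq.1 + pq.2)) (a.anti _) i) := by
    intro i hi
    have h1 : IsZero ((E.page (a.rk (i, pq.1 + pq.2 - i)) (a.stat _).1).X
        (i, pq.1 + pq.2 - i)) :=
      isZero_page_of_le E _ 2 le_rfl (hE i hi) _ _ (a.stat _).1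
    exact IsZero.of_iso h1 (β' a (i, pq.1 + pq.2 - i) (pq.1 + pq.2) (by simp)).symm
  have hgr' : ∀ i, pq.1 < i → IsZero (SpSeq.grPiece (a'.fil (pq.1 + pq.2)) (a'.anti _) i) := by
    intro i hi
    have h1 : IsZero ((E'.page (a'.rk (i, pq.1 + pq.2 - i)) (a'.stat _).1).X
        (i, pq.1 + pq.2 - i)) :=
      isZero_page_of_le E' _ 2 le_rfl (hE' i hi) _ _ (a'.stat _).1
    exact IsZero.of_iso h1 (β' a' (i, pq.1 + pq.2 - i) (pq.1 + pq.2) (by simp)).symm
  have hstep : ∀ i, i < pq.1 → a.fil (pq.1 + pq.2) i ≤ a.fil (pq.1 + pq.2) (i + 1) :=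
    fun i hi => le_of_isZero_cokernel_ofLE _ _ _ (hgr i hi)
  have hstep' : ∀ i, pq.1 < i → a'.fil (pq.1 + pq.2) i ≤ a'.fil (pq.1 + pq.2) (i + 1) :=
    fun i hi => le_of_isZero_cokernel_ofLE _ _ _ (hgr' i hi)
  -- F p = ⊤
  have htop : a.fil (pq.1 + pq.2) pq.1 = ⊤ := by
    obtain ⟨a₁, ha₁⟩ := ha.1
    have hchain : ∀ (k : ℕ) (i : ℤ), i + k = pq.1 →
        a.fil (pq.1 + pq.2) i ≤ a.fil (pq.1 + pq.2) pq.1 := by
      intro k
      induction k with
      | zero =>
        intro i hi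
        have : i = pq.1 := by simpa using hi
        rw [this]
      | succ k ih =>
        intro i hi
        exact (hstep i (by push_cast at hi; omega)).trans
          (ih (i + 1) (by push_cast at hi ⊢; omega))
    apply top_le_iff.1
    rcases le_total a₁ pq.1 with h | h
    · have := hchain (pq.1 - a₁).toNat a₁ (by omega)
      rw [show a.fil (pq.1 + pq.2) a₁ = ⊤ from ha₁] at this
      exact this
    · have := a.anti (pq.1 + pq.2) h
      rw [show a.fil (pq.1 + pq.2) a₁ = ⊤ from ha₁] at this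
      exact this
  -- F' (p+1) = ⊥
  have hbot : a'.fil (pq.1 + pq.2) (pq.1 + 1) = ⊥ := by
    obtain ⟨b, hb⟩ := ha'.2
    have hb' : a'.fil (pq.1 + pq.2) b = ⊥ := hb
    have hchain : ∀ (k : ℕ) (i : ℤ), pq.1 < i → b ≤ i + k → a'.fil (pq.1 + pq.2) i = ⊥ := by
      intro k
      induction k with
      | zero =>
        intro i _ hi
        have := a'.anti (pq.1 + pq.2) (show b ≤ i by simpa using hi)
        rw [hb'] at this
        exact le_bot_iff.1 this
      | succ k ih =>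
        intro i hi hik
        have h1 := hstep' i hi
        rw [ih (i + 1) (by omega) (by push_cast at hik ⊢; omega)] at h1
        exact le_bot_iff.1 h1
    exact hchain (b - (pq.1 + 1)).toNat (pq.1 + 1) (by omega) (by omega)
  -- gr map zero
  have hφr := φ_f_eq_zero φ pq hφ
  have hgrf : (f.fil (pq.1 + pq.2)).gr pq.1 = 0 := by
    have h2 : (2 : ℤ) ≤ a.rk pq := (a.stat pq).1
    have h2' : (2 : ℤ) ≤ a'.rk pq := (a'.stat pq).1
    have hc := f.comm pq (a'.rk pq - 2).toNat (a.rk pq - 2).toNat (by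
      rw [Int.toNat_of_nonneg (by omega), Int.toNat_of_nonneg (by omega)]
      ring)
    rw [hφr, zero_comp, comp_zero, comp_zero] at hc
    exact (cancel_epi (a.β pq).hom).1 (hc.trans comp_zero.symm)
  -- conclusion
  have hlift : (f.fil (pq.1 + pq.2)).lift pq.1 = 0 := by
    haveI := mono_cokernel_π_of_bot _ _
      ((a'.filObj (pq.1 + pq.2)).anti (Int.le_add_one (le_refl pq.1))) hbot
    have h1 : (f.fil (pq.1 + pq.2)).lift pq.1 ≫ cokernel.π
        ((a'.filObj (pq.1 + pq.2)).stepLE (Int.le_add_one (le_refl pq.1))) = 0 := by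
      have h2 : cokernel.π ((a.filObj (pq.1 + pq.2)).stepLE (Int.le_add_one (le_refl pq.1))) ≫
          (f.fil (pq.1 + pq.2)).gr pq.1 = (f.fil (pq.1 + pq.2)).lift pq.1 ≫ cokernel.π
        ((a'.filObj (pq.1 + pq.2)).stepLE (Int.le_add_one (le_refl pq.1))) := by
        unfold SpSeqMor.FilLift.gr
        exact cokernel.π_desc _ _ _
      rw [← h2, hgrf]
      exact comp_zero
    exact (cancel_mono _).1 (h1.trans zero_comp.symm)
  have harrow := (f.fil (pq.1 + pq.2)).lift_arrow pq.1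
  rw [hlift, zero_comp] at harrow
  haveI : IsIso ((a.filObj (pq.1 + pq.2)).fil pq.1).arrow :=
    (Subobject.isIso_arrow_iff_eq_top _).2 htop
  exact (cancel_epi ((a.filObj (pq.1 + pq.2)).fil pq.1).arrow).1 (harrow.symm.trans comp_zero.symm)

theorem main (C : Type u) [Category.{v} C] [Abelian C]
    (E E' : E₂CohomologicalSpectralSequence C) (φ : E ⟶ E') (H H' : ℤ → C)
    (a : SpSeq.Abutment E H) (a' : SpSeq.Abutment E' H')
    (ha : ∀ n : ℤ, a.IsFinite n) (ha' : ∀ n : ℤ, a'.IsFinite n)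
    (f : SpSeqMor.AbutHom φ a a') (l a₀ : ℤ)
    (hE : ∀ i : ℤ, i < a₀ → IsZero ((E.page 2 le_rfl).X (i, l - i)))
    (hE' : ∀ i : ℤ, a₀ < i → IsZero ((E'.page 2 le_rfl).X (i, l - i)))
    (hφ : (φ.hom 2 le_rfl).f (a₀, l - a₀) = 0) :
    f.hom l = 0 := by
  have key : ∀ m, m = l → f.hom m = 0 → f.hom l = 0 := by
    rintro m rfl h
    exact h
  refine key (a₀ + (l - a₀)) (by ring) ?_
  have e : a₀ + (l - a₀) = l := by ring
  refine core φ a a' f (a₀, l - a₀) (ha _) (ha' _) ?_ ?_ hφ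
  · intro i hi
    show IsZero ((E.page 2 le_rfl).X (i, a₀ + (l - a₀) - i))
    rw [e]
    exact hE i hi
  · intro i hi
    show IsZero ((E'.page 2 le_rfl).X (i, a₀ + (l - a₀) - i))
    rw [e]
    exact hE' i hi

end Groth.Agent.Helper8.SpSeqLine
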