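import Mathlib
import Groth.Prelude.Def_QuadGrp
set_option autoImplicit false
universe u

namespace Groth.Agent.Helper8.SplitCliff
open QuadGrp

section Abstract
variable {A : Type*} [Ring A] {m : ℕ} (f : Fin m → Fin 2 → A)
  (R1 : ∀ i c, f i c * f i c = 0)
  (R2 : ∀ i, f i 0 * f i 1 + f i 1 * f i 0 = 1)
  (R3 : ∀ i k c d, i ≠ k → f i c * f k d = -(f k d * f i c))

def u (i : Fin m) : A := 1 - (f i 0 * f i 1 + f i 0 * f i 1)

include R1 R2 in
theorem aba (i : Fin m) : f i 0 * f i 1 * f i 0 = f i 0 := by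
  have h : f i 1 * f i 0 = 1 - f i 0 * f i 1 := eq_sub_of_add_eq' (R2 i)
  rw [mul_assoc, h, mul_sub, mul_one, ← mul_assoc, R1, zero_mul, sub_zero]

include R1 R2 in
theorem bab (i : Fin m) : f i 1 * (f i 0 * f i 1) = f i 1 := by
  have h : f i 1 * f i 0 = 1 - f i 0 * f i 1 := eq_sub_of_add_eq' (R2 i)
  rw [← mul_assoc, h, sub_mul, one_mul, mul_assoc, R1, mul_zero, sub_zero]

include R1 R2 in
theorem anti_u (i : Fin m) (c : Fin 2) : f i c * u f i = -(u f i * f i c) := by
  have h1 : f i 0 * (f i 0 * f i 1) = 0 := by rw [← mul_assoc, R1, zero_mul]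
  have h2 : f i 0 * f i 1 * f i 1 = 0 := by rw [mul_assoc, R1, mul_zero]
  fin_cases c
  · simp only [u, Fin.zero_eta, Fin.isValue]
    rw [mul_sub, sub_mul, mul_one, one_mul, mul_add, add_mul, h1, aba f R1 R2]
    abel
  · simp only [u, Fin.mk_one, Fin.isValue]
    rw [mul_sub, sub_mul, mul_one, one_mul, mul_add, add_mul, h2, bab f R1 R2]
    abel

include R3 in
theorem comm_u (i k : Fin m) (d : Fin 2) (h : k ≠ i) : f k d * u f i = u f i * f k d := by
  have h1 : f k d * (f i 0 * f i 1) = f i 0 * f i 1 * f k d := by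
    rw [← mul_assoc, R3 k i d 0 h, neg_mul, mul_assoc, R3 k i d 1 h, mul_neg, neg_neg, mul_assoc]
  rw [u, mul_sub, sub_mul, mul_one, one_mul, mul_add, add_mul, h1]

include R1 R2 in
theorem u_sq (i : Fin m) : u f i * u f i = 1 := by
  have h : (f i 0 * f i 1) * (f i 0 * f i 1) = f i 0 * f i 1 := by
    rw [← mul_assoc, aba f R1 R2]
  rw [u]
  generalize f i 0 * f i 1 = x at h ⊢
  have : (1 - (x + x)) * (1 - (x + x)) = 1 - (x + x) - (x + x) + (x * x + x * x + (x * x + x * x)) := by
    noncomm_ring
  rw [this, h]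
  abel

def W (l : List (Fin m)) : A := (l.map (u f)).prod

include R1 R2 R3 in
theorem main_list (l : List (Fin m)) (hl : l.Nodup) :
    W f l * W f l = 1 ∧ (∀ k c, k ∈ l → f k c * W f l = -(W f l * f k c)) ∧
      (∀ k c, k ∉ l → f k c * W f l = W f l * f k c) := by
  induction l with
  | nil => simp [W]
  | cons i l ih =>
    rw [List.nodup_cons] at hl
    obtain ⟨hil, hl⟩ := hl
    obtain ⟨ih1, ih2, ih3⟩ := ih hl
    have hW : W f (i :: l) = u f i * W f l := by simp [W]
    have hcomm : u f i * W f l = W f l * u f i := by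
      have h1 : (f i 0 * f i 1) * W f l = W f l * (f i 0 * f i 1) := by
        rw [mul_assoc, ih3 i 1 hil, ← mul_assoc, ih3 i 0 hil, mul_assoc]
      rw [u, mul_sub, sub_mul, mul_one, one_mul, mul_add, add_mul, h1]
    refine ⟨?_, ?_, ?_⟩
    · rw [hW, mul_assoc, ← mul_assoc (W f l), ← hcomm, mul_assoc, ih1, mul_one, u_sq f R1 R2]
    · intro k c hk
      rw [hW]
      rcases List.mem_cons.1 hk with rfl | hk
      · rw [← mul_assoc, anti_u f R1 R2, neg_mul, mul_assoc, ih3 k c hil, mul_assoc]
      · have hki : k ≠ i := fun h => hil (h ▸ hk)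
        rw [← mul_assoc, comm_u f R3 i k c hki, mul_assoc, ih2 k c hk, mul_neg, mul_assoc]
    · intro k c hk
      rw [hW]
      rw [List.mem_cons, not_or] at hk
      rw [← mul_assoc, comm_u f R3 i k c hk.1, mul_assoc, ih3 k c hk.2, mul_assoc]

include R1 R2 R3 in
theorem main_abstract :
    W f (List.finRange m) * W f (List.finRange m) = 1 ∧
      ∀ k c, f k c * W f (List.finRange m) = -(W f (List.finRange m) * f k c) := by
  obtain ⟨h1, h2, -⟩ := main_list f R1 R2 R3 (List.finRange m) (List.nodup_finRange m)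
  exact ⟨h1, fun k c => h2 k c (List.mem_finRange k)⟩

end Abstract

theorem splitForm_even_apply (R : Type u) [CommRing R] (m : ℕ) (x : Fin (m * 2) → R) :
    QuadGrp.splitForm R (m * 2) x =
      ∑ k : Fin m, x (finProdFinEquiv (k, 0)) * x (finProdFinEquiv (k, 1)) := by
  have h2 : ¬ ((m * 2) % 2 = 1) := by omega
  have hm : m * 2 / 2 = m := by omega
  rw [splitForm, dif_neg h2, add_zero, QuadraticMap.sum_apply]
  refine Fintype.sum_equiv (finCongr hm) _ _ (fun i => ?_)
  rw [QuadraticMap.linMulLin_apply, LinearMap.proj_apply, LinearMap.proj_apply]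
  congr 2
  · apply Fin.ext
    simp [finProdFinEquiv]
  · apply Fin.ext
    simp [finProdFinEquiv]
    omega

theorem Q_single (R : Type u) [CommRing R] (m : ℕ) (j : Fin (m * 2)) :
    QuadGrp.splitForm R (m * 2) (Pi.single j 1) = 0 := by
  rw [splitForm_even_apply]
  apply Finset.sum_eq_zero
  intro k _
  by_cases h : finProdFinEquiv (k, (0 : Fin 2)) = j
  · have h' : finProdFinEquiv (k, (1 : Fin 2)) ≠ j := by
      rw [← h]
      intro h''
      have := finProdFinEquiv.injective h''
      simp at this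
    rw [Pi.single_eq_of_ne h', mul_zero]
  · rw [Pi.single_eq_of_ne h, zero_mul]

theorem polar_formula (R : Type u) [CommRing R] (m : ℕ) (a b : Fin (m * 2) → R) :
    QuadraticMap.polar (QuadGrp.splitForm R (m * 2)) a b =
      ∑ k : Fin m, (a (finProdFinEquiv (k, 0)) * b (finProdFinEquiv (k, 1)) +
        b (finProdFinEquiv (k, 0)) * a (finProdFinEquiv (k, 1))) := by
  rw [QuadraticMap.polar, splitForm_even_apply, splitForm_even_apply, splitForm_even_apply,
    ← Finset.sum_sub_distrib, ← Finset.sum_sub_distrib]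
  apply Finset.sum_congr rfl
  intro k _
  simp only [Pi.add_apply]
  ring

theorem polar_pair (R : Type u) [CommRing R] (m : ℕ) (k : Fin m) :
    QuadraticMap.polar (QuadGrp.splitForm R (m * 2)) (Pi.single (finProdFinEquiv (k, (0 : Fin 2))) 1)
      (Pi.single (finProdFinEquiv (k, (1 : Fin 2))) 1) = 1 := by
  rw [polar_formula, Finset.sum_eq_single k]
  · have h : finProdFinEquiv (k, (1 : Fin 2)) ≠ finProdFinEquiv (k, (0 : Fin 2)) := by
      intro h''
      have := finProdFinEquiv.injective h''
      simp at this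
    rw [Pi.single_eq_same, Pi.single_eq_same, Pi.single_eq_of_ne h, mul_zero, mul_one, add_zero]
  · intro k' _ hk'
    have h0 : finProdFinEquiv (k', (0 : Fin 2)) ≠ finProdFinEquiv (k, (0 : Fin 2)) := by
      intro h''
      have := finProdFinEquiv.injective h''
      simp at this
      exact hk' this
    have h1 : finProdFinEquiv (k', (0 : Fin 2)) ≠ finProdFinEquiv (k, (1 : Fin 2)) := by
      intro h''
      have := finProdFinEquiv.injective h''
      simp at this
    rw [Pi.single_eq_of_ne h0, Pi.single_eq_of_ne h1, zero_mul, zero_mul, add_zero]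
  · intro h; exact absurd (Finset.mem_univ k) h

theorem polar_ne (R : Type u) [CommRing R] (m : ℕ) (k k' : Fin m) (c d : Fin 2) (h : k ≠ k') :
    QuadraticMap.polar (QuadGrp.splitForm R (m * 2)) (Pi.single (finProdFinEquiv (k, c)) 1)
      (Pi.single (finProdFinEquiv (k', d)) 1) = 0 := by
  rw [polar_formula]
  apply Finset.sum_eq_zero
  intro i _
  have key : ∀ (c' d' e' f' : Fin 2), (Pi.single (finProdFinEquiv (k, c')) (1 : R) : Fin (m * 2) → R)
      (finProdFinEquiv (i, e')) *
      (Pi.single (finProdFinEquiv (k', d')) (1 : R) : Fin (m * 2) → R) (finProdFinEquiv (i, f')) = 0 := by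
    intro c' d' e' f'
    by_cases hik : i = k
    · have : finProdFinEquiv (i, f') ≠ finProdFinEquiv (k', d') := by
        intro h''
        have := finProdFinEquiv.injective h''
        simp only [Prod.mk.injEq] at this
        exact h (hik.symm.trans this.1)
      rw [Pi.single_eq_of_ne this, mul_zero]
    · have : finProdFinEquiv (i, e') ≠ finProdFinEquiv (k, c') := by
        intro h''
        have := finProdFinEquiv.injective h''
        simp only [Prod.mk.injEq] at this
        exact hik this.1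
      rw [Pi.single_eq_of_ne this, zero_mul]
  rw [key, mul_comm, key, add_zero]


theorem main (R : Type u) [CommRing R] (m : ℕ) :
    let Q := QuadGrp.splitForm R (m * 2)
    let e : Fin (m * 2) → CliffordAlgebra Q := fun j => CliffordAlgebra.ι Q (Pi.single j 1)
    let w : CliffordAlgebra Q :=
      ((List.finRange m).map fun i => 1 - 2 * (e (finProdFinEquiv (i, 0)) * e (finProdFinEquiv (i, 1)))).prod
    w * w = 1 ∧ ∀ j : Fin (m * 2), e j * w = -(w * e j) := by
  intro Q e w
  let f : Fin m → Fin 2 → CliffordAlgebra Q := fun k c => e (finProdFinEquiv (k, c))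
  have R1 : ∀ i c, f i c * f i c = 0 := by
    intro i c
    change CliffordAlgebra.ι Q _ * CliffordAlgebra.ι Q _ = 0
    rw [CliffordAlgebra.ι_sq_scalar, Q_single, map_zero]
  have R2 : ∀ i, f i 0 * f i 1 + f i 1 * f i 0 = 1 := by
    intro i
    change CliffordAlgebra.ι Q _ * CliffordAlgebra.ι Q _ + CliffordAlgebra.ι Q _ * CliffordAlgebra.ι Q _ = 1
    rw [CliffordAlgebra.ι_mul_ι_add_swap, polar_pair, map_one]
  have R3 : ∀ i k c d, i ≠ k → f i c * f k d = -(f k d * f i c) := by
    intro i k c d h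
    apply eq_neg_of_add_eq_zero_left
    change CliffordAlgebra.ι Q _ * CliffordAlgebra.ι Q _ + CliffordAlgebra.ι Q _ * CliffordAlgebra.ι Q _ = 0
    rw [CliffordAlgebra.ι_mul_ι_add_swap, polar_ne R m i k c d h, map_zero]
  have hw : w = W f (List.finRange m) := by
    change (List.map _ _).prod = (List.map _ _).prod
    congr 1
    apply List.map_congr_left
    intro i _
    rw [u, two_mul]
  obtain ⟨h1, h2⟩ := main_abstract f R1 R2 R3
  rw [hw]
  refine ⟨h1, fun j => ?_⟩
  obtain ⟨⟨k, c⟩, rfl⟩ := finProdFinEquiv.surjective j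
  exact h2 k c

end Groth.Agent.Helper8.SplitCliff
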