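import Groth.Agent.Helper8.SplitTower
import Groth.Prelude.Def_Mor2

/-!
# Finite morphisms to an affine scheme: covering by sections after a finite locally free base change
-/

namespace Groth.Agent.Helper8.SplitCover

open CategoryTheory CategoryTheory.Limits AlgebraicGeometry

universe u

lemma finLocFree_Spec {A A' : Type u} [CommRing A] [CommRing A'] [Algebra A A'] [Module.Free A A']
    [Module.Finite A A'] :
    Mor2.IsFinLocFree (Spec.map (CommRingCat.ofHom (algebraMap A A'))) := by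
  refine ⟨?_, ?_, ?_⟩
  · rw [IsFinite.SpecMap_iff]
    exact RingHom.finite_algebraMap.mpr inferInstance
  · rw [Flat.SpecMap_iff]
    exact RingHom.flat_algebraMap_iff.mpr inferInstance
  · rw [LocallyOfFinitePresentation.SpecMap_iff]
    haveI : Module.FinitePresentation A A' := Module.finitePresentation_of_projective A A'
    exact RingHom.finitePresentation_algebraMap.mpr
      (Algebra.FinitePresentation.of_finitePresentation (R := A) (S := A'))

lemma finLocFree_comp_iso {X Y Z : Scheme.{u}} (f : X ⟶ Y) (g : Y ⟶ Z) [IsIso g]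
    (h : Mor2.IsFinLocFree f) : Mor2.IsFinLocFree (f ≫ g) := by
  obtain ⟨h1, h2, h3⟩ := h
  exact ⟨inferInstance, inferInstance, inferInstance⟩

lemma finLocFree_snd {X Y Z : Scheme.{u}} (f : X ⟶ Z) (g : Y ⟶ Z)
    (h : Mor2.IsFinLocFree f) : Mor2.IsFinLocFree (pullback.snd f g) := by
  obtain ⟨h1, h2, h3⟩ := h
  exact ⟨inferInstance, inferInstance, inferInstance⟩

theorem cover {X Y : Scheme.{u}} [IsAffine X] (f : Y ⟶ X) [IsFinite f] :
    ∃ (X' : Scheme.{u}) (b : X' ⟶ X) (Z' : Scheme.{u}) (c : Z' ⟶ X') (i : pullback f b ⟶ Z'),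
      Mor2.IsFinLocFree b ∧ Surjective b ∧ Mor2.IsFinLocFree c ∧ IsClosedImmersion i ∧
      i ≫ c = pullback.snd f b ∧
      ∃ (m : ℕ) (Zj : Fin m → Scheme.{u}) (ιj : ∀ j, Zj j ⟶ Z'),
        (∀ j, IsClosedImmersion (ιj j)) ∧ (∀ j, IsIso (ιj j ≫ c)) ∧
        (⋃ j, Set.range (ιj j).base) = Set.univ := by
  haveI : IsAffine Y := isAffine_of_isAffineHom f
  letI : Algebra Γ(X, ⊤) Γ(Y, ⊤) := f.appTop.hom.toAlgebra
  haveI : Module.Finite Γ(X, ⊤) Γ(Y, ⊤) := f.finite_appTop
  obtain ⟨T, instT, instAlgT, hfreeT, hfinT, ψ, hψ, A', instA', instAlgA', hfree', hfin', hinj', m, τ,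
    hcov⟩ := SplitTower.main Γ(X, ⊤) Γ(Y, ⊤)
  -- the schemes and morphisms
  let g0 : Spec (.of T) ⟶ Spec Γ(X, ⊤) := Spec.map (CommRingCat.ofHom (algebraMap Γ(X, ⊤) T))
  let b0 : Spec (.of A') ⟶ Spec Γ(X, ⊤) := Spec.map (CommRingCat.ofHom (algebraMap Γ(X, ⊤) A'))
  let g : Spec (.of T) ⟶ X := g0 ≫ X.isoSpec.inv
  let b : Spec (.of A') ⟶ X := b0 ≫ X.isoSpec.inv
  let j : Y ⟶ Spec (.of T) := Y.isoSpec.hom ≫ Spec.map (CommRingCat.ofHom ψ.toRingHom)
  have hψalg : CommRingCat.ofHom (algebraMap Γ(X, ⊤) T) ≫ CommRingCat.ofHom ψ.toRingHom =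
      f.appTop := by
    ext a
    exact ψ.commutes a
  have hj : j ≫ g = f := by
    show (Y.isoSpec.hom ≫ Spec.map (CommRingCat.ofHom ψ.toRingHom)) ≫
      Spec.map (CommRingCat.ofHom (algebraMap Γ(X, ⊤) T)) ≫ X.isoSpec.inv = f
    rw [Category.assoc, ← Spec.map_comp_assoc, hψalg, Scheme.isoSpec_hom_naturality_assoc,
      Iso.hom_inv_id, Category.comp_id]
  haveI hjcl : IsClosedImmersion j := by
    haveI : IsClosedImmersion (Spec.map (CommRingCat.ofHom ψ.toRingHom)) :=
      IsClosedImmersion.spec_of_surjective _ hψ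
    infer_instance
  have hg : Mor2.IsFinLocFree g := finLocFree_comp_iso _ _ finLocFree_Spec
  have hb : Mor2.IsFinLocFree b := finLocFree_comp_iso _ _ finLocFree_Spec
  have hbsurj : Surjective b := by
    haveI : Surjective b0 := by
      constructor
      have hint : (algebraMap Γ(X, ⊤) A').IsIntegral :=
        RingHom.IsIntegral.of_finite (RingHom.finite_algebraMap.mpr hfin')
      exact hint.comap_surjective hinj'
    infer_instance
  -- sections
  let σ : Fin m → (Spec (.of A') ⟶ Spec (.of T)) := fun k =>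
    Spec.map (CommRingCat.ofHom (τ k).toRingHom)
  have hσ : ∀ k, σ k ≫ g = 𝟙 _ ≫ b := by
    intro k
    show Spec.map (CommRingCat.ofHom (τ k).toRingHom) ≫
      Spec.map (CommRingCat.ofHom (algebraMap Γ(X, ⊤) T)) ≫ X.isoSpec.inv =
      𝟙 _ ≫ Spec.map (CommRingCat.ofHom (algebraMap Γ(X, ⊤) A')) ≫ X.isoSpec.inv
    rw [Category.id_comp, ← Spec.map_comp_assoc]
    congr 2
    ext a
    exact (τ k).commutes a
  let ι : ∀ k : Fin m, Spec (.of A') ⟶ pullback g b := fun k =>
    pullback.lift (σ k) (𝟙 _) (hσ k)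
  have hι : ∀ k, ι k ≫ pullback.snd g b = 𝟙 _ := fun k => pullback.lift_snd _ _ _
  have hc : Mor2.IsFinLocFree (pullback.snd g b) := finLocFree_snd g b hg
  haveI : IsAffineHom (pullback.snd g b) := by
    haveI := hc.1
    infer_instance
  refine ⟨Spec (.of A'), b, pullback g b, pullback.snd g b,
    pullback.map f b g b j (𝟙 _) (𝟙 _) (by rw [Category.comp_id, hj]) (by simp),
    hb, hbsurj, hc, ?_, ?_, m, fun _ => Spec (.of A'), ι, ?_, ?_, ?_⟩
  · exact MorphismProperty.pullbackMap (P := @IsClosedImmersion) hjcl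
      (inferInstance : IsClosedImmersion (𝟙 (Spec (.of A')))) hj.symm (Category.id_comp b).symm
  · rw [pullback.lift_snd, Category.comp_id]
  · intro k
    haveI : IsClosedImmersion (ι k ≫ pullback.snd g b) := by rw [hι k]; infer_instance
    exact IsClosedImmersion.of_comp (ι k) (pullback.snd g b)
  · intro k
    rw [hι k]; infer_instance
  · rw [Set.eq_univ_iff_forall]
    intro z
    let pt := (pullback g b).fromSpecResidueField z
    obtain ⟨γ, hγ⟩ := Spec.map_surjective (pt ≫ pullback.fst g b)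
    obtain ⟨α, hα⟩ := Spec.map_surjective (pt ≫ pullback.snd g b)
    have hcompat : α.hom.comp (algebraMap Γ(X, ⊤) A') = γ.hom.comp (algebraMap Γ(X, ⊤) T) := by
      have h1 : (pt ≫ pullback.fst g b) ≫ g = (pt ≫ pullback.snd g b) ≫ b := by
        rw [Category.assoc, Category.assoc, pullback.condition]
      rw [← hγ, ← hα] at h1
      have h2 : Spec.map γ ≫ g0 = Spec.map α ≫ b0 := by
        rw [← cancel_mono X.isoSpec.inv]
        simpa only [Category.assoc] using h1
      have h3 : CommRingCat.ofHom (algebraMap Γ(X, ⊤) T) ≫ γ =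
          CommRingCat.ofHom (algebraMap Γ(X, ⊤) A') ≫ α := by
        apply Spec.map_injective
        rw [Spec.map_comp, Spec.map_comp]
        exact h2
      exact (congrArg CommRingCat.Hom.hom h3).symm
    obtain ⟨k, hk⟩ := hcov ((pullback g b).residueField z) α.hom γ.hom hcompat
    have hpt : pt = (pt ≫ pullback.snd g b) ≫ ι k := by
      apply pullback.hom_ext
      · rw [Category.assoc, pullback.lift_fst, ← hα, ← hγ]
        show Spec.map γ = Spec.map α ≫ Spec.map (CommRingCat.ofHom (τ k).toRingHom)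
        rw [← Spec.map_comp]
        congr 1
        ext x
        exact congr($hk x)
      · rw [Category.assoc, hι k, Category.comp_id]
    rw [Set.mem_iUnion]
    refine ⟨k, (pt ≫ pullback.snd g b).base (IsLocalRing.closedPoint _), ?_⟩
    rw [← Scheme.Hom.comp_apply, ← hpt]
    exact Scheme.fromSpecResidueField_apply _ _

end Groth.Agent.Helper8.SplitCover
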