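import Mathlib

/-!
# Splitting towers for finitely many monic polynomials

Pure commutative algebra used for `S9703`: for a finite `A`-algebra `B` there are a finite free
`A`-algebra `C` surjecting onto `B`, a finite free faithful `A`-algebra `A'`, and finitely many
`A`-algebra maps `τ j : C → A'` such that every compatible pair of maps `A' → K`, `C → K` to a field
factors through some `τ j`.
-/

namespace Groth.Agent.Helper8.SplitTower

open Polynomial

universe u

lemma of_injective_of_monic {A : Type u} [CommRing A] {P : A[X]} (hP : P.Monic)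
    (hd : P.natDegree ≠ 0) : Function.Injective (AdjoinRoot.of P) := by
  rw [injective_iff_map_eq_zero]
  intro a ha
  rw [AdjoinRoot.of, RingHom.comp_apply, AdjoinRoot.mk_eq_zero] at ha
  by_contra h0
  have h1 : (C a : A[X]) ≠ 0 := by rwa [Ne, C_eq_zero]
  exact hP.not_dvd_of_natDegree_lt h1 (by rw [natDegree_C]; omega) ha

/-- Splitting algebra of one monic polynomial. -/
theorem exists_split (d : ℕ) : ∀ (A : Type u) [CommRing A] (P : A[X]), P.Monic → P.natDegree ≤ d →
    ∃ (A' : Type u) (_ : CommRing A') (_ : Algebra A A'), Module.Free A A' ∧ Module.Finite A A' ∧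
      Function.Injective (algebraMap A A') ∧
      ∃ (n : ℕ) (r : Fin n → A'), P.map (algebraMap A A') = ∏ j, (X - C (r j)) := by
  have base : ∀ (A : Type u) [CommRing A] (P : A[X]), P.Monic → P.natDegree = 0 →
      ∃ (A' : Type u) (_ : CommRing A') (_ : Algebra A A'), Module.Free A A' ∧ Module.Finite A A' ∧
        Function.Injective (algebraMap A A') ∧
        ∃ (n : ℕ) (r : Fin n → A'), P.map (algebraMap A A') = ∏ j, (X - C (r j)) := by
    intro A _ P hP hd
    refine ⟨A, inferInstance, Algebra.id A, inferInstance, inferInstance, fun _ _ h => h, 0,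
      Fin.elim0, ?_⟩
    have : P = 1 := hP.natDegree_eq_zero.mp hd
    simp [this]
  induction d with
  | zero =>
    intro A _ P hP hd
    exact base A P hP (Nat.le_zero.mp hd)
  | succ d ih =>
    intro A _ P hP hd
    by_cases h0 : P.natDegree = 0
    · exact base A P hP h0
    have hA : Nontrivial A := by
      by_contra hnt
      rw [not_nontrivial_iff_subsingleton] at hnt
      exact h0 (by rw [Subsingleton.elim P 0, natDegree_zero])
    have hinj : Function.Injective (AdjoinRoot.of P) := of_injective_of_monic hP h0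
    have hA1 : Nontrivial (AdjoinRoot P) := hinj.nontrivial
    have hroot : (P.map (algebraMap A (AdjoinRoot P))).IsRoot (AdjoinRoot.root P) := by
      rw [IsRoot, eval_map, AdjoinRoot.algebraMap_eq, AdjoinRoot.eval₂_root]
    have hmul : (X - C (AdjoinRoot.root P)) *
        ((P.map (algebraMap A (AdjoinRoot P))) /ₘ (X - C (AdjoinRoot.root P))) =
        P.map (algebraMap A (AdjoinRoot P)) := mul_divByMonic_eq_iff_isRoot.mpr hroot
    have hPm : (P.map (algebraMap A (AdjoinRoot P))).Monic := hP.map _
    have hQm : ((P.map (algebraMap A (AdjoinRoot P))) /ₘ (X - C (AdjoinRoot.root P))).Monic :=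
      (monic_X_sub_C _).of_mul_monic_left (by rw [hmul]; exact hPm)
    have hQd : ((P.map (algebraMap A (AdjoinRoot P))) /ₘ (X - C (AdjoinRoot.root P))).natDegree
        ≤ d := by
      rw [natDegree_divByMonic _ (monic_X_sub_C _), natDegree_X_sub_C, hP.natDegree_map]
      omega
    obtain ⟨A', instR, instAlg, hfree, hfin, hinj', n, r, hr⟩ := ih (AdjoinRoot P) _ hQm hQd
    letI : Algebra A A' := ((algebraMap (AdjoinRoot P) A').comp (algebraMap A (AdjoinRoot P))).toAlgebra
    haveI : IsScalarTower A (AdjoinRoot P) A' := IsScalarTower.of_algebraMap_eq (fun _ => rfl)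
    haveI : Module.Free A (AdjoinRoot P) := hP.free_adjoinRoot
    haveI : Module.Finite A (AdjoinRoot P) := hP.finite_adjoinRoot
    refine ⟨A', instR, inferInstance, Module.Free.trans (R := A) (S := AdjoinRoot P) (M := A'),
      Module.Finite.trans (AdjoinRoot P) A', ?_, n + 1,
      Fin.cons (algebraMap (AdjoinRoot P) A' (AdjoinRoot.root P)) r, ?_⟩
    · show Function.Injective ((algebraMap (AdjoinRoot P) A').comp (algebraMap A (AdjoinRoot P)))
      rw [RingHom.coe_comp]
      exact hinj'.comp (by rw [AdjoinRoot.algebraMap_eq]; exact hinj)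
    · have e1 : P.map (algebraMap A A') =
          (P.map (algebraMap A (AdjoinRoot P))).map (algebraMap (AdjoinRoot P) A') := by
        rw [Polynomial.map_map]; rfl
      rw [e1, ← hmul, Polynomial.map_mul, hr, Fin.prod_univ_succ]
      simp

/-- Simultaneous splitting algebra of finitely many monic polynomials. -/
theorem exists_split_fin (n : ℕ) : ∀ (A : Type u) [CommRing A] (P : Fin n → A[X]),
    (∀ i, (P i).Monic) →
    ∃ (A' : Type u) (_ : CommRing A') (_ : Algebra A A'), Module.Free A A' ∧ Module.Finite A A' ∧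
      Function.Injective (algebraMap A A') ∧
      ∀ i, ∃ (m : ℕ) (r : Fin m → A'), (P i).map (algebraMap A A') = ∏ j, (X - C (r j)) := by
  induction n with
  | zero =>
    intro A _ P _
    exact ⟨A, inferInstance, Algebra.id A, inferInstance, inferInstance, fun _ _ h => h,
      fun i => i.elim0⟩
  | succ n ih =>
    intro A _ P hP
    obtain ⟨A1, instR1, instAlg1, hfree1, hfin1, hinj1, hr1⟩ :=
      ih A (fun i => P i.castSucc) (fun i => hP _)
    obtain ⟨A', instR, instAlg, hfree, hfin, hinj', m, r, hr⟩ :=
      exists_split _ A1 ((P (Fin.last n)).map (algebraMap A A1)) ((hP _).map _) le_rfl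
    letI : Algebra A A' := ((algebraMap A1 A').comp (algebraMap A A1)).toAlgebra
    haveI : IsScalarTower A A1 A' := IsScalarTower.of_algebraMap_eq (fun _ => rfl)
    have e1 : ∀ Q : A[X], Q.map (algebraMap A A') =
        (Q.map (algebraMap A A1)).map (algebraMap A1 A') := by
      intro Q; rw [Polynomial.map_map]; rfl
    refine ⟨A', instR, inferInstance, Module.Free.trans (R := A) (S := A1) (M := A'),
      Module.Finite.trans A1 A', ?_, ?_⟩
    · show Function.Injective ((algebraMap A1 A').comp (algebraMap A A1))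
      rw [RingHom.coe_comp]
      exact hinj'.comp hinj1
    · intro i
      refine Fin.lastCases ?_ (fun i => ?_) i
      · exact ⟨m, r, by rw [e1, hr]⟩
      · obtain ⟨m1, r1, h1⟩ := hr1 i
        refine ⟨m1, fun j => algebraMap A1 A' (r1 j), ?_⟩
        rw [e1, h1, Polynomial.map_prod]
        simp

/-- The universal tower adjoining a root of each of finitely many monic polynomials. -/
theorem exists_tower (n : ℕ) : ∀ (A : Type u) [CommRing A] (P : Fin n → A[X]),
    (∀ i, (P i).Monic) →
    ∃ (T : Type u) (_ : CommRing T) (_ : Algebra A T), Module.Free A T ∧ Module.Finite A T ∧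
      ∃ t : Fin n → T, (∀ i, (P i).eval₂ (algebraMap A T) (t i) = 0) ∧
        (∀ (D : Type u) [CommRing D] (α : A →+* D) (s : Fin n → D),
          (∀ i, (P i).eval₂ α (s i) = 0) →
            ∃ φ : T →+* D, φ.comp (algebraMap A T) = α ∧ ∀ i, φ (t i) = s i) ∧
        (∀ (D : Type u) [CommRing D] (φ φ' : T →+* D),
          φ.comp (algebraMap A T) = φ'.comp (algebraMap A T) →
            (∀ i, φ (t i) = φ' (t i)) → φ = φ') := by
  induction n with
  | zero =>
    intro A _ P _
    refine ⟨A, inferInstance, Algebra.id A, inferInstance, inferInstance, Fin.elim0,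
      fun i => i.elim0, ?_, ?_⟩
    · intro D _ α s _
      exact ⟨α, by ext; simp, fun i => i.elim0⟩
    · intro D _ φ φ' h _
      ext x
      simpa using congr($h x)
  | succ n ih =>
    intro A _ P hP
    obtain ⟨T1, instR1, instAlg1, hfree1, hfin1, t1, ht1, hex1, huq1⟩ :=
      ih A (fun i => P i.castSucc) (fun i => hP _)
    have hPl : ((P (Fin.last n)).map (algebraMap A T1)).Monic := (hP _).map _
    set Pl := (P (Fin.last n)).map (algebraMap A T1) with hPldef
    haveI : Module.Free T1 (AdjoinRoot Pl) := hPl.free_adjoinRoot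
    haveI : Module.Finite T1 (AdjoinRoot Pl) := hPl.finite_adjoinRoot
    have halg : algebraMap A (AdjoinRoot Pl) = (AdjoinRoot.of Pl).comp (algebraMap A T1) :=
      rfl
    refine ⟨AdjoinRoot Pl, inferInstance, inferInstance,
      Module.Free.trans (R := A) (S := T1) (M := AdjoinRoot Pl),
      Module.Finite.trans T1 (AdjoinRoot Pl),
      Fin.snoc (fun i => AdjoinRoot.of Pl (t1 i)) (AdjoinRoot.root Pl), ?_, ?_, ?_⟩
    · intro i
      refine Fin.lastCases ?_ (fun i => ?_) i
      · rw [Fin.snoc_last, halg, ← Polynomial.eval₂_map]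
        exact AdjoinRoot.eval₂_root Pl
      · rw [Fin.snoc_castSucc, halg, ← Polynomial.hom_eval₂, ht1 i, map_zero]
    · intro D _ α s hs
      obtain ⟨φ1, hφ1, hφ1t⟩ := hex1 D α (fun i => s i.castSucc) (fun i => hs _)
      have h : Pl.eval₂ φ1 (s (Fin.last n)) = 0 := by
        rw [hPldef, Polynomial.eval₂_map, hφ1]; exact hs _
      refine ⟨AdjoinRoot.lift φ1 (s (Fin.last n)) h, ?_, ?_⟩
      · rw [halg, ← RingHom.comp_assoc, AdjoinRoot.lift_comp_of, hφ1]
      · intro i
        refine Fin.lastCases ?_ (fun i => ?_) i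
        · rw [Fin.snoc_last, AdjoinRoot.lift_root]
        · rw [Fin.snoc_castSucc, AdjoinRoot.lift_of, hφ1t]
    · intro D _ φ φ' hcomp hval
      apply AdjoinRoot.ringHom_ext
      · apply huq1 D
        · rw [RingHom.comp_assoc, RingHom.comp_assoc, ← halg]; exact hcomp
        · intro i
          have := hval i.castSucc
          rwa [Fin.snoc_castSucc] at this
      · have := hval (Fin.last n)
        rwa [Fin.snoc_last] at this

/-- Main algebraic input for `S9703`. -/
theorem main (A B : Type u) [CommRing A] [CommRing B] [Algebra A B] [Module.Finite A B] :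
    ∃ (T : Type u) (_ : CommRing T) (_ : Algebra A T) (_ : Module.Free A T) (_ : Module.Finite A T)
      (ψ : T →ₐ[A] B) (_ : Function.Surjective ψ)
      (A' : Type u) (_ : CommRing A') (_ : Algebra A A') (_ : Module.Free A A')
      (_ : Module.Finite A A') (_ : Function.Injective (algebraMap A A'))
      (m : ℕ) (τ : Fin m → (T →ₐ[A] A')),
      ∀ (K : Type u) [Field K] (α : A' →+* K) (γ : T →+* K),
        α.comp (algebraMap A A') = γ.comp (algebraMap A T) →
          ∃ j, γ = α.comp (τ j : T →+* A') := by
  obtain ⟨n, s, hs⟩ := Module.Finite.exists_fin (R := A) (M := B)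
  have hint : ∀ i, IsIntegral A (s i) := fun i => Algebra.IsIntegral.isIntegral (s i)
  choose P hPm hP0 using hint
  obtain ⟨T, instRT, instAlgT, hfreeT, hfinT, t, ht, hex, huq⟩ := exists_tower n A P hPm
  obtain ⟨A', instR', instAlg', hfree', hfin', hinj', hr⟩ := exists_split_fin n A P hPm
  choose d r hr using hr
  -- the surjection onto `B`
  obtain ⟨ψ0, hψ0, hψ0t⟩ := hex B (algebraMap A B) s hP0
  let ψ : T →ₐ[A] B := { ψ0 with commutes' := fun a => congr($hψ0 a) }
  have hψsurj : Function.Surjective ψ := by
    have hle : (⊤ : Submodule A B) ≤ LinearMap.range ψ.toLinearMap := by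
      rw [← hs, Submodule.span_le]
      rintro _ ⟨i, rfl⟩
      exact ⟨t i, hψ0t i⟩
    intro b
    obtain ⟨c, hc⟩ := hle (Submodule.mem_top : b ∈ ⊤)
    exact ⟨c, hc⟩
  -- the sections
  have hroot : ∀ (j : ∀ i, Fin (d i)) (i : Fin n),
      (P i).eval₂ (algebraMap A A') (r i (j i)) = 0 := by
    intro j i
    rw [← Polynomial.eval_map, hr i, Polynomial.eval_prod]
    exact Finset.prod_eq_zero (Finset.mem_univ (j i)) (by simp)
  have hτ : ∀ j : (∀ i, Fin (d i)), ∃ φ : T →+* A', φ.comp (algebraMap A T) = algebraMap A A' ∧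
      ∀ i, φ (t i) = r i (j i) := fun j => hex A' (algebraMap A A') (fun i => r i (j i)) (hroot j)
  choose τ0 hτ0 hτ0t using hτ
  let τ' : (∀ i, Fin (d i)) → (T →ₐ[A] A') := fun j =>
    { τ0 j with commutes' := fun a => congr($(hτ0 j) a) }
  let e := Fintype.equivFin (∀ i, Fin (d i))
  refine ⟨T, instRT, instAlgT, hfreeT, hfinT, ψ, hψsurj, A', instR', instAlg', hfree', hfin', hinj',
    Fintype.card (∀ i, Fin (d i)), fun k => τ' (e.symm k), ?_⟩
  intro K _ α γ hαγ
  have hj : ∀ i, ∃ ji : Fin (d i), γ (t i) = α (r i ji) := by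
    intro i
    have h1 : (P i).eval₂ (γ.comp (algebraMap A T)) (γ (t i)) = 0 := by
      rw [← Polynomial.hom_eval₂, ht i, map_zero]
    rw [← hαγ, ← Polynomial.eval₂_map, ← Polynomial.eval_map, hr i, Polynomial.map_prod,
      Polynomial.eval_prod, Finset.prod_eq_zero_iff] at h1
    obtain ⟨ji, -, hji⟩ := h1
    refine ⟨ji, ?_⟩
    simpa [sub_eq_zero] using hji
  choose j hj using hj
  refine ⟨e j, ?_⟩
  apply huq K
  · rw [RingHom.comp_assoc, ← hαγ]
    congr 1
    ext a
    simp
  · intro i
    rw [hj i]
    simp only [Equiv.symm_apply_apply, RingHom.comp_apply]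
    congr 1
    exact (hτ0t j i).symm

end Groth.Agent.Helper8.SplitTower
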