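import Mathlib
import Groth.Agent.Helper6.ArtFunTorsor
set_option autoImplicit false
universe u v

namespace Groth.Agent.Helper8.SqZ
open ArtFun ArtFun.Art IsLocalRing CategoryTheory Groth.Agent.Helper6

variable {Λ : Type u} {k : Type u} [CommRing Λ] [Field k] [Algebra Λ k]
  [IsNoetherianRing Λ] [Module.Finite Λ k]

variable {F : Art Λ k ⥤ Type v}

/-- the property to be proved, for an object `E` -/
def Good (F : Art Λ k ⥤ Type v) (E : Art Λ k) : Prop :=
  ∀ ⦃B A : Art Λ k⦄ (p' : B ⟶ A) (p'' : B ⟶ E)
    (h : IsFibreProd p' p'' (toBase A) (toBase E)), Function.Bijective (cmp F h)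

theorem toBase_comp {A B : Art Λ k} (f : A ⟶ B) : f ≫ toBase B = toBase A := eq_toBase _

/-- the formal induction step -/
theorem good_of_fibreProd (hF : Heps F) {E E' : Art Λ k} (r : E ⟶ E') (s : E ⟶ dual Λ k)
    (hrs : IsFibreProd r s (toBase E') (toBase (dual Λ k))) (hE' : Good F E') : Good F E := by
  intro B A p' p'' h
  have hsurj' : Function.Surjective (toBase E') := E'.res_surjective
  obtain ⟨B', q', q'', hB'⟩ : ∃ (B' : Art Λ k) (q' : B' ⟶ A) (q'' : B' ⟶ E'),
      IsFibreProd q' q'' (toBase A) (toBase E') :=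
    ⟨_, _, _, pb_isFibreProd (toBase A) (toBase E') hsurj'⟩
  obtain ⟨u, hu1, hu2⟩ := IsFibreProd.exists_hom_lift hB' p' (p'' ≫ r)
    (by rw [toBase_comp, toBase_comp])
  have hBB' : IsFibreProd u (p'' ≫ s) (toBase B') (toBase (dual Λ k)) := by
    refine ⟨by rw [toBase_comp, toBase_comp], ?_, ?_⟩
    · intro b₁ b₂ e₁ e₂
      have e₁' : p' b₁ = p' b₂ := by
        rw [← hu1]
        exact congrArg q' e₁
      have e₃ : r (p'' b₁) = r (p'' b₂) := by
        have : (p'' ≫ r) b₁ = (p'' ≫ r) b₂ := by
          rw [← hu2]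
          exact congrArg q'' e₁
        exact this
      exact h.inj _ _ e₁' (hrs.inj _ _ e₃ e₂)
    · intro b' d hbd
      have h1 : (toBase A) (q' b') = (toBase E') (q'' b') := hB'.w_apply b'
      have h2 : (toBase E') (q'' b') = (toBase (dual Λ k)) d := by
        rw [← hbd, ← h1]
        have : (q' ≫ toBase A) b' = (toBase B') b' := by rw [toBase_comp]
        exact this
      obtain ⟨e, he1, he2⟩ := hrs.surj (q'' b') d h2
      have h3 : (toBase A) (q' b') = (toBase E) e := by
        rw [h1, ← he1]
        have : (r ≫ toBase E') e = (toBase E) e := by rw [toBase_comp]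
        exact this.symm ▸ rfl
      obtain ⟨b, hb1, hb2⟩ := h.surj (q' b') e h3
      refine ⟨b, ?_, ?_⟩
      · apply hB'.inj
        · have : (u ≫ q') b = p' b := by rw [hu1]
          exact this.trans hb1
        · have : (u ≫ q'') b = (p'' ≫ r) b := by rw [hu2]
          refine this.trans ?_
          change r (p'' b) = _
          rw [hb2, he1]
      · change s (p'' b) = d
        rw [hb2, he2]
  have hbijB := hF u (p'' ≫ s) hBB'
  have hbijE := hF r s hrs
  have hbijB' := hE' q' q'' hB'
  constructor
  · intro z₁ z₂ hz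
    have hz1 : F.map p' z₁ = F.map p' z₂ := congrArg (fun w => w.1.1) hz
    have hz2 : F.map p'' z₁ = F.map p'' z₂ := congrArg (fun w => w.1.2) hz
    apply hbijB.1
    apply FibProd.ext
    · change F.map u z₁ = F.map u z₂
      apply hbijB'.1
      apply FibProd.ext
      · change F.map q' (F.map u z₁) = F.map q' (F.map u z₂)
        rw [← Functor.map_comp_apply, ← Functor.map_comp_apply, hu1, hz1]
      · change F.map q'' (F.map u z₁) = F.map q'' (F.map u z₂)
        rw [← Functor.map_comp_apply, ← Functor.map_comp_apply, hu2, Functor.map_comp_apply,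
          Functor.map_comp_apply, hz2]
    · change F.map (p'' ≫ s) z₁ = F.map (p'' ≫ s) z₂
      rw [Functor.map_comp_apply, Functor.map_comp_apply, hz2]
  · rintro ⟨⟨x, y⟩, hxy⟩
    have hxy' : F.map (toBase A) x = F.map (toBase E) y := hxy
    obtain ⟨w, hw⟩ := hbijB'.2 ⟨(x, F.map r y), by
      change F.map (toBase A) x = F.map (toBase E') (F.map r y)
      rw [← Functor.map_comp_apply, toBase_comp, hxy']⟩
    have hw1 : F.map q' w = x := congrArg (fun t => t.1.1) hw
    have hw2 : F.map q'' w = F.map r y := congrArg (fun t => t.1.2) hw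
    obtain ⟨z, hz⟩ := hbijB.2 ⟨(w, F.map s y), by
      change F.map (toBase B') w = F.map (toBase (dual Λ k)) (F.map s y)
      rw [← Functor.map_comp_apply, toBase_comp, ← hxy', ← hw1, ← Functor.map_comp_apply, toBase_comp]⟩
    have hz1 : F.map u z = w := congrArg (fun t => t.1.1) hz
    have hz2 : F.map (p'' ≫ s) z = F.map s y := congrArg (fun t => t.1.2) hz
    refine ⟨z, ?_⟩
    apply FibProd.ext
    · change F.map p' z = x
      rw [← hu1, Functor.map_comp_apply, hz1, hw1]
    · change F.map p'' z = y
      apply hbijE.1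
      apply FibProd.ext
      · change F.map r (F.map p'' z) = F.map r y
        rw [← Functor.map_comp_apply, ← hu2, Functor.map_comp_apply, hz1, hw2]
      · change F.map s (F.map p'' z) = F.map s y
        rw [← Functor.map_comp_apply, hz2]

end Groth.Agent.Helper8.SqZ
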