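import Mathlib
import Groth.Agent.Helper8.SqZ1
import Groth.Agent.Helper6.ArtFunNakayama
set_option autoImplicit false
universe u v

namespace Groth.Agent.Helper8.SqZ
open ArtFun ArtFun.Art IsLocalRing CategoryTheory Groth.Agent.Helper6

variable {Λ : Type u} {k : Type u} [CommRing Λ] [Field k] [Algebra Λ k]

variable {F : Art Λ k ⥤ Type v}

theorem map_injective_of_isIso {A B : Art Λ k} (f : A ⟶ B) [IsIso f] : Function.Injective (F.map f) := by
  intro z₁ z₂ hz
  have := congrArg (F.map (inv f)) hz
  rwa [← Functor.map_comp_apply, ← Functor.map_comp_apply, IsIso.hom_inv_id, Functor.map_id_apply,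
    Functor.map_id_apply] at this

/-- base case: `E ≅ k` -/
theorem good_of_bijective [IsNoetherianRing Λ] [Module.Finite Λ k] (E : Art Λ k)
    (hE : Function.Bijective (toBase E)) : Good F E := by
  intro B A p' p'' h
  have hp'bij : Function.Bijective p' := by
    constructor
    · intro b₁ b₂ e
      refine h.inj _ _ e (hE.1 ?_)
      rw [← h.w_apply, ← h.w_apply, e]
    · exact IsFibreProd.surjective_fst h hE.2
  haveI := isIso_of_bijective p' hp'bij
  haveI := isIso_of_bijective (toBase E) hE
  constructor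
  · intro z₁ z₂ hz
    have hz1 : F.map p' z₁ = F.map p' z₂ := congrArg (fun w => w.1.1) hz
    exact map_injective_of_isIso p' hz1
  · rintro ⟨⟨x, y⟩, hxy⟩
    have hxy' : F.map (toBase A) x = F.map (toBase E) y := hxy
    refine ⟨F.map (inv p') x, ?_⟩
    have h1 : F.map p' (F.map (inv p') x) = x := by
      rw [← Functor.map_comp_apply, IsIso.inv_hom_id, Functor.map_id_apply]
    apply FibProd.ext
    · exact h1
    · change F.map p'' (F.map (inv p') x) = y
      apply map_injective_of_isIso (F := F) (toBase E)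
      rw [← Functor.map_comp_apply, ← h.w, Functor.map_comp_apply, h1, hxy']

end Groth.Agent.Helper8.SqZ

namespace Groth.Agent.Helper8.SqZ
open ArtFun ArtFun.Art IsLocalRing CategoryTheory Groth.Agent.Helper6

variable {Λ : Type u} {k : Type u} [CommRing Λ] [Field k] [Algebra Λ k]

section Decomp

variable (E : Art Λ k) (σ : base Λ k ⟶ E)

theorem res_sigma (c : k) : E.res (σ c) = c := Art.res_app σ c

theorem sub_sigma_mem (e : E) : e - σ (E.res e) ∈ maximalIdeal E := by
  rw [Art.mem_maximalIdeal_iff, map_sub, res_sigma, sub_self]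

theorem mul_eq_sigma_mul (hE : maximalIdeal E ^ 2 = ⊥) (e x : E) (hx : x ∈ maximalIdeal E) :
    e * x = σ (E.res e) * x := by
  have h1 : (e - σ (E.res e)) * x ∈ maximalIdeal E ^ 2 := by
    rw [pow_two]
    exact Ideal.mul_mem_mul (sub_sigma_mem E σ e) hx
  rw [hE, Ideal.mem_bot, sub_mul, sub_eq_zero] at h1
  exact h1

/-- a linear form picking out the coefficient of `t` -/
theorem exists_lam (hE : maximalIdeal E ^ 2 = ⊥) (t : E) (ht : t ∈ maximalIdeal E) (ht0 : t ≠ 0) :
    ∃ lam : E → k, (∀ a b, lam (a + b) = lam a + lam b) ∧ (∀ (c : k) (e : E), lam (σ c * e) = c * lam e) ∧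
      lam 1 = 0 ∧ lam t = 1 ∧ ∀ e e', lam (e * e') = E.res e * lam e' + E.res e' * lam e := by
  let σr : k →+* E := σ.toAlgHom.toRingHom
  letI : Module k E := Module.compHom E σr
  have hsmul : ∀ (c : k) (e : E), c • e = σ c * e := fun c e => rfl
  obtain ⟨f, hf⟩ : ∃ f : Module.Dual k E, f t ≠ 0 := by
    by_contra hcon
    push_neg at hcon
    exact ht0 ((Module.forall_dual_apply_eq_zero_iff k t).1 hcon)
  have hfs : ∀ (c : k) (e : E), f (σ c * e) = c * f e := by
    intro c e
    rw [← hsmul, map_smul, smul_eq_mul]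
  have hres0 : E.res t = 0 := (Art.mem_maximalIdeal_iff E t).1 ht
  obtain ⟨lam, hlam⟩ : ∃ lam : E → k, ∀ e, lam e = (f t)⁻¹ * (f e - E.res e * f 1) := ⟨_, fun _ => rfl⟩
  have hadd : ∀ a b, lam (a + b) = lam a + lam b := by
    intro a b
    rw [hlam, hlam, hlam, map_add, map_add]
    ring
  have hsig : ∀ (c : k) (e : E), lam (σ c * e) = c * lam e := by
    intro c e
    rw [hlam, hlam, hfs, map_mul, res_sigma]
    ring
  have hone : lam 1 = 0 := by
    rw [hlam, map_one E.res, one_mul, sub_self, mul_zero]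
  have hsub : ∀ a b, lam (a - b) = lam a - lam b := by
    intro a b
    have := hadd (a - b) b
    rw [sub_add_cancel] at this
    rw [this, add_sub_cancel_right]
  refine ⟨lam, hadd, hsig, hone, ?_, ?_⟩
  · rw [hlam, hres0, zero_mul, sub_zero, inv_mul_cancel₀ hf]
  · intro e e'
    have h1 : e * e' = σ (E.res e) * e' + σ (E.res e') * (e - σ (E.res e)) := by
      have h2 : e' * (e - σ (E.res e)) = σ (E.res e') * (e - σ (E.res e)) :=
        mul_eq_sigma_mul E σ hE e' _ (sub_sigma_mem E σ e)
      rw [← h2]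
      ring
    have h3 : lam (σ (E.res e)) = 0 := by
      have := hsig (E.res e) 1
      rw [mul_one, hone, mul_zero] at this
      exact this
    rw [h1, hadd, hsig, hsig, hsub, h3, sub_zero]

end Decomp

end Groth.Agent.Helper8.SqZ
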