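import Mathlib
import Groth.Agent.Helper8.SqZ2
set_option autoImplicit false
universe u v

namespace Groth.Agent.Helper8.SqZ
open ArtFun ArtFun.Art IsLocalRing CategoryTheory Groth.Agent.Helper6

variable {Λ : Type u} {k : Type u} [CommRing Λ] [Field k] [Algebra Λ k]

section Decomp

variable (E : Art Λ k)

theorem span_le_maximalIdeal (t : E) (ht : t ∈ maximalIdeal E) : Ideal.span {t} ≤ maximalIdeal E :=
  (Ideal.span_singleton_le_iff_mem _).2 ht

/-- the decomposition `E = E/(t) ×_k k[ε]` -/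
theorem exists_decomp (σ : base Λ k ⟶ E) (hE : maximalIdeal E ^ 2 = ⊥) (t : E) (ht : t ∈ maximalIdeal E) (ht0 : t ≠ 0) :
    ∃ s : E ⟶ dual Λ k, IsFibreProd (quotMk E (Ideal.span {t}) (span_le_maximalIdeal E t ht)) s
      (toBase _) (toBase (dual Λ k)) := by
  obtain ⟨lam, hadd, hsig, hone, hlt, hmul⟩ := exists_lam E σ hE t ht ht0
  have hzero : lam 0 = 0 := by
    have := hadd 0 0
    rw [add_zero] at this
    exact (add_eq_left.1 this.symm)
  have hres0 : E.res t = 0 := (Art.mem_maximalIdeal_iff E t).1 ht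
  have halg : ∀ l : Λ, lam (algebraMap Λ E l) = 0 := by
    intro l
    have h1 : algebraMap Λ E l = σ (algebraMap Λ k l) * 1 := by
      rw [mul_one]
      exact (σ.toAlgHom.commutes l).symm
    rw [h1, hsig, hone, mul_zero]
  let sAlg : E →ₐ[Λ] DualNumber k :=
    { toFun := fun e => (E.res e, lam e)
      map_one' := TrivSqZeroExt.ext (map_one E.res) hone
      map_mul' := fun x y => TrivSqZeroExt.ext (map_mul E.res x y) (by
        change lam (x * y) = E.res x • lam y + MulOpposite.op (E.res y) • lam x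
        rw [hmul, smul_eq_mul, MulOpposite.smul_eq_mul_unop, MulOpposite.unop_op, mul_comm (lam x)])
      map_zero' := TrivSqZeroExt.ext (map_zero E.res) hzero
      map_add' := fun x y => TrivSqZeroExt.ext (map_add E.res x y) (hadd x y)
      commutes' := fun l => by
        rw [TrivSqZeroExt.algebraMap_eq_inl']
        exact TrivSqZeroExt.ext (E.res.commutes l) (halg l) }
  have hs1 : ∀ e, TrivSqZeroExt.fst (sAlg e) = E.res e := fun e => rfl
  have hs2 : ∀ e, TrivSqZeroExt.snd (sAlg e) = lam e := fun e => rfl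
  let s : E ⟶ dual Λ k := ⟨sAlg, AlgHom.ext fun e => rfl⟩
  have hmt : ∀ a : E, a * t = σ (E.res a) * t := fun a => mul_eq_sigma_mul E σ hE a t ht
  refine ⟨s, ⟨(eq_toBase _).trans (eq_toBase _).symm, ?_, ?_⟩⟩
  · intro e₁ e₂ h1 h2
    have h1' : Ideal.Quotient.mk (Ideal.span {t}) e₁ = Ideal.Quotient.mk (Ideal.span {t}) e₂ := h1
    rw [Ideal.Quotient.eq, Ideal.mem_span_singleton'] at h1'
    obtain ⟨a, ha⟩ := h1'
    have h2' : lam e₁ = lam e₂ := congrArg (TrivSqZeroExt.snd (R := k) (M := k)) h2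
    have h3 : lam (e₁ - e₂) = 0 := by
      have := hadd (e₁ - e₂) e₂
      rw [sub_add_cancel, h2'] at this
      exact (add_eq_right.1 this.symm)
    rw [← ha, hmt, hsig, hlt, mul_one] at h3
    rw [← sub_eq_zero, ← ha, hmt, h3]
    exact (congrArg (· * t) (map_zero σ.toAlgHom)).trans (zero_mul t)
  · intro e' d hd
    obtain ⟨e₀, rfl⟩ := quotMk_surjective E (Ideal.span {t}) (span_le_maximalIdeal E t ht) e'
    have hd' : E.res e₀ = TrivSqZeroExt.fst (R := k) (M := k) d :=
      (Art.res_app (quotMk E (Ideal.span {t}) (span_le_maximalIdeal E t ht)) e₀).symm.trans hd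
    refine ⟨e₀ + σ (TrivSqZeroExt.snd (R := k) (M := k) d - lam e₀) * t, ?_, ?_⟩
    · change Ideal.Quotient.mk (Ideal.span {t}) _ = Ideal.Quotient.mk (Ideal.span {t}) e₀
      rw [Ideal.Quotient.eq, add_sub_cancel_left]
      exact Ideal.mul_mem_left _ _ (Ideal.subset_span rfl)
    · apply TrivSqZeroExt.ext
      · change E.res (e₀ + σ (TrivSqZeroExt.snd (R := k) (M := k) d - lam e₀) * t) = _
        rw [map_add, map_mul, hres0, mul_zero, add_zero, hd']
      · change lam (e₀ + σ (TrivSqZeroExt.snd (R := k) (M := k) d - lam e₀) * t) = _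
        rw [hadd, hsig, hlt, mul_one, add_sub_cancel]

end Decomp

section Main

variable [IsNoetherianRing Λ] [Module.Finite Λ k] {F : Art Λ k ⥤ Type v}

theorem sq_eq_bot_of_surjective {E E₁ : Art Λ k} (π : E ⟶ E₁) (hπ : Function.Surjective π)
    (hE : maximalIdeal E ^ 2 = ⊥) : maximalIdeal E₁ ^ 2 = ⊥ := by
  rw [← map_maximalIdeal_eq_of_surjective π hπ, ← Ideal.map_pow, hE, Ideal.map_bot]

theorem bijective_toBase_of_maximalIdeal_eq_bot (E : Art Λ k) (h : maximalIdeal E = ⊥) :
    Function.Bijective (toBase E) := by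
  refine ⟨?_, E.res_surjective⟩
  intro a b hab
  have : a - b ∈ maximalIdeal E := by
    rw [Art.mem_maximalIdeal_iff, map_sub, sub_eq_zero]
    exact hab
  rw [h, Ideal.mem_bot, sub_eq_zero] at this
  exact this

theorem good_aux (hF : Heps F) (E : Art Λ k) (σ : base Λ k ⟶ E) (hE : maximalIdeal E ^ 2 = ⊥)
    (K : Ideal E) : ∀ (E₁ : Art Λ k) (π : E ⟶ E₁), Function.Surjective π →
      RingHom.ker π.toAlgHom = K → Good F E₁ := by
  induction K using WellFoundedGT.induction with
  | ind K ih =>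
    intro E₁ π hπ hK
    have hE₁ : maximalIdeal E₁ ^ 2 = ⊥ := sq_eq_bot_of_surjective π hπ hE
    by_cases hm : maximalIdeal E₁ = ⊥
    · exact good_of_bijective E₁ (bijective_toBase_of_maximalIdeal_eq_bot E₁ hm)
    · obtain ⟨t₁, ht₁, ht₁0⟩ : ∃ t₁ ∈ maximalIdeal E₁, t₁ ≠ 0 := by
        by_contra hcon
        push_neg at hcon
        exact hm ((Submodule.eq_bot_iff _).2 hcon)
      obtain ⟨s, hs⟩ := exists_decomp E₁ (σ ≫ π) hE₁ t₁ ht₁ ht₁0
      refine good_of_fibreProd hF _ s hs ?_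
      obtain ⟨t, rfl⟩ := hπ t₁
      refine ih (RingHom.ker (π ≫ quotMk E₁ (Ideal.span {π t}) (span_le_maximalIdeal E₁ _ ht₁)).toAlgHom)
        ?_ _ (π ≫ quotMk E₁ (Ideal.span {π t}) (span_le_maximalIdeal E₁ _ ht₁)) ?_ rfl
      · rw [← hK]
        refine lt_of_le_of_ne ?_ ?_
        · intro x hx
          rw [RingHom.mem_ker] at hx ⊢
          change Ideal.Quotient.mk (Ideal.span {π t}) (π x) = 0
          have hx' : π x = 0 := hx
          rw [hx', map_zero]
        · intro heq
          have : t ∈ RingHom.ker (π ≫ quotMk E₁ (Ideal.span {π t}) (span_le_maximalIdeal E₁ _ ht₁)).toAlgHom := by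
            rw [RingHom.mem_ker]
            change Ideal.Quotient.mk (Ideal.span {π t}) (π t) = 0
            rw [Ideal.Quotient.eq_zero_iff_mem]
            exact Ideal.subset_span rfl
          rw [← heq, RingHom.mem_ker] at this
          exact ht₁0 this
      · intro y
        obtain ⟨y₁, rfl⟩ := quotMk_surjective E₁ (Ideal.span {π t}) (span_le_maximalIdeal E₁ _ ht₁) y
        obtain ⟨x, rfl⟩ := hπ y₁
        exact ⟨x, rfl⟩

theorem s12725 (hF : Heps F) {E : Art Λ k} (hσ : Nonempty (base Λ k ⟶ E))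
    (hE : maximalIdeal E ^ 2 = ⊥) ⦃B A : Art Λ k⦄ (p' : B ⟶ A) (p'' : B ⟶ E)
    (h : IsFibreProd p' p'' (toBase A) (toBase E)) : Function.Bijective (cmp F h) := by
  obtain ⟨σ⟩ := hσ
  exact good_aux hF E σ hE ⊥ E (𝟙 E) (fun x => ⟨x, rfl⟩) (by
    rw [eq_bot_iff]
    intro x hx
    rw [RingHom.mem_ker] at hx
    exact hx) p' p'' h

end Main

end Groth.Agent.Helper8.SqZ
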