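import Mathlib
import Groth.Agent.Helper8.SqZeroAdic
set_option autoImplicit false
universe u v w w'

namespace Groth.Agent.Helper8.SqZeroLift
open MvPowerSeries

/-- the variables map into the maximal ideal under a surjection to a local ring -/
theorem map_X_mem {R : Type u} [CommRing R] {σ : Type v} {A : Type w} [CommRing A] [Algebra R A]
    [IsLocalRing A] (π : MvPowerSeries σ R →ₐ[R] A) (hπ : Function.Surjective π) (i : σ) :
    π (X i) ∈ IsLocalRing.maximalIdeal A := by
  rw [IsLocalRing.mem_maximalIdeal, mem_nonunits_iff]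
  intro hu
  obtain ⟨b, hb⟩ := hu.exists_right_inv
  obtain ⟨g, rfl⟩ := hπ b
  have h1 : π (1 - X i * g) = 0 := by rw [map_sub, map_one, map_mul, hb, sub_self]
  have h2 : IsUnit (1 - X i * g : MvPowerSeries σ R) := by
    rw [MvPowerSeries.isUnit_iff_constantCoeff]
    simp
  have h3 : IsUnit (π (1 - X i * g)) := h2.map π
  rw [h1] at h3
  exact not_isUnit_zero h3

theorem algHom_ext_hausdorff {R : Type u} [CommRing R] {d : ℕ} {A : Type w} [CommRing A]
    [Algebra R A] (m : Ideal A) [IsHausdorff m A]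
    (u v : MvPowerSeries (Fin d) R →ₐ[R] A) (huv : ∀ i, u (X i) = v (X i))
    (hu : ∀ i, u (X i) ∈ m) : u = v := by
  have hv : ∀ i, v (X i) ∈ m := fun i => huv i ▸ hu i
  have hpoly : u.comp (MvPolynomial.coeToMvPowerSeries.algHom R) =
      v.comp (MvPolynomial.coeToMvPowerSeries.algHom R) := by
    apply MvPolynomial.algHom_ext
    intro i
    simp only [AlgHom.comp_apply, MvPolynomial.coeToMvPowerSeries.algHom_apply,
      MvPolynomial.coe_X, Algebra.algebraMap_self, map_id]
    exact huv i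
  have hmem : ∀ (w : MvPowerSeries (Fin d) R →ₐ[R] A), (∀ i, w (X i) ∈ m) → ∀ N,
      ∀ x ∈ Ideal.span (Set.range (X : Fin d → MvPowerSeries (Fin d) R)) ^ N, w x ∈ m ^ N := by
    intro w hw N x hx
    have h1 : w x ∈ (Ideal.span (Set.range (X : Fin d → MvPowerSeries (Fin d) R)) ^ N).map
        w.toRingHom := Ideal.mem_map_of_mem _ hx
    rw [Ideal.map_pow, Ideal.map_span] at h1
    refine Ideal.pow_right_mono ?_ N h1
    rw [Ideal.span_le]
    rintro _ ⟨_, ⟨i, rfl⟩, rfl⟩
    exact hw i
  ext f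
  rw [← sub_eq_zero]
  apply IsHausdorff.haus' (I := m)
  intro N
  rw [SModEq.sub_mem, sub_zero, smul_eq_mul, Ideal.mul_top]
  have hr := Groth.Agent.Helper7.PSSmooth.sub_truncTotal_mem N f
  have e1 := hmem u hu N _ hr
  have e2 := hmem v hv N _ hr
  have e3 := AlgHom.congr_fun hpoly (truncTotal N f)
  simp only [AlgHom.comp_apply, MvPolynomial.coeToMvPowerSeries.algHom_apply,
    Algebra.algebraMap_self, map_id, RingHom.id_apply] at e3
  rw [map_sub] at e1 e2
  have : u f - v f = (u f - u ((truncTotal N f : MvPolynomial (Fin d) R) : MvPowerSeries (Fin d) R))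
      - (v f - v ((truncTotal N f : MvPolynomial (Fin d) R) : MvPowerSeries (Fin d) R)) := by
    rw [e3]; ring
  rw [this]
  exact sub_mem e1 e2

theorem s16982 {R : Type u} [CommRing R] {σ : Type v} [Finite σ]
    {A : Type w} {E : Type w'} [CommRing A] [CommRing E] [Algebra R A] [Algebra R E]
    [IsNoetherianRing A] [IsLocalRing A] [IsAdicComplete (IsLocalRing.maximalIdeal A) A]
    (π : MvPowerSeries σ R →ₐ[R] A) (hπ : Function.Surjective π)
    (f : E →ₐ[R] A) (hf : Function.Surjective f)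
    (hsq : RingHom.ker f.toRingHom ^ 2 = ⊥) (hfg : (RingHom.ker f.toRingHom).FG) :
    ∃ l : MvPowerSeries σ R →ₐ[R] E, f.comp l = π := by
  classical
  have := Fintype.ofFinite σ
  let eσ := Fintype.equivFin σ
  let ρ : MvPowerSeries σ R ≃ₐ[R] MvPowerSeries (Fin (Fintype.card σ)) R :=
    MvPowerSeries.renameEquiv R eσ
  let π' : MvPowerSeries (Fin (Fintype.card σ)) R →ₐ[R] A := π.comp ρ.symm.toAlgHom
  have hπ' : Function.Surjective π' := hπ.comp ρ.symm.surjective
  have : IsAdicComplete ((IsLocalRing.maximalIdeal A).comap f.toRingHom) E :=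
    SqZeroAdic.s16981 f.toRingHom hf hsq hfg
  choose c hc using fun i => hf (π' (X i))
  have hcm : ∀ i, c i ∈ (IsLocalRing.maximalIdeal A).comap f.toRingHom := fun i => by
    rw [Ideal.mem_comap]
    show f (c i) ∈ _
    rw [hc]
    exact map_X_mem π' hπ' i
  obtain ⟨ψ, hψ⟩ := Groth.Agent.Helper7.PSEval.exists_algHom_X (k := R) _ c hcm
  have key : f.comp ψ = π' := by
    apply algHom_ext_hausdorff (IsLocalRing.maximalIdeal A)
    · intro i; rw [AlgHom.comp_apply, hψ, hc]
    · intro i; rw [AlgHom.comp_apply, hψ, hc]; exact map_X_mem π' hπ' i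
  refine ⟨ψ.comp ρ.toAlgHom, ?_⟩
  rw [← AlgHom.comp_assoc, key]
  ext x
  simp [π']

end Groth.Agent.Helper8.SqZeroLift
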