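import Mathlib
import Groth.Prelude.Def_AlgGrp
import Groth.Agent.Helper3.WeilRes3
import Groth.Agent.Helper2.LfpComp
import Groth.Agent.Helper8.Transp

set_option autoImplicit false
set_option linter.style.haveILetI false
universe u

namespace Groth.Agent.Helper8.TranspFP

open CategoryTheory CategoryTheory.Limits AlgebraicGeometry TopologicalSpace
open MonoidalCategory CartesianMonoidalCategory MonObj GrpObj
open Groth.Agent.Helper3.CoefIdeal Groth.Agent.Helper3.WeilRes1 Groth.Agent.Helper3.WeilRes3

section alg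

variable {A R : Type*} [CommRing A] [CommRing R] [Algebra A R]

/-- the coefficient ideal of a finitely generated ideal of a finite projective algebra is finitely
generated -/
theorem coef_fg [Module.Finite A R] [Module.Projective A R] (J : Ideal R) (hJ : J.FG) :
    (coef (A := A) J).FG := by
  classical
  obtain ⟨n, f, hf⟩ := Module.Finite.exists_fin' A R
  obtain ⟨g, hg⟩ := Module.projective_lifting_property f LinearMap.id hf
  have hJA : (J.restrictScalars A).FG := by
    haveI : Module.Finite R J := Module.Finite.iff_fg.mpr hJ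
    haveI : Module.Finite A J := Module.Finite.trans R J
    exact Module.Finite.iff_fg.mp (inferInstanceAs (Module.Finite A J))
  obtain ⟨T, hT⟩ := hJA
  let e : Fin n → R := fun l => f (Pi.single l 1)
  let Λ' : Fin n → (R →ₗ[A] A) := fun l => (LinearMap.proj l).comp g
  have hrep : ∀ r : R, r = ∑ l, Λ' l r • e l := by
    intro r
    have h1 : f (g r) = r := LinearMap.congr_fun hg r
    have h2 : g r = ∑ l, (g r) l • Pi.single l (1 : A) := by
      ext i
      simp [Finset.sum_apply, Pi.single_apply]
    conv_lhs => rw [← h1, h2, map_sum]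
    refine Finset.sum_congr rfl fun l _ => ?_
    rw [map_smul]
    rfl
  let gens : Finset A := (Finset.univ ×ˢ T).image (fun p => Λ' p.1 p.2)
  have hgens : ∀ l, ∀ t ∈ T, Λ' l t ∈ gens := fun l t ht =>
    Finset.mem_image.mpr ⟨(l, t), Finset.mem_product.mpr ⟨Finset.mem_univ _, ht⟩, rfl⟩
  refine ⟨gens, le_antisymm ?_ ?_⟩
  · rw [Ideal.span_le]
    intro a ha
    obtain ⟨⟨l, t⟩, hp, rfl⟩ := Finset.mem_image.mp ha
    have ht : t ∈ T := (Finset.mem_product.mp hp).2
    have htJ : t ∈ J := by
      have : t ∈ J.restrictScalars A := hT ▸ Submodule.subset_span ht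
      exact this
    exact mem_coef J (Λ' l) htJ
  · rw [coef_le_iff]
    intro Λ j hj
    have hj' : j ∈ Submodule.span A (T : Set R) := by
      rw [hT]
      exact hj
    clear hj
    induction hj' using Submodule.span_induction with
    | mem t ht =>
      have := congrArg Λ (hrep t)
      rw [this, map_sum]
      refine Ideal.sum_mem _ fun l _ => ?_
      rw [map_smul, smul_eq_mul]
      exact Ideal.mul_mem_right _ _ (Ideal.subset_span (hgens l t ht))
    | zero => simp
    | add x y _ _ hx hy =>
      rw [map_add]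
      exact Ideal.add_mem _ hx hy
    | smul a x _ hx =>
      rw [map_smul, smul_eq_mul]
      exact Ideal.mul_mem_left _ _ hx

lemma ker_fg_of_finitePresentation {A B : Type*} [CommRing A] [CommRing B] (φ : A →+* B)
    (hs : Function.Surjective φ) (hfp : φ.FinitePresentation) : (RingHom.ker φ).FG := by
  algebraize [φ]
  have := Algebra.FinitePresentation.ker_fG_of_surjective (Algebra.ofId A B) hs
  exact this

end alg

/-- the kernel of a closed immersion locally of finite presentation is locally finitely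
generated -/
theorem ker_fg_of_lfp {Z Y : Scheme.{u}} (f : Z ⟶ Y) [IsClosedImmersion f]
    [LocallyOfFinitePresentation f] (U : Y.affineOpens) : (f.ker.ideal U).FG := by
  rw [Scheme.Hom.ker_apply]
  have hsurj : Function.Surjective (f.app U.1).hom := f.app_surjective _ U.2
  have hfp : (f.app U.1).hom.FinitePresentation := by
    have := HasRingHomProperty.appLE (P := @LocallyOfFinitePresentation) f inferInstance U
      ⟨f ⁻¹ᵁ U.1, U.2.preimage f⟩ le_rfl
    rwa [← f.app_eq_appLE] at this
  exact ker_fg_of_finitePresentation _ hsurj hfp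

/-- a closed subscheme with locally finitely generated ideal is locally of finite presentation -/
theorem lfp_subschemeι {Y : Scheme.{u}} (I : Y.IdealSheafData)
    (h : ∀ U : Y.affineOpens, (I.ideal U).FG) : LocallyOfFinitePresentation I.subschemeι := by
  rw [IsZariskiLocalAtSource.iff_of_openCover (P := @LocallyOfFinitePresentation)
    I.subschemeCover.openCover]
  intro (U : Y.affineOpens)
  change LocallyOfFinitePresentation (I.subschemeCover.f U ≫ I.subschemeι)
  rw [I.subschemeCover_map_subschemeι, I.glueDataObjι_ι]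
  haveI : LocallyOfFinitePresentation
      (Spec.map (CommRingCat.ofHom (Ideal.Quotient.mk (I.ideal U)))) := by
    rw [HasRingHomProperty.Spec_iff (P := @LocallyOfFinitePresentation)]
    refine RingHom.FinitePresentation.of_surjective _ Ideal.Quotient.mk_surjective ?_
    have e : RingHom.ker (CommRingCat.ofHom (Ideal.Quotient.mk (I.ideal U))).hom = I.ideal U :=
      Ideal.mk_ker
    rw [e]
    exact h U
  haveI : IsOpenImmersion U.2.fromSpec := U.2.isOpenImmersion_fromSpec
  haveI : LocallyOfFinitePresentation U.2.fromSpec := inferInstance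
  exact MorphismProperty.comp_mem _ _ _ ‹_› ‹_›

/-- Weil restriction of a closed subscheme of finite presentation is of finite presentation -/
theorem exists_weilRes_fp {S : Scheme.{u}} (Y X E : Over S) [IsFinite X.hom] [Flat X.hom]
    [LocallyOfFinitePresentation X.hom] (e : E ⟶ Y ⊗ X) [IsClosedImmersion e.left]
    [LocallyOfFinitePresentation e.left] :
    ∃ (Z : Over S) (incl : Z ⟶ Y), IsClosedImmersion incl.left ∧
      LocallyOfFinitePresentation incl.left ∧
      ∀ (T : Over S) (g : T ⟶ Y),
        (∃ z : T ⟶ Z, z ≫ incl = g) ↔ ∃ w : T ⊗ X ⟶ E, w ≫ e = g ▷ X := by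
  have hpb : IsPullback (fst Y X).left (snd Y X).left Y.hom X.hom :=
    IsPullback.of_hasPullback _ _
  haveI : IsFinite (fst Y X).left :=
    MorphismProperty.of_isPullback (P := @IsFinite) hpb.flip ‹_›
  haveI : Flat (fst Y X).left :=
    MorphismProperty.of_isPullback (P := @Flat) hpb.flip ‹_›
  haveI : LocallyOfFinitePresentation (fst Y X).left :=
    MorphismProperty.of_isPullback (P := @LocallyOfFinitePresentation) hpb.flip ‹_›
  let π := (fst Y X).left
  let 𝓘 : Y.left.IdealSheafData :=
    weilIdeal (fst Y X).left (projSections_of_finite_flat _) e.left.ker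
  have hfg : ∀ U : Y.left.affineOpens, (𝓘.ideal U).FG := by
    intro U
    letI : Algebra Γ(Y.left, U.1) Γ((Y ⊗ X).left, π ⁻¹ᵁ U.1) :=
      (π.appLE U.1 (π ⁻¹ᵁ U.1) le_rfl).hom.toAlgebra
    haveI : Module.Finite Γ(Y.left, U.1) Γ((Y ⊗ X).left, π ⁻¹ᵁ U.1) := by
      have h := π.finite_app U.1 U.2
      rw [π.app_eq_appLE] at h
      exact h
    haveI : Module.Projective Γ(Y.left, U.1) Γ((Y ⊗ X).left, π ⁻¹ᵁ U.1) :=
      projSections_of_finite_flat π U
    exact coef_fg _ (ker_fg_of_lfp e.left (preim π U))
  refine ⟨Over.mk (𝓘.subschemeι ≫ Y.hom), Over.homMk 𝓘.subschemeι rfl,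
    inferInstanceAs (IsClosedImmersion 𝓘.subschemeι), lfp_subschemeι 𝓘 hfg, ?_⟩
  intro T g
  have s1 : (∃ z : T ⟶ Over.mk (𝓘.subschemeι ≫ Y.hom), z ≫ Over.homMk 𝓘.subschemeι rfl = g) ↔
      𝓘 ≤ g.left.ker := by
    have h1 := Groth.Agent.Helper3.KerLocal.exists_lift_iff_le_ker 𝓘.subschemeι g.left
    rw [𝓘.ker_subschemeι] at h1
    rw [← h1]
    constructor
    · rintro ⟨z, rfl⟩
      exact ⟨z.left, rfl⟩
    · rintro ⟨z', hz'⟩
      refine ⟨Over.homMk z' ?_, ?_⟩
      · change z' ≫ 𝓘.subschemeι ≫ Y.hom = T.hom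
        rw [← Category.assoc, hz', Over.w]
      · apply Over.OverMorphism.ext
        exact hz'
  rw [s1, weilIdeal_le_ker_iff (fst Y X).left (projSections_of_finite_flat _) e.left.ker
      (fst T X).left (g ▷ X).left g.left
      (Groth.Agent.Helper5.GrpDense.isPullback_whiskerRight g X).flip,
    ← Groth.Agent.Helper3.KerLocal.exists_lift_iff_le_ker]
  constructor
  · rintro ⟨w, hw⟩
    refine ⟨Over.homMk w ?_, ?_⟩
    · rw [← Over.w e, ← Category.assoc, hw, Over.w]
    · apply Over.OverMorphism.ext
      exact hw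
  · rintro ⟨w, hw⟩
    exact ⟨w.left, by rw [← Over.comp_left, hw]⟩

theorem main {S : Scheme.{u}} (G Y Y' : Over S) [GrpObj G]
    (hGfp : LocallyOfFinitePresentation G.hom)
    (y : Y ⟶ G) (hYf : IsFinite Y.hom) (hYfl : Flat Y.hom)
    (hYfp : LocallyOfFinitePresentation Y.hom)
    (y' : Y' ⟶ G) (hy' : IsClosedImmersion y'.left) (hY'fp : LocallyOfFinitePresentation Y'.hom) :
    ∃ (C : Over S) (c : C ⟶ G), IsClosedImmersion c.left ∧ LocallyOfFinitePresentation C.hom ∧
      ∀ (X : Over S) (g : X ⟶ G), (∃ z : X ⟶ C, z ≫ c = g) ↔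
        ∀ (X' : Over S) (x : X' ⟶ X) (a : X' ⟶ Y),
          ∃ a' : X' ⟶ Y', (x ≫ g) * (a ≫ y) * (x ≫ g)⁻¹ = a' ≫ y' := by
  haveI := hy'
  haveI := hGfp
  haveI := hYf
  haveI := hYfl
  haveI := hYfp
  haveI : LocallyOfFinitePresentation y'.left :=
    Groth.Agent.Helper2.LfpComp.locallyOfFinitePresentation_of_comp y'.left G.hom
      (by rw [Over.w]; exact hY'fp) inferInstance
  haveI : LocallyOfFinitePresentation (Groth.Agent.Helper8.Transp.e y' y).left :=
    inferInstanceAs (LocallyOfFinitePresentation
      (pullback.fst (Groth.Agent.Helper8.Transp.conj y).left y'.left))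
  obtain ⟨Z, t, ht, htfp, hZ⟩ := exists_weilRes_fp G Y (Groth.Agent.Helper8.Transp.E y' y)
    (Groth.Agent.Helper8.Transp.e y' y)
  refine ⟨Z, t, ht, ?_, fun T g =>
    (hZ T g).trans (Groth.Agent.Helper8.Transp.exists_lift_iff y' y g)⟩
  rw [← Over.w t]
  infer_instance

end Groth.Agent.Helper8.TranspFP
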