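import Mathlib
import Groth.Prelude.Def_AlgGrp
import Groth.Agent.Helper8.TranspFP

set_option autoImplicit false
set_option linter.style.haveILetI false
universe u

namespace Groth.Agent.Helper8.StabFP

open CategoryTheory CategoryTheory.Limits AlgebraicGeometry TopologicalSpace
open MonoidalCategory CartesianMonoidalCategory MonObj GrpObj

/-- the diagonal of a morphism locally of finite type is locally of finite presentation -/
theorem lfp_diagonal {X S : Scheme.{u}} (f : X ⟶ S) [LocallyOfFiniteType f] :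
    LocallyOfFinitePresentation (pullback.diagonal f) := by
  refine Groth.Agent.Helper2.LfpComp.locallyOfFinitePresentation_of_comp (pullback.diagonal f)
    (pullback.fst f f) ?_ inferInstance
  rw [pullback.diagonal_fst]
  infer_instance

set_option backward.isDefEq.respectTransparency false in
theorem lfp_equalizer_ι_left {S : Scheme.{u}} {X Y : Over S}
    [LocallyOfFiniteType Y.hom] (f g : X ⟶ Y) :
    LocallyOfFinitePresentation (equalizer.ι f g).left := by
  refine MorphismProperty.of_isPullback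
    ((Limits.isPullback_equalizer_prod f g).map (Over.forget _)).flip ?_
  rw [← MorphismProperty.cancel_right_of_respectsIso @LocallyOfFinitePresentation _
    (Over.prodLeftIsoPullback Y Y).hom]
  convert! (lfp_diagonal Y.hom)
  ext1 <;> simp [← Over.comp_left]

theorem main (S : Scheme.{u}) (G X Y : Over S) [GrpObj G]
    [IsAffineHom X.hom] [LocallyOfFinitePresentation X.hom] (a : AlgGrp.Action G X)
    (i : Y ⟶ X) [IsFinite Y.hom] [Flat Y.hom] [LocallyOfFinitePresentation Y.hom] :
    ∃ (Z : Over S) (j : Z ⟶ G), IsClosedImmersion j.left ∧ LocallyOfFinitePresentation j.left ∧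
      ∀ (T : Over S) (g : T ⟶ G), (∃ z : T ⟶ Z, z ≫ j = g) ↔
        ∀ (T' : Over S) (t : T' ⟶ T) (y : T' ⟶ Y), lift (t ≫ g) (y ≫ i) ≫ a.act = y ≫ i := by
  let φ₁ : G ⊗ Y ⟶ X := (G ◁ i) ≫ a.act
  let φ₂ : G ⊗ Y ⟶ X := snd G Y ≫ i
  haveI : IsSeparated X.hom := inferInstance
  haveI : IsClosedImmersion (equalizer.ι φ₁ φ₂).left := inferInstance
  haveI : LocallyOfFinitePresentation (equalizer.ι φ₁ φ₂).left := lfp_equalizer_ι_left φ₁ φ₂
  obtain ⟨Z, incl, h1, h2, hZ⟩ := Groth.Agent.Helper8.TranspFP.exists_weilRes_fp G Y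
    (equalizer φ₁ φ₂) (equalizer.ι φ₁ φ₂)
  refine ⟨Z, incl, h1, h2, fun T g => (hZ T g).trans ?_⟩
  have key : ∀ (T' : Over S) (t : T' ⟶ T) (y : T' ⟶ Y),
      lift t y ≫ (g ▷ Y) ≫ (G ◁ i) = lift (t ≫ g) (y ≫ i) := by
    intro T' t y
    apply CartesianMonoidalCategory.hom_ext <;> simp
  constructor
  · rintro ⟨w, hw⟩ T' t y
    have h : (g ▷ Y) ≫ φ₁ = (g ▷ Y) ≫ φ₂ := by
      rw [← hw, Category.assoc, Category.assoc, equalizer.condition]
    have h' := congr(lift t y ≫ $h)
    simp only [φ₁, φ₂] at h'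
    rw [← Category.assoc, ← Category.assoc, Category.assoc (lift t y), key] at h'
    rw [h']
    simp
  · intro h
    have h' : (g ▷ Y) ≫ φ₁ = (g ▷ Y) ≫ φ₂ := by
      have h0 := h (T ⊗ Y) (fst T Y) (snd T Y)
      rw [← key, lift_fst_snd, Category.id_comp] at h0
      simp only [φ₁, φ₂]
      rw [← Category.assoc, h0]
      simp
    exact ⟨equalizer.lift _ h', equalizer.lift_ι _ h'⟩

end Groth.Agent.Helper8.StabFP
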