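import Mathlib
import Groth.Prelude.Def_MoreMor
import Groth.Agent.S18056

set_option autoImplicit false
set_option linter.unusedSectionVars false
set_option linter.style.haveILetI false
universe u

open AlgebraicGeometry CategoryTheory Limits Opposite TopologicalSpace

namespace Groth.Agent.Helper8.StalkFS

/-- A morphism from an affine scheme all of whose points map to `x` factors through
`Spec O_{X,x}`. -/
theorem exists_factor {X : Scheme.{u}} (x : X) (C : CommRingCat.{u}) (l : Spec C ⟶ X)
    (h : ∀ c, l c = x) :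
    ∃ φ : X.presheaf.stalk x ⟶ C, Spec.map φ ≫ X.fromSpecStalk x = l := by
  have hle : ∀ W : (OpenNhds x)ᵒᵖ, (⊤ : (Spec C).Opens) ≤ l ⁻¹ᵁ W.unop.1 := by
    intro W c _
    show l c ∈ W.unop.1
    rw [h c]; exact W.unop.2
  let cc : Cocone ((OpenNhds.inclusion x).op ⋙ X.presheaf) :=
    { pt := Γ(Spec C, ⊤)
      ι := { app := fun W => l.appLE W.unop.1 ⊤ (hle W)
             naturality := fun W₁ W₂ i => by
               dsimp
               rw [Category.comp_id]
               exact Scheme.Hom.map_appLE _ _ _ } }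
  let φ₀ : X.presheaf.stalk x ⟶ Γ(Spec C, ⊤) := colimit.desc _ cc
  have hgerm : ∀ (V : X.Opens) (hx : x ∈ V),
      X.presheaf.germ V x hx ≫ φ₀ = l.appLE V ⊤ (hle (op ⟨V, hx⟩)) :=
    fun V hx => colimit.ι_desc cc (op ⟨V, hx⟩)
  refine ⟨φ₀ ≫ (Scheme.ΓSpecIso C).hom, ?_⟩
  obtain ⟨V, hV, hxV, -⟩ := exists_isAffineOpen_mem_and_subset (U := ⊤) (x := x) (by simp)
  rw [← hV.fromSpecStalk_eq_fromSpecStalk hxV, IsAffineOpen.fromSpecStalk,
    ← Spec.map_comp_assoc, ← Category.assoc, hgerm V hxV, Spec.map_comp, Category.assoc,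
    IsAffineOpen.SpecMap_appLE_fromSpec l hV (isAffineOpen_top _), IsAffineOpen.fromSpec_top,
    Scheme.isoSpec_Spec_inv, ← Spec.map_comp_assoc, Iso.inv_hom_id, Spec.map_id,
    Category.id_comp]

theorem isArtinianRing_stalk {X : Scheme.{u}} [IsLocallyNoetherian X] (x : X)
    (h : ∀ y, y ⤳ x → y = x) : IsArtinianRing (X.presheaf.stalk x) := by
  rw [isArtinianRing_iff_krullDimLE_zero]
  refine Ring.KrullDimLE.mk₀ fun p hp => ?_
  have hsub : ∀ c₁ c₂ : Spec (X.presheaf.stalk x), c₁ = c₂ := by
    intro c₁ c₂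
    apply (X.fromSpecStalk x).isEmbedding.injective
    have h1 : (X.fromSpecStalk x) c₁ ∈ Set.range (X.fromSpecStalk x) := ⟨_, rfl⟩
    have h2 : (X.fromSpecStalk x) c₂ ∈ Set.range (X.fromSpecStalk x) := ⟨_, rfl⟩
    rw [Scheme.range_fromSpecStalk] at h1 h2
    rw [h _ h1, h _ h2]
  have := hsub ⟨p, hp⟩ (IsLocalRing.closedPoint _)
  have hp' : p = IsLocalRing.maximalIdeal _ := congrArg PrimeSpectrum.asIdeal this
  rw [hp']
  infer_instance

theorem length_eq_of_generic {X' X : Scheme.{u}} (f : X' ⟶ X) [IsLocallyNoetherian X']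
    [IsLocallyNoetherian X] [Flat f] (hf : MoreMor.IsFormallySmoothHom f)
    (hK : ∃ K : Subring Γ(X, ⊤), IsField K) (x' : X') (h' : ∀ y, y ⤳ x' → y = x')
    (h : ∀ y, y ⤳ f x' → y = f x') :
    Module.length (X'.presheaf.stalk x') (X'.presheaf.stalk x') =
      Module.length (X.presheaf.stalk (f x')) (X.presheaf.stalk (f x')) := by
  haveI := isArtinianRing_stalk x' h'
  haveI := isArtinianRing_stalk (f x') h
  letI := (f.stalkMap x').hom.toAlgebra
  haveI : Module.Flat (X.presheaf.stalk (f x')) (X'.presheaf.stalk x') := Flat.stalkMap f x'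
  haveI : Algebra.FormallySmooth (X.presheaf.stalk (f x')) (X'.presheaf.stalk x') := by
    refine Algebra.FormallySmooth.of_comp_surjective fun C _ _ I hI g => ?_
    let a : Spec (CommRingCat.of (C ⧸ I)) ⟶ X' :=
      Spec.map (CommRingCat.ofHom g.toRingHom) ≫ X'.fromSpecStalk x'
    let b : Spec (CommRingCat.of C) ⟶ X :=
      Spec.map (CommRingCat.ofHom (algebraMap (X.presheaf.stalk (f x')) C)) ≫
        X.fromSpecStalk (f x')
    have hab : Spec.map (CommRingCat.ofHom (Ideal.Quotient.mk I)) ≫ b = a ≫ f := by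
      simp only [a, b, Category.assoc]
      rw [← Scheme.SpecMap_stalkMap_fromSpecStalk, ← Spec.map_comp_assoc,
        ← Spec.map_comp_assoc]
      congr 2
      ext r
      exact (g.commutes r).symm
    obtain ⟨l, hl1, hl2⟩ := hf C I hI a b hab
    have hle : I ≤ nilradical C := by
      intro r hr
      refine ⟨2, ?_⟩
      have : r ^ 2 ∈ I ^ 2 := Ideal.pow_mem_pow hr 2
      rw [hI] at this
      exact this
    have hpts : ∀ c, l c = x' := by
      intro c
      obtain ⟨c', rfl⟩ := (PrimeSpectrum.comap_quotientMk_bijective_of_le_nilradical hle).2 c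
      have h1 : l (PrimeSpectrum.comap (Ideal.Quotient.mk I) c') = a c' := by
        rw [← hl1]; rfl
      rw [h1]
      apply h'
      have hr : a c' ∈ Set.range (X'.fromSpecStalk x') := ⟨_, rfl⟩
      rw [Scheme.range_fromSpecStalk] at hr
      exact hr
    obtain ⟨φ, hφ⟩ := exists_factor x' (CommRingCat.of C) l hpts
    have e1 : f.stalkMap x' ≫ φ =
        CommRingCat.ofHom (algebraMap (X.presheaf.stalk (f x')) C) := by
      apply Spec.map_injective
      rw [← cancel_mono (X.fromSpecStalk (f x')), Spec.map_comp, Category.assoc,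
        Scheme.SpecMap_stalkMap_fromSpecStalk, ← Category.assoc, hφ, hl2]
    have e2 : φ ≫ CommRingCat.ofHom (Ideal.Quotient.mk I) =
        CommRingCat.ofHom g.toRingHom := by
      apply Spec.map_injective
      rw [← cancel_mono (X'.fromSpecStalk x'), Spec.map_comp, Category.assoc, hφ, hl1]
    refine ⟨{ φ.hom with commutes' := fun r => congr($(e1).hom r) }, ?_⟩
    ext r
    exact congr($(e2).hom r)
  have hK' : ∃ K : Subring (X.presheaf.stalk (f x')), IsField K := by
    obtain ⟨K, hKf⟩ := hK
    letI := hKf.toField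
    let ψ : K →+* X.presheaf.stalk (f x') :=
      (X.presheaf.germ ⊤ (f x') trivial).hom.comp K.subtype
    have hinj : Function.Injective ψ := ψ.injective
    refine ⟨ψ.range, ?_⟩
    exact MulEquiv.isField hKf
      (RingEquiv.ofBijective ψ.rangeRestrict
        ⟨fun a b hab => hinj (congrArg Subtype.val hab), ψ.rangeRestrict_surjective⟩).symm.toMulEquiv
  exact (Groth.Agent.S18056.result (X.presheaf.stalk (f x')) (X'.presheaf.stalk x') hK').symm

theorem main {X' X : Scheme.{u}} (f : X' ⟶ X)
    [IrreducibleSpace ↥X'] [IrreducibleSpace ↥X] [IsNoetherian X'] [IsNoetherian X] [Flat f]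
    (hf : MoreMor.IsFormallySmoothHom f) (hK : ∃ K : Subring Γ(X, ⊤), IsField K) :
    Module.length (X'.presheaf.stalk (genericPoint X')) (X'.presheaf.stalk (genericPoint X'))
      = Module.length (X.presheaf.stalk (genericPoint X))
        (X.presheaf.stalk (genericPoint X)) := by
  have hη : f (genericPoint X') = genericPoint X := by
    obtain ⟨a', ha', hfa'⟩ := Flat.generalizingMap f (a := genericPoint X')
      (b := genericPoint X) (genericPoint_specializes _)
    have : a' = genericPoint X' := (ha'.antisymm (genericPoint_specializes _)).eq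
    rw [this] at hfa'
    exact hfa'
  rw [← hη]
  refine length_eq_of_generic f hf hK (genericPoint X')
    (fun y hy => (hy.antisymm (genericPoint_specializes _)).eq) ?_
  intro y hy
  rw [hη] at hy ⊢
  exact (hy.antisymm (genericPoint_specializes _)).eq

end Groth.Agent.Helper8.StalkFS
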