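import Mathlib
import Groth.Prelude.Def_HTop
import Groth.Agent.Lead.HCovVal

set_option autoImplicit false
universe w u
open CategoryTheory CategoryTheory.Limits AlgebraicGeometry Opposite

namespace Groth.Agent.Helper8.StdVLim

open IsLocalRing

section Ring

variable {V A : Type u} [CommRing V] [IsDomain V] [ValuationRing V] [CommRing A] (ψ : V →+* A)

/-- the obstruction to lifting the specialization generic point ⤳ closed point of `Spec V` -/
def Star : Prop :=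
  ∃ v : V, v ≠ 0 ∧ ∃ m ∈ maximalIdeal V, ∃ a : A, ψ v * (1 - ψ m * a) = 0

/-- the `V`-torsion ideal -/
def tors : Ideal A where
  carrier := {a | ∃ v : V, v ≠ 0 ∧ ψ v * a = 0}
  add_mem' := by
    rintro a b ⟨v, hv, hva⟩ ⟨w, hw, hwb⟩
    refine ⟨v * w, mul_ne_zero hv hw, ?_⟩
    have h1 : ψ (v * w) * (a + b) = ψ w * (ψ v * a) + ψ v * (ψ w * b) := by
      rw [map_mul]; ring
    rw [h1, hva, hwb, mul_zero, mul_zero, add_zero]
  zero_mem' := ⟨1, one_ne_zero, by simp⟩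
  smul_mem' := by
    rintro c a ⟨v, hv, hva⟩
    refine ⟨v, hv, ?_⟩
    rw [smul_eq_mul, mul_left_comm, hva, mul_zero]

theorem mem_tors (a : A) : a ∈ tors ψ ↔ ∃ v : V, v ≠ 0 ∧ ψ v * a = 0 := Iff.rfl

theorem exists_of_mem_map (x : A) (hx : x ∈ Ideal.map ψ (maximalIdeal V)) :
    ∃ m ∈ maximalIdeal V, ∃ a : A, x = ψ m * a := by
  have hx' : x ∈ Submodule.span A (ψ '' (maximalIdeal V : Set V)) := hx
  clear hx
  induction hx' using Submodule.span_induction with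
  | mem x hx =>
    obtain ⟨m, hm, rfl⟩ := hx
    exact ⟨m, hm, 1, (mul_one _).symm⟩
  | zero => exact ⟨0, zero_mem _, 0, by simp⟩
  | add x y _ _ hx hy =>
    obtain ⟨m₁, hm₁, a₁, rfl⟩ := hx
    obtain ⟨m₂, hm₂, a₂, rfl⟩ := hy
    rcases ValuationRing.dvd_total m₁ m₂ with ⟨c, rfl⟩ | ⟨c, rfl⟩
    · exact ⟨m₁, hm₁, a₁ + ψ c * a₂, by rw [map_mul]; ring⟩
    · exact ⟨m₂, hm₂, ψ c * a₁ + a₂, by rw [map_mul]; ring⟩
  | smul c x _ hx =>
    obtain ⟨m, hm, a, rfl⟩ := hx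
    exact ⟨m, hm, c * a, by rw [smul_eq_mul]; ring⟩

theorem exists_primes_of_not_star (h : ¬ Star ψ) :
    ∃ q' q : Ideal A, q'.IsPrime ∧ q.IsPrime ∧ q' ≤ q ∧ q.comap ψ = maximalIdeal V ∧
      q'.comap ψ = ⊥ := by
  classical
  obtain ⟨ψB, hψB⟩ : ∃ ψB : V →+* A ⧸ tors ψ, ψB = (Ideal.Quotient.mk (tors ψ)).comp ψ :=
    ⟨_, rfl⟩
  have hψBa : ∀ v, ψB v = Ideal.Quotient.mk (tors ψ) (ψ v) := fun v => by rw [hψB]; rfl
  have hne : Ideal.map ψB (maximalIdeal V) ≠ ⊤ := by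
    intro htop
    have h1 : (1 : A ⧸ tors ψ) ∈ Ideal.map ψB (maximalIdeal V) := by rw [htop]; trivial
    obtain ⟨m, hm, b, hb⟩ := exists_of_mem_map ψB 1 h1
    obtain ⟨a, rfl⟩ := Ideal.Quotient.mk_surjective b
    have h2 : (1 - ψ m * a) ∈ tors ψ := by
      rw [← Ideal.Quotient.eq_zero_iff_mem, map_sub, map_one, map_mul, ← hψBa, sub_eq_zero]
      exact hb
    obtain ⟨v, hv, hva⟩ := h2
    exact h ⟨v, hv, m, hm, a, hva⟩
  obtain ⟨M, hM, hle⟩ := Ideal.exists_le_maximal _ hne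
  have hMc : M.comap ψB = maximalIdeal V := by
    have h3 : maximalIdeal V ≤ M.comap ψB := Ideal.le_comap_of_map_le hle
    exact ((maximalIdeal.isMaximal V).eq_of_le (Ideal.comap_ne_top _ hM.ne_top) h3).symm
  haveI hMp : M.IsPrime := hM.isPrime
  obtain ⟨p, hp, hpM⟩ := Ideal.exists_minimalPrimes_le (bot_le : (⊥ : Ideal (A ⧸ tors ψ)) ≤ M)
  have hpc : p.comap ψB = ⊥ := by
    rw [eq_bot_iff]
    intro v hv
    rw [Ideal.mem_bot]
    by_contra hv0
    have hnzd : ψB v ∈ nonZeroDivisors (A ⧸ tors ψ) := by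
      rw [mem_nonZeroDivisors_iff_right]
      intro b hb
      obtain ⟨a, rfl⟩ := Ideal.Quotient.mk_surjective b
      rw [hψBa, ← map_mul, Ideal.Quotient.eq_zero_iff_mem] at hb
      obtain ⟨v', hv', h4⟩ := hb
      rw [Ideal.Quotient.eq_zero_iff_mem]
      refine ⟨v' * v, mul_ne_zero hv' hv0, ?_⟩
      rw [map_mul, ← h4]; ring
    exact Set.disjoint_left.mp (Ideal.disjoint_nonZeroDivisors_of_mem_minimalPrimes hp) hv hnzd
  haveI hpp : p.IsPrime := hp.1.1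
  refine ⟨p.comap (Ideal.Quotient.mk (tors ψ)), M.comap (Ideal.Quotient.mk (tors ψ)),
    inferInstance, inferInstance, Ideal.comap_mono hpM, ?_, ?_⟩
  · rw [Ideal.comap_comap, ← hψB]; exact hMc
  · rw [Ideal.comap_comap, ← hψB]; exact hpc

theorem not_star_of_primes (q' q : Ideal A) [hq'p : q'.IsPrime] [hqp : q.IsPrime] (hle : q' ≤ q)
    (hq : q.comap ψ = maximalIdeal V) (hq' : q'.comap ψ = ⊥) : ¬ Star ψ := by
  rintro ⟨v, hv, m, hm, a, h0⟩
  have hv' : ψ v ∉ q' := by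
    intro hmem
    have h1 : v ∈ q'.comap ψ := hmem
    rw [hq', Ideal.mem_bot] at h1
    exact hv h1
  have h1 : 1 - ψ m * a ∈ q' := by
    have h2 : ψ v * (1 - ψ m * a) ∈ q' := by rw [h0]; exact zero_mem _
    exact (hq'p.mem_or_mem h2).resolve_left hv'
  have h2 : ψ m ∈ q := by
    have h3 : m ∈ q.comap ψ := by rw [hq]; exact hm
    exact h3
  have h3 : (1 : A) ∈ q := by
    have h4 := add_mem (hle h1) (q.mul_mem_right a h2)
    simpa using h4
  exact hqp.ne_top ((Ideal.eq_top_iff_one _).mpr h3)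

end Ring

section Sch

variable {V : CommRingCat.{u}}

/-- the ring map `V → Γ(P)` of a morphism `P → Spec V` -/
noncomputable def psi {P : Scheme.{u}} (q : P ⟶ Spec V) : V →+* Γ(P, ⊤) :=
  ((Scheme.ΓSpecIso V).inv ≫ q.appTop).hom

theorem psi_comp {P P' : Scheme.{u}} (k : P ⟶ P') (q' : P' ⟶ Spec V) (x : V) :
    psi (k ≫ q') x = k.appTop.hom (psi q' x) := by
  simp only [psi, Scheme.Hom.comp_appTop, CommRingCat.hom_comp, RingHom.comp_apply]

theorem eq_isoSpec_comp {P : Scheme.{u}} [IsAffine P] (q : P ⟶ Spec V) :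
    q = P.isoSpec.hom ≫ Spec.map ((Scheme.ΓSpecIso V).inv ≫ q.appTop) := by
  rw [Spec.map_comp, ← Category.assoc, Scheme.isoSpec_hom_naturality, Scheme.isoSpec_Spec_hom,
    Category.assoc, ← Spec.map_comp, Iso.inv_hom_id, Spec.map_id, Category.comp_id]

variable [IsDomain V] [ValuationRing V]

theorem not_star_of_specializes {P : Scheme.{u}} [IsAffine P] (q : P ⟶ Spec V) {w' w : P}
    (hw : w' ⤳ w) (h1 : q w = closedPoint V) (h2 : q w' = (⊥ : PrimeSpectrum V)) :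
    ¬ Star (psi q) := by
  obtain ⟨Ψ, hΨ⟩ : ∃ Ψ : V ⟶ Γ(P, ⊤), Ψ = (Scheme.ΓSpecIso V).inv ≫ q.appTop := ⟨_, rfl⟩
  have hq : q = P.isoSpec.hom ≫ Spec.map Ψ := by rw [hΨ]; exact eq_isoSpec_comp q
  obtain ⟨x, hxdef⟩ : ∃ x : PrimeSpectrum Γ(P, ⊤), x = P.isoSpec.hom w := ⟨_, rfl⟩
  obtain ⟨x', hx'def⟩ : ∃ x' : PrimeSpectrum Γ(P, ⊤), x' = P.isoSpec.hom w' := ⟨_, rfl⟩
  have hx : x' ⤳ x := by
    rw [hxdef, hx'def]; exact hw.map P.isoSpec.hom.continuous
  have hle : x'.asIdeal ≤ x.asIdeal := (PrimeSpectrum.le_iff_specializes x' x).mpr hx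
  have e1 : (Spec.map Ψ) (P.isoSpec.hom w) = closedPoint V := by
    rw [← Scheme.Hom.comp_apply, ← hq]; exact h1
  have e2 : (Spec.map Ψ) (P.isoSpec.hom w') = (⊥ : PrimeSpectrum V) := by
    rw [← Scheme.Hom.comp_apply, ← hq]; exact h2
  rw [← hxdef] at e1
  rw [← hx'def] at e2
  have e1' : Ideal.comap Ψ.hom x.asIdeal = maximalIdeal V := congrArg PrimeSpectrum.asIdeal e1
  have e2' : Ideal.comap Ψ.hom x'.asIdeal = ⊥ := congrArg PrimeSpectrum.asIdeal e2
  have key := not_star_of_primes Ψ.hom x'.asIdeal x.asIdeal hle e1' e2'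
  rw [hΨ] at key
  exact key

theorem exists_specializes_of_not_star {P : Scheme.{u}} [IsAffine P] (q : P ⟶ Spec V)
    (h : ¬ Star (psi q)) :
    ∃ w' w : P, w' ⤳ w ∧ q w = closedPoint V ∧ q w' = (⊥ : PrimeSpectrum V) := by
  obtain ⟨Ψ, hΨ⟩ : ∃ Ψ : V ⟶ Γ(P, ⊤), Ψ = (Scheme.ΓSpecIso V).inv ≫ q.appTop := ⟨_, rfl⟩
  have hq : q = P.isoSpec.hom ≫ Spec.map Ψ := by rw [hΨ]; exact eq_isoSpec_comp q
  have hq' : P.isoSpec.inv ≫ q = Spec.map Ψ := by rw [hq, Iso.inv_hom_id_assoc]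
  have h' : ¬ Star Ψ.hom := by rw [hΨ]; exact h
  obtain ⟨p', p, hp', hp, hle, e1, e2⟩ := exists_primes_of_not_star Ψ.hom h'
  obtain ⟨x', hx'⟩ : ∃ x' : PrimeSpectrum Γ(P, ⊤), x'.asIdeal = p' := ⟨⟨p', hp'⟩, rfl⟩
  obtain ⟨x, hx⟩ : ∃ x : PrimeSpectrum Γ(P, ⊤), x.asIdeal = p := ⟨⟨p, hp⟩, rfl⟩
  have hsp : x' ⤳ x := (PrimeSpectrum.le_iff_specializes _ _).mp (by
    show x'.asIdeal ≤ x.asIdeal
    rw [hx', hx]; exact hle)
  refine ⟨P.isoSpec.inv x', P.isoSpec.inv x, hsp.map P.isoSpec.inv.continuous, ?_, ?_⟩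
  · rw [← Scheme.Hom.comp_apply, hq']
    apply PrimeSpectrum.ext
    show Ideal.comap Ψ.hom x.asIdeal = maximalIdeal V
    rw [hx]; exact e1
  · rw [← Scheme.Hom.comp_apply, hq']
    apply PrimeSpectrum.ext
    show Ideal.comap Ψ.hom x'.asIdeal = ⊥
    rw [hx']; exact e2

/-- the obstruction descends to a stage of a cofiltered limit of affine schemes -/
theorem exists_star_stage {I : Type u} [SmallCategory I] [IsCofiltered I]
    (D' : I ⥤ Scheme.{u}) (c' : Cone D') (hc' : IsLimit c') [∀ i, IsAffine (D'.obj i)]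
    (s : ∀ i, D'.obj i ⟶ Spec V) (hs : ∀ {i j : I} (a : i ⟶ j), D'.map a ≫ s j = s i)
    (t : c'.pt ⟶ Spec V) (ht : ∀ i, c'.π.app i ≫ s i = t) (h : Star (psi t)) :
    ∃ i, Star (psi (s i)) := by
  obtain ⟨v, hv, m, hm, a, h0⟩ := h
  obtain ⟨i, ai, hai⟩ := exists_appTop_π_eq_of_isAffine_of_isLimit D' c' hc' a
  have hzero : (c'.π.app i).appTop.hom
      (psi (s i) v * (1 - psi (s i) m * ai)) = 0 := by
    rw [map_mul, map_sub, map_one, map_mul, ← psi_comp, ← psi_comp, ht]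
    rw [show (c'.π.app i).appTop.hom ai = a from hai]
    exact h0
  obtain ⟨j, f, hj⟩ := exists_appTop_map_eq_zero_of_isAffine_of_isLimit D' c' hc' i _ hzero
  refine ⟨j, v, hv, m, hm, (D'.map f).appTop.hom ai, ?_⟩
  have hj' : (D'.map f).appTop.hom (psi (s i) v * (1 - psi (s i) m * ai)) = 0 := hj
  rw [map_mul, map_sub, map_one, map_mul, ← psi_comp, ← psi_comp, hs] at hj'
  exact hj'

end Sch

section Lim

variable {Y : Scheme.{u}} {I : Type u} [SmallCategory I] [IsCofiltered I] (D : I ⥤ Over Y)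
  (c : Cone D) {T : Scheme.{u}} (g : T ⟶ Y)

/-- the base change of the cone along `g`, as a cone of schemes -/
noncomputable def pbCone : Cone ((D ⋙ Over.pullback g) ⋙ Over.forget T) :=
  (Over.forget T).mapCone ((Over.pullback g).mapCone c)

variable {D c} in
noncomputable def pbConeIsLimit (hc : IsLimit ((Over.forget Y).mapCone c)) :
    IsLimit (pbCone D c g) := by
  haveI := IsCofiltered.isConnected I
  have h0 : IsLimit c := isLimitOfReflects (Over.forget Y) hc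
  exact isLimitOfPreserves (Over.forget T) (isLimitOfPreserves (Over.pullback g) h0)

end Lim

section Main

open Groth.Agent.Lead.HCov

variable {Y : Scheme.{u}} [IsAffine Y] {I : Type u} [SmallCategory I] [IsCofiltered I]
  (D : I ⥤ Over Y) [∀ i, IsAffine (D.obj i).left] (c : Cone D)

theorem hasValLift_stage (i : I)
    (h : HTop.HasValLift (PreZeroHypercover.singleton.{w} c.pt.hom)) :
    HTop.HasValLift (PreZeroHypercover.singleton.{w} (D.obj i).hom) := by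
  intro V _ _ g
  obtain ⟨W, hW1, hW2, φ, hφ, j, ℓ, hℓ⟩ := h V g
  obtain ⟨ℓ', hℓ'⟩ : ∃ ℓ' : Spec W ⟶ c.pt.left, ℓ' ≫ c.pt.hom = Spec.map φ ≫ g := ⟨ℓ, hℓ⟩
  refine ⟨W, hW1, hW2, φ, hφ, PUnit.unit, ℓ' ≫ (c.π.app i).left, ?_⟩
  show (ℓ' ≫ (c.π.app i).left) ≫ (D.obj i).hom = Spec.map φ ≫ g
  have hw : (c.π.app i).left ≫ (D.obj i).hom = c.pt.hom := Over.w (c.π.app i)
  rw [Category.assoc, hw, hℓ']

/-- a stage with the valuation lifting property has no obstruction -/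
theorem not_star_stage (X : Over Y) [IsAffine X.left]
    (h : HTop.HasValLift (PreZeroHypercover.singleton.{w} X.hom))
    (V : CommRingCat.{u}) [IsDomain V] [ValuationRing V] (g : Spec V ⟶ Y) :
    ¬ Star (psi (pullback.snd X.hom g)) := by
  obtain ⟨W, hW1, hW2, φ, ⟨hφ1, hφ2⟩, j, ℓ, hℓ⟩ := h V g
  obtain ⟨ℓ', hℓ'⟩ : ∃ ℓ' : Spec W ⟶ X.left, ℓ' ≫ X.hom = Spec.map φ ≫ g := ⟨ℓ, hℓ⟩
  obtain ⟨k, hk1, hk2⟩ : ∃ k : Spec W ⟶ pullback X.hom g,
      k ≫ pullback.fst X.hom g = ℓ' ∧ k ≫ pullback.snd X.hom g = Spec.map φ :=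
    ⟨pullback.lift ℓ' (Spec.map φ) hℓ', pullback.lift_fst _ _ _, pullback.lift_snd _ _ _⟩
  refine not_star_of_specializes (pullback.snd X.hom g)
    (w' := k (⊥ : PrimeSpectrum W)) (w := k (closedPoint W)) ?_ ?_ ?_
  · exact (IsLocalRing.specializes_closedPoint (⊥ : PrimeSpectrum W)).map k.continuous
  · rw [← Scheme.Hom.comp_apply, hk2]
    haveI := hφ2
    exact comap_closedPoint φ.hom
  · rw [← Scheme.Hom.comp_apply, hk2]
    apply PrimeSpectrum.ext
    exact (RingHom.injective_iff_ker_eq_bot _).mp hφ1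

theorem hasValLift_limit (hc : IsLimit ((Over.forget Y).mapCone c))
    (h : ∀ i, HTop.HasValLift (PreZeroHypercover.singleton.{w} (D.obj i).hom)) :
    HTop.HasValLift (PreZeroHypercover.singleton.{w} c.pt.hom) := by
  intro V _ _ g
  haveI hXaff : IsAffine c.pt.left := by
    haveI : ∀ i, IsAffine ((D ⋙ Over.forget Y).obj i) := fun i =>
      inferInstanceAs (IsAffine (D.obj i).left)
    exact Scheme.isAffine_of_isLimit ((Over.forget Y).mapCone c) hc
  haveI hPaff : ∀ i, IsAffine (((D ⋙ Over.pullback g) ⋙ Over.forget (Spec V)).obj i) := fun i =>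
    inferInstanceAs (IsAffine (pullback (D.obj i).hom g))
  have hns : ¬ Star (psi (pullback.snd c.pt.hom g)) := by
    intro hstar
    obtain ⟨i, hi⟩ := exists_star_stage ((D ⋙ Over.pullback g) ⋙ Over.forget (Spec V))
      (pbCone D c g) (pbConeIsLimit g hc)
      (fun i => pullback.snd (D.obj i).hom g)
      (fun {i j} a => Over.w ((Over.pullback g).map (D.map a)))
      (pullback.snd c.pt.hom g)
      (fun i => Over.w ((Over.pullback g).map (c.π.app i))) hstar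
    exact not_star_stage (D.obj i) (h i) V g hi
  obtain ⟨w', w, hw, h1, h2⟩ := exists_specializes_of_not_star (pullback.snd c.pt.hom g) hns
  obtain ⟨W, hW1, hW2, φ, hφ, ℓ, hℓ⟩ :=
    exists_ext_of_specializes V (pullback.snd c.pt.hom g) hw h1 h2
  refine ⟨W, hW1, hW2, φ, hφ, PUnit.unit, ℓ ≫ pullback.fst c.pt.hom g, ?_⟩
  show (ℓ ≫ pullback.fst c.pt.hom g) ≫ c.pt.hom = Spec.map φ ≫ g
  rw [Category.assoc, pullback.condition, ← Category.assoc, hℓ]

theorem main (hc : IsLimit ((Over.forget Y).mapCone c)) :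
    HTop.IsStandardV (PreZeroHypercover.singleton.{w} c.pt.hom) ↔
      ∀ i, HTop.IsStandardV (PreZeroHypercover.singleton.{w} (D.obj i).hom) := by
  constructor
  · intro h i
    exact ⟨inferInstance, inferInstanceAs (Finite PUnit), fun _ =>
      inferInstanceAs (IsAffine (D.obj i).left), hasValLift_stage D c i h.lift⟩
  · intro h
    refine ⟨inferInstance, inferInstanceAs (Finite PUnit), fun _ => ?_,
      hasValLift_limit D c hc (fun i => (h i).lift)⟩
    haveI : ∀ i, IsAffine ((D ⋙ Over.forget Y).obj i) := fun i =>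
      inferInstanceAs (IsAffine (D.obj i).left)
    exact Scheme.isAffine_of_isLimit ((Over.forget Y).mapCone c) hc

end Main

end Groth.Agent.Helper8.StdVLim
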