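import Mathlib

/-!
# Algebra for the Stein factorization of proper flat morphisms with geometrically reduced fibres

* `SteinAlg.closure_eq_top_of_isPushout`: descent of "spanned by a set of elements" along a field
  extension.
* `SteinAlg.mem_closure_idempotents`: a finite reduced algebra over an algebraically closed field
  is spanned by idempotents.
-/

set_option autoImplicit false
set_option linter.style.haveILetI false
set_option linter.unusedSectionVars false
set_option linter.unusedVariables false

universe u

open TensorProduct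

namespace Groth.Agent.Helper8.SteinAlg

/-- Let `k` be a field, `k'` a nonzero `k`-algebra, `E` a `k`-algebra and `E' = k' ⊗ E`.  If `E'`
is additively generated by the products `c' * y` with `c' ∈ k'` and `y` in (the image of) a
subset `G` of `E`, then `E` is additively generated by the products `c * y`, `c ∈ k`, `y ∈ G`. -/
theorem closure_eq_top_of_isPushout {k k' E E' : Type u} [Field k] [CommRing k']
    [CommRing E] [CommRing E'] [Nontrivial k'] [Algebra k k'] [Algebra k E] [Algebra k' E']
    [Algebra E E'] [Algebra k E'] [IsScalarTower k k' E'] [IsScalarTower k E E']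
    [Algebra.IsPushout k k' E E'] (G : Set E)
    (h : ∀ m : E', m ∈ AddSubgroup.closure
      {x : E' | ∃ c' : k', ∃ y ∈ G, x = algebraMap k' E' c' * algebraMap E E' y}) :
    ∀ m : E, m ∈ AddSubgroup.closure {x : E | ∃ c : k, ∃ y ∈ G, x = algebraMap k E c * y} := by
  set I : Submodule k E := Submodule.span k G with hI
  have hsmul : ∀ (a : k) (x : E), x ∈ AddSubgroup.closure
      {x : E | ∃ c : k, ∃ y ∈ G, x = algebraMap k E c * y} →
      a • x ∈ AddSubgroup.closure {x : E | ∃ c : k, ∃ y ∈ G, x = algebraMap k E c * y} := by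
    intro a x hx
    induction hx using AddSubgroup.closure_induction with
    | mem z hz =>
      obtain ⟨c, y, hy, rfl⟩ := hz
      refine AddSubgroup.subset_closure ⟨a * c, y, hy, ?_⟩
      rw [Algebra.smul_def, map_mul, mul_assoc]
    | zero => rw [smul_zero]; exact zero_mem _
    | add z w _ _ hz hw => rw [smul_add]; exact add_mem hz hw
    | neg z _ hz => rw [smul_neg]; exact neg_mem hz
  have hIcl : ∀ m ∈ I, m ∈ AddSubgroup.closure
      {x : E | ∃ c : k, ∃ y ∈ G, x = algebraMap k E c * y} := by
    intro m hm
    induction hm using Submodule.span_induction with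
    | mem x hx =>
      exact AddSubgroup.subset_closure ⟨1, x, hx, by rw [map_one, one_mul]⟩
    | zero => exact zero_mem _
    | add x y _ _ hx hy => exact add_mem hx hy
    | smul a x _ hx => exact hsmul a x hx
  suffices hI_top : I = ⊤ by
    intro m
    exact hIcl m (hI_top ▸ Submodule.mem_top)
  let e : k' ⊗[k] E ≃ₐ[k'] E' := Algebra.IsPushout.equiv k k' E E'
  have he : ∀ (a : k') (b : E), e (a ⊗ₜ b) = algebraMap k' E' a * algebraMap E E' b :=
    fun a b => Algebra.IsPushout.equiv_tmul k k' E E' a b
  have hsurj : Function.Surjective (I.subtype.lTensor k') := by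
    intro z
    have hz := h (e z)
    have key : ∀ m : E', m ∈ AddSubgroup.closure
        {x : E' | ∃ c' : k', ∃ y ∈ G, x = algebraMap k' E' c' * algebraMap E E' y} →
        ∃ w : k' ⊗[k] I, e (I.subtype.lTensor k' w) = m := by
      intro m hm
      induction hm using AddSubgroup.closure_induction with
      | mem x hx =>
        obtain ⟨c', y, hy, rfl⟩ := hx
        refine ⟨c' ⊗ₜ ⟨y, Submodule.subset_span hy⟩, ?_⟩
        rw [LinearMap.lTensor_tmul, he]
        rfl
      | zero => exact ⟨0, by rw [map_zero, map_zero]⟩
      | add x y _ _ hx hy =>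
        obtain ⟨w₁, hw₁⟩ := hx
        obtain ⟨w₂, hw₂⟩ := hy
        exact ⟨w₁ + w₂, by rw [map_add, map_add, hw₁, hw₂]⟩
      | neg x _ hx =>
        obtain ⟨w, hw⟩ := hx
        exact ⟨-w, by rw [map_neg, map_neg, hw]⟩
    obtain ⟨w, hw⟩ := key (e z) hz
    exact ⟨w, e.injective hw⟩
  have hsurj' : Function.Surjective I.subtype :=
    (Module.FaithfullyFlat.lTensor_surjective_iff_surjective k k' I.subtype).mp hsurj
  rw [← Submodule.range_subtype I]
  exact LinearMap.range_eq_top.mpr hsurj'

/-- a finite reduced algebra over an algebraically closed field is spanned by idempotents -/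
theorem mem_closure_idempotents {k E : Type u} [Field k] [IsAlgClosed k] [CommRing E]
    [Algebra k E] [Module.Finite k E] [IsReduced E] (m : E) :
    m ∈ AddSubgroup.closure
      {x : E | ∃ c : k, ∃ e : E, IsIdempotentElem e ∧ x = algebraMap k E c * e} := by
  haveI : IsArtinianRing E := IsArtinianRing.of_finite k E
  let φ := IsArtinianRing.equivPi E
  haveI : Finite (MaximalSpectrum E) := inferInstance
  haveI : Fintype (MaximalSpectrum E) := Fintype.ofFinite _
  classical
  -- coordinates
  have hcoord : ∀ I : MaximalSpectrum E, ∃ c : k,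
      algebraMap k (E ⧸ I.asIdeal) c = Ideal.Quotient.mk I.asIdeal m := by
    intro I
    haveI : I.asIdeal.IsMaximal := I.isMaximal
    letI : Field (E ⧸ I.asIdeal) := Ideal.Quotient.field I.asIdeal
    haveI : Module.Finite k (E ⧸ I.asIdeal) :=
      Module.Finite.of_surjective (Ideal.Quotient.mkₐ k I.asIdeal).toLinearMap
        (Ideal.Quotient.mkₐ_surjective k I.asIdeal)
    haveI : Algebra.IsIntegral k (E ⧸ I.asIdeal) := Algebra.IsIntegral.of_finite k _
    exact (IsAlgClosed.algebraMap_bijective_of_isIntegral (k := k) (K := E ⧸ I.asIdeal)).2 _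
  choose c hc using hcoord
  let idem : MaximalSpectrum E → E := fun I => φ.symm (Pi.single I 1)
  have hidem : ∀ I, IsIdempotentElem (idem I) := by
    intro I
    show idem I * idem I = idem I
    dsimp only [idem]
    rw [← map_mul, ← Pi.single_mul, one_mul]
  have hm : m = ∑ I : MaximalSpectrum E, algebraMap k E (c I) * idem I := by
    apply φ.injective
    rw [map_sum]
    funext J
    rw [Finset.sum_apply]
    have h1 : ∀ I : MaximalSpectrum E, φ (algebraMap k E (c I) * idem I) J =
        if I = J then Ideal.Quotient.mk J.asIdeal m else 0 := by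
      intro I
      rw [map_mul]
      dsimp only [idem]
      rw [AlgEquiv.apply_symm_apply, Pi.mul_apply]
      by_cases hIJ : I = J
      · subst hIJ
        rw [if_pos rfl, Pi.single_eq_same, mul_one]
        show Ideal.Quotient.mk I.asIdeal (algebraMap k E (c I)) = _
        rw [← hc I]
        rfl
      · rw [if_neg hIJ, Pi.single_eq_of_ne (Ne.symm hIJ), mul_zero]
    rw [Finset.sum_congr rfl (fun I _ => h1 I), Finset.sum_ite_eq' Finset.univ J]
    simp only [Finset.mem_univ, if_true]
    rfl
  rw [hm]
  apply sum_mem
  intro I _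
  exact AddSubgroup.subset_closure ⟨c I, idem I, hidem I, rfl⟩

open CategoryTheory CategoryTheory.Limits in
/-- categorical form of `closure_eq_top_of_isPushout` -/
theorem closure_eq_top_of_isPushout_cat {k k' E E' : CommRingCat.{u}} {a : k ⟶ E} {b : k ⟶ k'}
    {c : E ⟶ E'} {d : k' ⟶ E'} (H : IsPushout a b c d) (K : Type u) [Field K]
    (e : k ≅ CommRingCat.of K) [Nontrivial k'] (G : Set E)
    (h : ∀ m : E', m ∈ AddSubgroup.closure
      {x : E' | ∃ c' : k', ∃ y ∈ G, x = d.hom c' * c.hom y}) :
    ∀ m : E, m ∈ AddSubgroup.closure {x : E | ∃ c₀ : k, ∃ y ∈ G, x = a.hom c₀ * y} := by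
  letI aKE : Algebra K E := (a.hom.comp e.inv.hom).toAlgebra
  letI aKk' : Algebra K k' := (b.hom.comp e.inv.hom).toAlgebra
  letI ak'E' : Algebra k' E' := d.hom.toAlgebra
  letI aEE' : Algebra E E' := c.hom.toAlgebra
  letI aKE' : Algebra K E' := (c.hom.comp (a.hom.comp e.inv.hom)).toAlgebra
  haveI t1 : IsScalarTower K E E' := IsScalarTower.of_algebraMap_eq' rfl
  haveI t2 : IsScalarTower K k' E' := by
    apply IsScalarTower.of_algebraMap_eq'
    show c.hom.comp (a.hom.comp e.inv.hom) = d.hom.comp (b.hom.comp e.inv.hom)
    have hw : a ≫ c = b ≫ d := H.w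
    have hw' : c.hom.comp a.hom = d.hom.comp b.hom := by
      have := congrArg CommRingCat.Hom.hom hw
      simpa using this
    rw [← RingHom.comp_assoc, ← RingHom.comp_assoc, hw']
  have H2 : IsPushout (CommRingCat.ofHom (algebraMap K k')) (CommRingCat.ofHom (algebraMap K E))
      (CommRingCat.ofHom (algebraMap k' E')) (CommRingCat.ofHom (algebraMap E E')) := by
    refine IsPushout.of_iso H.flip e (Iso.refl _) (Iso.refl _) (Iso.refl _) ?_ ?_ ?_ ?_
    · ext x
      show b.hom x = b.hom (e.inv.hom (e.hom.hom x))
      have : e.inv.hom (e.hom.hom x) = x := by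
        have := congrArg (fun φ => φ.hom x) e.hom_inv_id
        simpa using this
      rw [this]
    · ext x
      show a.hom x = a.hom (e.inv.hom (e.hom.hom x))
      have : e.inv.hom (e.hom.hom x) = x := by
        have := congrArg (fun φ => φ.hom x) e.hom_inv_id
        simpa using this
      rw [this]
    · ext x
      rfl
    · ext x
      rfl
  haveI : Algebra.IsPushout K k' E E' := CommRingCat.isPushout_iff_isPushout.mp H2
  have key := closure_eq_top_of_isPushout (k := K) (k' := k') (E := E) (E' := E') G h
  intro m
  refine AddSubgroup.closure_mono ?_ (key m)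
  rintro _ ⟨c₀, y, hy, rfl⟩
  exact ⟨e.inv.hom c₀, y, hy, rfl⟩

end Groth.Agent.Helper8.SteinAlg
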