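import Groth.Agent.Helper8.SteinA
import Groth.Agent.Helper8.SteinB

/-!
# Flat descent of "functions on the fibre are generated by functions near the fibre"
-/

set_option autoImplicit false
set_option linter.style.haveILetI false
set_option linter.unusedSectionVars false
set_option linter.unusedVariables false

universe u

namespace Groth.Agent.Helper8.Stein

open CategoryTheory CategoryTheory.Limits AlgebraicGeometry Opposite TopologicalSpace

/-- sections along a commutative square of schemes -/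
theorem appLE_square {A B C D : Scheme.{u}} (p : A ⟶ B) (r : B ⟶ D) (p' : A ⟶ C) (r' : C ⟶ D)
    (H : p ≫ r = p' ≫ r') (U : D.Opens) (VB : B.Opens) (VC : C.Opens) (VA : A.Opens)
    (e₁ : VB ≤ r ⁻¹ᵁ U) (e₂ : VA ≤ p ⁻¹ᵁ VB) (e₁' : VC ≤ r' ⁻¹ᵁ U) (e₂' : VA ≤ p' ⁻¹ᵁ VC)
    (x : Γ(D, U)) :
    (p.appLE VB VA e₂).hom ((r.appLE U VB e₁).hom x) =
      (p'.appLE VC VA e₂').hom ((r'.appLE U VC e₁').hom x) := by
  have h1 := Scheme.Hom.appLE_comp_appLE p r U VB VA e₁ e₂
  have h2 := Scheme.Hom.appLE_comp_appLE p' r' U VC VA e₁' e₂'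
  have h3 : ∀ (m₁ m₂ : A ⟶ D) (hm : m₁ = m₂) (e : VA ≤ m₁ ⁻¹ᵁ U),
      m₁.appLE U VA e = m₂.appLE U VA (hm ▸ e) := by
    intro m₁ m₂ hm e
    subst hm
    rfl
  have h4 := h1.trans ((h3 _ _ H _).trans h2.symm)
  exact congrArg (fun φ => φ.hom x) h4

section FibreSquare

variable {X S X' S' : Scheme.{u}} {f : X ⟶ S} {g : S' ⟶ S} {f' : X' ⟶ S'} {g' : X' ⟶ X}
  (h : IsPullback g' f' f g) (s' : S')

/-- the map of fibres -/
noncomputable abbrev fiberMap : f'.fiber s' ⟶ f.fiber (g s') :=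
  pullback.map _ _ _ _ g' (Spec.map (g.residueFieldMap s')) g h.w.symm (by simp)

theorem fiberMap_fiberι : fiberMap h s' ≫ f.fiberι (g s') = f'.fiberι s' ≫ g' :=
  pullback.lift_fst _ _ _

theorem appLE_top_eq {A B : Scheme.{u}} (p : A ⟶ B) (e : (⊤ : A.Opens) ≤ p ⁻¹ᵁ ⊤) :
    p.appLE ⊤ ⊤ e = p.appTop :=
  Scheme.Hom.appLE_eq_app p

theorem isPushout_fibre [QuasiCompact f] [QuasiSeparated f] :
    IsPushout (f.fiberToSpecResidueField (g s')).appTop
      (Spec.map (g.residueFieldMap s')).appTop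
      (fiberMap h s').appTop (f'.fiberToSpecResidueField s').appTop := by
  have sq := isPullback_fiberToSpecResidueField_of_isPullback h s'
  haveI : Flat (Spec.map (g.residueFieldMap s')) := by
    rw [Flat.SpecMap_iff]
    algebraize [(g.residueFieldMap s').hom]
    show Module.Flat (S.residueField (g s')) (S'.residueField s')
    infer_instance
  haveI : QuasiCompact (f.fiberToSpecResidueField (g s')) :=
    MorphismProperty.pullback_snd (P := @QuasiCompact) f (S.fromSpecResidueField (g s'))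
      inferInstance
  haveI : QuasiSeparated (f.fiberToSpecResidueField (g s')) :=
    MorphismProperty.pullback_snd (P := @QuasiSeparated) f (S.fromSpecResidueField (g s'))
      inferInstance
  haveI : QuasiSeparatedSpace ↥(f.fiber (g s')) :=
    quasiSeparatedSpace_of_quasiSeparated (f.fiberToSpecResidueField (g s'))
  have hUY : (⊤ : (f'.fiber s').Opens) = (fiberMap h s') ⁻¹ᵁ ⊤ ⊓
      (f'.fiberToSpecResidueField s') ⁻¹ᵁ ⊤ := by
    ext x
    simp
  have hiso := isIso_pushoutSection_of_isQuasiSeparated_of_flat_right sq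
    (US := ⊤) (UT := ⊤) (UX := ⊤) (UY := ⊤) le_top le_top hUY (isAffineOpen_top _)
    (isAffineOpen_top _) (isCompact_univ (X := ↥(f.fiber (g s'))))
    (isQuasiSeparated_univ (α := ↥(f.fiber (g s'))))
  have hpo := (isIso_pushoutSection_iff sq le_top le_top hUY).mp hiso
  refine IsPushout.of_iso hpo (Iso.refl _) (Iso.refl _) (Iso.refl _) (Iso.refl _) ?_ ?_ ?_ ?_
  all_goals
    exact (Category.comp_id _).trans ((appLE_top_eq _ _).trans (Category.id_comp _).symm)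

end FibreSquare

section Descent

variable {X S X' S' : Scheme.{u}} {f : X ⟶ S} {g : S' ⟶ S} {f' : X' ⟶ S'} {g' : X' ⟶ X}
  (h : IsPullback g' f' f g) (s' : S')

set_option maxHeartbeats 1600000 in
theorem restrict_mem_closure [QuasiCompact f] [QuasiSeparated f] [Flat g]
    (W : S.Opens) (hW : IsAffineOpen W) (hsW : g s' ∈ W)
    (c : Γ(Spec (S'.residueField s'), ⊤)) (V' : S'.Opens) (hsV' : s' ∈ V')
    (t' : Γ(X', f' ⁻¹ᵁ V')) :
    (f'.fiberToSpecResidueField s').appTop.hom c *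
        ((f'.fiberι s').appLE (f' ⁻¹ᵁ V') ⊤ (fiber_le f' s' V' hsV')).hom t' ∈
      AddSubgroup.closure {x : Γ(f'.fiber s', ⊤) | ∃ c' : Γ(Spec (S'.residueField s'), ⊤),
        ∃ y ∈ Set.range ((f.fiberι (g s')).appLE (f ⁻¹ᵁ W) ⊤ (fiber_le f (g s') W hsW)).hom,
        x = (f'.fiberToSpecResidueField s').appTop.hom c' * (fiberMap h s').appTop.hom y} := by
  set Gen : Set Γ(f'.fiber s', ⊤) := {x : Γ(f'.fiber s', ⊤) |
    ∃ c' : Γ(Spec (S'.residueField s'), ⊤),
      ∃ y ∈ Set.range ((f.fiberι (g s')).appLE (f ⁻¹ᵁ W) ⊤ (fiber_le f (g s') W hsW)).hom,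
      x = (f'.fiberToSpecResidueField s').appTop.hom c' * (fiberMap h s').appTop.hom y} with hGen
  obtain ⟨W', hW', hs'W', hW'le⟩ := exists_isAffineOpen_mem_and_subset (x := s')
    (U := V' ⊓ g ⁻¹ᵁ W) ⟨hsV', hsW⟩
  have hW'V' : W' ≤ V' := hW'le.trans inf_le_left
  have hW'W : W' ≤ g ⁻¹ᵁ W := hW'le.trans inf_le_right
  have hpre : f' ⁻¹ᵁ W' ≤ f' ⁻¹ᵁ V' := (Opens.map f'.base).monotone hW'V'
  set u : Γ(X', f' ⁻¹ᵁ W') := (X'.presheaf.map (homOfLE hpre).op).hom t' with hu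
  have hru : ((f'.fiberι s').appLE (f' ⁻¹ᵁ V') ⊤ (fiber_le f' s' V' hsV')).hom t' =
      ((f'.fiberι s').appLE (f' ⁻¹ᵁ W') ⊤ (fiber_le f' s' W' hs'W')).hom u := by
    have h1 := Scheme.Hom.map_appLE (f'.fiberι s') (fiber_le f' s' W' hs'W') (homOfLE hpre).op
    exact (congrArg (fun φ => φ.hom t') h1).symm
  rw [hru]
  have hle : f' ⁻¹ᵁ W' ≤ g' ⁻¹ᵁ (f ⁻¹ᵁ W) :=
    Groth.Agent.Lead.BCMap.preimage_le f g g' f' h.w W W' hW'W
  have hUY : f' ⁻¹ᵁ W' = g' ⁻¹ᵁ (f ⁻¹ᵁ W) ⊓ f' ⁻¹ᵁ W' :=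
    le_antisymm (le_inf hle le_rfl) inf_le_right
  have hiso := isIso_pushoutSection_of_isQuasiSeparated_of_flat_right h hW'W
    (le_refl (f ⁻¹ᵁ W)) hUY hW hW' (f.isCompact_preimage hW.isCompact)
    (f.isQuasiSeparated_preimage hW.isQuasiSeparated)
  have hpo := (isIso_pushoutSection_iff h hW'W (le_refl (f ⁻¹ᵁ W)) hUY).mp hiso
  have hcl := CommRingCat.closure_range_union_range_eq_top_of_isPushout hpo
  have hu_mem := hcl ▸ Subring.mem_top u
  rw [Subring.mem_closure_iff] at hu_mem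
  have hGen_one : (1 : Γ(f'.fiber s', ⊤)) ∈ Gen :=
    ⟨1, 1, ⟨1, map_one _⟩, by rw [map_one, map_one, mul_one]⟩
  have hGen_mul : ∀ x y, x ∈ Gen → y ∈ Gen → x * y ∈ Gen := by
    rintro _ _ ⟨c₁, _, ⟨t₁, rfl⟩, rfl⟩ ⟨c₂, _, ⟨t₂, rfl⟩, rfl⟩
    refine ⟨c₁ * c₂, _, ⟨t₁ * t₂, rfl⟩, ?_⟩
    rw [map_mul, map_mul, map_mul]
    ring
  have e₁' : (⊤ : (Spec (S'.residueField s')).Opens) ≤ (S'.fromSpecResidueField s') ⁻¹ᵁ W' := by
    intro z _
    show S'.fromSpecResidueField s' z ∈ W'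
    rw [Scheme.fromSpecResidueField_apply]
    exact hs'W'
  have hmon : ∀ v ∈ Submonoid.closure
      (Set.range (g'.appLE (f ⁻¹ᵁ W) (f' ⁻¹ᵁ W') hle) ∪
        Set.range (f'.appLE W' (f' ⁻¹ᵁ W') le_rfl)),
      ((f'.fiberι s').appLE (f' ⁻¹ᵁ W') ⊤ (fiber_le f' s' W' hs'W')).hom v ∈ Gen := by
    intro v hv
    induction hv using Submonoid.closure_induction with
    | mem v hv =>
      rcases hv with ⟨t, rfl⟩ | ⟨a', rfl⟩
      · refine ⟨1, _, ⟨t, rfl⟩, ?_⟩
        rw [map_one, one_mul]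
        have h1 := appLE_square (f'.fiberι s') g' (fiberMap h s') (f.fiberι (g s'))
          (fiberMap_fiberι h s').symm (f ⁻¹ᵁ W) (f' ⁻¹ᵁ W') ⊤ ⊤ hle
          (fiber_le f' s' W' hs'W') (fiber_le f (g s') W hsW) le_top t
        rw [appLE_top_eq] at h1
        exact h1
      · refine ⟨((S'.fromSpecResidueField s').appLE W' ⊤ e₁').hom a', 1, ⟨1, map_one _⟩, ?_⟩
        rw [map_one, mul_one]
        have h1 := appLE_square (f'.fiberι s') f' (f'.fiberToSpecResidueField s')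
          (S'.fromSpecResidueField s') (f'.fiber_fac s') W' (f' ⁻¹ᵁ W') ⊤ ⊤ le_rfl
          (fiber_le f' s' W' hs'W') e₁' le_top a'
        rw [appLE_top_eq] at h1
        exact h1
    | one => rw [map_one]; exact hGen_one
    | mul v w _ _ hv hw => rw [map_mul]; exact hGen_mul _ _ hv hw
  have hadd : ∀ v ∈ AddSubgroup.closure ((Submonoid.closure
      (Set.range (g'.appLE (f ⁻¹ᵁ W) (f' ⁻¹ᵁ W') hle) ∪
        Set.range (f'.appLE W' (f' ⁻¹ᵁ W') le_rfl)) : Submonoid Γ(X', f' ⁻¹ᵁ W')) :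
        Set Γ(X', f' ⁻¹ᵁ W')),
      (f'.fiberToSpecResidueField s').appTop.hom c *
        ((f'.fiberι s').appLE (f' ⁻¹ᵁ W') ⊤ (fiber_le f' s' W' hs'W')).hom v ∈
        AddSubgroup.closure Gen := by
    intro v hv
    induction hv using AddSubgroup.closure_induction with
    | mem v hv =>
      obtain ⟨c', y, hy, hv'⟩ := hmon v hv
      apply AddSubgroup.subset_closure
      refine ⟨c * c', y, hy, ?_⟩
      rw [hv', map_mul, mul_assoc]
    | zero => rw [map_zero, mul_zero]; exact zero_mem _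
    | add v w _ _ hv hw => rw [map_add, mul_add]; exact add_mem hv hw
    | neg v _ hv => rw [map_neg, mul_neg]; exact neg_mem hv
  exact hadd u hu_mem

include h in
theorem fibGen_descent [QuasiCompact f] [QuasiSeparated f] [Flat g]
    (H : ∀ m : Γ(f'.fiber s', ⊤), m ∈ AddSubgroup.closure (fibGen f' s')) :
    ∀ m : Γ(f.fiber (g s'), ⊤), m ∈ AddSubgroup.closure (fibGen f (g s')) := by
  obtain ⟨W, hW, hsW, -⟩ := exists_isAffineOpen_mem_and_subset (x := g s')
    (U := (⊤ : S.Opens)) trivial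
  have H1 := isPushout_fibre h s'
  haveI : Nontrivial Γ(Spec (S'.residueField s'), ⊤) :=
    (Scheme.ΓSpecIso (S'.residueField s')).commRingCatIsoToRingEquiv.symm.injective.nontrivial
  have hyp : ∀ m : Γ(f'.fiber s', ⊤), m ∈ AddSubgroup.closure
      {x : Γ(f'.fiber s', ⊤) | ∃ c' : Γ(Spec (S'.residueField s'), ⊤),
        ∃ y ∈ Set.range ((f.fiberι (g s')).appLE (f ⁻¹ᵁ W) ⊤ (fiber_le f (g s') W hsW)).hom,
        x = (f'.fiberToSpecResidueField s').appTop.hom c' * (fiberMap h s').appTop.hom y} := by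
    intro m
    have hm := H m
    induction hm using AddSubgroup.closure_induction with
    | mem x hx =>
      obtain ⟨c, V', hsV', t', rfl⟩ := hx
      exact restrict_mem_closure h s' W hW hsW c V' hsV' t'
    | zero => exact zero_mem _
    | add x y _ _ hx hy => exact add_mem hx hy
    | neg x _ hx => exact neg_mem hx
  have key := Groth.Agent.Helper8.SteinAlg.closure_eq_top_of_isPushout_cat H1
    (S.residueField (g s')) (Scheme.ΓSpecIso (S.residueField (g s')))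
    (Set.range ((f.fiberι (g s')).appLE (f ⁻¹ᵁ W) ⊤ (fiber_le f (g s') W hsW)).hom) hyp
  intro m
  refine AddSubgroup.closure_mono ?_ (key m)
  rintro _ ⟨c₀, _, ⟨t, rfl⟩, rfl⟩
  exact ⟨c₀, W, hsW, t, rfl⟩

end Descent

end Groth.Agent.Helper8.Stein
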