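import Groth.Agent.Helper8.SteinC
import Groth.Agent.Helper1.ResExtMain
import Groth.Agent.Helper1.Seesaw10
import Groth.Agent.Helper3.SteinI3

/-!
# The key lemma: surjectivity of the base change map in degree zero at a point whose geometric
fibre is reduced (EGA III 7.8.6)

Let `f : X ⟶ S` be proper and let `s ∈ S` be a point such that the base change of `f` to every
algebraically closed field is reduced.  Then `(f_* O_X)(s) → Γ(X_s, O)` is surjective.

We base change along a flat local homomorphism `O_{S,s} → B` whose residue field is an algebraic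
closure of `κ(s)` (helper1's `ResExt.main`).  The closed fibre of the base change is reduced and
proper over an algebraically closed field, so its functions are spanned by idempotents, which lift
to a neighbourhood of the fibre (helper3's `SteinI.main`, S0979).  We conclude by flat descent
(`Stein.fibGen_descent`).
-/

set_option autoImplicit false
set_option linter.style.haveILetI false
set_option linter.unusedSectionVars false
set_option linter.unusedVariables false

universe u

namespace Groth.Agent.Helper8.Stein

open CategoryTheory CategoryTheory.Limits AlgebraicGeometry Opposite TopologicalSpace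

/-- The canonical morphism `Spec 𝒪_{X,x} ⟶ X` is flat (helper5's `StalkRed.flat_fromSpecStalk`). -/
theorem flat_fromSpecStalk (X : Scheme.{u}) (x : X) : Flat (X.fromSpecStalk x) := by
  obtain ⟨_, ⟨U, hU, rfl⟩, hxU, -⟩ :=
    X.isBasis_affineOpens.exists_subset_of_mem_open (Set.mem_univ x) isOpen_univ
  rw [← hU.fromSpecStalk_eq_fromSpecStalk hxU]
  unfold IsAffineOpen.fromSpecStalk
  have : Flat (Spec.map (X.presheaf.germ U x hxU)) := by
    rw [HasRingHomProperty.Spec_iff (P := @Flat)]
    let _ := TopCat.Presheaf.algebra_section_stalk X.presheaf (⟨x, hxU⟩ : U)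
    have hloc := hU.isLocalization_stalk ⟨x, hxU⟩
    have : Module.Flat Γ(X, U) (X.presheaf.stalk x) :=
      IsLocalization.flat _ (hU.primeIdealOf ⟨x, hxU⟩).asIdeal.primeCompl
    exact this
  have h2 : IsOpenImmersion (IsAffineOpen.fromSpec hU) := IsAffineOpen.isOpenImmersion_fromSpec hU
  have h3 : Flat (IsAffineOpen.fromSpec hU) := inferInstance
  exact Flat.comp _ _

/-- the residue field at the closed point of `Spec B` is the residue field of `B` -/
theorem isAlgClosed_residueField_closedPoint {B : Type u} [CommRing B] [IsLocalRing B]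
    {K : Type u} [Field K] [IsAlgClosed K] (ρ : B →+* K) (hρ : Function.Surjective ρ)
    (hker : RingHom.ker ρ = IsLocalRing.maximalIdeal B) :
    IsAlgClosed ((Spec (CommRingCat.of B)).residueField (IsLocalRing.closedPoint B)) := by
  let e1 : B ⧸ RingHom.ker ρ ≃+* K := RingHom.quotientKerEquivOfSurjective hρ
  let π : B →+* (IsLocalRing.maximalIdeal B).ResidueField :=
    algebraMap B (IsLocalRing.maximalIdeal B).ResidueField
  have hπ : Function.Surjective π :=
    Ideal.algebraMap_residueField_surjective (IsLocalRing.maximalIdeal B)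
  have hπker : RingHom.ker π = IsLocalRing.maximalIdeal B :=
    Ideal.ker_algebraMap_residueField (IsLocalRing.maximalIdeal B)
  let e2 : B ⧸ RingHom.ker π ≃+* (IsLocalRing.maximalIdeal B).ResidueField :=
    RingHom.quotientKerEquivOfSurjective hπ
  let e3 : (IsLocalRing.maximalIdeal B).ResidueField ≃+*
      (Spec (CommRingCat.of B)).residueField (IsLocalRing.closedPoint B) :=
    (Scheme.Spec.residueFieldIso (CommRingCat.of B)
      (IsLocalRing.closedPoint B)).symm.commRingCatIsoToRingEquiv
  let e : K ≃+* (Spec (CommRingCat.of B)).residueField (IsLocalRing.closedPoint B) :=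
    e1.symm.trans ((Ideal.quotEquivOfEq (hker.trans hπker.symm)).trans (e2.trans e3))
  exact IsAlgClosed.of_ringEquiv K _ e

variable {X S : Scheme.{u}} (f : X ⟶ S)

/-- sections over a fibre: `appLE` of a restriction -/
theorem appLE_of_app_eq (s : S) (V : S.Opens) (hsV : s ∈ V) (t : Γ(X, f ⁻¹ᵁ V))
    (e : Γ(f.fiber s, ⊤))
    (h : ((f.fiberι s).app (f ⁻¹ᵁ V)).hom t =
      ((f.fiber s).presheaf.map (homOfLE (le_top : (f.fiberι s) ⁻¹ᵁ (f ⁻¹ᵁ V) ≤ ⊤)).op).hom e) :
    ((f.fiberι s).appLE (f ⁻¹ᵁ V) ⊤ (fiber_le f s V hsV)).hom t = e := by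
  show ((f.fiber s).presheaf.map (homOfLE (fiber_le f s V hsV)).op).hom
    (((f.fiberι s).app (f ⁻¹ᵁ V)).hom t) = e
  rw [h]
  have h1 : (f.fiber s).presheaf.map (homOfLE (le_top : (f.fiberι s) ⁻¹ᵁ (f ⁻¹ᵁ V) ≤ ⊤)).op ≫
      (f.fiber s).presheaf.map (homOfLE (fiber_le f s V hsV)).op = 𝟙 _ := by
    rw [← Functor.map_comp, ← (f.fiber s).presheaf.map_id]
    rfl
  exact congrArg (fun φ => φ.hom e) h1

/-- functions on a reduced fibre over an algebraically closed residue field are generated by
restrictions of functions near the fibre -/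
theorem fibGen_of_isAlgClosed [IsProper f] (s : S) [IsAlgClosed (S.residueField s)]
    [IsReduced (f.fiber s)] :
    ∀ m : Γ(f.fiber s, ⊤), m ∈ AddSubgroup.closure (fibGen f s) := by
  intro m
  haveI : Module.Finite (S.residueField s) Γ(f.fiber s, ⊤) :=
    Groth.Agent.Helper1.Seesaw.finite_Γ_fiber f s
  have h1 := Groth.Agent.Helper8.SteinAlg.mem_closure_idempotents
    (k := S.residueField s) (E := Γ(f.fiber s, ⊤)) m
  refine AddSubgroup.closure_mono ?_ h1
  rintro _ ⟨c, e, he, rfl⟩
  obtain ⟨V, hsV, t, ht⟩ := Groth.Agent.Helper3.SteinI.main f s e he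
  refine ⟨(Scheme.ΓSpecIso (S.residueField s)).inv.hom c, V, hsV, t, ?_⟩
  rw [appLE_of_app_eq f s V hsV t e ht]
  rfl

/-- **EGA III 7.8.6**: the base change map in degree zero at a point is an epimorphism if the
geometric fibres are reduced -/
theorem epi_bc0_of_geomReduced [IsProper f]
    (hred : ∀ (Ω : Type u) [Field Ω] [IsAlgClosed Ω] (σ : Spec (CommRingCat.of Ω) ⟶ S),
      IsReduced (pullback f σ)) (s : S) :
    Epi (CohBC.bc0 f (S.fromSpecResidueField s) (f.fiberToSpecResidueField s) (f.fiberι s)
      (f.fiber_fac s) (Coh.structureModule X)) := by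
  apply epi_bc0_of_fibGen
  -- the flat local extension with algebraically closed residue field
  obtain ⟨B, _, _, _, ρ, hρsurj, hρker, -, hflat, -, hlocal, -⟩ :=
    Groth.Agent.Helper1.ResExt.main (S.presheaf.stalk s)
      (AlgebraicClosure (IsLocalRing.ResidueField (S.presheaf.stalk s)))
  let φ : S.presheaf.stalk s ⟶ CommRingCat.of B :=
    CommRingCat.ofHom (algebraMap (S.presheaf.stalk s) B)
  let g : Spec (CommRingCat.of B) ⟶ S := Spec.map φ ≫ S.fromSpecStalk s
  haveI : Flat (Spec.map φ) := by
    rw [Flat.SpecMap_iff]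
    exact (RingHom.flat_algebraMap_iff).mpr hflat
  haveI : Flat (S.fromSpecStalk s) := flat_fromSpecStalk S s
  haveI : Flat g := by
    dsimp only [g]
    infer_instance
  have hgs : g (IsLocalRing.closedPoint B) = s := by
    dsimp only [g]
    rw [Scheme.Hom.comp_apply]
    have h1 : Spec.map φ (IsLocalRing.closedPoint B) =
        IsLocalRing.closedPoint (S.presheaf.stalk s) :=
      IsLocalRing.comap_closedPoint (algebraMap (S.presheaf.stalk s) B)
    rw [h1, S.fromSpecStalk_closedPoint]
  haveI : IsAlgClosed ((Spec (CommRingCat.of B)).residueField (IsLocalRing.closedPoint B)) :=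
    isAlgClosed_residueField_closedPoint ρ hρsurj hρker
  -- the closed fibre of the base change is reduced
  haveI : IsProper (pullback.snd f g) :=
    MorphismProperty.pullback_snd (P := @IsProper) f g inferInstance
  have hpaste : IsPullback
      ((pullback.snd f g).fiberι (IsLocalRing.closedPoint B) ≫ pullback.fst f g)
      ((pullback.snd f g).fiberToSpecResidueField (IsLocalRing.closedPoint B)) f
      ((Spec (CommRingCat.of B)).fromSpecResidueField (IsLocalRing.closedPoint B) ≫ g) :=
    (IsPullback.of_hasPullback (pullback.snd f g)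
      ((Spec (CommRingCat.of B)).fromSpecResidueField (IsLocalRing.closedPoint B))).paste_horiz
      (IsPullback.of_hasPullback f g)
  haveI hr : IsReduced (pullback f
      ((Spec (CommRingCat.of B)).fromSpecResidueField (IsLocalRing.closedPoint B) ≫ g)) :=
    hred ((Spec (CommRingCat.of B)).residueField (IsLocalRing.closedPoint B)) _
  haveI : IsReduced ((pullback.snd f g).fiber (IsLocalRing.closedPoint B)) :=
    isReduced_of_isOpenImmersion (hpaste.isoIsPullback _ _ (IsPullback.of_hasPullback f
      ((Spec (CommRingCat.of B)).fromSpecResidueField (IsLocalRing.closedPoint B) ≫ g))).hom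
  have H := fibGen_of_isAlgClosed (pullback.snd f g) (IsLocalRing.closedPoint B)
  have key := fibGen_descent (IsPullback.of_hasPullback f g) (IsLocalRing.closedPoint B) H
  rw [hgs] at key
  exact key

end Groth.Agent.Helper8.Stein
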