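import Groth.Agent.Helper8.SteinD
import Groth.Agent.Helper8.LocalUF

/-!
# Proper flat morphisms with geometrically reduced fibres: `f_* O_X` is finite locally free and
commutes with arbitrary base change
-/

set_option autoImplicit false
set_option linter.style.haveILetI false
set_option linter.unusedSectionVars false
set_option linter.unusedVariables false

universe u

namespace Groth.Agent.Helper8.Stein

open CategoryTheory CategoryTheory.Limits AlgebraicGeometry Opposite TopologicalSpace
  AlgebraicGeometry.Scheme.Modules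
open Groth.Agent.Helper1.UF
open Groth.Agent.Helper1.ZarIso Groth.Agent.Helper1.SCV Groth.Agent.Helper1.BaseChart
open Groth.Agent.Helper4.PullUnit Groth.Agent.Helper9.Betti2
open Groth.Agent.Helper4 Groth.Agent.Helper4.FinLocFree

variable {X S : Scheme.{u}} (f : X ⟶ S) [IsProper f] [Flat f] [LocallyOfFinitePresentation f]

set_option maxHeartbeats 1600000 in
/-- the key local statement -/
theorem exists_nhd_good
    (hred : ∀ (Ω : Type u) [Field Ω] [IsAlgClosed Ω] (σ : Spec (CommRingCat.of Ω) ⟶ S),
      IsReduced (pullback f σ)) (s : S) :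
    GoodAt f (Coh.structureModule X) 0 s ∧
    ∃ U : S.Opens, s ∈ U ∧
      FlatMod.IsFinLocFree (((pushforward f).obj (Coh.structureModule X)).restrict U.ι) := by
  haveI := isQuasicoherent_unit X
  haveI : Coh.IsQCoh (Coh.structureModule X) := isQuasicoherent_unit X
  have hFP : CohB1.IsFP (Coh.structureModule X) :=
    Groth.Agent.Helper4.FinLocFree6.isFinitePresentation_unit
  have hfl : FlatMod.IsFlatOver f (Coh.structureModule X) :=
    Groth.Agent.Helper2.RedBC.isFlatOver_unit f
  obtain ⟨W, hW, hsW, -⟩ := exists_isAffineOpen_mem_and_subset (x := s)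
    (U := (⊤ : S.Opens)) trivial
  haveI : IsAffine (W : Scheme.{u}) := hW
  obtain ⟨K, M, h0⟩ := exists_master0 f W (Coh.structureModule X) hFP hfl
  have hgood : chartPt W s hsW ∈ OLoc W K 0 :=
    (M.bc0_epi_iff s hsW).mp (epi_bc0_of_geomReduced f hred s)
  obtain ⟨U, hsU, hUW, hlf, hbc⟩ := M.exists_nhd_bc0 h0 s hsW hgood
  exact ⟨⟨W, hW, hsW, K, M, hgood⟩, U, hsU, hlf⟩

/-- `f_* O_X` is finite locally free -/
theorem isFinLocFree_push
    (hred : ∀ (Ω : Type u) [Field Ω] [IsAlgClosed Ω] (σ : Spec (CommRingCat.of Ω) ⟶ S),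
      IsReduced (pullback f σ)) :
    FlatMod.IsFinLocFree ((pushforward f).obj (Coh.structureModule X)) := by
  apply isFinLocFree_of_local_restrict
  intro s
  exact (exists_nhd_good f hred s).2

/-- the formation of `f_* O_X` commutes with arbitrary base change -/
theorem isIso_bc0
    (hred : ∀ (Ω : Type u) [Field Ω] [IsAlgClosed Ω] (σ : Spec (CommRingCat.of Ω) ⟶ S),
      IsReduced (pullback f σ))
    {X' S' : Scheme.{u}} {g : S' ⟶ S} {f' : X' ⟶ S'} {g' : X' ⟶ X} (h : IsPullback g' f' f g) :
    IsIso (CohBC.bc0 f g f' g' h.w (Coh.structureModule X)) := by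
  haveI : Coh.IsQCoh (Coh.structureModule X) := isQuasicoherent_unit X
  exact isIso_bc0_of_goodAt h (Coh.structureModule X)
    (fun z => (exists_nhd_good f hred (g z)).1)

end Groth.Agent.Helper8.Stein
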