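import Groth.Agent.Helper8.SteinE
import Groth.Agent.Helper4.FinLocFree6
import Groth.Agent.Lead.BCMap5

/-!
# Proper flat morphisms with geometrically reduced fibres: ring level statements

* `Stein.fp_flat_sections`: `Γ(X, f⁻¹ U)` is a finitely presented flat `Γ(S, U)`-module.
* `Stein.isPushout_sections`: `Γ(X', f'⁻¹ V) = Γ(X, f⁻¹ U) ⊗ Γ(S', V)` for a cartesian square.
-/

set_option autoImplicit false
set_option linter.style.haveILetI false
set_option linter.unusedSectionVars false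
set_option linter.unusedVariables false

universe u

namespace Groth.Agent.Helper8.Stein

open CategoryTheory CategoryTheory.Limits AlgebraicGeometry Opposite TopologicalSpace
  AlgebraicGeometry.Scheme.Modules
open Groth.Agent.Lead.BCMap Groth.Agent.Helper4.PullUnit Groth.Agent.Helper1.ZarIso
  Groth.Agent.Helper1.UF
open Groth.Agent.Helper4.StalkDict Groth.Agent.Helper4.FinLocFree
  Groth.Agent.Helper4.FinLocFree2 Groth.Agent.Helper4.FinLocFree4 Groth.Agent.Helper4.FinLocFree5
  Groth.Agent.Helper4.FinLocFree6 Groth.Agent.Helper4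

section R1

variable {X S : Scheme.{u}} (f : X ⟶ S)

set_option backward.isDefEq.respectTransparency false in
/-- if `f_* O_X` is finite locally free, then `Γ(X, f⁻¹ V)` is a finitely presented flat
`Γ(S, V)`-module for every affine open `V` -/
theorem fp_flat_sections_of_isFinLocFree_push
    (h : FlatMod.IsFinLocFree ((Scheme.Modules.pushforward f).obj (Coh.structureModule X)))
    (V : S.Opens) (hV : IsAffineOpen V) :
    letI := (f.app V).hom.toAlgebra
    Module.FinitePresentation Γ(S, V) Γ(X, f ⁻¹ᵁ V) ∧ Module.Flat Γ(S, V) Γ(X, f ⁻¹ᵁ V) := by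
  let G := (Scheme.Modules.pushforward f).obj (Coh.structureModule X)
  haveI hq : G.IsQuasicoherent := isQuasicoherent_of_isFinLocFree G h
  have hfp := isFinitePresentation_of_isFinLocFree G h
  have hfree := fun s => free_stalk_of_isFinLocFree G h s
  letI := (f.app V).hom.toAlgebra
  have h1 : Module.FinitePresentation Γ(S, V) Γ(G, V) := FPGlue.fp_sections G hfp hV
  have h2 : Module.Flat Γ(S, V) Γ(G, V) :=
    flat_sections_of_flat_stalks G hV (fun y _ => haveI := hfree y; inferInstance)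
  exact ⟨Module.FinitePresentation.of_equiv (pushUnitEquiv f V),
    Module.Flat.of_linearEquiv (pushUnitEquiv f V).symm⟩

end R1

section R2

/-- linear equivalence on sections induced by an isomorphism of modules -/
noncomputable def appLinearEquiv {Y : Scheme.{u}} {M N : Y.Modules} (φ : M ⟶ N) [IsIso φ]
    (U : Y.Opens) : Γ(M, U) ≃ₗ[Γ(Y, U)] Γ(N, U) where
  toFun x := φ.app U x
  invFun x := (inv φ).app U x
  map_add' x y := map_add _ x y
  map_smul' r x := Scheme.Modules.Hom.app_smul φ r x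
  left_inv x := by
    have h1 : (φ ≫ inv φ).app U x = x := by
      rw [IsIso.hom_inv_id]
      rfl
    exact h1
  right_inv x := by
    have h1 : (inv φ ≫ φ).app U x = x := by
      rw [IsIso.inv_hom_id]
      rfl
    exact h1

variable {X S X' S' : Scheme.{u}} {f : X ⟶ S} {g : S' ⟶ S} {f' : X' ⟶ S'} {g' : X' ⟶ X}

set_option maxHeartbeats 1600000 in
/-- if the base change map in degree zero of the structure sheaf is an isomorphism, then the
square of rings of sections over affine opens of the bases is a pushout -/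
theorem isPushout_sections [QuasiCompact f] [QuasiSeparated f]
    (h : IsPullback g' f' f g)
    (hiso : IsIso (CohBC.bc0 f g f' g' h.w (Coh.structureModule X)))
    {U : S.Opens} (hU : IsAffineOpen U) {V : S'.Opens} (hV : IsAffineOpen V)
    (e : V ≤ g ⁻¹ᵁ U) :
    IsPushout (f.app U) (g.appLE U V e)
      (g'.appLE (f ⁻¹ᵁ U) (f' ⁻¹ᵁ V) (preimage_le f g g' f' h.w U V e)) (f'.app V) := by
  haveI := isQuasicoherent_unit X
  let Mod := (pushforward f).obj (Coh.structureModule X)
  haveI qM : Mod.IsQuasicoherent :=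
    Groth.Agent.Helper4.QcohGlue.isQuasicoherent_pushforward f _
  have hle := preimage_le f g g' f' h.w U V e
  letI alg1 : Algebra Γ(S, U) Γ(X, f ⁻¹ᵁ U) := (f.app U).hom.toAlgebra
  letI alg2 : Algebra Γ(S, U) Γ(S', V) := (g.appLE U V e).hom.toAlgebra
  letI alg3 : Algebra Γ(S', V) Γ(X', f' ⁻¹ᵁ V) := (f'.app V).hom.toAlgebra
  letI alg4 : Algebra Γ(X, f ⁻¹ᵁ U) Γ(X', f' ⁻¹ᵁ V) := (g'.appLE _ _ hle).hom.toAlgebra
  letI alg5 : Algebra Γ(S, U) Γ(X', f' ⁻¹ᵁ V) :=
    ((f'.app V).hom.comp (g.appLE U V e).hom).toAlgebra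
  haveI t1 : IsScalarTower Γ(S, U) Γ(S', V) Γ(X', f' ⁻¹ᵁ V) :=
    IsScalarTower.of_algebraMap_eq' rfl
  haveI t2 : IsScalarTower Γ(S, U) Γ(X, f ⁻¹ᵁ U) Γ(X', f' ⁻¹ᵁ V) := by
    apply IsScalarTower.of_algebraMap_eq'
    show (f'.app V).hom.comp (g.appLE U V e).hom = (g'.appLE _ _ hle).hom.comp (f.app U).hom
    ext x
    have h1 := appLE_square g' f f' g h.w U (f ⁻¹ᵁ U) V (f' ⁻¹ᵁ V) le_rfl hle e le_rfl x
    rw [Scheme.Hom.appLE_eq_app, Scheme.Hom.appLE_eq_app] at h1
    exact h1.symm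
  suffices hpo : Algebra.IsPushout Γ(S, U) Γ(S', V) Γ(X, f ⁻¹ᵁ U) Γ(X', f' ⁻¹ᵁ V) from
    (CommRingCat.isPushout_of_isPushout Γ(S, U) Γ(S', V) Γ(X, f ⁻¹ᵁ U) Γ(X', f' ⁻¹ᵁ V)).flip
  constructor
  letI modN : Module Γ(S, U) Γ((Scheme.Modules.pullback g).obj Mod, V) :=
    Module.compHom _ (g.appLE U V e).hom
  haveI : IsScalarTower Γ(S, U) Γ(S', V) Γ((Scheme.Modules.pullback g).obj Mod, V) :=
    IsScalarTower.of_compHom _ _ _
  obtain ⟨ρ, hρ, hb⟩ := exists_isBaseChange_pbSec g Mod hU hV e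
  haveI : QuasiCompact f' := MorphismProperty.of_isPullback (P := @QuasiCompact) h inferInstance
  haveI : QuasiSeparated f' :=
    MorphismProperty.of_isPullback (P := @QuasiSeparated) h inferInstance
  let bc := CohBC.bc0 f g f' g' h.w (Coh.structureModule X)
  let b : (pushforward f').obj ((Scheme.Modules.pullback g').obj (Coh.structureModule X)) ⟶
      (pushforward f').obj (Coh.structureModule X') :=
    (pushforward f').map (pullbackUnitIso g').hom
  haveI : IsIso b := by
    dsimp only [b]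
    infer_instance
  haveI : IsIso bc := hiso
  let φ := bc ≫ b
  haveI : IsIso φ := by
    dsimp only [φ]
    infer_instance
  let eM : Γ(Mod, U) ≃ₗ[Γ(S, U)] Γ(X, f ⁻¹ᵁ U) := pushUnitEquiv f U
  let eN : Γ((Scheme.Modules.pullback g).obj Mod, V) ≃ₗ[Γ(S', V)] Γ(X', f' ⁻¹ᵁ V) :=
    (appLinearEquiv φ V).trans (pushUnitEquiv f' V)
  refine (IsBaseChange.iff_of_equiv_comm eM eN ?_).mp hb
  ext m
  show (g'.appLE _ _ hle).hom m = b.app V (bc.app V (ρ m))
  rw [hρ]
  have h4 : bc.app V (pbSec g Mod U V e m) = pbSec g' (Coh.structureModule X) (f ⁻¹ᵁ U)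
      (f' ⁻¹ᵁ V) hle (show Γ(Coh.structureModule X, f ⁻¹ᵁ U) from m) :=
    bcMap_pbSec f g g' f' h.w (Coh.structureModule X) U V e m
  rw [h4]
  exact (pullbackUnitIso_pbSec g' (f ⁻¹ᵁ U) _ hle m).symm

end R2

end Groth.Agent.Helper8.Stein
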