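import Mathlib
import Groth.Agent.Helper5.UnrFib1

/-!
# Algebra for the Stein factorization, II: finite flat algebras with geometrically reduced fibres
are étale

* `SteinAlg.formallyEtale_of_isReduced`: a finite reduced algebra over an algebraically closed
  field is formally étale.
* `SteinAlg.etale_of_geomReduced`: a finite flat algebra of finite presentation all of whose
  geometric fibres are reduced is étale.
* `SteinAlg.toIntegralClosure_bijective_of_isIntegral`: base change of the integral closure, for
  an integral algebra.
-/

set_option autoImplicit false
set_option linter.style.haveILetI false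
set_option linter.unusedSectionVars false
set_option linter.unusedVariables false

universe u

open TensorProduct

namespace Groth.Agent.Helper8.SteinAlg

attribute [local instance] IsArtinianRing.fieldOfSubtypeIsMaximal in
/-- a finite reduced algebra over an algebraically closed field is formally étale -/
theorem formallyEtale_of_isReduced (K E : Type u) [Field K] [IsAlgClosed K] [CommRing E]
    [Algebra K E] [Module.Finite K E] [IsReduced E] : Algebra.FormallyEtale K E := by
  haveI : IsArtinianRing E := IsArtinianRing.of_finite K E
  rw [Algebra.FormallyEtale.iff_exists_algEquiv_prod K E]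
  refine ⟨MaximalSpectrum E, inferInstance, fun I => E ⧸ I.asIdeal, inferInstance, inferInstance,
    (IsArtinianRing.equivPi E).restrictScalars K, fun I => ?_⟩
  haveI : Module.Finite K (E ⧸ I.asIdeal) :=
    Module.Finite.of_surjective (Ideal.Quotient.mkₐ K I.asIdeal).toLinearMap
      (Ideal.Quotient.mkₐ_surjective K I.asIdeal)
  haveI : Algebra.IsAlgebraic K (E ⧸ I.asIdeal) := Algebra.IsAlgebraic.of_finite K _
  infer_instance

/-- a finite flat algebra of finite presentation all of whose geometric fibres are reduced is
étale -/
theorem etale_of_geomReduced {A B : Type u} [CommRing A] [CommRing B] [Algebra A B]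
    [Module.Finite A B] [Module.Flat A B] [Algebra.FinitePresentation A B]
    (h : ∀ (K : Type u) [Field K] [IsAlgClosed K] [Algebra A K], IsReduced (K ⊗[A] B)) :
    Algebra.Etale A B := by
  haveI : Algebra.FormallyUnramified A B := by
    apply Groth.Agent.Helper5.UnrFib.formallyUnramified_of_fiber
    intro p _
    let k := p.ResidueField
    let K := AlgebraicClosure k
    let e : K ⊗[k] (k ⊗[A] B) ≃ₐ[K] K ⊗[A] B := Algebra.TensorProduct.cancelBaseChange A k K K B
    haveI : IsReduced (K ⊗[A] B) := h K
    haveI : IsReduced (K ⊗[k] (k ⊗[A] B)) :=
      isReduced_of_injective e.toRingEquiv.toRingHom e.injective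
    haveI : Module.Finite k (k ⊗[A] B) := inferInstance
    haveI : Module.Finite K (K ⊗[k] (k ⊗[A] B)) := inferInstance
    haveI : Algebra.FormallyEtale K (K ⊗[k] (k ⊗[A] B)) := formallyEtale_of_isReduced K _
    haveI : Algebra.FormallyUnramified K (K ⊗[k] (k ⊗[A] B)) := inferInstance
    exact Algebra.FormallyUnramified.of_formallyUnramified_tensorProduct_of_faithfullyFlat
      (R := k) (S := k ⊗[A] B) K
  exact Algebra.Etale.of_formallyUnramified_of_flat

/-- the comparison map for the integral closure is bijective for integral algebras -/
theorem toIntegralClosure_bijective_of_isIntegral (R S B : Type u) [CommRing R] [CommRing S]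
    [Algebra R S] [CommRing B] [Algebra R B] [Algebra.IsIntegral R B] :
    Function.Bijective (TensorProduct.toIntegralClosure R S B) := by
  have htop : integralClosure R B = ⊤ := integralClosure_eq_top_iff.mpr inferInstance
  let e : integralClosure R B ≃ₐ[R] B :=
    (Subalgebra.equivOfEq _ _ htop).trans Subalgebra.topEquiv
  have he : (e : integralClosure R B →ₐ[R] B) = (integralClosure R B).val := by
    ext x
    rfl
  have hbij : Function.Bijective
      (Algebra.TensorProduct.map (AlgHom.id S S) (integralClosure R B).val) := by
    rw [← he]
    exact (Algebra.TensorProduct.congr (AlgEquiv.refl (R := S) (A₁ := S)) e).bijective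
  have hcomp : ∀ x, ((TensorProduct.toIntegralClosure R S B x : integralClosure S (S ⊗[R] B)) :
      S ⊗[R] B) = Algebra.TensorProduct.map (AlgHom.id S S) (integralClosure R B).val x :=
    fun x => rfl
  constructor
  · intro x y hxy
    apply hbij.1
    rw [← hcomp, ← hcomp, hxy]
  · intro y
    obtain ⟨x, hx⟩ := hbij.2 y.1
    exact ⟨x, Subtype.ext ((hcomp x).trans hx)⟩

end Groth.Agent.Helper8.SteinAlg
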