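import Groth.Agent.Helper8.SteinF
import Groth.Agent.Helper8.SteinG

/-!
# The Stein factorization of a proper flat morphism with geometrically reduced fibres is finite
étale
-/

set_option autoImplicit false
set_option linter.style.haveILetI false
set_option linter.unusedSectionVars false
set_option linter.unusedVariables false

universe u

namespace Groth.Agent.Helper8.Stein

open CategoryTheory CategoryTheory.Limits AlgebraicGeometry Opposite TopologicalSpace
  TensorProduct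

variable {X S : Scheme.{u}} (f : X ⟶ S) [IsProper f] [Flat f] [LocallyOfFinitePresentation f]

/-- sections over `U` of a morphism from `Spec K` factoring through the affine open `U` -/
theorem appLE_SpecMap_fromSpec {U : S.Opens} (hU : IsAffineOpen U) (K : CommRingCat.{u})
    (ψ : Γ(S, U) ⟶ K) (e : (⊤ : (Spec K).Opens) ≤ (Spec.map ψ ≫ hU.fromSpec) ⁻¹ᵁ U) :
    (Spec.map ψ ≫ hU.fromSpec).appLE U ⊤ e = ψ ≫ (Scheme.ΓSpecIso K).inv := by
  have h1 := IsAffineOpen.SpecMap_appLE_fromSpec (Spec.map ψ ≫ hU.fromSpec) hU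
    (isAffineOpen_top (Spec K)) e
  haveI : Mono hU.fromSpec := by
    haveI := hU.isOpenImmersion_fromSpec
    infer_instance
  have h2 : (isAffineOpen_top (Spec K)).fromSpec = Spec.map (Scheme.ΓSpecIso K).inv := by
    rw [IsAffineOpen.fromSpec_top]
    simp
  rw [h2, ← Category.assoc, cancel_mono, ← Spec.map_comp] at h1
  exact Spec.map_injective h1

set_option maxHeartbeats 1600000 in
/-- the geometric fibres of `Γ(X, f⁻¹ U)` over `Γ(S, U)` are reduced -/
theorem isReduced_tensor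
    (hred : ∀ (Ω : Type u) [Field Ω] [IsAlgClosed Ω] (σ : Spec (CommRingCat.of Ω) ⟶ S),
      IsReduced (pullback f σ))
    {U : S.Opens} (hU : IsAffineOpen U) (K : Type u) [Field K] [IsAlgClosed K]
    [Algebra Γ(S, U) K] :
    letI := (f.app U).hom.toAlgebra
    IsReduced (K ⊗[Γ(S, U)] Γ(X, f ⁻¹ᵁ U)) := by
  letI := (f.app U).hom.toAlgebra
  let ψ : Γ(S, U) ⟶ CommRingCat.of K := CommRingCat.ofHom (algebraMap Γ(S, U) K)
  let σ : Spec (CommRingCat.of K) ⟶ S := Spec.map ψ ≫ hU.fromSpec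
  have e : (⊤ : (Spec (CommRingCat.of K)).Opens) ≤ σ ⁻¹ᵁ U := by
    intro z _
    show (Spec.map ψ ≫ hU.fromSpec) z ∈ U
    rw [Scheme.Hom.comp_apply]
    have h1 : hU.fromSpec (Spec.map ψ z) ∈ Set.range hU.fromSpec := ⟨_, rfl⟩
    rw [hU.range_fromSpec] at h1
    exact h1
  haveI : IsReduced (pullback f σ) := hred K σ
  have hiso := isIso_bc0 f hred (IsPullback.of_hasPullback f σ)
  have hpo := isPushout_sections (IsPullback.of_hasPullback f σ) hiso hU (isAffineOpen_top _) e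
  have hσ : σ.appLE U ⊤ e = ψ ≫ (Scheme.ΓSpecIso (CommRingCat.of K)).inv :=
    appLE_SpecMap_fromSpec hU _ ψ e
  have hpo2 : IsPushout (f.app U) ψ
      ((pullback.fst f σ).appLE (f ⁻¹ᵁ U) ((pullback.snd f σ) ⁻¹ᵁ ⊤)
        (Groth.Agent.Lead.BCMap.preimage_le f σ (pullback.fst f σ) (pullback.snd f σ)
          (IsPullback.of_hasPullback f σ).w U ⊤ e))
      ((Scheme.ΓSpecIso (CommRingCat.of K)).inv ≫ (pullback.snd f σ).app ⊤) := by
    refine IsPushout.of_iso hpo (Iso.refl _) (Iso.refl _) (Scheme.ΓSpecIso (CommRingCat.of K))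
      (Iso.refl _) ?_ ?_ ?_ ?_
    · simp
    · rw [hσ]
      simp
    · simp
    · simp
  let i := (CommRingCat.isPushout_tensorProduct Γ(S, U) Γ(X, f ⁻¹ᵁ U) K).isoIsPushout _ _ hpo2
  let e1 : Γ(X, f ⁻¹ᵁ U) ⊗[Γ(S, U)] K ≃+* Γ(pullback f σ, (pullback.snd f σ) ⁻¹ᵁ ⊤) :=
    i.commRingCatIsoToRingEquiv
  haveI : IsReduced (Γ(X, f ⁻¹ᵁ U) ⊗[Γ(S, U)] K) :=
    isReduced_of_injective e1.toRingHom e1.injective
  let e2 : K ⊗[Γ(S, U)] Γ(X, f ⁻¹ᵁ U) ≃ₐ[Γ(S, U)] Γ(X, f ⁻¹ᵁ U) ⊗[Γ(S, U)] K :=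
    Algebra.TensorProduct.comm Γ(S, U) K Γ(X, f ⁻¹ᵁ U)
  exact isReduced_of_injective e2.toRingEquiv.toRingHom e2.injective

set_option maxHeartbeats 1600000 in
/-- **Stein factorization**: the normalization of `S` in `X` is finite étale over `S` -/
theorem main_finite_etale
    (hred : ∀ (Ω : Type u) [Field Ω] [IsAlgClosed Ω] (σ : Spec (CommRingCat.of Ω) ⟶ S),
      IsReduced (pullback f σ)) :
    IsFinite f.fromNormalization ∧ Etale f.fromNormalization := by
  have hlf := isFinLocFree_push f hred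
  have key : ∀ (U : S.Opens) (hU : IsAffineOpen U),
      letI := (f.app U).hom.toAlgebra
      Module.Finite Γ(S, U) (integralClosure Γ(S, U) Γ(X, f ⁻¹ᵁ U)) ∧
      Algebra.Etale Γ(S, U) (integralClosure Γ(S, U) Γ(X, f ⁻¹ᵁ U)) := by
    intro U hU
    letI := (f.app U).hom.toAlgebra
    obtain ⟨h1, h2⟩ := fp_flat_sections_of_isFinLocFree_push f hlf U hU
    haveI := h1
    haveI := h2
    haveI : Module.Finite Γ(S, U) Γ(X, f ⁻¹ᵁ U) := inferInstance
    haveI : Algebra.FinitePresentation Γ(S, U) Γ(X, f ⁻¹ᵁ U) := inferInstance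
    haveI : Algebra.Etale Γ(S, U) Γ(X, f ⁻¹ᵁ U) :=
      Groth.Agent.Helper8.SteinAlg.etale_of_geomReduced
        (fun K _ _ _ => isReduced_tensor f hred hU K)
    haveI : Algebra.IsIntegral Γ(S, U) Γ(X, f ⁻¹ᵁ U) := Algebra.IsIntegral.of_finite _ _
    have htop : integralClosure Γ(S, U) Γ(X, f ⁻¹ᵁ U) = ⊤ :=
      integralClosure_eq_top_iff.mpr inferInstance
    let eC : integralClosure Γ(S, U) Γ(X, f ⁻¹ᵁ U) ≃ₐ[Γ(S, U)] Γ(X, f ⁻¹ᵁ U) :=
      (Subalgebra.equivOfEq _ _ htop).trans Subalgebra.topEquiv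
    exact ⟨Module.Finite.equiv eC.symm.toLinearEquiv, Algebra.Etale.of_equiv eC.symm⟩
  constructor
  · rw [isFinite_iff]
    refine ⟨inferInstance, fun U hU => ?_⟩
    letI := (f.app U).hom.toAlgebra
    rw [Scheme.Hom.fromNormalization_app f hU, CommRingCat.hom_comp,
      RingHom.finite_respectsIso.cancel_right_isIso]
    exact RingHom.finite_algebraMap.mpr (key U hU).1
  · rw [Groth.Agent.Helper4.FinLocFree6.affineHom_iff_app @Etale RingHom.Etale]
    intro U hU
    letI := (f.app U).hom.toAlgebra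
    rw [Scheme.Hom.fromNormalization_app f hU, CommRingCat.hom_comp,
      RingHom.Etale.respectsIso.cancel_right_isIso]
    exact RingHom.etale_algebraMap.mpr (key U hU).2

end Groth.Agent.Helper8.Stein
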