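import Groth.Agent.Helper8.SteinH

/-!
# The Stein factorization of a proper flat morphism with geometrically reduced fibres commutes
with arbitrary base change

The proof is the proof of `Scheme.Hom.normalizationPullback` being an isomorphism for smooth
base change in Mathlib, with flat base change of sections replaced by `Stein.isPushout_sections`
and base change of integral closures along smooth maps replaced by the trivial case of an
integral algebra.
-/

set_option autoImplicit false
set_option linter.style.haveILetI false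
set_option linter.unusedSectionVars false
set_option linter.unusedVariables false

universe u

namespace Groth.Agent.Helper8.Stein

open CategoryTheory CategoryTheory.Limits AlgebraicGeometry Opposite TopologicalSpace
  TensorProduct

variable {X S Y : Scheme.{u}} (f : X ⟶ S) [IsProper f] [Flat f] [LocallyOfFinitePresentation f]

set_option maxHeartbeats 3200000 in
set_option backward.defeqAttrib.useBackward true in
set_option backward.isDefEq.respectTransparency false in
/-- the Stein factorization commutes with base change -/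
theorem isIso_normalizationPullback
    (hred : ∀ (Ω : Type u) [Field Ω] [IsAlgClosed Ω] (σ : Spec (CommRingCat.of Ω) ⟶ S),
      IsReduced (pullback f σ)) (g : Y ⟶ S) :
    IsIso (f.normalizationPullback g) := by
  have hlf := isFinLocFree_push f hred
  have hbc := isIso_bc0 f hred (IsPullback.of_hasPullback f g)
  apply IsZariskiLocalAtTarget.of_forall_exists_morphismRestrict (P := .isomorphisms _) fun x ↦ ?_
  obtain ⟨_, ⟨U, hU, rfl⟩, hxU, -⟩ := S.isBasis_affineOpens.exists_subset_of_mem_open
    (Set.mem_univ ((pullback.snd _ g ≫ g) x)) isOpen_univ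
  obtain ⟨_, ⟨V, hV, rfl⟩, hxV, hVU : V ≤ g ⁻¹ᵁ U⟩ :=
    Y.isBasis_affineOpens.exists_subset_of_mem_open (a := pullback.snd _ g x) hxU (g ⁻¹ᵁ U).2
  let W := pullback.snd (Scheme.Hom.fromNormalization f) g ⁻¹ᵁ V
  refine ⟨W, hxV, (isIso_morphismRestrict_iff_isIso_app _ (U := W) (hV.preimage _)).mpr ?_⟩
  have := isIso_pushoutSection_of_isAffineOpen
    (.of_hasPullback f.fromNormalization g) hVU le_rfl (UY := W)
    (by simp_rw [W, ← Scheme.Hom.comp_preimage, pullback.condition, Scheme.Hom.comp_preimage,
      ← Scheme.Hom.preimage_inf, inf_eq_right.mpr hVU]) hU hV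
    (hU.preimage f.fromNormalization)
  rw [← @isIso_comp_left_iff _ _ _ _ _ _ _ this,
    ← isIso_comp_left_iff (pushout.congrHom f.fromNormalization.app_eq_appLE rfl).hom]
  have hfin : letI := (f.app U).hom.toAlgebra
      Module.Finite Γ(S, U) Γ(X, f ⁻¹ᵁ U) := by
    letI := (f.app U).hom.toAlgebra
    haveI := (fp_flat_sections_of_isFinLocFree_push f hlf U hU).1
    infer_instance
  algebraize [(f.app U).hom, (g.appLE U V hVU).hom, ((pullback.snd f g).app V).hom]
  haveI : Module.Finite Γ(S, U) Γ(X, f ⁻¹ᵁ U) := hfin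
  haveI : Algebra.IsIntegral Γ(S, U) Γ(X, f ⁻¹ᵁ U) := Algebra.IsIntegral.of_finite _ _
  have hUY : pullback.snd f g ⁻¹ᵁ V = pullback.fst f g ⁻¹ᵁ (f ⁻¹ᵁ U) ⊓ pullback.snd f g ⁻¹ᵁ V := by
    simp_rw [← Scheme.Hom.comp_preimage, pullback.condition, Scheme.Hom.comp_preimage,
      ← Scheme.Hom.preimage_inf, inf_eq_right.mpr hVU]
  have : IsIso (pushoutSection (.of_hasPullback f g) hVU (le_refl (f ⁻¹ᵁ U))
      (UY := pullback.snd f g ⁻¹ᵁ V) hUY) := by
    rw [isIso_pushoutSection_iff]
    have hpo := isPushout_sections (IsPullback.of_hasPullback f g) hbc hU hV hVU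
    convert hpo using 1
    · exact (Scheme.Hom.app_eq_appLE f).symm
    · exact (Scheme.Hom.app_eq_appLE (pullback.snd f g)).symm
  let e₀ := (CommRingCat.isPushout_tensorProduct ..).flip.isoPushout ≪≫
    (pushout.congrHom f.app_eq_appLE rfl ≪≫ @asIso _ _ _ _ _ this :)
  let e : Γ(Y, V) ⊗[Γ(S, U)] Γ(X, f ⁻¹ᵁ U) ≃ₐ[Γ(Y, V)] Γ(pullback f g, pullback.snd f g ⁻¹ᵁ V) :=
    { toRingEquiv := e₀.commRingCatIsoToRingEquiv,
      commutes' r := by
        change (CommRingCat.ofHom Algebra.TensorProduct.includeLeftRingHom ≫ e₀.hom) r =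
          (pullback.snd f g).app V r
        congr 2
        simp [e₀, pushout.inr_desc_assoc, Scheme.Hom.app_eq_appLE] }
  let ψ : Γ(Y, V) ⊗[Γ(S, U)] integralClosure Γ(S, U) Γ(X, f ⁻¹ᵁ U) →ₐ[Γ(Y, V)]
      integralClosure Γ(Y, V) Γ(pullback f g, pullback.snd f g ⁻¹ᵁ V) :=
    e.mapIntegralClosure.toAlgHom.comp (TensorProduct.toIntegralClosure _ _ _)
  have hψ : Function.Bijective ψ := e.mapIntegralClosure.bijective.comp
    (Groth.Agent.Helper8.SteinAlg.toIntegralClosure_bijective_of_isIntegral _ _ _)
  let φ : pushout (f.fromNormalization.app U) (g.appLE U V hVU) ⟶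
      Γ((pullback.snd f g).normalization, f.normalizationPullback g ⁻¹ᵁ W) :=
    pushout.map _ _ (CommRingCat.ofHom (algebraMap Γ(S, U) (integralClosure Γ(S, U) Γ(X, f ⁻¹ᵁ U))))
      (g.appLE U V hVU) (f.normalizationObjIso hU).hom (𝟙 _) (𝟙 _)
      (by simp [Scheme.Hom.fromNormalization_app _ hU]) (by simp) ≫
    (CommRingCat.isPushout_tensorProduct ..).flip.isoPushout.inv ≫
    (RingEquiv.ofBijective ψ.toRingHom hψ).toCommRingCatIso.hom ≫
    ((pullback.snd f g).normalizationObjIso hV).inv ≫
    (pullback.snd f g).normalization.presheaf.map (eqToHom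
      (by simp only [W, ← Scheme.Hom.comp_preimage, Scheme.Hom.normalizationPullback_snd])).op
  convert! show IsIso φ by dsimp only [φ]; infer_instance using 1
  ext1
  · dsimp [φ]
    simp only [Scheme.Hom.app_eq_appLE, colimit.ι_desc_assoc, span_left, PushoutCocone.mk_pt,
      PushoutCocone.mk_ι_app, Category.id_comp, Scheme.Hom.appLE_comp_appLE, eqToHom_op,
      Category.assoc, IsPushout.inl_isoPushout_inv_assoc]
    simp_rw [← Category.assoc, ← IsIso.comp_inv_eq]
    simp only [← Functor.map_inv, inv_eqToHom, Scheme.Hom.appLE_map, IsIso.Iso.inv_inv,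
      Category.assoc]
    have : Mono (CommRingCat.ofHom (integralClosure Γ(Y, V)
        Γ(pullback f g, pullback.snd f g ⁻¹ᵁ V)).val.toRingHom) :=
      ConcreteCategory.mono_of_injective _ Subtype.val_injective
    rw [← cancel_mono (CommRingCat.ofHom (Subalgebra.val _).toRingHom)]
    simp only [Category.assoc, Scheme.Hom.normalizationObjIso_hom_val, Scheme.Hom.appLE_comp_appLE,
      Scheme.Hom.toNormalization_normalizationPullback_fst, ← CommRingCat.ofHom_comp]
    have H : pullback.snd f g ⁻¹ᵁ V ≤ pullback.fst f g ⁻¹ᵁ f ⁻¹ᵁ U := by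
      rw [← Scheme.Hom.comp_preimage, pullback.condition, Scheme.Hom.comp_preimage]
      exact Scheme.Hom.preimage_mono _ hVU
    trans (f.normalizationObjIso hU).hom ≫ CommRingCat.ofHom
        (integralClosure Γ(S, U) Γ(X, f ⁻¹ᵁ U)).val.toRingHom ≫ (pullback.fst f g).appLE _ _ H
    · rw [reassoc_of% Scheme.Hom.normalizationObjIso_hom_val, Scheme.Hom.appLE_comp_appLE]
    · congr 1
      ext x
      change (pullback.fst f g).appLE _ _ H x = _
      trans (CommRingCat.ofHom Algebra.TensorProduct.includeRight.toRingHom ≫ e₀.hom) x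
      · congr 2; simp [e₀, pushout.inl_desc_assoc]
      · simp [ψ, toIntegralClosure, e]; rfl
  · dsimp [φ]
    simp only [Scheme.Hom.app_eq_appLE, colimit.ι_desc_assoc, span_right, PushoutCocone.mk_pt,
      PushoutCocone.mk_ι_app, Category.id_comp, Scheme.Hom.appLE_comp_appLE,
      Scheme.Hom.normalizationPullback_snd, eqToHom_op, IsPushout.inr_isoPushout_inv_assoc]
    simp_rw [← Category.assoc, ← IsIso.comp_inv_eq]
    simp only [← Functor.map_inv, inv_eqToHom, Scheme.Hom.appLE_map, ← Scheme.Hom.app_eq_appLE,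
      Scheme.Hom.fromNormalization_app _ hV, IsIso.Iso.inv_inv, Category.assoc, Iso.inv_hom_id,
      Category.comp_id]
    exact congr(CommRingCat.ofHom $(ψ.comp_algebraMap.symm))

/-- the version with the class `GeometricallyReduced` -/
theorem isIso_normalizationPullback' [GeometricallyReduced f] (g : Y ⟶ S) :
    IsIso (f.normalizationPullback g) :=
  isIso_normalizationPullback f
    (fun Ω _ _ σ => pullback_of_geometrically
      (GeometricallyReduced.geometrically_isReduced (f := f)) Ω σ) g

end Groth.Agent.Helper8.Stein
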