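import Mathlib

set_option autoImplicit false
universe u v

namespace Groth.Agent.Helper8.Steinitz

open scoped nonZeroDivisors
open Submodule

section core
variable {R : Type*} [CommRing R] {K : Type*} [CommRing K] [Algebra R K]

/-- comaximal submodules of `K` inside `1`: `I × J ≅ R × (I ∩ J)` -/
theorem core (hinj : Function.Injective (algebraMap R K)) (I J : Submodule R K) (hI : I ≤ 1)
    (hJ : J ≤ 1) (a₀ b₀ : K) (ha : a₀ ∈ I) (hb : b₀ ∈ J) (hab : a₀ + b₀ = 1) :
    Nonempty ((R × ↥(I ⊓ J)) ≃ₗ[R] (↥I × ↥J)) := by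
  let Ψ : (R × ↥(I ⊓ J)) →ₗ[R] (↥I × ↥J) :=
    { toFun := fun w => (⟨w.1 • a₀ + w.2.1, I.add_mem (I.smul_mem _ ha) w.2.2.1⟩,
        ⟨w.1 • b₀ - w.2.1, J.sub_mem (J.smul_mem _ hb) w.2.2.2⟩)
      map_add' := by
        intro w w'
        ext
        · simp only [Prod.fst_add, Prod.snd_add, Submodule.coe_add, add_smul]
          abel
        · simp only [Prod.fst_add, Prod.snd_add, Submodule.coe_add, add_smul]
          abel
      map_smul' := by
        intro c w
        ext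
        · simp only [Prod.smul_fst, Prod.smul_snd, Submodule.coe_smul, smul_eq_mul, RingHom.id_apply,
            smul_add, mul_smul]
        · simp only [Prod.smul_fst, Prod.smul_snd, Submodule.coe_smul, smul_eq_mul, RingHom.id_apply,
            smul_sub, mul_smul] }
  have hΨ1 : ∀ w, ((Ψ w).1 : K) = w.1 • a₀ + w.2.1 := fun w => rfl
  have hΨ2 : ∀ w, ((Ψ w).2 : K) = w.1 • b₀ - w.2.1 := fun w => rfl
  refine ⟨LinearEquiv.ofBijective Ψ ⟨?_, ?_⟩⟩
  · rw [injective_iff_map_eq_zero]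
    intro w hw
    have h1 : w.1 • a₀ + (w.2.1 : K) = 0 := by rw [← hΨ1, hw]; rfl
    have h2 : w.1 • b₀ - (w.2.1 : K) = 0 := by rw [← hΨ2, hw]; rfl
    have h3 : algebraMap R K w.1 = 0 := by
      have : w.1 • (a₀ + b₀) = 0 := by rw [smul_add]; linear_combination h1 + h2
      rwa [hab, Algebra.smul_def, mul_one] at this
    have h4 : w.1 = 0 := hinj (by rw [h3, map_zero])
    have h5 : (w.2.1 : K) = 0 := by rw [h4, zero_smul, zero_add] at h1; exact h1
    ext
    · exact h4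
    · exact h5
  · rintro ⟨⟨a, haI⟩, ⟨b, hbJ⟩⟩
    have hab1 : a + b ∈ (1 : Submodule R K) := add_mem (hI haI) (hJ hbJ)
    obtain ⟨r, hr⟩ := Submodule.mem_one.mp hab1
    have hz : a - r • a₀ = r • b₀ - b := by
      have : r • (a₀ + b₀) = a + b := by rw [hab, Algebra.smul_def, mul_one, hr]
      rw [smul_add] at this
      linear_combination -this
    refine ⟨(r, ⟨a - r • a₀, I.sub_mem haI (I.smul_mem _ ha), ?_⟩), ?_⟩
    · rw [hz]; exact J.sub_mem (J.smul_mem _ hb) hbJ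
    · ext
      · rw [hΨ1]; simp
      · rw [hΨ2]
        show r • b₀ - (a - r • a₀) = b
        rw [hz]; abel

theorem inf_eq_mul (I J : Submodule R K) (hI : I ≤ 1)
    (hJ : J ≤ 1) (a₀ b₀ : K) (ha : a₀ ∈ I) (hb : b₀ ∈ J) (hab : a₀ + b₀ = 1) :
    I ⊓ J = I * J := by
  apply le_antisymm
  · intro z hz
    have : z = a₀ * z + z * b₀ := by
      calc z = (a₀ + b₀) * z := by rw [hab, one_mul]
        _ = _ := by ring
    rw [this]
    exact add_mem (Submodule.mul_mem_mul ha hz.2) (Submodule.mul_mem_mul hz.1 hb)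
  · rw [Submodule.mul_le]
    intro m hm n hn
    constructor
    · obtain ⟨r, rfl⟩ := Submodule.mem_one.mp (hJ hn)
      rw [mul_comm, ← Algebra.smul_def]
      exact I.smul_mem _ hm
    · obtain ⟨r, rfl⟩ := Submodule.mem_one.mp (hI hm)
      rw [← Algebra.smul_def]
      exact J.smul_mem _ hn

end core

section scale
variable {R : Type*} [CommRing R] {K : Type*} [Field K] [Algebra R K]

/-- scaling a submodule by a nonzero element of the field -/
theorem scale (x : K) (hx : x ≠ 0) (I : Submodule R K) :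
    Nonempty (↥I ≃ₗ[R] ↥(span R {x} * I)) := by
  let f : ↥I →ₗ[R] ↥(span R {x} * I) :=
    { toFun := fun a => ⟨x * a.1, Submodule.mul_mem_mul (mem_span_singleton_self x) a.2⟩
      map_add' := by intro a b; ext; simp [mul_add]
      map_smul' := by intro c a; ext; simp }
  refine ⟨LinearEquiv.ofBijective f ⟨?_, ?_⟩⟩
  · intro a b hab
    have : x * a.1 = x * b.1 := congrArg Subtype.val hab
    exact Subtype.ext (mul_left_cancel₀ hx this)
  · rintro ⟨z, hz⟩
    obtain ⟨a, ha, rfl⟩ := Submodule.mem_span_singleton_mul.mp hz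
    exact ⟨⟨a, ha⟩, rfl⟩

theorem steinitz_sub (hinj : Function.Injective (algebraMap R K)) (A B : Submodule R K) (x y : K)
    (hx : x ≠ 0) (hy : y ≠ 0)
    (hA : span R {y} * A ≤ 1) (hB : span R {x} * B ≤ 1)
    (h1 : (1 : K) ∈ span R {y} * A ⊔ span R {x} * B) :
    Nonempty ((↥A × ↥B) ≃ₗ[R] (R × ↥(A * B))) := by
  obtain ⟨a₀, ha, b₀, hb, hab⟩ := Submodule.mem_sup.mp h1
  obtain ⟨e1⟩ := scale y hy A
  obtain ⟨e2⟩ := scale x hx B
  obtain ⟨e3⟩ := core hinj _ _ hA hB a₀ b₀ ha hb hab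
  obtain ⟨e4⟩ := scale (y * x) (mul_ne_zero hy hx) (A * B)
  have heq : span R {y} * A ⊓ span R {x} * B = span R {y * x} * (A * B) := by
    rw [inf_eq_mul _ _ hA hB a₀ b₀ ha hb hab, mul_mul_mul_comm, Submodule.span_mul_span,
      Set.singleton_mul_singleton]
  exact ⟨(LinearEquiv.prodCongr e1 e2).trans (e3.symm.trans
    (LinearEquiv.prodCongr (LinearEquiv.refl R R) ((LinearEquiv.ofEq _ _ heq).trans e4.symm)))⟩

end scale

section dedekind
variable {R : Type*} [CommRing R] [IsDedekindDomain R] {K : Type*} [Field K] [Algebra R K]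
  [IsFractionRing R K]

theorem moving (a b : FractionalIdeal R⁰ K) (ha : a ≠ 0) (hb : b ≠ 0) :
    ∃ x y : K, x ≠ 0 ∧ y ≠ 0 ∧ span R {y} * (a : Submodule R K) ≤ 1 ∧
      span R {x} * (b : Submodule R K) ≤ 1 ∧
      (1 : K) ∈ span R {y} * (a : Submodule R K) ⊔ span R {x} * (b : Submodule R K) := by
  have hden : ∀ c : FractionalIdeal R⁰ K, algebraMap R K c.den ≠ 0 := fun c =>
    IsFractionRing.to_map_ne_zero_of_mem_nonZeroDivisors c.den.2
  have hle : ∀ c : FractionalIdeal R⁰ K,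
      FractionalIdeal.spanSingleton R⁰ (algebraMap R K c.den) * c ≤ 1 := by
    intro c
    rw [FractionalIdeal.den_mul_self_eq_num']
    exact FractionalIdeal.coeIdeal_le_one
  set y := algebraMap R K a.den with hy
  set a' := FractionalIdeal.spanSingleton R⁰ y * a with ha'
  have ha'0 : a' ≠ 0 :=
    mul_ne_zero (FractionalIdeal.spanSingleton_ne_zero_iff.mpr (hden a)) ha
  obtain ⟨x₀, hx₀⟩ := IsDedekindDomain.exists_add_spanSingleton_mul_eq (hle a) ha'0 hb
  obtain ⟨x, hx, hx1⟩ : ∃ x : K, x ≠ 0 ∧ a' + FractionalIdeal.spanSingleton R⁰ x * b = 1 := by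
    by_cases h0 : x₀ = 0
    · refine ⟨algebraMap R K b.den, hden b, ?_⟩
      rw [h0, FractionalIdeal.spanSingleton_zero, zero_mul, add_zero] at hx₀
      have hx₀' : a' = 1 := hx₀
      rw [hx₀']
      apply le_antisymm
      · rw [← FractionalIdeal.sup_eq_add]
        exact sup_le le_rfl (hle b)
      · rw [← FractionalIdeal.sup_eq_add]
        exact le_sup_left
    · exact ⟨x₀, h0, hx₀⟩
  have hb'le : FractionalIdeal.spanSingleton R⁰ x * b ≤ 1 := by
    rw [← hx1, ← FractionalIdeal.sup_eq_add]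
    exact le_sup_right
  refine ⟨x, y, hx, hden a, ?_, ?_, ?_⟩
  · have := FractionalIdeal.coe_le_coe.mpr (hle a)
    rwa [FractionalIdeal.coe_mul, FractionalIdeal.coe_spanSingleton, FractionalIdeal.coe_one] at this
  · have := FractionalIdeal.coe_le_coe.mpr hb'le
    rwa [FractionalIdeal.coe_mul, FractionalIdeal.coe_spanSingleton, FractionalIdeal.coe_one] at this
  · have h1 : (1 : K) ∈ ((a' + FractionalIdeal.spanSingleton R⁰ x * b : FractionalIdeal R⁰ K) :
        Submodule R K) := by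
      rw [hx1]
      exact FractionalIdeal.one_mem_one _
    rwa [FractionalIdeal.coe_add, ha', FractionalIdeal.coe_mul, FractionalIdeal.coe_mul,
      FractionalIdeal.coe_spanSingleton, FractionalIdeal.coe_spanSingleton] at h1

theorem steinitz (a b : FractionalIdeal R⁰ K) (ha : a ≠ 0) (hb : b ≠ 0) :
    Nonempty ((↥(a : Submodule R K) × ↥(b : Submodule R K)) ≃ₗ[R]
      (R × ↥((a * b : FractionalIdeal R⁰ K) : Submodule R K))) := by
  obtain ⟨x, y, hx, hy, hA, hB, h1⟩ := moving a b ha hb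
  obtain ⟨e⟩ := steinitz_sub (IsFractionRing.injective R K) _ _ x y hx hy hA hB h1
  exact ⟨e.trans (LinearEquiv.prodCongr (LinearEquiv.refl R R)
    (LinearEquiv.ofEq _ _ (FractionalIdeal.coe_mul a b).symm))⟩

/-- `X × (Y × Z) ≃ Y × (X × Z)` -/
noncomputable def swap12 (X Y Z : Type*) [AddCommGroup X] [AddCommGroup Y] [AddCommGroup Z]
    [Module R X] [Module R Y] [Module R Z] : (X × (Y × Z)) ≃ₗ[R] (Y × (X × Z)) :=
  (LinearEquiv.prodAssoc R X Y Z).symm.trans
    ((LinearEquiv.prodCongr (LinearEquiv.prodComm R X Y) (LinearEquiv.refl R Z)).trans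
      (LinearEquiv.prodAssoc R Y X Z))

theorem pow_split (a : FractionalIdeal R⁰ K) (ha : a ≠ 0) : ∀ n : ℕ,
    Nonempty ((Fin (n + 1) → ↥(a : Submodule R K)) ≃ₗ[R]
      ((Fin n → R) × ↥((a ^ (n + 1) : FractionalIdeal R⁰ K) : Submodule R K))) := by
  intro n
  induction n with
  | zero =>
    have e1 : (Fin (0 + 1) → ↥(a : Submodule R K)) ≃ₗ[R] ↥(a : Submodule R K) :=
      LinearEquiv.funUnique (Fin 1) R _
    have e2 : ↥(a : Submodule R K) ≃ₗ[R] ↥((a ^ (0 + 1) : FractionalIdeal R⁰ K) : Submodule R K) :=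
      LinearEquiv.ofEq _ _ (by rw [zero_add, pow_one])
    have e3 : ((Fin 0 → R) × ↥((a ^ (0 + 1) : FractionalIdeal R⁰ K) : Submodule R K)) ≃ₗ[R]
        ↥((a ^ (0 + 1) : FractionalIdeal R⁰ K) : Submodule R K) := LinearEquiv.uniqueProd
    exact ⟨e1.trans (e2.trans e3.symm)⟩
  | succ n ih =>
    obtain ⟨e⟩ := ih
    obtain ⟨s⟩ := steinitz a (a ^ (n + 1)) ha (pow_ne_zero _ ha)
    have hpow : a * a ^ (n + 1) = a ^ (n + 1 + 1) := (pow_succ' a (n + 1)).symm
    let A := ↥(a : Submodule R K)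
    have f1 : (Fin (n + 1 + 1) → A) ≃ₗ[R] (A × (Fin (n + 1) → A)) :=
      (Fin.consLinearEquiv R (fun _ : Fin (n + 1 + 1) => A)).symm
    have f2 : (A × (Fin (n + 1) → A)) ≃ₗ[R]
        (A × ((Fin n → R) × ↥((a ^ (n + 1) : FractionalIdeal R⁰ K) : Submodule R K))) :=
      LinearEquiv.prodCongr (LinearEquiv.refl R A) e
    have f3 : (A × ((Fin n → R) × ↥((a ^ (n + 1) : FractionalIdeal R⁰ K) : Submodule R K))) ≃ₗ[R]
        ((Fin n → R) × (A × ↥((a ^ (n + 1) : FractionalIdeal R⁰ K) : Submodule R K))) :=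
      swap12 (R := R) _ _ _
    have f4 : ((Fin n → R) × (A × ↥((a ^ (n + 1) : FractionalIdeal R⁰ K) : Submodule R K))) ≃ₗ[R]
        ((Fin n → R) × (R × ↥((a * a ^ (n + 1) : FractionalIdeal R⁰ K) : Submodule R K))) :=
      LinearEquiv.prodCongr (LinearEquiv.refl R (Fin n → R)) s
    have f5 : ((Fin n → R) × (R × ↥((a * a ^ (n + 1) : FractionalIdeal R⁰ K) : Submodule R K))) ≃ₗ[R]
        (((Fin n → R) × R) × ↥((a * a ^ (n + 1) : FractionalIdeal R⁰ K) : Submodule R K)) :=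
      (LinearEquiv.prodAssoc R _ _ _).symm
    have f6 : ((Fin n → R) × R) ≃ₗ[R] (Fin (n + 1) → R) :=
      (LinearEquiv.prodComm R (Fin n → R) R).trans (Fin.consLinearEquiv R (fun _ : Fin (n + 1) => R))
    have f7 : ↥((a * a ^ (n + 1) : FractionalIdeal R⁰ K) : Submodule R K) ≃ₗ[R]
        ↥((a ^ (n + 1 + 1) : FractionalIdeal R⁰ K) : Submodule R K) :=
      LinearEquiv.ofEq _ _ (by rw [hpow])
    exact ⟨f1.trans (f2.trans (f3.trans (f4.trans (f5.trans (LinearEquiv.prodCongr f6 f7)))))⟩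

end dedekind

end Groth.Agent.Helper8.Steinitz
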