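import Mathlib
import Groth.Agent.Helper8.Steinitz

set_option autoImplicit false
universe u v

namespace Groth.Agent.Helper8.SteinitzPic

open scoped nonZeroDivisors
open Submodule

theorem main {R : Type u} [CommRing R]
    [IsDedekindDomain R] (N : Type v) [AddCommGroup N] [Module R N] [Module.Invertible R N]
    (n : ℕ) (h : CommRing.Pic.mk R N ^ n = 1) :
    Nonempty ((Fin n → N) ≃ₗ[R] (Fin n → R)) := by
  classical
  cases n with
  | zero => exact ⟨LinearEquiv.ofSubsingleton _ _⟩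
  | succ m =>
    let K := FractionRing R
    have hmem : CommRing.Pic.mk R N ∈ (Submodule.unitsToPic R K).range := by
      rw [Submodule.range_unitsToPic, CommRing.relPic_eq_top]
      trivial
    obtain ⟨I₀, hI₀⟩ := hmem
    have hI₀' : CommRing.Pic.mk R ↥I₀.1 = CommRing.Pic.mk R N := hI₀
    obtain ⟨eN⟩ := CommRing.Pic.mk_eq_mk_iff.mp hI₀'
    let I : (FractionalIdeal R⁰ K)ˣ := FractionalIdeal.unitsMulEquivSubmodule.symm I₀
    have hcoe : ((I : FractionalIdeal R⁰ K) : Submodule R K) = I₀.1 := rfl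
    have hpowcoe : (((I : FractionalIdeal R⁰ K) ^ (m + 1) : FractionalIdeal R⁰ K) : Submodule R K) =
        (I₀ ^ (m + 1) : (Submodule R K)ˣ).1 := by
      rw [FractionalIdeal.coe_pow, hcoe, Units.val_pow_eq_pow_val]
    have hone : CommRing.Pic.mk R ↥(I₀ ^ (m + 1) : (Submodule R K)ˣ).1 = 1 := by
      have : Submodule.unitsToPic R K (I₀ ^ (m + 1)) = 1 := by
        rw [map_pow, hI₀, h]
      exact this
    obtain ⟨eP⟩ := CommRing.Pic.mk_eq_one_iff.mp hone
    obtain ⟨e⟩ := Steinitz.pow_split (I : FractionalIdeal R⁰ K) I.ne_zero m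
    have g1 : (Fin (m + 1) → N) ≃ₗ[R] (Fin (m + 1) → ↥((I : FractionalIdeal R⁰ K) : Submodule R K)) :=
      LinearEquiv.piCongrRight (fun _ => eN.symm.trans (LinearEquiv.ofEq _ _ hcoe.symm))
    have g2 : ↥(((I : FractionalIdeal R⁰ K) ^ (m + 1) : FractionalIdeal R⁰ K) : Submodule R K) ≃ₗ[R] R :=
      (LinearEquiv.ofEq _ _ hpowcoe).trans eP
    have g3 : ((Fin m → R) × R) ≃ₗ[R] (Fin (m + 1) → R) :=
      (LinearEquiv.prodComm R (Fin m → R) R).trans (Fin.consLinearEquiv R (fun _ : Fin (m + 1) => R))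
    exact ⟨g1.trans (e.trans ((LinearEquiv.prodCongr (LinearEquiv.refl R (Fin m → R)) g2).trans g3))⟩

end Groth.Agent.Helper8.SteinitzPic
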