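import Mathlib

set_option autoImplicit false
universe u

namespace Groth.Agent.Helper8.StirlingExp

open Finset Polynomial

variable {R : Type u} [CommRing R] [Algebra ℚ R]

theorem part1 (r : R) (δ : ℕ) (hr : (r - 1) ^ (δ + 1) = 0) (n : ℕ) :
    r ^ n = ∑ k ∈ Finset.range (δ + 1),
      ((descPochhammer ℚ k).eval (n : ℚ) / (k.factorial : ℚ)) • (r - 1) ^ k := by
  have hpow : ∀ k, δ + 1 ≤ k → (r - 1) ^ k = 0 := fun k hk => by
    obtain ⟨c, rfl⟩ := Nat.exists_eq_add_of_le hk
    rw [pow_add, hr, zero_mul]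
  have hterm : ∀ k, ((descPochhammer ℚ k).eval (n : ℚ) / (k.factorial : ℚ)) • (r - 1) ^ k =
      (r - 1) ^ k * 1 ^ (n - k) * (n.choose k : R) := by
    intro k
    rw [descPochhammer_eval_eq_descFactorial, Nat.descFactorial_eq_factorial_mul_choose,
      Nat.cast_mul, mul_div_cancel_left₀ _ (by positivity : (k.factorial : ℚ) ≠ 0), one_pow,
      mul_one, Nat.cast_smul_eq_nsmul, nsmul_eq_mul, mul_comm]
  simp_rw [hterm]
  have h1 : r ^ n = ((r - 1) + 1) ^ n := by rw [sub_add_cancel]
  rw [h1, add_pow]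
  have hA : ∑ k ∈ range (n + 1), (r - 1) ^ k * 1 ^ (n - k) * (n.choose k : R) =
      ∑ k ∈ range (max n δ + 1), (r - 1) ^ k * 1 ^ (n - k) * (n.choose k : R) := by
    apply Finset.sum_subset
    · intro k hk
      simp only [mem_range] at hk ⊢
      omega
    · intro k _ hk
      simp only [mem_range, not_lt] at hk
      rw [Nat.choose_eq_zero_of_lt (by omega), Nat.cast_zero, mul_zero]
  have hB : ∑ k ∈ range (δ + 1), (r - 1) ^ k * 1 ^ (n - k) * (n.choose k : R) =
      ∑ k ∈ range (max n δ + 1), (r - 1) ^ k * 1 ^ (n - k) * (n.choose k : R) := by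
    apply Finset.sum_subset
    · intro k hk
      simp only [mem_range] at hk ⊢
      omega
    · intro k _ hk
      simp only [mem_range, not_lt] at hk
      rw [hpow k (by omega), zero_mul, zero_mul]
  rw [hA, hB]

omit [Algebra ℚ R] in
theorem coeff_descPochhammer (k j : ℕ) :
    (descPochhammer R k).coeff j = (((descPochhammer ℤ k).coeff j : ℤ) : R) := by
  rw [← descPochhammer_map (Int.castRingHom R), Polynomial.coeff_map]
  rfl

omit [Algebra ℚ R] in
theorem coeff_descPochhammer_of_lt (k j : ℕ) (h : k < j) :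
    (descPochhammer R k).coeff j = 0 := by
  rw [coeff_descPochhammer, Polynomial.coeff_eq_zero_of_natDegree_lt, Int.cast_zero]
  rw [descPochhammer_natDegree]
  exact h

theorem part2 (r : R) (δ : ℕ) :
    (∑ k ∈ Finset.range (δ + 1),
      ((k.factorial : ℚ)⁻¹ • (descPochhammer R k * Polynomial.C ((r - 1) ^ k))) =
      ∑ j ∈ Finset.range (δ + 1), Polynomial.C (∑ k ∈ Finset.range (δ + 1),
        ∑ u ∈ Finset.range (k + 1),
        (((-1 : ℚ) ^ (k - u) * (((descPochhammer ℤ k).coeff j : ℤ) : ℚ)) /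
          ((u.factorial * (k - u).factorial : ℕ) : ℚ)) • r ^ u) * Polynomial.X ^ j) := by
  ext n
  simp only [Polynomial.finset_sum_coeff, Polynomial.coeff_smul, Polynomial.coeff_mul_C,
    Polynomial.coeff_C_mul_X_pow]
  rw [Finset.sum_ite_eq]
  by_cases hn : n < δ + 1
  · rw [if_pos (Finset.mem_range.2 hn)]
    apply Finset.sum_congr rfl
    intro k _
    rw [coeff_descPochhammer, sub_eq_add_neg r 1, add_pow, Finset.mul_sum, Finset.smul_sum]
    apply Finset.sum_congr rfl
    intro u hu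
    have hu' : u ≤ k := Nat.lt_succ_iff.1 (Finset.mem_range.1 hu)
    have hfact : ((u.factorial * (k - u).factorial : ℕ) : ℚ) ≠ 0 := by positivity
    have hk : (k.factorial : ℚ) ≠ 0 := by positivity
    have hch : ((k.choose u : ℕ) : ℚ) * ((u.factorial * (k - u).factorial : ℕ) : ℚ) =
        (k.factorial : ℚ) := by
      rw [← Nat.cast_mul, ← mul_assoc, Nat.choose_mul_factorial_mul_factorial hu']
    have e1 : (((descPochhammer ℤ k).coeff n : ℤ) : R) =
        algebraMap ℚ R (((descPochhammer ℤ k).coeff n : ℤ) : ℚ) := by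
      rw [map_intCast]
    have e2 : ((-1 : R)) ^ (k - u) = algebraMap ℚ R ((-1) ^ (k - u)) := by
      rw [map_pow, map_neg, map_one]
    have e3 : ((k.choose u : ℕ) : R) = algebraMap ℚ R ((k.choose u : ℕ) : ℚ) := by
      rw [map_natCast]
    rw [e1, e2, e3, Algebra.smul_def, Algebra.smul_def]
    have : (k.factorial : ℚ)⁻¹ * ((((descPochhammer ℤ k).coeff n : ℤ) : ℚ) *
        ((-1) ^ (k - u) * ((k.choose u : ℕ) : ℚ))) =
        ((-1 : ℚ) ^ (k - u) * (((descPochhammer ℤ k).coeff n : ℤ) : ℚ)) /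
          ((u.factorial * (k - u).factorial : ℕ) : ℚ) := by
      have hc0 : ((k.choose u : ℕ) : ℚ) ≠ 0 := by
        have := Nat.choose_pos hu'
        positivity
      rw [← hch]
      field_simp
    rw [← this]
    simp only [map_mul]
    ring
  · rw [if_neg (by simpa only [mem_range] using hn)]
    apply Finset.sum_eq_zero
    intro k hk
    rw [coeff_descPochhammer_of_lt k n (by simp only [mem_range] at hk; omega), zero_mul,
      smul_zero]

theorem main (r : R) (δ : ℕ) (hr : (r - 1) ^ (δ + 1) = 0) :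
    (∀ n : ℕ, r ^ n = ∑ k ∈ Finset.range (δ + 1), ((descPochhammer ℚ k).eval (n : ℚ) / (k.factorial : ℚ)) • (r - 1) ^ k) ∧
    (∑ k ∈ Finset.range (δ + 1), ((k.factorial : ℚ)⁻¹ • (descPochhammer R k * Polynomial.C ((r - 1) ^ k))) =
      ∑ j ∈ Finset.range (δ + 1), Polynomial.C (∑ k ∈ Finset.range (δ + 1), ∑ u ∈ Finset.range (k + 1),
        (((-1 : ℚ) ^ (k - u) * (((descPochhammer ℤ k).coeff j : ℤ) : ℚ)) / ((u.factorial * (k - u).factorial : ℕ) : ℚ)) • r ^ u) * Polynomial.X ^ j) :=
  ⟨part1 r δ hr, part2 r δ⟩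

end Groth.Agent.Helper8.StirlingExp
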