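import Mathlib
import Groth.Prelude.Def_W4bk4grassmannianPl
import Groth.Agent.Helper8.SMT9
import Groth.Agent.Helper8.SMT5
import Groth.Agent.Helper8.Cell2

/-!
# Shape of the straightening relation of a pair of Plücker coordinates

`X τ * X φ = X (τ ∨ φ) * X (τ ∧ φ) + Σ c X α * X β` modulo the vanishing ideal of the Grassmannian, with
`β ≤ α`, `τ ∨ φ < α`, `β < τ ∧ φ`.  The proof: straighten, keep the torus-weight component, then restrict
to Schubert varieties (from above) and to opposite Schubert conditions (from below), and compare leading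
terms on the big cell for the coefficient `1`.
-/

set_option autoImplicit false

namespace Groth.Agent.Helper8.Straight

open W4bk4grassmannian MvPolynomial Groth.Agent.Helper8.SMT Groth.Agent.Helper8.SMT3
  Groth.Agent.Helper8.SMT4 Groth.Agent.Helper8.SMT5 Groth.Agent.Helper8.SMT8

universe u

variable {d n : ℕ}

/-! ### Contents -/

/-- The indicator of the rows of `θ`. -/
noncomputable def ind (θ : Idx d n) : Fin n →₀ ℕ := ∑ t : Fin d, Finsupp.single (θ.1 t) 1

/-- The content (torus weight) of a monomial. -/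
noncomputable def Cn : (Idx d n →₀ ℕ) →+ (Fin n →₀ ℕ) :=
  Finsupp.liftAddHom (fun θ => (smulAddHom ℕ (Fin n →₀ ℕ)).flip (ind θ))

lemma Cn_single (θ : Idx d n) (k : ℕ) : Cn (Finsupp.single θ k) = k • ind θ := by
  unfold Cn
  rw [Finsupp.liftAddHom_apply_single]
  rfl

/-- The total of a content. -/
noncomputable def tot : (Fin n →₀ ℕ) →+ ℕ := Finsupp.liftAddHom (fun _ => AddMonoidHom.id ℕ)

lemma tot_single (i : Fin n) (k : ℕ) : tot (Finsupp.single i k) = k := by
  unfold tot
  rw [Finsupp.liftAddHom_apply_single]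
  rfl

/-- The weighted total of a content. -/
noncomputable def wtot : (Fin n →₀ ℕ) →+ ℕ :=
  Finsupp.liftAddHom (fun i => (smulAddHom ℕ ℕ).flip i.val)

lemma wtot_single (i : Fin n) (k : ℕ) : wtot (Finsupp.single i k) = k * i.val := by
  unfold wtot
  rw [Finsupp.liftAddHom_apply_single]
  rfl

lemma tot_ind (θ : Idx d n) : tot (ind θ) = d := by
  unfold ind
  rw [map_sum]
  simp only [tot_single]
  rw [Finset.sum_const, Finset.card_univ, Fintype.card_fin, smul_eq_mul, mul_one]

lemma wtot_ind (θ : Idx d n) : wtot (ind θ) = wt θ := by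
  unfold ind wt wtT
  rw [map_sum]
  exact Finset.sum_congr rfl (fun t _ => by rw [wtot_single, one_mul])

lemma tot_Cn (e : Idx d n →₀ ℕ) : tot (Cn e) = d * deg e := by
  induction e using Finsupp.induction_linear with
  | zero =>
    rw [map_zero, map_zero]
    unfold deg
    rw [Finsupp.sum_zero_index, mul_zero]
  | add s t hs ht => rw [map_add, map_add, hs, ht, deg_add, mul_add]
  | single θ k => rw [Cn_single, map_nsmul, tot_ind, deg_single, smul_eq_mul, mul_comm]

lemma eq_of_le_of_wt_eq {θ θ' : Idx d n} (h : θ ≤ θ') (hw : wt θ = wt θ') : θ = θ' := by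
  by_contra hne
  have h' : ¬ ∀ t, θ'.1 t ≤ θ.1 t := fun hh => hne (le_antisymm h hh)
  push Not at h'
  obtain ⟨t₀, ht₀⟩ := h'
  have : wt θ < wt θ' := by
    unfold wt wtT
    exact Finset.sum_lt_sum (fun t _ => Fin.le_def.mp (h t))
      ⟨t₀, Finset.mem_univ _, Fin.lt_def.mp ht₀⟩
  omega

lemma support_pair (α β : Idx d n) :
    ∀ θ ∈ (Finsupp.single α 1 + Finsupp.single β 1 : Idx d n →₀ ℕ).support, θ = α ∨ θ = β := by
  classical
  intro θ hθ
  rw [Finsupp.mem_support_iff, Finsupp.add_apply, Finsupp.single_apply, Finsupp.single_apply]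
    at hθ
  by_cases h1 : α = θ
  · exact Or.inl h1.symm
  · by_cases h2 : β = θ
    · exact Or.inr h2.symm
    · rw [if_neg h1, if_neg h2] at hθ
      exact absurd rfl hθ

lemma mem_support_single_one (α : Idx d n) : α ∈ (Finsupp.single α 1 : Idx d n →₀ ℕ).support := by
  rw [Finsupp.mem_support_iff, Finsupp.single_eq_same]
  exact one_ne_zero

/-! ### The top index -/

/-- The largest index `(n - d, …, n - 1)`. -/
def topIdx (hdn : d ≤ n) : Idx d n :=
  ⟨fun t => ⟨n - d + t.val, by have := t.isLt; omega⟩, fun a b h => by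
    rw [Fin.lt_def] at h ⊢
    show n - d + a.val < n - d + b.val
    omega⟩

lemma le_topIdx (hdn : d ≤ n) (θ : Idx d n) : θ ≤ topIdx hdn := by
  intro t
  rw [Fin.le_def]
  show (θ.1 t).val ≤ n - d + t.val
  have ht := t.isLt
  have hlast : d - 1 < d := by omega
  have h1 := add_le_of_strictMono θ t ⟨d - 1, hlast⟩ (by
    rw [Fin.le_def]
    show t.val ≤ d - 1
    omega)
  have h2 := (θ.1 ⟨d - 1, hlast⟩).isLt
  have h3 : (⟨d - 1, hlast⟩ : Fin d).val = d - 1 := rfl
  rw [h3] at h1
  omega

/-! ### The torus action -/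

section torus

variable (K : Type u) [Field K]

lemma mem_vanishing_iff (f : PlRing K d n) :
    f ∈ vanishing K d n ↔ ∀ A : Matrix (Fin n) (Fin d) K, evalMinors K d n A f = 0 := by
  unfold vanishing
  rw [Ideal.mem_iInf]
  exact forall_congr' fun A => RingHom.mem_ker

lemma plIdealTop_le_vanishing : plIdealTop (d := d) (n := n) K ≤ vanishing K d n := by
  unfold plIdealTop
  rw [Ideal.span_le]
  rintro f ⟨i, j, r, -, rfl⟩
  rw [SetLike.mem_coe, mem_vanishing_iff]
  intro A
  exact SMT2.evalMinors_shuffleRel A i j r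

/-- The torus-equivariant lift of the evaluation at the minors of `A`. -/
noncomputable def PsiA (A : Matrix (Fin n) (Fin d) K) :
    PlRing K d n →ₐ[K] MvPolynomial (Fin n) K :=
  MvPolynomial.aeval fun θ : Idx d n => monomial (ind θ) ((A.submatrix θ.1 id).det)

lemma eval_PsiA (A : Matrix (Fin n) (Fin d) K) (x : Fin n → K) (f : PlRing K d n) :
    MvPolynomial.eval x (PsiA K A f) =
      evalMinors K d n (Matrix.of fun i j => x i * A i j) f := by
  have hcomp : (MvPolynomial.aeval x : MvPolynomial (Fin n) K →ₐ[K] K).comp (PsiA K A) =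
      evalMinors K d n (Matrix.of fun i j => x i * A i j) := by
    apply MvPolynomial.algHom_ext
    intro θ
    rw [AlgHom.comp_apply]
    unfold PsiA evalMinors
    rw [aeval_X, aeval_X, aeval_monomial]
    have h1 : ((Matrix.of fun i j => x i * A i j).submatrix θ.1 id) =
        Matrix.of (fun s j => x (θ.1 s) * (A.submatrix θ.1 id) s j) := by
      ext s j
      rfl
    have h2 : (ind θ).prod (fun i k => x i ^ k) = ∏ s : Fin d, x (θ.1 s) := by
      unfold ind
      rw [← Finsupp.prod_finset_sum_index (fun a => pow_zero _) (fun a b₁ b₂ => pow_add _ _ _)]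
      refine Finset.prod_congr rfl fun s _ => ?_
      rw [Finsupp.prod_single_index (h := fun i k => x i ^ k) (pow_zero _), pow_one]
    rw [h1, Matrix.det_mul_column, h2]
    show (A.submatrix θ.1 id).det * _ = _
    rw [mul_comm]
  have h3 := DFunLike.congr_fun hcomp f
  rw [AlgHom.comp_apply] at h3
  rw [← h3]
  rfl

lemma PsiA_eq_zero [Infinite K] (A : Matrix (Fin n) (Fin d) K) (f : PlRing K d n)
    (hf : f ∈ vanishing K d n) : PsiA K A f = 0 := by
  apply MvPolynomial.funext
  intro x
  rw [map_zero, eval_PsiA]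
  exact (mem_vanishing_iff K f).mp hf _

lemma PsiA_monomial_one (A : Matrix (Fin n) (Fin d) K) : ∀ e : Idx d n →₀ ℕ,
    PsiA K A (monomial e 1) = monomial (Cn e) (evalMinors K d n A (monomial e 1)) := by
  intro e
  induction e using Finsupp.induction_linear with
  | zero =>
    have h : (monomial (0 : Idx d n →₀ ℕ) (1:K) : PlRing K d n) = 1 := rfl
    rw [h, map_one, map_one, map_zero]
    rfl
  | add s t hs ht =>
    have h : (monomial (s + t) (1:K) : PlRing K d n) = monomial s 1 * monomial t 1 := by
      rw [monomial_mul, one_mul]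
    rw [h, map_mul, map_mul, hs, ht, monomial_mul, map_add]
  | single θ k =>
    rw [← X_pow_eq_monomial, map_pow, map_pow, Cn_single]
    unfold PsiA evalMinors
    rw [aeval_X, aeval_X, monomial_pow]

lemma PsiA_monomial (A : Matrix (Fin n) (Fin d) K) (e : Idx d n →₀ ℕ) (a : K) :
    PsiA K A (monomial e a) = monomial (Cn e) (evalMinors K d n A (monomial e a)) := by
  have h : (monomial e a : PlRing K d n) = C a * monomial e 1 := by rw [C_mul_monomial, mul_one]
  have hC1 : PsiA K A (C a) = C a := by
    unfold PsiA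
    rw [aeval_C]
    rfl
  have hC2 : evalMinors K d n A (C a) = a := by
    unfold evalMinors
    rw [aeval_C]
    rfl
  rw [h, map_mul, map_mul, PsiA_monomial_one, hC1, hC2, C_mul_monomial]

theorem restr_mem_vanishing [Infinite K] (c₀ : Fin n →₀ ℕ) (f : PlRing K d n)
    (hf : f ∈ vanishing K d n) : restr (fun e => Cn e = c₀) f ∈ vanishing K d n := by
  classical
  rw [mem_vanishing_iff]
  intro A
  have h1 := PsiA_eq_zero K A f hf
  have h2 : PsiA K A f =
      ∑ e ∈ f.support, monomial (Cn e) (evalMinors K d n A (monomial e (coeff e f))) := by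
    conv_lhs => rw [f.as_sum]
    rw [map_sum]
    exact Finset.sum_congr rfl fun e _ => PsiA_monomial K A e _
  have h3 : coeff c₀ (PsiA K A f) = evalMinors K d n A (restr (fun e => Cn e = c₀) f) := by
    rw [h2, coeff_sum]
    unfold restr
    rw [map_sum, Finset.sum_filter]
    refine Finset.sum_congr rfl fun e _ => ?_
    rw [coeff_monomial]
    by_cases h : Cn e = c₀
    · rw [if_pos h, if_pos h]
    · rw [if_neg h, if_neg h]
  rw [← h3, h1, coeff_zero]

end torus

/-! ### The straightening relation -/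

section main

variable (K : Type u) [Field K] [Infinite K]

theorem main (hd : 0 < d) (hdn : d ≤ n) (τ φ : Idx d n) :
    ∃ g ∈ Submodule.span K {f : PlRing K d n | ∃ α β : Idx d n,
        β ≤ α ∧ W4bk4grassmannian.sup τ φ < α ∧ β < W4bk4grassmannian.inf τ φ ∧
          f = X α * X β},
      X τ * X φ - X (W4bk4grassmannian.sup τ φ) * X (W4bk4grassmannian.inf τ φ) - g ∈
        vanishing K d n := by
  classical
  obtain ⟨s1, hs1⟩ : ∃ s : Idx d n →₀ ℕ, s = Finsupp.single τ 1 + Finsupp.single φ 1 := ⟨_, rfl⟩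
  obtain ⟨s2, hs2⟩ : ∃ s : Idx d n →₀ ℕ, s = Finsupp.single (W4bk4grassmannian.sup τ φ) 1 +
    Finsupp.single (W4bk4grassmannian.inf τ φ) 1 := ⟨_, rfl⟩
  have hXX : ∀ α β : Idx d n, (X α * X β : PlRing K d n) =
      monomial (Finsupp.single α 1 + Finsupp.single β 1) 1 := by
    intro α β
    show monomial (Finsupp.single α 1) (1:K) * monomial (Finsupp.single β 1) 1 = _
    rw [monomial_mul, one_mul]
  have hF : (X τ * X φ : PlRing K d n) = monomial s1 1 := by rw [hs1, hXX]
  have hF2 : (X (W4bk4grassmannian.sup τ φ) * X (W4bk4grassmannian.inf τ φ) : PlRing K d n) =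
      monomial s2 1 := by rw [hs2, hXX]
  obtain ⟨f', hf', hstd⟩ := exists_std_rep K (monomial s1 (1:K) : PlRing K d n)
  have hf'van : monomial s1 (1:K) - f' ∈ vanishing K d n := plIdealTop_le_vanishing K hf'
  obtain ⟨f'', hf''⟩ : ∃ f'' : PlRing K d n, f'' = restr (fun e => Cn e = Cn s1) f' := ⟨_, rfl⟩
  have hG : monomial s1 (1:K) - f'' ∈ vanishing K d n := by
    have h1 := restr_mem_vanishing K (Cn s1) _ hf'van
    have h2 : restr (fun e => Cn e = Cn s1) (monomial s1 (1:K) - f') = monomial s1 1 - f'' := by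
      ext e
      rw [hf'', coeff_sub]
      by_cases hq : Cn e = Cn s1
      · rw [coeff_restr_pos (fun e => Cn e = Cn s1) _ e hq,
          coeff_restr_pos (fun e => Cn e = Cn s1) _ e hq, coeff_sub]
      · rw [coeff_restr_neg (fun e => Cn e = Cn s1) _ e hq,
          coeff_restr_neg (fun e => Cn e = Cn s1) _ e hq, sub_zero, coeff_monomial, if_neg]
        rintro rfl
        exact hq rfl
    rwa [h2] at h1
  have hsupp : ∀ e ∈ f''.support, IsStd e ∧ Cn e = Cn s1 := by
    intro e he
    rw [hf''] at he
    obtain ⟨h1, h2⟩ := mem_support_restr _ _ _ he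
    exact ⟨hstd e h1, h2⟩
  -- from above
  have hA : ∀ e ∈ f''.support, ∀ w : Idx d n, LeAll w e → τ ≤ w ∧ φ ≤ w := by
    intro e he w hle
    by_contra hnot
    have hpsiG := psi_eq_zero_of_mem K w _ (Cell2.vanishing_le K d n w hG)
    have hpsiF : psi K w (monomial s1 (1:K)) = 0 := by
      rw [← hF, map_mul]
      by_cases h1 : τ ≤ w
      · have h2 : ¬ φ ≤ w := fun h2 => hnot ⟨h1, h2⟩
        rw [psi_X_of_not_le K w φ h2, mul_zero]
      · rw [psi_X_of_not_le K w τ h1, zero_mul]
    rw [map_sub, hpsiF, zero_sub, neg_eq_zero] at hpsiG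
    exact (mem_support_iff.mp he)
      (coeff_eq_zero_of_psi K hd w f'' (fun e' he' => (hsupp e' he').1) hpsiG e hle)
  -- from below
  have hB : ∀ e ∈ f''.support, ∀ κ : Fin d → ℕ, Monotone κ →
      (∀ θ ∈ e.support, GeLow κ θ) → e ≠ 0 → GeLow κ τ ∧ GeLow κ φ := by
    intro e he κ hκ hge hne0
    by_contra hnot
    obtain ⟨T, hT⟩ : ∃ T : Idx d n, T = topIdx hdn := ⟨_, rfl⟩
    have hpsiG := psi2_eq_zero_of_mem K κ T _ (Cell2.vanishing_le K d n T hG)
    have hpsiF : psi2 K κ T (monomial s1 (1:K)) = 0 := by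
      rw [← hF, map_mul]
      by_cases h1 : GeLow κ τ
      · have h2 : ¬ GeLow κ φ := fun h2 => hnot ⟨h1, h2⟩
        rw [psi2_X_zero K κ hκ T φ (fun h => h2 h.1), mul_zero]
      · rw [psi2_X_zero K κ hκ T τ (fun h => h1 h.1), zero_mul]
    rw [map_sub, hpsiF, zero_sub, neg_eq_zero] at hpsiG
    have hiv : InIv κ T e := fun θ hθ => ⟨hge θ hθ, hT ▸ le_topIdx hdn θ⟩
    have h2 : psi2 K κ T (restr (InIv κ T) f'') = 0 := by
      rw [map_restr_eq (psi2 K κ T) (InIv κ T) f''
        (fun e' c h => psi2_monomial_zero K κ hκ T e' c h)]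
      exact hpsiG
    obtain ⟨θ, hθ⟩ := Finsupp.support_nonempty_iff.mpr hne0
    have hκT : GeLow κ T := fun t =>
      le_trans ((hiv θ hθ).1 t) (Fin.le_def.mp ((hiv θ hθ).2 t))
    have h3 : restr (InIv κ T) f'' = 0 := indep2 K hd κ hκ T hκT _ (fun e' he' => by
      obtain ⟨h4, h5⟩ := mem_support_restr _ _ _ he'
      exact ⟨(hsupp e' h4).1, h5⟩) h2
    have h4 := coeff_restr_pos (InIv κ T) f'' e hiv
    rw [h3, coeff_zero] at h4
    exact (mem_support_iff.mp he) h4.symm
  -- degree two
  have hdeg1 : deg s1 = 2 := by rw [hs1, deg_add, deg_single, deg_single]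
  have hdeg2 : deg s2 = 2 := by rw [hs2, deg_add, deg_single, deg_single]
  have hdeg : ∀ e ∈ f''.support, deg e = 2 := by
    intro e he
    have h1 := congrArg tot (hsupp e he).2
    rw [tot_Cn, tot_Cn, hdeg1] at h1
    exact Nat.eq_of_mul_eq_mul_left hd h1
  have hpair : ∀ e ∈ f''.support, ∃ α β : Idx d n, β ≤ α ∧
      e = Finsupp.single α 1 + Finsupp.single β 1 := by
    intro e he
    have h1 : Multiset.card (Finsupp.toMultiset e) = 2 := by
      rw [Finsupp.card_toMultiset]
      exact hdeg e he
    obtain ⟨x, y, hxy⟩ := Multiset.card_eq_two.mp h1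
    have h2 : Finsupp.toMultiset (Finsupp.single x 1 + Finsupp.single y 1) =
        Finsupp.toMultiset e := by
      rw [map_add, Finsupp.toMultiset_single, Finsupp.toMultiset_single, one_smul, one_smul, hxy,
        Multiset.singleton_add]
      rfl
    have h3 : e = Finsupp.single x 1 + Finsupp.single y 1 := by
      have h4 := congrArg Multiset.toFinsupp h2
      rw [Finsupp.toMultiset_toFinsupp, Finsupp.toMultiset_toFinsupp] at h4
      exact h4.symm
    have hx : x ∈ e.support := by
      rw [h3]
      exact mem_support_add_left _ _ x (mem_support_single_one x)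
    have hy : y ∈ e.support := by
      rw [h3]
      exact mem_support_add_right _ _ y (mem_support_single_one y)
    rcases (hsupp e he).1 x hx y hy with h | h
    · exact ⟨y, x, h, by rw [h3, add_comm]⟩
    · exact ⟨x, y, h, h3⟩
  have hstrict : ∀ α β : Idx d n, β ≤ α →
      Finsupp.single α 1 + Finsupp.single β 1 ∈ f''.support →
      Finsupp.single α 1 + Finsupp.single β 1 ≠ s2 →
      W4bk4grassmannian.sup τ φ < α ∧ β < W4bk4grassmannian.inf τ φ := by
    intro α β hβα he hne
    have hsub := support_pair α β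
    have hα : α ∈ (Finsupp.single α 1 + Finsupp.single β 1 : Idx d n →₀ ℕ).support :=
      mem_support_add_left _ _ α (mem_support_single_one α)
    have hle : LeAll α (Finsupp.single α 1 + Finsupp.single β 1) := by
      intro θ hθ
      rcases hsub θ hθ with rfl | rfl
      · exact le_rfl
      · exact hβα
    obtain ⟨hτα, hφα⟩ := hA _ he α hle
    have hsup : W4bk4grassmannian.sup τ φ ≤ α := fun t => max_le (hτα t) (hφα t)
    have hκ : Monotone (fun t : Fin d => (β.1 t).val) :=
      fun a b hab => Fin.le_def.mp (β.2.monotone hab)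
    have hge : ∀ θ ∈ (Finsupp.single α 1 + Finsupp.single β 1 : Idx d n →₀ ℕ).support,
        GeLow (fun t : Fin d => (β.1 t).val) θ := by
      intro θ hθ t
      rcases hsub θ hθ with rfl | rfl
      · exact Fin.le_def.mp (hβα t)
      · exact le_rfl
    have hne0 : (Finsupp.single α 1 + Finsupp.single β 1 : Idx d n →₀ ℕ) ≠ 0 := by
      intro h
      rw [h] at hα
      simp at hα
    obtain ⟨hτβ, hφβ⟩ := hB _ he _ hκ hge hne0
    have hinf : β ≤ W4bk4grassmannian.inf τ φ :=
      fun t => le_min (Fin.le_def.mpr (hτβ t)) (Fin.le_def.mpr (hφβ t))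
    have hw : wt α + wt β = wt (W4bk4grassmannian.sup τ φ) + wt (W4bk4grassmannian.inf τ φ) := by
      have h1 := congrArg wtot (hsupp _ he).2
      rw [hs1, map_add, map_add, map_add, map_add, Cn_single, Cn_single, Cn_single, Cn_single,
        one_smul, one_smul, one_smul, one_smul, wtot_ind, wtot_ind, wtot_ind, wtot_ind] at h1
      rw [h1, SMT9.wt_sup_inf]
    constructor
    · refine lt_of_le_of_ne hsup ?_
      intro h
      have h1 : wt β = wt (W4bk4grassmannian.inf τ φ) := by
        rw [← h] at hw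
        omega
      have h2 : β = W4bk4grassmannian.inf τ φ := eq_of_le_of_wt_eq hinf h1
      exact hne (by rw [hs2, ← h, ← h2])
    · refine lt_of_le_of_ne hinf ?_
      intro h
      have h1 : wt (W4bk4grassmannian.sup τ φ) = wt α := by
        rw [h] at hw
        omega
      have h2 : W4bk4grassmannian.sup τ φ = α := eq_of_le_of_wt_eq hsup h1
      exact hne (by rw [hs2, h2, ← h])
  -- the coefficient of the leading pair
  have hc2 : coeff s2 f'' = 1 := by
    obtain ⟨T, hT⟩ : ∃ T : Idx d n, T = topIdx hdn := ⟨_, rfl⟩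
    have hleT : ∀ e : Idx d n →₀ ℕ, LeAll T e := fun e θ _ => hT ▸ le_topIdx hdn θ
    have hpsiG := psi_eq_zero_of_mem K T _ (Cell2.vanishing_le K d n T hG)
    rw [map_sub, sub_eq_zero] at hpsiG
    have hsum : psi K T f'' = ∑ e ∈ f''.support, coeff e f'' • psi K T (monomial e 1) := by
      conv_lhs => rw [f''.as_sum]
      rw [map_sum]
      refine Finset.sum_congr rfl fun e _ => ?_
      rw [← map_smul, smul_monomial, smul_eq_mul, mul_one]
    have htop1 := isTop_monomial K T s1 (hleT s1)
    have htop2 := isTop_monomial K T s2 (hleT s2)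
    have hb := topBound K f''.support (fun e => coeff e f'')
      (fun e => psi K T (monomial e 1)) Wm Dm
      (fun e _ => isTop_monomial K T e (hleT e))
      (fun e he e' he' hD =>
        Dm_injective hd 2 e e' (hdeg e he) (hsupp e he).1 (hsupp e' he').1 hD)
      (Wm s1 + 1) (fun m hm => by
        rw [← hsum, ← hpsiG] at hm
        exact Nat.lt_succ_of_le (htop1.le m hm))
    have hD12 : Dm s1 = Dm s2 := by
      rw [hs1, hs2, Dm_add, Dm_add, Dm_single, Dm_single, Dm_single, Dm_single, one_smul,
        one_smul, one_smul, one_smul]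
      exact (SMT9.Dθ_sup_inf τ φ).symm
    have hstd2 : IsStd s2 := by
      intro a ha b hb'
      rw [hs2] at ha hb'
      have hinfsup : W4bk4grassmannian.inf τ φ ≤ W4bk4grassmannian.sup τ φ :=
        fun t => le_trans (min_le_left _ _) (le_max_left _ _)
      rcases support_pair _ _ a ha with rfl | rfl <;> rcases support_pair _ _ b hb' with rfl | rfl
      · exact Or.inl le_rfl
      · exact Or.inr hinfsup
      · exact Or.inl hinfsup
      · exact Or.inl le_rfl
    have h1 : coeff (Dm s1) (psi K T (monomial s1 1)) = 1 := htop1.coeff_top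
    rw [hpsiG, hsum, coeff_sum, Finset.sum_eq_single s2] at h1
    · rw [coeff_smul, smul_eq_mul, hD12, htop2.coeff_top, mul_one] at h1
      exact h1
    · intro e he hne
      rw [coeff_smul, smul_eq_mul]
      by_cases hce : coeff e f'' = 0
      · rw [hce, zero_mul]
      · have hW := hb e he hce
        have h2 : coeff (Dm s1) (psi K T (monomial e 1)) = 0 := by
          by_contra h3
          have h4 : Dm s1 ≠ Dm e := fun h =>
            hne (Dm_injective hd 2 e s2 (hdeg e he) (hsupp e he).1 hstd2 (by rw [← h, hD12]))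
          have h5 := (isTop_monomial K T e (hleT e)).lower _ h3 h4
          rw [htop1.weight_top] at h5
          omega
        rw [h2, mul_zero]
    · intro hnot
      rw [coeff_smul, smul_eq_mul, notMem_support_iff.mp hnot, zero_mul]
  -- conclusion
  refine ⟨f'' - monomial s2 1, ?_, ?_⟩
  · rw [(f'' - monomial s2 (1:K)).as_sum]
    refine Submodule.sum_mem _ fun e he => ?_
    have hce : coeff e (f'' - monomial s2 (1:K)) ≠ 0 := mem_support_iff.mp he
    have hne : e ≠ s2 := by
      rintro rfl
      apply hce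
      rw [coeff_sub, hc2, coeff_monomial, if_pos rfl, sub_self]
    have hce' : coeff e (f'' - monomial s2 (1:K)) = coeff e f'' := by
      rw [coeff_sub, coeff_monomial, if_neg (Ne.symm hne), sub_zero]
    have hef : e ∈ f''.support := mem_support_iff.mpr (hce' ▸ hce)
    obtain ⟨α, β, hβα, rfl⟩ := hpair e hef
    obtain ⟨h1, h2⟩ := hstrict α β hβα hef hne
    have h3 : monomial (Finsupp.single α 1 + Finsupp.single β 1)
        (coeff (Finsupp.single α 1 + Finsupp.single β 1) (f'' - monomial s2 (1:K))) =
        (coeff (Finsupp.single α 1 + Finsupp.single β 1) (f'' - monomial s2 (1:K))) •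
          (X α * X β : PlRing K d n) := by
      rw [hXX, smul_monomial, smul_eq_mul, mul_one]
    rw [h3]
    exact Submodule.smul_mem _ _ (Submodule.subset_span ⟨α, β, hβα, h1, h2, rfl⟩)
  · have h1 : (X τ * X φ - X (W4bk4grassmannian.sup τ φ) * X (W4bk4grassmannian.inf τ φ) -
        (f'' - monomial s2 1) : PlRing K d n) = monomial s1 1 - f'' := by
      rw [hF, hF2]
      ring
    rw [h1]
    exact hG

end main

end Groth.Agent.Helper8.Straight
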