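import Mathlib

set_option autoImplicit false

namespace Groth.Agent.Helper8.StrongGen

open CategoryTheory CategoryTheory.Limits CategoryTheory.Pretriangulated CategoryTheory.ObjectProperty

universe v u

variable {C : Type u} [Category.{v} C] [Preadditive C] [HasZeroObject C] [HasShift C ℤ]
  [∀ n : ℤ, (shiftFunctor C n).Additive] [Pretriangulated C]

/-- closed under products indexed by `WalkingPair` -/
def CBP (Q : ObjectProperty C) : Prop :=
  ∀ f : WalkingPair → C, (∀ j, Q (f j)) → Q (∏ᶜ f)

lemma cbp_binaryProductsClosure (P : ObjectProperty C) : CBP P.binaryProductsClosure :=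
  fun f hf => P.binaryProductsClosure.prop_pi f hf

lemma cbp_retractClosure {P : ObjectProperty C} (hP : CBP P) : CBP P.retractClosure := by
  intro f hf
  choose g hg r using hf
  refine ⟨∏ᶜ g, hP g hg, ⟨?_⟩⟩
  exact
    { i := Limits.Pi.map (fun j => (r j).some.i)
      r := Limits.Pi.map (fun j => (r j).some.r)
      retract := by
        rw [Limits.Pi.map_comp_map]
        simp }

lemma cbp_extensionProduct {P Q : ObjectProperty C} (hP : CBP P) (hQ : CBP Q) :
    CBP (extensionProduct P Q) := by
  intro f hf
  choose Y Z a b c hT hY hZ using hf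
  have hd := productTriangle_distinguished (fun j => Triangle.mk (a j) (b j) (c j)) hT
  exact ⟨∏ᶜ Y, ∏ᶜ Z, _, _, _, hd, hP Y hY, hQ Z hZ⟩

lemma cbp_extensionProductIter {P : ObjectProperty C} (hP : CBP P) (n : ℕ) :
    CBP (P.extensionProductIter n) := by
  induction n with
  | zero => simpa using hP
  | succ n ih =>
    rw [extensionProductIter_succ]
    exact cbp_extensionProduct hP ih

lemma cbp_triangEnvelopeIter (P : ObjectProperty C) (n : ℕ) : CBP (P.triangEnvelopeIter n) :=
  cbp_retractClosure (cbp_extensionProductIter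
    (cbp_retractClosure (cbp_binaryProductsClosure _)) n)

lemma binaryProductsClosure_le' {P Q : ObjectProperty C} [Q.IsClosedUnderIsomorphisms]
    (hQ : CBP Q) (h : P ≤ Q) : P.binaryProductsClosure ≤ Q := by
  intro X hX
  induction hX with
  | of_mem X hX => exact h _ hX
  | of_isoClosure e hX hX' => exact Q.prop_of_iso e hX'
  | of_limitPresentation pres h h' =>
    have e := IsLimit.conePointsIsoOfNatIso pres.isLimit
      (limit.isLimit (Discrete.functor (fun j => pres.diag.obj ⟨j⟩))) Discrete.natIsoFunctor
    exact Q.prop_of_iso e.symm (hQ _ (fun j => h' ⟨j⟩))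

variable [IsTriangulated C]

theorem main (G E : C)
    (hG : ObjectProperty.IsStrongTriangulatedGenerator (fun X : C => X = G))
    (hE : ObjectProperty.IsClassicalTriangulatedGenerator (fun X : C => X = E)) :
    ObjectProperty.IsStrongTriangulatedGenerator (fun X : C => X = E) := by
  obtain ⟨n, hn⟩ := hG
  obtain ⟨PE, hPE⟩ : ∃ PE : ObjectProperty C, PE = (fun X : C => X = E) := ⟨_, rfl⟩
  obtain ⟨PG, hPG⟩ : ∃ PG : ObjectProperty C, PG = (fun X : C => X = G) := ⟨_, rfl⟩
  rw [← hPE] at hE ⊢
  rw [← hPG] at hn
  have hGE : PE.triangEnvelope G := by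
    have : PE.triangEnvelope = ⊤ := hE
    rw [this]; trivial
  obtain ⟨m, hm⟩ := (PE.prop_triangEnvelope_iff G).1 hGE
  have h0 : PG ≤ PE.triangEnvelopeIter m := by
    intro X hX
    rw [hPG] at hX
    have hX' : X = G := hX
    rw [hX']; exact hm
  have hB : (PG.shiftClosure ℤ).binaryProductsClosure.retractClosure ≤
      PE.triangEnvelopeIter m := by
    rw [retractClosure_le_iff]
    apply binaryProductsClosure_le' (cbp_triangEnvelopeIter PE m)
    rw [shiftClosure_le_iff]
    exact h0
  have key : ∀ k, ∃ N, ((PG.shiftClosure ℤ).binaryProductsClosure.retractClosure).extensionProductIter k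
      ≤ PE.triangEnvelopeIter N := by
    intro k
    induction k with
    | zero => exact ⟨m, hB⟩
    | succ k ih =>
      obtain ⟨N, hN⟩ := ih
      refine ⟨(m + 1) + N, ?_⟩
      rw [extensionProductIter_succ, triangEnvelopeIter_add PE (n := m + 1) (m := N) (n' := m) rfl]
      exact (monotone_extensionProduct_left _ hB).trans
        ((monotone_extensionProduct_right _ hN).trans (le_retractClosure _))
  obtain ⟨N, hN⟩ := key n
  refine ⟨N, ?_⟩
  rw [eq_top_iff, ← hn]
  exact (retractClosure_le_iff _ _).2 hN

end Groth.Agent.Helper8.StrongGen
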