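import Mathlib
import Groth.Agent.Helper8.SubGrpdA
import Groth.Agent.Helper8.DDFin
import Groth.Agent.Helper4.SymOrbA

/-!
# Descending the arrows of a groupoid along the quotient by a finite locally free sub-groupoid
-/

set_option autoImplicit false
universe u

namespace Groth.Agent.Helper8.SubGrpd

open CategoryTheory CategoryTheory.Limits AlgebraicGeometry
open Grpd Groth.Agent.Helper2 Groth.Agent.Helper8.DDGrpd Groth.Agent.Helper8.GrpdGlue

section AF

/-- Finitely many points of a scheme which is separated, locally quasi-finite and locally of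
finite type over an affine scheme lie in a common affine open (Zariski's main theorem). -/
theorem exists_affine_of_finset {Z A : Scheme.{u}} [IsAffine A] (m : Z ⟶ A) [IsSeparated m]
    [LocallyQuasiFinite m] [LocallyOfFiniteType m] (F : Finset Z) :
    ∃ V : Z.Opens, IsAffineOpen V ∧ ∀ z ∈ F, z ∈ V := by
  classical
  have hex : ∀ z : Z, ∃ V : Z.Opens, IsAffineOpen V ∧ z ∈ V := fun z => by
    obtain ⟨_, ⟨(V : Z.Opens), hV, rfl⟩, hzV, -⟩ :=
      Z.isBasis_affineOpens.exists_subset_of_mem_open (Set.mem_univ z) isOpen_univ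
    exact ⟨V, hV, hzV⟩
  choose V hV hzV using hex
  let Z₀ : Z.Opens := ⨆ z : F, V z.1
  have hF : ∀ z ∈ F, z ∈ Z₀ := fun z hz =>
    TopologicalSpace.Opens.mem_iSup.mpr ⟨⟨z, hz⟩, hzV z⟩
  have hc : IsCompact (Z₀ : Set Z) := by
    rw [TopologicalSpace.Opens.coe_iSup]
    exact isCompact_iUnion fun z => (hV z.1).isCompact
  haveI : CompactSpace Z₀ := isCompact_iff_compactSpace.mp hc
  let m₀ : Z₀.toScheme ⟶ A := Z₀.ι ≫ m
  haveI : CompactSpace ↥Z₀.toScheme := ‹CompactSpace Z₀›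
  haveI : IsAffine m₀.normalization := isAffine_of_isAffineHom m₀.fromNormalization
  let ν : Z₀.toScheme ⟶ m₀.normalization := m₀.toNormalization
  haveI : IsOpenImmersion ν := inferInstanceAs (IsOpenImmersion m₀.toNormalization)
  let O : Finset m₀.normalization := F.attach.image (fun z => ν ⟨z.1, hF z.1 z.2⟩)
  obtain ⟨f, hf1, hf2⟩ := Groth.Agent.Helper4.SymOrbA.exists_basicOpen_le_of_finset
    (isAffineOpen_top m₀.normalization) ν.opensRange O (by
      intro y hy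
      obtain ⟨z, -, rfl⟩ := Finset.mem_image.mp hy
      exact ⟨trivial, ⟨_, rfl⟩⟩)
  refine ⟨Z₀.ι ''ᵁ (ν ⁻¹ᵁ m₀.normalization.basicOpen f), ?_, ?_⟩
  · exact (((isAffineOpen_top m₀.normalization).basicOpen f).preimage_of_isOpenImmersion ν
      hf1).image_of_isOpenImmersion Z₀.ι
  · intro z hz
    refine ⟨⟨z, hF z hz⟩, ?_, rfl⟩
    exact hf2 _ (Finset.mem_image.mpr ⟨⟨z, hz⟩, Finset.mem_attach _ _, rfl⟩)

end AF

variable {S : Scheme.{u}} {G : Grpd.GroupoidScheme S}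

section DD

variable (d : SubData G) {Ub : Scheme.{u}} {q : G.U ⟶ Ub}
  (hP : IsPullback (d.ι ≫ G.t) (d.ι ≫ G.s) q q) {g : Ub ⟶ S} (hg : q ≫ g = G.pU)

/-- `q × q : U ×_S U ⟶ Ū ×_S Ū` -/
noncomputable abbrev pp : pullback G.pU G.pU ⟶ pullback g g :=
  pullback.map G.pU G.pU g g q q (𝟙 S) ((Category.comp_id _).trans hg.symm)
    ((Category.comp_id _).trans hg.symm)

lemma pp_fst : pp hg ≫ pullback.fst g g = pullback.fst G.pU G.pU ≫ q := pullback.lift_fst _ _ _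

lemma pp_snd : pp hg ≫ pullback.snd g g = pullback.snd G.pU G.pU ≫ q := pullback.lift_snd _ _ _

variable {T : Scheme.{u}}

/-- the target of a point of `U ×_S U` -/
noncomputable def tgt (x : T ⟶ pullback G.pU G.pU) : Pt G T := ⟨x ≫ pullback.fst _ _⟩

/-- the source of a point of `U ×_S U` -/
noncomputable def src (x : T ⟶ pullback G.pU G.pU) : Pt G T := ⟨x ≫ pullback.snd _ _⟩

include hg in
lemma tgt_q {x₀ x₁ : T ⟶ pullback G.pU G.pU} (h : x₀ ≫ pp hg = x₁ ≫ pp hg) :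
    (tgt x₀).pt ≫ q = (tgt x₁).pt ≫ q := by
  have := congrArg (· ≫ pullback.fst g g) h
  simp only [Category.assoc, pp_fst] at this
  simpa only [tgt, Category.assoc] using this

include hg in
lemma src_q {x₀ x₁ : T ⟶ pullback G.pU G.pU} (h : x₀ ≫ pp hg = x₁ ≫ pp hg) :
    (src x₀).pt ≫ q = (src x₁).pt ≫ q := by
  have := congrArg (· ≫ pullback.snd g g) h
  simp only [Category.assoc, pp_snd] at this
  simpa only [src, Category.assoc] using this

/-- a point of `R` over a point of `U ×_S U` as a typed arrow -/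
noncomputable def liftHom (x : T ⟶ pullback G.pU G.pU) (v : T ⟶ G.R) (hv : v ≫ G.j = x) :
    src x ⟶ tgt x :=
  ⟨v, by
    subst hv
    show v ≫ G.s = (v ≫ G.j) ≫ pullback.snd _ _
    rw [Category.assoc, j_snd], by
    subst hv
    show v ≫ G.t = (v ≫ G.j) ≫ pullback.fst _ _
    rw [Category.assoc, j_fst]⟩

/-- transport of a point of `R` along a pair of arrows of `P` -/
noncomputable def trR (x₀ x₁ : T ⟶ pullback G.pU G.pU) (h : x₀ ≫ pp hg = x₁ ≫ pp hg)
    (v : T ⟶ G.R) (hv : v ≫ G.j = x₀) : T ⟶ G.R :=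
  (arP d hP (src x₁) (src x₀) (src_q hg h).symm ≫ liftHom x₀ v hv ≫
    arP d hP (tgt x₀) (tgt x₁) (tgt_q hg h)).ar

lemma trR_j (x₀ x₁ : T ⟶ pullback G.pU G.pU) (h : x₀ ≫ pp hg = x₁ ≫ pp hg)
    (v : T ⟶ G.R) (hv : v ≫ G.j = x₀) : trR d hP hg x₀ x₁ h v hv ≫ G.j = x₁ := by
  apply pullback.hom_ext
  · rw [Category.assoc, j_fst]; exact PHom.ht _
  · rw [Category.assoc, j_snd]; exact PHom.hs _

lemma trR_congr {x₀ x₁ : T ⟶ pullback G.pU G.pU} (h : x₀ ≫ pp hg = x₁ ≫ pp hg)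
    {v v' : T ⟶ G.R} (e : v = v') (hv : v ≫ G.j = x₀) (hv' : v' ≫ G.j = x₀) :
    trR d hP hg x₀ x₁ h v hv = trR d hP hg x₀ x₁ h v' hv' := by
  subst e; rfl

lemma trR_self (x : T ⟶ pullback G.pU G.pU) (v : T ⟶ G.R) (hv : v ≫ G.j = x) :
    trR d hP hg x x rfl v hv = v := by
  have : arP d hP (src x) (src x) rfl ≫ liftHom x v hv ≫ arP d hP (tgt x) (tgt x) rfl =
      liftHom x v hv := by
    rw [arP_self, arP_self, Category.id_comp, Category.comp_id]
  exact congrArg PHom.ar this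

lemma trR_trR (x₀ x₁ x₂ : T ⟶ pullback G.pU G.pU) (h : x₀ ≫ pp hg = x₁ ≫ pp hg)
    (h' : x₁ ≫ pp hg = x₂ ≫ pp hg) (v : T ⟶ G.R) (hv : v ≫ G.j = x₀) :
    trR d hP hg x₁ x₂ h' (trR d hP hg x₀ x₁ h v hv) (trR_j d hP hg x₀ x₁ h v hv) =
      trR d hP hg x₀ x₂ (h.trans h') v hv := by
  have e : liftHom x₁ (trR d hP hg x₀ x₁ h v hv) (trR_j d hP hg x₀ x₁ h v hv) =
      arP d hP (src x₁) (src x₀) (src_q hg h).symm ≫ liftHom x₀ v hv ≫
        arP d hP (tgt x₀) (tgt x₁) (tgt_q hg h) := PHom.ext rfl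
  have : arP d hP (src x₂) (src x₁) (src_q hg h').symm ≫
      liftHom x₁ (trR d hP hg x₀ x₁ h v hv) (trR_j d hP hg x₀ x₁ h v hv) ≫
        arP d hP (tgt x₁) (tgt x₂) (tgt_q hg h') =
      arP d hP (src x₂) (src x₀) (src_q hg (h.trans h')).symm ≫ liftHom x₀ v hv ≫
        arP d hP (tgt x₀) (tgt x₂) (tgt_q hg (h.trans h')) := by
    rw [e]
    simp only [Category.assoc, arP_comp, arP_comp_assoc]
  exact congrArg PHom.ar this

lemma comp_trR {T' : Scheme.{u}} (k : T' ⟶ T) (x₀ x₁ : T ⟶ pullback G.pU G.pU)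
    (h : x₀ ≫ pp hg = x₁ ≫ pp hg) (v : T ⟶ G.R) (hv : v ≫ G.j = x₀)
    (h' : (k ≫ x₀) ≫ pp hg = (k ≫ x₁) ≫ pp hg) (hv' : (k ≫ v) ≫ G.j = k ≫ x₀) :
    k ≫ trR d hP hg x₀ x₁ h v hv = trR d hP hg (k ≫ x₀) (k ≫ x₁) h' (k ≫ v) hv' := by
  have e1 : k ≫ trR d hP hg x₀ x₁ h v hv =
      ((pullF k).map (arP d hP (src x₁) (src x₀) (src_q hg h).symm) ≫
        (pullF k).map (liftHom x₀ v hv) ≫
          (pullF k).map (arP d hP (tgt x₀) (tgt x₁) (tgt_q hg h))).ar := by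
    rw [← Functor.map_comp, ← Functor.map_comp]
    rfl
  rw [e1]
  refine comp3_ar_congr _ _ _ _ _ _ ?_ rfl ?_
  · exact comp_arP_ar d hP k _ _ _ _ _ (Category.assoc _ _ _) (Category.assoc _ _ _) _
  · exact comp_arP_ar d hP k _ _ _ _ _ (Category.assoc _ _ _) (Category.assoc _ _ _) _

/-- the descent datum on `R` relative to `q × q` -/
noncomputable def DD : Desc.SchDD (pp hg) where
  obj := Over.mk G.j
  φ T x₀ x₁ h :=
    { toFun := fun v => ⟨trR d hP hg x₀ x₁ h v.1 v.2, trR_j d hP hg x₀ x₁ h v.1 v.2⟩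
      invFun := fun v => ⟨trR d hP hg x₁ x₀ h.symm v.1 v.2, trR_j d hP hg x₁ x₀ h.symm v.1 v.2⟩
      left_inv := fun v => Subtype.ext (by
        show trR d hP hg x₁ x₀ h.symm (trR d hP hg x₀ x₁ h v.1 v.2) _ = v.1
        rw [trR_trR]; exact trR_self d hP hg x₀ v.1 v.2)
      right_inv := fun v => Subtype.ext (by
        show trR d hP hg x₀ x₁ h (trR d hP hg x₁ x₀ h.symm v.1 v.2) _ = v.1
        rw [trR_trR]; exact trR_self d hP hg x₁ v.1 v.2) }
  φ_natural T T' k x₀ x₁ h h' v v' hvv' := by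
    show trR d hP hg (k ≫ x₀) (k ≫ x₁) h' v'.1 v'.2 = k ≫ trR d hP hg x₀ x₁ h v.1 v.2
    rw [comp_trR d hP hg k x₀ x₁ h v.1 v.2 h' (by rw [Category.assoc]; exact congrArg (k ≫ ·) v.2)]
    exact trR_congr d hP hg h' hvv' _ _
  φ_self T x v := Subtype.ext (trR_self d hP hg x v.1 v.2)
  φ_comp T x₀ x₁ x₂ h₀₁ h₁₂ v := Subtype.ext (trR_trR d hP hg x₀ x₁ x₂ h₀₁ h₁₂ v.1 v.2)

end DD

section Quot

variable (d : SubData G) {Ub : Scheme.{u}} {q : G.U ⟶ Ub}
  (hP : IsPullback (d.ι ≫ G.t) (d.ι ≫ G.s) q q) {g : Ub ⟶ S} (hg : q ≫ g = G.pU)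

section
variable [IsAffine G.U] [IsSeparated G.j] [LocallyQuasiFinite G.j] [LocallyOfFiniteType G.j]

theorem exists_affine_R (F : Finset G.R) : ∃ V : G.R.Opens, IsAffineOpen V ∧ ∀ z ∈ F, z ∈ V :=
  exists_affine_of_finset (G.j ≫ pullback.mapDesc G.pU G.pU S.toSpecΓ) F

end

variable [IsFinite q] [Flat q] [LocallyOfFinitePresentation q]

instance isFinite_pp : IsFinite (pp hg) :=
  MorphismProperty.pullbackMap (P := @IsFinite) ‹_› ‹_› hg.symm hg.symm

instance flat_pp : Flat (pp hg) :=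
  MorphismProperty.pullbackMap (P := @Flat) ‹_› ‹_› hg.symm hg.symm

instance lfp_pp : LocallyOfFinitePresentation (pp hg) :=
  MorphismProperty.pullbackMap (P := @LocallyOfFinitePresentation) ‹_› ‹_› hg.symm hg.symm

variable [IsAffine G.U] [IsSeparated G.j] [LocallyQuasiFinite G.j] [LocallyOfFiniteType G.j]

instance quotHyp_DD : QuotHyp (grpd (DD d hP hg)) := by
  refine DDFin.quotHyp _ ?_
  intro v₀
  classical
  haveI : IsFinite (sR (DD d hP hg)) :=
    inferInstanceAs (IsFinite (pullback.fst (f (DD d hP hg)) (pp hg)))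
  have hfin : (sR (DD d hP hg) ⁻¹' {v₀}).Finite := (sR (DD d hP hg)).finite_preimage_singleton v₀
  have himg : (tR (DD d hP hg) '' (sR (DD d hP hg) ⁻¹' {v₀})).Finite := hfin.image _
  obtain ⟨U, hU, hUs⟩ := exists_affine_R (G := G) himg.toFinset
  exact ⟨U, hU, fun v hv => hUs v (himg.mem_toFinset.mpr hv)⟩

/-- the descended scheme of arrows -/
noncomputable abbrev Rb : Scheme.{u} := DDEff.W (DD d hP hg)

/-- the quotient map on arrows -/
noncomputable abbrev fR : G.R ⟶ Rb d hP hg := DDEff.qq (DD d hP hg)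

/-- `(t̄, s̄)` -/
noncomputable abbrev jb : Rb d hP hg ⟶ pullback g g := DDEff.w (DD d hP hg)

lemma fR_jb : fR d hP hg ≫ jb d hP hg = G.j ≫ pp hg := DDEff.qq_w (DD d hP hg)

theorem isPullback_fR : IsPullback (fR d hP hg) G.j (jb d hP hg) (pp hg) := by
  exact (IsPullback.of_iso_pullback ⟨(fR_jb d hP hg).symm⟩
    (@asIso _ _ _ _ (DDEff.θ (DD d hP hg)) (DDEff.isIso_θ (DD d hP hg)))
    (DDEff.θ_fst _) (DDEff.θ_snd _)).flip

instance surjective_fR : Surjective (fR d hP hg) := GrpdGlue.surjective_q _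

instance flat_fR : Flat (fR d hP hg) := GrpdGlue.flat_q _

instance lfp_fR : LocallyOfFinitePresentation (fR d hP hg) := GrpdGlue.lfp_q _

variable {T : Scheme.{u}}

lemma trR_fR (x₀ x₁ : T ⟶ pullback G.pU G.pU) (h : x₀ ≫ pp hg = x₁ ≫ pp hg)
    (v : T ⟶ G.R) (hv : v ≫ G.j = x₀) :
    trR d hP hg x₀ x₁ h v hv ≫ fR d hP hg = v ≫ fR d hP hg :=
  DDEff.tr_qq (DD d hP hg) x₀ x₁ h v hv

lemma conj_fR {x y x' y' : Pt G T} (f : x ⟶ y) (hx : x'.pt ≫ q = x.pt ≫ q)
    (hy : y.pt ≫ q = y'.pt ≫ q) :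
    (arP d hP x' x hx ≫ f ≫ arP d hP y y' hy).ar ≫ fR d hP hg = f.ar ≫ fR d hP hg := by
  have hxy : y.pt ≫ G.pU = x.pt ≫ G.pU := by
    rw [← f.ht, ← f.hs, Category.assoc, Category.assoc, G.t_over, G.s_over]
  have hxy' : y'.pt ≫ G.pU = x'.pt ≫ G.pU := by
    rw [← hg, ← Category.assoc, ← Category.assoc, ← hy, hx, Category.assoc, Category.assoc, hg,
      hxy]
  have h : pullback.lift y.pt x.pt hxy ≫ pp hg = pullback.lift y'.pt x'.pt hxy' ≫ pp hg := by
    apply pullback.hom_ext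
    · rw [Category.assoc, Category.assoc, pp_fst, pullback.lift_fst_assoc,
        pullback.lift_fst_assoc, hy]
    · rw [Category.assoc, Category.assoc, pp_snd, pullback.lift_snd_assoc,
        pullback.lift_snd_assoc, hx]
  have hv : f.ar ≫ G.j = pullback.lift y.pt x.pt hxy := by
    apply pullback.hom_ext
    · rw [Category.assoc, j_fst, f.ht]; exact (pullback.lift_fst _ _ _).symm
    · rw [Category.assoc, j_snd, f.hs]; exact (pullback.lift_snd _ _ _).symm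
  have key := trR_fR d hP hg _ _ h f.ar hv
  have e : (arP d hP x' x hx ≫ f ≫ arP d hP y y' hy).ar =
      trR d hP hg _ _ h f.ar hv := by
    refine comp3_ar_congr _ _ _ _ _ _ ?_ rfl ?_
    · exact arP_ar_congr d hP (pullback.lift_snd _ _ _).symm (pullback.lift_snd _ _ _).symm _ _
    · exact arP_ar_congr d hP (pullback.lift_fst _ _ _).symm (pullback.lift_fst _ _ _).symm _ _
  rw [e, key]

lemma exists_conj_of_fR_eq {x y x' y' : Pt G T} (f : x ⟶ y) (f' : x' ⟶ y')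
    (h : f.ar ≫ fR d hP hg = f'.ar ≫ fR d hP hg) :
    ∃ (hx : x'.pt ≫ q = x.pt ≫ q) (hy : y.pt ≫ q = y'.pt ≫ q),
      f' = arP d hP x' x hx ≫ f ≫ arP d hP y y' hy := by
  have h2 : f.ar ≫ G.j ≫ pp hg = f'.ar ≫ G.j ≫ pp hg := by
    rw [← fR_jb d hP hg, ← Category.assoc, h, Category.assoc]
  have e1 : ∀ a : T ⟶ G.R, (a ≫ G.j ≫ pp hg) ≫ pullback.fst g g = (a ≫ G.t) ≫ q := by
    intro a
    rw [Category.assoc, Category.assoc, pp_fst, ← Category.assoc G.j, j_fst, Category.assoc]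
  have e2 : ∀ a : T ⟶ G.R, (a ≫ G.j ≫ pp hg) ≫ pullback.snd g g = (a ≫ G.s) ≫ q := by
    intro a
    rw [Category.assoc, Category.assoc, pp_snd, ← Category.assoc G.j, j_snd, Category.assoc]
  have hy : y.pt ≫ q = y'.pt ≫ q := by
    rw [← f.ht, ← f'.ht, ← e1, ← e1, h2]
  have hx : x'.pt ≫ q = x.pt ≫ q := by
    rw [← f.hs, ← f'.hs, ← e2, ← e2, h2]
  refine ⟨hx, hy, ?_⟩
  apply PHom.ext
  apply (isPullback_fR d hP hg).hom_ext
  · rw [conj_fR d hP hg f hx hy, h]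
  · apply pullback.hom_ext
    · rw [Category.assoc, Category.assoc, j_fst, f'.ht]
      exact (PHom.ht _).symm
    · rw [Category.assoc, Category.assoc, j_snd, f'.hs]
      exact (PHom.hs _).symm

end Quot

end Groth.Agent.Helper8.SubGrpd
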