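import Mathlib
import Groth.Agent.Helper8.SubGrpdB

/-!
# The quotient groupoid `(Ū, R̄)` of a groupoid by a finite locally free sub-equivalence relation
-/

set_option autoImplicit false
universe u

namespace Groth.Agent.Helper8.SubGrpd

open CategoryTheory CategoryTheory.Limits AlgebraicGeometry
open Grpd Groth.Agent.Helper2 Groth.Agent.Helper8.DDGrpd Groth.Agent.Helper8.GrpdGlue

variable {S : Scheme.{u}} {G : Grpd.GroupoidScheme S}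

variable (d : SubData G) {Ub : Scheme.{u}} {q : G.U ⟶ Ub}
  (hP : IsPullback (d.ι ≫ G.t) (d.ι ≫ G.s) q q) {g : Ub ⟶ S} (hg : q ≫ g = G.pU)

section pc

variable {T : Scheme.{u}}

/-- composition of two arrows of `R` whose middle objects are identified in the quotient -/
noncomputable def pcR (a b : T ⟶ G.R) (h : (b ≫ G.t) ≫ q = (a ≫ G.s) ≫ q) : T ⟶ G.R :=
  (ofR b ≫ arP d hP ⟨b ≫ G.t⟩ ⟨a ≫ G.s⟩ h ≫ ofR a).ar

lemma pcR_s (a b : T ⟶ G.R) (h : (b ≫ G.t) ≫ q = (a ≫ G.s) ≫ q) :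
    pcR d hP a b h ≫ G.s = b ≫ G.s := PHom.hs _

lemma pcR_t (a b : T ⟶ G.R) (h : (b ≫ G.t) ≫ q = (a ≫ G.s) ≫ q) :
    pcR d hP a b h ≫ G.t = a ≫ G.t := PHom.ht _

lemma pcR_congr {a a' b b' : T ⟶ G.R} (ha : a = a') (hb : b = b')
    (h : (b ≫ G.t) ≫ q = (a ≫ G.s) ≫ q) (h' : (b' ≫ G.t) ≫ q = (a' ≫ G.s) ≫ q) :
    pcR d hP a b h = pcR d hP a' b' h' := by
  subst ha hb; rfl

lemma comp_pcR_cond {T' : Scheme.{u}} (k : T' ⟶ T) {a b : T ⟶ G.R}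
    (h : (b ≫ G.t) ≫ q = (a ≫ G.s) ≫ q) : ((k ≫ b) ≫ G.t) ≫ q = ((k ≫ a) ≫ G.s) ≫ q := by
  simp only [Category.assoc] at h ⊢
  rw [h]

lemma comp_pcR {T' : Scheme.{u}} (k : T' ⟶ T) (a b : T ⟶ G.R)
    (h : (b ≫ G.t) ≫ q = (a ≫ G.s) ≫ q) :
    k ≫ pcR d hP a b h = pcR d hP (k ≫ a) (k ≫ b) (comp_pcR_cond k h) := by
  have e1 : k ≫ pcR d hP a b h =
      ((pullF k).map (ofR b) ≫ (pullF k).map (arP d hP ⟨b ≫ G.t⟩ ⟨a ≫ G.s⟩ h) ≫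
        (pullF k).map (ofR a)).ar := by
    rw [← Functor.map_comp, ← Functor.map_comp]
    rfl
  rw [e1]
  refine comp3_ar_congr _ _ _ _ _ _ rfl ?_ rfl
  exact comp_arP_ar d hP k _ _ _ _ _ (Category.assoc _ _ _) (Category.assoc _ _ _) _

lemma pcR_eq {x y x' y' : Pt G T} (f : x ⟶ y) (f' : x' ⟶ y') (h : y'.pt ≫ q = x.pt ≫ q)
    (h' : (f'.ar ≫ G.t) ≫ q = (f.ar ≫ G.s) ≫ q) :
    pcR d hP f.ar f'.ar h' = (f' ≫ arP d hP y' x h ≫ f).ar := by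
  refine comp3_ar_congr _ _ _ _ _ _ rfl ?_ rfl
  exact arP_ar_congr d hP f'.ht f.hs _ _

lemma pcR_assoc (a b c : T ⟶ G.R) (h₁ : (b ≫ G.t) ≫ q = (a ≫ G.s) ≫ q)
    (h₂ : (c ≫ G.t) ≫ q = (b ≫ G.s) ≫ q)
    (h₃ : (c ≫ G.t) ≫ q = (pcR d hP a b h₁ ≫ G.s) ≫ q)
    (h₄ : (pcR d hP b c h₂ ≫ G.t) ≫ q = (a ≫ G.s) ≫ q) :
    pcR d hP (pcR d hP a b h₁) c h₃ = pcR d hP a (pcR d hP b c h₂) h₄ := by
  have e1 : pcR d hP (pcR d hP a b h₁) c h₃ =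
      (ofR c ≫ arP d hP ⟨c ≫ G.t⟩ ⟨b ≫ G.s⟩ h₂ ≫
        (ofR b ≫ arP d hP ⟨b ≫ G.t⟩ ⟨a ≫ G.s⟩ h₁ ≫ ofR a)).ar :=
    pcR_eq d hP (ofR b ≫ arP d hP ⟨b ≫ G.t⟩ ⟨a ≫ G.s⟩ h₁ ≫ ofR a) (ofR c) h₂ h₃
  have e2 : pcR d hP a (pcR d hP b c h₂) h₄ =
      ((ofR c ≫ arP d hP ⟨c ≫ G.t⟩ ⟨b ≫ G.s⟩ h₂ ≫ ofR b) ≫
        arP d hP ⟨b ≫ G.t⟩ ⟨a ≫ G.s⟩ h₁ ≫ ofR a).ar :=
    pcR_eq d hP (ofR a) (ofR c ≫ arP d hP ⟨c ≫ G.t⟩ ⟨b ≫ G.s⟩ h₂ ≫ ofR b) h₁ h₄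
  rw [e1, e2]
  simp only [Category.assoc]

lemma pcR_e_right (a : T ⟶ G.R) (h : ((a ≫ G.s ≫ G.e) ≫ G.t) ≫ q = (a ≫ G.s) ≫ q) :
    pcR d hP a (a ≫ G.s ≫ G.e) h = a := by
  have hb : a ≫ G.s ≫ G.e = (𝟙 (⟨a ≫ G.s⟩ : Pt G T) : _ ⟶ _).ar := (Category.assoc _ _ _).symm
  have h' : (((𝟙 (⟨a ≫ G.s⟩ : Pt G T) : _ ⟶ _).ar) ≫ G.t) ≫ q = ((ofR a).ar ≫ G.s) ≫ q := by
    rw [← hb]; exact h
  have e := pcR_eq d hP (ofR a) (𝟙 (⟨a ≫ G.s⟩ : Pt G T)) rfl h'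
  rw [arP_self, Category.id_comp, Category.id_comp] at e
  exact (pcR_congr d hP rfl hb h h').trans e

lemma pcR_e_left (a : T ⟶ G.R) (h : (a ≫ G.t) ≫ q = ((a ≫ G.t ≫ G.e) ≫ G.s) ≫ q) :
    pcR d hP (a ≫ G.t ≫ G.e) a h = a := by
  have ha : a ≫ G.t ≫ G.e = (𝟙 (⟨a ≫ G.t⟩ : Pt G T) : _ ⟶ _).ar := (Category.assoc _ _ _).symm
  have h' : ((ofR a).ar ≫ G.t) ≫ q = (((𝟙 (⟨a ≫ G.t⟩ : Pt G T) : _ ⟶ _).ar) ≫ G.s) ≫ q := by
    rw [← ha]; exact h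
  have e := pcR_eq d hP (𝟙 (⟨a ≫ G.t⟩ : Pt G T)) (ofR a) rfl h'
  rw [arP_self, Category.id_comp, Category.comp_id] at e
  exact (pcR_congr d hP ha rfl h h').trans e

lemma pcR_i_right (a : T ⟶ G.R) (h : ((a ≫ G.i) ≫ G.t) ≫ q = (a ≫ G.s) ≫ q) :
    pcR d hP a (a ≫ G.i) h = a ≫ G.t ≫ G.e := by
  have hb : a ≫ G.i = (inv (ofR a)).ar := (inv_ar (ofR a)).symm
  have h' : ((inv (ofR a)).ar ≫ G.t) ≫ q = ((ofR a).ar ≫ G.s) ≫ q := by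
    rw [← hb]; exact h
  have e := pcR_eq d hP (ofR a) (inv (ofR a)) rfl h'
  rw [arP_self, Category.id_comp, IsIso.inv_hom_id, id_ar, Category.assoc] at e
  exact (pcR_congr d hP rfl hb h h').trans e

lemma pcR_i_left (a : T ⟶ G.R) (h : (a ≫ G.t) ≫ q = ((a ≫ G.i) ≫ G.s) ≫ q) :
    pcR d hP (a ≫ G.i) a h = a ≫ G.s ≫ G.e := by
  have ha : a ≫ G.i = (inv (ofR a)).ar := (inv_ar (ofR a)).symm
  have h' : ((ofR a).ar ≫ G.t) ≫ q = ((inv (ofR a)).ar ≫ G.s) ≫ q := by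
    rw [← ha]; exact h
  have e := pcR_eq d hP (inv (ofR a)) (ofR a) rfl h'
  rw [arP_self, Category.id_comp, IsIso.hom_inv_id, id_ar, Category.assoc] at e
  exact (pcR_congr d hP ha rfl h h').trans e

lemma pcR_of_comp (a b : T ⟶ G.R) (h : a ≫ G.s = b ≫ G.t)
    (h' : (b ≫ G.t) ≫ q = (a ≫ G.s) ≫ q) : pcR d hP a b h' = Grpd2.mul G a b h := by
  have h'' : (((⟨b, rfl, h.symm⟩ : (⟨b ≫ G.s⟩ : Pt G T) ⟶ ⟨a ≫ G.s⟩)).ar ≫ G.t) ≫ q =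
      ((ofR a).ar ≫ G.s) ≫ q := h'
  have := pcR_eq d hP (ofR a) (⟨b, rfl, h.symm⟩ : (⟨b ≫ G.s⟩ : Pt G T) ⟶ ⟨a ≫ G.s⟩) rfl h''
  rw [arP_self, Category.id_comp] at this
  exact this

end pc

section Quot

variable [IsAffine G.U] [IsSeparated G.j] [LocallyQuasiFinite G.j] [LocallyOfFiniteType G.j]
  [IsFinite q] [Flat q] [LocallyOfFinitePresentation q] [Surjective q]

/-- source on the quotient -/
noncomputable def sb : Rb d hP hg ⟶ Ub := jb d hP hg ≫ pullback.snd g g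

/-- target on the quotient -/
noncomputable def tb : Rb d hP hg ⟶ Ub := jb d hP hg ≫ pullback.fst g g

lemma fR_sb : fR d hP hg ≫ sb d hP hg = G.s ≫ q := by
  unfold sb
  rw [← Category.assoc, fR_jb, Category.assoc, pp_snd, ← Category.assoc, j_snd]

lemma fR_tb : fR d hP hg ≫ tb d hP hg = G.t ≫ q := by
  unfold tb
  rw [← Category.assoc, fR_jb, Category.assoc, pp_fst, ← Category.assoc, j_fst]

lemma sb_g : sb d hP hg ≫ g = tb d hP hg ≫ g := by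
  unfold sb tb
  rw [Category.assoc, Category.assoc, pullback.condition]

lemma pcR_fR_congr {T : Scheme.{u}} (a b a' b' : T ⟶ G.R)
    (h : (b ≫ G.t) ≫ q = (a ≫ G.s) ≫ q) (h' : (b' ≫ G.t) ≫ q = (a' ≫ G.s) ≫ q)
    (ha : a ≫ fR d hP hg = a' ≫ fR d hP hg) (hb : b ≫ fR d hP hg = b' ≫ fR d hP hg) :
    pcR d hP a b h ≫ fR d hP hg = pcR d hP a' b' h' ≫ fR d hP hg := by
  obtain ⟨hxa, hya, ea⟩ := exists_conj_of_fR_eq d hP hg (ofR a) (ofR a') ha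
  obtain ⟨hxb, hyb, eb⟩ := exists_conj_of_fR_eq d hP hg (ofR b) (ofR b') hb
  have e : ofR b' ≫ arP d hP ⟨b' ≫ G.t⟩ ⟨a' ≫ G.s⟩ h' ≫ ofR a' =
      arP d hP _ _ hxb ≫ (ofR b ≫ arP d hP ⟨b ≫ G.t⟩ ⟨a ≫ G.s⟩ h ≫ ofR a) ≫
        arP d hP _ _ hya := by
    rw [ea, eb]
    simp only [Category.assoc, arP_comp, arP_comp_assoc]
  show (ofR b ≫ arP d hP ⟨b ≫ G.t⟩ ⟨a ≫ G.s⟩ h ≫ ofR a).ar ≫ fR d hP hg =
    (ofR b' ≫ arP d hP ⟨b' ≫ G.t⟩ ⟨a' ≫ G.s⟩ h' ≫ ofR a').ar ≫ fR d hP hg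
  rw [e, conj_fR]

/-! ### identity -/

lemma eb_cond {Z : Scheme.{u}} (g₁ g₂ : Z ⟶ G.U) (h : g₁ ≫ q = g₂ ≫ q) :
    g₁ ≫ G.e ≫ fR d hP hg = g₂ ≫ G.e ≫ fR d hP hg := by
  have := conj_fR d hP hg (𝟙 (⟨g₁⟩ : Pt G Z)) (x' := ⟨g₂⟩) (y' := ⟨g₂⟩) h.symm h
  rw [Category.id_comp, arP_comp, arP_self] at this
  simpa only [id_ar, Category.assoc] using this.symm

/-- the identity section of the quotient groupoid -/
noncomputable def eb : Ub ⟶ Rb d hP hg :=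
  EffectiveEpi.desc q (G.e ≫ fR d hP hg) (fun g₁ g₂ h => eb_cond d hP hg g₁ g₂ h)

lemma q_eb : q ≫ eb d hP hg = G.e ≫ fR d hP hg := EffectiveEpi.fac _ _ _

/-! ### inverse -/

lemma ib_cond {Z : Scheme.{u}} (g₁ g₂ : Z ⟶ G.R) (h : g₁ ≫ fR d hP hg = g₂ ≫ fR d hP hg) :
    g₁ ≫ G.i ≫ fR d hP hg = g₂ ≫ G.i ≫ fR d hP hg := by
  obtain ⟨hx, hy, e⟩ := exists_conj_of_fR_eq d hP hg (ofR g₁) (ofR g₂) h
  have e' : inv (ofR g₂) = arP d hP _ _ hy.symm ≫ inv (ofR g₁) ≫ arP d hP _ _ hx.symm := by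
    rw [e]
    simp only [IsIso.inv_comp, inv_arP, Category.assoc]
  have := conj_fR d hP hg (inv (ofR g₁)) hy.symm hx.symm
  rw [← e'] at this
  simpa only [inv_ar, ofR_ar, Category.assoc] using this.symm

/-- the inverse of the quotient groupoid -/
noncomputable def ib : Rb d hP hg ⟶ Rb d hP hg :=
  EffectiveEpi.desc (fR d hP hg) (G.i ≫ fR d hP hg) (fun g₁ g₂ h => ib_cond d hP hg g₁ g₂ h)

lemma fR_ib : fR d hP hg ≫ ib d hP hg = G.i ≫ fR d hP hg := EffectiveEpi.fac _ _ _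

/-! ### composition -/

/-- the cover of `R̄ ×_Ū R̄` by pairs of arrows of `R` composable in the quotient -/
noncomputable def κ : pullback (G.s ≫ q) (G.t ≫ q) ⟶ pullback (sb d hP hg) (tb d hP hg) :=
  pullback.map (G.s ≫ q) (G.t ≫ q) (sb d hP hg) (tb d hP hg) (fR d hP hg) (fR d hP hg) (𝟙 Ub)
    ((Category.comp_id _).trans (fR_sb d hP hg).symm)
    ((Category.comp_id _).trans (fR_tb d hP hg).symm)

instance flat_κ : Flat (κ d hP hg) :=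
  MorphismProperty.pullbackMap (P := @Flat) (flat_fR d hP hg) (flat_fR d hP hg)
    (fR_sb d hP hg).symm (fR_tb d hP hg).symm

instance surjective_κ : Surjective (κ d hP hg) :=
  MorphismProperty.pullbackMap (P := @Surjective) (surjective_fR d hP hg) (surjective_fR d hP hg)
    (fR_sb d hP hg).symm (fR_tb d hP hg).symm

instance lfp_κ : LocallyOfFinitePresentation (κ d hP hg) :=
  MorphismProperty.pullbackMap (P := @LocallyOfFinitePresentation) (lfp_fR d hP hg)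
    (lfp_fR d hP hg) (fR_sb d hP hg).symm (fR_tb d hP hg).symm

lemma κ_fst : κ d hP hg ≫ pullback.fst (sb d hP hg) (tb d hP hg) =
    pullback.fst (G.s ≫ q) (G.t ≫ q) ≫ fR d hP hg := pullback.lift_fst _ _ _

lemma κ_snd : κ d hP hg ≫ pullback.snd (sb d hP hg) (tb d hP hg) =
    pullback.snd (G.s ≫ q) (G.t ≫ q) ≫ fR d hP hg := pullback.lift_snd _ _ _

lemma γ_cond : (pullback.snd (G.s ≫ q) (G.t ≫ q) ≫ G.t) ≫ q =
    (pullback.fst (G.s ≫ q) (G.t ≫ q) ≫ G.s) ≫ q := by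
  rw [Category.assoc, Category.assoc]
  exact pullback.condition.symm

/-- composition upstairs -/
noncomputable def γ : pullback (G.s ≫ q) (G.t ≫ q) ⟶ G.R :=
  pcR d hP (pullback.fst _ _) (pullback.snd _ _) γ_cond

lemma cb_cond {Z : Scheme.{u}} (g₁ g₂ : Z ⟶ pullback (G.s ≫ q) (G.t ≫ q))
    (h : g₁ ≫ κ d hP hg = g₂ ≫ κ d hP hg) :
    g₁ ≫ γ d hP ≫ fR d hP hg = g₂ ≫ γ d hP ≫ fR d hP hg := by
  have ha : (g₁ ≫ pullback.fst _ _) ≫ fR d hP hg = (g₂ ≫ pullback.fst _ _) ≫ fR d hP hg := by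
    have := congrArg (· ≫ pullback.fst _ _) h
    simpa only [Category.assoc, κ_fst] using this
  have hb : (g₁ ≫ pullback.snd _ _) ≫ fR d hP hg = (g₂ ≫ pullback.snd _ _) ≫ fR d hP hg := by
    have := congrArg (· ≫ pullback.snd _ _) h
    simpa only [Category.assoc, κ_snd] using this
  unfold γ
  rw [← Category.assoc, ← Category.assoc, comp_pcR d hP g₁, comp_pcR d hP g₂]
  exact pcR_fR_congr d hP hg _ _ _ _ _ _ ha hb

/-- the composition of the quotient groupoid -/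
noncomputable def cb : pullback (sb d hP hg) (tb d hP hg) ⟶ Rb d hP hg :=
  EffectiveEpi.desc (κ d hP hg) (γ d hP ≫ fR d hP hg) (fun g₁ g₂ h => cb_cond d hP hg g₁ g₂ h)

lemma κ_cb : κ d hP hg ≫ cb d hP hg = γ d hP ≫ fR d hP hg := EffectiveEpi.fac _ _ _

variable {T : Scheme.{u}}

lemma lift_cb (a b : T ⟶ G.R) (h : (b ≫ G.t) ≫ q = (a ≫ G.s) ≫ q)
    (h' : (a ≫ fR d hP hg) ≫ sb d hP hg = (b ≫ fR d hP hg) ≫ tb d hP hg) :
    pullback.lift (a ≫ fR d hP hg) (b ≫ fR d hP hg) h' ≫ cb d hP hg =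
      pcR d hP a b h ≫ fR d hP hg := by
  have h'' : a ≫ G.s ≫ q = b ≫ G.t ≫ q := by simpa only [Category.assoc] using h.symm
  have e : pullback.lift (a ≫ fR d hP hg) (b ≫ fR d hP hg) h' =
      pullback.lift a b h'' ≫ κ d hP hg := by
    apply pullback.hom_ext
    · rw [pullback.lift_fst, Category.assoc, κ_fst, pullback.lift_fst_assoc]
    · rw [pullback.lift_snd, Category.assoc, κ_snd, pullback.lift_snd_assoc]
  rw [e, Category.assoc, κ_cb, ← Category.assoc]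
  congr 1
  unfold γ
  rw [comp_pcR d hP (pullback.lift a b h'')]
  exact pcR_congr d hP (pullback.lift_fst _ _ _) (pullback.lift_snd _ _ _) _ _

lemma comp_lift_cb {T' : Scheme.{u}} (k : T' ⟶ T) (α β : T ⟶ Rb d hP hg)
    (h : α ≫ sb d hP hg = β ≫ tb d hP hg) (a b : T' ⟶ G.R)
    (ha : a ≫ fR d hP hg = k ≫ α) (hb : b ≫ fR d hP hg = k ≫ β) :
    ∃ hq : (b ≫ G.t) ≫ q = (a ≫ G.s) ≫ q,
      k ≫ pullback.lift α β h ≫ cb d hP hg = pcR d hP a b hq ≫ fR d hP hg := by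
  have hq : (b ≫ G.t) ≫ q = (a ≫ G.s) ≫ q := by
    rw [Category.assoc, ← fR_tb d hP hg, ← Category.assoc, hb, Category.assoc, ← h,
      ← Category.assoc, ← ha, Category.assoc, fR_sb, Category.assoc]
  refine ⟨hq, ?_⟩
  have h' : (a ≫ fR d hP hg) ≫ sb d hP hg = (b ≫ fR d hP hg) ≫ tb d hP hg := by
    rw [ha, hb, Category.assoc, Category.assoc, h]
  have e : k ≫ pullback.lift α β h = pullback.lift (a ≫ fR d hP hg) (b ≫ fR d hP hg) h' := by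
    apply pullback.hom_ext
    · rw [Category.assoc, pullback.lift_fst, pullback.lift_fst, ha]
    · rw [Category.assoc, pullback.lift_snd, pullback.lift_snd, hb]
  rw [← Category.assoc, e]
  exact lift_cb d hP hg a b hq h'

lemma exists_lift (α : T ⟶ Rb d hP hg) :
    ∃ (T' : Scheme.{u}) (k : T' ⟶ T) (_ : Epi k) (a : T' ⟶ G.R), a ≫ fR d hP hg = k ≫ α :=
  ⟨pullback α (fR d hP hg), pullback.fst α (fR d hP hg), inferInstance,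
    pullback.snd α (fR d hP hg), pullback.condition.symm⟩

lemma exists_lift₂ (α β : T ⟶ Rb d hP hg) :
    ∃ (T' : Scheme.{u}) (k : T' ⟶ T) (_ : Epi k) (a b : T' ⟶ G.R),
      a ≫ fR d hP hg = k ≫ α ∧ b ≫ fR d hP hg = k ≫ β := by
  obtain ⟨T₁, k₁, _, a, ha⟩ := exists_lift d hP hg α
  obtain ⟨T₂, k₂, _, b, hb⟩ := exists_lift d hP hg (k₁ ≫ β)
  exact ⟨T₂, k₂ ≫ k₁, epi_comp _ _, k₂ ≫ a, b, by rw [Category.assoc, ha, Category.assoc],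
    by rw [hb, Category.assoc]⟩

lemma exists_lift₃ (α β γ' : T ⟶ Rb d hP hg) :
    ∃ (T' : Scheme.{u}) (k : T' ⟶ T) (_ : Epi k) (a b c : T' ⟶ G.R),
      a ≫ fR d hP hg = k ≫ α ∧ b ≫ fR d hP hg = k ≫ β ∧ c ≫ fR d hP hg = k ≫ γ' := by
  obtain ⟨T₁, k₁, _, a, b, ha, hb⟩ := exists_lift₂ d hP hg α β
  obtain ⟨T₂, k₂, _, c, hc⟩ := exists_lift d hP hg (k₁ ≫ γ')
  exact ⟨T₂, k₂ ≫ k₁, epi_comp _ _, k₂ ≫ a, k₂ ≫ b, c,
    by rw [Category.assoc, ha, Category.assoc], by rw [Category.assoc, hb, Category.assoc],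
    by rw [hc, Category.assoc]⟩

end Quot

end Groth.Agent.Helper8.SubGrpd
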