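import Mathlib
import Groth.Agent.Helper8.SubGrpdC

/-!
# The quotient groupoid as a groupoid scheme, and the morphism to it
-/

set_option autoImplicit false
universe u

namespace Groth.Agent.Helper8.SubGrpd

open CategoryTheory CategoryTheory.Limits AlgebraicGeometry
open Grpd Groth.Agent.Helper2 Groth.Agent.Helper8.DDGrpd Groth.Agent.Helper8.GrpdGlue

variable {S : Scheme.{u}} {G : Grpd.GroupoidScheme S}

variable (d : SubData G) {Ub : Scheme.{u}} {q : G.U ⟶ Ub}
  (hP : IsPullback (d.ι ≫ G.t) (d.ι ≫ G.s) q q) {g : Ub ⟶ S} (hg : q ≫ g = G.pU)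
  [IsAffine G.U] [IsSeparated G.j] [LocallyQuasiFinite G.j] [LocallyOfFiniteType G.j]
  [IsFinite q] [Flat q] [LocallyOfFinitePresentation q] [Surjective q]

/-- the quotient groupoid scheme -/
noncomputable def Hb : Grpd.GroupoidScheme S where
  U := Ub
  R := Rb d hP hg
  pU := g
  pR := tb d hP hg ≫ g
  s := sb d hP hg
  t := tb d hP hg
  e := eb d hP hg
  i := ib d hP hg
  c := cb d hP hg
  s_over := sb_g d hP hg
  t_over := rfl
  comp_s := by
    intro T α β h
    obtain ⟨T', k, _, a, b, ha, hb⟩ := exists_lift₂ d hP hg α β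
    obtain ⟨hq, e⟩ := comp_lift_cb d hP hg k α β h a b ha hb
    rw [← cancel_epi k]
    calc k ≫ (pullback.lift α β h ≫ cb d hP hg) ≫ sb d hP hg
        = (k ≫ pullback.lift α β h ≫ cb d hP hg) ≫ sb d hP hg := by
          simp only [Category.assoc]
      _ = (pcR d hP a b hq ≫ G.s) ≫ q := by
          rw [e, Category.assoc, fR_sb, Category.assoc]
      _ = (b ≫ fR d hP hg) ≫ sb d hP hg := by
          rw [pcR_s, Category.assoc, Category.assoc, fR_sb]
      _ = k ≫ β ≫ sb d hP hg := by rw [hb, Category.assoc]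
  comp_t := by
    intro T α β h
    obtain ⟨T', k, _, a, b, ha, hb⟩ := exists_lift₂ d hP hg α β
    obtain ⟨hq, e⟩ := comp_lift_cb d hP hg k α β h a b ha hb
    rw [← cancel_epi k]
    calc k ≫ (pullback.lift α β h ≫ cb d hP hg) ≫ tb d hP hg
        = (k ≫ pullback.lift α β h ≫ cb d hP hg) ≫ tb d hP hg := by
          simp only [Category.assoc]
      _ = (pcR d hP a b hq ≫ G.t) ≫ q := by
          rw [e, Category.assoc, fR_tb, Category.assoc]
      _ = (a ≫ fR d hP hg) ≫ tb d hP hg := by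
          rw [pcR_t, Category.assoc, Category.assoc, fR_tb]
      _ = k ≫ α ≫ tb d hP hg := by rw [ha, Category.assoc]
  assoc := by
    intro T α β γ' h₁ h₂
    obtain ⟨T', k, _, a, b, c, ha, hb, hc⟩ := exists_lift₃ d hP hg α β γ'
    obtain ⟨hq₁, e₁⟩ := comp_lift_cb d hP hg k α β h₁ a b ha hb
    obtain ⟨hq₂, e₂⟩ := comp_lift_cb d hP hg k β γ' h₂ b c hb hc
    rw [← cancel_epi k]
    obtain ⟨hq₃, e₃⟩ := comp_lift_cb d hP hg k (pullback.lift α β h₁ ≫ cb d hP hg) γ' _
      (pcR d hP a b hq₁) c e₁.symm hc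
    obtain ⟨hq₄, e₄⟩ := comp_lift_cb d hP hg k α (pullback.lift β γ' h₂ ≫ cb d hP hg) _
      a (pcR d hP b c hq₂) ha e₂.symm
    rw [e₃, e₄, pcR_assoc d hP a b c hq₁ hq₂ hq₃ hq₄]
  e_s := by
    rw [← cancel_epi q, ← Category.assoc, q_eb, Category.assoc, fR_sb, ← Category.assoc, G.e_s,
      Category.id_comp, Category.comp_id]
  e_t := by
    rw [← cancel_epi q, ← Category.assoc, q_eb, Category.assoc, fR_tb, ← Category.assoc, G.e_t,
      Category.id_comp, Category.comp_id]
  comp_e := by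
    intro T α
    obtain ⟨T', k, _, a, ha⟩ := exists_lift d hP hg α
    have hb : (a ≫ G.s ≫ G.e) ≫ fR d hP hg = k ≫ α ≫ sb d hP hg ≫ eb d hP hg := by
      rw [← Category.assoc k, ← ha]
      simp only [Category.assoc]
      rw [← q_eb d hP hg, ← Category.assoc G.s, ← fR_sb d hP hg, Category.assoc]
    obtain ⟨hq, e⟩ := comp_lift_cb d hP hg k α (α ≫ sb d hP hg ≫ eb d hP hg) _ a
      (a ≫ G.s ≫ G.e) ha hb
    rw [← cancel_epi k, e, pcR_e_right, ha]
  e_comp := by
    intro T α
    obtain ⟨T', k, _, a, ha⟩ := exists_lift d hP hg α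
    have hb : (a ≫ G.t ≫ G.e) ≫ fR d hP hg = k ≫ α ≫ tb d hP hg ≫ eb d hP hg := by
      rw [← Category.assoc k, ← ha]
      simp only [Category.assoc]
      rw [← q_eb d hP hg, ← Category.assoc G.t, ← fR_tb d hP hg, Category.assoc]
    obtain ⟨hq, e⟩ := comp_lift_cb d hP hg k (α ≫ tb d hP hg ≫ eb d hP hg) α _
      (a ≫ G.t ≫ G.e) a hb ha
    rw [← cancel_epi k, e, pcR_e_left, ha]
  i_s := by
    rw [← cancel_epi (fR d hP hg), ← Category.assoc, fR_ib, Category.assoc, fR_sb,
      ← Category.assoc, G.i_s, fR_tb]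
  i_t := by
    rw [← cancel_epi (fR d hP hg), ← Category.assoc, fR_ib, Category.assoc, fR_tb,
      ← Category.assoc, G.i_t, fR_sb]
  comp_i := by
    intro T α
    obtain ⟨T', k, _, a, ha⟩ := exists_lift d hP hg α
    have hb : (a ≫ G.i) ≫ fR d hP hg = k ≫ α ≫ ib d hP hg := by
      rw [← Category.assoc k, ← ha, Category.assoc, Category.assoc, fR_ib]
    obtain ⟨hq, e⟩ := comp_lift_cb d hP hg k α (α ≫ ib d hP hg) _ a (a ≫ G.i) ha hb
    rw [← cancel_epi k, e, pcR_i_right]
    rw [← Category.assoc k, ← ha]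
    simp only [Category.assoc]
    rw [← q_eb d hP hg, ← Category.assoc G.t, ← fR_tb d hP hg, Category.assoc]
  i_comp := by
    intro T α
    obtain ⟨T', k, _, a, ha⟩ := exists_lift d hP hg α
    have hb : (a ≫ G.i) ≫ fR d hP hg = k ≫ α ≫ ib d hP hg := by
      rw [← Category.assoc k, ← ha, Category.assoc, Category.assoc, fR_ib]
    obtain ⟨hq, e⟩ := comp_lift_cb d hP hg k (α ≫ ib d hP hg) α _ (a ≫ G.i) a hb ha
    rw [← cancel_epi k, e, pcR_i_left]
    rw [← Category.assoc k, ← ha]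
    simp only [Category.assoc]
    rw [← q_eb d hP hg, ← Category.assoc G.s, ← fR_sb d hP hg, Category.assoc]

lemma Hb_j : (Hb d hP hg).j = jb d hP hg := by
  apply pullback.hom_ext
  · exact pullback.lift_fst _ _ _
  · exact pullback.lift_snd _ _ _

/-- the morphism to the quotient groupoid -/
noncomputable def φb : Grpd.GroupoidScheme.Hom G (Hb d hP hg) where
  fU := q
  fR := fR d hP hg
  fU_over := hg
  comm_s := fR_sb d hP hg
  comm_t := fR_tb d hP hg
  comm_c := by
    intro T α β h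
    have hq : (β ≫ G.t) ≫ q = (α ≫ G.s) ≫ q := by rw [h]
    have e := lift_cb d hP hg α β hq (by
      rw [Category.assoc, Category.assoc, fR_sb, fR_tb, ← Category.assoc, ← Category.assoc, h])
    rw [pcR_of_comp d hP α β h hq] at e
    exact e.symm

end Groth.Agent.Helper8.SubGrpd
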