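import Mathlib

set_option autoImplicit false
universe u
open Matrix

namespace Groth.Agent.Helper8.SubregSl

variable {O : Type u} [CommRing O] {n : ℕ}

/-- extension by zero of a matrix to `ℕ × ℕ` -/
def ext (z : Matrix (Fin (n + 1)) (Fin (n + 1)) O) (i j : ℕ) : O :=
  if h : i < n + 1 ∧ j < n + 1 then z ⟨i, h.1⟩ ⟨j, h.2⟩ else 0

theorem ext_apply (z : Matrix (Fin (n + 1)) (Fin (n + 1)) O) (i j : Fin (n + 1)) :
    ext z i.val j.val = z i j := by
  unfold ext
  rw [dif_pos ⟨i.isLt, j.isLt⟩]

theorem ext_of_lt (z : Matrix (Fin (n + 1)) (Fin (n + 1)) O) (i j : ℕ) (hi : i < n + 1)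
    (hj : j < n + 1) : ext z i j = z ⟨i, hi⟩ ⟨j, hj⟩ := by
  unfold ext
  rw [dif_pos ⟨hi, hj⟩]

theorem ext_add (z w : Matrix (Fin (n + 1)) (Fin (n + 1)) O) (i j : ℕ) :
    ext (z + w) i j = ext z i j + ext w i j := by
  unfold ext
  split_ifs <;> simp

theorem ext_smul (c : O) (z : Matrix (Fin (n + 1)) (Fin (n + 1)) O) (i j : ℕ) :
    ext (c • z) i j = c * ext z i j := by
  unfold ext
  split_ifs <;> simp

/-- the defining property of the subregular nilpotent -/
def IsSubreg (x : Matrix (Fin (n + 1)) (Fin (n + 1)) O) : Prop :=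
  ∀ i j : Fin (n + 1), x i j = if j.val = i.val + 1 ∧ j.val < n then 1 else 0

theorem mul_left {x : Matrix (Fin (n + 1)) (Fin (n + 1)) O} (hx : IsSubreg x)
    (y : Matrix (Fin (n + 1)) (Fin (n + 1)) O) (i j : Fin (n + 1)) :
    (x * y) i j = if i.val + 1 < n then ext y (i.val + 1) j.val else 0 := by
  rw [Matrix.mul_apply]
  split_ifs with h
  · rw [Finset.sum_eq_single (⟨i.val + 1, by omega⟩ : Fin (n + 1))]
    · rw [hx, if_pos ⟨rfl, h⟩, one_mul, ext_of_lt y _ _ (by omega) j.isLt]
    · intro k _ hk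
      rw [hx, if_neg, zero_mul]
      rintro ⟨h1, -⟩
      exact hk (Fin.ext h1)
    · intro h'; exact absurd (Finset.mem_univ _) h'
  · apply Finset.sum_eq_zero
    intro k _
    rw [hx, if_neg, zero_mul]
    rintro ⟨h1, h2⟩
    omega

theorem mul_right {x : Matrix (Fin (n + 1)) (Fin (n + 1)) O} (hx : IsSubreg x)
    (y : Matrix (Fin (n + 1)) (Fin (n + 1)) O) (i j : Fin (n + 1)) :
    (y * x) i j = if 1 ≤ j.val ∧ j.val < n then ext y i.val (j.val - 1) else 0 := by
  rw [Matrix.mul_apply]
  split_ifs with h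
  · rw [Finset.sum_eq_single (⟨j.val - 1, by omega⟩ : Fin (n + 1))]
    · rw [hx, if_pos ⟨by simp; omega, h.2⟩, mul_one, ext_of_lt y _ _ i.isLt (by omega)]
    · intro k _ hk
      rw [hx, if_neg, mul_zero]
      rintro ⟨h1, -⟩
      apply hk
      apply Fin.ext
      simp
      omega
    · intro h'; exact absurd (Finset.mem_univ _) h'
  · apply Finset.sum_eq_zero
    intro k _
    rw [hx, if_neg, mul_zero]
    rintro ⟨h1, h2⟩
    omega

/-- the commutator `[x, y]` in coordinates -/
theorem comm_apply {x : Matrix (Fin (n + 1)) (Fin (n + 1)) O} (hx : IsSubreg x)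
    (y : Matrix (Fin (n + 1)) (Fin (n + 1)) O) (i j : Fin (n + 1)) :
    (x * y - y * x) i j = (if i.val + 1 < n then ext y (i.val + 1) j.val else 0) -
      (if 1 ≤ j.val ∧ j.val < n then ext y i.val (j.val - 1) else 0) := by
  rw [Matrix.sub_apply, mul_left hx, mul_right hx]

theorem ext_comm {x : Matrix (Fin (n + 1)) (Fin (n + 1)) O} (hx : IsSubreg x)
    (y : Matrix (Fin (n + 1)) (Fin (n + 1)) O) (a b : ℕ) (ha : a < n + 1) (hb : b < n + 1) :
    ext (x * y - y * x) a b = (if a + 1 < n then ext y (a + 1) b else 0) -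
      (if 1 ≤ b ∧ b < n then ext y a (b - 1) else 0) := by
  rw [ext_of_lt _ _ _ ha hb, comm_apply hx]

/-- the diagonal-sum functionals -/
def psi (j : ℕ) (z : Matrix (Fin (n + 1)) (Fin (n + 1)) O) : O :=
  ∑ t ∈ Finset.range (j + 1), ext z (n - 1 - t) (j - t)

theorem psi_comm {x : Matrix (Fin (n + 1)) (Fin (n + 1)) O} (hx : IsSubreg x)
    (y : Matrix (Fin (n + 1)) (Fin (n + 1)) O) (j : ℕ) (hj : j < n) :
    psi j (x * y - y * x) = 0 := by
  unfold psi
  have h1 : ∀ t ∈ Finset.range (j + 1), ext (x * y - y * x) (n - 1 - t) (j - t) =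
      (if 1 ≤ t then ext y (n - t) (j - t) else 0) -
        (if t < j then ext y (n - 1 - t) (j - t - 1) else 0) := by
    intro t ht
    rw [Finset.mem_range] at ht
    rw [ext_comm hx y _ _ (by omega) (by omega)]
    congr 1
    · by_cases h : 1 ≤ t
      · rw [if_pos h, if_pos (by omega)]
        congr 1
        omega
      · rw [if_neg h, if_neg (by omega)]
    · by_cases h : t < j
      · rw [if_pos h, if_pos (by omega)]
      · rw [if_neg h, if_neg (by omega)]
  rw [Finset.sum_congr rfl h1, Finset.sum_sub_distrib, Finset.sum_range_succ',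
    Finset.sum_range_succ (fun t => if t < j then ext y (n - 1 - t) (j - t - 1) else 0)]
  simp only [lt_self_iff_false, if_false, add_zero, if_neg (by omega : ¬ (1 ≤ 0))]
  rw [sub_eq_zero]
  apply Finset.sum_congr rfl
  intro t ht
  rw [Finset.mem_range] at ht
  rw [if_pos (by omega), if_pos ht]
  congr 1
  omega

theorem corner1_comm {x : Matrix (Fin (n + 1)) (Fin (n + 1)) O} (hx : IsSubreg x)
    (y : Matrix (Fin (n + 1)) (Fin (n + 1)) O) (hn : 1 ≤ n) :
    ext (x * y - y * x) (n - 1) n = 0 := by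
  rw [ext_comm hx y _ _ (by omega) (by omega), if_neg (by omega), if_neg (by omega), sub_zero]

theorem corner2_comm {x : Matrix (Fin (n + 1)) (Fin (n + 1)) O} (hx : IsSubreg x)
    (y : Matrix (Fin (n + 1)) (Fin (n + 1)) O) :
    ext (x * y - y * x) n 0 = 0 := by
  rw [ext_comm hx y _ _ (by omega) (by omega), if_neg (by omega), if_neg (by omega), sub_zero]

/-- recursive solution of the diagonal recursions -/
def Yrec (Z : ℕ → ℕ → O) (n : ℕ) : ℕ → ℕ → O
  | 0, _ => 0
  | (a + 1), b => Z a b + (if 1 ≤ b ∧ b < n then Yrec Z n a (b - 1) else 0)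

theorem Yrec_unroll (Z : ℕ → ℕ → O) (n : ℕ) (a b : ℕ) (hb : b < n) :
    Yrec Z n a b = ∑ t ∈ Finset.range (min a (b + 1)), Z (a - 1 - t) (b - t) := by
  induction a generalizing b with
  | zero => simp [Yrec]
  | succ a ih =>
    rw [Yrec]
    by_cases h : 1 ≤ b
    · rw [if_pos ⟨h, hb⟩, ih (b - 1) (by omega)]
      have : min (a + 1) (b + 1) = min a (b - 1 + 1) + 1 := by omega
      rw [this, Finset.sum_range_succ']
      rw [add_comm]
      congr 1
      apply Finset.sum_congr rfl
      intro t _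
      congr 1 <;> omega
    · have hb0 : b = 0 := by omega
      subst hb0
      rw [if_neg (by omega)]
      have : min (a + 1) (0 + 1) = 1 := by omega
      rw [this]
      simp

def Ysol (Z : ℕ → ℕ → O) (n : ℕ) (a b : ℕ) : O :=
  if a = n then (if b + 1 < n then -Z n (b + 1) else 0) else Yrec Z n a b

theorem solve {x : Matrix (Fin (n + 1)) (Fin (n + 1)) O} (hx : IsSubreg x) (hn : 1 ≤ n)
    (z : Matrix (Fin (n + 1)) (Fin (n + 1)) O)
    (c1 : ∀ j, j < n → psi j z = 0) (c2 : ext z (n - 1) n = 0) (c3 : ext z n 0 = 0)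
    (c4 : ext z n n = 0) :
    ∃ y : Matrix (Fin (n + 1)) (Fin (n + 1)) O, x * y - y * x = z := by
  refine ⟨fun i j => Ysol (ext z) n i.val j.val, ?_⟩
  set y : Matrix (Fin (n + 1)) (Fin (n + 1)) O := fun i j => Ysol (ext z) n i.val j.val with hy
  have hext : ∀ a b, a < n + 1 → b < n + 1 → ext y a b = Ysol (ext z) n a b := by
    intro a b ha hb
    rw [ext_of_lt _ _ _ ha hb]
  ext i j
  rw [comm_apply hx, ← ext_apply z i j]
  obtain ⟨i, hi⟩ := i
  obtain ⟨j, hj⟩ := j
  simp only
  by_cases h1 : i + 1 < n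
  · rw [if_pos h1, hext _ _ (by omega) hj, Ysol, if_neg (by omega), Yrec]
    by_cases h2 : 1 ≤ j ∧ j < n
    · rw [if_pos h2, if_pos h2, hext _ _ hi (by omega), Ysol, if_neg (by omega)]
      ring
    · rw [if_neg h2, if_neg h2]
      ring
  · rw [if_neg h1]
    by_cases h3 : i = n
    · rw [h3]
      by_cases h2 : 1 ≤ j ∧ j < n
      · rw [if_pos h2, hext _ _ (by omega) (by omega), Ysol, if_pos rfl, if_pos (by omega)]
        have : j - 1 + 1 = j := by omega
        rw [this]
        ring
      · rw [if_neg h2, sub_zero]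
        have : j = 0 ∨ j = n := by omega
        rcases this with h | h
        · rw [h]; exact c3.symm
        · rw [h]; exact c4.symm
    · have hi' : i = n - 1 := by omega
      rw [hi']
      by_cases h2 : 1 ≤ j ∧ j < n
      · rw [if_pos h2, hext _ _ (by omega) (by omega), Ysol, if_neg (by omega),
          Yrec_unroll _ _ _ _ (by omega)]
        have hc := c1 j h2.2
        unfold psi at hc
        rw [Finset.sum_range_succ'] at hc
        have hm : min (n - 1) (j - 1 + 1) = j := by omega
        rw [hm, zero_sub]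
        simp only [Nat.sub_zero] at hc
        rw [← add_eq_zero_iff_neg_eq']
        rw [← hc, add_comm]
        congr 1
        apply Finset.sum_congr rfl
        intro t ht
        rw [Finset.mem_range] at ht
        congr 1 <;> omega
      · rw [if_neg h2, sub_zero]
        have : j = 0 ∨ j = n := by omega
        rcases this with h | h
        · have hc := c1 0 (by omega)
          unfold psi at hc
          simp at hc
          rw [h]; exact hc.symm
        · rw [h]; exact c2.symm

theorem psi_add (j : ℕ) (z w : Matrix (Fin (n + 1)) (Fin (n + 1)) O) :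
    psi j (z + w) = psi j z + psi j w := by
  unfold psi
  rw [← Finset.sum_add_distrib]
  exact Finset.sum_congr rfl fun t _ => ext_add z w _ _

theorem psi_smul (j : ℕ) (c : O) (z : Matrix (Fin (n + 1)) (Fin (n + 1)) O) :
    psi j (c • z) = c * psi j z := by
  unfold psi
  rw [Finset.mul_sum]
  exact Finset.sum_congr rfl fun t _ => ext_smul c z _ _

theorem trace_eq (hn : 1 ≤ n) (z : Matrix (Fin (n + 1)) (Fin (n + 1)) O) :
    Matrix.trace z = psi (n - 1) z + ext z n n := by
  unfold Matrix.trace psi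
  have h1 : ∑ i : Fin (n + 1), z.diag i = ∑ i ∈ Finset.range (n + 1), ext z i i := by
    rw [← Fin.sum_univ_eq_sum_range (fun i => ext z i i) (n + 1)]
    exact Finset.sum_congr rfl fun i _ => (ext_apply z i i).symm
  rw [h1, Finset.sum_range_succ]
  congr 1
  have h2 : n - 1 + 1 = n := by omega
  rw [h2, ← Finset.sum_range_reflect]

theorem single_comm {x : Matrix (Fin (n + 1)) (Fin (n + 1)) O} (hx : IsSubreg x) (c : O) :
    x * Matrix.single (Fin.last n) (Fin.last n) c - Matrix.single (Fin.last n) (Fin.last n) c * x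
      = 0 := by
  ext i j
  rw [comm_apply hx]
  have h1 : ∀ a b, a < n + 1 → b < n + 1 → (a ≠ n ∨ b ≠ n) →
      ext (Matrix.single (Fin.last n) (Fin.last n) c) a b = 0 := by
    intro a b ha hb hab
    rw [ext_of_lt _ _ _ ha hb, Matrix.single_apply, if_neg]
    rintro ⟨h1, h2⟩
    have h1' := congrArg Fin.val h1
    have h2' := congrArg Fin.val h2
    simp at h1' h2'
    omega
  rw [Matrix.zero_apply]
  by_cases h : i.val + 1 < n
  · rw [if_pos h, h1 _ _ (by omega) j.isLt (Or.inl (by omega))]
    by_cases h' : 1 ≤ j.val ∧ j.val < n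
    · rw [if_pos h', h1 _ _ i.isLt (by omega) (Or.inr (by omega)), sub_zero]
    · rw [if_neg h', sub_zero]
  · rw [if_neg h]
    by_cases h' : 1 ≤ j.val ∧ j.val < n
    · rw [if_pos h', h1 _ _ i.isLt (by omega) (Or.inr (by omega)), sub_zero]
    · rw [if_neg h', sub_zero]

open LieAlgebra.SpecialLinear

attribute [local instance 100] LieRing.ofAssociativeRing

/-- the `n + 2` functionals on matrices -/
def Psi (n : ℕ) : Matrix (Fin (n + 1)) (Fin (n + 1)) O →ₗ[O] (Fin (n + 2) → O) where
  toFun z k := if k.val < n then psi k.val z else if k.val = n then ext z (n - 1) n else ext z n 0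
  map_add' z w := by
    funext k
    simp only [Pi.add_apply]
    split_ifs
    · exact psi_add _ z w
    · exact ext_add z w _ _
    · exact ext_add z w _ _
  map_smul' c z := by
    funext k
    simp only [Pi.smul_apply, RingHom.id_apply, smul_eq_mul]
    split_ifs
    · exact psi_smul _ c z
    · exact ext_smul c z _ _
    · exact ext_smul c z _ _

theorem Psi_apply (z : Matrix (Fin (n + 1)) (Fin (n + 1)) O) (k : Fin (n + 2)) :
    Psi n z k = if k.val < n then psi k.val z else if k.val = n then ext z (n - 1) n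
      else ext z n 0 := rfl

theorem mem_sl_iff (z : Matrix (Fin (n + 1)) (Fin (n + 1)) O) :
    z ∈ sl (Fin (n + 1)) O ↔ Matrix.trace z = 0 := by
  change z ∈ LinearMap.ker (Matrix.traceLinearMap (Fin (n + 1)) O O) ↔ _
  rw [LinearMap.mem_ker]
  rfl

theorem range_eq_ker (hn : 1 ≤ n) (x : sl (Fin (n + 1)) O) (hx : IsSubreg x.val) :
    LinearMap.range (LieAlgebra.ad O (sl (Fin (n + 1)) O) x) =
      LinearMap.ker ((Psi n).comp (sl (Fin (n + 1)) O).toSubmodule.subtype) := by
  apply le_antisymm
  · rintro _ ⟨y, rfl⟩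
    rw [LinearMap.mem_ker, LinearMap.comp_apply, LieAlgebra.ad_apply]
    have hv : ((sl (Fin (n + 1)) O).toSubmodule.subtype ⁅x, y⁆) = x.val * y.val - y.val * x.val :=
      sl_bracket _ _ x y
    rw [hv]
    funext k
    rw [Psi_apply, Pi.zero_apply]
    split_ifs with h1 h2
    · exact psi_comm hx _ _ h1
    · exact corner1_comm hx _ hn
    · exact corner2_comm hx _
  · intro z hz
    rw [LinearMap.mem_ker, LinearMap.comp_apply] at hz
    have hzv : (sl (Fin (n + 1)) O).toSubmodule.subtype z = z.val := rfl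
    rw [hzv] at hz
    have c1 : ∀ j, j < n → psi j z.val = 0 := by
      intro j hj
      have := congrFun hz ⟨j, by omega⟩
      rw [Psi_apply, if_pos hj] at this
      exact this
    have c2 : ext z.val (n - 1) n = 0 := by
      have := congrFun hz ⟨n, by omega⟩
      rw [Psi_apply, if_neg (by simp), if_pos rfl] at this
      exact this
    have c3 : ext z.val n 0 = 0 := by
      have := congrFun hz ⟨n + 1, by omega⟩
      rw [Psi_apply, if_neg (by simp), if_neg (by simp)] at this
      exact this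
    have c4 : ext z.val n n = 0 := by
      have ht := (mem_sl_iff z.val).mp z.property
      rw [trace_eq hn, c1 (n - 1) (by omega), zero_add] at ht
      exact ht
    obtain ⟨y0, hy0⟩ := solve hx hn z.val c1 c2 c3 c4
    set y1 := y0 - Matrix.single (Fin.last n) (Fin.last n) (Matrix.trace y0) with hy1
    have hy1mem : y1 ∈ sl (Fin (n + 1)) O := by
      rw [mem_sl_iff, hy1, Matrix.trace_sub, Matrix.trace_single_eq_same, sub_self]
    refine ⟨⟨y1, hy1mem⟩, ?_⟩
    apply Subtype.ext
    rw [LieAlgebra.ad_apply, sl_bracket]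
    change x.val * y1 - y1 * x.val = z.val
    rw [hy1, mul_sub, sub_mul, ← hy0]
    have := single_comm hx (Matrix.trace y0)
    rw [sub_eq_zero] at this
    rw [this]
    abel

/-- a preimage under `Psi` -/
def pre (n : ℕ) (c : Fin (n + 2) → O) : Matrix (Fin (n + 1)) (Fin (n + 1)) O := fun i j =>
  if i.val = n - 1 then (if h : j.val < n then c ⟨j.val, by omega⟩ else c ⟨n, by omega⟩)
  else if i.val = n then
    (if j.val = 0 then c ⟨n + 1, by omega⟩ else if j.val = n then -c ⟨n - 1, by omega⟩ else 0)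
  else 0

theorem ext_pre_row (hn : 1 ≤ n) (c : Fin (n + 2) → O) (j : ℕ) (hj : j < n) :
    ext (pre n c) (n - 1) j = c ⟨j, by omega⟩ := by
  rw [ext_of_lt _ _ _ (by omega) (by omega)]
  unfold pre
  simp only
  rw [if_pos trivial, dif_pos hj]

theorem ext_pre_zero (hn : 1 ≤ n) (c : Fin (n + 2) → O) (a b : ℕ) (ha : a < n - 1) (hb : b < n + 1) :
    ext (pre n c) a b = 0 := by
  rw [ext_of_lt _ _ _ (by omega) hb]
  unfold pre
  simp only
  rw [if_neg (by omega), if_neg (by omega)]

theorem psi_pre (hn : 1 ≤ n) (c : Fin (n + 2) → O) (j : ℕ) (hj : j < n) :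
    psi j (pre n c) = c ⟨j, by omega⟩ := by
  unfold psi
  rw [Finset.sum_range_succ', Finset.sum_eq_zero, zero_add]
  · exact ext_pre_row hn c j hj
  · intro t ht
    rw [Finset.mem_range] at ht
    exact ext_pre_zero hn c _ _ (by omega) (by omega)

theorem Psi_pre (hn : 1 ≤ n) (c : Fin (n + 2) → O) : Psi n (pre n c) = c := by
  funext k
  rw [Psi_apply]
  split_ifs with h1 h2
  · exact psi_pre hn c k.val h1
  · rw [ext_of_lt _ _ _ (by omega) (by omega)]
    unfold pre
    simp only
    rw [if_pos trivial, dif_neg (lt_irrefl _)]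
    congr 1
    exact Fin.ext h2.symm
  · rw [ext_of_lt _ _ _ (by omega) (by omega)]
    unfold pre
    simp only
    rw [if_neg (by omega), if_pos trivial, if_pos trivial]
    congr 1
    apply Fin.ext
    have := k.isLt
    simp only
    omega

theorem pre_mem (hn : 1 ≤ n) (c : Fin (n + 2) → O) : pre n c ∈ sl (Fin (n + 1)) O := by
  rw [mem_sl_iff, trace_eq hn, psi_pre hn c (n - 1) (by omega),
    ext_of_lt _ _ _ (by omega) (by omega)]
  unfold pre
  simp only
  rw [if_neg (by omega), if_pos trivial, if_neg (by omega), if_pos trivial]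
  ring

theorem main' (O : Type u) [CommRing O] [Nontrivial O] (n : ℕ) (hn : 1 ≤ n)
    (x : sl (Fin (n + 1)) O)
    (hx : ∀ i j : Fin (n + 1), (x : Matrix (Fin (n + 1)) (Fin (n + 1)) O) i j =
      if j.val = i.val + 1 ∧ j.val < n then 1 else 0) :
    Module.Free O (sl (Fin (n + 1)) O ⧸
        LinearMap.range (LieAlgebra.ad O (sl (Fin (n + 1)) O) x)) ∧
      Module.finrank O (sl (Fin (n + 1)) O ⧸
        LinearMap.range (LieAlgebra.ad O (sl (Fin (n + 1)) O) x)) = n + 2 := by
  have hsurj : Function.Surjective ((Psi (O := O) n).comp (sl (Fin (n + 1)) O).toSubmodule.subtype) := by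
    intro c
    exact ⟨⟨pre n c, pre_mem hn c⟩, Psi_pre hn c⟩
  let e : (sl (Fin (n + 1)) O ⧸ LinearMap.range (LieAlgebra.ad O (sl (Fin (n + 1)) O) x))
      ≃ₗ[O] (Fin (n + 2) → O) :=
    (Submodule.quotEquivOfEq _ _ (range_eq_ker hn x hx)).trans
      (LinearMap.quotKerEquivOfSurjective _ hsurj)
  refine ⟨Module.Free.of_equiv e.symm, ?_⟩
  rw [e.finrank_eq, Module.finrank_fin_fun]

end Groth.Agent.Helper8.SubregSl
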