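import Mathlib
import Groth.Prelude.Def_W4c2submetdescSubtr
import Groth.Agent.S14768
import Groth.Agent.Helper8.SubtrNoethA

set_option autoImplicit false
universe u
open CategoryTheory CategoryTheory.Limits AlgebraicGeometry IsLocalRing Subtr

namespace Groth.Agent.Helper8.SubtrAff

/-- S-subtrusiveness is inherited by base change along an immersion -/
theorem transfer {X Y P Z : Scheme.{u}} (f : X ⟶ Y) (a : P ⟶ Y) (j : Z ⟶ P) [IsImmersion j]
    (hs : IsSSubtrusive (pullback.snd f a)) : IsSSubtrusive (pullback.snd f (j ≫ a)) := by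
  have hq : IsSSubtrusive (pullback.snd (pullback.snd f a) j) := by
    intro z z' hz
    obtain ⟨w, w', hw, h1, h2⟩ := hs (hz.map j.continuous)
    have hr := Scheme.Pullback.range_fst (pullback.snd f a) j
    have hw1 : w ∈ Set.range (pullback.fst (pullback.snd f a) j) := by
      rw [hr]; exact ⟨z, h1.symm⟩
    have hw2 : w' ∈ Set.range (pullback.fst (pullback.snd f a) j) := by
      rw [hr]; exact ⟨z', h2.symm⟩
    obtain ⟨v, rfl⟩ := hw1
    obtain ⟨v', rfl⟩ := hw2
    have hemb : Topology.IsEmbedding (pullback.fst (pullback.snd f a) j) :=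
      Scheme.Hom.isEmbedding _
    have hjinj : Function.Injective j := (Scheme.Hom.isEmbedding j).injective
    refine ⟨v, v', hemb.isInducing.specializes_iff.mp hw, ?_, ?_⟩
    · apply hjinj
      rw [← Scheme.Hom.comp_apply, ← pullback.condition, Scheme.Hom.comp_apply]
      exact h1
    · apply hjinj
      rw [← Scheme.Hom.comp_apply, ← pullback.condition, Scheme.Hom.comp_apply]
      exact h2
  have hc : (pullback.fst (pullback.snd f a) j ≫ pullback.fst f a) ≫ f =
      pullback.snd (pullback.snd f a) j ≫ j ≫ a := by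
    rw [Category.assoc, pullback.condition, ← Category.assoc, pullback.condition, Category.assoc]
  exact SubtrNoethA.isSSubtrusive_snd_of_iso_target hq
    (pullback.lift (pullback.fst (pullback.snd f a) j ≫ pullback.fst f a)
      (pullback.snd (pullback.snd f a) j) hc) (𝟙 Z)
    (by rw [pullback.lift_snd, Category.comp_id])

/-- `Spec` of a finitely generated algebra over an affine open immerses into an affine space -/
theorem exists_immersion {Y : Scheme.{u}} (R : CommRingCat.{u}) (j : Spec R ⟶ Y)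
    [IsOpenImmersion j] (σ : Type u) (B : Type u) [CommRing B] [Algebra R B]
    (ψ : MvPolynomial σ R →ₐ[R] B) (hψ : Function.Surjective ψ) :
    ∃ i : Spec (CommRingCat.of B) ⟶ AffineSpace σ Y, IsImmersion i ∧
      i ≫ (AffineSpace σ Y ↘ Y) = Spec.map (CommRingCat.ofHom (algebraMap R B)) ≫ j := by
  haveI : IsClosedImmersion (Spec.map (CommRingCat.ofHom ψ.toRingHom)) :=
    IsClosedImmersion.spec_of_surjective _ hψ
  haveI : IsOpenImmersion (AffineSpace.map σ j) :=
    MorphismProperty.of_isPullback (AffineSpace.isPullback_map j).flip inferInstance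
  refine ⟨(Spec.map (CommRingCat.ofHom ψ.toRingHom) ≫ (AffineSpace.SpecIso σ R).inv) ≫
    AffineSpace.map σ j, inferInstance, ?_⟩
  rw [Category.assoc, AffineSpace.map_over, ← Category.assoc]
  congr 1
  rw [Category.assoc, AffineSpace.SpecIso_inv_over, ← Spec.map_comp]
  congr 1
  ext r
  exact ψ.commutes r

theorem exists_surjection (R : Type u) [CommRing R] (B : Type u) [CommRing B] [Algebra R B]
    [Algebra.FiniteType R B] :
    ∃ (n : ℕ) (ψ : MvPolynomial (ULift.{u} (Fin (n + 1))) R →ₐ[R] B), Function.Surjective ψ := by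
  obtain ⟨n, π, hπ⟩ := Algebra.FiniteType.iff_quotient_mvPolynomial''.mp
    (inferInstance : Algebra.FiniteType R B)
  obtain ⟨g₀, hg₀⟩ : ∃ g₀ : MvPolynomial (ULift.{u} (Fin (n + 1))) R →ₐ[R] MvPolynomial (Fin n) R,
      ∀ k : Fin n, g₀ (MvPolynomial.X (ULift.up k.castSucc)) = MvPolynomial.X k := by
    refine ⟨MvPolynomial.aeval (fun i : ULift.{u} (Fin (n + 1)) =>
      if h : i.down.val < n then MvPolynomial.X ⟨i.down.val, h⟩ else 0), fun k => ?_⟩
    rw [MvPolynomial.aeval_X]
    have hk : (ULift.up k.castSucc : ULift.{u} (Fin (n + 1))).down.val < n := k.2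
    rw [dif_pos hk]
    rfl
  have hsurj : Function.Surjective g₀ := by
    rw [← AlgHom.range_eq_top, eq_top_iff, ← MvPolynomial.adjoin_range_X, Algebra.adjoin_le_iff]
    rintro _ ⟨k, rfl⟩
    exact ⟨MvPolynomial.X (ULift.up k.castSucc), hg₀ k⟩
  exact ⟨n, π.comp g₀, hπ.comp hsurj⟩

theorem isSSubtrusive_of_affineSpace {X Y : Scheme.{u}} (f : X ⟶ Y)
    (H : ∀ n : ℕ, 0 < n →
      IsSSubtrusive (pullback.snd f (AffineSpace (ULift.{u} (Fin n)) Y ↘ Y)))
    (R : CommRingCat.{u}) (j : Spec R ⟶ Y) [IsOpenImmersion j] (B : Type u) [CommRing B]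
    [Algebra R B] [Algebra.FiniteType R B] :
    IsSSubtrusive (pullback.snd f (Spec.map (CommRingCat.ofHom (algebraMap R B)) ≫ j)) := by
  obtain ⟨n, ψ, hψ⟩ := exists_surjection R B
  obtain ⟨i, hi, hover⟩ := exists_immersion R j (ULift.{u} (Fin (n + 1))) B ψ hψ
  rw [← hover]
  exact transfer f _ i (H (n + 1) (Nat.succ_pos n))

theorem main {X Y : Scheme.{u}} (f : X ⟶ Y) [QuasiCompact f] :
    UnivSSubtrusive f ↔
      ∀ n : ℕ, 0 < n →
        IsSSubtrusive (pullback.snd f (AffineSpace (ULift.{u} (Fin n)) Y ↘ Y)) := by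
  constructor
  · intro h n _
    exact h _ _ _ (IsPullback.of_hasPullback f _).flip
  · intro H
    rw [Groth.Agent.S14768.result]
    intro V _ _ _ g
    obtain ⟨_, ⟨U, hU, rfl⟩, hyU, -⟩ := Y.isBasis_affineOpens.exists_subset_of_mem_open
        (Set.mem_univ (g (closedPoint V))) isOpen_univ
    have hrange : Set.range g ⊆ Set.range hU.fromSpec := by
      rw [hU.range_fromSpec]
      rintro _ ⟨p, rfl⟩
      have hsp : p ⤳ closedPoint V := IsLocalRing.specializes_closedPoint p
      exact (hsp.map g.continuous).mem_open U.isOpen hyU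
    let g' : Spec (CommRingCat.of V) ⟶ Spec Γ(Y, U) := IsOpenImmersion.lift hU.fromSpec g hrange
    have hg' : g' ≫ hU.fromSpec = g := IsOpenImmersion.lift_fac _ _ _
    let φ : Γ(Y, U) ⟶ CommRingCat.of V := Spec.preimage g'
    have hφ : Spec.map φ = g' := Spec.map_preimage g'
    letI : Algebra Γ(Y, U) V := φ.hom.toAlgebra
    have key := SubtrNoethA.limit_step (A := Γ(Y, U)) (V := V) f hU.fromSpec (fun S => by
      haveI : Algebra.FiniteType Γ(Y, U) (SubtrNoethA.sub Γ(Y, U) V S) :=
        (Subalgebra.fg_iff_finiteType _).mp (Subalgebra.fg_adjoin_finset S)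
      exact isSSubtrusive_of_affineSpace f H Γ(Y, U) hU.fromSpec (SubtrNoethA.sub Γ(Y, U) V S))
    have e : Spec.map (CommRingCat.ofHom (algebraMap Γ(Y, U) V)) ≫ hU.fromSpec = g := by
      rw [← hg', ← hφ]; rfl
    rw [e] at key
    exact key

end Groth.Agent.Helper8.SubtrAff
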