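import Mathlib
import Groth.Prelude.Def_W4c2submetdescSubtr
import Groth.Agent.Helper8.ValChainB
import Groth.Agent.Helper8.UnivSubm

/-!
# Locally closed retrocompact subsets descend along universally S-subtrusive morphisms (S14783)
-/

universe u

namespace Groth.Agent.Helper8.SubtrLC

open AlgebraicGeometry CategoryTheory Limits TopologicalSpace

/-- Closure of the image of a closed subset of an affine open, inside an affine open of the
target, consists of specializations of points of the image. -/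
theorem exists_specializes_of_affine {Y S : Scheme.{u}} (g : Y ⟶ S) (C : Set Y) (hC : IsClosed C)
    (V : Y.Opens) (hV : IsAffineOpen V) (U : S.Opens) (hU : IsAffineOpen U) (hVU : V ≤ g ⁻¹ᵁ U)
    (x : S) (hxU : x ∈ U) (hx : x ∈ closure (g '' (C ∩ V))) :
    ∃ e ∈ g '' (C ∩ V), e ⤳ x := by
  let φ := g.appLE U V hVU
  have hφ : Spec.map φ ≫ hU.fromSpec = hV.fromSpec ≫ g :=
    IsAffineOpen.SpecMap_appLE_fromSpec g hU hV hVU
  have hφ' : ∀ q, hU.fromSpec (Spec.map φ q) = g (hV.fromSpec q) := by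
    intro q
    rw [← Scheme.Hom.comp_apply, hφ, Scheme.Hom.comp_apply]
  obtain ⟨x₁, rfl⟩ : x ∈ Set.range hU.fromSpec := by rw [hU.range_fromSpec]; exact hxU
  have hC₁ : IsClosed (hV.fromSpec ⁻¹' C) := hC.preimage hV.fromSpec.continuous
  obtain ⟨I, hI⟩ := (PrimeSpectrum.isClosed_iff_zeroLocus_ideal _).mp hC₁
  -- the image in terms of spectra
  have himg : g '' (C ∩ V) = hU.fromSpec '' (PrimeSpectrum.comap φ.hom '' PrimeSpectrum.zeroLocus I) := by
    rw [← hI]
    ext y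
    constructor
    · rintro ⟨c, ⟨hcC, hcV⟩, rfl⟩
      obtain ⟨q, rfl⟩ : c ∈ Set.range hV.fromSpec := by rw [hV.range_fromSpec]; exact hcV
      exact ⟨_, ⟨q, hcC, rfl⟩, hφ' q⟩
    · rintro ⟨_, ⟨q, hq, rfl⟩, rfl⟩
      refine ⟨hV.fromSpec q, ⟨hq, ?_⟩, (hφ' q).symm⟩
      have : hV.fromSpec q ∈ Set.range hV.fromSpec := Set.mem_range_self q
      rw [hV.range_fromSpec] at this
      exact this
  rw [himg] at hx ⊢
  have hx₁ : (x₁ : PrimeSpectrum Γ(S, U)) ∈ @closure (PrimeSpectrum Γ(S, U)) _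
      (PrimeSpectrum.comap φ.hom '' PrimeSpectrum.zeroLocus I) := by
    have h := hU.fromSpec.isOpenEmbedding.isInducing.closure_eq_preimage_closure_image
      (PrimeSpectrum.comap φ.hom '' PrimeSpectrum.zeroLocus (I : Set Γ(Y, V)))
    exact (Set.ext_iff.mp h x₁).mpr hx
  rw [PrimeSpectrum.closure_image_comap_zeroLocus] at hx₁
  obtain ⟨q, hqI, hq, hqle⟩ := x₁.asIdeal.exists_ideal_comap_le_prime I hx₁
  refine ⟨hU.fromSpec (PrimeSpectrum.comap φ.hom ⟨q, hq⟩), ⟨_, ⟨⟨q, hq⟩, hqI, rfl⟩, rfl⟩, ?_⟩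
  apply Specializes.map _ hU.fromSpec.continuous
  exact (PrimeSpectrum.le_iff_specializes _ _).mp hqle

/-- Closure of the image of a compact locally closed set inside an affine open. -/
theorem exists_specializes_of_isCompact {Y S : Scheme.{u}} (g : Y ⟶ S) (K : Set Y)
    (hKl : IsLocallyClosed K) (hKc : IsCompact K) (U : S.Opens) (hU : IsAffineOpen U)
    (hKU : K ⊆ g ⁻¹' U) (x : S) (hxU : x ∈ U) (hx : x ∈ closure (g '' K)) :
    ∃ e ∈ g '' K, e ⤳ x := by
  obtain ⟨W, C, hW, hC, rfl⟩ := hKl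
  let W' : Y.Opens := ⟨W, hW⟩ ⊓ g ⁻¹ᵁ U
  obtain ⟨t, ht⟩ := hKc.elim_finite_subcover
    (fun V : {V : Y.affineOpens // V.1 ≤ W'} => ((V.1.1 : Y.Opens) : Set Y))
    (fun V => V.1.1.2) (by
      intro k hk
      have hkW' : k ∈ W' := ⟨hk.1, hKU hk⟩
      obtain ⟨_, ⟨V, hV, rfl⟩, hkV, hVW⟩ := Y.isBasis_affineOpens.exists_subset_of_mem_open
        hkW' W'.2
      exact Set.mem_iUnion.mpr ⟨⟨⟨V, hV⟩, hVW⟩, hkV⟩)
  have hsub : g '' (W ∩ C) ⊆ ⋃ V ∈ t, g '' (C ∩ (V.1.1 : Y.Opens)) := by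
    rintro _ ⟨k, hk, rfl⟩
    have := ht hk
    simp only [Set.mem_iUnion] at this ⊢
    obtain ⟨V, hVt, hkV⟩ := this
    exact ⟨V, hVt, k, ⟨hk.2, hkV⟩, rfl⟩
  have hx' := closure_mono hsub hx
  rw [Finset.closure_biUnion] at hx'
  simp only [Set.mem_iUnion] at hx'
  obtain ⟨V, hVt, hxV⟩ := hx'
  obtain ⟨e, he, hex⟩ := exists_specializes_of_affine g C hC V.1.1 V.1.2 U hU
    (V.2.trans inf_le_right) x hxU hxV
  refine ⟨e, ?_, hex⟩
  obtain ⟨c, ⟨hcC, hcV⟩, rfl⟩ := he
  exact ⟨c, ⟨(V.2 hcV).1, hcC⟩, rfl⟩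

/-- Preimage of a locally closed set with compact trace on an affine open, in an affine open. -/
theorem isCompact_preimage_inter_affine {S' S : Scheme.{u}} (f : S' ⟶ S) (E : Set S)
    (hE : IsLocallyClosed E) (U : S.Opens) (hU : IsAffineOpen U) (hEU : IsCompact (E ∩ U))
    (V : S'.Opens) (hV : IsAffineOpen V) (hVU : V ≤ f ⁻¹ᵁ U) :
    IsCompact (f ⁻¹' E ∩ V) := by
  obtain ⟨W, Z, hW, hZ, rfl⟩ := hE
  let W' : S.Opens := ⟨W, hW⟩ ⊓ U
  obtain ⟨t, ht⟩ := hEU.elim_finite_subcover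
    (fun r : {r : Γ(S, U) // S.basicOpen r ≤ W'} => ((S.basicOpen r.1 : S.Opens) : Set S))
    (fun r => (S.basicOpen r.1).2) (by
      intro y hy
      have hyW' : y ∈ W' := ⟨hy.1.1, hy.2⟩
      obtain ⟨r, hr, hyr⟩ := hU.exists_basicOpen_le (V := W') ⟨y, hyW'⟩ hy.2
      exact Set.mem_iUnion.mpr ⟨⟨r, hr⟩, hyr⟩)
  have hcomp : IsCompact (⋃ r ∈ t, ((S'.basicOpen (f.appLE U V hVU r.1) : S'.Opens) : Set S')) :=
    t.isCompact_biUnion fun r _ => (hV.basicOpen _).isCompact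
  have heq : f ⁻¹' (W ∩ Z) ∩ V =
      f ⁻¹' Z ∩ ⋃ r ∈ t, ((S'.basicOpen (f.appLE U V hVU r.1) : S'.Opens) : Set S') := by
    ext v
    simp only [Set.mem_inter_iff, Set.mem_preimage, Set.mem_iUnion, SetLike.mem_coe,
      Scheme.basicOpen_appLE]
    constructor
    · rintro ⟨⟨hvW, hvZ⟩, hvV⟩
      have := ht (show f v ∈ (W ∩ Z) ∩ U from ⟨⟨hvW, hvZ⟩, hVU hvV⟩)
      simp only [Set.mem_iUnion] at this
      obtain ⟨r, hrt, hvr⟩ := this
      exact ⟨hvZ, r, hrt, hvV, hvr⟩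
    · rintro ⟨hvZ, r, hrt, hvV, hvr⟩
      exact ⟨⟨(r.2 hvr).1, hvZ⟩, hvV⟩
  rw [heq]
  exact hcomp.inter_left (hZ.preimage f.continuous)

theorem main {S' S : Scheme.{u}} (f : S' ⟶ S) [QuasiCompact f]
    (hf : Subtr.UnivSSubtrusive f) (E : Set S) :
    (IsLocallyClosed E ∧ IsRetrocompact E) ↔
      (IsLocallyClosed (f ⁻¹' E) ∧ IsRetrocompact (f ⁻¹' E)) := by
  have hsub : Subtr.IsSSubtrusive f := MorphismProperty.universally_le _ _ hf
  have hsurj : Function.Surjective f := by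
    intro y
    obtain ⟨x, -, -, hx, -⟩ := hsub (specializes_refl y)
    exact ⟨x, hx⟩
  constructor
  · rintro ⟨hEl, hEr⟩
    refine ⟨hEl.preimage f.continuous, ?_⟩
    intro V hVc hVo
    let V' : S'.Opens := ⟨V, hVo⟩
    obtain ⟨t, ht⟩ := hVc.elim_finite_subcover
      (fun p : {p : S'.affineOpens × S.affineOpens // p.1.1 ≤ V' ⊓ f ⁻¹ᵁ p.2.1} =>
        ((p.1.1.1 : S'.Opens) : Set S'))
      (fun p => p.1.1.1.2) (by
        intro v hv
        obtain ⟨_, ⟨U, hU, rfl⟩, hvU, -⟩ := S.isBasis_affineOpens.exists_subset_of_mem_open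
          (Set.mem_univ (f v)) isOpen_univ
        have hv' : v ∈ V' ⊓ f ⁻¹ᵁ U := ⟨hv, hvU⟩
        obtain ⟨_, ⟨V₁, hV₁, rfl⟩, hvV₁, hV₁le⟩ :=
          S'.isBasis_affineOpens.exists_subset_of_mem_open hv' (V' ⊓ f ⁻¹ᵁ U).2
        exact Set.mem_iUnion.mpr ⟨⟨(⟨V₁, hV₁⟩, ⟨U, hU⟩), hV₁le⟩, hvV₁⟩)
    have heq : f ⁻¹' E ∩ V = ⋃ p ∈ t, f ⁻¹' E ∩ ((p.1.1.1 : S'.Opens) : Set S') := by
      ext v
      simp only [Set.mem_inter_iff, Set.mem_iUnion]
      constructor
      · rintro ⟨hvE, hvV⟩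
        have := ht hvV
        simp only [Set.mem_iUnion] at this
        obtain ⟨p, hpt, hvp⟩ := this
        exact ⟨p, hpt, hvE, hvp⟩
      · rintro ⟨p, hpt, hvE, hvp⟩
        exact ⟨hvE, (p.2 hvp).1⟩
    rw [heq]
    refine t.isCompact_biUnion fun p _ => ?_
    exact isCompact_preimage_inter_affine f E hEl p.1.2.1 p.1.2.2
      (hEr p.1.2.2.isCompact p.1.2.1.2) p.1.1.1 p.1.1.2 (p.2.trans inf_le_right)
  · rintro ⟨hEl, hEr⟩
    -- retrocompactness
    have hretro : IsRetrocompact E := by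
      intro V hVc hVo
      have : E ∩ V = f '' (f ⁻¹' E ∩ f ⁻¹' V) := by
        rw [← Set.preimage_inter, Set.image_preimage_eq _ hsurj]
      rw [this]
      exact (hEr (QuasiCompact.isCompact_preimage (f := f) V hVo hVc) (hVo.preimage f.continuous)).image
        f.continuous
    refine ⟨?_, hretro⟩
    obtain ⟨W', Z₀, hW', hZ₀, hE'⟩ := hEl
    -- points of the closure are specializations of points of `E`
    have key : ∀ x ∈ closure E, ∃ e ∈ E, e ⤳ x := by
      intro x hx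
      obtain ⟨_, ⟨U, hU, rfl⟩, hxU, -⟩ := S.isBasis_affineOpens.exists_subset_of_mem_open
        (Set.mem_univ x) isOpen_univ
      have hK : IsCompact (f ⁻¹' E ∩ f ⁻¹' U) :=
        hEr (QuasiCompact.isCompact_preimage (f := f) U U.2 hU.isCompact) (U.2.preimage f.continuous)
      have hKl : IsLocallyClosed (f ⁻¹' E ∩ f ⁻¹' U) :=
        IsLocallyClosed.inter ⟨W', Z₀, hW', hZ₀, hE'⟩ (U.2.preimage f.continuous).isLocallyClosed
      have himg : f '' (f ⁻¹' E ∩ f ⁻¹' U) = E ∩ U := by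
        rw [← Set.preimage_inter, Set.image_preimage_eq _ hsurj]
      have hx' : x ∈ closure (f '' (f ⁻¹' E ∩ f ⁻¹' U)) := by
        rw [himg, mem_closure_iff]
        intro o ho hxo
        obtain ⟨y, hyo, hyE⟩ := mem_closure_iff.mp hx (o ∩ U) (ho.inter U.2) ⟨hxo, hxU⟩
        exact ⟨y, hyo.1, hyE, hyo.2⟩
      obtain ⟨e, he, hex⟩ := exists_specializes_of_isCompact f _ hKl hK U hU
        Set.inter_subset_right x hxU hx'
      rw [himg] at he
      exact ⟨e, he.1, hex⟩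
    rw [isLocallyClosed_iff_isOpen_coborder, coborder, isOpen_compl_iff]
    -- the closed set whose image is `closure E \ E`
    have hclE' : closure (f ⁻¹' E) ⊆ Z₀ := by
      rw [hE']
      exact closure_minimal Set.inter_subset_right hZ₀
    have hCcl : IsClosed (closure (f ⁻¹' E) ∩ W'ᶜ) := isClosed_closure.inter hW'.isClosed_compl
    have himgC : f '' (closure (f ⁻¹' E) ∩ W'ᶜ) = closure E \ E := by
      ext x
      constructor
      · rintro ⟨c, ⟨hc1, hc2⟩, rfl⟩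
        refine ⟨?_, ?_⟩
        · have := image_closure_subset_closure_image f.continuous (Set.mem_image_of_mem f hc1)
          exact closure_mono (Set.image_preimage_subset f E) this
        · intro hfc
          have : c ∈ f ⁻¹' E := hfc
          rw [hE'] at this
          exact hc2 this.1
      · rintro ⟨hx1, hx2⟩
        obtain ⟨e, heE, hex⟩ := key x hx1
        obtain ⟨x', e', hsp, hx', he'⟩ := hsub hex
        refine ⟨x', ⟨?_, ?_⟩, hx'⟩
        · have he'E : e' ∈ closure (f ⁻¹' E) := subset_closure (show f e' ∈ E by rw [he']; exact heE)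
          exact hsp.mem_closed isClosed_closure he'E
        · intro hxW
          have hxZ : x' ∈ Z₀ := hclE' (hsp.mem_closed isClosed_closure
            (subset_closure (show f e' ∈ E by rw [he']; exact heE)))
          have : x' ∈ f ⁻¹' E := by rw [hE']; exact ⟨hxW, hxZ⟩
          exact hx2 (by rw [← hx']; exact this)
    rw [← himgC]
    apply UnivSubm.isClosed_image_of_stable f _ hCcl
    rw [himgC]
    intro x y hxy ⟨hx1, hx2⟩
    refine ⟨hxy.mem_closed isClosed_closure hx1, fun hyE => ?_⟩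
    obtain ⟨e, heE, hex⟩ := key x hx1
    have hchain : ∀ i j : Fin 3, i ≤ j →
        (![e, x, y] : Fin 3 → S) i ⤳ (![e, x, y] : Fin 3 → S) j := by
      intro i j hij
      fin_cases i <;> fin_cases j
      · exact specializes_rfl
      · exact hex
      · exact hex.trans hxy
      · exact absurd hij (by decide)
      · exact specializes_rfl
      · exact hxy
      · exact absurd hij (by decide)
      · exact absurd hij (by decide)
      · exact specializes_rfl
    obtain ⟨z, hz, hfz⟩ := ValChain.main f hf 2 ![e, x, y] hchain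
    have h0 : z 0 ∈ f ⁻¹' E := by
      show f (z 0) ∈ E
      rw [hfz 0]; exact heE
    have h2 : z 2 ∈ f ⁻¹' E := by
      show f (z 2) ∈ E
      rw [hfz 2]; exact hyE
    rw [hE'] at h0 h2
    have h1Z : z 1 ∈ Z₀ := (hz 0 1 (by decide)).mem_closed hZ₀ h0.2
    have h1W : z 1 ∈ W' := (hz 1 2 (by decide)).mem_open hW' h2.1
    have h1 : z 1 ∈ f ⁻¹' E := by rw [hE']; exact ⟨h1W, h1Z⟩
    apply hx2
    have := hfz 1
    simp only [Matrix.cons_val_one, Matrix.cons_val_zero] at this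
    rw [← this]
    exact h1

end Groth.Agent.Helper8.SubtrLC
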