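import Mathlib

set_option autoImplicit false
universe u v w

namespace Groth.Agent.Helper8.SummandBound
open Submodule

section key
variable {R : Type*} [CommRing R] {M : Type*} [AddCommGroup M] [Module R M]

lemma li_aux (𝔭 : Ideal R) [𝔭.IsPrime]
    {J : Type*} [Fintype J] (x : J → M)
    (hann : ∀ j (r : R), r • x j = 0 ↔ r ∈ 𝔭)
    (hind : ∀ c : J → R, ∑ j, c j • x j = 0 → ∀ j, c j • x j = 0)
    (hx : ∀ j, x j ∈ torsionBySet R M (𝔭 : Set R)) :
    LinearIndependent (R ⧸ 𝔭) (fun j => (⟨x j, hx j⟩ : torsionBySet R M (𝔭 : Set R))) := by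
  classical
  rw [Fintype.linearIndependent_iff]
  intro g hg j
  choose c hc using fun j => Ideal.Quotient.mk_surjective (g j)
  have h1 : ∑ j, c j • (⟨x j, hx j⟩ : torsionBySet R M (𝔭 : Set R)) = 0 := by
    rw [← hg]
    refine Finset.sum_congr rfl fun j _ => ?_
    rw [← hc j, torsionBySet.mk_smul]
  have h2 : ∑ j, c j • x j = 0 := by
    have := congrArg (Subtype.val) h1
    rw [Submodule.coe_sum] at this
    exact this
  have h3 := hind c h2 j
  rw [← hc j, Ideal.Quotient.eq_zero_iff_mem]
  exact (hann j (c j)).mp h3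

lemma span_aux (𝔭 : Ideal R) [𝔭.IsPrime] (G : Finset M)
    [DecidablePred (· ∈ torsionBySet R M (𝔭 : Set R))]
    (hG : span R (G : Set M) = torsionBySet R M (𝔭 : Set R)) :
    ∀ m (_ : m ∈ span R (G : Set M)), ∀ hm' : m ∈ torsionBySet R M (𝔭 : Set R),
      (⟨m, hm'⟩ : torsionBySet R M (𝔭 : Set R)) ∈ span (R ⧸ 𝔭)
        ((Finset.subtype (· ∈ torsionBySet R M (𝔭 : Set R)) G :
          Finset (torsionBySet R M (𝔭 : Set R))) : Set (torsionBySet R M (𝔭 : Set R))) := by
  intro m hm
  induction hm using Submodule.span_induction with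
  | mem m hmG =>
    intro hm'
    apply subset_span
    exact Finset.mem_coe.mpr (Finset.mem_subtype.mpr hmG)
  | zero =>
    intro hm'
    exact zero_mem _
  | add m1 m2 h1 h2 ih1 ih2 =>
    intro hm'
    have h1' : m1 ∈ torsionBySet R M (𝔭 : Set R) := hG ▸ h1
    have h2' : m2 ∈ torsionBySet R M (𝔭 : Set R) := hG ▸ h2
    exact add_mem (ih1 h1') (ih2 h2')
  | smul r m h ih =>
    intro hm'
    have h' : m ∈ torsionBySet R M (𝔭 : Set R) := hG ▸ h
    have : (⟨r • m, hm'⟩ : torsionBySet R M (𝔭 : Set R)) =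
        Ideal.Quotient.mk 𝔭 r • ⟨m, h'⟩ := by
      rw [torsionBySet.mk_smul]; rfl
    rw [this]
    exact smul_mem _ _ (ih h')

lemma card_le_of_indep (𝔭 : Ideal R) [𝔭.IsPrime] (G : Finset M)
    (hG : span R (G : Set M) = torsionBySet R M (𝔭 : Set R))
    {J : Type*} [Fintype J] (x : J → M)
    (hann : ∀ j (r : R), r • x j = 0 ↔ r ∈ 𝔭)
    (hind : ∀ c : J → R, ∑ j, c j • x j = 0 → ∀ j, c j • x j = 0) :
    Fintype.card J ≤ G.card := by
  classical
  have hx : ∀ j, x j ∈ torsionBySet R M (𝔭 : Set R) := by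
    intro j
    rw [mem_torsionBySet_iff]
    rintro ⟨a, ha⟩
    exact (hann j a).mpr ha
  have hli := li_aux 𝔭 x hann hind hx
  have hwcard : (Finset.subtype (· ∈ torsionBySet R M (𝔭 : Set R)) G).card ≤ G.card := by
    rw [Finset.card_subtype]
    exact Finset.card_filter_le _ _
  have hspan := span_aux 𝔭 G hG
  have hrange : Set.range (fun j => (⟨x j, hx j⟩ : torsionBySet R M (𝔭 : Set R))) ⊆
      ((span (R ⧸ 𝔭) ((Finset.subtype (· ∈ torsionBySet R M (𝔭 : Set R)) G :
          Finset (torsionBySet R M (𝔭 : Set R))) : Set (torsionBySet R M (𝔭 : Set R))) :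
        Submodule (R ⧸ 𝔭) (torsionBySet R M (𝔭 : Set R))) :
        Set (torsionBySet R M (𝔭 : Set R))) := by
    rintro _ ⟨j, rfl⟩
    exact hspan (x j) (hG ▸ hx j) (hx j)
  have := linearIndependent_le_span_aux' _ hli _ hrange
  simp only [Finset.coe_sort_coe, Fintype.card_coe] at this
  exact this.trans hwcard

end key

theorem main (R : Type u) [CommRing R] [IsNoetherianRing R]
    (M : Type v) [AddCommGroup M] [Module R M] [Module.Finite R M] :
    ∃ n : ℕ, ∀ (ι : Type w) [DecidableEq ι] (N : ι → Submodule R M), DirectSum.IsInternal N →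
      ∃ s : Finset ι, s.card ≤ n ∧ ∀ i, N i ≠ ⊥ → i ∈ s := by
  classical
  have hfin := associatedPrimes.finite R M
  choose G hG using fun 𝔭 : Ideal R =>
    (IsNoetherian.noetherian (torsionBySet R M (𝔭 : Set R)))
  refine ⟨∑ 𝔭 ∈ hfin.toFinset, (G 𝔭).card, ?_⟩
  intro ι _ N hN
  have key : ∀ i, N i ≠ ⊥ → ∃ (𝔭 : Ideal R) (y : M), 𝔭 ∈ associatedPrimes R M ∧ 𝔭.IsPrime ∧
      y ∈ N i ∧ ∀ r : R, r • y = 0 ↔ r ∈ 𝔭 := by
    intro i hi
    have : Nontrivial (N i) := (Submodule.nontrivial_iff_ne_bot).mpr hi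
    obtain ⟨𝔭, h𝔭⟩ := associatedPrimes.nonempty R (N i)
    have h𝔭M : 𝔭 ∈ associatedPrimes R M :=
      associatedPrimes.subset_of_injective (f := (N i).subtype) (N i).injective_subtype h𝔭
    obtain ⟨hprime, y, hy⟩ := (isAssociatedPrime_iff (I := 𝔭) (M := N i)).mp h𝔭
    refine ⟨𝔭, y.1, h𝔭M, hprime, y.2, fun r => ?_⟩
    rw [hy, mem_colon_singleton, mem_bot]
    constructor
    · intro h
      apply Subtype.ext
      simpa using h
    · intro h
      have := congrArg Subtype.val h
      simpa using this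
  choose! P y hP using key
  -- bound for finite subsets
  have claim : ∀ s : Finset ι, (∀ i ∈ s, N i ≠ ⊥) → s.card ≤ ∑ 𝔭 ∈ hfin.toFinset, (G 𝔭).card := by
    intro s hs
    rw [Finset.card_eq_sum_card_fiberwise (f := P) (t := hfin.toFinset)]
    · refine Finset.sum_le_sum fun 𝔭 h𝔭 => ?_
      set s' := s.filter (fun i => P i = 𝔭) with hs'
      have hprime : 𝔭.IsPrime := by
        rw [Set.Finite.mem_toFinset] at h𝔭
        exact h𝔭.isPrime
      have hmem : ∀ j : s', N j.1 ≠ ⊥ := fun j => hs _ (Finset.mem_filter.mp j.2).1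
      have hPj : ∀ j : s', P j.1 = 𝔭 := fun j => (Finset.mem_filter.mp j.2).2
      have := card_le_of_indep 𝔭 (G 𝔭) (hG 𝔭) (J := s') (fun j => y j.1)
        (fun j r => by rw [(hP j.1 (hmem j)).2.2.2 r, hPj j])
        (by
          intro c hc j
          -- use injectivity of the direct sum map
          set d : DirectSum ι (fun i => N i) :=
            ∑ j : s', DirectSum.of (fun i => N i) j.1
              ⟨c j • y j.1, (N j.1).smul_mem _ (hP j.1 (hmem j)).2.2.1⟩ with hd
          have hd0 : DirectSum.coeLinearMap N d = 0 := by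
            rw [hd, map_sum]
            simp only [DirectSum.coeLinearMap_of]
            exact hc
          have hinj := hN.injective
          have hdz : d = 0 := by
            apply hinj
            rw [map_zero]
            exact hd0
          have hcomp : d j.1 = ⟨c j • y j.1, (N j.1).smul_mem _ (hP j.1 (hmem j)).2.2.1⟩ := by
            rw [hd, DirectSum.sum_apply]
            rw [Finset.sum_eq_single j]
            · exact DirectSum.of_eq_same _ _
            · intro k _ hk
              apply DirectSum.of_eq_of_ne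
              intro h
              exact hk (Subtype.ext h.symm)
            · intro h; exact absurd (Finset.mem_univ j) h
          rw [hdz] at hcomp
          have := congrArg Subtype.val hcomp
          simpa using this.symm)
      simpa using this
    · intro i hi
      rw [Finset.mem_coe, Set.Finite.mem_toFinset]
      exact (hP i (hs i hi)).1
  -- the set of nonzero summands is finite
  have hZfin : {i | N i ≠ ⊥}.Finite := by
    by_contra hinf
    obtain ⟨s, hsZ, hscard⟩ := Set.Infinite.exists_subset_card_eq hinf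
      (∑ 𝔭 ∈ hfin.toFinset, (G 𝔭).card + 1)
    have := claim s (fun i hi => hsZ hi)
    omega
  refine ⟨hZfin.toFinset, claim _ (fun i hi => by simpa using hi), fun i hi => by simpa using hi⟩

end Groth.Agent.Helper8.SummandBound
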