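import Mathlib

namespace Groth.Agent.Helper8.SymPow

open scoped TensorProduct
open PiTensorProduct

universe u

variable {k V : Type u} [Field k] [AddCommGroup V] [Module k V] {m : ℕ}
variable {I : Type u} (b : Module.Basis I k V)

/-- the basis of the tensor power -/
noncomputable abbrev B : Module.Basis (Fin m → I) k (⨂[k] _ : Fin m, V) :=
  Basis.piTensorProduct (fun _ : Fin m => b)

lemma B_apply (f : Fin m → I) : B b f = tprod k (fun i => b (f i)) := by
  simp [B]

/-- action of `reindex` on coordinates -/
lemma repr_reindex (σ : Equiv.Perm (Fin m)) (x : ⨂[k] _ : Fin m, V) (f : Fin m → I) :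
    (B b).repr (PiTensorProduct.reindex k (fun _ : Fin m => V) σ x) f = (B b).repr x (f ∘ σ) := by
  classical
  let L1 : (⨂[k] _ : Fin m, V) →ₗ[k] k :=
    (Finsupp.lapply f) ∘ₗ (B b).repr.toLinearMap ∘ₗ
      (PiTensorProduct.reindex k (fun _ : Fin m => V) σ).toLinearMap
  let L2 : (⨂[k] _ : Fin m, V) →ₗ[k] k :=
    (Finsupp.lapply (f ∘ σ)) ∘ₗ (B b).repr.toLinearMap
  have : L1 = L2 := by
    apply (B b).ext
    intro g
    simp only [L1, L2, LinearMap.comp_apply, LinearEquiv.coe_coe, Finsupp.lapply_apply]
    rw [B_apply, PiTensorProduct.reindex_tprod, ← B_apply b g]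
    have : (tprod k fun i => b (g (σ.symm i))) = B b (g ∘ σ.symm) := by
      rw [B_apply]; rfl
    rw [this, Module.Basis.repr_self, Module.Basis.repr_self, Finsupp.single_apply,
      Finsupp.single_apply]
    congr 1
    apply propext
    constructor
    · intro h; rw [← h]; funext i; simp
    · intro h; rw [h]; funext i; simp
  exact LinearMap.congr_fun this x

/-- content of an index function -/
noncomputable def content (f : Fin m → I) : I →₀ ℕ := ∑ i, Finsupp.single (f i) 1

lemma content_apply [DecidableEq I] (f : Fin m → I) (j : I) :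
    content f j = (Finset.univ.filter (fun i => f i = j)).card := by
  unfold content
  rw [Finsupp.finset_sum_apply, Finset.card_filter]
  apply Finset.sum_congr rfl
  intro i _
  rw [Finsupp.single_apply]

lemma exists_perm_of_content_eq (f g : Fin m → I) (h : content f = content g) :
    ∃ σ : Equiv.Perm (Fin m), g ∘ σ = f := by
  classical
  have e : ∀ j : I, {i // f i = j} ≃ {i // g i = j} := by
    intro j
    apply Fintype.equivOfCardEq
    rw [Fintype.card_subtype, Fintype.card_subtype]
    have h1 := content_apply f j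
    have h2 := content_apply g j
    rw [h] at h1
    exact h1.symm.trans h2
  exact ⟨Equiv.ofFiberEquiv e, funext fun i => Equiv.ofFiberEquiv_map e i⟩

lemma monomial_content (f : Fin m → I) (a : k) :
    MvPolynomial.monomial (content f) a = MvPolynomial.C a * ∏ i, MvPolynomial.X (f i) := by
  unfold content
  rw [MvPolynomial.monomial_sum_index]
  rfl

/-- expansion of a pure power -/
lemma tprod_sum_expand [DecidableEq I] (J : Finset I) (t : I → k) :
    tprod k (fun _ : Fin m => ∑ j ∈ J, t j • b j) =
      ∑ f ∈ Fintype.piFinset (fun _ : Fin m => J), (∏ i, t (f i)) • B b f := by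
  rw [MultilinearMap.map_sum_finset (tprod k) (fun (_ : Fin m) (j : I) => t j • b j)
    (fun _ => J)]
  apply Finset.sum_congr rfl
  intro f _
  rw [MultilinearMap.map_smul_univ, B_apply]

variable [Infinite k]

include b in
theorem main_basis (x : ⨂[k] _ : Fin m, V)
    (hx : ∀ σ : Equiv.Perm (Fin m), PiTensorProduct.reindex k (fun _ : Fin m => V) σ x = x) :
    x ∈ Submodule.span k (Set.range fun v : V => PiTensorProduct.tprod k (fun _ : Fin m => v)) := by
  classical
  obtain ⟨W, hW⟩ : ∃ W : Submodule k (⨂[k] _ : Fin m, V), W =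
    Submodule.span k (Set.range fun v : V => PiTensorProduct.tprod k (fun _ : Fin m => v)) :=
    ⟨_, rfl⟩
  rw [← hW, ← Subspace.dualAnnihilator_dualCoannihilator_eq (W := W),
    Submodule.mem_dualCoannihilator]
  intro ℓ hℓ
  rw [Submodule.mem_dualAnnihilator] at hℓ
  obtain ⟨c, hc⟩ : ∃ c, c = (B b).repr x := ⟨_, rfl⟩
  have hsym : ∀ (σ : Equiv.Perm (Fin m)) (f : Fin m → I), c (f ∘ σ) = c f := by
    intro σ f
    rw [hc, ← repr_reindex b σ x f, hx σ]
  let J : Finset I := c.support.biUnion (fun f => Finset.univ.image f)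
  obtain ⟨T, hT⟩ : ∃ T, T = Fintype.piFinset (fun _ : Fin m => J) := ⟨_, rfl⟩
  have hJ : c.support ⊆ T := by
    intro f hf
    rw [hT, Fintype.mem_piFinset]
    intro i
    exact Finset.mem_biUnion.2 ⟨f, hf, Finset.mem_image_of_mem _ (Finset.mem_univ i)⟩
  let P : MvPolynomial I k := ∑ f ∈ T, MvPolynomial.monomial (content f) (ℓ (B b f))
  have hP : P = 0 := by
    apply MvPolynomial.funext
    intro t
    rw [map_zero]
    have h1 := hℓ (tprod k (fun _ : Fin m => ∑ j ∈ J, t j • b j))
      (by rw [hW]; exact Submodule.subset_span ⟨_, rfl⟩)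
    rw [tprod_sum_expand, map_sum, ← hT] at h1
    simp only [P]
    rw [map_sum, ← h1]
    apply Finset.sum_congr rfl
    intro f _
    rw [monomial_content, map_mul, map_prod, MvPolynomial.eval_C, map_smul, smul_eq_mul, mul_comm]
    congr 1
    apply Finset.prod_congr rfl
    intro i _
    rw [MvPolynomial.eval_X]
  have hcoef : ∀ α : I →₀ ℕ, ∑ f ∈ T.filter (fun f => content f = α), ℓ (B b f) = 0 := by
    intro α
    have := congrArg (MvPolynomial.coeff α) hP
    simp only [P, MvPolynomial.coeff_sum, MvPolynomial.coeff_monomial,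
      MvPolynomial.coeff_zero] at this
    rw [Finset.sum_filter]; exact this
  have hxsum : ℓ x = ∑ f ∈ T, c f * ℓ (B b f) := by
    have h1 : x = ∑ f ∈ c.support, c f • B b f := by
      conv_lhs => rw [← (B b).linearCombination_repr x, ← hc]
      rw [Finsupp.linearCombination_apply, Finsupp.sum]
    rw [h1, map_sum]
    rw [Finset.sum_subset hJ]
    · apply Finset.sum_congr rfl
      intro f _
      rw [map_smul, smul_eq_mul]
    · intro f _ hf
      rw [Finsupp.notMem_support_iff.1 hf, zero_smul, map_zero]
  rw [hxsum, ← Finset.sum_fiberwise_of_maps_to (t := T.image content) (g := content)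
    (fun f hf => Finset.mem_image_of_mem _ hf)]
  apply Finset.sum_eq_zero
  intro α _
  rcases (T.filter (fun f => content f = α)).eq_empty_or_nonempty with he | ⟨f₀, hf₀⟩
  · rw [he, Finset.sum_empty]
  · have hconst : ∀ f ∈ T.filter (fun f => content f = α), c f * ℓ (B b f) = c f₀ * ℓ (B b f) := by
      intro f hf
      have h1 : content f = content f₀ := by
        rw [(Finset.mem_filter.1 hf).2, (Finset.mem_filter.1 hf₀).2]
      obtain ⟨σ, hσ⟩ := exists_perm_of_content_eq f f₀ h1
      rw [← hσ, hsym]
    rw [Finset.sum_congr rfl hconst, ← Finset.mul_sum, hcoef, mul_zero]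

theorem main (x : ⨂[k] _ : Fin m, V)
    (hx : ∀ σ : Equiv.Perm (Fin m), PiTensorProduct.reindex k (fun _ : Fin m => V) σ x = x) :
    x ∈ Submodule.span k (Set.range fun v : V => PiTensorProduct.tprod k (fun _ : Fin m => v)) := by
  obtain ⟨s, ⟨b⟩⟩ := Module.Basis.exists_basis k V
  exact main_basis b x hx

end Groth.Agent.Helper8.SymPow
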