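import Mathlib
universe u
open TensorProduct

namespace Groth.Agent.Helper8.SymSm

variable (A : Type u) [CommRing A] (M : Type u) [AddCommGroup M] [Module A M]

local notation "SA" => SymmetricAlgebra A M

/-! ### Forward: smooth ⇒ projective -/

theorem ker_map_sq {F : Type u} [AddCommGroup F] [Module A F]
    [Module Aᵐᵒᵖ F] [IsCentralScalar A F] [Module Aᵐᵒᵖ M] [IsCentralScalar A M] (p : F →ₗ[A] M) :
    (RingHom.ker ((TrivSqZeroExt.map p : TrivSqZeroExt A F →ₐ[A] TrivSqZeroExt A M) :
      TrivSqZeroExt A F →+* TrivSqZeroExt A M)) ^ 2 = ⊥ := by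
  rw [pow_two, eq_bot_iff, Ideal.mul_le]
  intro x hx y hy
  rw [RingHom.mem_ker] at hx hy
  have hx1 : x.fst = 0 := by
    have := congr(TrivSqZeroExt.fst $hx); simpa using this
  have hy1 : y.fst = 0 := by
    have := congr(TrivSqZeroExt.fst $hy); simpa using this
  rw [Ideal.mem_bot]
  ext
  · simp [hx1]
  · simp [hx1, hy1]

theorem map_surjective {F : Type u} [AddCommGroup F] [Module A F]
    [Module Aᵐᵒᵖ F] [IsCentralScalar A F] [Module Aᵐᵒᵖ M] [IsCentralScalar A M] (p : F →ₗ[A] M)
    (hp : Function.Surjective p) :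
    Function.Surjective (TrivSqZeroExt.map p : TrivSqZeroExt A F →ₐ[A] TrivSqZeroExt A M) := by
  intro x
  obtain ⟨y, hy⟩ := hp x.snd
  refine ⟨TrivSqZeroExt.inl x.fst + TrivSqZeroExt.inr y, ?_⟩
  ext <;> simp [hy]

theorem exists_section_of_formallySmooth [Algebra.FormallySmooth A SA]
    [Module Aᵐᵒᵖ M] [IsCentralScalar A M]
    {F : Type u} [AddCommGroup F] [Module A F] [Module Aᵐᵒᵖ F] [IsCentralScalar A F]
    (p : F →ₗ[A] M) (hp : Function.Surjective p) : ∃ s : M →ₗ[A] F, p ∘ₗ s = LinearMap.id := by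
  have hnil : IsNilpotent (RingHom.ker
      ((TrivSqZeroExt.map p : TrivSqZeroExt A F →ₐ[A] TrivSqZeroExt A M) :
        TrivSqZeroExt A F →+* TrivSqZeroExt A M)) :=
    ⟨2, ker_map_sq A M p⟩
  have hsurj := map_surjective A M p hp
  obtain ⟨f, hf⟩ : ∃ f : SA →ₐ[A] TrivSqZeroExt A M,
      ∀ m, f (SymmetricAlgebra.ι A M m) = TrivSqZeroExt.inr m :=
    ⟨SymmetricAlgebra.lift (TrivSqZeroExt.inrHom A M), fun m => by
      rw [SymmetricAlgebra.lift_ι_apply]; rfl⟩
  obtain ⟨L, hL⟩ : ∃ L : SA →ₐ[A] TrivSqZeroExt A F, ∀ x, TrivSqZeroExt.map p (L x) = f x :=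
    ⟨Algebra.FormallySmooth.liftOfSurjective f (TrivSqZeroExt.map p) hsurj hnil,
      Algebra.FormallySmooth.liftOfSurjective_apply f (TrivSqZeroExt.map p) hsurj hnil⟩
  refine ⟨(TrivSqZeroExt.sndHom A F) ∘ₗ L.toLinearMap ∘ₗ SymmetricAlgebra.ι A M, ?_⟩
  ext m
  have := congr(TrivSqZeroExt.snd $(hL (SymmetricAlgebra.ι A M m)))
  simpa [hf] using this

theorem projective_of_formallySmooth [Algebra.FormallySmooth A SA] : Module.Projective A M := by
  let _ : Module Aᵐᵒᵖ M := Module.compHom M ((RingHom.id A).fromOpposite fun _ _ => mul_comm _ _)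
  have : IsCentralScalar A M := ⟨fun _ _ => rfl⟩
  obtain ⟨s, hs⟩ := exists_section_of_formallySmooth A M (Finsupp.linearCombination A id)
    (Finsupp.linearCombination_surjective A Function.surjective_id)
  exact Module.Projective.of_split s _ hs

/-! ### Forward: finite type ⇒ finite -/

theorem exists_finset_mem_adjoin (c : SA) :
    ∃ T : Finset M, c ∈ Algebra.adjoin A (SymmetricAlgebra.ι A M '' (T : Set M)) := by
  classical
  induction c using SymmetricAlgebra.induction with
  | algebraMap r => exact ⟨∅, Subalgebra.algebraMap_mem _ r⟩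
  | ι x => exact ⟨{x}, Algebra.subset_adjoin ⟨x, by simp, rfl⟩⟩
  | mul a b ha hb =>
    obtain ⟨T₁, h₁⟩ := ha
    obtain ⟨T₂, h₂⟩ := hb
    refine ⟨T₁ ∪ T₂, mul_mem ?_ ?_⟩
    · exact Algebra.adjoin_mono (Set.image_mono (by simp)) h₁
    · exact Algebra.adjoin_mono (Set.image_mono (by simp)) h₂
  | add a b ha hb =>
    obtain ⟨T₁, h₁⟩ := ha
    obtain ⟨T₂, h₂⟩ := hb
    refine ⟨T₁ ∪ T₂, add_mem ?_ ?_⟩
    · exact Algebra.adjoin_mono (Set.image_mono (by simp)) h₁
    · exact Algebra.adjoin_mono (Set.image_mono (by simp)) h₂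

theorem exists_finset_adjoin_eq_top [Algebra.FiniteType A SA] :
    ∃ T : Finset M, Algebra.adjoin A (SymmetricAlgebra.ι A M '' (T : Set M)) = ⊤ := by
  classical
  obtain ⟨s, hs⟩ := (Algebra.FiniteType.out : (⊤ : Subalgebra A SA).FG)
  choose T hT using exists_finset_mem_adjoin A M
  refine ⟨s.biUnion T, ?_⟩
  rw [eq_top_iff, ← hs, Algebra.adjoin_le_iff]
  intro c hc
  refine Algebra.adjoin_mono (Set.image_mono ?_) (hT c)
  intro x hx
  simp only [Finset.coe_biUnion, Set.mem_iUnion]
  exact ⟨c, hc, hx⟩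

theorem finite_of_finiteType [Algebra.FiniteType A SA] : Module.Finite A M := by
  obtain ⟨T, hT⟩ := exists_finset_adjoin_eq_top A M
  refine ⟨⟨T, ?_⟩⟩
  set M' : Submodule A M := Submodule.span A (T : Set M) with hM'
  let q : M →ₗ[A] M ⧸ M' := M'.mkQ
  let _ : Module Aᵐᵒᵖ (M ⧸ M') :=
    Module.compHom (M ⧸ M') ((RingHom.id A).fromOpposite fun _ _ => mul_comm _ _)
  have : IsCentralScalar A (M ⧸ M') := ⟨fun _ _ => rfl⟩
  let φ : SA →ₐ[A] TrivSqZeroExt A (M ⧸ M') :=
    SymmetricAlgebra.lift ((TrivSqZeroExt.inrHom A (M ⧸ M')) ∘ₗ q)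
  let ψ : SA →ₐ[A] TrivSqZeroExt A (M ⧸ M') := SymmetricAlgebra.lift 0
  have hφψ : φ = ψ := by
    refine AlgHom.ext_of_adjoin_eq_top hT ?_
    rintro _ ⟨t, ht, rfl⟩
    have : q t = 0 := by
      simp only [q, Submodule.mkQ_apply, Submodule.Quotient.mk_eq_zero]
      exact Submodule.subset_span ht
    simp [φ, ψ, SymmetricAlgebra.lift_ι_apply, this]
  rw [eq_top_iff]
  intro m _
  have h1 := congr($hφψ (SymmetricAlgebra.ι A M m))
  simp only [φ, ψ, SymmetricAlgebra.lift_ι_apply, LinearMap.coe_comp, Function.comp_apply,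
    LinearMap.zero_apply, TrivSqZeroExt.inrHom_apply] at h1
  have h2 : q m = 0 := by
    have := congr(TrivSqZeroExt.snd $h1); simpa using this
  simpa [q, Submodule.Quotient.mk_eq_zero] using h2

/-! ### Backward: projective ⇒ formally smooth -/

theorem formallySmooth_of_projective [Module.Projective A M] : Algebra.FormallySmooth A SA := by
  refine Algebra.FormallySmooth.of_comp_surjective fun B _ _ I _ g => ?_
  obtain ⟨h, hh⟩ := Module.projective_lifting_property (Ideal.Quotient.mkₐ A I).toLinearMap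
    (g.toLinearMap ∘ₗ SymmetricAlgebra.ι A M) (Ideal.Quotient.mkₐ_surjective A I)
  refine ⟨SymmetricAlgebra.lift h, ?_⟩
  apply SymmetricAlgebra.algHom_ext
  ext m
  have := congr($hh m)
  simpa [SymmetricAlgebra.lift_ι_apply] using this

/-! ### Backward: finite projective ⇒ finitely presented -/

/-- A retract of a finitely presented algebra (here: of a polynomial ring) is finitely presented. -/
theorem finitePresentation_of_retract {n : ℕ} {B : Type u} [CommRing B] [Algebra A B]
    (r : MvPolynomial (Fin n) A →ₐ[A] B) (i : B →ₐ[A] MvPolynomial (Fin n) A)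
    (hri : r.comp i = AlgHom.id A B) : Algebra.FinitePresentation A B := by
  have hsurj : Function.Surjective r := fun b => ⟨i b, congr($hri b)⟩
  refine Algebra.FinitePresentation.of_surjective hsurj ?_
  let e : MvPolynomial (Fin n) A →ₐ[A] MvPolynomial (Fin n) A := i.comp r
  let J : Ideal (MvPolynomial (Fin n) A) :=
    Ideal.span (Set.range fun j : Fin n => MvPolynomial.X j - e (MvPolynomial.X j))
  have hJ : ∀ x, x - e x ∈ J := by
    intro x
    induction x using MvPolynomial.induction_on with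
    | C a => simp [e]
    | add p q hp hq =>
      have : p + q - e (p + q) = (p - e p) + (q - e q) := by rw [map_add]; ring
      rw [this]; exact add_mem hp hq
    | mul_X p j hp =>
      have : p * MvPolynomial.X j - e (p * MvPolynomial.X j)
          = (p - e p) * MvPolynomial.X j + e p * (MvPolynomial.X j - e (MvPolynomial.X j)) := by
        rw [map_mul]; ring
      rw [this]
      exact add_mem (Ideal.mul_mem_right _ _ hp)
        (Ideal.mul_mem_left _ _ (Ideal.subset_span ⟨j, rfl⟩))
  have hker : RingHom.ker r.toRingHom = J := by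
    apply le_antisymm
    · intro x hx
      have hx' : r x = 0 := hx
      have : e x = 0 := by simp [e, hx']
      have h := hJ x
      rwa [this, sub_zero] at h
    · rw [Ideal.span_le]
      rintro _ ⟨j, rfl⟩
      change r _ = 0
      have : r (i (r (MvPolynomial.X j))) = r (MvPolynomial.X j) := congr($hri (r (MvPolynomial.X j)))
      simp [e, this]
  rw [hker]
  exact Submodule.fg_span (Set.finite_range _)

theorem finitePresentation_of_finite_projective [Module.Finite A M] [Module.Projective A M] :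
    Algebra.FinitePresentation A SA := by
  obtain ⟨n, f, g, -, -, hfg⟩ := Module.Finite.exists_comp_eq_id_of_projective A M
  let b : Module.Basis (Fin n) A (Fin n → A) := Pi.basisFun A (Fin n)
  let E := SymmetricAlgebra.equivMvPolynomial b
  let Sf : SymmetricAlgebra A (Fin n → A) →ₐ[A] SA :=
    SymmetricAlgebra.lift (SymmetricAlgebra.ι A M ∘ₗ f)
  let Sg : SA →ₐ[A] SymmetricAlgebra A (Fin n → A) :=
    SymmetricAlgebra.lift (SymmetricAlgebra.ι A (Fin n → A) ∘ₗ g)
  have hSfg : Sf.comp Sg = AlgHom.id A SA := by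
    apply SymmetricAlgebra.algHom_ext
    ext m
    have := congr($hfg m)
    simp only [LinearMap.coe_comp, Function.comp_apply, LinearMap.id_coe, id_eq] at this
    simp [Sf, Sg, SymmetricAlgebra.lift_ι_apply, this]
  refine finitePresentation_of_retract A (Sf.comp E.symm.toAlgHom) (E.toAlgHom.comp Sg) ?_
  refine AlgHom.ext fun c => ?_
  have := congr($hSfg c)
  simpa using this

theorem s2094 :
    Algebra.Smooth A (SymmetricAlgebra A M) ↔ Module.Finite A M ∧ Module.Projective A M := by
  constructor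
  · intro h
    have h1 : Algebra.FormallySmooth A SA := h.formallySmooth
    have h2 : Algebra.FinitePresentation A SA := h.finitePresentation
    have h3 : Algebra.FiniteType A SA := inferInstance
    exact ⟨finite_of_finiteType A M, projective_of_formallySmooth A M⟩
  · rintro ⟨h1, h2⟩
    exact ⟨formallySmooth_of_projective A M, finitePresentation_of_finite_projective A M⟩

end Groth.Agent.Helper8.SymSm
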