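import Mathlib
import Groth.Agent.Helper8.Obs5
set_option autoImplicit false
universe u v

namespace Groth.Agent.Helper8.T1
open ArtFun ArtFun.Art IsLocalRing CategoryTheory MvPowerSeries Groth.Agent.Helper8.Schl Groth.Agent.Helper8.Obs

variable {k : Type u} [Field k] {d : ℕ}

/-- power series of order at least `N` -/
def ordIdeal (N : ℕ) : Ideal (MvPowerSeries (Fin d) k) where
  carrier := {g | (N : ℕ∞) ≤ g.order}
  add_mem' := fun {a b} ha hb => le_trans (le_min ha hb) min_order_le_add
  zero_mem' := by
    change (N : ℕ∞) ≤ (0 : MvPowerSeries (Fin d) k).order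
    rw [order_zero]; exact le_top
  smul_mem' := fun c g hg => by
    change (N : ℕ∞) ≤ (c * g).order
    exact le_trans (le_trans hg le_add_self) le_order_mul

theorem mem_ordIdeal {N : ℕ} {g : MvPowerSeries (Fin d) k} : g ∈ ordIdeal N ↔ (N : ℕ∞) ≤ g.order := Iff.rfl

theorem maximalIdeal_le_ordIdeal : maximalIdeal (MvPowerSeries (Fin d) k) ≤ ordIdeal 1 := by
  intro g hg
  rw [ps_mem_maximalIdeal_iff, IsLocalRing.maximalIdeal_eq_bot, Ideal.mem_bot] at hg
  rw [mem_ordIdeal]
  exact_mod_cast one_le_order_iff_constCoeff_eq_zero.2 hg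

theorem ordIdeal_mul_le (a b : ℕ) : (ordIdeal a * ordIdeal b : Ideal (MvPowerSeries (Fin d) k)) ≤ ordIdeal (a + b) := by
  rw [Ideal.mul_le]
  intro f hf g hg
  rw [mem_ordIdeal] at hf hg ⊢
  refine le_trans ?_ le_order_mul
  push_cast
  exact add_le_add hf hg

theorem pow_le_ordIdeal (N : ℕ) : maximalIdeal (MvPowerSeries (Fin d) k) ^ N ≤ ordIdeal N := by
  induction N with
  | zero =>
    intro g _
    rw [mem_ordIdeal]
    exact bot_le
  | succ N ih =>
    rw [pow_succ]
    exact (Ideal.mul_mono ih maximalIdeal_le_ordIdeal).trans (ordIdeal_mul_le N 1)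

/-- in characteristic zero the order is detected by the partial derivatives -/
theorem order_succ_le [CharZero k] (N : ℕ) (hN : 1 ≤ N) (g : MvPowerSeries (Fin d) k)
    (hg : (N : ℕ∞) ≤ g.order) (hd : ∀ i, (N : ℕ∞) ≤ (pderiv k i g).order) :
    ((N + 1 : ℕ) : ℕ∞) ≤ g.order := by
  apply nat_le_order
  intro e he
  by_cases h1 : Finsupp.degree e < N
  · exact coeff_of_lt_order (lt_of_lt_of_le (by exact_mod_cast h1) hg)
  · have hdeg : Finsupp.degree e = N := by omega
    have hne : e ≠ 0 := by
      intro h0
      rw [h0, map_zero] at hdeg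
      omega
    obtain ⟨i, hi⟩ : ∃ i, e i ≠ 0 := by
      by_contra hcon
      push Not at hcon
      exact hne (Finsupp.ext hcon)
    have hle : Finsupp.single i 1 ≤ e := Finsupp.single_le_iff.2 (Nat.one_le_iff_ne_zero.2 hi)
    have hsplit : e - Finsupp.single i 1 + Finsupp.single i 1 = e := tsub_add_cancel_of_le hle
    have hdeg' : Finsupp.degree (e - Finsupp.single i 1) < N := by
      have := congrArg Finsupp.degree hsplit
      rw [map_add, Finsupp.degree_single, hdeg] at this
      omega
    have h2 : coeff (e - Finsupp.single i 1) (pderiv k i g) = 0 :=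
      coeff_of_lt_order (lt_of_lt_of_le (by exact_mod_cast hdeg') (hd i))
    rw [coeff_pderiv, hsplit] at h2
    rcases mul_eq_zero.1 h2 with h3 | h3
    · exact h3
    · exfalso
      exact Nat.cast_add_one_ne_zero _ h3

end Groth.Agent.Helper8.T1

namespace Groth.Agent.Helper8.T1
open ArtFun ArtFun.Art IsLocalRing CategoryTheory MvPowerSeries Groth.Agent.Helper8.Schl Groth.Agent.Helper8.Obs

variable {k : Type u} [Field k] {d : ℕ}

section Chain

variable {A : Art k k} {M : Type u} [AddCommGroup M] [Module A M] [Module k M] [IsScalarTower k A M]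
  (a : MvPowerSeries (Fin d) k →ₐ[k] A) (δ : MvPowerSeries (Fin d) k →ₗ[k] M)

/-- the defect of the chain rule, as a linear map -/
noncomputable def defectL : MvPowerSeries (Fin d) k →ₗ[k] M :=
  δ - ∑ l, ((LinearMap.toSpanSingleton A M (δ (X l))).restrictScalars k).comp
    (a.toLinearMap.comp (pderiv k l).toLinearMap)

theorem defectL_apply (g : MvPowerSeries (Fin d) k) :
    defectL a δ g = δ g - ∑ l, a (pderiv k l g) • δ (X l) := by
  unfold defectL
  rw [LinearMap.sub_apply, LinearMap.sum_apply]
  rfl

variable (hδ : ∀ g h, δ (g * h) = a g • δ h + a h • δ g)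
include hδ

theorem delta_one : δ 1 = 0 := by
  have h := hδ 1 1
  rw [mul_one, map_one a, one_smul] at h
  have : δ 1 + 0 = δ 1 + δ 1 := by rw [add_zero]; exact h
  exact (add_left_cancel this).symm

theorem delta_C (c : k) : δ (C c) = 0 := by
  have : (C c : MvPowerSeries (Fin d) k) = c • 1 := by
    rw [c_eq_algebraMap, Algebra.algebraMap_eq_smul_one]
  rw [this, map_smul, delta_one a δ hδ, smul_zero]

theorem defectL_C (c : k) : defectL a δ (C c) = 0 := by
  rw [defectL_apply, delta_C a δ hδ]
  simp only [pderiv_C, map_zero, zero_smul, Finset.sum_const_zero, sub_zero]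

omit hδ in
theorem defectL_X (l₀ : Fin d) : defectL a δ (X l₀) = 0 := by
  classical
  rw [defectL_apply, sub_eq_zero]
  rw [Finset.sum_eq_single l₀]
  · rw [pderiv_X_self, map_one, one_smul]
  · intro l _ hl
    rw [pderiv_X_of_ne (Ne.symm hl), map_zero, zero_smul]
  · intro h
    exact absurd (Finset.mem_univ _) h

theorem defectL_mul (g h : MvPowerSeries (Fin d) k) :
    defectL a δ (g * h) = a g • defectL a δ h + a h • defectL a δ g := by
  rw [defectL_apply, defectL_apply, defectL_apply, hδ, smul_sub, smul_sub, Finset.smul_sum,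
    Finset.smul_sum]
  have h1 : ∀ l, a (pderiv k l (g * h)) • δ (X l) =
      a g • (a (pderiv k l h) • δ (X l)) + a h • (a (pderiv k l g) • δ (X l)) := by
    intro l
    rw [Derivation.leibniz, map_add, smul_eq_mul, smul_eq_mul, map_mul, map_mul, add_smul, mul_smul,
      mul_smul]
  rw [Finset.sum_congr rfl (fun l _ => h1 l), Finset.sum_add_distrib]
  abel

theorem defectL_mem (j : ℕ) : ∀ g : MvPowerSeries (Fin d) k,
    defectL a δ g ∈ (maximalIdeal A ^ j) • (⊤ : Submodule A M) := by
  induction j with
  | zero =>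
    intro g
    rw [pow_zero, Ideal.one_eq_top, Submodule.top_smul]
    trivial
  | succ j ih =>
    intro g
    obtain ⟨G, hG, -⟩ := Groth.Agent.Helper5.MvPSIdeal.exists_decomp (g - C (constantCoeff g))
      (by rw [map_sub, constantCoeff_C, sub_self])
    have hg : g = C (constantCoeff g) + ∑ i, X i * G i := by rw [← hG]; ring
    rw [hg, map_add, defectL_C a δ hδ, zero_add, map_sum]
    refine Submodule.sum_mem _ fun i _ => ?_
    rw [defectL_mul a δ hδ, defectL_X, smul_zero, add_zero, pow_succ', Submodule.mul_smul]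
    exact Submodule.smul_mem_smul
      (algHom_mem_maximalIdeal a (ps_X_mem_maximalIdeal (baseCRing algebraMap_self_surjective) d i)) (ih _)

/-- the chain rule for derivations from a power series ring to a module over an Artinian ring -/
theorem chain_rule (g : MvPowerSeries (Fin d) k) :
    δ g = ∑ l, a (pderiv k l g) • δ (X l) := by
  obtain ⟨n, hn⟩ := Groth.Agent.Helper6.exists_maximalIdeal_pow_eq_bot A
  have h := defectL_mem a δ hδ n g
  rw [hn, Submodule.bot_smul, Submodule.mem_bot, defectL_apply, sub_eq_zero] at h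
  exact h

end Chain

end Groth.Agent.Helper8.T1
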