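import Mathlib
import Groth.Agent.Helper8.T1a
set_option autoImplicit false
universe u v

namespace Groth.Agent.Helper8.T1
open ArtFun ArtFun.Art IsLocalRing CategoryTheory MvPowerSeries Groth.Agent.Helper8.Schl Groth.Agent.Helper8.Obs

variable {k : Type u} [Field k] {d : ℕ}

section Tsze

variable {S : Type u} [CommRing S] [Algebra k S]
  {A : Type u} [CommRing A] [Algebra k A]
  {M : Type u} [AddCommGroup M] [Module A M] [Module Aᵐᵒᵖ M] [IsCentralScalar A M] [Module k M]
  [IsScalarTower k A M] [IsScalarTower k Aᵐᵒᵖ M]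

theorem der_one (a : S →ₐ[k] A) (δ : S →ₗ[k] M) (hδ : ∀ g h, δ (g * h) = a g • δ h + a h • δ g) :
    δ 1 = 0 := by
  have h := hδ 1 1
  rw [mul_one, map_one a, one_smul] at h
  have : δ 1 + 0 = δ 1 + δ 1 := by rw [add_zero]; exact h
  exact (add_left_cancel this).symm

/-- the algebra map into a trivial square-zero extension given by a ring map and a derivation over it -/
noncomputable def mkHom (a : S →ₐ[k] A) (δ : S →ₗ[k] M) (hδ : ∀ g h, δ (g * h) = a g • δ h + a h • δ g) :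
    S →ₐ[k] TrivSqZeroExt A M where
  toFun s := TrivSqZeroExt.inl (a s) + TrivSqZeroExt.inr (δ s)
  map_one' := by
    rw [map_one, der_one a δ hδ, TrivSqZeroExt.inr_zero, add_zero, TrivSqZeroExt.inl_one]
  map_mul' x y := by
    apply TrivSqZeroExt.ext
    · simp only [TrivSqZeroExt.fst_add, TrivSqZeroExt.fst_inl, TrivSqZeroExt.fst_inr, add_zero,
        TrivSqZeroExt.fst_mul, map_mul]
    · simp only [TrivSqZeroExt.snd_add, TrivSqZeroExt.snd_inl, TrivSqZeroExt.snd_inr, zero_add,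
        TrivSqZeroExt.snd_mul, TrivSqZeroExt.fst_add, TrivSqZeroExt.fst_inl, TrivSqZeroExt.fst_inr,
        add_zero, op_smul_eq_smul]
      exact hδ x y
  map_zero' := by
    rw [map_zero, map_zero, TrivSqZeroExt.inr_zero, add_zero, TrivSqZeroExt.inl_zero]
  map_add' x y := by
    rw [map_add, map_add, TrivSqZeroExt.inl_add, TrivSqZeroExt.inr_add]
    abel
  commutes' c := by
    have h1 : δ (algebraMap k S c) = 0 := by
      rw [Algebra.algebraMap_eq_smul_one, map_smul, der_one a δ hδ, smul_zero]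
    rw [h1, TrivSqZeroExt.inr_zero, add_zero, a.commutes, TrivSqZeroExt.algebraMap_eq_inl']

theorem mkHom_fst (a : S →ₐ[k] A) (δ : S →ₗ[k] M) (hδ : ∀ g h, δ (g * h) = a g • δ h + a h • δ g) (s : S) :
    (mkHom a δ hδ s).fst = a s := by
  change (TrivSqZeroExt.inl (a s) + TrivSqZeroExt.inr (δ s) : TrivSqZeroExt A M).fst = a s
  rw [TrivSqZeroExt.fst_add, TrivSqZeroExt.fst_inl, TrivSqZeroExt.fst_inr, add_zero]

theorem mkHom_snd (a : S →ₐ[k] A) (δ : S →ₗ[k] M) (hδ : ∀ g h, δ (g * h) = a g • δ h + a h • δ g) (s : S) :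
    (mkHom a δ hδ s).snd = δ s := by
  change (TrivSqZeroExt.inl (a s) + TrivSqZeroExt.inr (δ s) : TrivSqZeroExt A M).snd = δ s
  rw [TrivSqZeroExt.snd_add, TrivSqZeroExt.snd_inl, TrivSqZeroExt.snd_inr, zero_add]

/-- the derivation part of an algebra map into a trivial square-zero extension -/
noncomputable def sndL (ψ : S →ₐ[k] TrivSqZeroExt A M) : S →ₗ[k] M where
  toFun s := (ψ s).snd
  map_add' x y := by rw [map_add, TrivSqZeroExt.snd_add]
  map_smul' c x := by rw [map_smul, TrivSqZeroExt.snd_smul]; rfl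

theorem sndL_mul (ψ : S →ₐ[k] TrivSqZeroExt A M) (x y : S) :
    sndL ψ (x * y) = (ψ x).fst • sndL ψ y + (ψ y).fst • sndL ψ x := by
  change (ψ (x * y)).snd = (ψ x).fst • (ψ y).snd + (ψ y).fst • (ψ x).snd
  rw [map_mul, TrivSqZeroExt.snd_mul, op_smul_eq_smul]

end Tsze

end Groth.Agent.Helper8.T1

namespace Groth.Agent.Helper8.T1
open ArtFun ArtFun.Art IsLocalRing CategoryTheory MvPowerSeries Groth.Agent.Helper8.Schl Groth.Agent.Helper8.Obs

variable {k : Type u} [Field k] {d : ℕ}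

/-- the `T¹`-lifting property of a `k`-algebra -/
def T1Prop (S : Type u) [CommRing S] [Algebra k S] : Prop :=
  ∀ (A : ArtFun.Art k k) (M M' : Type u) [AddCommGroup M] [Module (↥A) M] [Module (↥A)ᵐᵒᵖ M]
    [IsCentralScalar (↥A) M] [Module k M] [IsScalarTower k (↥A) M] [IsScalarTower k (↥A)ᵐᵒᵖ M]
    [AddCommGroup M'] [Module (↥A) M'] [Module (↥A)ᵐᵒᵖ M'] [IsCentralScalar (↥A) M'] [Module k M']
    [IsScalarTower k (↥A) M'] [IsScalarTower k (↥A)ᵐᵒᵖ M'] (f : M' →ₗ[↥A] M),
    Function.Surjective f →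
      ∀ φ : S →ₐ[k] TrivSqZeroExt (↥A) M,
        ∃ ψ : S →ₐ[k] TrivSqZeroExt (↥A) M',
          ∀ r : S, (ψ r).fst = (φ r).fst ∧ f (ψ r).snd = (φ r).snd

/-- power series rings have the `T¹`-lifting property -/
theorem t1Prop_ps : T1Prop (k := k) (MvPowerSeries (Fin d) k) := by
  intro A M M' _ _ _ _ _ _ _ _ _ _ _ _ _ _ f hf φ
  let a : MvPowerSeries (Fin d) k →ₐ[k] A := (TrivSqZeroExt.fstHom k A M).comp φ
  have ha : ∀ g, a g = (φ g).fst := fun g => rfl
  have hδ : ∀ g h, sndL φ (g * h) = a g • sndL φ h + a h • sndL φ g := fun g h => sndL_mul φ g h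
  choose m' hm' using fun l : Fin d => hf (sndL φ (X l))
  let δ' : MvPowerSeries (Fin d) k →ₗ[k] M' :=
    ∑ l, ((LinearMap.toSpanSingleton A M' (m' l)).restrictScalars k).comp
      (a.toLinearMap.comp (pderiv k l).toLinearMap)
  have hδ'app : ∀ g, δ' g = ∑ l, a (pderiv k l g) • m' l := by
    intro g
    change (∑ l, ((LinearMap.toSpanSingleton A M' (m' l)).restrictScalars k).comp
      (a.toLinearMap.comp (pderiv k l).toLinearMap)) g = _
    rw [LinearMap.sum_apply]
    rfl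
  have hδ' : ∀ g h, δ' (g * h) = a g • δ' h + a h • δ' g := by
    intro g h
    rw [hδ'app, hδ'app, hδ'app, Finset.smul_sum, Finset.smul_sum, ← Finset.sum_add_distrib]
    refine Finset.sum_congr rfl fun l _ => ?_
    rw [Derivation.leibniz, map_add, smul_eq_mul, smul_eq_mul, map_mul, map_mul, add_smul, mul_smul,
      mul_smul]
  refine ⟨mkHom a δ' hδ', fun g => ⟨?_, ?_⟩⟩
  · rw [mkHom_fst]
    rfl
  · rw [mkHom_snd, hδ'app, map_sum]
    have h1 := chain_rule a (sndL φ) hδ g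
    change (φ g).snd = _ at h1
    rw [h1]
    refine Finset.sum_congr rfl fun l _ => ?_
    rw [map_smul, hm']

/-- the `T¹`-lifting property is invariant under isomorphisms -/
theorem t1Prop_of_algEquiv {S S' : Type u} [CommRing S] [Algebra k S] [CommRing S'] [Algebra k S']
    (e : S ≃ₐ[k] S') (h : T1Prop (k := k) S') : T1Prop (k := k) S := by
  intro A M M' _ _ _ _ _ _ _ _ _ _ _ _ _ _ f hf φ
  obtain ⟨ψ, hψ⟩ := h A M M' f hf (φ.comp e.symm.toAlgHom)
  refine ⟨ψ.comp e.toAlgHom, fun r => ?_⟩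
  have := hψ (e r)
  change (ψ (e r)).fst = (φ (e.symm (e r))).fst ∧ f (ψ (e r)).snd = (φ (e.symm (e r))).snd at this
  rw [e.symm_apply_apply] at this
  exact this

end Groth.Agent.Helper8.T1
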