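import Mathlib
import Groth.Agent.Helper8.T1b
set_option autoImplicit false
universe u v

namespace Groth.Agent.Helper8.T1
open ArtFun ArtFun.Art IsLocalRing CategoryTheory MvPowerSeries Groth.Agent.Helper8.Schl Groth.Agent.Helper8.Obs

variable {k : Type u} [Field k] {d : ℕ}

/-- the Artinian quotient `P/(J + 𝔫^(c+1))` -/
theorem exists_quot (J : Ideal (MvPowerSeries (Fin d) k))
    (hJn : J ≤ maximalIdeal (MvPowerSeries (Fin d) k)) (c : ℕ) :
    ∃ (A : Art k k) (a : MvPowerSeries (Fin d) k →ₐ[k] A), Function.Surjective a ∧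
      ∀ f, a f = 0 ↔ ∃ g ∈ J, f - g ∈ maximalIdeal (MvPowerSeries (Fin d) k) ^ (c + 1) := by
  haveI := field_isAdicComplete (k := k)
  have hk := algebraMap_self_surjective (k := k)
  obtain ⟨T', hT'⟩ : ∃ T' : Art k k, T' = (psCRing (baseCRing hk) d).trunc c := ⟨_, rfl⟩
  have hτex : ∃ τ : MvPowerSeries (Fin d) k →ₐ[k] T', Function.Surjective τ ∧
      ∀ f, τ f = 0 ↔ f ∈ maximalIdeal (MvPowerSeries (Fin d) k) ^ (c + 1) := by
    subst hT'
    exact ⟨((psCRing (baseCRing hk) d).truncHom c).1, Ideal.Quotient.mk_surjective,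
      fun f => Ideal.Quotient.eq_zero_iff_mem⟩
  obtain ⟨τ, hτ, hτker⟩ := hτex
  have hK' : Ideal.map τ J ≤ maximalIdeal T' := by
    rw [Ideal.map_le_iff_le_comap]
    intro f hf
    exact algHom_mem_maximalIdeal τ (hJn hf)
  refine ⟨Art.quot T' _ hK', (quotMk T' _ hK').toAlgHom.comp τ,
    (quotMk_surjective T' _ hK').comp hτ, ?_⟩
  intro f
  change Ideal.Quotient.mk _ (τ f) = 0 ↔ _
  rw [Ideal.Quotient.eq_zero_iff_mem, Ideal.mem_map_iff_of_surjective τ hτ]
  constructor
  · rintro ⟨g, hg, hgf⟩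
    exact ⟨g, hg, (hτker _).1 (by rw [map_sub, hgf, sub_self])⟩
  · rintro ⟨g, hg, hfg⟩
    refine ⟨g, hg, ?_⟩
    have := (hτker _).2 hfg
    rw [map_sub, sub_eq_zero] at this
    exact this.symm

/-- partial derivatives map the square of the maximal ideal into the maximal ideal -/
theorem pderiv_mem_of_mem_sq (l : Fin d) {g : MvPowerSeries (Fin d) k}
    (hg : g ∈ maximalIdeal (MvPowerSeries (Fin d) k) ^ 2) :
    pderiv k l g ∈ maximalIdeal (MvPowerSeries (Fin d) k) := by
  rw [pow_two] at hg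
  refine Submodule.mul_induction_on hg ?_ ?_
  · intro x hx y hy
    rw [Derivation.leibniz]
    exact Ideal.add_mem _ (Ideal.mul_mem_right _ _ hx) (Ideal.mul_mem_right _ _ hy)
  · intro x y hx hy
    rw [map_add]
    exact Ideal.add_mem _ hx hy

end Groth.Agent.Helper8.T1

namespace Groth.Agent.Helper8.T1
open ArtFun ArtFun.Art IsLocalRing CategoryTheory MvPowerSeries Groth.Agent.Helper8.Schl Groth.Agent.Helper8.Obs

variable {k : Type u} [Field k] {d : ℕ}

/-- the part of the `T¹`-lifting property that is used: lifting along `A ⊕ A → A ⊕ A/I` -/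
def T1Weak (S : Type u) [CommRing S] [Algebra k S] : Prop :=
  ∀ (A : ArtFun.Art k k) (I : Ideal A) (φ : S →ₐ[k] TrivSqZeroExt (↥A) (↥A ⧸ I)),
    ∃ ψ : S →ₐ[k] TrivSqZeroExt (↥A) (↥A),
      ∀ r : S, (ψ r).fst = (φ r).fst ∧ Submodule.mkQ I (ψ r).snd = (φ r).snd

theorem t1Weak_of_t1Prop {S : Type u} [CommRing S] [Algebra k S] (h : T1Prop (k := k) S) :
    T1Weak (k := k) S :=
  fun A I φ => h A (A ⧸ I) A (Submodule.mkQ I) (Submodule.mkQ_surjective I) φ

/-- under the `T¹`-lifting property the relations of a presentation are stable under partial derivatives,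
modulo any power of the maximal ideal -/
theorem partial_mem {R : Type u} [CommRing R] [Algebra k R] (hT : T1Weak (k := k) R)
    (π : MvPowerSeries (Fin d) k →ₐ[k] R) (hπ : Function.Surjective π)
    (J : Ideal (MvPowerSeries (Fin d) k)) (hker : RingHom.ker π = J)
    (hJ : J ≤ maximalIdeal (MvPowerSeries (Fin d) k) ^ 2) (c : ℕ)
    (g : MvPowerSeries (Fin d) k) (hg : g ∈ J) (i : Fin d) :
    ∃ j ∈ J, pderiv k i g - j ∈ maximalIdeal (MvPowerSeries (Fin d) k) ^ (c + 1) := by
  classical
  have hJn : J ≤ maximalIdeal (MvPowerSeries (Fin d) k) := hJ.trans (Ideal.pow_le_self two_ne_zero)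
  obtain ⟨A, a, ha, ha0⟩ := exists_quot J hJn c
  have haJ : ∀ j ∈ J, a j = 0 := fun j hj =>
    (ha0 j).2 ⟨j, hj, by rw [sub_self]; exact Ideal.zero_mem _⟩
  have hle : RingHom.ker π.toRingHom ≤ RingHom.ker a.toRingHom := fun f hf =>
    haJ f (by rw [← hker]; exact hf)
  obtain ⟨a', ha'⟩ : ∃ a' : R →ₐ[k] A, ∀ f, a' (π f) = a f :=
    ⟨AlgHom.liftOfSurjective π hπ a hle, fun f => AlgHom.liftOfSurjective_apply π hπ a hle f⟩
  obtain ⟨I, hI⟩ : ∃ I : Ideal A, I = Ideal.span {x | ∃ g ∈ J, ∃ l, x = a (pderiv k l g)} := ⟨_, rfl⟩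
  have hgen : ∀ g ∈ J, ∀ l, a (pderiv k l g) ∈ I := fun g hg l => by
    rw [hI]; exact Ideal.subset_span ⟨g, hg, l, rfl⟩
  -- the key containment
  have key : ∀ i₀ : Fin d, ∀ g ∈ J, a (pderiv k i₀ g) ∈ maximalIdeal A * I := by
    intro i₀ g hg
    -- the derivation `R → A/I`
    have hwd : ∀ f f', π f = π f' →
        Ideal.Quotient.mk I (a (pderiv k i₀ f)) = Ideal.Quotient.mk I (a (pderiv k i₀ f')) := by
      intro f f' hff
      rw [Ideal.Quotient.eq, ← map_sub, ← map_sub]
      apply hgen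
      rw [← hker, RingHom.mem_ker, map_sub, hff, sub_self]
    have hinv : ∀ r, π (Function.surjInv hπ r) = r := Function.surjInv_eq hπ
    let D : R →ₗ[k] (A ⧸ I) :=
      { toFun := fun r => Ideal.Quotient.mk I (a (pderiv k i₀ (Function.surjInv hπ r)))
        map_add' := fun x y => by
          rw [← map_add, ← map_add, ← map_add]
          apply hwd
          rw [map_add, hinv, hinv, hinv]
        map_smul' := fun c x => by
          have e1 : c • Ideal.Quotient.mk I (a (pderiv k i₀ (Function.surjInv hπ x))) =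
              Ideal.Quotient.mk I (a (pderiv k i₀ (c • Function.surjInv hπ x))) := by
            rw [Derivation.map_smul, map_smul a]; rfl
          rw [RingHom.id_apply, e1]
          apply hwd
          rw [map_smul, hinv, hinv] }
    have hD : ∀ f, D (π f) = Ideal.Quotient.mk I (a (pderiv k i₀ f)) := fun f =>
      hwd _ _ (hinv (π f))
    have hDmul : ∀ r s, D (r * s) = a' r • D s + a' s • D r := by
      intro r s
      obtain ⟨f, rfl⟩ := hπ r
      obtain ⟨h, rfl⟩ := hπ s
      rw [← map_mul, hD, hD, hD, ha', ha', Derivation.leibniz, map_add, smul_eq_mul, smul_eq_mul,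
        map_mul, map_mul, map_add]
      rfl
    obtain ⟨ψ, hψ⟩ := hT A I (mkHom a' D hDmul)
    have hψ1 : ∀ r, (ψ r).fst = a' r := fun r => by rw [(hψ r).1, mkHom_fst]
    have hψ2 : ∀ r, Ideal.Quotient.mk I ((ψ r).snd) = D r := fun r => by
      have := (hψ r).2
      rw [mkHom_snd] at this
      exact this
    -- the lifted derivation, pulled back to the power series ring
    let δ : MvPowerSeries (Fin d) k →ₗ[k] A := (sndL ψ).comp π.toLinearMap
    have hδapp : ∀ f, δ f = (ψ (π f)).snd := fun f => rfl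
    have hδ : ∀ f h, δ (f * h) = a f • δ h + a h • δ f := by
      intro f h
      change sndL ψ (π (f * h)) = a f • sndL ψ (π h) + a h • sndL ψ (π f)
      rw [map_mul, sndL_mul, hψ1, hψ1, ha', ha']
    have hchain := chain_rule a δ hδ g
    have hδg : δ g = 0 := by
      rw [hδapp]
      have : π g = 0 := RingHom.mem_ker.1 (hker.symm.le hg)
      rw [this, map_zero, TrivSqZeroExt.snd_zero]
    have hX : ∀ l, a (pderiv k i₀ (X l)) - δ (X l) ∈ I := by
      intro l
      rw [← Ideal.Quotient.eq, ← hD, hδapp, hψ2]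
    have hsum : a (pderiv k i₀ g) = ∑ l, a (pderiv k l g) * a (pderiv k i₀ (X l)) := by
      rw [Finset.sum_eq_single i₀]
      · rw [pderiv_X_self, map_one, mul_one]
      · intro l _ hl
        rw [pderiv_X_of_ne hl, map_zero, mul_zero]
      · intro h
        exact absurd (Finset.mem_univ _) h
    have hfinal : a (pderiv k i₀ g) = ∑ l, a (pderiv k l g) * (a (pderiv k i₀ (X l)) - δ (X l)) := by
      have h1 : ∑ l, a (pderiv k l g) * (a (pderiv k i₀ (X l)) - δ (X l)) =
          ∑ l, a (pderiv k l g) * a (pderiv k i₀ (X l)) - ∑ l, a (pderiv k l g) • δ (X l) := by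
        rw [← Finset.sum_sub_distrib]
        refine Finset.sum_congr rfl fun l _ => ?_
        rw [mul_sub, smul_eq_mul]
      rw [h1, ← hchain, hδg, sub_zero, hsum]
    rw [hfinal]
    refine Ideal.sum_mem _ fun l _ => ?_
    exact Ideal.mul_mem_mul (algHom_mem_maximalIdeal a (pderiv_mem_of_mem_sq l (hJ hg))) (hX l)
  -- Nakayama
  have hIm : I ≤ maximalIdeal A • I := by
    intro x hx
    rw [hI] at hx
    rw [smul_eq_mul]
    refine Submodule.span_induction ?_ ?_ ?_ ?_ hx
    · rintro x ⟨g, hg, l, rfl⟩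
      exact key l g hg
    · exact Ideal.zero_mem _
    · intro x y _ _ hx hy
      exact Ideal.add_mem _ hx hy
    · intro r x _ hx
      exact Ideal.mul_mem_left _ r hx
  have hI0 : I = ⊥ := Submodule.eq_bot_of_le_smul_of_le_jacobson_bot (maximalIdeal A) I
    (IsNoetherian.noetherian I) hIm (by rw [IsLocalRing.jacobson_eq_maximalIdeal ⊥ bot_ne_top])
  have h1 : a (pderiv k i g) = 0 := by
    have := hgen g hg i
    rwa [hI0, Ideal.mem_bot] at this
  exact (ha0 _).1 h1

end Groth.Agent.Helper8.T1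

namespace Groth.Agent.Helper8.T1
open ArtFun ArtFun.Art IsLocalRing CategoryTheory MvPowerSeries Groth.Agent.Helper8.Schl Groth.Agent.Helper8.Obs

variable {k : Type u} [Field k] {d : ℕ}

/-- in characteristic zero, a presentation of an algebra with the `T¹`-lifting property has no relations -/
theorem ker_eq_bot_of_t1Prop [CharZero k] {R : Type u} [CommRing R] [Algebra k R] (hT : T1Weak (k := k) R)
    (π : MvPowerSeries (Fin d) k →ₐ[k] R) (hπ : Function.Surjective π)
    (J : Ideal (MvPowerSeries (Fin d) k)) (hker : RingHom.ker π = J)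
    (hJ : J ≤ maximalIdeal (MvPowerSeries (Fin d) k) ^ 2) : J = ⊥ := by
  have hord : ∀ N : ℕ, ∀ g ∈ J, (N : ℕ∞) ≤ g.order := by
    intro N
    induction N with
    | zero =>
      intro g _
      exact bot_le
    | succ N ih =>
      intro g hg
      by_cases hN : N = 0
      · subst hN
        exact maximalIdeal_le_ordIdeal (hJ.trans (Ideal.pow_le_self two_ne_zero) hg)
      · apply order_succ_le N (Nat.one_le_iff_ne_zero.2 hN) g (ih g hg)
        intro i
        obtain ⟨j, hj, hdiff⟩ := partial_mem hT π hπ J hker hJ N g hg i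
        have h1 : (N : ℕ∞) ≤ j.order := ih j hj
        have h2 : (N : ℕ∞) ≤ (pderiv k i g - j).order := by
          have := pow_le_ordIdeal (N + 1) hdiff
          rw [mem_ordIdeal] at this
          refine le_trans ?_ this
          exact_mod_cast Nat.le_succ N
        have h3 : pderiv k i g = (pderiv k i g - j) + j := by ring
        rw [h3]
        exact le_trans (le_min h2 h1) min_order_le_add
  ext g
  constructor
  · intro hg
    rw [Ideal.mem_bot, ← order_eq_top_iff, ENat.eq_top_iff_forall_ge]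
    exact fun N => hord N g hg
  · intro hg
    rw [Ideal.mem_bot.1 hg]
    exact J.zero_mem

theorem s18445 [CharZero k] (R : ArtFun.CRing k k) :
    Nonempty (R.carrier ≃ₐ[k] MvPowerSeries
        (Fin (Module.finrank (IsLocalRing.ResidueField R.carrier) (IsLocalRing.CotangentSpace R.carrier))) k) ↔
      ∀ (A : ArtFun.Art k k) (M M' : Type u) [AddCommGroup M] [Module (↥A) M] [Module (↥A)ᵐᵒᵖ M]
        [IsCentralScalar (↥A) M] [Module k M] [IsScalarTower k (↥A) M] [IsScalarTower k (↥A)ᵐᵒᵖ M]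
        [AddCommGroup M'] [Module (↥A) M'] [Module (↥A)ᵐᵒᵖ M'] [IsCentralScalar (↥A) M'] [Module k M']
        [IsScalarTower k (↥A) M'] [IsScalarTower k (↥A)ᵐᵒᵖ M'] (f : M' →ₗ[↥A] M),
        Function.Surjective f →
          ∀ φ : R.carrier →ₐ[k] TrivSqZeroExt (↥A) M,
            ∃ ψ : R.carrier →ₐ[k] TrivSqZeroExt (↥A) M',
              ∀ r : R.carrier, (ψ r).fst = (φ r).fst ∧ f (ψ r).snd = (φ r).snd := by
  constructor
  · rintro ⟨e⟩
    exact t1Prop_of_algEquiv e t1Prop_ps
  · intro hT
    obtain ⟨d, π, hd, hπ, hJ⟩ : ∃ (d : ℕ) (π : MvPowerSeries (Fin d) k →ₐ[k] R.carrier),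
        d = (maximalIdeal R.carrier).spanFinrank ∧ Function.Surjective π ∧
        RingHom.ker π ≤ maximalIdeal (MvPowerSeries (Fin d) k) ^ 2 := by
      obtain ⟨π, hπ, -, hJ⟩ := exists_presentation R
      exact ⟨_, π, rfl, hπ, hJ⟩
    have h0 := ker_eq_bot_of_t1Prop (R := R.carrier) (t1Weak_of_t1Prop hT) π hπ _ rfl hJ
    have hinj : Function.Injective π := by
      rw [injective_iff_map_eq_zero]
      intro f hf
      have : f ∈ RingHom.ker π := hf
      rw [h0] at this
      exact this
    rw [← IsLocalRing.spanFinrank_maximalIdeal_eq_finrank_cotangentSpace R.carrier, ← hd]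
    exact ⟨(AlgEquiv.ofBijective π ⟨hinj, hπ⟩).symm⟩

end Groth.Agent.Helper8.T1
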