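import Mathlib
import Groth.Agent.Helper8.T1c
import Groth.Agent.Helper8.Schl26
import Groth.Agent.Helper8.Schl7
set_option autoImplicit false
universe u v

namespace Groth.Agent.Helper8.T1
open ArtFun ArtFun.Art IsLocalRing CategoryTheory MvPowerSeries Groth.Agent.Helper8.Schl Groth.Agent.Helper8.Obs

variable {k : Type u} [Field k]

section TszeArt

variable (A : Art k k) (M : Type u) [AddCommGroup M] [Module A M] [Module Aᵐᵒᵖ M] [IsCentralScalar A M]
  [Module k M] [IsScalarTower k A M] [IsScalarTower k Aᵐᵒᵖ M] [Module.Finite A M]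

theorem isLocalRing_tszeA : IsLocalRing (TrivSqZeroExt A M) := by
  refine IsLocalRing.of_isUnit_or_isUnit_one_sub_self fun a => ?_
  rcases IsLocalRing.isUnit_or_isUnit_one_sub_self a.fst with h | h
  · exact Or.inl (TrivSqZeroExt.isUnit_iff_isUnit_fst.2 h)
  · refine Or.inr (TrivSqZeroExt.isUnit_iff_isUnit_fst.2 ?_)
    rw [TrivSqZeroExt.fst_sub, TrivSqZeroExt.fst_one]
    exact h

theorem finite_tszeA : Module.Finite k (TrivSqZeroExt A M) := by
  haveI : Module.Finite k A := art_finite A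
  haveI : Module.Finite k M := Module.Finite.trans A M
  exact inferInstanceAs (Module.Finite k (A × M))

theorem isArtinianRing_tszeA : IsArtinianRing (TrivSqZeroExt A M) :=
  haveI := finite_tszeA A M
  IsArtinianRing.of_finite k _

/-- the trivial square-zero extension `A ⊕ M` as an Artinian local algebra -/
noncomputable def tszeArt : Art k k :=
  { carrier := TrivSqZeroExt A M
    isLocalRing := isLocalRing_tszeA A M
    isArtinianRing := isArtinianRing_tszeA A M
    res := A.res.comp (TrivSqZeroExt.fstHom k A M)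
    res_surjective := fun c => by
      obtain ⟨a, ha⟩ := A.res_surjective c
      exact ⟨TrivSqZeroExt.inl a, ha⟩ }

/-- the projection `A ⊕ M → A` -/
noncomputable def tszeFst : tszeArt A M ⟶ A := ⟨TrivSqZeroExt.fstHom k A M, rfl⟩

/-- the section `A → A ⊕ M` -/
noncomputable def tszeInl : A ⟶ tszeArt A M := ⟨TrivSqZeroExt.inlAlgHom k A M, AlgHom.ext fun _ => rfl⟩

theorem tszeInl_fst : tszeInl A M ≫ tszeFst A M = 𝟙 A := by
  apply Art.hom_ext
  exact AlgHom.ext fun _ => rfl

theorem tsze_mul_eq_zero (x y : TrivSqZeroExt A M) (hx' : x.fst = 0) (hy' : y.fst = 0) : x * y = 0 := by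
  apply TrivSqZeroExt.ext
  · rw [TrivSqZeroExt.fst_mul, hx', zero_mul, TrivSqZeroExt.fst_zero]
  · rw [TrivSqZeroExt.snd_mul, hx', hy', zero_smul, MulOpposite.op_zero, zero_smul, add_zero,
      TrivSqZeroExt.snd_zero]

theorem ker_tszeFst_sq :
    RingHom.ker (tszeFst A M).toAlgHom * RingHom.ker (tszeFst A M).toAlgHom = ⊥ := by
  rw [eq_bot_iff, Ideal.mul_le]
  intro x hx y hy
  rw [Ideal.mem_bot]
  exact tsze_mul_eq_zero A M x y hx hy

end TszeArt

section TszeMap

variable (A : Art k k) {M N : Type u} [AddCommGroup M] [Module A M] [Module Aᵐᵒᵖ M] [IsCentralScalar A M]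
  [Module k M] [IsScalarTower k A M] [IsScalarTower k Aᵐᵒᵖ M] [Module.Finite A M]
  [AddCommGroup N] [Module A N] [Module Aᵐᵒᵖ N] [IsCentralScalar A N]
  [Module k N] [IsScalarTower k A N] [IsScalarTower k Aᵐᵒᵖ N] [Module.Finite A N]

/-- the algebra map `A ⊕ M → A ⊕ N` induced by a linear map -/
noncomputable def tszeMapAlg (f : M →ₗ[A] N) : TrivSqZeroExt A M →ₐ[k] TrivSqZeroExt A N where
  toFun x := (x.fst, f x.snd)
  map_one' := TrivSqZeroExt.ext rfl (by
    change f (1 : TrivSqZeroExt A M).snd = (1 : TrivSqZeroExt A N).snd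
    rw [TrivSqZeroExt.snd_one, TrivSqZeroExt.snd_one, map_zero])
  map_mul' x y := TrivSqZeroExt.ext rfl (by
    change f (x.fst • y.snd + MulOpposite.op y.fst • x.snd) =
      x.fst • f y.snd + MulOpposite.op y.fst • f x.snd
    rw [map_add, map_smul, op_smul_eq_smul, op_smul_eq_smul, map_smul])
  map_zero' := TrivSqZeroExt.ext rfl (by
    change f (0 : TrivSqZeroExt A M).snd = (0 : TrivSqZeroExt A N).snd
    rw [TrivSqZeroExt.snd_zero, TrivSqZeroExt.snd_zero, map_zero])
  map_add' x y := TrivSqZeroExt.ext rfl (by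
    change f (x + y).snd = f x.snd + f y.snd
    rw [TrivSqZeroExt.snd_add, map_add])
  commutes' r := TrivSqZeroExt.ext rfl (by
    change f (algebraMap k (TrivSqZeroExt A M) r).snd = (algebraMap k (TrivSqZeroExt A N) r).snd
    rw [TrivSqZeroExt.algebraMap_eq_inl', TrivSqZeroExt.algebraMap_eq_inl', TrivSqZeroExt.snd_inl,
      TrivSqZeroExt.snd_inl, map_zero])

/-- the map `A ⊕ M → A ⊕ N` induced by a linear map -/
noncomputable def tszeMapA (f : M →ₗ[A] N) : tszeArt A M ⟶ tszeArt A N :=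
  ⟨tszeMapAlg A f, AlgHom.ext fun _ => rfl⟩

theorem tszeMapA_fst (f : M →ₗ[A] N) (x : tszeArt A M) :
    TrivSqZeroExt.fst (tszeMapA A f x) = TrivSqZeroExt.fst (R := A) (M := M) x := rfl

theorem tszeMapA_snd (f : M →ₗ[A] N) (x : tszeArt A M) :
    TrivSqZeroExt.snd (tszeMapA A f x) = f (TrivSqZeroExt.snd (R := A) (M := M) x) := rfl

theorem tszeMapA_comp_fst (f : M →ₗ[A] N) : tszeMapA A f ≫ tszeFst A N = tszeFst A M := by
  apply Art.hom_ext
  exact AlgHom.ext fun _ => rfl

theorem tszeInl_comp_map (f : M →ₗ[A] N) : tszeInl A M ≫ tszeMapA A f = tszeInl A N := by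
  apply Art.hom_ext
  refine AlgHom.ext fun a => ?_
  apply TrivSqZeroExt.ext
  · rfl
  · change f (0 : M) = 0
    exact map_zero f

theorem tszeMapA_surjective (f : M →ₗ[A] N) (hf : Function.Surjective f) :
    Function.Surjective (tszeMapA A f) := by
  intro y
  obtain ⟨m, hm⟩ := hf (TrivSqZeroExt.snd (R := A) (M := N) y)
  refine ⟨(TrivSqZeroExt.fst (R := A) (M := N) y, m), ?_⟩
  apply TrivSqZeroExt.ext
  · rfl
  · exact hm

end TszeMap

end Groth.Agent.Helper8.T1
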