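import Mathlib
import Groth.Agent.Helper8.T1d
set_option autoImplicit false
universe u v

namespace Groth.Agent.Helper8.T1
open ArtFun ArtFun.Art IsLocalRing CategoryTheory MvPowerSeries Groth.Agent.Helper8.Schl Groth.Agent.Helper8.Obs

variable {k : Type u} [Field k]

/-- a `k`-algebra map from a local `k`-algebra with residue field `k` to `k` is the augmentation -/
theorem algHom_eq_res {R : Type u} [CommRing R] [Algebra k R] [IsLocalRing R] (res : R →ₐ[k] k)
    (τ : R →ₐ[k] k) : τ = res := by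
  have hτ : Function.Surjective τ := fun c => ⟨algebraMap k _ c, τ.commutes c⟩
  have hres : Function.Surjective res := fun c => ⟨algebraMap k _ c, res.commutes c⟩
  have hmax : (RingHom.ker (τ : R →+* k)).IsMaximal := RingHom.ker_isMaximal_of_surjective _ hτ
  have hmax' : (RingHom.ker (res : R →+* k)).IsMaximal := RingHom.ker_isMaximal_of_surjective _ hres
  have hker : RingHom.ker (τ : R →+* k) = RingHom.ker (res : R →+* k) :=
    (IsLocalRing.eq_maximalIdeal hmax).trans (IsLocalRing.eq_maximalIdeal hmax').symm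
  refine AlgHom.ext fun f => ?_
  have h1 : f - algebraMap k R (res f) ∈ RingHom.ker (res : R →+* k) := by
    rw [RingHom.mem_ker]
    change res (f - algebraMap k R (res f)) = 0
    rw [map_sub, res.commutes, sub_eq_zero]
    rfl
  rw [← hker, RingHom.mem_ker] at h1
  have h2 : τ (f - algebraMap k R (res f)) = 0 := h1
  rw [map_sub, sub_eq_zero, τ.commutes] at h2
  exact h2

variable {F : Art k k ⥤ Type v}

/-- the hypothesis of the `T¹`-lifting theorem -/
def T1Hyp (F : Art k k ⥤ Type v) : Prop :=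
  ∀ ⦃A A' A'' : ArtFun.Art k k⦄ (π' : A' ⟶ A) (i' : A ⟶ A') (π'' : A'' ⟶ A) (i'' : A ⟶ A'')
    (q : A'' ⟶ A'), i' ≫ π' = 𝟙 A → i'' ≫ π'' = 𝟙 A →
    RingHom.ker π'.toAlgHom * RingHom.ker π'.toAlgHom = ⊥ →
    RingHom.ker π''.toAlgHom * RingHom.ker π''.toAlgHom = ⊥ →
    q ≫ π' = π'' → i'' ≫ q = i' → Function.Surjective q → Function.Surjective (F.map q)

/-- the ring of a versal family of a functor with the `T¹`-lifting property has the weak `T¹`-lifting property -/
theorem t1Weak_of_versal (hT1 : T1Hyp F) (R : CRing k k) (ξ : Family R.carrier R.res F) (hξ : IsVersal ξ) :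
    T1Weak (k := k) R.carrier := by
  intro A I φ
  have hq : Function.Surjective (tszeMapA A (Submodule.mkQ I)) :=
    tszeMapA_surjective A _ (Submodule.mkQ_surjective I)
  have hFq := hT1 (tszeFst A (A ⧸ I)) (tszeInl A (A ⧸ I)) (tszeFst A A) (tszeInl A A)
    (tszeMapA A (Submodule.mkQ I)) (tszeInl_fst A _) (tszeInl_fst A _) (ker_tszeFst_sq A _)
    (ker_tszeFst_sq A _) (tszeMapA_comp_fst A _) (tszeInl_comp_map A _) hq
  obtain ⟨φ', hφ'⟩ : ∃ φ' : HomSet R.carrier R.res (tszeArt A (A ⧸ I)), φ'.1 = φ :=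
    ⟨⟨φ, algHom_eq_res R.res _⟩, rfl⟩
  obtain ⟨y, hy⟩ := hFq (ξ.app _ φ')
  obtain ⟨ψ, hψ, -⟩ := hξ (tszeMapA A (Submodule.mkQ I)) hq φ' y hy
  refine ⟨ψ.1, fun r => ?_⟩
  have h1 : (tszeMapA A (Submodule.mkQ I)) (ψ.1 r) = φ r := by
    rw [← hφ', ← hψ]
    rfl
  constructor
  · rw [← h1]; rfl
  · rw [← h1]; rfl

theorem isSmoothFunctor_of_t1Hyp [CharZero k] [TangentStr F] (h0 : H0 F)
    (hRS : (∀ ⦃B A A' A'' : ArtFun.Art k k⦄ (p' : B ⟶ A') (p'' : B ⟶ A'') (f' : A' ⟶ A) (f'' : A'' ⟶ A)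
        (h : ArtFun.Art.IsFibreProd p' p'' f' f''), Function.Surjective f'' → Function.Bijective (ArtFun.cmp F h)))
    (hfin : Hfin F) (hT1 : T1Hyp F) : IsSmoothFunctor F := by
  haveI := field_isAdicComplete (k := k)
  have hk := algebraMap_self_surjective (k := k)
  have h1 : S1 F := fun B A A' A'' p' p'' f' f'' h hf => (hRS p' p'' f' f'' h hf).2
  have h2 : Heps F := fun B A' p' p'' h => hRS p' p'' _ _ h Groth.Agent.Helper6.dual_toBase_surjective
  obtain ⟨V⟩ := hasVersal h0 h1 h2 hfin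
  obtain ⟨R, ξ, hξ⟩ : ∃ (R : CRing k k) (ξ : Family R.carrier R.res F), IsVersal ξ :=
    ⟨V.ring, V.family, V.versal⟩
  have hT := t1Weak_of_versal hT1 R ξ hξ
  obtain ⟨d, π, hπ, hJ⟩ : ∃ (d : ℕ) (π : MvPowerSeries (Fin d) k →ₐ[k] R.carrier),
      Function.Surjective π ∧ RingHom.ker π ≤ maximalIdeal (MvPowerSeries (Fin d) k) ^ 2 := by
    obtain ⟨π, hπ, -, hJ⟩ := exists_presentation R
    exact ⟨_, π, hπ, hJ⟩
  have hker := ker_eq_bot_of_t1Prop (R := R.carrier) hT π hπ _ rfl hJ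
  have hinj : Function.Injective π := by
    rw [injective_iff_map_eq_zero]
    intro f hf
    have : f ∈ RingHom.ker π := hf
    rw [hker] at this
    exact this
  have hsm : IsSmoothFunctor (hR R.carrier R.res) :=
    (s12722 hk R).2 ⟨d, ⟨(AlgEquiv.ofBijective π ⟨hinj, hπ⟩).symm⟩⟩
  intro B A μ hμ x
  obtain ⟨φ, rfl⟩ := Groth.Agent.Helper6.surjective_app_of_isVersal ξ hξ h0 A x
  obtain ⟨ψ, hψ⟩ : ∃ ψ : HomSet R.carrier R.res B, HomSet.map μ ψ = φ := hsm μ hμ φ
  exact ⟨ξ.app B ψ, (ξ.natural μ ψ).symm.trans (congrArg (ξ.app A) hψ)⟩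

end Groth.Agent.Helper8.T1
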