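import Mathlib
import Groth.Prelude.Def_W4c5t1liftcy3defoArt
import Groth.Agent.Helper8.T1e
set_option autoImplicit false
universe u v

namespace Groth.Agent.Helper8.TL
open ArtFun ArtFun.Art IsLocalRing CategoryTheory Polynomial T1Lift

variable (k : Type u) [Field k]

theorem αAlg_mk (n : ℕ) (p : k[X]) :
    αAlg k n (AdjoinRoot.mk _ p) = AdjoinRoot.mk _ p := by
  rw [← AdjoinRoot.aeval_eq, ← AdjoinRoot.aeval_eq, ← Polynomial.aeval_algHom_apply]
  exact congrArg (fun z => aeval z p) (αAlg_t k n)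

theorem αAlg_surjective (n : ℕ) : Function.Surjective (αAlg k n) := by
  intro a
  obtain ⟨p, rfl⟩ := AdjoinRoot.mk_surjective a
  exact ⟨AdjoinRoot.mk _ p, αAlg_mk k n p⟩

/-- the kernel of `k[t]/(t^(n+2)) → k[t]/(t^(n+1))` is spanned by `t^(n+1)` as a vector space -/
theorem exists_of_αAlg_eq_zero (n : ℕ) (a : Tr k (n + 1)) (ha : αAlg k n a = 0) :
    ∃ c : k, a = c • t k (n + 1) ^ (n + 1) := by
  obtain ⟨p, rfl⟩ := AdjoinRoot.mk_surjective a
  rw [αAlg_mk, AdjoinRoot.mk_eq_zero] at ha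
  obtain ⟨q, rfl⟩ := ha
  refine ⟨q.coeff 0, ?_⟩
  have hq : q = C (q.coeff 0) + X * q.divX := by
    conv_lhs => rw [← X_mul_divX_add q]
    exact add_comm _ _
  have h1 : (X : k[X]) ^ (n + 1) * q = C (q.coeff 0) * X ^ (n + 1) + X ^ (n + 1 + 1) * q.divX := by
    conv_lhs => rw [hq]
    ring
  rw [h1, map_add, map_mul, map_mul, AdjoinRoot.mk_self, zero_mul, add_zero, map_pow, AdjoinRoot.mk_X,
    AdjoinRoot.mk_C, Algebra.smul_def]
  rfl

theorem t_pow_ne_zero (n : ℕ) : t k (n + 1) ^ (n + 1) ≠ 0 := by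
  intro h
  have h1 : AdjoinRoot.mk ((X : k[X]) ^ (n + 1 + 1)) (X ^ (n + 1)) = 0 := by
    rw [map_pow, AdjoinRoot.mk_X]; exact h
  rw [AdjoinRoot.mk_eq_zero, pow_dvd_pow_iff X_ne_zero not_isUnit_X] at h1
  omega

/-- elements of the maximal ideal of `k[t]/(t^(n+1))` are multiples of `t` -/
theorem exists_of_resA_eq_zero (n : ℕ) (a : Tr k n) (ha : resA k n a = 0) : ∃ b : Tr k n, a = t k n * b := by
  obtain ⟨b, hb⟩ := eq_algebraMap_add_t_mul k n a
  refine ⟨b, ?_⟩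
  rw [ha, map_zero, zero_add] at hb
  exact hb

theorem mul_t_pow_eq_zero (n : ℕ) (a : Tr k n) (ha : resA k n a = 0) : a * t k n ^ n = 0 := by
  obtain ⟨b, rfl⟩ := exists_of_resA_eq_zero k n a ha
  rw [mul_comm (t k n) b, mul_assoc, ← pow_succ', t_pow, mul_zero]

theorem α_surjective (n : ℕ) : Function.Surjective (α k n) := αAlg_surjective k n

theorem mul_eq_zero_of_αAlg (n : ℕ) (x y : Tr k (n + 1)) (hx : resA k (n + 1) x = 0)
    (hy : αAlg k n y = 0) : x * y = 0 := by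
  obtain ⟨c, hc⟩ := exists_of_αAlg_eq_zero k n y hy
  rw [hc, mul_smul_comm, mul_t_pow_eq_zero k (n + 1) x hx, smul_zero]

theorem α_isSemismallExt (n : ℕ) : IsSemismallExt (α k n) := by
  refine ⟨α_surjective k n, ?_⟩
  rw [eq_bot_iff, Ideal.mul_le]
  intro x hx y hy
  rw [Ideal.mem_bot]
  exact mul_eq_zero_of_αAlg k n x y (((A k (n + 1)).mem_maximalIdeal_iff x).1 hx) hy

end Groth.Agent.Helper8.TL
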