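import Mathlib
import Groth.Agent.Helper8.TL1
set_option autoImplicit false
universe u v

namespace Groth.Agent.Helper8.TL
open ArtFun ArtFun.Art IsLocalRing CategoryTheory Polynomial T1Lift

variable (k : Type u) [Field k]

section DualWorld

/-- the element `t^(n+1) y` of `B_(n+1)` -/
noncomputable def tny (n : ℕ) : DualNumber (Tr k (n + 1)) := TrivSqZeroExt.inr (t k (n + 1) ^ (n + 1))

theorem mul_tny (n : ℕ) (b : DualNumber (Tr k (n + 1))) :
    b * tny k n = resA k (n + 1) b.fst • tny k n := by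
  obtain ⟨b', hb'⟩ := eq_algebraMap_add_t_mul k (n + 1) b.fst
  apply TrivSqZeroExt.ext
  · rw [TrivSqZeroExt.fst_mul, TrivSqZeroExt.fst_smul, tny, TrivSqZeroExt.fst_inr, mul_zero, smul_zero]
  · rw [TrivSqZeroExt.snd_mul, TrivSqZeroExt.snd_smul, tny, TrivSqZeroExt.snd_inr, TrivSqZeroExt.fst_inr,
      MulOpposite.op_zero, zero_smul, add_zero, smul_eq_mul]
    conv_lhs => rw [hb']
    rw [add_mul, mul_comm (t k (n + 1)) b', mul_assoc, ← pow_succ', t_pow, mul_zero, add_zero,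
      Algebra.smul_def]

theorem eq_smul_tny (n : ℕ) (b : DualNumber (Tr k (n + 1))) (c : k) (h1 : b.fst = 0)
    (h2 : b.snd = c • t k (n + 1) ^ (n + 1)) : b = c • tny k n := by
  apply TrivSqZeroExt.ext
  · rw [TrivSqZeroExt.fst_smul, tny, TrivSqZeroExt.fst_inr, smul_zero, h1]
  · rw [TrivSqZeroExt.snd_smul, tny, TrivSqZeroExt.snd_inr, h2]

theorem fst_smul_tny (n : ℕ) (c : k) : (c • tny k n).fst = 0 := by
  rw [TrivSqZeroExt.fst_smul, tny, TrivSqZeroExt.fst_inr, smul_zero]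

theorem snd_smul_tny (n : ℕ) (c : k) : (c • tny k n).snd = c • t k (n + 1) ^ (n + 1) := by
  rw [TrivSqZeroExt.snd_smul, tny, TrivSqZeroExt.snd_inr]

theorem dualMap_tny (n : ℕ) : dualMap k (αAlg k n) (tny k n) = 0 := by
  apply TrivSqZeroExt.ext
  · change αAlg k n (tny k n).fst = 0
    rw [tny, TrivSqZeroExt.fst_inr, map_zero]
  · change αAlg k n (tny k n).snd = 0
    rw [tny, TrivSqZeroExt.snd_inr, map_pow, αAlg_t, t_pow]

theorem smul_tny_mul (n : ℕ) (x : DualNumber (Tr k (n + 1))) (hx : resA k (n + 1) x.fst = 0) (c : k) :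
    x * (c • tny k n) = 0 := by
  have h1 := mul_tny k n x
  rw [hx, zero_smul] at h1
  rw [mul_smul_comm, h1, smul_zero]

/-- `(t + y)^(n+2) = (n+2) t^(n+1) y` in `B_(n+1)` -/
theorem inl_t_add_eps_pow' (n : ℕ) :
    ((TrivSqZeroExt.inl (t k (n + 1)) : DualNumber (Tr k (n + 1))) + DualNumber.eps) ^ (n + 2) =
      ((n + 2 : ℕ) : k) • tny k n := by
  apply TrivSqZeroExt.ext
  · rw [TrivSqZeroExt.fst_pow, TrivSqZeroExt.fst_add, TrivSqZeroExt.fst_inl, DualNumber.fst_eps, add_zero,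
      t_pow, fst_smul_tny]
  · rw [TrivSqZeroExt.snd_pow, TrivSqZeroExt.fst_add, TrivSqZeroExt.fst_inl, DualNumber.fst_eps, add_zero,
      TrivSqZeroExt.snd_add, TrivSqZeroExt.snd_inl, DualNumber.snd_eps, zero_add, snd_smul_tny,
      smul_eq_mul, mul_one, Nat.cast_smul_eq_nsmul]
    rfl

end DualWorld

/-- the element `t^(n+1) y` of `B_(n+1)` -/
noncomputable def tnyB (n : ℕ) : B k (n + 1) := tny k n

/-- the ideal of `B_(n+1)` generated by `t^(n+1) y` -/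
noncomputable def K (n : ℕ) : Ideal (B k (n + 1)) := Ideal.span {tnyB k n}

theorem mem_K_iff (n : ℕ) (x : B k (n + 1)) : x ∈ K k n ↔ ∃ c : k, x = c • tnyB k n := by
  rw [K, Ideal.mem_span_singleton']
  constructor
  · rintro ⟨b, rfl⟩
    exact ⟨_, mul_tny k n b⟩
  · rintro ⟨c, rfl⟩
    exact ⟨algebraMap k _ c, (Algebra.smul_def _ _).symm⟩

theorem res_tnyB (n : ℕ) : (B k (n + 1)).res (tnyB k n) = 0 := by
  change resA k (n + 1) (tny k n).fst = 0
  rw [tny, TrivSqZeroExt.fst_inr, map_zero]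

theorem K_le (n : ℕ) : K k n ≤ maximalIdeal (B k (n + 1)) := by
  intro x hx
  obtain ⟨c, rfl⟩ := (mem_K_iff k n x).1 hx
  rw [Art.mem_maximalIdeal_iff, map_smul, res_tnyB, smul_zero]

/-- the object `C = k[t,y]/(t^(n+2), t^(n+1) y, y²)` -/
noncomputable def Cn (n : ℕ) : Art k k := Art.quot (B k (n + 1)) (K k n) (K_le k n)

/-- the projection `B_(n+1) → C` -/
noncomputable def pC (n : ℕ) : B k (n + 1) ⟶ Cn k n := quotMk _ _ _

theorem pC_surjective (n : ℕ) : Function.Surjective (pC k n) := quotMk_surjective _ _ _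

theorem ker_pC (n : ℕ) : RingHom.ker (pC k n).toAlgHom = K k n := by
  ext x
  rw [RingHom.mem_ker]
  exact Ideal.Quotient.eq_zero_iff_mem

theorem pC_eq_iff (n : ℕ) (b₁ b₂ : B k (n + 1)) : pC k n b₁ = pC k n b₂ ↔ b₁ - b₂ ∈ K k n :=
  Ideal.Quotient.eq

theorem pC_isSemismallExt (n : ℕ) : IsSemismallExt (pC k n) := by
  refine ⟨pC_surjective k n, ?_⟩
  rw [ker_pC, eq_bot_iff, Ideal.mul_le]
  intro x hx y hy
  rw [Ideal.mem_bot]
  obtain ⟨c, rfl⟩ := (mem_K_iff k n y).1 hy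
  exact smul_tny_mul k n x (((B k (n + 1)).mem_maximalIdeal_iff x).1 hx) c

theorem ξ_tnyB (n : ℕ) : (ξ k n).toAlgHom (tnyB k n) = 0 := dualMap_tny k n

theorem K_le_ker_ξ (n : ℕ) : K k n ≤ RingHom.ker (ξ k n).toAlgHom := by
  intro x hx
  obtain ⟨c, rfl⟩ := (mem_K_iff k n x).1 hx
  rw [RingHom.mem_ker, map_smul, ξ_tnyB, smul_zero]

theorem β_tnyB (n : ℕ) : (β k (n + 1)).toAlgHom (tnyB k n) = 0 := by
  change (tny k n).fst = 0
  rw [tny, TrivSqZeroExt.fst_inr]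

theorem K_le_ker_β (n : ℕ) : K k n ≤ RingHom.ker (β k (n + 1)).toAlgHom := by
  intro x hx
  obtain ⟨c, rfl⟩ := (mem_K_iff k n x).1 hx
  rw [RingHom.mem_ker, map_smul, β_tnyB, smul_zero]

/-- `C → B_n` -/
noncomputable def qB (n : ℕ) : Cn k n ⟶ B k n := quotFactor (K_le k n) (ξ k n) (K_le_ker_ξ k n)

/-- `C → A_(n+1)` -/
noncomputable def qA (n : ℕ) : Cn k n ⟶ A k (n + 1) := quotFactor (K_le k n) (β k (n + 1)) (K_le_ker_β k n)

theorem pC_qB (n : ℕ) : pC k n ≫ qB k n = ξ k n := quotMk_quotFactor _ _ _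
theorem pC_qA (n : ℕ) : pC k n ≫ qA k n = β k (n + 1) := quotMk_quotFactor _ _ _

theorem ξ_β (n : ℕ) : ξ k n ≫ β k n = β k (n + 1) ≫ α k n := by
  apply Art.hom_ext
  exact AlgHom.ext fun _ => rfl

theorem isFibreProd_C (n : ℕ) : IsFibreProd (qB k n) (qA k n) (β k n) (α k n) where
  w := by
    apply Art.hom_ext
    refine AlgHom.ext fun c => ?_
    obtain ⟨b, rfl⟩ := pC_surjective k n c
    change ((pC k n ≫ qB k n) ≫ β k n) b = ((pC k n ≫ qA k n) ≫ α k n) b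
    rw [pC_qB, pC_qA, ξ_β]
  inj := by
    intro c₁ c₂ h1 h2
    obtain ⟨b₁, rfl⟩ := pC_surjective k n c₁
    obtain ⟨b₂, rfl⟩ := pC_surjective k n c₂
    have h1' : ξ k n b₁ = ξ k n b₂ := h1
    have h2' : β k (n + 1) b₁ = β k (n + 1) b₂ := h2
    have hf : TrivSqZeroExt.fst (R := Tr k (n + 1)) (M := Tr k (n + 1)) b₁ =
        TrivSqZeroExt.fst (R := Tr k (n + 1)) (M := Tr k (n + 1)) b₂ := h2'
    have hg : αAlg k n (TrivSqZeroExt.snd (R := Tr k (n + 1)) (M := Tr k (n + 1)) b₁) =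
        αAlg k n (TrivSqZeroExt.snd (R := Tr k (n + 1)) (M := Tr k (n + 1)) b₂) :=
      congrArg (TrivSqZeroExt.snd (R := Tr k n) (M := Tr k n)) h1'
    have hg' : αAlg k n (TrivSqZeroExt.snd (R := Tr k (n + 1)) (M := Tr k (n + 1)) b₁ -
        TrivSqZeroExt.snd (R := Tr k (n + 1)) (M := Tr k (n + 1)) b₂) = 0 := by
      rw [map_sub, hg, sub_self]
    obtain ⟨c, hc⟩ := exists_of_αAlg_eq_zero k n _ hg'
    rw [pC_eq_iff]
    refine (mem_K_iff k n _).2 ⟨c, ?_⟩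
    refine eq_smul_tny k n _ c ?_ ?_
    · change TrivSqZeroExt.fst (R := Tr k (n + 1)) (M := Tr k (n + 1)) b₁ -
        TrivSqZeroExt.fst (R := Tr k (n + 1)) (M := Tr k (n + 1)) b₂ = 0
      rw [hf, sub_self]
    · exact hc
  surj := by
    intro b' a h
    have h' : TrivSqZeroExt.fst (R := Tr k n) (M := Tr k n) b' = αAlg k n a := h
    obtain ⟨g, hg⟩ := αAlg_surjective k n (TrivSqZeroExt.snd (R := Tr k n) (M := Tr k n) b')
    refine ⟨pC k n ((a, g) : DualNumber (Tr k (n + 1))), ?_, ?_⟩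
    · change ξ k n ((a, g) : DualNumber (Tr k (n + 1))) = b'
      apply TrivSqZeroExt.ext
      · exact h'.symm
      · exact hg
    · rfl

end Groth.Agent.Helper8.TL
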