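import Mathlib
import Groth.Agent.Helper8.TL2
set_option autoImplicit false
universe u v

namespace Groth.Agent.Helper8.TL
open ArtFun ArtFun.Art IsLocalRing CategoryTheory Polynomial T1Lift

variable (k : Type u) [Field k]

/-- `t + y` in `B_(n+1)` -/
noncomputable def tyB (n : ℕ) : B k (n + 1) :=
  ((TrivSqZeroExt.inl (t k (n + 1)) : DualNumber (Tr k (n + 1))) + DualNumber.eps)

theorem tyB_pow (n : ℕ) : tyB k n ^ (n + 2) = ((n + 2 : ℕ) : k) • tnyB k n := inl_t_add_eps_pow' k n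

theorem pC_tyB_pow (n : ℕ) : (pC k n (tyB k n)) ^ (n + 2) = 0 := by
  have h1 : (pC k n (tyB k n)) ^ (n + 2) = pC k n (tyB k n ^ (n + 2)) := (map_pow (pC k n).toAlgHom _ _).symm
  rw [h1, tyB_pow]
  have h2 : ((n + 2 : ℕ) : k) • tnyB k n ∈ RingHom.ker (pC k n).toAlgHom := by
    rw [ker_pC]
    exact (mem_K_iff k n _).2 ⟨_, rfl⟩
  exact h2

/-- `A_(n+1) → C`, `t ↦ t + y` -/
noncomputable def ε'Alg (n : ℕ) : Tr k (n + 1) →ₐ[k] Cn k n :=
  AdjoinRoot.liftAlgHom _ (Algebra.ofId k _) (pC k n (tyB k n))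
    (by rw [eval₂_X_pow]; exact pC_tyB_pow k n)

theorem ε'Alg_t (n : ℕ) : ε'Alg k n (t k (n + 1)) = pC k n (tyB k n) :=
  AdjoinRoot.liftAlgHom_root _ _ _ _

theorem res_tyB (n : ℕ) : (B k (n + 1)).res (tyB k n) = 0 := by
  change resA k (n + 1) ((TrivSqZeroExt.inl (t k (n + 1)) : DualNumber (Tr k (n + 1))) + DualNumber.eps).fst = 0
  rw [TrivSqZeroExt.fst_add, TrivSqZeroExt.fst_inl, DualNumber.fst_eps, add_zero, resA_t]

/-- `ε' : A_(n+1) ⟶ C` -/
noncomputable def ε' (n : ℕ) : A k (n + 1) ⟶ Cn k n :=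
  Art.homMk (ε'Alg k n) (AdjoinRoot.algHom_ext (by
    change (Cn k n).res (ε'Alg k n (t k (n + 1))) = resA k (n + 1) (t k (n + 1))
    rw [ε'Alg_t, resA_t, Art.res_app, res_tyB]))

theorem ε_t (n : ℕ) : (ε k (n + 1)).toAlgHom (t k (n + 2)) = tyB k n := εAlg_t k (n + 1)

theorem square (n : ℕ) : α k (n + 1) ≫ ε' k n = ε k (n + 1) ≫ pC k n := by
  apply Art.hom_ext
  apply AdjoinRoot.algHom_ext
  change ε'Alg k n (αAlg k (n + 1) (t k (n + 2))) = pC k n ((ε k (n + 1)).toAlgHom (t k (n + 2)))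
  rw [αAlg_t, ε'Alg_t, ε_t]

theorem ε'_qB (n : ℕ) : ε' k n ≫ qB k n = ε k n := by
  apply Art.hom_ext
  apply AdjoinRoot.algHom_ext
  change (qB k n).toAlgHom (ε'Alg k n (t k (n + 1))) = εAlg k n (t k (n + 1))
  rw [ε'Alg_t, εAlg_t]
  change (pC k n ≫ qB k n) (tyB k n) = _
  rw [pC_qB]
  change dualMap k (αAlg k n) ((TrivSqZeroExt.inl (t k (n + 1)) : DualNumber (Tr k (n + 1))) + DualNumber.eps) = _
  apply TrivSqZeroExt.ext
  · change αAlg k n ((TrivSqZeroExt.inl (t k (n + 1)) : DualNumber (Tr k (n + 1))) + DualNumber.eps).fst = _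
    rw [TrivSqZeroExt.fst_add, TrivSqZeroExt.fst_inl, DualNumber.fst_eps, add_zero, αAlg_t,
      TrivSqZeroExt.fst_add, TrivSqZeroExt.fst_inl, DualNumber.fst_eps, add_zero]
  · change αAlg k n ((TrivSqZeroExt.inl (t k (n + 1)) : DualNumber (Tr k (n + 1))) + DualNumber.eps).snd = _
    rw [TrivSqZeroExt.snd_add, TrivSqZeroExt.snd_inl, DualNumber.snd_eps, zero_add, map_one,
      TrivSqZeroExt.snd_add, TrivSqZeroExt.snd_inl, DualNumber.snd_eps, zero_add]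

theorem ε'_qA (n : ℕ) : ε' k n ≫ qA k n = 𝟙 _ := by
  apply Art.hom_ext
  apply AdjoinRoot.algHom_ext
  change (qA k n).toAlgHom (ε'Alg k n (t k (n + 1))) = t k (n + 1)
  rw [ε'Alg_t]
  change (pC k n ≫ qA k n) (tyB k n) = _
  rw [pC_qA]
  change ((TrivSqZeroExt.inl (t k (n + 1)) : DualNumber (Tr k (n + 1))) + DualNumber.eps).fst = _
  rw [TrivSqZeroExt.fst_add, TrivSqZeroExt.fst_inl, DualNumber.fst_eps, add_zero]

/-- the restriction of `ε_(n+1)` to kernels -/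
noncomputable def ℓ (n : ℕ) :
    ↥(RingHom.ker (α k (n + 1)).toAlgHom) →ₗ[k] ↥(RingHom.ker (pC k n).toAlgHom) where
  toFun j := ⟨(ε k (n + 1)).toAlgHom j, by
    rw [RingHom.mem_ker]
    change (ε k (n + 1) ≫ pC k n) (j : A k (n + 2)) = 0
    rw [← square]
    change (ε' k n).toAlgHom ((α k (n + 1)).toAlgHom j) = 0
    rw [RingHom.mem_ker.1 j.2, map_zero]⟩
  map_add' x y := Subtype.ext (map_add _ _ _)
  map_smul' c x := Subtype.ext (map_smul (ε k (n + 1)).toAlgHom c (x : A k (n + 2)))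

theorem smul_tny_eq_zero (n : ℕ) (c : k) (h : c • tny k n = 0) : c = 0 := by
  have h2 := congrArg (TrivSqZeroExt.snd (R := Tr k (n + 1)) (M := Tr k (n + 1))) h
  rw [snd_smul_tny, TrivSqZeroExt.snd_zero, smul_eq_zero] at h2
  rcases h2 with h2 | h2
  · exact h2
  · exact absurd h2 (t_pow_ne_zero k n)

/-- `t` in `A_n` -/
noncomputable def tA (n : ℕ) : A k n := t k n

theorem exists_of_mem_ker_α (n : ℕ) (a : A k (n + 1)) (ha : a ∈ RingHom.ker (α k n).toAlgHom) :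
    ∃ c : k, a = c • tA k (n + 1) ^ (n + 1) := exists_of_αAlg_eq_zero k n a ha

theorem ε_tA (n : ℕ) : (ε k (n + 1)).toAlgHom (tA k (n + 2)) = tyB k n := εAlg_t k (n + 1)

theorem ℓ_injective [CharZero k] (n : ℕ) : Function.Injective (ℓ k n) := by
  rw [injective_iff_map_eq_zero]
  intro j hj
  have hj' : (ε k (n + 1)).toAlgHom (j : A k (n + 2)) = 0 := congrArg Subtype.val hj
  obtain ⟨c, hc⟩ := exists_of_mem_ker_α k (n + 1) (j : A k (n + 2)) j.2
  have h1 : (ε k (n + 1)).toAlgHom (j : A k (n + 2)) = (c * ((n + 2 : ℕ) : k)) • tnyB k n := by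
    rw [hc, map_smul, map_pow, ε_tA, tyB_pow, smul_smul]
  rw [h1] at hj'
  have h2 := smul_tny_eq_zero k n _ hj'
  have hc0 : c = 0 := by
    rcases mul_eq_zero.1 h2 with h | h
    · exact h
    · exact absurd h (Nat.cast_ne_zero.2 (by omega))
  apply Subtype.ext
  rw [hc, hc0, zero_smul]
  rfl

end Groth.Agent.Helper8.TL
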