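import Mathlib
import Groth.Agent.Helper8.TL3
set_option autoImplicit false
universe u v

namespace Groth.Agent.Helper8.TL
open ArtFun ArtFun.Art IsLocalRing CategoryTheory Polynomial T1Lift
open scoped TensorProduct

theorem ε_β (k : Type u) [Field k] (n : ℕ) : ε k (n + 1) ≫ β k (n + 1) = α k (n + 1) := by
  apply Art.hom_ext
  apply AdjoinRoot.algHom_ext
  change ((ε k (n + 1)).toAlgHom (tA k (n + 2))).fst = αAlg k (n + 1) (t k (n + 2))
  rw [ε_tA, αAlg_t]
  change ((TrivSqZeroExt.inl (t k (n + 1)) : DualNumber (Tr k (n + 1))) + DualNumber.eps).fst = _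
  rw [TrivSqZeroExt.fst_add, TrivSqZeroExt.fst_inl, DualNumber.fst_eps, add_zero]

theorem ε_ξ (k : Type u) [Field k] (n : ℕ) : ε k (n + 1) ≫ ξ k n = α k (n + 1) ≫ ε k n := by
  rw [← ε'_qB k n, ← Category.assoc, square, Category.assoc, pC_qB]

theorem s18187 (k : Type u) [Field k] [CharZero k]
    (F : ArtFun.Art k k ⥤ Type v) (_h0 : ArtFun.H0 F)
    (hRS : ∀ ⦃P A A' A'' : ArtFun.Art k k⦄ (p' : P ⟶ A') (p'' : P ⟶ A'') (f' : A' ⟶ A) (f'' : A'' ⟶ A)
      (h : ArtFun.Art.IsFibreProd p' p'' f' f''), Function.Surjective f'' → Function.Bijective (ArtFun.cmp F h))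
    (V : Type u) [AddCommGroup V] [Module k V] (O : ArtFun.ObsTheory F V)
    (hnat : ∀ ⦃A' A C' C : ArtFun.Art k k⦄ (φ : A' ⟶ A) (hφ : ArtFun.Art.IsSemismallExt φ)
      (ψ : C' ⟶ C) (hψ : ArtFun.Art.IsSemismallExt ψ) (g' : A' ⟶ C') (g : A ⟶ C), φ ≫ g = g' ≫ ψ →
      ∀ (ℓ : ↥(RingHom.ker φ.toAlgHom) →ₗ[k] ↥(RingHom.ker ψ.toAlgHom)),
        (∀ j : ↥(RingHom.ker φ.toAlgHom), ((ℓ j : ↥(RingHom.ker ψ.toAlgHom)) : C') = g' (j : A')) →
        ∀ u : F.obj A, O.obs ψ hψ (F.map g u) = LinearMap.lTensor V ℓ (O.obs φ hφ u))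
    (n : ℕ) (X : F.obj (T1Lift.A k (n + 1))) :
    (∃ X' : F.obj (T1Lift.A k (n + 2)), F.map (T1Lift.α k (n + 1)) X' = X) ↔
      ∃ Y : F.obj (T1Lift.B k (n + 1)), F.map (T1Lift.β k (n + 1)) Y = X ∧
        F.map (T1Lift.ξ k n) Y = F.map (T1Lift.ε k n) X := by
  constructor
  · rintro ⟨X', rfl⟩
    refine ⟨F.map (ε k (n + 1)) X', ?_, ?_⟩
    · rw [← Functor.map_comp_apply, ε_β]
    · rw [← Functor.map_comp_apply, ← Functor.map_comp_apply, ε_ξ]
  · rintro ⟨Y, hY1, hY2⟩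
    -- the image of `Y` in `F(C)` is `F(ε') X`
    have hinj := (hRS (qB k n) (qA k n) (β k n) (α k n) (isFibreProd_C k n) (α_surjective k n)).1
    have hYC : F.map (pC k n) Y = F.map (ε' k n) X := by
      apply hinj
      apply FibProd.ext
      · change F.map (qB k n) (F.map (pC k n) Y) = F.map (qB k n) (F.map (ε' k n) X)
        rw [← Functor.map_comp_apply, ← Functor.map_comp_apply, pC_qB, ε'_qB, hY2]
      · change F.map (qA k n) (F.map (pC k n) Y) = F.map (qA k n) (F.map (ε' k n) X)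
        rw [← Functor.map_comp_apply, ← Functor.map_comp_apply, pC_qA, ε'_qA, hY1,
          Functor.map_id_apply]
    have hobs : O.obs (pC k n) (pC_isSemismallExt k n) (F.map (ε' k n) X) = 0 :=
      (O.obs_eq_zero_iff _ _ _).2 ⟨Y, hYC⟩
    rw [hnat (α k (n + 1)) (α_isSemismallExt k (n + 1)) (pC k n) (pC_isSemismallExt k n) (ε k (n + 1))
      (ε' k n) (square k n) (ℓ k n) (fun j => rfl) X] at hobs
    have hinjT : Function.Injective (LinearMap.lTensor V (ℓ k n)) :=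
      Module.Flat.lTensor_preserves_injective_linearMap _ (ℓ_injective k n)
    have h0' : O.obs (α k (n + 1)) (α_isSemismallExt k (n + 1)) X = 0 := by
      apply hinjT
      rw [hobs, map_zero]
    exact (O.obs_eq_zero_iff _ _ _).1 h0'

end Groth.Agent.Helper8.TL
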