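import Mathlib

/-!
# Kronecker powers of matrices and the antisymmetriser (towards S13796)

For a family `m : Fin n → Matrix (Fin n) (Fin n) L` we define the Kronecker product
`kap m`, a matrix indexed by functions `Fin n → Fin n`, and the rank-one "antisymmetriser"
`s0 = ε εᵀ`, where `ε f` is the sign of `f` if `f` is a permutation and `0` otherwise.
-/

set_option autoImplicit false
open Matrix

namespace Groth.Agent.Helper8.TPowMat

variable {L : Type*} [CommRing L] {n : ℕ}

/-- Kronecker product of a family of `n × n` matrices -/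
def kap (m : Fin n → Matrix (Fin n) (Fin n) L) : Matrix (Fin n → Fin n) (Fin n → Fin n) L :=
  Matrix.of fun f h => ∏ i, m i (f i) (h i)

theorem kap_apply (m : Fin n → Matrix (Fin n) (Fin n) L) (f h : Fin n → Fin n) :
    kap m f h = ∏ i, m i (f i) (h i) := rfl

theorem kap_one : kap (1 : Fin n → Matrix (Fin n) (Fin n) L) = 1 := by
  ext f h
  rw [kap_apply, Matrix.one_apply]
  simp only [Pi.one_apply, Matrix.one_apply]
  rw [Fintype.prod_ite_zero]
  simp [funext_iff]

theorem kap_mul (m m' : Fin n → Matrix (Fin n) (Fin n) L) : kap (m * m') = kap m * kap m' := by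
  ext f h
  rw [kap_apply, Matrix.mul_apply]
  simp only [Pi.mul_apply, Matrix.mul_apply, kap_apply]
  rw [Finset.prod_univ_sum]
  simp only [Fintype.piFinset_univ, Finset.prod_mul_distrib]

theorem kap_update (m : Fin n → Matrix (Fin n) (Fin n) L) (i : Fin n)
    (x : Matrix (Fin n) (Fin n) L) (f h : Fin n → Fin n) :
    kap (Function.update m i x) f h =
      x (f i) (h i) * ∏ j ∈ Finset.univ.erase i, m j (f j) (h j) := by
  rw [kap_apply, ← Finset.mul_prod_erase _ _ (Finset.mem_univ i), Function.update_self]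
  congr 1
  refine Finset.prod_congr rfl (fun j hj => ?_)
  rw [Function.update_of_ne (Finset.ne_of_mem_erase hj)]

/-- `kap` as a multilinear map -/
def kapML : MultilinearMap L (fun _ : Fin n => Matrix (Fin n) (Fin n) L)
    (Matrix (Fin n → Fin n) (Fin n → Fin n) L) :=
  MultilinearMap.mk' kap
    (fun m i x y => by
      ext f h
      rw [Matrix.add_apply, kap_update, kap_update, kap_update, Matrix.add_apply, add_mul])
    (fun m i c x => by
      ext f h
      rw [Matrix.smul_apply, kap_update, kap_update, Matrix.smul_apply, smul_eq_mul, smul_eq_mul,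
        mul_assoc])

@[simp] theorem kapML_apply (m : Fin n → Matrix (Fin n) (Fin n) L) : kapML m = kap m := rfl

/-- `kap` as a monoid homomorphism -/
def kapMonoidHom : (Fin n → Matrix (Fin n) (Fin n) L) →*
    Matrix (Fin n → Fin n) (Fin n → Fin n) L where
  toFun := kap
  map_one' := kap_one
  map_mul' := kap_mul

@[simp] theorem kapMonoidHom_apply (m : Fin n → Matrix (Fin n) (Fin n) L) :
    kapMonoidHom m = kap m := rfl

theorem kap_single (k l : Fin n → Fin n) :
    kap (fun i => Matrix.single (k i) (l i) (1 : L)) = Matrix.single k l 1 := by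
  ext f h
  simp only [kap_apply, Matrix.single_apply]
  rw [Fintype.prod_ite_zero]
  simp [funext_iff, forall_and]

theorem kap_map {L' : Type*} [CommRing L'] (j : L →+* L')
    (m : Fin n → Matrix (Fin n) (Fin n) L) :
    (kap m).map j = kap (fun i => (m i).map j) := by
  ext f h
  simp [kap_apply, map_prod]

theorem kap_transpose (m : Fin n → Matrix (Fin n) (Fin n) L) :
    (kap m)ᵀ = kap (fun i => (m i)ᵀ) := by
  ext f h
  simp [kap_apply]

/-- the Kronecker power of a matrix -/
def K (g : Matrix (Fin n) (Fin n) L) : Matrix (Fin n → Fin n) (Fin n → Fin n) L :=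
  kap (fun _ => g)

theorem K_mul (g g' : Matrix (Fin n) (Fin n) L) : K (g * g') = K g * K g' :=
  kap_mul (fun _ => g) (fun _ => g')

theorem K_one : K (1 : Matrix (Fin n) (Fin n) L) = 1 := kap_one

theorem K_transpose (g : Matrix (Fin n) (Fin n) L) : (K g)ᵀ = K gᵀ := kap_transpose _

/-- the sign of a self-map of `Fin n`: the sign if it is a permutation, zero otherwise -/
def eps (f : Fin n → Fin n) : L :=
  ∑ σ : Equiv.Perm (Fin n), if (⇑σ = f) then ((Equiv.Perm.sign σ : ℤ) : L) else 0

theorem eps_perm (σ : Equiv.Perm (Fin n)) : (eps (⇑σ) : L) = ((Equiv.Perm.sign σ : ℤ) : L) := by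
  unfold eps
  rw [Finset.sum_eq_single σ]
  · simp
  · intro τ _ hτ
    rw [if_neg]
    intro h
    exact hτ (DFunLike.coe_injective h)
  · intro h
    exact absurd (Finset.mem_univ σ) h

theorem eps_of_not_injective {f : Fin n → Fin n} (hf : ¬ Function.Injective f) :
    (eps f : L) = 0 := by
  unfold eps
  refine Finset.sum_eq_zero (fun σ _ => ?_)
  rw [if_neg]
  intro h
  exact hf (h ▸ σ.injective)

theorem eps_id : (eps (id : Fin n → Fin n) : L) = 1 := by
  have := eps_perm (L := L) (1 : Equiv.Perm (Fin n))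
  simpa using this

theorem eps_map {L' : Type*} [CommRing L'] (j : L →+* L') (f : Fin n → Fin n) :
    j (eps f) = eps f := by
  unfold eps
  rw [map_sum]
  refine Finset.sum_congr rfl (fun σ _ => ?_)
  split_ifs <;> simp

theorem sum_prod_eps (B : Matrix (Fin n) (Fin n) L) :
    ∑ h : Fin n → Fin n, (∏ i, B i (h i)) * eps h = B.det := by
  unfold eps
  simp only [Finset.mul_sum]
  rw [Finset.sum_comm]
  rw [← Matrix.det_transpose, Matrix.det_apply']
  refine Finset.sum_congr rfl (fun σ _ => ?_)
  rw [Finset.sum_eq_single (⇑σ)]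
  · rw [if_pos rfl, mul_comm]
    rfl
  · intro h _ hh
    rw [if_neg (Ne.symm hh), mul_zero]
  · intro h
    exact absurd (Finset.mem_univ _) h

theorem det_submatrix_left (g : Matrix (Fin n) (Fin n) L) (f : Fin n → Fin n) :
    (g.submatrix f id).det = eps f * g.det := by
  by_cases hf : Function.Injective f
  · have hb : Function.Bijective f := Finite.injective_iff_bijective.1 hf
    have hσ : f = ⇑(Equiv.ofBijective f hb) := rfl
    rw [hσ, Matrix.det_permute, eps_perm]
  · rw [eps_of_not_injective hf, zero_mul]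
    have : ∃ i j, f i = f j ∧ i ≠ j := by
      by_contra hcon
      push_neg at hcon
      exact hf (fun i j hij => hcon i j hij)
    obtain ⟨i, j, hij, hne⟩ := this
    refine Matrix.det_zero_of_row_eq hne ?_
    ext k
    simp [hij]

theorem K_mulVec_eps (g : Matrix (Fin n) (Fin n) L) : K g *ᵥ eps = g.det • eps := by
  ext f
  rw [Matrix.mulVec, dotProduct, Pi.smul_apply, smul_eq_mul, mul_comm, ← det_submatrix_left,
    ← sum_prod_eps]
  rfl

theorem eps_vecMul_K (g : Matrix (Fin n) (Fin n) L) : eps ᵥ* K g = g.det • eps := by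
  rw [← Matrix.mulVec_transpose, K_transpose, K_mulVec_eps, Matrix.det_transpose]

/-- the antisymmetriser, as a rank-one matrix -/
def s0 : Matrix (Fin n → Fin n) (Fin n → Fin n) L := Matrix.vecMulVec eps eps

theorem s0_apply (f h : Fin n → Fin n) : (s0 : Matrix _ _ L) f h = eps f * eps h := rfl

theorem s0_id : (s0 : Matrix (Fin n → Fin n) (Fin n → Fin n) L) id id = 1 := by
  rw [s0_apply, eps_id, one_mul]

theorem s0_map {L' : Type*} [CommRing L'] (j : L →+* L') :
    (s0 : Matrix (Fin n → Fin n) (Fin n → Fin n) L).map j = s0 := by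
  ext f h
  simp [s0_apply, eps_map]

theorem K_mul_s0 (g : Matrix (Fin n) (Fin n) L) : K g * s0 = g.det • s0 := by
  unfold s0
  rw [Matrix.mul_vecMulVec, K_mulVec_eps]
  ext f h
  simp [Matrix.vecMulVec_apply, mul_assoc]

theorem s0_mul_K (g : Matrix (Fin n) (Fin n) L) : s0 * K g = g.det • s0 := by
  unfold s0
  rw [Matrix.vecMulVec_mul, eps_vecMul_K]
  ext f h
  simp [Matrix.vecMulVec_apply, mul_left_comm]

theorem K_conj_s0 (g g' : Matrix (Fin n) (Fin n) L) (h : g * g' = 1) :
    K g * s0 * K g' = s0 := by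
  rw [K_mul_s0, Matrix.smul_mul, s0_mul_K, smul_smul, ← Matrix.det_mul, h, Matrix.det_one,
    one_smul]

theorem s0_mul_mul_s0 (X : Matrix (Fin n → Fin n) (Fin n → Fin n) L) :
    s0 * X * s0 = ((eps ᵥ* X) ⬝ᵥ eps) • s0 := by
  unfold s0
  rw [Matrix.vecMulVec_mul, Matrix.vecMulVec_mul_vecMulVec]
  ext f h
  simp [Matrix.vecMulVec_apply, mul_left_comm]

theorem sum_single_mul_s0_mul_single :
    ∑ f : Fin n → Fin n, Matrix.single f id (1 : L) * s0 * Matrix.single id f (1 : L) = 1 := by
  have : ∀ f : Fin n → Fin n, Matrix.single f id (1 : L) * s0 * Matrix.single id f (1 : L) =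
      Matrix.single f f 1 := by
    intro f
    rw [Matrix.single_mul_mul_single, s0_id, one_mul, one_mul]
  simp only [this]
  ext a b
  rw [Matrix.sum_apply, Matrix.one_apply]
  simp only [Matrix.single_apply]
  by_cases hab : a = b
  · subst hab
    simp
  · rw [if_neg hab]
    refine Finset.sum_eq_zero (fun f _ => ?_)
    rw [if_neg]
    rintro ⟨rfl, rfl⟩
    exact hab rfl

end Groth.Agent.Helper8.TPowMat
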