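import Mathlib
import Groth.Agent.Helper8.TPowMat

/-!
# The comparison map `L ⊗ A^{⊗n} → M_{n^n}(L)` attached to `A → M_n(L)` (towards S13796)
-/

set_option autoImplicit false
open TensorProduct PiTensorProduct

namespace Groth.Agent.Helper8.TPowPsi

open TPowMat

section ListLemma

theorem list_prod_eq_of_eq_one {M : Type*} [Monoid M] :
    ∀ {n : ℕ} (F : Fin n → M) (j : Fin n), (∀ i, i ≠ j → F i = 1) → (List.ofFn F).prod = F j := by
  intro n
  induction n with
  | zero => intro F j; exact j.elim0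
  | succ n ih =>
    intro F j hF
    rw [List.ofFn_succ, List.prod_cons]
    rcases Fin.eq_zero_or_eq_succ j with rfl | ⟨j', rfl⟩
    · have : (List.ofFn fun i : Fin n => F i.succ).prod = 1 := by
        apply List.prod_eq_one
        intro x hx
        rw [List.mem_ofFn] at hx
        obtain ⟨i, rfl⟩ := hx
        exact hF _ (Fin.succ_ne_zero i)
      rw [this, mul_one]
    · rw [hF 0 (Fin.succ_ne_zero j').symm, one_mul]
      exact ih (fun i => F i.succ) j' (fun i hi => hF _ (fun h => hi (Fin.succ_injective _ h)))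

theorem list_prod_mulSingle {n : ℕ} {M : Fin n → Type*} [∀ i, Monoid (M i)] (x : ∀ i, M i) :
    (List.ofFn fun i => Pi.mulSingle i (x i)).prod = x := by
  funext j
  have h1 : ((List.ofFn fun i => Pi.mulSingle i (x i)).prod) j =
      (List.ofFn fun i => (Pi.mulSingle i (x i) : ∀ i, M i) j).prod := by
    have := map_list_prod (Pi.evalMonoidHom M j) (List.ofFn fun i => Pi.mulSingle i (x i))
    rw [List.map_ofFn] at this
    exact this
  rw [h1, list_prod_eq_of_eq_one _ j (fun i hi => Pi.mulSingle_eq_of_ne' hi _)]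
  exact Pi.mulSingle_eq_same j (x j)

end ListLemma

variable {R : Type*} [CommRing R] {A : Type*} [Ring A] [Algebra R A] {n : ℕ}
  {L : Type*} [CommRing L] [Algebra R L]

/-- the multilinear map `a ↦ ⊗ ψ(a_i)` -/
noncomputable def PsiML (ψ : A →ₐ[R] Matrix (Fin n) (Fin n) L) :
    MultilinearMap R (fun _ : Fin n => A) (Matrix (Fin n → Fin n) (Fin n → Fin n) L) :=
  ((kapML (L := L) (n := n)).restrictScalars R).compLinearMap (fun _ => ψ.toLinearMap)

theorem PsiML_apply (ψ : A →ₐ[R] Matrix (Fin n) (Fin n) L) (a : Fin n → A) :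
    PsiML ψ a = kap (fun i => ψ (a i)) := rfl

/-- the algebra map `A^{⊗n} → M_{n^n}(L)` induced by `ψ : A → M_n(L)` -/
noncomputable def Psi (ψ : A →ₐ[R] Matrix (Fin n) (Fin n) L) :
    (⨂[R] _ : Fin n, A) →ₐ[R] Matrix (Fin n → Fin n) (Fin n → Fin n) L :=
  PiTensorProduct.liftAlgHom (PsiML ψ)
    (by
      rw [PsiML_apply]
      simp only [Pi.one_apply, map_one]
      exact kap_one)
    (fun x y => by
      rw [PsiML_apply, PsiML_apply, PsiML_apply, ← kap_mul]
      congr 1
      funext i
      simp [map_mul])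

theorem Psi_tprod (ψ : A →ₐ[R] Matrix (Fin n) (Fin n) L) (a : Fin n → A) :
    Psi ψ (tprod R a) = kap (fun i => ψ (a i)) := by
  rw [Psi, PiTensorProduct.liftAlgHom_apply, PiTensorProduct.lift.tprod, PsiML_apply]

theorem Psi_map {L' : Type*} [CommRing L'] [Algebra R L'] (j : L →ₐ[R] L')
    (ψ : A →ₐ[R] Matrix (Fin n) (Fin n) L) :
    Psi ((j.mapMatrix).comp ψ) = (j.mapMatrix).comp (Psi ψ) := by
  apply AlgHom.toLinearMap_injective
  apply PiTensorProduct.ext
  apply MultilinearMap.ext
  intro a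
  simp only [LinearMap.compMultilinearMap_apply, AlgHom.toLinearMap_apply, AlgHom.comp_apply,
    Psi_tprod, AlgHom.mapMatrix_apply]
  exact (kap_map (j : L →+* L') _).symm

theorem Psi_map_apply {L' : Type*} [CommRing L'] [Algebra R L'] (j : L →ₐ[R] L')
    (ψ : A →ₐ[R] Matrix (Fin n) (Fin n) L) (x : ⨂[R] _ : Fin n, A) :
    Psi ((j.mapMatrix).comp ψ) x = (Psi ψ x).map j := by
  rw [Psi_map]
  rfl

theorem Psi_conj (g g' : Matrix (Fin n) (Fin n) L) (ψ ψ' : A →ₐ[R] Matrix (Fin n) (Fin n) L)
    (h : ∀ a, ψ' a = g * ψ a * g') (x : ⨂[R] _ : Fin n, A) :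
    Psi ψ' x = K g * Psi ψ x * K g' := by
  induction x using PiTensorProduct.induction_on with
  | smul_tprod r a =>
    rw [map_smul, map_smul, Psi_tprod, Psi_tprod, Matrix.mul_smul, Matrix.smul_mul]
    congr 1
    have : (fun i => ψ' (a i)) = (fun _ : Fin n => g) * (fun i => ψ (a i)) * (fun _ => g') := by
      funext i
      exact h (a i)
    rw [this, kap_mul, kap_mul]
    rfl
  | add x y hx hy =>
    rw [map_add, map_add, hx, hy, mul_add, add_mul]

/-- the `L`-linear extension of `Psi` -/
noncomputable def Theta (ψ : A →ₐ[R] Matrix (Fin n) (Fin n) L) :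
    L ⊗[R] (⨂[R] _ : Fin n, A) →ₐ[L] Matrix (Fin n → Fin n) (Fin n → Fin n) L :=
  Algebra.TensorProduct.lift (Algebra.ofId L _) (Psi ψ)
    (fun l x => Algebra.commute_algebraMap_left l (Psi ψ x))

theorem Theta_tmul (ψ : A →ₐ[R] Matrix (Fin n) (Fin n) L) (c : L) (x : ⨂[R] _ : Fin n, A) :
    Theta ψ (c ⊗ₜ x) = c • Psi ψ x := by
  rw [Theta, Algebra.TensorProduct.lift_tmul, Algebra.ofId_apply, Algebra.smul_def]

theorem Theta_rTensor {L' : Type*} [CommRing L'] [Algebra R L'] (j : L →ₐ[R] L')
    (ψ : A →ₐ[R] Matrix (Fin n) (Fin n) L) (y : L ⊗[R] (⨂[R] _ : Fin n, A)) :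
    Theta ((j.mapMatrix).comp ψ) (LinearMap.rTensor _ j.toLinearMap y) = (Theta ψ y).map j := by
  induction y using TensorProduct.induction_on with
  | zero => simp
  | tmul c x =>
    rw [LinearMap.rTensor_tmul, Theta_tmul, Theta_tmul, Psi_map_apply]
    ext f h
    simp [Matrix.smul_apply]
  | add y z hy hz =>
    rw [map_add, map_add, hy, hz, map_add, Matrix.map_add]
    intro a b
    exact map_add j a b

theorem Theta_conj (g g' : Matrix (Fin n) (Fin n) L) (ψ ψ' : A →ₐ[R] Matrix (Fin n) (Fin n) L)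
    (h : ∀ a, ψ' a = g * ψ a * g') (y : L ⊗[R] (⨂[R] _ : Fin n, A)) :
    Theta ψ' y = K g * Theta ψ y * K g' := by
  induction y using TensorProduct.induction_on with
  | zero => simp
  | tmul c x =>
    rw [Theta_tmul, Theta_tmul, Psi_conj g g' ψ ψ' h, Matrix.mul_smul, Matrix.smul_mul]
  | add y z hy hz =>
    rw [map_add, map_add, hy, hz, mul_add, add_mul]

/-- the inclusion of the `i`-th factor, base changed -/
noncomputable def sig (i : Fin n) : L ⊗[R] A →ₐ[L] L ⊗[R] (⨂[R] _ : Fin n, A) :=
  Algebra.TensorProduct.map (AlgHom.id L L)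
    (PiTensorProduct.singleAlgHom (R := R) (A := fun _ : Fin n => A) i)

/-- the `L`-multilinear "tensor product" map `(L ⊗ A)^n → L ⊗ A^{⊗n}` -/
noncomputable def tau : MultilinearMap L (fun _ : Fin n => L ⊗[R] A)
    (L ⊗[R] (⨂[R] _ : Fin n, A)) :=
  (MultilinearMap.mkPiAlgebraFin L n (L ⊗[R] (⨂[R] _ : Fin n, A))).compLinearMap
    (fun i => (sig (R := R) (A := A) (L := L) i).toLinearMap)

theorem tau_apply (y : Fin n → L ⊗[R] A) :
    tau y = (List.ofFn fun i => sig (R := R) (A := A) (L := L) i (y i)).prod := rfl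

theorem list_prod_single (a : Fin n → A) :
    (List.ofFn fun i => PiTensorProduct.singleAlgHom (R := R) (A := fun _ : Fin n => A)
      i (a i)).prod = tprod R a := by
  have h : ∀ i, PiTensorProduct.singleAlgHom (R := R) (A := fun _ : Fin n => A) i (a i) =
      tprodMonoidHom R (Pi.mulSingle i (a i)) := fun i => rfl
  simp only [h]
  have := map_list_prod (tprodMonoidHom (R := R) (A := fun _ : Fin n => A))
    (List.ofFn fun i => Pi.mulSingle i (a i))
  rw [List.map_ofFn] at this
  rw [Function.comp_def] at this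
  rw [← this, list_prod_mulSingle]
  rfl

theorem tau_one_tmul (a : Fin n → A) :
    tau (fun i => (1 : L) ⊗ₜ[R] a i) = (1 : L) ⊗ₜ[R] tprod R a := by
  rw [tau_apply]
  have h : ∀ i, sig (R := R) (A := A) (L := L) i ((1 : L) ⊗ₜ[R] a i) =
      (Algebra.TensorProduct.includeRight : (⨂[R] _ : Fin n, A) →ₐ[R] L ⊗[R] _)
        (PiTensorProduct.singleAlgHom (R := R) (A := fun _ : Fin n => A) i (a i)) := by
    intro i
    simp [sig]
  simp only [h]
  have := map_list_prod
    (Algebra.TensorProduct.includeRight : (⨂[R] _ : Fin n, A) →ₐ[R] L ⊗[R] _)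
    (List.ofFn fun i => PiTensorProduct.singleAlgHom (R := R) (A := fun _ : Fin n => A) i (a i))
  rw [List.map_ofFn, Function.comp_def] at this
  rw [← this, list_prod_single]
  rfl

/-- the algebra map `A → M_n(L)` attached to a splitting -/
noncomputable def psiOf (θ : L ⊗[R] A ≃ₐ[L] Matrix (Fin n) (Fin n) L) :
    A →ₐ[R] Matrix (Fin n) (Fin n) L :=
  (θ.toAlgHom.restrictScalars R).comp Algebra.TensorProduct.includeRight

@[simp] theorem psiOf_apply (θ : L ⊗[R] A ≃ₐ[L] Matrix (Fin n) (Fin n) L) (a : A) :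
    psiOf θ a = θ (1 ⊗ₜ a) := rfl

theorem Theta_sig (θ : L ⊗[R] A ≃ₐ[L] Matrix (Fin n) (Fin n) L) (i : Fin n) (z : L ⊗[R] A) :
    Theta (psiOf θ) (sig (R := R) (A := A) (L := L) i z) = kap (Pi.mulSingle i (θ z)) := by
  induction z using TensorProduct.induction_on with
  | zero =>
    rw [map_zero, map_zero, map_zero]
    have := (kapML (L := L) (n := n)).map_coord_zero (m := Pi.mulSingle i 0) i
      (Pi.mulSingle_eq_same i _)
    exact this.symm
  | tmul c a =>
    have h1 : sig (R := R) (A := A) (L := L) i (c ⊗ₜ[R] a) =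
        c ⊗ₜ[R] PiTensorProduct.singleAlgHom (R := R) (A := fun _ : Fin n => A) i a := by
      simp [sig]
    have h2 : θ (c ⊗ₜ[R] a) = c • θ (1 ⊗ₜ a) := by
      rw [← map_smul, TensorProduct.smul_tmul', smul_eq_mul, mul_one]
    rw [h1, Theta_tmul, h2]
    have h3 : PiTensorProduct.singleAlgHom (R := R) (A := fun _ : Fin n => A) i a =
        PiTensorProduct.tprod R (Pi.mulSingle i a) := rfl
    rw [h3, Psi_tprod]
    have h4 : (fun k => psiOf θ ((Pi.mulSingle i a : Fin n → A) k)) =
        Pi.mulSingle i (θ (1 ⊗ₜ a)) := by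
      funext k
      exact Pi.apply_mulSingle (fun _ => psiOf θ) (fun _ => map_one _) i a k
    rw [h4]
    have := (kapML (L := L) (n := n)).map_update_smul (1 : Fin n → Matrix (Fin n) (Fin n) L) i c
      (θ (1 ⊗ₜ a))
    exact this.symm
  | add y z hy hz =>
    rw [map_add, map_add, hy, hz, map_add]
    have := (kapML (L := L) (n := n)).map_update_add (1 : Fin n → Matrix (Fin n) (Fin n) L) i
      (θ y) (θ z)
    exact this.symm

theorem Theta_tau (θ : L ⊗[R] A ≃ₐ[L] Matrix (Fin n) (Fin n) L) (y : Fin n → L ⊗[R] A) :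
    Theta (psiOf θ) (tau y) = kap (fun i => θ (y i)) := by
  rw [tau_apply, map_list_prod, List.map_ofFn, Function.comp_def]
  simp only [Theta_sig]
  have := map_list_prod (kapMonoidHom (L := L) (n := n))
    (List.ofFn fun i => Pi.mulSingle i (θ (y i)))
  rw [List.map_ofFn, Function.comp_def] at this
  simp only [kapMonoidHom_apply] at this
  rw [← this, list_prod_mulSingle]

/-- `Theta` is bijective for a splitting -/
theorem Theta_bijective (θ : L ⊗[R] A ≃ₐ[L] Matrix (Fin n) (Fin n) L) :
    Function.Bijective (Theta (psiOf θ)) := by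
  classical
  let b : Module.Basis (Fin n × Fin n) L (L ⊗[R] A) :=
    (Matrix.stdBasis L (Fin n) (Fin n)).map θ.symm.toLinearEquiv
  have hb : ∀ p : Fin n × Fin n, θ (b p) = Matrix.single p.1 p.2 1 := by
    rintro ⟨k, l⟩
    simp [b, Matrix.stdBasis_eq_single]
  let Ξ : Matrix (Fin n → Fin n) (Fin n → Fin n) L →ₗ[L] L ⊗[R] (⨂[R] _ : Fin n, A) :=
    (Matrix.stdBasis L (Fin n → Fin n) (Fin n → Fin n)).constr L
      (fun p => tau (fun i => b (p.1 i, p.2 i)))
  have hΞ : ∀ k l : Fin n → Fin n, Ξ (Matrix.single k l 1) = tau (fun i => b (k i, l i)) := by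
    intro k l
    have := (Matrix.stdBasis L (Fin n → Fin n) (Fin n → Fin n)).constr_basis L
      (fun p => tau (fun i => b (p.1 i, p.2 i))) (k, l)
    rw [Matrix.stdBasis_eq_single] at this
    exact this
  have h1 : ∀ y : Fin n → L ⊗[R] A, Ξ (kap (fun i => θ (y i))) = tau y := by
    have : Ξ.compMultilinearMap ((kapML (L := L) (n := n)).compLinearMap
        (fun _ => θ.toLinearEquiv.toLinearMap)) = tau := by
      refine Module.Basis.ext_multilinear (fun _ => b) (fun ν => ?_)
      simp only [LinearMap.compMultilinearMap_apply, MultilinearMap.compLinearMap_apply,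
        kapML_apply]
      have : (fun i => θ.toLinearEquiv.toLinearMap (b (ν i))) =
          fun i => Matrix.single (ν i).1 (ν i).2 (1 : L) := by
        funext i
        exact hb (ν i)
      rw [this, kap_single, hΞ]
    intro y
    exact congrArg (fun F => F y) this
  have h2' : ∀ x : ⨂[R] _ : Fin n, A, Ξ (Psi (psiOf θ) x) = (1 : L) ⊗ₜ[R] x := by
    have : (Ξ.restrictScalars R) ∘ₗ (Psi (psiOf θ)).toLinearMap =
        TensorProduct.mk R L (⨂[R] _ : Fin n, A) 1 := by
      apply PiTensorProduct.ext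
      apply MultilinearMap.ext
      intro a
      simp only [LinearMap.compMultilinearMap_apply, LinearMap.comp_apply,
        AlgHom.toLinearMap_apply, LinearMap.restrictScalars_apply, Psi_tprod,
        TensorProduct.mk_apply]
      have : (fun i => psiOf θ (a i)) = fun i => θ ((1 : L) ⊗ₜ[R] a i) := rfl
      rw [this, h1, tau_one_tmul]
    intro x
    exact congrArg (fun F => F x) this
  have h2 : ∀ z, Ξ (Theta (psiOf θ) z) = z := by
    intro z
    induction z using TensorProduct.induction_on with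
    | zero => simp
    | tmul c x =>
      rw [Theta_tmul, map_smul, h2', TensorProduct.smul_tmul', smul_eq_mul, mul_one]
    | add y z hy hz => rw [map_add, map_add, hy, hz]
  have h3 : ∀ M, Theta (psiOf θ) (Ξ M) = M := by
    have : (Theta (psiOf θ)).toLinearMap ∘ₗ Ξ = LinearMap.id := by
      refine (Matrix.stdBasis L (Fin n → Fin n) (Fin n → Fin n)).ext (fun p => ?_)
      rw [Matrix.stdBasis_eq_single, LinearMap.comp_apply, hΞ, AlgHom.toLinearMap_apply,
        Theta_tau, LinearMap.id_apply]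
      have : (fun i => θ (b (p.1 i, p.2 i))) = fun i => Matrix.single (p.1 i) (p.2 i) (1 : L) := by
        funext i
        exact hb _
      rw [this, kap_single]
    intro M
    exact congrArg (fun F => F M) this
  exact ⟨Function.LeftInverse.injective h2, Function.RightInverse.surjective h3⟩

end Groth.Agent.Helper8.TPowPsi
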