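import Mathlib
import Groth.Agent.Helper8.TPowPsi
import Groth.Agent.Helper8.AzuCP

/-!
# Descent of the antisymmetriser to `A^{⊗n}` along a faithfully flat splitting (towards S13796)
-/

set_option autoImplicit false
open TensorProduct PiTensorProduct Matrix

namespace Groth.Agent.Helper8.TPowDesc

open TPowMat TPowPsi

universe u
variable {R : Type u} [CommRing R] {A : Type u} [Ring A] [Algebra R A] {n : ℕ}

theorem s0_map_algHom {L L' : Type*} [CommRing L] [CommRing L'] [Algebra R L] [Algebra R L']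
    (j : L →ₐ[R] L') : (s0 : Matrix (Fin n → Fin n) (Fin n → Fin n) L).map j = s0 :=
  s0_map (j : L →+* L')

/-- independence of the splitting: the preimage of the antisymmetriser does not depend on the
splitting -/
theorem transfer (hn : 1 ≤ n) {S' : Type u} [CommRing S'] [Algebra R S']
    (f₁ f₂ : S' ⊗[R] A ≃ₐ[S'] Matrix (Fin n) (Fin n) S')
    (z : S' ⊗[R] (⨂[R] _ : Fin n, A)) (hz : Theta (psiOf f₂) z = s0) :
    Theta (psiOf f₁) z = s0 := by
  ext f h
  rw [← sub_eq_zero]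
  apply eq_zero_of_localization
  intro J hJ
  let j : S' →ₐ[R] Localization.AtPrime J := IsScalarTower.toAlgHom R S' (Localization.AtPrime J)
  obtain ⟨g₁, hg₁⟩ := AzuCP.exists_split_baseChange f₁ j
  obtain ⟨g₂, hg₂⟩ := AzuCP.exists_split_baseChange f₂ j
  have e₁ : psiOf g₁ = (j.mapMatrix).comp (psiOf f₁) := AlgHom.ext (fun a => hg₁ a)
  have e₂ : psiOf g₂ = (j.mapMatrix).comp (psiOf f₂) := AlgHom.ext (fun a => hg₂ a)
  obtain ⟨P, hP⟩ := AzuInner.matrix_inner_of_isLocalRing hn (g₁.symm.trans g₂)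
  have hconj : ∀ a, psiOf g₂ a = P.1 * psiOf g₁ a * (P⁻¹).1 := by
    intro a
    have := hP (g₁ (1 ⊗ₜ a))
    simpa using this
  have hT := Theta_conj P.1 (P⁻¹).1 (psiOf g₁) (psiOf g₂) hconj
    (LinearMap.rTensor _ j.toLinearMap z)
  rw [e₁, e₂, Theta_rTensor, Theta_rTensor, hz, s0_map_algHom] at hT
  have h1 : K (P⁻¹).1 * K P.1 = 1 := by
    rw [← K_mul, ← Units.val_mul, inv_mul_cancel, Units.val_one, K_one]
  have h2 : (P⁻¹).1 * P.1 = 1 := by
    rw [← Units.val_mul, inv_mul_cancel, Units.val_one]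
  have hM : (Theta (psiOf f₁) z).map j = s0 := by
    have e : (Theta (psiOf f₁) z).map j = K (P⁻¹).1 *
        (K P.1 * (Theta (psiOf f₁) z).map j * K (P⁻¹).1) * K P.1 := by
      have : K (P⁻¹).1 * (K P.1 * (Theta (psiOf f₁) z).map j * K (P⁻¹).1) * K P.1 =
          (K (P⁻¹).1 * K P.1) * (Theta (psiOf f₁) z).map j * (K (P⁻¹).1 * K P.1) := by
        simp only [mul_assoc]
      rw [this, h1, one_mul, mul_one]
    rw [e, ← hT]
    exact K_conj_s0 _ _ h2
  have h3 := congrFun (congrFun hM f) h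
  have h4 := congrFun (congrFun (s0_map (L := S') (n := n) (j : S' →+* Localization.AtPrime J)) f) h
  rw [Matrix.map_apply] at h3 h4
  rw [map_sub, sub_eq_zero]
  exact h3.trans h4.symm

/-- the antisymmetriser descends to `A^{⊗n}` -/
theorem exists_s (hn : 1 ≤ n) {S : Type u} [CommRing S] [Algebra R S] [Module.FaithfullyFlat R S]
    (θ : S ⊗[R] A ≃ₐ[S] Matrix (Fin n) (Fin n) S) :
    ∃ s : ⨂[R] _ : Fin n, A, Psi (psiOf θ) s = s0 := by
  obtain ⟨u, hu⟩ := (Theta_bijective θ).2 s0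
  let p₁ : S →ₐ[R] S ⊗[R] S := Algebra.TensorProduct.includeLeft
  let p₂ : S →ₐ[R] S ⊗[R] S := Algebra.TensorProduct.includeRight
  obtain ⟨f₁, hf₁⟩ := AzuCP.exists_split_baseChange θ p₁
  obtain ⟨f₂, hf₂⟩ := AzuCP.exists_split_baseChange θ p₂
  have e₁ : psiOf f₁ = (p₁.mapMatrix).comp (psiOf θ) := AlgHom.ext (fun a => hf₁ a)
  have e₂ : psiOf f₂ = (p₂.mapMatrix).comp (psiOf θ) := AlgHom.ext (fun a => hf₂ a)
  have h1 : Theta (psiOf f₁) (LinearMap.rTensor _ p₁.toLinearMap u) = s0 := by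
    rw [e₁, Theta_rTensor, hu, s0_map_algHom]
  have h2 : Theta (psiOf f₂) (LinearMap.rTensor _ p₂.toLinearMap u) = s0 := by
    rw [e₂, Theta_rTensor, hu, s0_map_algHom]
  have h3 := transfer hn f₁ f₂ _ h2
  have heq : LinearMap.rTensor (⨂[R] _ : Fin n, A) p₁.toLinearMap u =
      LinearMap.rTensor (⨂[R] _ : Fin n, A) p₂.toLinearMap u :=
    (Theta_bijective f₁).1 (h1.trans h3.symm)
  have hd : Groth.Agent.Helper7.ModAmitsur.d R S (⨂[R] _ : Fin n, A) u = 0 := by
    unfold Groth.Agent.Helper7.ModAmitsur.d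
    rw [LinearMap.rTensor_sub, LinearMap.sub_apply, sub_eq_zero]
    exact heq
  obtain ⟨s, hs⟩ :=
    (Groth.Agent.Helper7.ModAmitsur.amitsur_exact R S (⨂[R] _ : Fin n, A) u).1 hd
  refine ⟨s, ?_⟩
  have : u = (1 : S) ⊗ₜ[R] s := hs.symm
  rw [this, Theta_tmul, one_smul] at hu
  exact hu

section Props

variable {S : Type u} [CommRing S] [Algebra R S] [Module.FaithfullyFlat R S]
  (θ : S ⊗[R] A ≃ₐ[S] Matrix (Fin n) (Fin n) S) (s : ⨂[R] _ : Fin n, A)
  (hs : Psi (psiOf θ) s = s0)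

include hs

theorem Theta_one_tmul_s : Theta (psiOf θ) ((1 : S) ⊗ₜ[R] s) = s0 := by
  rw [Theta_tmul, one_smul, hs]

/-- (P3) -/
theorem smul_s_eq_zero (r : R) (hr : r • s = 0) : r = 0 := by
  have h1 : Psi (psiOf θ) (r • s) = 0 := by rw [hr, map_zero]
  rw [map_smul, hs] at h1
  have h2 := congrFun (congrFun h1 id) id
  rw [Matrix.smul_apply, s0_id, Matrix.zero_apply, Algebra.smul_def, mul_one] at h2
  exact FaithfulSMul.algebraMap_injective R S (h2.trans (map_zero _).symm)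

/-- (P2) -/
theorem s_mul_mul_s (t : ⨂[R] _ : Fin n, A) : ∃ r : R, s * t * s = r • s := by
  let N : Submodule R (⨂[R] _ : Fin n, A) := Submodule.span R {s}
  have hinj := Module.FaithfullyFlat.tensorProduct_mk_injective (A := R) (B := S)
    ((⨂[R] _ : Fin n, A) ⧸ N)
  have key : (1 : S) ⊗ₜ[R] (s * t * s) =
      ((eps ᵥ* Psi (psiOf θ) t) ⬝ᵥ eps) ⊗ₜ[R] s := by
    apply (Theta_bijective θ).1
    rw [Theta_tmul, Theta_tmul, one_smul, map_mul, map_mul, hs, s0_mul_mul_s0]
  have h0 : N.mkQ (s * t * s) = 0 := by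
    apply hinj
    rw [map_zero]
    have h1 : TensorProduct.mk R S _ 1 (N.mkQ (s * t * s)) =
        LinearMap.lTensor S N.mkQ ((1 : S) ⊗ₜ[R] (s * t * s)) := by
      rw [LinearMap.lTensor_tmul]
      rfl
    rw [h1, key, LinearMap.lTensor_tmul]
    have : N.mkQ s = 0 := by
      rw [Submodule.mkQ_apply, Submodule.Quotient.mk_eq_zero]
      exact Submodule.mem_span_singleton_self s
    rw [this, TensorProduct.tmul_zero]
  rw [Submodule.mkQ_apply, Submodule.Quotient.mk_eq_zero] at h0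
  obtain ⟨r, hr⟩ := Submodule.mem_span_singleton.1 h0
  exact ⟨r, hr.symm⟩

/-- (P1) -/
theorem one_mem_ideal : ∃ (m : ℕ) (x y : Fin m → ⨂[R] _ : Fin n, A),
    ∑ k, x k * s * y k = 1 := by
  classical
  let J : Submodule R (⨂[R] _ : Fin n, A) :=
    Submodule.span R {t | ∃ x y : ⨂[R] _ : Fin n, A, t = x * s * y}
  have hinj := Module.FaithfullyFlat.tensorProduct_mk_injective (A := R) (B := S)
    ((⨂[R] _ : Fin n, A) ⧸ J)
  have hJ : ∀ x y : ⨂[R] _ : Fin n, A, J.mkQ (x * s * y) = 0 := by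
    intro x y
    rw [Submodule.mkQ_apply, Submodule.Quotient.mk_eq_zero]
    exact Submodule.subset_span ⟨x, y, rfl⟩
  have key : ∀ y y' : S ⊗[R] (⨂[R] _ : Fin n, A),
      LinearMap.lTensor S J.mkQ (y * ((1 : S) ⊗ₜ[R] s) * y') = 0 := by
    intro y y'
    induction y using TensorProduct.induction_on with
    | zero => simp
    | tmul c x =>
      induction y' using TensorProduct.induction_on with
      | zero => simp
      | tmul c' x' =>
        rw [Algebra.TensorProduct.tmul_mul_tmul, Algebra.TensorProduct.tmul_mul_tmul,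
          LinearMap.lTensor_tmul, hJ, TensorProduct.tmul_zero]
      | add z z' hz hz' => rw [mul_add, map_add, hz, hz', add_zero]
    | add z z' hz hz' => rw [add_mul, add_mul, map_add, hz, hz', add_zero]
  have hsurj := (Theta_bijective θ).2
  choose Y hY using fun f : Fin n → Fin n => hsurj (Matrix.single f id (1 : S))
  choose Y' hY' using fun f : Fin n → Fin n => hsurj (Matrix.single id f (1 : S))
  have hone : (1 : S ⊗[R] (⨂[R] _ : Fin n, A)) =
      ∑ f : Fin n → Fin n, Y f * ((1 : S) ⊗ₜ[R] s) * Y' f := by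
    apply (Theta_bijective θ).1
    rw [map_one, map_sum]
    simp only [map_mul, hY, hY', Theta_one_tmul_s θ s hs]
    exact sum_single_mul_s0_mul_single.symm
  have h0 : J.mkQ 1 = 0 := by
    apply hinj
    rw [map_zero]
    have h1 : TensorProduct.mk R S _ 1 (J.mkQ 1) =
        LinearMap.lTensor S J.mkQ (1 : S ⊗[R] (⨂[R] _ : Fin n, A)) := by
      rw [Algebra.TensorProduct.one_def, LinearMap.lTensor_tmul]
      rfl
    rw [h1, hone, map_sum]
    exact Finset.sum_eq_zero (fun f _ => key _ _)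
  rw [Submodule.mkQ_apply, Submodule.Quotient.mk_eq_zero] at h0
  obtain ⟨m, c, g, hg⟩ := Submodule.mem_span_set'.1 h0
  choose X Y₂ hXY using fun i => (g i).2
  refine ⟨m, fun i => c i • X i, Y₂, ?_⟩
  rw [← hg]
  refine Finset.sum_congr rfl (fun i _ => ?_)
  rw [hXY i, smul_mul_assoc, smul_mul_assoc]

end Props

end Groth.Agent.Helper8.TPowDesc
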