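import Mathlib
import Groth.Agent.Helper8.TPowDesc
import Groth.Agent.Helper8.MoritaRankOne
import Groth.Agent.Helper8.AzuGlobSplit

/-!
# `A^{⊗n} ≅ End_R(E)` for an Azumaya algebra of constant rank `n²` (S13796)
-/

set_option autoImplicit false
set_option linter.style.haveILetI false
universe u
open TensorProduct PiTensorProduct

namespace Groth.Agent.Helper8.TPowMain

open TPowMat TPowPsi

/-- rank of the endomorphism algebra of a finitely generated projective module -/
theorem rankAtStalk_end (R : Type u) [CommRing R] (E : Type u) [AddCommGroup E] [Module R E]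
    [Module.Finite R E] [Module.Projective R E] (p : PrimeSpectrum R) :
    Module.rankAtStalk (Module.End R E) p = Module.rankAtStalk E p * Module.rankAtStalk E p := by
  haveI : Module.FinitePresentation R E := Module.finitePresentation_of_projective R E
  have hbc := Module.FinitePresentation.isBaseChange_map R E E (Localization.AtPrime p.asIdeal)
  rw [Module.rankAtStalk_eq_finrank_tensorProduct, hbc.equiv.finrank_eq,
    Module.rankAtStalk_eq_finrank_tensorProduct]
  haveI : Module.Free (Localization.AtPrime p.asIdeal)
      (Localization.AtPrime p.asIdeal ⊗[R] E) := Module.free_of_flat_of_isLocalRing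
  exact Module.finrank_linearMap _ _ _ _

theorem main (R : Type u) [CommRing R] (A : Type u) [Ring A] [Algebra R A] [IsAzumaya R A] (n : ℕ)
    (hrk : ∀ p : PrimeSpectrum R, Module.rankAtStalk (R := R) A p = n ^ 2) :
    ∃ (E : Type u) (_ : AddCommGroup E) (_ : Module R E), Module.Finite R E ∧
      Module.Projective R E ∧
      (∀ p : PrimeSpectrum R, Module.rankAtStalk (R := R) E p = n ^ n) ∧
      Nonempty ((⨂[R] _ : Fin n, A) ≃ₐ[R] Module.End R E) := by
  classical
  haveI : Module.Finite R A := IsAzumaya.toFinite
  haveI : Module.Projective R A := IsAzumaya.toProjective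
  rcases Nat.eq_zero_or_pos n with rfl | hn
  · -- `n = 0`: the ring is trivial
    have hA : Subsingleton A := by
      rw [← Module.rankAtStalk_eq_zero_iff_subsingleton (R := R)]
      funext p
      rw [hrk p]
      rfl
    have hR : Subsingleton R := by
      have hAz : IsAzumaya R A := inferInstance
      have : (1 : R) = 0 := hAz.eq_of_smul_eq_smul (fun x => Subsingleton.elim _ _)
      exact subsingleton_of_zero_eq_one this.symm
    haveI : Subsingleton (⨂[R] _ : Fin 0, A) := Module.subsingleton R _
    haveI : Subsingleton (Module.End R PUnit.{u+1}) := Module.subsingleton R _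
    refine ⟨PUnit.{u+1}, inferInstance, inferInstance, inferInstance, inferInstance, ?_, ⟨?_⟩⟩
    · intro p
      exact absurd hR (not_subsingleton_iff_nontrivial.2 p.nontrivial)
    · exact
        { toFun := fun _ => 0
          invFun := fun _ => 0
          left_inv := fun _ => Subsingleton.elim _ _
          right_inv := fun _ => Subsingleton.elim _ _
          map_mul' := fun _ _ => Subsingleton.elim _ _
          map_add' := fun _ _ => Subsingleton.elim _ _
          commutes' := fun _ => Subsingleton.elim _ _ }
  · obtain ⟨S, _, _, hff, ⟨θ⟩⟩ := AzuGlobSplit.main R A n hrk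
    obtain ⟨s, hs⟩ := TPowDesc.exists_s hn θ
    obtain ⟨m, x, y, hxy⟩ := TPowDesc.one_mem_ideal θ s hs
    obtain ⟨hfin, hproj, hbij⟩ := MoritaRankOne.main (R := R) s x y hxy
      (TPowDesc.s_mul_mul_s θ s hs) (TPowDesc.smul_s_eq_zero θ s hs)
    let e : (⨂[R] _ : Fin n, A) ≃ₐ[R] Module.End R (MoritaRankOne.leftIdeal R s) :=
      AlgEquiv.ofBijective (MoritaRankOne.lam s) hbij
    refine ⟨MoritaRankOne.leftIdeal R s, inferInstance, inferInstance, hfin, hproj, ?_, ⟨e⟩⟩
    intro p
    -- ranks
    haveI : Module.Projective R (Module.End R (MoritaRankOne.leftIdeal R s)) :=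
      Module.Projective.of_equiv (dualTensorHomEquiv R _ _)
    haveI : Module.Flat R (⨂[R] _ : Fin n, A) := Module.Flat.of_linearEquiv e.toLinearEquiv
    obtain ⟨q, hq⟩ := PrimeSpectrum.comap_surjective_of_faithfullyFlat (A := R) (B := S) p
    haveI : Nontrivial S := q.nontrivial
    have h1 : Module.rankAtStalk (S ⊗[R] (⨂[R] _ : Fin n, A)) q =
        Module.rankAtStalk (⨂[R] _ : Fin n, A) p := by
      rw [Module.rankAtStalk_baseChange, hq]
    let Θ : S ⊗[R] (⨂[R] _ : Fin n, A) ≃ₗ[S] Matrix (Fin n → Fin n) (Fin n → Fin n) S :=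
      (AlgEquiv.ofBijective (Theta (psiOf θ)) (Theta_bijective θ)).toLinearEquiv
    have h2 : Module.rankAtStalk (S ⊗[R] (⨂[R] _ : Fin n, A)) q = n ^ n * n ^ n := by
      rw [Module.rankAtStalk_eq_of_equiv Θ, Module.rankAtStalk_eq_finrank_of_free]
      simp [Module.finrank_matrix]
    have h3 : Module.rankAtStalk (⨂[R] _ : Fin n, A) p =
        Module.rankAtStalk (Module.End R (MoritaRankOne.leftIdeal R s)) p :=
      congrFun (Module.rankAtStalk_eq_of_equiv e.toLinearEquiv) p
    rw [h1, h3, rankAtStalk_end] at h2
    exact Nat.mul_self_inj.1 h2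

end Groth.Agent.Helper8.TPowMain
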