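import Mathlib

set_option autoImplicit false

namespace Groth.Agent.Helper8.TStrKar

open CategoryTheory CategoryTheory.Limits CategoryTheory.Pretriangulated CategoryTheory.Triangulated

universe v u

section Ring

variable {R : Type*} [Ring R]

lemma uv_eq_one (e f : R) (he : e * e = e) (hf : f * f = f) (hd : (e - f) * (e - f) = 0) :
    (e * f + (1 - e) * (1 - f)) * (f * e + (1 - f) * (1 - e)) = 1 := by
  have key : (e * f + (1 - e) * (1 - f)) * (f * e + (1 - f) * (1 - e)) =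
      1 - (e - f) * (e - f) + (e * e - e) + (e * e - e) + (f * f - f) + e * (f * f - f) * e
        - e * (f * f - f) * (1 - e) - (1 - e) * (f * f - f) * e
        + (1 - e) * (f * f - f) * (1 - e) := by
    noncomm_ring
  rw [key, hd, he, hf]
  simp

lemma conj_aux (e f : R) (he : e * e = e) (hf : f * f = f) (hd : (e - f) * (e - f) = 0) :
    ∃ u v : R, u * v = 1 ∧ v * u = 1 ∧ e * u = u * f := by
  refine ⟨e * f + (1 - e) * (1 - f), f * e + (1 - f) * (1 - e), uv_eq_one e f he hf hd, ?_, ?_⟩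
  · have hd' : (f - e) * (f - e) = 0 := by
      have : (f - e) * (f - e) = (e - f) * (e - f) := by noncomm_ring
      rw [this, hd]
    exact uv_eq_one f e hf he hd'
  · have h1 : e * (e * f + (1 - e) * (1 - f)) = (e * e) * f + (e - e * e) * (1 - f) := by
      noncomm_ring
    have h2 : (e * f + (1 - e) * (1 - f)) * f = e * (f * f) + (1 - e) * (f - f * f) := by
      noncomm_ring
    rw [h1, h2, he, hf]
    simp

end Ring

section Preadd

variable {C : Type u} [Category.{v} C] [Preadditive C]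

/-- An endomorphism splits. -/
def Splits {X : C} (p : X ⟶ X) : Prop :=
  ∃ (Y : C) (i : Y ⟶ X) (e : X ⟶ Y), i ≫ e = 𝟙 Y ∧ e ≫ i = p

lemma splits_of_sq_zero {X : C} (e f : X ⟶ X) (he : e ≫ e = e) (hf : f ≫ f = f)
    (hd : (e - f) ≫ (e - f) = 0) (hs : Splits f) : Splits e := by
  obtain ⟨Y, j, r, hjr, hrj⟩ := hs
  obtain ⟨u, v, huv, hvu, heu⟩ := conj_aux (R := End X) e f he hf hd
  -- in `End X`, `x * y = y ≫ x`
  have h1 : v ≫ u = 𝟙 X := huv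
  have h2 : u ≫ v = 𝟙 X := hvu
  have h3 : u ≫ e = f ≫ u := heu
  refine ⟨Y, j ≫ u, v ≫ r, ?_, ?_⟩
  · calc (j ≫ u) ≫ v ≫ r = j ≫ (u ≫ v) ≫ r := by simp only [Category.assoc]
      _ = 𝟙 Y := by rw [h2, Category.id_comp, hjr]
  · calc (v ≫ r) ≫ j ≫ u = v ≫ (r ≫ j) ≫ u := by simp only [Category.assoc]
      _ = v ≫ f ≫ u := by rw [hrj]
      _ = v ≫ u ≫ e := by rw [h3]
      _ = e := by rw [← Category.assoc, h1, Category.id_comp]

end Preadd

section Tri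

variable {C : Type u} [Category.{v} C] [Preadditive C]
  [HasZeroObject C] [HasShift C ℤ] [∀ n : ℤ, (shiftFunctor C n).Additive] [Pretriangulated C]

lemma splits_of_triangle_aux (T T₁ : Triangle C) (hT : T ∈ distTriang C)
    (hT₁ : T₁ ∈ distTriang C) (φ : T ⟶ T)
    (h₂ : φ.hom₂ ≫ φ.hom₂ = φ.hom₂)
    (jA : T₁.obj₁ ⟶ T.obj₁) (rA : T.obj₁ ⟶ T₁.obj₁) (hA1 : jA ≫ rA = 𝟙 _)
    (hA2 : rA ≫ jA = φ.hom₁)
    (jB : T₁.obj₃ ⟶ T.obj₃) (rB : T.obj₃ ⟶ T₁.obj₃) (hB1 : jB ≫ rB = 𝟙 _)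
    (hB2 : rB ≫ jB = φ.hom₃)
    (h3 : T₁.mor₃ = jB ≫ T.mor₃ ≫ rA⟦(1 : ℤ)⟧') :
    Splits φ.hom₂ := by
  have c3 : T.mor₃ ≫ φ.hom₁⟦(1 : ℤ)⟧' = φ.hom₃ ≫ T.mor₃ := φ.comm₃
  have c2 : T.mor₂ ≫ φ.hom₃ = φ.hom₂ ≫ T.mor₂ := φ.comm₂
  have c1 : T.mor₁ ≫ φ.hom₂ = φ.hom₁ ≫ T.mor₁ := φ.comm₁
  -- the morphism `T₁ ⟶ T`
  have comm : T₁.mor₃ ≫ jA⟦(1 : ℤ)⟧' = jB ≫ T.mor₃ := by
    rw [h3]
    simp only [Category.assoc, ← Functor.map_comp, hA2]
    rw [c3, ← hB2]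
    simp only [Category.assoc]
    rw [reassoc_of% hB1]
  obtain ⟨s, hs1, hs2⟩ := complete_distinguished_triangle_morphism₂ T₁ T hT₁ hT jA jB comm
  -- the morphism `T ⟶ T₁`
  have comm' : T.mor₃ ≫ rA⟦(1 : ℤ)⟧' = rB ≫ T₁.mor₃ := by
    rw [h3, ← Category.assoc rB jB, hB2, ← reassoc_of% c3, ← Functor.map_comp, ← hA2,
      Category.assoc, hA1, Category.comp_id]
  obtain ⟨tt, ht1, ht2⟩ := complete_distinguished_triangle_morphism₂ T T₁ hT hT₁ rA rB comm'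
  have hw1 : T₁.mor₁ ≫ s ≫ tt = T₁.mor₁ := by
    rw [reassoc_of% hs1, ht1, reassoc_of% hA1]
  have hw2 : (s ≫ tt) ≫ T₁.mor₂ = T₁.mor₂ := by
    rw [Category.assoc, ← ht2, ← reassoc_of% hs2, hB1, Category.comp_id]
  let ψ : T₁ ⟶ T₁ :=
    { hom₁ := 𝟙 _
      hom₂ := s ≫ tt
      hom₃ := 𝟙 _
      comm₁ := by rw [hw1, Category.id_comp]
      comm₂ := by rw [hw2, Category.comp_id]
      comm₃ := by simp }
  have hiso : IsIso (s ≫ tt) :=
    isIso₂_of_isIso₁₃ ψ hT₁ hT₁ (by dsimp [ψ]; infer_instance) (by dsimp [ψ]; infer_instance)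
  have hw1' : T₁.mor₁ ≫ inv (s ≫ tt) = T₁.mor₁ := by
    rw [IsIso.comp_inv_eq, hw1]
  have hw2' : inv (s ≫ tt) ≫ T₁.mor₂ = T₁.mor₂ := by
    rw [IsIso.inv_comp_eq, hw2]
  -- the split idempotent `f`
  have hst : s ≫ tt ≫ inv (s ≫ tt) = 𝟙 _ := by
    rw [← Category.assoc, IsIso.hom_inv_id]
  have hfs : Splits ((tt ≫ inv (s ≫ tt)) ≫ s) := ⟨_, s, tt ≫ inv (s ≫ tt), hst, rfl⟩
  have hff : ((tt ≫ inv (s ≫ tt)) ≫ s) ≫ ((tt ≫ inv (s ≫ tt)) ≫ s) =
      (tt ≫ inv (s ≫ tt)) ≫ s := by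
    simp only [Category.assoc]
    rw [reassoc_of% hst]
  have hf1 : T.mor₁ ≫ ((tt ≫ inv (s ≫ tt)) ≫ s) = T.mor₁ ≫ φ.hom₂ := by
    simp only [Category.assoc]
    rw [reassoc_of% ht1, reassoc_of% hw1', hs1, reassoc_of% hA2, c1]
  have hf2 : ((tt ≫ inv (s ≫ tt)) ≫ s) ≫ T.mor₂ = φ.hom₂ ≫ T.mor₂ := by
    simp only [Category.assoc]
    rw [← hs2, reassoc_of% hw2', ← reassoc_of% ht2, hB2, c2]
  have hδ1 : T.mor₁ ≫ (φ.hom₂ - (tt ≫ inv (s ≫ tt)) ≫ s) = 0 := by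
    rw [Preadditive.comp_sub, hf1, sub_self]
  have hδ2 : (φ.hom₂ - (tt ≫ inv (s ≫ tt)) ≫ s) ≫ T.mor₂ = 0 := by
    rw [Preadditive.sub_comp, hf2, sub_self]
  obtain ⟨ψ', hψ'⟩ := Triangle.coyoneda_exact₂ T hT _ hδ2
  refine splits_of_sq_zero φ.hom₂ _ h₂ hff ?_ hfs
  nth_rewrite 1 [hψ']
  rw [Category.assoc, hδ1, comp_zero]

lemma splits_of_triangle (T : Triangle C) (hT : T ∈ distTriang C) (φ : T ⟶ T)
    (h₂ : φ.hom₂ ≫ φ.hom₂ = φ.hom₂) (h₁ : Splits φ.hom₁) (h₃ : Splits φ.hom₃) :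
    Splits φ.hom₂ := by
  obtain ⟨A₁, jA, rA, hA1, hA2⟩ := h₁
  obtain ⟨B₁, jB, rB, hB1, hB2⟩ := h₃
  obtain ⟨X₁, i₁, π₁, hT₁⟩ := distinguished_cocone_triangle₂ (jB ≫ T.mor₃ ≫ rA⟦(1 : ℤ)⟧')
  exact splits_of_triangle_aux T _ hT hT₁ φ h₂ jA rA hA1 hA2 jB rB hB1 hB2 rfl

variable [IsTriangulated C] (t : TStructure C)

lemma splits_one_sub_of_heart (a : ℤ) (X : C) [t.IsLE X a] [t.IsGE X a] (e : X ⟶ X)
    (he : e ≫ e = e) : Splits (𝟙 X - e) := by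
  obtain ⟨Z, g, k, hZ⟩ := distinguished_cocone_triangle e
  have hX1 : t.IsLE (X⟦(1 : ℤ)⟧) (a - 1) := t.isLE_shift X a 1 (a - 1)
  have hX1' : t.IsLE (X⟦(1 : ℤ)⟧) a := t.isLE_of_le _ (a - 1) a
  haveI : t.IsLE Z a :=
    t.isLE₂ _ (rot_of_distTriang _ hZ) a (show t.IsLE X a from inferInstance) (show t.IsLE (X⟦(1 : ℤ)⟧) a from hX1')
  have heg : e ≫ g = 0 := comp_distTriang_mor_zero₁₂ _ hZ
  have hef : e ≫ (𝟙 X - e) = 0 := by rw [Preadditive.comp_sub, Category.comp_id, he, sub_self]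
  obtain ⟨(f' : Z ⟶ X), hf'⟩ := Triangle.yoneda_exact₂ _ hZ (𝟙 X - e) hef
  replace hf' : 𝟙 X - e = g ≫ f' := hf'
  refine ⟨(t.truncGE a).obj Z, t.descTruncGE f' a, g ≫ (t.truncGEπ a).app Z, ?_, ?_⟩
  · -- `j ≫ r = 𝟙`
    have hr : (g ≫ (t.truncGEπ a).app Z) ≫
        (t.descTruncGE f' a ≫ g ≫ (t.truncGEπ a).app Z - 𝟙 _) = 0 := by
      rw [Preadditive.comp_sub, Category.comp_id, Category.assoc, t.π_descTruncGE_assoc,
        ← reassoc_of% hf', Preadditive.sub_comp, Category.id_comp, reassoc_of% heg, zero_comp,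
        sub_zero, sub_self]
    rw [Category.assoc] at hr
    obtain ⟨(ψ : X⟦(1 : ℤ)⟧ ⟶ (t.truncGE a).obj Z), hψ⟩ := Triangle.yoneda_exact₃ _ hZ _ hr
    have hψ0 : ψ = 0 := t.zero_of_isLE_of_isGE ψ (a - 1) a (by lia) hX1 inferInstance
    have h0 : k ≫ ψ = 0 := by rw [hψ0, comp_zero]
    replace hψ : (t.truncGEπ a).app Z ≫
        (t.descTruncGE f' a ≫ g ≫ (t.truncGEπ a).app Z - 𝟙 ((t.truncGE a).obj Z)) = 0 :=
      hψ.trans h0
    have : t.descTruncGE f' a ≫ g ≫ (t.truncGEπ a).app Z - 𝟙 _ = 0 :=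
      t.from_truncGE_obj_ext (by rw [hψ, comp_zero])
    exact sub_eq_zero.mp this
  · rw [Category.assoc, t.π_descTruncGE, ← hf']

lemma splits_of_amp (N : ℕ) : ∀ (a b : ℤ) (X : C) [t.IsGE X a] [t.IsLE X b] (_ : b - a < N)
    (e : X ⟶ X) (_ : e ≫ e = e), Splits e := by
  induction N with
  | zero =>
    intro a b X _ _ hN e he
    have hz : IsZero X := t.isZero X b a (by simpa using hN)
    exact ⟨X, 𝟙 X, 𝟙 X, by simp, hz.eq_of_src _ _⟩
  | succ N ih =>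
    intro a b X _ _ hN e he
    by_cases hab : b < a
    · have hz : IsZero X := t.isZero X b a hab
      exact ⟨X, 𝟙 X, 𝟙 X, by simp, hz.eq_of_src _ _⟩
    by_cases hab' : a = b
    · subst hab'
      have h1 : (𝟙 X - e) ≫ (𝟙 X - e) = 𝟙 X - e := by
        simp [Preadditive.comp_sub, Preadditive.sub_comp, he]
      have := splits_one_sub_of_heart t a X (𝟙 X - e) h1
      rwa [sub_sub_cancel] at this
    · have hlt : a < b := by lia
      push_cast at hN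
      have hN0 : (0 : ℤ) < N := by lia
      have hT := t.triangleLTGE_distinguished b X
      have h₂ : ((t.triangleLTGE b).map e).hom₂ ≫ ((t.triangleLTGE b).map e).hom₂ =
          ((t.triangleLTGE b).map e).hom₂ := by
        exact he
      have h₁ : Splits ((t.triangleLTGE b).map e).hom₁ := by
        refine ih a (b - 1) ((t.truncLT b).obj X) (by lia) _ ?_
        show (t.truncLT b).map e ≫ (t.truncLT b).map e = (t.truncLT b).map e
        rw [← Functor.map_comp, he]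
      have h₃ : Splits ((t.triangleLTGE b).map e).hom₃ := by
        refine ih b b ((t.truncGE b).obj X) (by lia) _ ?_
        show (t.truncGE b).map e ≫ (t.truncGE b).map e = (t.truncGE b).map e
        rw [← Functor.map_comp, he]
      have := splits_of_triangle _ hT ((t.triangleLTGE b).map e) h₂ h₁ h₃
      exact this

theorem main (hb : ∀ X : C, t.bounded X) : IsIdempotentComplete C := by
  refine ⟨fun X p hp => ?_⟩
  obtain ⟨⟨a, ha⟩, ⟨b, hb'⟩⟩ := hb X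
  exact splits_of_amp t (b - a + 1).toNat a b X (by omega) p hp

end Tri

end Groth.Agent.Helper8.TStrKar
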