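import Mathlib
import Groth.Prelude.Def_ArtFun2
set_option autoImplicit false
universe u v

namespace Groth.Agent.Helper8.Tact
open ArtFun ArtFun.Art CategoryTheory

theorem s17369 (k : Type u) [Field k]
    (F : Art k k ⥤ Type v) (h0 : H0 F) (h2 : Heps F) (h1 : Hbar F)
    {B A P : Art k k} (p : B ⟶ A) (hp : IsSmallExt p)
    (p₁ p₂ : P ⟶ B) (hP : IsFibreProd p₁ p₂ p p)
    (g : P ⟶ dual k k)
    (h' : IsFibreProd p₁ g (toBase B) (toBase (dual k k)))
    (x : F.obj A) (y : F.obj B) (hy : F.map p y = x) (y' : F.obj B) (hy' : F.map p y' = x) :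
    ∃ θ : F.obj (dual k k),
      F.map p₂ ((Equiv.ofBijective (cmp F h') (h2 p₁ g h')).symm
        ⟨(y, θ), @Subsingleton.elim _ h0.2 _ _⟩) = y' := by
  obtain ⟨z, hz⟩ := h1 p₁ p₂ p p hP hp ⟨(y, y'), by rw [hy, hy']⟩
  have hz1 : F.map p₁ z = y := congrArg (fun w => w.1.1) hz
  have hz2 : F.map p₂ z = y' := congrArg (fun w => w.1.2) hz
  refine ⟨F.map g z, ?_⟩
  have : (Equiv.ofBijective (cmp F h') (h2 p₁ g h')).symm
      ⟨(y, F.map g z), @Subsingleton.elim _ h0.2 _ _⟩ = z := by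
    exact (Equiv.symm_apply_eq _).2 (FibProd.ext hz1.symm rfl)
  rw [this, hz2]

theorem s17370 (k : Type u) [Field k]
    (F : Art k k ⥤ Type v) (h0 : H0 F) (h2 : Heps F) (h4 : HSq F)
    {B A P : Art k k} (p : B ⟶ A) (hp : IsSmallExt p)
    (p₁ p₂ : P ⟶ B) (hP : IsFibreProd p₁ p₂ p p)
    (g : P ⟶ dual k k)
    (h' : IsFibreProd p₁ g (toBase B) (toBase (dual k k)))
    (x : F.obj A) (y : F.obj B) (hy : F.map p y = x) :
    Function.Injective (fun θ : F.obj (dual k k) =>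
        F.map p₂ ((Equiv.ofBijective (cmp F h') (h2 p₁ g h')).symm
          ⟨(y, θ), @Subsingleton.elim _ h0.2 _ _⟩)) ∧
      ∀ y' : F.obj B, F.map p y' = x →
        ∃ θ : F.obj (dual k k),
          F.map p₂ ((Equiv.ofBijective (cmp F h') (h2 p₁ g h')).symm
            ⟨(y, θ), @Subsingleton.elim _ h0.2 _ _⟩) = y' := by
  have hbij := h4 p₁ p₂ p hP hp
  have key : ∀ θ : F.obj (dual k k),
      cmp F h' ((Equiv.ofBijective (cmp F h') (h2 p₁ g h')).symm
        ⟨(y, θ), @Subsingleton.elim _ h0.2 _ _⟩) = ⟨(y, θ), @Subsingleton.elim _ h0.2 _ _⟩ :=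
    fun θ => (Equiv.ofBijective (cmp F h') (h2 p₁ g h')).apply_symm_apply _
  constructor
  · intro θ₁ θ₂ h
    set z₁ := (Equiv.ofBijective (cmp F h') (h2 p₁ g h')).symm
      ⟨(y, θ₁), @Subsingleton.elim _ h0.2 _ _⟩ with hz₁
    set z₂ := (Equiv.ofBijective (cmp F h') (h2 p₁ g h')).symm
      ⟨(y, θ₂), @Subsingleton.elim _ h0.2 _ _⟩ with hz₂
    have h12 : F.map p₂ z₁ = F.map p₂ z₂ := h
    have a1 : F.map p₁ z₁ = y := congrArg (fun w => w.1.1) (key θ₁)
    have a2 : F.map p₁ z₂ = y := congrArg (fun w => w.1.1) (key θ₂)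
    have b1 : F.map g z₁ = θ₁ := congrArg (fun w => w.1.2) (key θ₁)
    have b2 : F.map g z₂ = θ₂ := congrArg (fun w => w.1.2) (key θ₂)
    have hz : z₁ = z₂ := by
      apply hbij.1
      apply FibProd.ext
      · exact a1.trans a2.symm
      · exact h12
    rw [← b1, ← b2, hz]
  · intro y' hy'
    obtain ⟨z, hz⟩ := hbij.2 ⟨(y, y'), by rw [hy, hy']⟩
    have hz1 : F.map p₁ z = y := congrArg (fun w => w.1.1) hz
    have hz2 : F.map p₂ z = y' := congrArg (fun w => w.1.2) hz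
    refine ⟨F.map g z, ?_⟩
    have : (Equiv.ofBijective (cmp F h') (h2 p₁ g h')).symm
        ⟨(y, F.map g z), @Subsingleton.elim _ h0.2 _ _⟩ = z := by
      exact (Equiv.symm_apply_eq _).2 (FibProd.ext hz1.symm rfl)
    rw [this, hz2]

end Groth.Agent.Helper8.Tact
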