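import Mathlib

set_option autoImplicit false
open scoped Pointwise

namespace Groth.Agent.Helper8.TameA

variable {B : Type*} [CommRing B] {G : Type*} [Group G] [MulSemiringAction G B] (m : Ideal B)

/-- the wild inertia group: elements of the decomposition group acting trivially on `B/m²`. -/
def wild : Subgroup G := MulAction.stabilizer G m ⊓ (m ^ 2).inertia G

theorem mem_inertia_iff (J : Ideal B) (σ : G) : σ ∈ J.inertia G ↔ ∀ x : B, σ • x - x ∈ J :=
  Iff.rfl

theorem mem_wild_iff (σ : G) : σ ∈ wild (G := G) m ↔ σ • m = m ∧ ∀ x : B, σ • x - x ∈ m ^ 2 :=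
  Iff.rfl

theorem smul_mem_pow {σ : G} (hσ : σ • m = m) (k : ℕ) {y : B} (hy : y ∈ m ^ k) :
    σ • y ∈ m ^ k := by
  have h2 : σ • (m ^ k) = m ^ k := by
    rw [Ideal.pointwise_smul_def, Ideal.map_pow, ← Ideal.pointwise_smul_def, hσ]
  rw [← h2]
  exact Ideal.smul_mem_pointwise_smul _ _ _ hy

theorem smul_mem {σ : G} (hσ : σ • m = m) {y : B} (hy : y ∈ m) : σ • y ∈ m := by
  have := smul_mem_pow m hσ 1 (by rwa [pow_one])
  rwa [pow_one] at this

theorem wild_le_inertia : wild (G := G) m ≤ m.inertia G := by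
  intro σ hσ x
  exact Ideal.pow_le_self two_ne_zero (((mem_wild_iff m σ).mp hσ).2 x)

theorem inertia_le_stabilizer : m.inertia G ≤ MulAction.stabilizer G m :=
  Ideal.inertia_le_stabilizer m

theorem wild_le_stabilizer : wild (G := G) m ≤ MulAction.stabilizer G m := inf_le_left

theorem wild_normal : ((wild (G := G) m).subgroupOf (MulAction.stabilizer G m)).Normal := by
  refine (Subgroup.normal_subgroupOf_iff (wild_le_stabilizer m)).mpr fun σ τ hσ hτ => ?_
  have hτ' : τ • m = m := hτ
  obtain ⟨hσ1, hσ2⟩ := (mem_wild_iff m σ).mp hσ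
  rw [mem_wild_iff]
  refine ⟨?_, fun x => ?_⟩
  · have hτi : τ⁻¹ • m = m := by
      rw [inv_smul_eq_iff, hτ']
    rw [mul_smul, mul_smul, hτi, hσ1, hτ']
  · have h1 := hσ2 (τ⁻¹ • x)
    have h2 := smul_mem_pow m hτ' 2 h1
    rw [smul_sub, smul_inv_smul] at h2
    rw [mul_smul, mul_smul]
    exact h2

/-- elements of the wild inertia group act trivially on the graded pieces `m^i/m^(i+1)`. -/
theorem wild_sub_mem {σ : G} (hσ : σ ∈ wild (G := G) m) :
    ∀ (i : ℕ) (y : B), y ∈ m ^ i → σ • y - y ∈ m ^ (i + 1) := by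
  obtain ⟨hσ1, hσ2⟩ := (mem_wild_iff m σ).mp hσ
  intro i
  induction i with
  | zero =>
    intro y _
    exact Ideal.pow_le_pow_right (by norm_num) (hσ2 y)
  | succ i ih =>
    intro y hy
    rw [pow_succ] at hy
    refine Submodule.mul_induction_on hy ?_ ?_
    · intro b hb a ha
      have e : σ • (b * a) - b * a = (σ • b - b) * σ • a + b * (σ • a - a) := by
        rw [smul_mul']; ring
      rw [e]
      refine add_mem ?_ ?_
      · have h := Ideal.mul_mem_mul (ih b hb) (smul_mem m hσ1 ha)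
        rwa [← pow_succ] at h
      · have h := Ideal.mul_mem_mul hb (hσ2 a)
        rwa [← pow_add] at h
    · intro u v hu hv
      have e : σ • (u + v) - (u + v) = (σ • u - u) + (σ • v - v) := by
        rw [smul_add]; ring
      rw [e]
      exact add_mem hu hv

theorem wild_pow_sub {σ : G} (hσ : σ ∈ wild (G := G) m) (x : B) (j : ℕ)
    (hy : σ • x - x ∈ m ^ j) :
    ∀ n : ℕ, (σ ^ n) • x - x - n • (σ • x - x) ∈ m ^ (j + 1) := by
  intro n
  induction n with
  | zero => simp
  | succ n ih =>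
    have hpow : σ ^ n ∈ wild (G := G) m := pow_mem hσ n
    have h1 := wild_sub_mem m hpow j _ hy
    have e : σ ^ (n + 1) • x - x - (n + 1) • (σ • x - x) =
        (σ ^ n • (σ • x - x) - (σ • x - x)) + (σ ^ n • x - x - n • (σ • x - x)) := by
      have e1 : σ ^ (n + 1) • x = σ ^ n • σ • x := by rw [pow_succ, mul_smul]
      have e2 : σ ^ n • (σ • x - x) = σ ^ n • σ • x - σ ^ n • x := smul_sub _ _ _
      rw [e1, e2, succ_nsmul]; abel
    rw [e]
    exact add_mem h1 ih

/-- an element of the wild inertia group of order prime to the residue characteristic is trivial. -/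
theorem wild_smul_eq_of_pow [IsDomain B] [IsNoetherianRing B] [m.IsMaximal]
    {σ : G} (hσ : σ ∈ wild (G := G) m) (n : ℕ) (hn : σ ^ n = 1) (hnm : (n : B) ∉ m) (x : B) :
    σ • x = x := by
  classical
  by_contra hne
  have hy0 : σ • x - x ≠ 0 := sub_ne_zero.mpr hne
  have hK : ⨅ i : ℕ, m ^ i = ⊥ :=
    Ideal.iInf_pow_eq_bot_of_isDomain m (Ideal.IsMaximal.ne_top ‹_›)
  have hex : ∃ i, σ • x - x ∉ m ^ i := by
    by_contra hall
    push Not at hall
    have h1 : σ • x - x ∈ ⨅ i : ℕ, m ^ i := (Submodule.mem_iInf _).mpr hall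
    rw [hK] at h1
    exact hy0 ((Submodule.mem_bot _).mp h1)
  have hi : σ • x - x ∉ m ^ (Nat.find hex) := Nat.find_spec hex
  have hi0 : Nat.find hex ≠ 0 := by
    intro h0
    rw [h0, pow_zero, Ideal.one_eq_top] at hi
    exact hi trivial
  obtain ⟨j, hj⟩ := Nat.exists_eq_succ_of_ne_zero hi0
  have hjm : σ • x - x ∈ m ^ j := by
    by_contra h
    exact Nat.find_min hex (by omega : j < Nat.find hex) h
  have key := wild_pow_sub m hσ x j hjm n
  rw [hn, one_smul, sub_self, zero_sub, neg_mem_iff, nsmul_eq_mul] at key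
  rcases Ideal.IsMaximal.mul_mem_pow m key with h | h
  · exact hnm h
  · rw [hj] at hi
    exact hi h

end Groth.Agent.Helper8.TameA
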