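import Mathlib
import Groth.Agent.Helper8.TameA

set_option autoImplicit false
open scoped Pointwise

namespace Groth.Agent.Helper8.TameB
open Groth.Agent.Helper8.TameA

variable {B : Type*} [CommRing B] [IsDomain B] [IsDedekindDomain B] {G : Type*} [Group G]
  [MulSemiringAction G B] (m : Ideal B) [hmax : m.IsMaximal] (hm : m ≠ ⊥) (π : B) (hπ : π ∈ m)
  (hπ2 : π ∉ m ^ 2)

include hm hπ hπ2 in
theorem exists_mult (σ : G) (hσ : σ • m = m) : ∃ u : B, σ • π - π * u ∈ m ^ 2 := by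
  have h1 : π ∈ m ^ 1 := by rwa [pow_one]
  have h2 : σ • π ∈ m ^ 1 := by rw [pow_one]; exact smul_mem m hσ hπ
  obtain ⟨d, e, he, hde⟩ := Ideal.exists_mul_add_mem_pow_succ hm π (σ • π) h1 hπ2 h2
  refine ⟨d, ?_⟩
  rw [← hde, add_sub_cancel_left]
  exact he

include hm hπ hπ2 in
theorem exists_decomp (y : B) (hy : y ∈ m) : ∃ b z : B, z ∈ m ^ 2 ∧ y = π * b + z := by
  have h1 : π ∈ m ^ 1 := by rwa [pow_one]
  have h2 : y ∈ m ^ 1 := by rwa [pow_one]
  obtain ⟨d, e, he, hde⟩ := Ideal.exists_mul_add_mem_pow_succ hm π y h1 hπ2 h2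
  exact ⟨d, e, he, hde.symm⟩

include hπ2 in
theorem mult_unique {u u' : B} (h : π * u - π * u' ∈ m ^ 2) : u - u' ∈ m := by
  rw [← mul_sub, mul_comm] at h
  rcases Ideal.IsMaximal.mul_mem_pow m h with h | h
  · exact h
  · exact absurd h hπ2

include hπ in
theorem mult_of_sub_mem {u u' : B} (h : u - u' ∈ m) : π * u - π * u' ∈ m ^ 2 := by
  rw [← mul_sub, pow_two]
  exact Ideal.mul_mem_mul hπ h

include hπ in
theorem mult_mul {σ τ : G} (hσ : σ ∈ m.inertia G) (hτ : τ • m = m) {u v : B}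
    (hu : σ • π - π * u ∈ m ^ 2) (hv : τ • π - π * v ∈ m ^ 2) :
    (σ * τ) • π - π * (u * v) ∈ m ^ 2 := by
  have hσ' : σ • m = m := inertia_le_stabilizer m hσ
  have e : (σ * τ) • π - π * (u * v) =
      σ • (τ • π - π * v) + (σ • π - π * u) * σ • v + π * u * (σ • v - v) := by
    rw [mul_smul, smul_sub, smul_mul']; ring
  rw [e]
  refine add_mem (add_mem (smul_mem_pow m hσ' 2 hv) (Ideal.mul_mem_right _ _ hu)) ?_
  have h1 : π * u ∈ m := Ideal.mul_mem_right _ _ hπ
  have h2 : σ • v - v ∈ m := hσ v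
  rw [pow_two]
  exact Ideal.mul_mem_mul h1 h2

/-- the tame character `σ ↦ σ(π)/π mod m` on the inertia group. -/
noncomputable def theta (σ : m.inertia G) : B ⧸ m :=
  Ideal.Quotient.mk m (Classical.choose
    (exists_mult m hm π hπ hπ2 σ.1 (inertia_le_stabilizer m σ.2)))

theorem theta_spec (σ : m.inertia G) : ∃ u : B, σ.1 • π - π * u ∈ m ^ 2 ∧
    theta m hm π hπ hπ2 σ = Ideal.Quotient.mk m u :=
  ⟨_, Classical.choose_spec (exists_mult m hm π hπ hπ2 σ.1 (inertia_le_stabilizer m σ.2)), rfl⟩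

theorem theta_eq (σ : m.inertia G) {u : B} (hu : σ.1 • π - π * u ∈ m ^ 2) :
    theta m hm π hπ hπ2 σ = Ideal.Quotient.mk m u := by
  obtain ⟨u', hu', h⟩ := theta_spec m hm π hπ hπ2 σ
  rw [h, Ideal.Quotient.eq]
  apply mult_unique m π hπ2
  have e : π * u' - π * u = (σ.1 • π - π * u) - (σ.1 • π - π * u') := by ring
  rw [e]
  exact sub_mem hu hu'

theorem theta_one : theta m hm π hπ hπ2 (1 : m.inertia G) = 1 := by
  rw [theta_eq m hm π hπ hπ2 1 (u := 1)]
  · rfl
  · show (1 : G) • π - π * 1 ∈ m ^ 2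
    rw [one_smul, mul_one, sub_self]
    exact zero_mem _

theorem theta_mul (σ τ : m.inertia G) :
    theta m hm π hπ hπ2 (σ * τ) = theta m hm π hπ hπ2 σ * theta m hm π hπ hπ2 τ := by
  obtain ⟨u, hu, h1⟩ := theta_spec m hm π hπ hπ2 σ
  obtain ⟨v, hv, h2⟩ := theta_spec m hm π hπ hπ2 τ
  rw [h1, h2, ← map_mul]
  apply theta_eq
  exact mult_mul m π hπ σ.2 (inertia_le_stabilizer m τ.2) hu hv

/-- the tame character as a monoid hom. -/
noncomputable def thetaHom : m.inertia G →* B ⧸ m where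
  toFun := theta m hm π hπ hπ2
  map_one' := theta_one m hm π hπ hπ2
  map_mul' := theta_mul m hm π hπ hπ2

theorem thetaHom_eq_one_iff (σ : m.inertia G) :
    thetaHom m hm π hπ hπ2 σ = 1 ↔ σ.1 • π - π ∈ m ^ 2 := by
  obtain ⟨u, hu, h1⟩ := theta_spec m hm π hπ hπ2 σ
  show theta m hm π hπ hπ2 σ = 1 ↔ _
  rw [h1]
  constructor
  · intro h
    have h2 : u - 1 ∈ m := by
      rw [← Ideal.Quotient.eq]; exact h
    have h3 := mult_of_sub_mem m π hπ h2
    have e : σ.1 • π - π = (σ.1 • π - π * u) + (π * u - π * 1) := by ring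
    rw [e]
    exact add_mem hu h3
  · intro h
    have h2 : π * u - π * 1 ∈ m ^ 2 := by
      have e : π * u - π * 1 = (σ.1 • π - π) - (σ.1 • π - π * u) := by ring
      rw [e]
      exact sub_mem h hu
    have h3 := mult_unique m π hπ2 h2
    rw [show (1 : B ⧸ m) = Ideal.Quotient.mk m 1 from rfl, Ideal.Quotient.eq]
    exact h3

include hm hπ hπ2 in
/-- an inertia element fixing `π` modulo `m²` is wild, provided every element of `B` is, modulo
`m`, a simple root of a polynomial whose evaluation commutes with the inertia action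
(a separability condition on the residue field extension). -/
theorem mem_wild_of_sub_mem
    (hsep : ∀ x : B, ∃ g : Polynomial B,
      (∀ τ ∈ m.inertia G, τ • (g.eval x) = g.eval (τ • x)) ∧
      g.eval x ∈ m ∧ g.derivative.eval x ∉ m)
    {σ : G} (hσ : σ ∈ m.inertia G) (h : σ • π - π ∈ m ^ 2) : σ ∈ wild (G := G) m := by
  have hσ' : σ • m = m := inertia_le_stabilizer m hσ
  rw [mem_wild_iff]
  refine ⟨hσ', fun x => ?_⟩
  have step1 : ∀ y ∈ m, σ • y - y ∈ m ^ 2 := by
    intro y hy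
    obtain ⟨b, z, hz, hyb⟩ := exists_decomp m hm π hπ hπ2 y hy
    have e : σ • y - y = (σ • π - π) * σ • b + π * (σ • b - b) + (σ • z - z) := by
      rw [hyb, smul_add, smul_mul']; ring
    rw [e]
    refine add_mem (add_mem (Ideal.mul_mem_right _ _ h) ?_)
      (sub_mem (smul_mem_pow m hσ' 2 hz) hz)
    rw [pow_two]
    exact Ideal.mul_mem_mul hπ (hσ b)
  obtain ⟨g, hg1, hg2, hg3⟩ := hsep x
  obtain ⟨k, hk⟩ := Polynomial.binomExpansion g x (σ • x - x)
  have e1 : x + (σ • x - x) = σ • x := by ring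
  rw [e1, ← hg1 σ hσ] at hk
  have h2 : (σ • x - x) ^ 2 ∈ m ^ 2 := Ideal.pow_mem_pow (hσ x) 2
  have h3 : g.derivative.eval x * (σ • x - x) ∈ m ^ 2 := by
    have e2 : g.derivative.eval x * (σ • x - x) =
        (σ • g.eval x - g.eval x) - k * (σ • x - x) ^ 2 := by
      rw [hk]; ring
    rw [e2]
    exact sub_mem (step1 _ hg2) (Ideal.mul_mem_left _ _ h2)
  rcases Ideal.IsMaximal.mul_mem_pow m h3 with h4 | h4
  · exact absurd h4 hg3
  · exact h4

theorem ker_thetaHom_units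
    (hsep : ∀ x : B, ∃ g : Polynomial B,
      (∀ τ ∈ m.inertia G, τ • (g.eval x) = g.eval (τ • x)) ∧
      g.eval x ∈ m ∧ g.derivative.eval x ∉ m) :
    (thetaHom m hm π hπ hπ2).toHomUnits.ker = (wild (G := G) m).subgroupOf (m.inertia G) := by
  ext σ
  rw [MonoidHom.mem_ker, Subgroup.mem_subgroupOf, Units.ext_iff, MonoidHom.coe_toHomUnits,
    Units.val_one, thetaHom_eq_one_iff]
  constructor
  · intro h
    exact mem_wild_of_sub_mem m hm π hπ hπ2 hsep σ.2 h
  · intro h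
    have := ((mem_wild_iff m σ.1).mp h).2 π
    exact this

end Groth.Agent.Helper8.TameB
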