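import Mathlib
import Groth.Agent.Helper8.TameB

set_option autoImplicit false
open scoped Pointwise

namespace Groth.Agent.Helper8.TameC
open Groth.Agent.Helper8.TameA Groth.Agent.Helper8.TameB

variable {B : Type*} [CommRing B] [IsDomain B] [IsDedekindDomain B] {G : Type*} [Group G] [Finite G]
  [MulSemiringAction G B] (m : Ideal B) [hmax : m.IsMaximal]
  (hfaith : ∀ σ : G, (∀ b : B, σ • b = b) → σ = 1)

include hfaith in
theorem wild_isPGroup (p : ℕ) (hp : p.Prime) [CharP (B ⧸ m) p] :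
    IsPGroup p (wild (G := G) m) := by
  intro g
  obtain ⟨σ, hσ⟩ := g
  have hN : orderOf σ ≠ 0 := (orderOf_pos σ).ne'
  obtain ⟨a, n', hn', hN'⟩ := Nat.exists_eq_pow_mul_and_not_dvd hN p hp.ne_one
  refine ⟨a, ?_⟩
  apply Subtype.ext
  rw [Subgroup.coe_pow, Subgroup.coe_one]
  show σ ^ p ^ a = 1
  apply hfaith
  intro x
  have hτ : σ ^ p ^ a ∈ wild (G := G) m := pow_mem hσ _
  refine wild_smul_eq_of_pow m hτ n' ?_ ?_ x
  · rw [← pow_mul, ← hN', pow_orderOf_eq_one]
  · intro hmem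
    apply hn'
    rw [← CharP.cast_eq_zero_iff (B ⧸ m) p]
    have : ((n' : B ⧸ m)) = Ideal.Quotient.mk m (n' : B) := (map_natCast _ _).symm
    rw [this, Ideal.Quotient.eq_zero_iff_mem]
    exact hmem

include hfaith in
theorem wild_eq_bot [CharZero (B ⧸ m)] : wild (G := G) m = ⊥ := by
  rw [Subgroup.eq_bot_iff_forall]
  intro σ hσ
  apply hfaith
  intro x
  refine wild_smul_eq_of_pow m hσ (orderOf σ) (pow_orderOf_eq_one σ) ?_ x
  intro hmem
  have h0 : ((orderOf σ : ℕ) : B ⧸ m) = 0 := by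
    have : ((orderOf σ : ℕ) : B ⧸ m) = Ideal.Quotient.mk m ((orderOf σ : ℕ) : B) :=
      (map_natCast _ _).symm
    rw [this, Ideal.Quotient.eq_zero_iff_mem]
    exact hmem
  exact (orderOf_pos σ).ne' (Nat.cast_eq_zero.mp h0)

variable (hm : m ≠ ⊥)
  (hres : ∀ x : B, ∃ g : Polynomial B,
      (∀ τ ∈ m.inertia G, τ • (g.eval x) = g.eval (τ • x)) ∧
      g.eval x ∈ m ∧ g.derivative.eval x ∉ m)

include hm hres in
theorem exists_equiv_subgroup [((wild (G := G) m).subgroupOf (m.inertia G)).Normal] :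
    ∃ H : Subgroup (B ⧸ m)ˣ,
      Nonempty ((↥(m.inertia G) ⧸ (wild (G := G) m).subgroupOf (m.inertia G)) ≃* H) := by
  have hlt : m ^ 2 < m := by
    have h : m ^ (1 + 1) < m ^ 1 := Ideal.pow_succ_lt_pow hm 1
    rw [pow_one] at h
    exact h
  obtain ⟨π, hπ, hπ2⟩ := SetLike.exists_of_lt hlt
  have hker := ker_thetaHom_units (G := G) m hm π hπ hπ2 hres
  refine ⟨(thetaHom (G := G) m hm π hπ hπ2).toHomUnits.range, ⟨?_⟩⟩
  exact (QuotientGroup.quotientMulEquivOfEq hker.symm).trans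
    (QuotientGroup.quotientKerEquivRange _)

include hm hres hfaith in
theorem quotient_structure [hN : ((wild (G := G) m).subgroupOf (m.inertia G)).Normal] :
    IsCyclic (↥(m.inertia G) ⧸ (wild (G := G) m).subgroupOf (m.inertia G)) ∧
    (∀ p : ℕ, p.Prime → CharP (B ⧸ m) p →
      Nat.card (↥(m.inertia G) ⧸ (wild (G := G) m).subgroupOf (m.inertia G)) =
        Nat.card (m.inertia G) / p ^ (Nat.card (m.inertia G)).factorization p) ∧
    (CharZero (B ⧸ m) →
      Nat.card (↥(m.inertia G) ⧸ (wild (G := G) m).subgroupOf (m.inertia G)) =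
        Nat.card (m.inertia G)) ∧
    Nonempty ((↥(m.inertia G) ⧸ (wild (G := G) m).subgroupOf (m.inertia G)) ≃*
      rootsOfUnity (Nat.card (m.inertia G)) (B ⧸ m)) := by
  classical
  obtain ⟨H, ⟨φ⟩⟩ := exists_equiv_subgroup m hm hres
  haveI : Finite H := Finite.of_equiv _ φ.toEquiv
  have hcyc : IsCyclic (↥(m.inertia G) ⧸ (wild (G := G) m).subgroupOf (m.inertia G)) :=
    isCyclic_of_surjective φ.symm φ.symm.surjective
  have hqt : Nat.card (↥(m.inertia G) ⧸ (wild (G := G) m).subgroupOf (m.inertia G)) =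
      Nat.card H := Nat.card_congr φ.toEquiv
  have hprod : Nat.card (m.inertia G) = Nat.card H * Nat.card (wild (G := G) m) := by
    rw [← hqt, Subgroup.card_eq_card_quotient_mul_card_subgroup
      ((wild (G := G) m).subgroupOf (m.inertia G))]
    congr 1
    exact Nat.card_congr (Subgroup.subgroupOfEquivOfLe (wild_le_inertia m)).toEquiv
  have ht0 : Nat.card H ≠ 0 := Nat.card_pos.ne'
  haveI : NeZero (Nat.card H) := ⟨ht0⟩
  have hHt : H = rootsOfUnity (Nat.card H) (B ⧸ m) := by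
    apply Subgroup.eq_of_le_of_card_ge
    · intro h hh
      rw [mem_rootsOfUnity]
      have h1 : (⟨h, hh⟩ : H) ^ Nat.card H = 1 := pow_card_eq_one'
      have h2 := congrArg Subtype.val h1
      rw [Subgroup.coe_pow, Subgroup.coe_one] at h2
      exact h2
    · exact card_rootsOfUnity (B ⧸ m) (Nat.card H)
  have hpcase : ∀ p : ℕ, p.Prime → CharP (B ⧸ m) p →
      ∃ a, Nat.card (wild (G := G) m) = p ^ a ∧ ¬ p ∣ Nat.card H := by
    intro p hp hchar
    haveI := hchar
    haveI : Fact p.Prime := ⟨hp⟩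
    haveI : ExpChar (B ⧸ m) p := ExpChar.prime hp
    obtain ⟨a, ha⟩ := (IsPGroup.iff_card).mp (wild_isPGroup m hfaith p hp)
    refine ⟨a, ha, ?_⟩
    intro hdvd
    obtain ⟨u, hu⟩ := exists_prime_orderOf_dvd_card' p hdvd
    have h1 : (u : (B ⧸ m)ˣ) ^ (p ^ 1 * 1) = 1 := by
      rw [pow_one, mul_one, ← Subgroup.coe_pow, ← hu, pow_orderOf_eq_one, Subgroup.coe_one]
    have h2 : (u : (B ⧸ m)ˣ) ∈ rootsOfUnity 1 (B ⧸ m) :=
      (mem_rootsOfUnity_prime_pow_mul_iff (B ⧸ m) p 1 1).mp ((mem_rootsOfUnity _ _).mpr h1)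
    rw [mem_rootsOfUnity, pow_one] at h2
    have h3 : u = 1 := Subtype.ext h2
    rw [h3, orderOf_one] at hu
    exact hp.one_lt.ne hu
  refine ⟨hcyc, ?_, ?_, ?_⟩
  · intro p hp hchar
    obtain ⟨a, ha, hpt⟩ := hpcase p hp hchar
    have hfac : (Nat.card H * p ^ a).factorization p = a := by
      rw [Nat.factorization_mul ht0 (pow_ne_zero _ hp.ne_zero), Finsupp.add_apply,
        hp.factorization_pow, Finsupp.single_eq_same,
        Nat.factorization_eq_zero_of_not_dvd hpt, zero_add]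
    rw [hqt, hprod, ha, hfac, Nat.mul_div_cancel _ (pow_pos hp.pos a)]
  · intro hchar
    haveI := hchar
    rw [hqt, hprod, wild_eq_bot m hfaith, Subgroup.card_bot, mul_one]
  · have hroots : rootsOfUnity (Nat.card (m.inertia G)) (B ⧸ m) =
        rootsOfUnity (Nat.card H) (B ⧸ m) := by
      obtain ⟨q, hq⟩ := CharP.exists (B ⧸ m)
      rcases CharP.char_is_prime_or_zero (B ⧸ m) q with hqp | hq0
      · obtain ⟨a, ha, -⟩ := hpcase q hqp hq
        haveI : ExpChar (B ⧸ m) q := ExpChar.prime hqp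
        ext ζ
        rw [hprod, ha, mul_comm]
        exact mem_rootsOfUnity_prime_pow_mul_iff (B ⧸ m) q a (Nat.card H)
      · subst hq0
        haveI := CharP.charP_to_charZero (B ⧸ m)
        rw [hprod, wild_eq_bot m hfaith, Subgroup.card_bot, mul_one]
    exact ⟨φ.trans (MulEquiv.subgroupCongr (hHt.trans hroots.symm))⟩

end Groth.Agent.Helper8.TameC
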