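import Mathlib
import Groth.Agent.Helper8.TameC

set_option autoImplicit false
open scoped Pointwise

namespace Groth.Agent.Helper8.TameD
open Groth.Agent.Helper8.TameA Groth.Agent.Helper8.TameB Groth.Agent.Helper8.TameC

section Sep
variable {A B : Type*} [CommRing A] [CommRing B] [Algebra A B] {G : Type*} [Group G]
  [MulSemiringAction G B] [SMulCommClass G A B] (m : Ideal B) [m.IsMaximal]

/-- separability of the residue extension gives, for each `x`, a polynomial with coefficients
from `A` having `x` as a simple root modulo `m`. -/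
theorem hsep_of_isSeparable
    [Algebra.IsSeparable (A ⧸ m.comap (algebraMap A B)) (B ⧸ m)] (x : B) :
    ∃ g : Polynomial B, (∀ τ : G, τ • (g.eval x) = g.eval (τ • x)) ∧
      g.eval x ∈ m ∧ g.derivative.eval x ∉ m := by
  have hs : (minpoly (A ⧸ m.comap (algebraMap A B)) (Ideal.Quotient.mk m x)).Separable :=
    Algebra.IsSeparable.isSeparable (A ⧸ m.comap (algebraMap A B)) (Ideal.Quotient.mk m x)
  obtain ⟨f, hf⟩ := Polynomial.map_surjective (Ideal.Quotient.mk (m.comap (algebraMap A B)))
    Ideal.Quotient.mk_surjective (minpoly (A ⧸ m.comap (algebraMap A B)) (Ideal.Quotient.mk m x))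
  have hcomp : (algebraMap (A ⧸ m.comap (algebraMap A B)) (B ⧸ m)).comp
      (Ideal.Quotient.mk (m.comap (algebraMap A B))) =
      (Ideal.Quotient.mk m).comp (algebraMap A B) := RingHom.ext fun a => rfl
  have key : ∀ q : Polynomial A, Ideal.Quotient.mk m (Polynomial.aeval x q) =
      Polynomial.aeval (Ideal.Quotient.mk m x)
        (q.map (Ideal.Quotient.mk (m.comap (algebraMap A B)))) :=
    fun q => Polynomial.map_aeval_eq_aeval_map hcomp q x
  refine ⟨f.map (algebraMap A B), ?_, ?_, ?_⟩
  · intro τ
    rw [Polynomial.eval_map_algebraMap, Polynomial.eval_map_algebraMap]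
    exact (Polynomial.aeval_algHom_apply (MulSemiringAction.toAlgHom A B τ) x f).symm
  · rw [Polynomial.eval_map_algebraMap, ← Ideal.Quotient.eq_zero_iff_mem, key, hf, minpoly.aeval]
  · rw [Polynomial.derivative_map, Polynomial.eval_map_algebraMap,
      ← Ideal.Quotient.eq_zero_iff_mem, key, ← Polynomial.derivative_map, hf]
    exact hs.aeval_derivative_ne_zero (minpoly.aeval _ _)

end Sep

section Count

variable {R S G : Type*} [CommRing R] [CommRing S] [Algebra R S] [Group G]
  [MulSemiringAction G S] [IsGaloisGroup G R S] [Finite G]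

theorem card_stabilizer_eq_card_inertia_mul_finrank' (p : Ideal R) [p.IsMaximal]
    (P : Ideal S) [P.LiesOver p] [P.IsMaximal] [Algebra.IsSeparable (R ⧸ p) (S ⧸ P)] :
    Nat.card (MulAction.stabilizer G P) = Nat.card (P.inertia G) * P.inertiaDeg R := by
  letI : Field (R ⧸ p) := Ideal.Quotient.field p
  letI : Field (S ⧸ P) := Ideal.Quotient.field P
  have hnorm : Normal (R ⧸ p) (S ⧸ P) := Ideal.Quotient.normal G p P
  have : IsGalois (R ⧸ p) (S ⧸ P) := { }
  have : Module.Finite (R ⧸ p) (S ⧸ P) := Ideal.Quotient.finite_of_isInvariant G p P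
  have : Subgroup.index _ = _ := Nat.card_congr
    (Ideal.Quotient.stabilizerQuotientInertiaEquiv G p P).toEquiv
  rw [Ideal.inertiaDeg_eq_of_isMaximal p P, ← IsGalois.card_aut_eq_finrank (R ⧸ p) (S ⧸ P), ← this,
    ← ((Ideal.inertia G P).subgroupOf (MulAction.stabilizer G P)).card_mul_index,
    Nat.card_congr (Subgroup.subgroupOfEquivOfLe (Ideal.inertia_le_stabilizer (M := G) P)).toEquiv,
    AddSubgroup.subgroupOf_inertia]

theorem card_inertia_eq [IsDomain R] [IsDomain S] [Module.Finite R S] [Module.Flat R S]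
    (p : Ideal R) (P : Ideal S) [P.LiesOver p] [p.IsMaximal] [P.IsMaximal]
    [Algebra.IsSeparable (R ⧸ p) (S ⧸ P)] :
    Nat.card (P.inertia G) = Ideal.ramificationIdxIn p S := by
  have H : (p.primesOver S).ncard * Nat.card (P.inertia G) * P.inertiaDeg R = Nat.card G := by
    rw [mul_assoc, ← card_stabilizer_eq_card_inertia_mul_finrank' p P,
      ← Algebra.IsInvariant.orbit_eq_primesOver R S G p P]
    simpa using Nat.card_congr (MulAction.orbitProdStabilizerEquivGroup G P)
  rw [← Ideal.inertiaDegIn_eq_inertiaDeg p P G] at H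
  have hG : 0 < Nat.card G := Nat.card_pos
  have h1 : (p.primesOver S).ncard ≠ 0 := by
    intro h0
    rw [h0, zero_mul, zero_mul] at H
    omega
  have h2 : p.inertiaDegIn S ≠ 0 := by
    intro h0
    rw [h0, mul_zero] at H
    omega
  rwa [← Ideal.ncard_primesOver_mul_ramificationIdxIn_mul_inertiaDegIn p S G,
    mul_assoc, mul_right_inj' h1, mul_left_inj' h2] at H

end Count

section AKLB

variable (A K L B : Type*) [CommRing A] [IsDomain A] [IsDiscreteValuationRing A]
    [CommRing B] [IsDomain B] [Field K] [Field L] [Algebra A K] [Algebra B L]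
    [IsFractionRing A K] [IsFractionRing B L]
    [Algebra A B] [Algebra K L] [Algebra A L] [IsScalarTower A K L] [IsScalarTower A B L]
    [IsIntegralClosure B A L]
    [FiniteDimensional K L] [IsGalois K L] (m : Ideal B) [m.IsMaximal]

include L in
theorem comap_eq : m.comap (algebraMap A B) = IsLocalRing.maximalIdeal A := by
  haveI : Algebra.IsIntegral A B := IsIntegralClosure.isIntegral_algebra A L
  haveI : (m.comap (algebraMap A B)).IsMaximal :=
    Ideal.isMaximal_comap_of_isIntegral_of_isMaximal m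
  exact IsLocalRing.eq_maximalIdeal this

theorem main [Algebra.IsSeparable (A ⧸ m.comap (algebraMap A B)) (B ⧸ m)] :
    letI := IsIntegralClosure.MulSemiringAction A K L B
    let D : Subgroup (L ≃ₐ[K] L) := MulAction.stabilizer (L ≃ₐ[K] L) m
    let I : Subgroup (L ≃ₐ[K] L) := m.inertia (L ≃ₐ[K] L)
    let P : Subgroup (L ≃ₐ[K] L) := D ⊓ (m ^ 2).inertia (L ≃ₐ[K] L)
    let e : ℕ := Ideal.ramificationIdx' (IsLocalRing.maximalIdeal A) m
    P ≤ I ∧ I ≤ D ∧ (P.subgroupOf D).Normal ∧
    (∀ p : ℕ, p.Prime → CharP (A ⧸ m.comap (algebraMap A B)) p → IsPGroup p P) ∧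
    (CharZero (A ⧸ m.comap (algebraMap A B)) → P = ⊥) ∧
    (∀ [(P.subgroupOf I).Normal],
      IsCyclic (I ⧸ P.subgroupOf I) ∧
      (∀ p : ℕ, p.Prime → CharP (A ⧸ m.comap (algebraMap A B)) p →
        Nat.card (I ⧸ P.subgroupOf I) = e / p ^ e.factorization p) ∧
      (CharZero (A ⧸ m.comap (algebraMap A B)) → Nat.card (I ⧸ P.subgroupOf I) = e) ∧
      Nonempty (I ⧸ P.subgroupOf I ≃* ↥(rootsOfUnity e (B ⧸ m)))) := by
  letI := IsIntegralClosure.MulSemiringAction A K L B
  intro D I P e
  haveI : Algebra.IsIntegral A B := IsIntegralClosure.isIntegral_algebra A L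
  haveI : IsDedekindDomain B := IsIntegralClosure.isDedekindDomain A K L B
  haveI : Module.Finite A B := IsIntegralClosure.finite A K L B
  haveI hGG : IsGaloisGroup Gal(L/K) A B := IsGaloisGroup.of_isFractionRing _ _ _ K L
  haveI : SMulCommClass Gal(L/K) A B := hGG.commutes
  haveI : FaithfulSMul Gal(L/K) B := hGG.faithful
  have hAL : Function.Injective (algebraMap A L) := by
    rw [IsScalarTower.algebraMap_eq A K L, RingHom.coe_comp]
    exact (algebraMap K L).injective.comp (IsFractionRing.injective A K)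
  have hAB : Function.Injective (algebraMap A B) := by
    rw [IsScalarTower.algebraMap_eq A B L, RingHom.coe_comp] at hAL
    exact Function.Injective.of_comp hAL
  haveI : FaithfulSMul A B := (faithfulSMul_iff_algebraMap_injective A B).mpr hAB
  haveI hpmax : (m.comap (algebraMap A B)).IsMaximal :=
    Ideal.isMaximal_comap_of_isIntegral_of_isMaximal m
  have hcomap := comap_eq A L B m
  have hp0 : m.comap (algebraMap A B) ≠ ⊥ := by
    rw [hcomap]; exact IsDiscreteValuationRing.not_a_field A
  have hm : m ≠ ⊥ := by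
    intro h
    apply hp0
    rw [h]
    exact (RingHom.injective_iff_ker_eq_bot _).mp hAB
  have hfaith : ∀ σ : Gal(L/K), (∀ b : B, σ • b = b) → σ = 1 := fun σ h =>
    eq_of_smul_eq_smul (α := B) fun b => by rw [h b, one_smul]
  have hsep : ∀ x : B, ∃ g : Polynomial B,
      (∀ τ ∈ m.inertia Gal(L/K), τ • (g.eval x) = g.eval (τ • x)) ∧
      g.eval x ∈ m ∧ g.derivative.eval x ∉ m := by
    intro x
    obtain ⟨g, h1, h2, h3⟩ := hsep_of_isSeparable (A := A) (G := Gal(L/K)) m x
    exact ⟨g, fun τ _ => h1 τ, h2, h3⟩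
  have hinj : Function.Injective (algebraMap (A ⧸ m.comap (algebraMap A B)) (B ⧸ m)) :=
    Ideal.algebraMap_quotient_injective
  have hcard : Nat.card (m.inertia Gal(L/K)) =
      Ideal.ramificationIdx' (IsLocalRing.maximalIdeal A) m := by
    rw [← hcomap]
    haveI : m.LiesOver (m.comap (algebraMap A B)) := ⟨rfl⟩
    rw [card_inertia_eq (G := Gal(L/K)) (m.comap (algebraMap A B)) m,
      Ideal.ramificationIdxIn_eq_ramificationIdx (m.comap (algebraMap A B)) m Gal(L/K),
      Ideal.ramificationIdx'_eq_ramificationIdx (m.comap (algebraMap A B)) m hp0]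
  refine ⟨wild_le_inertia m, TameA.inertia_le_stabilizer m, wild_normal m, ?_, ?_, ?_⟩
  · intro p hp hchar
    haveI := hchar
    haveI : CharP (B ⧸ m) p := charP_of_injective_algebraMap hinj p
    exact wild_isPGroup m hfaith p hp
  · intro hchar
    haveI := hchar
    haveI : CharZero (B ⧸ m) := charZero_of_injective_algebraMap hinj
    exact wild_eq_bot m hfaith
  · intro hN
    have key := @quotient_structure B _ _ _ Gal(L/K) _ _ _ m _ hfaith hm hsep hN
    rw [hcard] at key
    obtain ⟨k1, k2, k3, k4⟩ := key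
    refine ⟨k1, ?_, ?_, k4⟩
    · intro p hp hchar
      haveI := hchar
      exact k2 p hp (charP_of_injective_algebraMap hinj p)
    · intro hchar
      haveI := hchar
      exact k3 (charZero_of_injective_algebraMap hinj)

end AKLB

end Groth.Agent.Helper8.TameD
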