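import Mathlib
import Groth.Prelude.Def_EtRam

/-!
# Helper8: an étale-finite algebra over a DVR is unramified at every dominating valuation ring

Pure algebra part of S18596.
-/

set_option autoImplicit false
universe u

namespace Groth.Agent.Helper8.TameEt

open IsLocalRing

section Core

variable {A : Type u} [CommRing A] [IsDomain A] [IsDiscreteValuationRing A]
  {L : Type u} [Field L] (g : A →+* L) (V : ValuationSubring L)

/-- valuation of the image of a unit is 1 -/
theorem val_unit (hV : ∀ a : A, g a ∈ V) (u : Aˣ) : V.valuation (g u) = 1 := by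
  have h1 : V.valuation (g u) ≤ 1 := (V.valuation_le_one_iff _).mpr (hV u)
  have h2 : V.valuation (g ((u⁻¹ : Aˣ) : A)) ≤ 1 := (V.valuation_le_one_iff _).mpr (hV _)
  have h3 : V.valuation (g u) * V.valuation (g ((u⁻¹ : Aˣ) : A)) = 1 := by
    rw [← map_mul, ← map_mul, Units.mul_inv, map_one, map_one]
  refine le_antisymm h1 ?_
  calc (1 : V.ValueGroup) = V.valuation (g u) * V.valuation (g ((u⁻¹ : Aˣ) : A)) := h3.symm
    _ ≤ V.valuation (g u) * 1 := mul_le_mul_right h2 _
    _ = _ := mul_one _

/-- elements of `L` integral over `A` lie in any valuation subring containing the image of `A` -/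
theorem mem_of_isIntegralElem (hV : ∀ a : A, g a ∈ V) (w : L) (hw : g.IsIntegralElem w) :
    w ∈ V := by
  obtain ⟨p, hp, hpw⟩ := hw
  let ρ : A →+* V := RingHom.codRestrict g V hV
  have hint : IsIntegral V w := by
    refine ⟨p.map ρ, hp.map ρ, ?_⟩
    rw [Polynomial.eval₂_map]
    have : (algebraMap V L).comp ρ = g := by ext a; rfl
    rw [this]; exact hpw
  obtain ⟨y, hy⟩ := (IsIntegrallyClosed.isIntegral_iff (R := V) (K := L)).mp hint
  rw [← hy]; exact y.2

theorem exists_le_val (hV : ∀ a : A, g a ∈ V) (x : L) (hx0 : x ≠ 0) (hx : g.IsIntegralElem x) :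
    ∃ a : A, a ≠ 0 ∧ V.valuation (g a) ≤ V.valuation x := by
  letI : Algebra A L := g.toAlgebra
  have hint : IsIntegral A x := hx
  have halg : IsAlgebraic A x⁻¹ := hint.isAlgebraic.inv
  obtain ⟨a, ha0, hai⟩ := halg.exists_integral_multiple
  refine ⟨a, ha0, ?_⟩
  have hmem : a • x⁻¹ ∈ V := mem_of_isIntegralElem g V hV _ hai
  rw [Algebra.smul_def] at hmem
  have h1 := (V.valuation_le_one_iff _).mpr hmem
  rw [map_mul, map_inv₀] at h1
  have hvx : 0 < V.valuation x := by
    rw [zero_lt_iff]; exact (Valuation.ne_zero_iff _).mpr hx0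
  rwa [mul_inv_le_iff₀ hvx, one_mul] at h1

variable {C : Type u} [CommRing C] [Algebra A C] [Algebra.Etale A C] [Module.Finite A C]

theorem core (hg : Function.Injective g) (φ : C →+* L) (hφ : ∀ a, φ (algebraMap A C a) = g a)
    (hgen : ∀ l : L, ∃ c₁ c₂ : C, φ c₂ ≠ 0 ∧ l * φ c₂ = φ c₁) :
    EtRam.IsTamelyRamified A g := by
  intro V hV
  letI : Algebra A V := (RingHom.codRestrict g V hV.1).toAlgebra
  intro hloc
  obtain ⟨π, hπ⟩ := IsDiscreteValuationRing.exists_irreducible A
  have hπ0 : π ≠ 0 := hπ.ne_zero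
  have hmA : maximalIdeal A = Ideal.span {π} :=
    (IsDiscreteValuationRing.irreducible_iff_uniformizer π).mp hπ
  have hgπ0 : g π ≠ 0 := fun h => hπ0 (hg (by rw [h, map_zero]))
  have hcomp : φ.comp (algebraMap A C) = g := RingHom.ext hφ
  have hint : ∀ c : C, g.IsIntegralElem (φ c) := by
    intro c
    obtain ⟨p, hp, hpc⟩ := Algebra.IsIntegral.isIntegral (R := A) c
    refine ⟨p, hp, ?_⟩
    rw [← hcomp, ← Polynomial.hom_eval₂, hpc, map_zero]
  have hφV : ∀ c : C, φ c ∈ V := fun c => mem_of_isIntegralElem g V hV.1 _ (hint c)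
  let ψ : C →+* V := RingHom.codRestrict φ V hφV
  have hψ : ∀ a : A, ψ (algebraMap A C a) = algebraMap A V a := fun a => Subtype.ext (hφ a)
  let n : Ideal C := (maximalIdeal V).comap ψ
  have hn_mem : ∀ c : C, c ∈ n ↔ V.valuation (φ c) < 1 := fun c => by
    change ψ c ∈ maximalIdeal V ↔ _
    exact V.valuation_lt_one_iff (ψ c)
  haveI : n.IsPrime := Ideal.comap_isPrime ψ _
  have hval1 : ∀ c : C, c ∉ n → V.valuation (φ c) = 1 := fun c hc =>
    le_antisymm ((V.valuation_le_one_iff _).mpr (hφV c)) (not_lt.mp (mt (hn_mem c).mpr hc))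
  let Cn := Localization.AtPrime n
  have hvπ : V.valuation (g π) < 1 :=
    hV.2 π (by rw [hmA]; exact Ideal.mem_span_singleton_self π)
  haveI : IsLocalHom (algebraMap A Cn) := by
    constructor
    intro a ha
    rw [IsScalarTower.algebraMap_apply A C Cn,
      IsLocalization.AtPrime.isUnit_to_map_iff Cn n] at ha
    by_contra hna
    have hmem : a ∈ maximalIdeal A := (mem_maximalIdeal a).mpr hna
    have h1 := hV.2 a hmem
    exact ha ((hn_mem _).mpr (by rw [hφ]; exact h1))
  haveI : Algebra.FormallyUnramified C Cn :=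
    Algebra.FormallyUnramified.of_isLocalization n.primeCompl
  haveI : Algebra.FormallyUnramified A Cn := Algebra.FormallyUnramified.comp A C Cn
  haveI : Algebra.EssFiniteType A Cn := Algebra.EssFiniteType.comp A C Cn
  have hmax : (maximalIdeal A).map (algebraMap A Cn) = maximalIdeal Cn :=
    Algebra.FormallyUnramified.map_maximalIdeal
  have factA : ∀ c : C, V.valuation (φ c) < 1 →
      ∃ s c' : C, V.valuation (φ s) = 1 ∧ s * c = algebraMap A C π * c' := by
    intro c hc
    have hcn : c ∈ n := (hn_mem c).mpr hc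
    have h1 : algebraMap C Cn c ∈ maximalIdeal Cn :=
      (IsLocalization.AtPrime.to_map_mem_maximal_iff Cn n c).mpr hcn
    rw [← hmax, hmA, Ideal.map_span, Set.image_singleton, Ideal.mem_span_singleton'] at h1
    obtain ⟨w, hw⟩ := h1
    obtain ⟨c'', t, rfl⟩ := IsLocalization.exists_mk'_eq n.primeCompl w
    have h2 : algebraMap C Cn (c'' * algebraMap A C π) = algebraMap C Cn (c * t) := by
      rw [map_mul, map_mul, ← hw, ← IsScalarTower.algebraMap_apply A C Cn]
      have := IsLocalization.mk'_spec Cn c'' t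
      rw [← this]; ring
    obtain ⟨t', ht'⟩ := (IsLocalization.eq_iff_exists n.primeCompl Cn).mp h2
    refine ⟨t' * t, t' * c'', hval1 _ ?_, ?_⟩
    · exact fun h => (Ideal.IsPrime.mem_or_mem inferInstance h).elim t'.2 t.2
    · calc (t' : C) * t * c = t' * (c * t) := by ring
        _ = t' * (c'' * algebraMap A C π) := ht'.symm
        _ = algebraMap A C π * (t' * c'') := by ring
  have hbound : ∀ c : C, φ c ≠ 0 → ∃ k : ℕ, V.valuation (g π) ^ k ≤ V.valuation (φ c) := by
    intro c hc0
    obtain ⟨a, ha0, hale⟩ := exists_le_val g V hV.1 (φ c) hc0 (hint c)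
    obtain ⟨k, u, rfl⟩ := IsDiscreteValuationRing.eq_unit_mul_pow_irreducible ha0 hπ
    refine ⟨k, ?_⟩
    simp only [map_mul, map_pow] at hale
    rwa [val_unit g V hV.1 u, one_mul] at hale
  have hvπ0 : 0 < V.valuation (g π) := by
    rw [zero_lt_iff]; exact (Valuation.ne_zero_iff _).mpr hgπ0
  have hstar : ∀ k : ℕ, ∀ (l : L) (c₁ c₂ : C), l ∈ V → φ c₂ ≠ 0 →
      V.valuation (g π) ^ k ≤ V.valuation (φ c₂) → l * φ c₂ = φ c₁ →
      ∃ d₁ d₂ : C, d₂ ∉ n ∧ l * φ d₂ = φ d₁ := by
    intro k
    induction k with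
    | zero =>
      intro l c₁ c₂ hl hc0 hk hlc
      refine ⟨c₁, c₂, ?_, hlc⟩
      rw [hn_mem]; rw [pow_zero] at hk; exact not_lt.mpr hk
    | succ k ih =>
      intro l c₁ c₂ hl hc0 hk hlc
      by_cases hc2 : c₂ ∈ n
      · have hv2 := (hn_mem c₂).mp hc2
        have hv1 : V.valuation (φ c₁) < 1 := by
          rw [← hlc, map_mul]
          calc V.valuation l * V.valuation (φ c₂) ≤ 1 * V.valuation (φ c₂) :=
                mul_le_mul_left ((V.valuation_le_one_iff l).mpr hl) _
            _ = V.valuation (φ c₂) := one_mul _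
            _ < 1 := hv2
        obtain ⟨s₁, c₁', hs₁, e₁⟩ := factA c₁ hv1
        obtain ⟨s₂, c₂', hs₂, e₂⟩ := factA c₂ hv2
        have e₁' : φ s₁ * φ c₁ = g π * φ c₁' := by rw [← map_mul, e₁, map_mul, hφ]
        have e₂' : φ s₂ * φ c₂ = g π * φ c₂' := by rw [← map_mul, e₂, map_mul, hφ]
        have hnew : l * φ (c₂' * s₁) = φ (c₁' * s₂) := by
          apply mul_left_cancel₀ hgπ0
          rw [map_mul, map_mul]
          calc g π * (l * (φ c₂' * φ s₁)) = l * φ s₁ * (g π * φ c₂') := by ring
            _ = l * φ s₁ * (φ s₂ * φ c₂) := by rw [e₂']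
            _ = φ s₂ * φ s₁ * (l * φ c₂) := by ring
            _ = φ s₂ * φ s₁ * φ c₁ := by rw [hlc]
            _ = φ s₂ * (φ s₁ * φ c₁) := by ring
            _ = φ s₂ * (g π * φ c₁') := by rw [e₁']
            _ = g π * (φ c₁' * φ s₂) := by ring
        have hvc2' : V.valuation (φ c₂) = V.valuation (g π) * V.valuation (φ c₂') := by
          have := congrArg V.valuation e₂'
          rwa [map_mul, map_mul, hs₂, one_mul] at this
        have hs₁0 : φ s₁ ≠ 0 := by
          intro h; rw [h, map_zero] at hs₁; exact zero_ne_one hs₁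
        have hc2'0 : φ c₂' ≠ 0 := by
          intro h
          rw [h, map_zero, mul_zero] at hvc2'
          exact hc0 ((Valuation.zero_iff _).mp hvc2')
        have hc2s0 : φ (c₂' * s₁) ≠ 0 := by
          rw [map_mul]; exact mul_ne_zero hc2'0 hs₁0
        have hk' : V.valuation (g π) ^ k ≤ V.valuation (φ (c₂' * s₁)) := by
          rw [map_mul, map_mul, hs₁, mul_one]
          rw [pow_succ, hvc2', mul_comm] at hk
          exact le_of_mul_le_mul_left hk hvπ0
        exact ih l (c₁' * s₂) (c₂' * s₁) hl hc2s0 hk' hnew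
      · exact ⟨c₁, c₂, hc2, hlc⟩
  have hunit : ∀ y : n.primeCompl, IsUnit (ψ y) := fun y => by
    have : ψ y ∉ maximalIdeal V := y.2
    exact IsLocalRing.notMem_maximalIdeal.mp this
  let ψ' : Cn →+* V := IsLocalization.lift hunit
  have hψ'surj : Function.Surjective ψ' := by
    intro l
    obtain ⟨c₁, c₂, hc0, hlc⟩ := hgen (l : L)
    obtain ⟨k, hk⟩ := hbound c₂ hc0
    obtain ⟨d₁, d₂, hd₂, hld⟩ := hstar k l c₁ c₂ l.2 hc0 hk hlc
    refine ⟨IsLocalization.mk' Cn d₁ (⟨d₂, hd₂⟩ : n.primeCompl), ?_⟩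
    rw [IsLocalization.lift_mk'_spec]
    apply Subtype.ext
    change φ d₁ = φ d₂ * (l : L)
    rw [← hld, mul_comm]
  let ψA : Cn →ₐ[A] V := { ψ' with
    commutes' := fun a => by
      change ψ' (algebraMap A Cn a) = algebraMap A V a
      rw [IsScalarTower.algebraMap_apply A C Cn, IsLocalization.lift_eq, hψ] }
  haveI : Algebra.FormallyUnramified A V :=
    Algebra.FormallyUnramified.of_surjective ψA hψ'surj
  haveI : Algebra.EssFiniteType A V := Algebra.EssFiniteType.of_surjective ψA hψ'surj
  have hmV : (maximalIdeal A).map (algebraMap A V) = maximalIdeal V :=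
    Algebra.FormallyUnramified.map_maximalIdeal
  refine ⟨inferInstance, ?_⟩
  intro p hp _
  have hidx : Ideal.ramificationIdx' (maximalIdeal A) (maximalIdeal V) = 1 := by
    apply Ideal.ramificationIdx'_spec
    · rw [hmV, pow_one]
    · rw [hmV]
      intro hle
      have hspan : maximalIdeal V = Ideal.span {algebraMap A V π} := by
        rw [← hmV, hmA, Ideal.map_span, Set.image_singleton]
      have hϖ0 : algebraMap A V π ≠ 0 := by
        intro h
        apply hgπ0
        have := congrArg (Subtype.val) h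
        exact this
      have hmem : algebraMap A V π ∈ maximalIdeal V ^ (1 + 1) := hle (by
        rw [hspan]; exact Ideal.mem_span_singleton_self _)
      have hmem' : algebraMap A V π ∈ maximalIdeal V := by
        rw [hspan]; exact Ideal.mem_span_singleton_self _
      rw [hspan, Ideal.span_singleton_pow, Ideal.mem_span_singleton'] at hmem
      obtain ⟨w, hw⟩ := hmem
      have h1 : algebraMap A V π * (w * algebraMap A V π) = algebraMap A V π * 1 := by
        linear_combination hw
      have h2 : w * algebraMap A V π = 1 := mul_left_cancel₀ hϖ0 h1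
      have h3 : IsUnit (algebraMap A V π) := IsUnit.of_mul_eq_one w (by rw [mul_comm]; exact h2)
      exact (IsLocalRing.mem_maximalIdeal _).mp hmem' h3
  rw [hidx]
  intro hdvd
  exact hp.one_lt.ne' (Nat.dvd_one.mp hdvd)

end Core

end Groth.Agent.Helper8.TameEt
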