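import Mathlib
import Groth.Prelude.Def_EtRam
import Groth.Agent.Helper8.TameEtA
import Groth.Agent.Helper8.ClopLiftSch

/-!
# Helper8: finite étale covers of proper schemes over a perfect field are tame at every DVR place

Scheme part of S18596.
-/

set_option autoImplicit false
universe u

namespace Groth.Agent.Helper8.TameEt

open AlgebraicGeometry CategoryTheory Limits

theorem main (k : Type u) [Field k] {X Y : Scheme.{u}} (s : X ⟶ Spec (CommRingCat.of k))
    [IsProper s] (f : Y ⟶ X) [IsFinite f] [Etale f] (y : Y)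
    (A : ValuationSubring (X.residueField (f.base y))) [IsDiscreteValuationRing A]
    (a : Spec (CommRingCat.of A) ⟶ Spec (CommRingCat.of k))
    (ha : Spec.map (CommRingCat.ofHom A.subtype) ≫ a = X.fromSpecResidueField (f.base y) ≫ s) :
    EtRam.IsTamelyRamified A ((f.residueFieldMap y).hom.comp A.subtype) := by
  -- Step 1: valuative criterion
  have hex : ValuativeCriterion.Existence s := by
    have h : UniversallyClosed s := inferInstance
    rw [UniversallyClosed.eq_valuativeCriterion] at h
    exact h.1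
  let Sq : ValuativeCommSq s :=
    { R := A, K := X.residueField (f.base y), i₁ := X.fromSpecResidueField (f.base y), i₂ := a,
      commSq := ⟨ha.symm⟩ }
  obtain ⟨⟨l, hl₁, hl₂⟩⟩ := (hex Sq).exists_lift
  replace hl₁ : Spec.map (CommRingCat.ofHom A.subtype) ≫ l =
      X.fromSpecResidueField (f.base y) := hl₁
  -- Step 2: the pullback
  let Z := pullback f l
  let sndZ : Z ⟶ Spec (CommRingCat.of A) := pullback.snd f l
  haveI : IsAffine Z := isAffine_of_isAffineHom sndZ
  let ψ : CommRingCat.of A ⟶ Γ(Z, ⊤) := (Scheme.ΓSpecIso (CommRingCat.of A)).inv ≫ sndZ.appTop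
  have hsnd : Z.isoSpec.hom ≫ Spec.map ψ = sndZ := ClopLiftSch.isoSpec_hom_comp_specMap sndZ
  have hfin : IsFinite (Spec.map ψ) := by
    have : IsFinite (Z.isoSpec.hom ≫ Spec.map ψ) := by rw [hsnd]; infer_instance
    exact (MorphismProperty.cancel_left_of_respectsIso @IsFinite Z.isoSpec.hom (Spec.map ψ)).mp this
  have het : Etale (Spec.map ψ) := by
    have : Etale (Z.isoSpec.hom ≫ Spec.map ψ) := by rw [hsnd]; infer_instance
    exact (MorphismProperty.cancel_left_of_respectsIso @Etale Z.isoSpec.hom (Spec.map ψ)).mp this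
  letI : Algebra A Γ(Z, ⊤) := ψ.hom.toAlgebra
  haveI : Module.Finite A Γ(Z, ⊤) := (IsFinite.SpecMap_iff ψ).mp hfin
  haveI : Algebra.Etale A Γ(Z, ⊤) := (HasRingHomProperty.Spec_iff (P := @Etale)).mp het
  -- Step 3: the point
  let g' : A →+* Y.residueField y := (f.residueFieldMap y).hom.comp A.subtype
  have hcomm : Y.fromSpecResidueField y ≫ f = Spec.map (CommRingCat.ofHom g') ≫ l := by
    have h1 : CommRingCat.ofHom g' = CommRingCat.ofHom A.subtype ≫ f.residueFieldMap y := rfl
    rw [h1, Spec.map_comp, Category.assoc, hl₁]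
    exact (Scheme.Hom.SpecMap_residueFieldMap_fromSpecResidueField f y).symm
  let h : Spec (Y.residueField y) ⟶ Z :=
    pullback.lift (Y.fromSpecResidueField y) (Spec.map (CommRingCat.ofHom g')) hcomm
  have hh₁ : h ≫ pullback.fst f l = Y.fromSpecResidueField y := pullback.lift_fst _ _ _
  have hh₂ : h ≫ sndZ = Spec.map (CommRingCat.ofHom g') := pullback.lift_snd _ _ _
  -- Step 4: the ring map
  let φ : Γ(Z, ⊤) ⟶ Y.residueField y := h.appTop ≫ (Scheme.ΓSpecIso (Y.residueField y)).hom
  have hφ : ψ ≫ φ = CommRingCat.ofHom g' := by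
    change ((Scheme.ΓSpecIso (CommRingCat.of A)).inv ≫ sndZ.appTop) ≫
      h.appTop ≫ (Scheme.ΓSpecIso (Y.residueField y)).hom = _
    rw [Category.assoc, ← Category.assoc sndZ.appTop, ← Scheme.Hom.comp_appTop, hh₂,
      Scheme.ΓSpecIso_naturality, Iso.inv_hom_id_assoc]
  have hSpecφ : h ≫ Z.isoSpec.hom = Spec.map φ := by
    rw [Scheme.isoSpec_hom, Scheme.toSpecΓ_naturality, ← SpecMap_ΓSpecIso_hom, ← Spec.map_comp]
  haveI hpre : IsPreimmersion h :=
    { isEmbedding := Topology.IsEmbedding.of_subsingleton _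
      stalkMap_surjective := fun x => by
        have hj : IsPreimmersion (h ≫ pullback.fst f l) := by rw [hh₁]; infer_instance
        have hsurj := (h ≫ pullback.fst f l).stalkMap_surjective x
        rw [Scheme.Hom.stalkMap_comp] at hsurj
        exact Function.Surjective.of_comp hsurj }
  have hpreφ : IsPreimmersion (Spec.map φ) := by rw [← hSpecφ]; infer_instance
  have hSOS : φ.hom.SurjectiveOnStalks := ((IsPreimmersion.SpecMap_iff φ).mp hpreφ).2
  -- Step 5: conclude
  refine core (C := Γ(Z, ⊤)) g' ?_ φ.hom ?_ ?_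
  · intro a b hab
    have h1 : (f.residueFieldMap y).hom (a : X.residueField (f.base y)) =
        (f.residueFieldMap y).hom (b : X.residueField (f.base y)) := hab
    exact Subtype.ext ((f.residueFieldMap y).hom.injective h1)
  · intro a
    have := congrArg (fun t => t.hom a) hφ
    exact this
  · intro l
    obtain ⟨x, r, c, hc, hr, e⟩ := (RingHom.surjectiveOnStalks_iff_forall_ideal.mp hSOS) ⊥
      bot_ne_top l
    refine ⟨x, r, hr, ?_⟩
    have hc0 : c ≠ 0 := hc
    apply mul_left_cancel₀ hc0
    rw [← e]; ring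

end Groth.Agent.Helper8.TameEt
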