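import Mathlib
import Groth.Agent.Helper3.HensDomain

set_option autoImplicit false
universe u
open Polynomial IsLocalRing

namespace Groth.Agent.Helper8.TameKummer

/-- In a henselian local ring, a unit whose residue is an `n`-th power (with `n` invertible in the
residue field) is an `n`-th power. -/
theorem exists_pow_eq (B : Type*) [CommRing B] [HenselianLocalRing B] (n : ℕ)
    (hn : (n : ResidueField B) ≠ 0) (w : B) (hw : IsUnit w)
    (d : ResidueField B) (hd : d ^ n = residue B w) : ∃ v : B, v ^ n = w ∧ residue B v = d := by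
  have hn0 : n ≠ 0 := by rintro rfl; simp at hn
  obtain ⟨a₀, rfl⟩ := residue_surjective d
  have hwne : residue B w ≠ 0 := by
    have := hw.map (residue B)
    exact this.ne_zero
  have ha0 : residue B a₀ ≠ 0 := by
    intro h
    rw [h, zero_pow hn0] at hd
    exact hwne hd.symm
  have hmon : (X ^ n - C w : B[X]).Monic := monic_X_pow_sub_C w hn0
  obtain ⟨a, ha, haa⟩ := HenselianLocalRing.is_henselian (X ^ n - C w : B[X]) hmon a₀
    (by
      rw [eval_sub, eval_pow, eval_X, eval_C, ← residue_eq_zero_iff, map_sub, map_pow, hd,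
        sub_self])
    (by
      rw [derivative_sub, derivative_C, sub_zero, derivative_X_pow, eval_mul, eval_pow, eval_X,
        eval_C]
      rw [← IsLocalRing.notMem_maximalIdeal, ← residue_eq_zero_iff, map_mul, map_pow,
        map_natCast]
      exact mul_ne_zero hn (pow_ne_zero _ ha0))
  refine ⟨a, ?_, ?_⟩
  · rw [IsRoot, eval_sub, eval_pow, eval_X, eval_C, sub_eq_zero] at ha
    exact ha
  · rw [← sub_eq_zero, ← map_sub, residue_eq_zero_iff]
    exact haa

/-- A henselian local domain whose residue field has a primitive `n`-th root of unity (with `n`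
invertible in the residue field) has a primitive `n`-th root of unity. -/
theorem exists_primitiveRoot (B : Type*) [CommRing B] [HenselianLocalRing B] (n : ℕ)
    (hn : (n : ResidueField B) ≠ 0) (z : ResidueField B) (hz : IsPrimitiveRoot z n) :
    ∃ ζ : B, IsPrimitiveRoot ζ n := by
  obtain ⟨ζ, h1, h2⟩ := exists_pow_eq B n hn 1 isUnit_one z (by rw [map_one, hz.pow_eq_one])
  refine ⟨ζ, h1, fun l hl => ?_⟩
  apply hz.dvd_of_pow_eq_one
  rw [← h2, ← map_pow, hl, map_one]

open Groth.Agent.Helper3 in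
/-- `n`-th roots of units in a domain integral over a henselian local ring with algebraically
closed residue field, `n` invertible in the residue field. -/
theorem exists_root_unit (O B : Type u) [CommRing O] [HenselianLocalRing O]
    [IsAlgClosed (ResidueField O)] [CommRing B] [IsDomain B] [Algebra O B] [Algebra.IsIntegral O B]
    (n : ℕ) (hn : (n : ResidueField O) ≠ 0) (w : B) (hw : IsUnit w) :
    ∃ v : B, v ^ n = w := by
  haveI hB := HensDomain.hens_of_integral_domain O B
  haveI := HensDomain.isLocalHom_of_isIntegral O B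
  letI := (ResidueField.map (algebraMap O B)).toAlgebra
  haveI := HensDomain.residue_algebraic O B
  have hn0 : n ≠ 0 := by rintro rfl; simp at hn
  have hbij := IsAlgClosed.algebraMap_bijective_of_isIntegral (k := ResidueField O)
    (K := ResidueField B)
  obtain ⟨c, hc⟩ := hbij.2 (residue B w)
  obtain ⟨d, hd⟩ := IsAlgClosed.exists_pow_nat_eq c (Nat.pos_of_ne_zero hn0)
  have hn' : (n : ResidueField B) ≠ 0 := by
    rw [← map_natCast (algebraMap (ResidueField O) (ResidueField B))]
    exact fun h => hn (hbij.1 (h.trans (map_zero _).symm))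
  obtain ⟨v, hv, -⟩ := exists_pow_eq B n hn' w hw (algebraMap _ _ d) (by rw [← map_pow, hd, hc])
  exact ⟨v, hv⟩

/-- A root `π` of an Eisenstein polynomial of degree `e` satisfies `π ^ e = ϖ * unit`. -/
theorem eisenstein_unit (O : Type*) [CommRing O] [IsDomain O] [IsDiscreteValuationRing O]
    (B : Type*) [CommRing B] [IsLocalRing B] [Algebra O B] [IsLocalHom (algebraMap O B)]
    (f : O[X]) (hmon : f.Monic) (hf : f.IsEisensteinAt (maximalIdeal O)) (he : 1 ≤ f.natDegree)
    (ϖ : O) (hϖ : Irreducible ϖ) (π : B) (hπ : aeval π f = 0) :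
    ∃ w : B, IsUnit w ∧ π ^ f.natDegree = algebraMap O B ϖ * w := by
  classical
  have hm : maximalIdeal O = Ideal.span {ϖ} := hϖ.maximalIdeal_eq
  have hb : ∀ i, ∃ b : O, i < f.natDegree → f.coeff i = ϖ * b := by
    intro i
    by_cases hi : i < f.natDegree
    · have := hf.mem hi
      rw [hm, Ideal.mem_span_singleton'] at this
      obtain ⟨a, ha⟩ := this
      exact ⟨a, fun _ => by rw [← ha, mul_comm]⟩
    · exact ⟨0, fun h => absurd h hi⟩
  choose b hb using hb
  have hb0 : IsUnit (b 0) := by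
    by_contra hnu
    have h1 : b 0 ∈ maximalIdeal O := (mem_maximalIdeal _).2 hnu
    rw [hm, Ideal.mem_span_singleton'] at h1
    obtain ⟨c, hc⟩ := h1
    apply hf.notMem
    rw [hb 0 he, ← hc, hm, Ideal.span_singleton_pow, Ideal.mem_span_singleton']
    exact ⟨c, by ring⟩
  obtain ⟨e', he'⟩ : ∃ e', f.natDegree = e' + 1 := ⟨f.natDegree - 1, by omega⟩
  set w : B := -∑ i ∈ Finset.range f.natDegree, algebraMap O B (b i) * π ^ i with hw
  have hpow : π ^ f.natDegree = algebraMap O B ϖ * w := by
    have h1 := hπ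
    rw [hmon.as_sum] at h1
    simp only [map_add, map_pow, aeval_X, map_sum, map_mul, aeval_C] at h1
    rw [add_eq_zero_iff_eq_neg] at h1
    rw [h1, hw, mul_neg, Finset.mul_sum]
    congr 1
    apply Finset.sum_congr rfl
    intro i hi
    rw [hb i (Finset.mem_range.mp hi), map_mul, mul_assoc]
  have hϖm : algebraMap O B ϖ ∈ maximalIdeal B := by
    rw [mem_maximalIdeal, mem_nonunits_iff]
    intro hu
    exact hϖ.not_isUnit (isUnit_of_map_unit (algebraMap O B) ϖ hu)
  have hπm : π ∈ maximalIdeal B := by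
    have : π ^ f.natDegree ∈ maximalIdeal B := by
      rw [hpow]; exact Ideal.mul_mem_right _ _ hϖm
    exact Ideal.IsPrime.mem_of_pow_mem inferInstance _ this
  refine ⟨w, ?_, hpow⟩
  by_contra hnu
  have hwm : w ∈ maximalIdeal B := (mem_maximalIdeal _).2 hnu
  have hsum : ∑ i ∈ Finset.range f.natDegree, algebraMap O B (b i) * π ^ i ∈ maximalIdeal B := by
    have := Ideal.neg_mem_iff (maximalIdeal B) |>.mpr hwm
    rwa [hw, neg_neg] at this
  rw [he', Finset.sum_range_succ'] at hsum
  have h2 : ∑ i ∈ Finset.range e', algebraMap O B (b (i + 1)) * π ^ (i + 1) ∈ maximalIdeal B := by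
    apply Ideal.sum_mem
    intro i _
    rw [pow_succ]
    exact Ideal.mul_mem_left _ _ (Ideal.mul_mem_left _ _ hπm)
  have h3 := (Ideal.add_mem_iff_right _ h2).mp hsum
  rw [pow_zero, mul_one] at h3
  exact (mem_maximalIdeal _).1 h3 (hb0.map _)

theorem natCast_ne_zero_of_lt (κ : Type*) [Field κ] (p : ℕ) [CharP κ p] (n : ℕ) (h1 : 1 ≤ n)
    (h2 : n < p) : (n : κ) ≠ 0 := by
  rw [Ne, CharP.cast_eq_zero_iff κ p n]
  exact Nat.not_dvd_of_pos_of_lt h1 h2

theorem irreducible_X_pow_sub_C (O : Type*) [CommRing O] [IsDomain O] [IsDiscreteValuationRing O]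
    (K : Type*) [Field K] [Algebra O K] [IsFractionRing O K]
    (ϖ : O) (hϖ : Irreducible ϖ) (n : ℕ) (hn : 1 ≤ n) :
    Irreducible (X ^ n - C (algebraMap O K ϖ) : K[X]) := by
  have hmon : (X ^ n - C ϖ : O[X]).Monic := monic_X_pow_sub_C ϖ (by omega)
  have h1 : Irreducible (X ^ n - C ϖ : O[X]) := by
    apply irreducible_of_eisenstein_criterion (P := maximalIdeal O) inferInstance
    · rw [hmon.leadingCoeff]
      exact fun h => (Ideal.ne_top_iff_one _).mp (maximalIdeal.isMaximal O).ne_top h
    · intro i hi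
      rw [degree_X_pow_sub_C (by omega), Nat.cast_lt] at hi
      rw [coeff_sub, coeff_X_pow, if_neg (by omega), zero_sub, coeff_C]
      split_ifs
      · rw [neg_mem_iff, hϖ.maximalIdeal_eq]; exact Ideal.mem_span_singleton_self ϖ
      · simp
    · rw [degree_X_pow_sub_C (by omega)]; exact_mod_cast (by omega : 0 < n)
    · rw [coeff_sub, coeff_X_pow, if_neg (by omega), zero_sub, coeff_C, if_pos rfl, neg_mem_iff,
        hϖ.maximalIdeal_eq, Ideal.span_singleton_pow, Ideal.mem_span_singleton]
      intro h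
      obtain ⟨c, hc⟩ := h
      have : ϖ * 1 = ϖ * (ϖ * c) := by rw [mul_one]; nth_rewrite 1 [hc]; ring
      have := mul_left_cancel₀ hϖ.ne_zero this
      exact hϖ.not_isUnit (IsUnit.of_mul_eq_one _ this.symm)
    · exact hmon.isPrimitive
  have := (hmon.irreducible_iff_irreducible_map_fraction_map (K := K)).mp h1
  simpa using this

open Groth.Agent.Helper3 IntermediateField in
theorem main53 (O : Type u) [CommRing O] [IsDomain O]
    [IsDiscreteValuationRing O] [HenselianLocalRing O] [IsAlgClosed (IsLocalRing.ResidueField O)]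
    (p : ℕ) [Fact p.Prime] [CharP (IsLocalRing.ResidueField O) p]
    (K : Type u) [Field K] [Algebra O K] [IsFractionRing O K]
    (f : O[X]) (hmon : f.Monic) (e : ℕ) (hdeg : f.natDegree = e) (he : 1 ≤ e) (hep : e < p)
    (hf : f.IsEisensteinAt (IsLocalRing.maximalIdeal O)) :
    Module.finrank K (f.map (algebraMap O K)).SplittingField = e ∧
      IsCyclic (f.map (algebraMap O K)).Gal := by
  classical
  obtain ⟨ϖ, hϖ⟩ := IsDiscreteValuationRing.exists_irreducible O
  set fK := f.map (algebraMap O K) with hfK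
  have hfKmon : fK.Monic := hmon.map _
  have hfKdeg : fK.natDegree = e := by rw [hfK, hmon.natDegree_map, hdeg]
  have hirr : Irreducible fK :=
    (hmon.irreducible_iff_irreducible_map_fraction_map (K := K)).mp
      (hf.irreducible inferInstance hmon.isPrimitive (by omega))
  haveI : Fact (Irreducible fK) := ⟨hirr⟩
  set E := AdjoinRoot fK with hE
  set π : E := AdjoinRoot.root fK with hπ
  have hπroot : aeval π fK = 0 := AdjoinRoot.aeval_eq fK ▸ AdjoinRoot.mk_self
  have hπroot' : aeval π f = 0 := by rw [← aeval_map_algebraMap K, hπroot]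
  have hfin : Module.finrank K E = e := by
    rw [(AdjoinRoot.powerBasis hfKmon.ne_zero).finrank, AdjoinRoot.powerBasis_dim, hfKdeg]
  haveI : FiniteDimensional K E := (AdjoinRoot.powerBasis hfKmon.ne_zero).finite
  -- the subring O[π]
  set B : Subalgebra O E := Algebra.adjoin O {π} with hB
  haveI : Algebra.IsIntegral O B := Algebra.IsIntegral.adjoin (by
    intro x hx
    rw [Set.mem_singleton_iff] at hx
    subst hx
    exact ⟨f, hmon, by rw [← aeval_def]; exact hπroot'⟩)
  haveI hBh := HensDomain.hens_of_integral_domain O B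
  haveI := HensDomain.isLocalHom_of_isIntegral O B
  set πB : B := ⟨π, Algebra.subset_adjoin (Set.mem_singleton π)⟩ with hπB
  have hπB0 : aeval πB f = 0 := by
    apply Subtype.val_injective
    rw [← Subalgebra.aeval_coe]
    exact hπroot'
  obtain ⟨w, hw, hpw⟩ := eisenstein_unit O B f hmon hf (by omega) ϖ hϖ πB hπB0
  have hne : (e : ResidueField O) ≠ 0 := natCast_ne_zero_of_lt _ p e he hep
  obtain ⟨v, hv⟩ := exists_root_unit O B e hne w hw
  have hw0 : (w : E) ≠ 0 := by
    intro h
    exact hw.ne_zero (Subtype.val_injective h)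
  -- ρ with ρ^e = ϖ
  set ρ : E := π * (v : E)⁻¹ with hρ
  have hρe : ρ ^ e = algebraMap K E (algebraMap O K ϖ) := by
    have h1 : (π : E) ^ e = algebraMap O E ϖ * (w : E) := by
      have := congrArg (Subtype.val) hpw
      rw [hdeg] at this
      simpa using this
    have h2 : (v : E) ^ e = (w : E) := by
      have := congrArg (Subtype.val) hv
      simpa using this
    rw [hρ, mul_pow, inv_pow, h2, h1, mul_assoc, mul_inv_cancel₀ hw0, mul_one,
      IsScalarTower.algebraMap_apply O K E]
  have hirrg := irreducible_X_pow_sub_C O K ϖ hϖ e he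
  have hming : minpoly K ρ = X ^ e - C (algebraMap O K ϖ) := by
    symm
    apply minpoly.eq_of_irreducible_of_monic hirrg
    · rw [map_sub, map_pow, aeval_X, aeval_C, hρe, sub_self]
    · exact monic_X_pow_sub_C _ (by omega)
  have htop : K⟮ρ⟯ = ⊤ := by
    rw [Field.primitive_element_iff_minpoly_natDegree_eq, hming, natDegree_X_pow_sub_C, hfin]
  -- roots of unity
  haveI : NeZero (e : ResidueField O) := ⟨hne⟩
  obtain ⟨z, hz⟩ := HasEnoughRootsOfUnity.exists_primitiveRoot (ResidueField O) e
  obtain ⟨ζ, hζ⟩ := exists_primitiveRoot O e hne z hz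
  have hK : (primitiveRoots (Module.finrank K E) K).Nonempty := by
    rw [hfin]
    exact ⟨algebraMap O K ζ, (mem_primitiveRoots (by omega)).mpr
      (hζ.map_of_injective (IsFractionRing.injective O K))⟩
  have h3 : ∃ α : E, α ^ Module.finrank K E ∈ Set.range (algebraMap K E) ∧ K⟮α⟯ = ⊤ :=
    ⟨ρ, by rw [hfin, hρe]; exact Set.mem_range_self _, htop⟩
  have h31 : IsGalois K E ∧ IsCyclic Gal(E/K) := ((isCyclic_tfae K E hK).out 2 0).mp h3
  obtain ⟨hgal, hcyc⟩ := h31
  -- E is a splitting field of fK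
  have hminπ : minpoly K π = fK :=
    (minpoly.eq_of_irreducible_of_monic hirr hπroot hfKmon).symm
  haveI : IsSplittingField K E fK := by
    refine ⟨?_, ?_⟩
    · have := Normal.splits (inferInstance : Normal K E) π
      rwa [hminπ] at this
    · rw [eq_top_iff, ← AdjoinRoot.adjoinRoot_eq_top (f := fK)]
      apply Algebra.adjoin_mono
      rw [Set.singleton_subset_iff, mem_rootSet]
      exact ⟨hfKmon.ne_zero, hπroot⟩
  let ψ : E ≃ₐ[K] fK.SplittingField := IsSplittingField.algEquiv E fK
  refine ⟨?_, ?_⟩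
  · rw [← ψ.toLinearEquiv.finrank_eq, hfin]
  · exact isCyclic_of_surjective (AlgEquiv.autCongr ψ) (MulEquiv.surjective _)

open IntermediateField in
theorem main52_aux (O : Type u) [CommRing O] [IsDomain O]
    [IsDiscreteValuationRing O] [HenselianLocalRing O] [IsAlgClosed (IsLocalRing.ResidueField O)]
    (p : ℕ) [Fact p.Prime] [CharP (IsLocalRing.ResidueField O) p]
    (K : Type u) [Field K] [Algebra O K] [IsFractionRing O K]
    (ϖ : O) (hϖ : Irreducible ϖ) (m : ℕ) (r b : Fin m → ℕ) (v : Fin m → Oˣ)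
    (hr : ∀ i, 1 ≤ r i) (hrb : ∀ i, Nat.Coprime (r i) (b i)) (hrp : ∀ i, r i < p)
    (N : ℕ) (hN : N = Finset.univ.lcm r) (hNκ : (N : ResidueField O) ≠ 0)
    (E : Type u) [Field E] [Algebra K E] [Algebra O E] [IsScalarTower O K E]
    [FiniteDimensional K E] (hfin : Module.finrank K E = N)
    (σ : E) (hσN : σ ^ N = algebraMap K E (algebraMap O K ϖ)) :
    Module.finrank K
        (∏ i, (X ^ (r i) - C (algebraMap O K ((v i : O) * ϖ ^ (b i))))).SplittingField = N := by
  classical
  have hN0 : N ≠ 0 := by rintro rfl; simp at hNκ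
  have hrN : ∀ i, r i ∣ N := fun i => hN ▸ Finset.dvd_lcm (Finset.mem_univ i)
  have hrκ : ∀ i, (r i : ResidueField O) ≠ 0 := fun i =>
    natCast_ne_zero_of_lt _ p (r i) (hr i) (hrp i)
  set ϖK := algebraMap O K ϖ with hϖK
  have hϖK0 : ϖK ≠ 0 := by
    rw [hϖK, Ne, map_eq_zero_iff _ (IsFractionRing.injective O K)]; exact hϖ.ne_zero
  have hσ0 : σ ≠ 0 := by
    intro h
    rw [h, zero_pow hN0] at hσN
    exact hϖK0 ((map_eq_zero _).mp hσN.symm)
  -- roots of unity
  haveI : NeZero (N : ResidueField O) := ⟨hNκ⟩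
  obtain ⟨z, hz⟩ := HasEnoughRootsOfUnity.exists_primitiveRoot (ResidueField O) N
  obtain ⟨ζ, hζ⟩ := exists_primitiveRoot O N hNκ z hz
  have hζE : IsPrimitiveRoot (algebraMap O E ζ) N :=
    hζ.map_of_injective (by
      rw [IsScalarTower.algebraMap_eq O K E]
      exact (algebraMap K E).injective.comp (IsFractionRing.injective O K))
  -- the quotients N / r i
  choose k hk using hrN
  -- roots of units
  have hw : ∀ i, ∃ w : O, w ^ r i = (v i : O) := by
    intro i
    obtain ⟨d, hd⟩ := IsAlgClosed.exists_pow_nat_eq (residue O (v i : O)) (hr i)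
    obtain ⟨w, hw, -⟩ := exists_pow_eq O (r i) (hrκ i) (v i) (v i).isUnit d hd
    exact ⟨w, hw⟩
  choose w hw using hw
  have hw0 : ∀ i, w i ≠ 0 := by
    intro i h
    have := hw i
    rw [h, zero_pow (by have := hr i; omega)] at this
    exact (v i).ne_zero this.symm
  have hwE0 : ∀ i, algebraMap O E (w i) ≠ 0 := by
    intro i
    rw [IsScalarTower.algebraMap_apply O K E, Ne, map_eq_zero,
      map_eq_zero_iff _ (IsFractionRing.injective O K)]
    exact hw0 i
  set a : Fin m → K := fun i => algebraMap O K ((v i : O) * ϖ ^ (b i)) with ha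
  set θ : Fin m → E := fun i => algebraMap O E (w i) * σ ^ (k i * b i) with hθ
  have hθr : ∀ i, θ i ^ r i = algebraMap K E (a i) := by
    intro i
    simp only [hθ, ha]
    rw [mul_pow, ← map_pow, hw i, ← pow_mul, mul_comm (k i * b i) (r i), ← mul_assoc, ← hk i,
      pow_mul, hσN, map_mul, map_pow, map_mul, map_pow, ← IsScalarTower.algebraMap_apply O K E,
      ← IsScalarTower.algebraMap_apply O K E]
  set P : K[X] := ∏ i, (X ^ (r i) - C (a i)) with hP
  have hPmon : P.Monic := monic_prod_of_monic _ _ fun i _ =>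
    monic_X_pow_sub_C _ (by have := hr i; omega)
  have hsplit : (P.map (algebraMap K E)).Splits := by
    rw [hP, Polynomial.map_prod]
    apply Splits.prod
    intro i _
    rw [Polynomial.map_sub, Polynomial.map_pow, map_X, map_C]
    have hζi : IsPrimitiveRoot (algebraMap O E ζ ^ k i) (r i) :=
      hζE.pow (by omega) (by rw [hk i, mul_comm])
    exact X_pow_sub_C_splits_of_isPrimitiveRoot hζi (hθr i)
  have hθroot : ∀ i, θ i ∈ P.rootSet E := by
    intro i
    rw [mem_rootSet]
    refine ⟨hPmon.ne_zero, ?_⟩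
    rw [hP, map_prod]
    apply Finset.prod_eq_zero (Finset.mem_univ i)
    rw [map_sub, map_pow, aeval_X, aeval_C, hθr i, sub_self]
  set F : IntermediateField K E := IntermediateField.adjoin K (P.rootSet E) with hF
  have hθF : ∀ i, θ i ∈ F := fun i => IntermediateField.subset_adjoin K _ (hθroot i)
  -- σ^(k i) ∈ F
  have hσkr : ∀ i, (σ ^ k i) ^ r i = algebraMap K E ϖK := by
    intro i
    rw [← pow_mul, mul_comm, ← hk i, hσN]
  have hσkF : ∀ i, σ ^ k i ∈ F := by
    intro i
    have h1 : (σ ^ k i) ^ b i ∈ F := by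
      have : (σ ^ k i) ^ b i = θ i * (algebraMap K E (algebraMap O K (w i)))⁻¹ := by
        simp only [hθ]
        rw [← IsScalarTower.algebraMap_apply O K E, mul_comm (algebraMap O E (w i)), mul_assoc,
          mul_inv_cancel₀ (hwE0 i), mul_one, pow_mul]
      rw [this]
      exact F.mul_mem (hθF i) (F.inv_mem (F.algebraMap_mem _))
    have h2 : (σ ^ k i) ^ r i ∈ F := by
      rw [hσkr i]; exact F.algebraMap_mem _
    have hbez := Int.gcd_eq_gcd_ab (r i) (b i)
    have hg : Int.gcd (r i) (b i) = 1 := by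
      rw [Int.gcd_natCast_natCast]; exact hrb i
    rw [hg] at hbez
    have h0 : σ ^ k i ≠ 0 := pow_ne_zero _ hσ0
    set τ := σ ^ k i with hτ
    have : τ = (τ ^ r i) ^ (Int.gcdA (r i) (b i)) * (τ ^ b i) ^ (Int.gcdB (r i) (b i)) := by
      rw [← zpow_natCast τ (r i), ← zpow_natCast τ (b i), ← zpow_mul, ← zpow_mul,
        ← zpow_add₀ h0, ← hbez]
      simp
    rw [this]
    exact F.mul_mem (zpow_mem h2 _) (zpow_mem h1 _)
  -- degrees
  have hdeg : ∀ i, r i ∣ Module.finrank K F := by
    intro i
    have hirri := irreducible_X_pow_sub_C O K ϖ hϖ (r i) (hr i)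
    have hmin : minpoly K (σ ^ k i) = X ^ r i - C ϖK := by
      symm
      apply minpoly.eq_of_irreducible_of_monic hirri
      · rw [map_sub, map_pow, aeval_X, aeval_C, hσkr i, sub_self]
      · exact monic_X_pow_sub_C _ (by have := hr i; omega)
    have hint : IsIntegral K (σ ^ k i) := Algebra.IsIntegral.isIntegral _
    have h1 : Module.finrank K K⟮σ ^ k i⟯ = r i := by
      rw [IntermediateField.adjoin.finrank hint, hmin, natDegree_X_pow_sub_C]
    rw [← h1]
    apply IntermediateField.finrank_dvd_of_le_right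
    rw [IntermediateField.adjoin_simple_le_iff]
    exact hσkF i
  have hNF : N ∣ Module.finrank K F := hN ▸ Finset.lcm_dvd fun i _ => hdeg i
  have hFN : Module.finrank K F ∣ N := by
    rw [← hfin, ← IntermediateField.finrank_top' (F := K) (E := E)]
    exact IntermediateField.finrank_dvd_of_le_right le_top
  have hFtop : F = ⊤ := by
    apply IntermediateField.eq_of_le_of_finrank_eq le_top
    rw [IntermediateField.finrank_top', hfin]
    exact Nat.dvd_antisymm hFN hNF
  haveI : IsSplittingField K E P := by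
    refine ⟨hsplit, ?_⟩
    rw [← IntermediateField.adjoin_toSubalgebra_of_isAlgebraic
      (fun x _ => (Algebra.IsIntegral.isIntegral (R := K) x).isAlgebraic), ← hF, hFtop,
      IntermediateField.top_toSubalgebra]
  let ψ : E ≃ₐ[K] P.SplittingField := IsSplittingField.algEquiv E P
  rw [← ψ.toLinearEquiv.finrank_eq, hfin]

theorem main52 (O : Type u) [CommRing O] [IsDomain O]
    [IsDiscreteValuationRing O] [HenselianLocalRing O] [IsAlgClosed (IsLocalRing.ResidueField O)]
    (p : ℕ) [Fact p.Prime] [CharP (IsLocalRing.ResidueField O) p]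
    (K : Type u) [Field K] [Algebra O K] [IsFractionRing O K]
    (ϖ : O) (hϖ : Irreducible ϖ) (m : ℕ) (r b : Fin m → ℕ) (v : Fin m → Oˣ)
    (hr : ∀ i, 1 ≤ r i) (hrb : ∀ i, Nat.Coprime (r i) (b i)) (hp : ∑ i, r i < p) :
    Module.finrank K
        (∏ i, (X ^ (r i) - C (algebraMap O K ((v i : O) * ϖ ^ (b i))))).SplittingField =
      Finset.univ.lcm r := by
  classical
  obtain ⟨N, hN⟩ : ∃ N, N = Finset.univ.lcm r := ⟨_, rfl⟩
  have hrp : ∀ i, r i < p := fun i =>
    lt_of_le_of_lt (Finset.single_le_sum (f := r) (fun _ _ => Nat.zero_le _) (Finset.mem_univ i)) hp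
  have hN0 : N ≠ 0 := by
    rw [hN, Ne, Finset.lcm_eq_zero_iff]
    rintro ⟨i, -, hi⟩
    have := hr i
    omega
  have hN1 : 1 ≤ N := Nat.one_le_iff_ne_zero.mpr hN0
  have hpN : ¬ p ∣ N := by
    intro h
    have h1 : N ∣ ∏ i, r i := hN ▸ Finset.lcm_dvd fun i hi => Finset.dvd_prod_of_mem r hi
    have h2 := h.trans h1
    rw [(Nat.Prime.prime (Fact.out : p.Prime)).dvd_finsetProd_iff] at h2
    obtain ⟨i, -, hi⟩ := h2
    exact Nat.not_dvd_of_pos_of_lt (hr i) (hrp i) hi
  have hNκ : (N : ResidueField O) ≠ 0 := by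
    rwa [Ne, CharP.cast_eq_zero_iff (ResidueField O) p N]
  have hirr := irreducible_X_pow_sub_C O K ϖ hϖ N hN1
  haveI : Fact (Irreducible (X ^ N - C (algebraMap O K ϖ) : K[X])) := ⟨hirr⟩
  have hgmon : (X ^ N - C (algebraMap O K ϖ) : K[X]).Monic := monic_X_pow_sub_C _ hN0
  have hσN : (AdjoinRoot.root (X ^ N - C (algebraMap O K ϖ) : K[X])) ^ N =
      algebraMap K (AdjoinRoot (X ^ N - C (algebraMap O K ϖ) : K[X])) (algebraMap O K ϖ) := by
    have : aeval (R := K) (AdjoinRoot.root (X ^ N - C (algebraMap O K ϖ) : K[X]))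
        (X ^ N - C (algebraMap O K ϖ) : K[X]) = 0 := by
      rw [AdjoinRoot.aeval_eq]; exact AdjoinRoot.mk_self
    rwa [map_sub, map_pow, aeval_X, aeval_C, sub_eq_zero] at this
  have hfin : Module.finrank K (AdjoinRoot (X ^ N - C (algebraMap O K ϖ) : K[X])) = N := by
    rw [(AdjoinRoot.powerBasis hgmon.ne_zero).finrank, AdjoinRoot.powerBasis_dim,
      natDegree_X_pow_sub_C]
  haveI : FiniteDimensional K (AdjoinRoot (X ^ N - C (algebraMap O K ϖ) : K[X])) :=
    (AdjoinRoot.powerBasis hgmon.ne_zero).finite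
  rw [← hN]
  exact main52_aux O p K ϖ hϖ m r b v hr hrb hrp N hN hNκ _ hfin _ hσN

end Groth.Agent.Helper8.TameKummer
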