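import Mathlib
import Groth.Prelude.Def_W4c3tautjacobianRel
set_option autoImplicit false

namespace Groth.Agent.Helper8.Taut
open W4c3tautjacobian MvPolynomial

variable (g : ℕ)

/-- first-degree weights in `ℤ` -/
def w1 : Var g → ℤ := fun v => ((wt g v).1 : ℤ)

/-- first-degree weights in `ℕ` -/
def w1N : Var g → ℕ := fun v => (wt g v).1

theorem weight_w1 (d : Var g →₀ ℕ) :
    Finsupp.weight (w1 g) d = ((Finsupp.weight (w1N g) d : ℕ) : ℤ) := by
  rw [Finsupp.weight_apply, Finsupp.weight_apply, Finsupp.sum, Finsupp.sum, Nat.cast_sum]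
  apply Finset.sum_congr rfl
  intro v _
  simp [w1, w1N]

theorem weight_w1N (d : Var g →₀ ℕ) :
    Finsupp.weight (w1N g) d = (Finsupp.weight (wt g) d).1 := by
  rw [Finsupp.weight_apply, Finsupp.weight_apply, Finsupp.sum, Finsupp.sum, Prod.fst_sum]
  apply Finset.sum_congr rfl
  intro v _
  simp [w1N]

variable {g}

theorem hom_of_wt {P : RelRing g} {m n : ℕ} (h : IsWeightedHomogeneous (wt g) P ((m, n) : ℕ × ℕ)) :
    IsWeightedHomogeneous (w1 g) P (m : ℤ) := by
  intro d hd
  have := h hd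
  rw [weight_w1, weight_w1N, this]

theorem IsWH.of_eq {P : RelRing g} {m m' : ℤ} (h : IsWeightedHomogeneous (w1 g) P m) (e : m = m') :
    IsWeightedHomogeneous (w1 g) P m' := e ▸ h

theorem IsWH.smul {P : RelRing g} {m : ℤ} (h : IsWeightedHomogeneous (w1 g) P m) (c : ℚ) :
    IsWeightedHomogeneous (w1 g) (c • P) m := by
  rw [← mem_weightedHomogeneousSubmodule] at h ⊢
  exact Submodule.smul_mem _ c h

theorem eq_zero_of_hom_neg {P : RelRing g} {m : ℤ} (h : IsWeightedHomogeneous (w1 g) P m) (hm : m < 0) :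
    P = 0 := by
  by_contra hP
  obtain ⟨d, hd⟩ := MvPolynomial.ne_zero_iff.1 hP
  have := h hd
  rw [weight_w1] at this
  omega

theorem xv_hom (i j : ℤ) : IsWeightedHomogeneous (w1 g) (xv g i j) i := by
  unfold xv
  split_ifs with h1 h2
  · rw [h1.1, ← map_natCast (C : ℚ →+* RelRing g)]
    exact isWeightedHomogeneous_C _ _
  · have h3 := isWeightedHomogeneous_X ℚ (w1 g) (some ⟨(i.toNat, j.toNat), h2.2.2⟩)
    refine IsWH.of_eq h3 ?_
    change ((i.toNat : ℕ) : ℤ) = i
    exact Int.toNat_of_nonneg h2.1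
  · exact isWeightedHomogeneous_zero _ _ _

theorem dv_hom {P : RelRing g} {m : ℤ} (h : IsWeightedHomogeneous (w1 g) P m) (p : ℕ × ℕ) :
    IsWeightedHomogeneous (w1 g) (dv g p P) (m - p.1) := by
  unfold dv
  split_ifs with hp
  · apply h.pderiv
    change m - (p.1 : ℤ) + ((p.1 : ℕ) : ℤ) = m
    ring
  · exact isWeightedHomogeneous_zero _ _ _

theorem F_hom {P : RelRing g} {m : ℤ} (h : IsWeightedHomogeneous (w1 g) P m) :
    IsWeightedHomogeneous (w1 g) (F g P) (m - 2) := by
  unfold F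
  apply IsWeightedHomogeneous.add
  · apply IsWH.smul
    apply IsWeightedHomogeneous.sum
    intro p _
    apply IsWeightedHomogeneous.sum
    intro q _
    have h1 := dv_hom (dv_hom h q) p
    have hy : IsWeightedHomogeneous (w1 g) (X none : RelRing g) 0 :=
      isWeightedHomogeneous_X ℚ (w1 g) none
    have hc : IsWeightedHomogeneous (w1 g) ((mergeCoeff p.1 q.1 : ℕ) : RelRing g) 0 := by
      rw [← map_natCast (C : ℚ →+* RelRing g)]
      exact isWeightedHomogeneous_C _ _
    have h2 : IsWeightedHomogeneous (w1 g)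
        (X none * xv g ((p.1 : ℤ) - 1) ((p.2 : ℤ) - 1) * xv g ((q.1 : ℤ) - 1) ((q.2 : ℤ) - 1)
          - (mergeCoeff p.1 q.1 : RelRing g) * xv g ((p.1 : ℤ) + q.1 - 2) ((p.2 : ℤ) + q.2))
        ((p.1 : ℤ) + q.1 - 2) := by
      apply IsWeightedHomogeneous.sub
      · exact IsWH.of_eq ((hy.mul (xv_hom _ _)).mul (xv_hom _ _)) (by ring)
      · exact IsWH.of_eq (hc.mul (xv_hom _ _)) (by ring)
    exact IsWH.of_eq (h2.mul h1) (by ring)
  · apply IsWeightedHomogeneous.sum
    intro p _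
    exact IsWH.of_eq ((xv_hom _ _).mul (dv_hom h p)) (by ring)

end Groth.Agent.Helper8.Taut
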