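import Mathlib
import Groth.Agent.Helper8.Taut1
set_option autoImplicit false

namespace Groth.Agent.Helper8.Taut
open W4c3tautjacobian MvPolynomial

variable {g : ℕ}

theorem dv_add (p : ℕ × ℕ) (A B : RelRing g) : dv g p (A + B) = dv g p A + dv g p B := by
  unfold dv
  split_ifs
  · exact map_add _ _ _
  · rw [add_zero]

theorem dv_smul (p : ℕ × ℕ) (c : ℚ) (A : RelRing g) : dv g p (c • A) = c • dv g p A := by
  unfold dv
  split_ifs
  · exact Derivation.map_smul _ _ _
  · rw [smul_zero]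

theorem dv_zero (p : ℕ × ℕ) : dv g p (0 : RelRing g) = 0 := by
  unfold dv
  split_ifs
  · exact map_zero _
  · rfl

theorem F_add (A B : RelRing g) : F g (A + B) = F g A + F g B := by
  unfold F
  simp only [dv_add, mul_add, Finset.sum_add_distrib, smul_add]
  abel

theorem F_smul (c : ℚ) (A : RelRing g) : F g (c • A) = c • F g A := by
  unfold F
  simp only [dv_smul, mul_smul_comm, ← Finset.smul_sum, smul_add]
  rw [smul_comm]

theorem F_zero : F g (0 : RelRing g) = 0 := by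
  have := F_smul (g := g) 0 0
  rw [zero_smul, zero_smul] at this
  exact this

theorem valid_r (hg : 1 ≤ g) : Valid g ((2, 0) : ℕ × ℕ) := by
  refine ⟨by simp, by simp; omega, by simp, by simp⟩

theorem mem_idx_of_valid {p : ℕ × ℕ} (h : Valid g p) : p ∈ idx g := by
  unfold idx
  rw [Finset.mem_product, Finset.mem_range, Finset.mem_range]
  obtain ⟨h1, h2, -, -⟩ := h
  omega

theorem xv_two_zero (hg : 1 ≤ g) : xv g 2 0 = X (some ⟨((2, 0) : ℕ × ℕ), valid_r hg⟩) := by
  unfold xv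
  rw [if_neg (by norm_num)]
  have h : (0 : ℤ) ≤ 2 ∧ (0 : ℤ) ≤ 0 ∧ Valid g ((2 : ℤ).toNat, (0 : ℤ).toNat) :=
    ⟨by norm_num, le_refl _, valid_r hg⟩
  rw [dif_pos h]
  rfl

theorem xv_natCast {q : ℕ × ℕ} (h : Valid g q) : xv g (q.1 : ℤ) (q.2 : ℤ) = X (some ⟨q, h⟩) := by
  unfold xv
  have h0 : ¬ ((q.1 : ℤ) = 0 ∧ (q.2 : ℤ) = 0) := by
    rintro ⟨h1, h2⟩
    apply h.2.2.2
    ext
    · exact_mod_cast h1
    · exact_mod_cast h2
  rw [if_neg h0]
  have h' : (0 : ℤ) ≤ q.1 ∧ (0 : ℤ) ≤ q.2 ∧ Valid g ((q.1 : ℤ).toNat, (q.2 : ℤ).toNat) := by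
    refine ⟨Int.natCast_nonneg _, Int.natCast_nonneg _, ?_⟩
    rw [Int.toNat_natCast, Int.toNat_natCast]
    exact h
  rw [dif_pos h']
  congr 3

/-- the first-degree Euler operator -/
noncomputable def Deuler (g : ℕ) (P : RelRing g) : RelRing g :=
  ∑ q ∈ idx g, (q.1 : RelRing g) * xv g (q.1 : ℤ) (q.2 : ℤ) * dv g q P

theorem dv_x_mul (hg : 1 ≤ g) (q : ℕ × ℕ) (P : RelRing g) :
    dv g q (xv g 2 0 * P) = (if q = (2, 0) then P else 0) + xv g 2 0 * dv g q P := by
  rw [xv_two_zero hg]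
  unfold dv
  by_cases hq : Valid g q
  · rw [dif_pos hq, dif_pos hq, Derivation.leibniz, pderiv_X, smul_eq_mul, smul_eq_mul, add_comm]
    congr 1
    by_cases hqr : q = (2, 0)
    · subst hqr
      rw [if_pos rfl, Pi.single_eq_same, mul_one]
    · rw [if_neg hqr, Pi.single_eq_of_ne, mul_zero]
      intro h
      apply hqr
      have := Option.some.inj h
      exact (congrArg Subtype.val this).symm
  · rw [dif_neg hq, dif_neg hq, mul_zero, add_zero, if_neg]
    rintro rfl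
    exact hq (valid_r hg)

end Groth.Agent.Helper8.Taut
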