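import Mathlib
import Groth.Agent.Helper8.Taut2
set_option autoImplicit false

namespace Groth.Agent.Helper8.Taut
open W4c3tautjacobian MvPolynomial

variable {g : ℕ}

theorem mergeCoeff_two (i : ℕ) : mergeCoeff i 2 = i := by
  unfold mergeCoeff
  by_cases hi : i = 0
  · subst hi; simp
  · rw [if_neg (by omega)]
    have : i + 2 - 2 = (i - 1) + 1 := by omega
    rw [this, Nat.choose_succ_self_right]
    omega

theorem mergeCoeff_two' (i : ℕ) : mergeCoeff 2 i = i := by
  unfold mergeCoeff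
  by_cases hi : i = 0
  · subst hi; simp
  · rw [if_neg (by omega)]
    have : 2 + i - 2 = i := by omega
    rw [this]
    simp

theorem xv_one_neg : xv g 1 (-1) = 0 := by
  unfold xv
  rw [if_neg (by norm_num), dif_neg (by norm_num)]

theorem xv_zero_zero : xv g 0 0 = (g : RelRing g) := by
  unfold xv
  rw [if_pos ⟨rfl, rfl⟩]

/-- the commutator of `F` and `E` -/
theorem F_E (hg : 1 ≤ g) (P : RelRing g) :
    F g (E g P) = E g (F g P) + (g : ℚ) • P - Deuler g P := by
  have hr : ((2, 0) : ℕ × ℕ) ∈ idx g := mem_idx_of_valid (valid_r hg)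
  set x := xv g 2 0 with hx
  -- the coefficients
  set a : ℕ × ℕ → ℕ × ℕ → RelRing g := fun p q =>
    X none * xv g ((p.1 : ℤ) - 1) ((p.2 : ℤ) - 1) * xv g ((q.1 : ℤ) - 1) ((q.2 : ℤ) - 1)
      - (mergeCoeff p.1 q.1 : RelRing g) * xv g ((p.1 : ℤ) + q.1 - 2) ((p.2 : ℤ) + q.2) with ha
  set b : ℕ × ℕ → RelRing g := fun p => xv g ((p.1 : ℤ) - 2) (p.2 : ℤ) with hb
  have hFdef : ∀ Q : RelRing g, F g Q = (1 / 2 : ℚ) • (∑ p ∈ idx g, ∑ q ∈ idx g, a p q * dv g p (dv g q Q))
      + ∑ p ∈ idx g, b p * dv g p Q := fun Q => rfl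
  have har : ∀ p : ℕ × ℕ, a p (2, 0) = -((p.1 : RelRing g) * xv g (p.1 : ℤ) (p.2 : ℤ)) := by
    intro p
    simp only [ha]
    have h1 : (((2, 0) : ℕ × ℕ).1 : ℤ) - 1 = 1 := by norm_num
    have h2 : (((2, 0) : ℕ × ℕ).2 : ℤ) - 1 = -1 := by norm_num
    have h3 : (p.1 : ℤ) + (((2, 0) : ℕ × ℕ).1 : ℕ) - 2 = p.1 := by push_cast; ring
    have h4 : (p.2 : ℤ) + (((2, 0) : ℕ × ℕ).2 : ℕ) = p.2 := by push_cast; ring
    rw [h1, h2, h3, h4, xv_one_neg, mul_zero, zero_sub, mergeCoeff_two]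
  have hra : ∀ q : ℕ × ℕ, a (2, 0) q = -((q.1 : RelRing g) * xv g (q.1 : ℤ) (q.2 : ℤ)) := by
    intro q
    simp only [ha]
    have h1 : (((2, 0) : ℕ × ℕ).1 : ℤ) - 1 = 1 := by norm_num
    have h2 : (((2, 0) : ℕ × ℕ).2 : ℤ) - 1 = -1 := by norm_num
    have h3 : ((((2, 0) : ℕ × ℕ).1 : ℕ) : ℤ) + q.1 - 2 = q.1 := by push_cast; ring
    have h4 : ((((2, 0) : ℕ × ℕ).2 : ℕ) : ℤ) + q.2 = q.2 := by push_cast; ring
    rw [h1, h2, h3, h4, xv_one_neg, mul_zero, zero_mul, zero_sub, mergeCoeff_two']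
  have hbr : b (2, 0) = (g : RelRing g) := by
    simp only [hb]
    have h1 : (((2, 0) : ℕ × ℕ).1 : ℤ) - 2 = 0 := by norm_num
    have h2 : ((((2, 0) : ℕ × ℕ).2 : ℕ) : ℤ) = 0 := by norm_num
    rw [h1, h2, xv_zero_zero]
  -- second derivatives of `x * P`
  have hdd : ∀ p q : ℕ × ℕ, dv g p (dv g q (x * P)) =
      (if q = (2, 0) then dv g p P else 0) + ((if p = (2, 0) then dv g q P else 0) +
        x * dv g p (dv g q P)) := by
    intro p q
    rw [hx, dv_x_mul hg, dv_add, dv_x_mul hg]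
    congr 1
    split_ifs
    · rfl
    · exact dv_zero p
  have hT : ∑ p ∈ idx g, ∑ q ∈ idx g, a p q * dv g p (dv g q (x * P)) =
      -(2 : ℚ) • Deuler g P + x * ∑ p ∈ idx g, ∑ q ∈ idx g, a p q * dv g p (dv g q P) := by
    have h1 : ∀ p ∈ idx g, ∑ q ∈ idx g, a p q * dv g p (dv g q (x * P)) =
        a p (2, 0) * dv g p P + ((if p = (2, 0) then ∑ q ∈ idx g, a p q * dv g q P else 0) +
          x * ∑ q ∈ idx g, a p q * dv g p (dv g q P)) := by
      intro p _
      simp only [hdd, mul_add, Finset.sum_add_distrib]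
      congr 1
      · simp only [mul_ite, mul_zero]
        rw [Finset.sum_ite_eq' (idx g) (2, 0), if_pos hr]
      · congr 1
        · split_ifs with hp
          · rfl
          · simp
        · rw [Finset.mul_sum]
          apply Finset.sum_congr rfl
          intro q _
          ring
    rw [Finset.sum_congr rfl h1]
    simp only [Finset.sum_add_distrib]
    rw [Finset.sum_ite_eq' (idx g) (2, 0), if_pos hr, ← Finset.mul_sum]
    have h2 : ∑ p ∈ idx g, a p (2, 0) * dv g p P = -Deuler g P := by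
      unfold Deuler
      rw [← Finset.sum_neg_distrib]
      apply Finset.sum_congr rfl
      intro p _
      rw [har]
      ring
    have h3 : ∑ q ∈ idx g, a (2, 0) q * dv g q P = -Deuler g P := by
      unfold Deuler
      rw [← Finset.sum_neg_distrib]
      apply Finset.sum_congr rfl
      intro q _
      rw [hra]
      ring
    rw [h2, h3]
    rw [neg_smul, two_smul]
    ring
  have hB : ∑ p ∈ idx g, b p * dv g p (x * P) = (g : ℚ) • P + x * ∑ p ∈ idx g, b p * dv g p P := by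
    have h1 : ∀ p ∈ idx g, b p * dv g p (x * P) =
        (if p = (2, 0) then b p * P else 0) + x * (b p * dv g p P) := by
      intro p _
      rw [hx, dv_x_mul hg, mul_add]
      congr 1
      · split_ifs <;> simp
      · ring
    rw [Finset.sum_congr rfl h1, Finset.sum_add_distrib, Finset.sum_ite_eq' (idx g) (2, 0), if_pos hr,
      hbr, ← Finset.mul_sum]
    congr 1
    rw [← map_natCast (C : ℚ →+* RelRing g), MvPolynomial.smul_eq_C_mul]
  change F g (x * P) = x * F g P + (g : ℚ) • P - Deuler g P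
  rw [hFdef (x * P), hFdef P, hT, hB, smul_add, smul_smul, mul_add, mul_smul_comm]
  norm_num
  ring

end Groth.Agent.Helper8.Taut
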