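import Mathlib
import Groth.Agent.Helper8.Taut3
set_option autoImplicit false

namespace Groth.Agent.Helper8.Taut
open W4c3tautjacobian MvPolynomial

variable {g : ℕ}

theorem Deuler_eq {P : RelRing g} {m : ℤ} (h : IsWeightedHomogeneous (w1 g) P m) :
    Deuler g P = (m : ℚ) • P := by
  classical
  by_cases hP : P = 0
  · subst hP
    unfold Deuler
    simp [dv_zero]
  obtain ⟨d, hd⟩ := MvPolynomial.ne_zero_iff.1 hP
  have hm : m = ((Finsupp.weight (w1N g) d : ℕ) : ℤ) := by
    rw [← weight_w1]
    exact (h hd).symm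
  set m' := Finsupp.weight (w1N g) d with hm'
  have hN : IsWeightedHomogeneous (w1N g) P m' := by
    intro d' hd'
    have h1 := h hd'
    rw [weight_w1, hm] at h1
    exact_mod_cast h1
  haveI : Fintype {p : ℕ × ℕ // Valid g p} := Fintype.subtype ((idx g).filter (Valid g))
    (fun p => by
      rw [Finset.mem_filter]
      exact ⟨fun h => h.2, fun h => ⟨mem_idx_of_valid h, h⟩⟩)
  have euler := hN.sum_weight_X_mul_pderiv
  rw [Fintype.sum_option] at euler
  have h0 : w1N g none = 0 := rfl
  rw [h0, zero_smul, zero_add] at euler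
  have hD : Deuler g P = ∑ s : {p : ℕ × ℕ // Valid g p},
      w1N g (some s) • (X (some s) * pderiv (some s) P) := by
    unfold Deuler
    have h1 : ∑ q ∈ idx g, (q.1 : RelRing g) * xv g (q.1 : ℤ) (q.2 : ℤ) * dv g q P =
        ∑ q ∈ (idx g).filter (Valid g), (q.1 : RelRing g) * xv g (q.1 : ℤ) (q.2 : ℤ) * dv g q P := by
      symm
      apply Finset.sum_filter_of_ne
      intro q _ hq
      by_contra hv
      apply hq
      unfold dv
      rw [dif_neg hv, mul_zero]
    rw [h1, Finset.sum_subtype (p := Valid g) ((idx g).filter (Valid g))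
      (fun p => by
        rw [Finset.mem_filter]
        exact ⟨fun h => h.2, fun h => ⟨mem_idx_of_valid h, h⟩⟩)]
    apply Finset.sum_congr rfl
    intro s _
    rw [xv_natCast s.2]
    unfold dv
    rw [dif_pos s.2, nsmul_eq_mul, mul_assoc]
    rfl
  rw [hD, euler, hm, Int.cast_natCast, Nat.cast_smul_eq_nsmul]

theorem s16397 (g : ℕ) (hg : 1 ≤ g) (n : ℕ) (β : RelRing g)
    (hβ : IsWeightedHomogeneous (wt g) β ((2 * g, n) : ℕ × ℕ)) :
    (F g)^[g + 1] (E g β) = 0 := by
  set b : ℕ → RelRing g := fun i => (F g)^[i] β with hbdef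
  have hbs : ∀ i, b (i + 1) = F g (b i) := fun i => Function.iterate_succ_apply' (F g) i β
  have hb : ∀ i : ℕ, IsWeightedHomogeneous (w1 g) (b i) (2 * (g : ℤ) - 2 * i) := by
    intro i
    induction i with
    | zero =>
      refine IsWH.of_eq (hom_of_wt hβ) ?_
      push_cast
      ring
    | succ i ih =>
      rw [hbs]
      refine IsWH.of_eq (F_hom ih) ?_
      push_cast
      ring
  have hS : ∀ k : ℕ, (F g)^[k + 1] (E g β) =
      E g (b (k + 1)) + (((k : ℚ) + 1) * ((k : ℚ) - g)) • b k := by
    intro k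
    induction k with
    | zero =>
      have h1 : (F g)^[0 + 1] (E g β) = F g (E g β) := rfl
      have h2 : b 0 = β := rfl
      have hD0 : Deuler g β = (((2 * (g : ℤ) - 2 * ((0 : ℕ) : ℤ) : ℤ)) : ℚ) • β := Deuler_eq (hb 0)
      rw [h1, F_E hg, hD0, hbs 0, h2]
      push_cast
      module
    | succ k ih =>
      rw [Function.iterate_succ_apply', ih, F_add, F_smul, F_E hg, Deuler_eq (hb (k + 1)), ← hbs, ← hbs]
      push_cast
      module
  have hzero : b (g + 1) = 0 := by
    apply eq_zero_of_hom_neg (hb (g + 1))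
    push_cast
    omega
  rw [hS g, hzero, sub_self, mul_zero, zero_smul, add_zero]
  unfold E
  rw [mul_zero]

end Groth.Agent.Helper8.Taut
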