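import Mathlib

namespace Groth.Agent.Helper8.TensSub

open scoped TensorProduct

universe u

variable (k : Type u) [Field k] (R S : Type u) [CommRing R] [Algebra k R] [CommRing S] [Algebra k S]
  (S' : Subalgebra k S)

/-- the inclusion `R ⊗ S' → R ⊗ S` -/
noncomputable abbrev ι : R ⊗[k] S' →ₐ[k] R ⊗[k] S :=
  Algebra.TensorProduct.map (AlgHom.id k R) S'.val

variable {k R S S'}

lemma ι_algebraMap (r : R) : ι k R S S' (algebraMap R (R ⊗[k] S') r) = algebraMap R (R ⊗[k] S) r := by
  simp [ι, Algebra.TensorProduct.algebraMap_apply]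

lemma key (p : Ideal R) (t : R ⊗[k] S') (ht : ι k R S S' t ∈ p.map (algebraMap R (R ⊗[k] S))) :
    t ∈ p.map (algebraMap R (R ⊗[k] S')) := by
  let φ' : R ⊗[k] S' →ₐ[k] (R ⧸ p) ⊗[k] S' :=
    Algebra.TensorProduct.map (Ideal.Quotient.mkₐ k p) (AlgHom.id k S')
  let φ : R ⊗[k] S →ₐ[k] (R ⧸ p) ⊗[k] S :=
    Algebra.TensorProduct.map (Ideal.Quotient.mkₐ k p) (AlgHom.id k S)
  let ιb : (R ⧸ p) ⊗[k] S' →ₐ[k] (R ⧸ p) ⊗[k] S :=
    Algebra.TensorProduct.map (AlgHom.id k (R ⧸ p)) S'.val
  have h1 : p.map (algebraMap R (R ⊗[k] S)) ≤ RingHom.ker φ := by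
    rw [Ideal.map_le_iff_le_comap]
    intro r hr
    rw [Ideal.mem_comap, RingHom.mem_ker, Algebra.TensorProduct.algebraMap_apply]
    simp [φ, Ideal.Quotient.eq_zero_iff_mem.mpr hr]
  have h2 : RingHom.ker φ' ≤ p.map (algebraMap R (R ⊗[k] S')) := by
    have := Algebra.TensorProduct.rTensor_ker (R := k) (S := k) (C := S')
      (Ideal.Quotient.mkₐ k p) (Ideal.Quotient.mkₐ_surjective k p)
    rw [show RingHom.ker φ' = _ from this, Ideal.map_le_iff_le_comap]
    intro r hr
    have hr' : r ∈ p := by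
      rw [RingHom.mem_ker] at hr
      exact Ideal.Quotient.eq_zero_iff_mem.mp hr
    have h := Ideal.mem_map_of_mem (algebraMap R (R ⊗[k] S')) hr'
    rw [Algebra.TensorProduct.algebraMap_apply, Algebra.algebraMap_self, RingHom.id_apply] at h
    rw [Ideal.mem_comap, Algebra.TensorProduct.includeLeft_apply]
    exact h
  have h3 : φ.comp (ι k R S S') = ιb.comp φ' := by
    apply Algebra.TensorProduct.ext' 
    intro a b
    simp [φ, φ', ιb, ι]
  have h4 : Function.Injective ιb := by
    have : ⇑ιb = ⇑(LinearMap.lTensor (R ⧸ p) S'.val.toLinearMap) := rfl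
    rw [this]
    exact Module.Flat.lTensor_preserves_injective_linearMap _ Subtype.val_injective
  apply h2
  rw [RingHom.mem_ker]
  apply h4
  rw [map_zero]
  have := h1 ht
  rw [RingHom.mem_ker] at this
  have e := congrArg (fun g => g t) h3
  simp only [AlgHom.comp_apply] at e
  rw [← e]
  exact this

theorem main (k : Type u) [Field k] (R S : Type u) [CommRing R] [Algebra k R] [CommRing S]
    [Algebra k S] (S' : Subalgebra k S) (f : R ⊗[k] S') (p : PrimeSpectrum R) :
    (∃ q : PrimeSpectrum (R ⊗[k] S),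
      Algebra.TensorProduct.map (AlgHom.id k R) S'.val f ∉ q.asIdeal ∧
        q.asIdeal.comap (algebraMap R (R ⊗[k] S)) = p.asIdeal) ↔
    (∃ q' : PrimeSpectrum (R ⊗[k] S'), f ∉ q'.asIdeal ∧
        q'.asIdeal.comap (algebraMap R (R ⊗[k] S')) = p.asIdeal) := by
  constructor
  · rintro ⟨q, hfq, hq⟩
    refine ⟨⟨q.asIdeal.comap (ι k R S S'), inferInstance⟩, hfq, ?_⟩
    rw [← hq]
    ext r
    simp only [Ideal.mem_comap]
    rw [← ι_algebraMap (k := k) (S' := S')]
  · rintro ⟨q', hfq', hq'⟩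
    set g := ι k R S S' f with hg
    let M : Submonoid (R ⊗[k] S) :=
      { carrier := {x | ∃ (n : ℕ) (s : R), s ∉ p.asIdeal ∧ x = g ^ n * algebraMap R (R ⊗[k] S) s}
        mul_mem' := by
          rintro _ _ ⟨n, s, hs, rfl⟩ ⟨m, t, ht, rfl⟩
          refine ⟨n + m, s * t, ?_, ?_⟩
          · intro hst
            rcases p.isPrime.mem_or_mem hst with h | h
            · exact hs h
            · exact ht h
          · rw [map_mul, pow_add]; ring
        one_mem' := ⟨0, 1, fun h => p.isPrime.ne_top ((Ideal.eq_top_iff_one _).mpr h),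
          by rw [pow_zero, map_one, mul_one]⟩ }
    have hdisj : Disjoint ((p.asIdeal.map (algebraMap R (R ⊗[k] S)) : Ideal (R ⊗[k] S)) : Set _)
        (M : Set (R ⊗[k] S)) := by
      rw [Set.disjoint_left]
      rintro x hx ⟨n, s, hs, rfl⟩
      have hx' : ι k R S S' (f ^ n * algebraMap R (R ⊗[k] S') s) ∈
          p.asIdeal.map (algebraMap R (R ⊗[k] S)) := by
        rw [map_mul, map_pow, ι_algebraMap]
        exact hx
      have h1 := key p.asIdeal _ hx'
      have h2 : p.asIdeal.map (algebraMap R (R ⊗[k] S')) ≤ q'.asIdeal := by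
        rw [Ideal.map_le_iff_le_comap, hq']
      rcases q'.isPrime.mem_or_mem (h2 h1) with h | h
      · exact hfq' (q'.isPrime.mem_of_pow_mem n h)
      · apply hs
        rw [← hq']
        exact h
    obtain ⟨q, hqp, hle, hqd⟩ := Ideal.exists_le_prime_disjoint _ M hdisj
    refine ⟨⟨q, hqp⟩, ?_, ?_⟩
    · intro hgq
      refine Set.disjoint_left.mp hqd hgq ⟨1, 1, fun h => p.isPrime.ne_top ((Ideal.eq_top_iff_one _).mpr h),
        by rw [pow_one, map_one, mul_one]⟩
    · apply le_antisymm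
      · intro s hs
        by_contra hsp
        exact Set.disjoint_left.mp hqd hs ⟨0, s, hsp, by simp⟩
      · rw [← Ideal.map_le_iff_le_comap]
        exact hle

end Groth.Agent.Helper8.TensSub
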