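import Mathlib

set_option autoImplicit false
universe u
open MvPolynomial

namespace Groth.Agent.Helper8.TernBasis

theorem eq_single_of_degree_two {σ : Type*} (j : σ) (s : σ →₀ ℕ) (hs : s.degree = 2)
    (hj : 2 ≤ s j) : s = Finsupp.single j 2 := by
  have h1 : Finsupp.single j (s j) + s.erase j = s := Finsupp.single_add_erase j s
  have h2 : (Finsupp.single j (s j) + s.erase j).degree = s j + (s.erase j).degree := by
    rw [map_add, Finsupp.degree_single]
  rw [h1, hs] at h2
  have h3 : (s.erase j).degree = 0 := by omega
  have h4 : s j = 2 := by omega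
  rw [Finsupp.degree_eq_zero_iff] at h3
  rw [← h1, h3, add_zero, h4]

variable {R : Type u} [CommRing R] (j : Fin 3) (q : MvPolynomial (Fin 3) R)
  (hq : q.IsHomogeneous 2) (hqj : IsUnit (q.coeff (Finsupp.single j 2)))

include hq hqj in
theorem key (r g : MvPolynomial (Fin 3) R) (hr : ∀ a ∈ r.support, a j < 2)
    (h : r + q * g = 0) : g = 0 := by
  classical
  by_contra hg
  have hne : g.support.Nonempty := MvPolynomial.support_nonempty.mpr hg
  obtain ⟨mstar, hmem, hmax⟩ := Finset.exists_max_image g.support (fun m => m j) hne
  have hcoeff : coeff (Finsupp.single j 2 + mstar) (r + q * g) = 0 := by rw [h, coeff_zero]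
  rw [coeff_add] at hcoeff
  have hr0 : coeff (Finsupp.single j 2 + mstar) r = 0 := by
    by_contra hne0
    have h1 := hr _ (MvPolynomial.mem_support_iff.mpr hne0)
    rw [Finsupp.add_apply, Finsupp.single_eq_same] at h1
    omega
  have hqg : coeff (Finsupp.single j 2 + mstar) (q * g) =
      coeff (Finsupp.single j 2) q * coeff mstar g := by
    rw [coeff_mul]
    rw [Finset.sum_eq_single (Finsupp.single j 2, mstar)]
    · intro x hx hxne
      by_contra hne0
      have hx1 : coeff x.1 q ≠ 0 := left_ne_zero_of_mul hne0
      have hx2 : coeff x.2 g ≠ 0 := right_ne_zero_of_mul hne0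
      have hdeg : x.1.degree = 2 := by
        by_contra hd
        exact hx1 (hq.coeff_eq_zero hd)
      have hle : x.2 j ≤ mstar j := hmax x.2 (MvPolynomial.mem_support_iff.mpr hx2)
      have hsum : x.1 + x.2 = Finsupp.single j 2 + mstar := Finset.HasAntidiagonal.mem_antidiagonal.mp hx
      have hj := congrArg (fun f : Fin 3 →₀ ℕ => f j) hsum
      simp only [Finsupp.add_apply, Finsupp.single_eq_same] at hj
      have hx1j : 2 ≤ x.1 j := by omega
      have hx1eq : x.1 = Finsupp.single j 2 := eq_single_of_degree_two j x.1 hdeg hx1j
      have hx2eq : x.2 = mstar := by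
        rw [hx1eq] at hsum
        exact add_left_cancel hsum
      exact hxne (Prod.ext hx1eq hx2eq)
    · intro hnot
      have hin : (Finsupp.single j 2, mstar) ∈
          Finset.HasAntidiagonal.antidiagonal (Finsupp.single j 2 + mstar) := by
        rw [Finset.HasAntidiagonal.mem_antidiagonal]
      exact absurd hin hnot
  rw [hr0, hqg, zero_add, hqj.mul_right_eq_zero] at hcoeff
  exact (MvPolynomial.mem_support_iff.mp hmem) hcoeff

include hq hqj in
theorem li (n : ℕ) :
    LinearIndependent R (Sum.elim
      (fun m : {m : Fin 3 →₀ ℕ // m.degree = n ∧ m j < 2} => MvPolynomial.monomial m.1 (1 : R))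
      (fun m : {m : Fin 3 →₀ ℕ // m.degree + 2 = n} =>
        q * MvPolynomial.monomial m.1 (1 : R))) := by
  classical
  have hmono : LinearIndependent R (fun m : Fin 3 →₀ ℕ => monomial m (1 : R)) := by
    have h0 := (basisMonomials (Fin 3) R).linearIndependent
    rwa [coe_basisMonomials] at h0
  rw [linearIndependent_sum]
  refine ⟨?_, ?_, ?_⟩
  · exact hmono.comp (fun m : {m : Fin 3 →₀ ℕ // m.degree = n ∧ m j < 2} => m.1)
      Subtype.val_injective
  · have h2 : LinearIndependent R
        (fun m : {m : Fin 3 →₀ ℕ // m.degree + 2 = n} => monomial m.1 (1 : R)) :=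
      hmono.comp (fun m : {m : Fin 3 →₀ ℕ // m.degree + 2 = n} => m.1) Subtype.val_injective
    have h3 := h2.map' (LinearMap.mulLeft R q) (by
      rw [LinearMap.ker_eq_bot']
      intro g hg
      exact key j q hq hqj 0 g (by simp) (by rw [zero_add]; exact hg))
    exact h3
  · rw [Submodule.disjoint_def]
    intro x hx1 hx2
    have hsupp : ∀ a ∈ x.support, a j < 2 := by
      have hle : Submodule.span R (Set.range (Sum.elim
          (fun m : {m : Fin 3 →₀ ℕ // m.degree = n ∧ m j < 2} => monomial m.1 (1 : R))
          (fun m : {m : Fin 3 →₀ ℕ // m.degree + 2 = n} => q * monomial m.1 (1 : R)) ∘ Sum.inl)) ≤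
          restrictSupport R {a | a j < 2} := by
        rw [Submodule.span_le]
        rintro _ ⟨m, rfl⟩
        exact (monomial_mem_restrictSupport R).mpr (Or.inl m.2.2)
      intro a ha
      exact ((mem_restrictSupport_iff R).mp (hle hx1)) (Finset.mem_coe.mpr ha)
    have hqg : ∃ g, q * g = x := by
      have hle : Submodule.span R (Set.range (Sum.elim
          (fun m : {m : Fin 3 →₀ ℕ // m.degree = n ∧ m j < 2} => monomial m.1 (1 : R))
          (fun m : {m : Fin 3 →₀ ℕ // m.degree + 2 = n} => q * monomial m.1 (1 : R)) ∘ Sum.inr)) ≤
          LinearMap.range (LinearMap.mulLeft R q) := by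
        rw [Submodule.span_le]
        rintro _ ⟨m, rfl⟩
        exact ⟨monomial m.1 1, rfl⟩
      exact hle hx2
    obtain ⟨g, rfl⟩ := hqg
    have hg : -g = 0 := key j q hq hqj (q * g) (-g) hsupp (by ring)
    rw [neg_eq_zero] at hg
    rw [hg, mul_zero]

include hq hqj in
theorem span_eq (n : ℕ) :
    Submodule.span R (Set.range (Sum.elim
      (fun m : {m : Fin 3 →₀ ℕ // m.degree = n ∧ m j < 2} => MvPolynomial.monomial m.1 (1 : R))
      (fun m : {m : Fin 3 →₀ ℕ // m.degree + 2 = n} =>
        q * MvPolynomial.monomial m.1 (1 : R)))) =
      MvPolynomial.homogeneousSubmodule (Fin 3) R n := by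
  classical
  apply le_antisymm
  · rw [Submodule.span_le]
    rintro _ ⟨m | m, rfl⟩
    · exact isHomogeneous_monomial 1 m.2.1
    · have h1 : IsHomogeneous (monomial m.1 (1 : R)) m.1.degree := isHomogeneous_monomial 1 rfl
      have h2 := hq.mul h1
      have h3 : 2 + m.1.degree = n := by have := m.2; omega
      rw [h3] at h2
      exact h2
  · obtain ⟨S, hS⟩ : ∃ S : Submodule R (MvPolynomial (Fin 3) R), S = Submodule.span R
        (Set.range (Sum.elim
          (fun m : {m : Fin 3 →₀ ℕ // m.degree = n ∧ m j < 2} => monomial m.1 (1 : R))
          (fun m : {m : Fin 3 →₀ ℕ // m.degree + 2 = n} => q * monomial m.1 (1 : R)))) :=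
      ⟨_, rfl⟩
    rw [← hS]
    have hmon : ∀ (t : ℕ) (a : Fin 3 →₀ ℕ), a.degree = n → a j = t → monomial a (1 : R) ∈ S := by
      intro t
      induction t using Nat.strong_induction_on with
      | _ t ih =>
        intro a ha hat
        by_cases ht : t < 2
        · rw [hS]
          exact Submodule.subset_span ⟨Sum.inl ⟨a, ha, hat ▸ ht⟩, rfl⟩
        · push Not at ht
          by_cases hs0 : Finsupp.single j 2 ∈ q.support
          · have hm : a = Finsupp.single j 2 + (a - Finsupp.single j 2) := by
              ext i
              rw [Finsupp.add_apply, Finsupp.tsub_apply, Finsupp.single_apply]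
              by_cases hij : j = i
              · subst hij; rw [if_pos rfl]; omega
              · rw [if_neg hij]; omega
            obtain ⟨m, hm'⟩ : ∃ m, m = a - Finsupp.single j 2 := ⟨_, rfl⟩
            rw [← hm'] at hm
            have hdm : m.degree + 2 = n := by
              have h1 : a.degree = (Finsupp.single j 2).degree + m.degree := by
                rw [hm, map_add]
              rw [Finsupp.degree_single, ha] at h1
              omega
            have hmj : m j + 2 = t := by
              have h1 := congrArg (fun f : Fin 3 →₀ ℕ => f j) hm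
              simp only [Finsupp.add_apply, Finsupp.single_eq_same] at h1
              omega
            have hF2 : q * monomial m (1 : R) ∈ S := by
              rw [hS]
              exact Submodule.subset_span ⟨Sum.inr ⟨m, hdm⟩, rfl⟩
            have hexp : q * monomial m (1 : R) =
                ∑ s ∈ q.support, monomial (s + m) (coeff s q) := by
              conv_lhs => rw [as_sum q]
              rw [Finset.sum_mul]
              refine Finset.sum_congr rfl (fun s _ => ?_)
              rw [monomial_mul, mul_one]
            rw [hexp, ← Finset.add_sum_erase _ _ hs0] at hF2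
            have hrest : ∑ s ∈ q.support.erase (Finsupp.single j 2),
                monomial (s + m) (coeff s q) ∈ S := by
              refine Submodule.sum_mem _ (fun s hs => ?_)
              obtain ⟨hsne, hsmem⟩ := Finset.mem_erase.mp hs
              have hdeg : s.degree = 2 := by
                by_contra hd
                exact (MvPolynomial.mem_support_iff.mp hsmem) (hq.coeff_eq_zero hd)
              have hsj : s j < 2 := by
                by_contra hge
                push Not at hge
                exact hsne (eq_single_of_degree_two j s hdeg hge)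
              have hmem1 : monomial (s + m) (1 : R) ∈ S := by
                refine ih ((s + m) j) ?_ (s + m) ?_ rfl
                · rw [Finsupp.add_apply]; omega
                · rw [map_add, hdeg]; omega
              have hsm : monomial (s + m) (coeff s q) = coeff s q • monomial (s + m) (1 : R) := by
                rw [smul_monomial, smul_eq_mul, mul_one]
              rw [hsm]
              exact S.smul_mem _ hmem1
            have hlead : monomial (Finsupp.single j 2 + m) (coeff (Finsupp.single j 2) q) ∈ S := by
              have h1 := S.sub_mem hF2 hrest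
              rwa [add_sub_cancel_right] at h1
            obtain ⟨u, hu⟩ := hqj
            have hfin : monomial a (1 : R) =
                (↑u⁻¹ : R) • monomial (Finsupp.single j 2 + m) (coeff (Finsupp.single j 2) q) := by
              rw [smul_monomial, smul_eq_mul, ← hu, Units.inv_mul, ← hm]
            rw [hfin]
            exact S.smul_mem _ hlead
          · have h0 : coeff (Finsupp.single j 2) q = 0 := MvPolynomial.notMem_support_iff.mp hs0
            rw [h0] at hqj
            haveI : Subsingleton R := subsingleton_of_zero_eq_one (isUnit_zero_iff.mp hqj)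
            rw [Subsingleton.elim (monomial a (1 : R)) 0]
            exact S.zero_mem
    intro f hf
    rw [as_sum f]
    refine Submodule.sum_mem _ (fun a ha => ?_)
    have hdeg : a.degree = n := by
      by_contra hd
      exact (MvPolynomial.mem_support_iff.mp ha) (IsHomogeneous.coeff_eq_zero hf hd)
    have hsm : monomial a (coeff a f) = coeff a f • monomial a (1 : R) := by
      rw [smul_monomial, smul_eq_mul, mul_one]
    rw [hsm]
    exact S.smul_mem _ (hmon (a j) a hdeg rfl)

theorem main (R : Type u) [CommRing R] (j : Fin 3) (q : MvPolynomial (Fin 3) R)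
    (hq : q.IsHomogeneous 2) (hqj : IsUnit (q.coeff (Finsupp.single j 2))) (n : ℕ) :
    LinearIndependent R (Sum.elim (fun m : {m : Fin 3 →₀ ℕ // m.degree = n ∧ m j < 2} => MvPolynomial.monomial m.1 (1 : R)) (fun m : {m : Fin 3 →₀ ℕ // m.degree + 2 = n} => q * MvPolynomial.monomial m.1 (1 : R))) ∧
      Submodule.span R (Set.range (Sum.elim (fun m : {m : Fin 3 →₀ ℕ // m.degree = n ∧ m j < 2} => MvPolynomial.monomial m.1 (1 : R)) (fun m : {m : Fin 3 →₀ ℕ // m.degree + 2 = n} => q * MvPolynomial.monomial m.1 (1 : R)))) = MvPolynomial.homogeneousSubmodule (Fin 3) R n :=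
  ⟨li j q hq hqj n, span_eq j q hq hqj n⟩

end Groth.Agent.Helper8.TernBasis
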