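import Mathlib

set_option autoImplicit false
universe u v w

namespace Groth.Agent.Helper8.Theta

open scoped MonoidAlgebra commutatorElement Classical

section burnside
variable {k : Type u} [Field k] [IsAlgClosed k] {G : Type v} [Group G]
  {V : Type*} [AddCommGroup V] [Module k V] [FiniteDimensional k V]
  (ρ : Representation k G V)

/-- every `k[G]`-endomorphism of an irreducible representation over an algebraically closed field
is a scalar -/
theorem end_scalar [ρ.IsIrreducible] (g : Module.End k[G] ρ.asModule) :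
    ∃ a : k, ∀ v, g v = a • v := by
  have hb : Function.Bijective (algebraMap k (Module.End k[G] ρ.asModule)) :=
    IsSimpleModule.algebraMap_end_bijective_of_isAlgClosed k
  obtain ⟨a, ha⟩ := hb.2 g
  refine ⟨a, fun v => ?_⟩
  rw [← ha]
  rfl

theorem burnside [ρ.IsIrreducible] : Function.Surjective ρ.asAlgebraHom := by
  classical
  intro f
  let f' : Module.End (Module.End k[G] ρ.asModule) ρ.asModule :=
    { toFun := fun v => ρ.asModuleEquiv.symm (f (ρ.asModuleEquiv v))
      map_add' := fun x y => by simp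
      map_smul' := by
        intro g v
        obtain ⟨a, ha⟩ := end_scalar ρ g
        simp only [RingHom.id_apply, Module.End.smul_def, ha, map_smul] }
  obtain ⟨s, hs⟩ := Module.Finite.fg_top (R := k) (M := ρ.asModule)
  obtain ⟨r, hr⟩ := jacobson_density f' s
  refine ⟨r, ?_⟩
  have h2 : ∀ m : ρ.asModule, f' m = r • m := by
    intro m
    have hm : m ∈ Submodule.span k (s : Set ρ.asModule) := by rw [hs]; trivial
    induction hm using Submodule.span_induction with
    | mem m hm => exact hr m hm
    | zero => simp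
    | add x y _ _ hx hy => rw [map_add, smul_add, hx, hy]
    | smul a x _ hx =>
      have : f' (a • x) = a • f' x := by
        show ρ.asModuleEquiv.symm (f (ρ.asModuleEquiv (a • x))) =
          a • ρ.asModuleEquiv.symm (f (ρ.asModuleEquiv x))
        simp
      rw [this, hx, smul_comm]
  ext v
  have := h2 (ρ.asModuleEquiv.symm v)
  have h3 := congrArg ρ.asModuleEquiv this
  rw [Representation.asModuleEquiv_map_smul] at h3
  simpa [f'] using h3.symm

end burnside

section theta
variable {k : Type u} [Field k] {Γ : Type v} [Group Γ] (ι : kˣ →* Γ)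

theorem central (hcent : ι.range = Subgroup.center Γ) (z : kˣ) (g : Γ) : ι z * g = g * ι z := by
  have h : ι z ∈ Subgroup.center Γ := by rw [← hcent]; exact ⟨z, rfl⟩
  exact ((Subgroup.mem_center_iff.mp h) g).symm

/-- the central coordinate of `g` relative to the chosen coset representative -/
noncomputable def zc (g : Γ) : kˣ :=
  if h : ∃ z : kˣ, g = ι z * (QuotientGroup.mk g : Γ ⧸ ι.range).out then h.choose else 1

theorem zc_spec (hcent : ι.range = Subgroup.center Γ) (g : Γ) :
    g = ι (zc ι g) * (QuotientGroup.mk g : Γ ⧸ ι.range).out := by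
  have h : ∃ z : kˣ, g = ι z * (QuotientGroup.mk g : Γ ⧸ ι.range).out := by
    have h1 : (QuotientGroup.mk (QuotientGroup.mk g : Γ ⧸ ι.range).out : Γ ⧸ ι.range) =
        QuotientGroup.mk g := QuotientGroup.out_eq' _
    rw [QuotientGroup.eq] at h1
    obtain ⟨z, hz⟩ := h1
    refine ⟨z, ?_⟩
    rw [central ι hcent, hz]; group
  rw [zc, dif_pos h]; exact h.choose_spec

/-- the commutator pairing -/
noncomputable def pair (g a : Γ) : kˣ := if h : ∃ z : kˣ, ι z = ⁅g, a⁆ then h.choose else 1

theorem pair_spec (hcomm : commutator Γ ≤ ι.range) (g a : Γ) : ι (pair ι g a) = ⁅g, a⁆ := by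
  have h : ∃ z : kˣ, ι z = ⁅g, a⁆ := by
    have : ⁅g, a⁆ ∈ commutator Γ := by
      rw [commutator_def]
      exact Subgroup.commutator_mem_commutator (Subgroup.mem_top g) (Subgroup.mem_top a)
    exact hcomm this
  rw [pair, dif_pos h]; exact h.choose_spec

theorem comm_rel (hcomm : commutator Γ ≤ ι.range) (g a : Γ) :
    g * a = ι (pair ι g a) * (a * g) := by
  rw [pair_spec ι hcomm, commutatorElement_def]; group

theorem pair_mul (hι : Function.Injective ι) (hcent : ι.range = Subgroup.center Γ)
    (hcomm : commutator Γ ≤ ι.range) (g h a : Γ) :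
    pair ι (g * h) a = pair ι g a * pair ι h a := by
  apply hι
  rw [map_mul, pair_spec ι hcomm (g * h) a, pair_spec ι hcomm g a]
  have h1 : h * a * h⁻¹ = ι (pair ι h a) * a := by
    rw [pair_spec ι hcomm, commutatorElement_def]; group
  have h2 : ⁅g * h, a⁆ = g * (h * a * h⁻¹) * g⁻¹ * a⁻¹ := by
    rw [commutatorElement_def]; group
  rw [h2, h1, ← mul_assoc g, ← central ι hcent _ g, commutatorElement_def]
  rw [← central ι hcent _ (g * a * g⁻¹ * a⁻¹)]
  simp only [mul_assoc]

/-- the character `g ↦ ⟨g, a⟩` -/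
noncomputable def chi (hι : Function.Injective ι) (hcent : ι.range = Subgroup.center Γ)
    (hcomm : commutator Γ ≤ ι.range) (a : Γ) : Γ →* k where
  toFun g := (pair ι g a : k)
  map_one' := by
    have : pair ι 1 a = 1 := by
      apply hι
      rw [pair_spec ι hcomm, map_one, commutatorElement_def]; group
    rw [this]; rfl
  map_mul' g h := by
    rw [pair_mul ι hι hcent hcomm]; push_cast; rfl

theorem chi_apply (hι : Function.Injective ι) (hcent : ι.range = Subgroup.center Γ)
    (hcomm : commutator Γ ≤ ι.range) (a g : Γ) :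
    chi ι hι hcent hcomm a g = (pair ι g a : k) := rfl

theorem chi_injective (hι : Function.Injective ι) (hcent : ι.range = Subgroup.center Γ)
    (hcomm : commutator Γ ≤ ι.range) :
    Function.Injective (fun κ : Γ ⧸ ι.range => chi ι hι hcent hcomm κ.out) := by
  intro κ κ' h
  have h1 : ∀ g : Γ, ⁅g, κ.out⁆ = ⁅g, κ'.out⁆ := by
    intro g
    have := DFunLike.congr_fun h g
    simp only [chi_apply] at this
    rw [← pair_spec ι hcomm, ← pair_spec ι hcomm, Units.ext this]
  have h2 : κ.out⁻¹ * κ'.out ∈ Subgroup.center Γ := by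
    rw [Subgroup.mem_center_iff]
    intro g
    have := h1 g⁻¹
    simp only [commutatorElement_def, inv_inv] at this
    have e1 : κ.out * g * κ.out⁻¹ = κ'.out * g * κ'.out⁻¹ := by
      have := congrArg (fun x => g * x) this
      simpa [mul_assoc] using this
    calc g * (κ.out⁻¹ * κ'.out) = κ.out⁻¹ * (κ.out * g * κ.out⁻¹) * κ'.out := by group
      _ = κ.out⁻¹ * (κ'.out * g * κ'.out⁻¹) * κ'.out := by rw [e1]
      _ = κ.out⁻¹ * κ'.out * g := by group
  rw [← hcent] at h2
  have h3 : (QuotientGroup.mk κ.out : Γ ⧸ ι.range) = QuotientGroup.mk κ'.out :=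
    QuotientGroup.eq.mpr h2
  rwa [QuotientGroup.out_eq', QuotientGroup.out_eq'] at h3

end theta

section rep
variable {k : Type u} [Field k] {Γ : Type v} [Group Γ] (ι : kˣ →* Γ)
  {V : Type w} [AddCommGroup V] [Module k V] (ρ : Representation k Γ V)

theorem rho_iota (hw : ∀ (z : kˣ) (v : V), ρ (ι z) v = (z : k) • v) (z : kˣ) :
    ρ (ι z) = (z : k) • (1 : Module.End k V) := by
  ext v; simp [hw]

theorem conj_rel (hcomm : commutator Γ ≤ ι.range)
    (hw : ∀ (z : kˣ) (v : V), ρ (ι z) v = (z : k) • v) (g a : Γ) :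
    ρ g * ρ a = (pair ι g a : k) • (ρ a * ρ g) := by
  rw [← map_mul, comm_rel ι hcomm g a, map_mul, rho_iota ι ρ hw, smul_mul_assoc, one_mul, map_mul]

theorem rho_decomp (hcent : ι.range = Subgroup.center Γ)
    (hw : ∀ (z : kˣ) (v : V), ρ (ι z) v = (z : k) • v) (g : Γ) :
    ρ g = (zc ι g : k) • ρ (QuotientGroup.mk g : Γ ⧸ ι.range).out := by
  conv_lhs => rw [zc_spec ι hcent g]
  rw [map_mul, rho_iota ι ρ hw, smul_mul_assoc, one_mul]

variable [Fintype (Γ ⧸ ι.range)]

/-- the map `(K → k) → End V` defined by the operators of the coset representatives -/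
noncomputable def L : ((Γ ⧸ ι.range) → k) →ₗ[k] Module.End k V :=
  Fintype.linearCombination k (fun κ : Γ ⧸ ι.range => ρ κ.out)

theorem L_apply (c : (Γ ⧸ ι.range) → k) : L ι ρ c = ∑ κ, c κ • ρ κ.out := by
  simp [L, Fintype.linearCombination_apply]

theorem L_single (κ : Γ ⧸ ι.range) (c : k) : L ι ρ (Pi.single κ c) = c • ρ κ.out := by
  simp [L, Fintype.linearCombination_apply_single]

theorem rho_eq_L (hcent : ι.range = Subgroup.center Γ)
    (hw : ∀ (z : kˣ) (v : V), ρ (ι z) v = (z : k) • v) (g : Γ) :
    ρ g = L ι ρ (Pi.single (QuotientGroup.mk g) (zc ι g : k)) := by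
  rw [L_single]; exact rho_decomp ι ρ hcent hw g

theorem asAlgebraHom_mem_range_L (hcent : ι.range = Subgroup.center Γ)
    (hw : ∀ (z : kˣ) (v : V), ρ (ι z) v = (z : k) • v) (x : k[Γ]) :
    ρ.asAlgebraHom x ∈ LinearMap.range (L ι ρ) := by
  induction x using MonoidAlgebra.induction_linear with
  | zero => simp
  | add x y hx hy => rw [map_add]; exact Submodule.add_mem _ hx hy
  | single g a =>
    rw [Representation.asAlgebraHom_single, rho_eq_L ι ρ hcent hw g]
    exact Submodule.smul_mem _ _ ⟨_, rfl⟩

theorem L_surjective [IsAlgClosed k] [FiniteDimensional k V] [ρ.IsIrreducible]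
    (hcent : ι.range = Subgroup.center Γ)
    (hw : ∀ (z : kˣ) (v : V), ρ (ι z) v = (z : k) • v) : Function.Surjective (L ι ρ) := by
  intro f
  obtain ⟨x, rfl⟩ := burnside ρ f
  exact asAlgebraHom_mem_range_L ι ρ hcent hw x

theorem L_injective [Nontrivial V] (hι : Function.Injective ι)
    (hcent : ι.range = Subgroup.center Γ) (hcomm : commutator Γ ≤ ι.range)
    (hw : ∀ (z : kˣ) (v : V), ρ (ι z) v = (z : k) • v) : Function.Injective (L ι ρ) := by
  rw [injective_iff_map_eq_zero]
  intro c hc
  rw [L_apply] at hc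
  have h1 : ∀ g : Γ, ∑ κ : Γ ⧸ ι.range, (c κ * chi ι hι hcent hcomm κ.out g) • ρ κ.out = 0 := by
    intro g
    have := congrArg (fun A => ρ g * A * ρ g⁻¹) hc
    simp only [Finset.mul_sum, Finset.sum_mul, mul_zero, zero_mul] at this
    rw [← this]
    apply Finset.sum_congr rfl
    intro κ _
    rw [mul_smul_comm, smul_mul_assoc, conj_rel ι ρ hcomm hw, smul_mul_assoc, mul_assoc,
      ← map_mul, mul_inv_cancel, map_one, mul_one, smul_smul, chi_apply]
  have hli : LinearIndependent k
      (fun κ : Γ ⧸ ι.range => (chi ι hι hcent hcomm κ.out : Γ → k)) :=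
    (linearIndependent_monoidHom Γ k).comp _ (chi_injective ι hι hcent hcomm)
  have h2 : ∀ (v : V) (φ : Module.Dual k V) (κ : Γ ⧸ ι.range), c κ * φ (ρ κ.out v) = 0 := by
    intro v φ
    apply Fintype.linearIndependent_iff.mp hli
    funext g
    have := congrArg (fun A : Module.End k V => φ (A v)) (h1 g)
    simp only [LinearMap.sum_apply, LinearMap.smul_apply, map_sum, map_smul, smul_eq_mul,
      map_zero, LinearMap.zero_apply] at this
    simp only [Finset.sum_apply, Pi.smul_apply, smul_eq_mul, Pi.zero_apply]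
    rw [← this]
    apply Finset.sum_congr rfl
    intro κ _
    ring
  funext κ
  by_contra hκ
  obtain ⟨v, hv⟩ := exists_ne (0 : V)
  have h3 : ρ κ.out v = 0 := by
    rw [← Module.forall_dual_apply_eq_zero_iff k]
    intro φ
    rcases mul_eq_zero.mp (h2 v φ κ) with h | h
    · exact absurd h hκ
    · exact h
  apply hv
  have := congrArg (ρ κ.out⁻¹) h3
  rwa [← Module.End.mul_apply, ← map_mul, inv_mul_cancel, map_one, Module.End.one_apply,
    map_zero] at this

theorem nontrivial_of_irreducible [h : ρ.IsIrreducible] : Nontrivial V := by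
  have h1 : IsSimpleModule k[Γ] ρ.asModule := inferInstance
  have : Nontrivial ρ.asModule := IsSimpleModule.nontrivial k[Γ] ρ.asModule
  exact this

/-- the linear isomorphism `(K → k) ≃ End V` for an irreducible weight one representation -/
noncomputable def LE [IsAlgClosed k] [FiniteDimensional k V] [ρ.IsIrreducible]
    (hι : Function.Injective ι)
    (hcent : ι.range = Subgroup.center Γ) (hcomm : commutator Γ ≤ ι.range)
    (hw : ∀ (z : kˣ) (v : V), ρ (ι z) v = (z : k) • v) :
    ((Γ ⧸ ι.range) → k) ≃ₗ[k] Module.End k V :=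
  haveI := nontrivial_of_irreducible ρ
  LinearEquiv.ofBijective (L ι ρ)
    ⟨L_injective ι ρ hι hcent hcomm hw, L_surjective ι ρ hcent hw⟩

theorem finrank_sq [IsAlgClosed k] [FiniteDimensional k V] [ρ.IsIrreducible]
    (hι : Function.Injective ι)
    (hcent : ι.range = Subgroup.center Γ) (hcomm : commutator Γ ≤ ι.range)
    (hw : ∀ (z : kˣ) (v : V), ρ (ι z) v = (z : k) • v) :
    Module.finrank k V ^ 2 = Nat.card (Γ ⧸ ι.range) := by
  have h := (LE ι ρ hι hcent hcomm hw).finrank_eq
  rw [Module.finrank_fintype_fun_eq_card, Module.finrank_linearMap] at h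
  rw [Nat.card_eq_fintype_card, h, sq]

variable {W : Type w} [AddCommGroup W] [Module k W] (σ : Representation k Γ W)

theorem exists_equiv [IsAlgClosed k] [FiniteDimensional k V] [ρ.IsIrreducible]
    [FiniteDimensional k W] [σ.IsIrreducible]
    (hι : Function.Injective ι)
    (hcent : ι.range = Subgroup.center Γ) (hcomm : commutator Γ ≤ ι.range)
    (hw : ∀ (z : kˣ) (v : V), ρ (ι z) v = (z : k) • v)
    (hw' : ∀ (z : kˣ) (v : W), σ (ι z) v = (z : k) • v) :
    Nonempty (Representation.Equiv ρ σ) := by
  let Φ : Module.End k V ≃ₗ[k] Module.End k W :=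
    (LE ι ρ hι hcent hcomm hw).symm.trans (LE ι σ hι hcent hcomm hw')
  have hΦL : ∀ c, Φ (L ι ρ c) = L ι σ c := by
    intro c
    show (LE ι σ hι hcent hcomm hw') ((LE ι ρ hι hcent hcomm hw).symm (L ι ρ c)) = _
    have : (LE ι ρ hι hcent hcomm hw).symm (L ι ρ c) = c :=
      (LE ι ρ hι hcent hcomm hw).symm_apply_apply c
    rw [this]; rfl
  have hΦ : ∀ x : k[Γ], Φ (ρ.asAlgebraHom x) = σ.asAlgebraHom x := by
    intro x
    induction x using MonoidAlgebra.induction_linear with
    | zero => simp
    | add x y hx hy => rw [map_add, map_add, map_add, hx, hy]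
    | single g a =>
      rw [Representation.asAlgebraHom_single, Representation.asAlgebraHom_single, map_smul,
        rho_eq_L ι ρ hcent hw g, hΦL, ← rho_eq_L ι σ hcent hw' g]
  let Ψ : Module.End k V ≃ₐ[k] Module.End k W :=
    AlgEquiv.ofLinearEquiv Φ
      (by
        have := hΦ 1
        rwa [map_one ρ.asAlgebraHom, map_one σ.asAlgebraHom] at this)
      (by
        intro A B
        obtain ⟨x, rfl⟩ := burnside ρ A
        obtain ⟨y, rfl⟩ := burnside ρ B
        rw [← map_mul, hΦ, hΦ, hΦ, map_mul])
  obtain ⟨T, hT⟩ := Ψ.eq_linearEquivConjAlgEquiv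
  refine ⟨Representation.Equiv.mk T ?_⟩
  intro g
  have h1 : Ψ (ρ g) = σ g := by
    have := hΦ (MonoidAlgebra.of k Γ g)
    rwa [Representation.asAlgebraHom_of, Representation.asAlgebraHom_of] at this
  rw [hT, LinearEquiv.conjAlgEquiv_apply] at h1
  rw [← h1]
  ext v
  simp

end rep

section irr
variable {k : Type u} [Field k] {G : Type v} [Group G]
  {V : Type u} [AddCommGroup V] [Module k V] [FiniteDimensional k V] [Nontrivial V]
  (ρ : Representation k G V)

set_option backward.isDefEq.respectTransparency false in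
/-- a nonzero finite-dimensional representation has an irreducible subrepresentation,
here returned as an `FDRep` with an injective intertwining linear map. -/
theorem exists_irreducible_sub :
    ∃ (W : FDRep k G) (j : W →ₗ[k] V), Representation.IsIrreducible W.ρ ∧ Function.Injective j ∧
      ∀ g w, j (W.ρ g w) = ρ g (j w) := by
  classical
  have : Nontrivial ρ.asModule := inferInstanceAs (Nontrivial V)
  have : IsArtinian k ρ.asModule := inferInstance
  have : IsArtinian k[G] ρ.asModule := isArtinian_of_tower k inferInstance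
  have : IsAtomic (Submodule k[G] ρ.asModule) :=
    isAtomic_of_orderBot_wellFounded_lt IsWellFounded.wf
  obtain ⟨S, hS⟩ := IsAtomic.exists_atom (Submodule k[G] ρ.asModule)
  rw [← isSimpleModule_iff_isAtom] at hS
  let j : RestrictScalars k k[G] S →ₗ[k] V :=
    { toFun := fun x => ρ.asModuleEquiv ((RestrictScalars.addEquiv k k[G] S x : S) : ρ.asModule)
      map_add' := fun x y => by simp
      map_smul' := fun c x => by
        simp only [RestrictScalars.addEquiv_map_smul, Submodule.coe_smul, algebraMap_smul,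
          RingHom.id_apply]
        rw [Submodule.coe_smul_of_tower, map_smul] }
  have hj : Function.Injective j := by
    intro x y hxy
    have h1 := ρ.asModuleEquiv.injective hxy
    have h2 := Subtype.ext h1
    exact (RestrictScalars.addEquiv k k[G] S).injective h2
  have : Module.Finite k (RestrictScalars k k[G] S) := Module.Finite.of_injective j hj
  refine ⟨FDRep.of (Representation.ofModule (k := k) (G := G) S), j, ?_, hj, ?_⟩
  · rw [FDRep.of_ρ']
    exact (Representation.isSimpleModule_iff_irreducible_ofModule S).mp hS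
  · intro g w
    rw [FDRep.of_ρ']
    show ρ.asModuleEquiv ((RestrictScalars.addEquiv k k[G] S
      (Representation.ofModule (k := k) (G := G) S g w) : S) : ρ.asModule) = _
    have h1 : RestrictScalars.addEquiv k k[G] S (Representation.ofModule (k := k) (G := G) S g w) =
        MonoidAlgebra.of k G g • RestrictScalars.addEquiv k k[G] S w := by
      simp [Representation.ofModule, RestrictScalars.lsmul_apply_apply]
    rw [h1, Submodule.coe_smul, Representation.asModuleEquiv_map_smul]
    simp [j]

end irr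

section funrep
variable {k : Type u} [Field k] {Γ : Type u} [Group Γ] (ι : kˣ →* Γ)

/-- functions of weight one on `Γ` -/
def W1 : Submodule k (Γ → k) where
  carrier := {F | ∀ (z : kˣ) (γ : Γ), F (ι z * γ) = (z : k) * F γ}
  add_mem' := by
    intro F F' hF hF' z γ
    simp only [Pi.add_apply, hF z γ, hF' z γ, mul_add]
  zero_mem' := by intro z γ; simp
  smul_mem' := by
    intro c F hF z γ
    simp only [Pi.smul_apply, hF z γ, smul_eq_mul]; ring

/-- right translation on weight one functions -/
def rtrans : Representation k Γ (W1 ι) where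
  toFun g :=
    { toFun := fun F => ⟨fun γ => F.1 (γ * g), fun z γ => by
        show F.1 (ι z * γ * g) = _
        rw [mul_assoc]; exact F.2 z (γ * g)⟩
      map_add' := fun F F' => rfl
      map_smul' := fun c F => rfl }
  map_one' := by
    ext F γ
    show F.1 (γ * 1) = F.1 γ
    rw [mul_one]
  map_mul' g h := by
    ext F γ
    show F.1 (γ * (g * h)) = F.1 (γ * g * h)
    rw [mul_assoc]

theorem rtrans_apply (g : Γ) (F : W1 ι) (γ : Γ) : (rtrans ι g F).1 γ = F.1 (γ * g) := rfl

theorem rtrans_weight (hcent : ι.range = Subgroup.center Γ) (z : kˣ) (F : W1 ι) :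
    rtrans ι (ι z) F = (z : k) • F := by
  ext γ
  rw [rtrans_apply, ← central ι hcent z γ, F.2 z γ]
  rfl

theorem W1_finite [Finite (Γ ⧸ ι.range)] (hcent : ι.range = Subgroup.center Γ) :
    Module.Finite k (W1 ι) := by
  let ev : W1 ι →ₗ[k] ((Γ ⧸ ι.range) → k) :=
    { toFun := fun F κ => F.1 κ.out
      map_add' := fun F F' => rfl
      map_smul' := fun c F => rfl }
  have hev : Function.Injective ev := by
    intro F F' h
    ext γ
    have h1 := congrFun h (QuotientGroup.mk γ)
    have h2 : F.1 γ = (zc ι γ : k) * F.1 (QuotientGroup.mk γ : Γ ⧸ ι.range).out := by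
      conv_lhs => rw [zc_spec ι hcent γ]
      exact F.2 _ _
    have h3 : F'.1 γ = (zc ι γ : k) * F'.1 (QuotientGroup.mk γ : Γ ⧸ ι.range).out := by
      conv_lhs => rw [zc_spec ι hcent γ]
      exact F'.2 _ _
    rw [h2, h3]
    congr 1
  exact Module.Finite.of_injective ev hev

theorem W1_nontrivial (hι : Function.Injective ι) : Nontrivial (W1 ι) := by
  classical
  let F₀ : Γ → k := fun γ => if h : ∃ z : kˣ, ι z = γ then (h.choose : k) else 0
  have hF₀ : F₀ ∈ W1 ι := by
    intro z γ
    by_cases h : ∃ w : kˣ, ι w = γ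
    · have h' : ∃ w : kˣ, ι w = ι z * γ := by
        obtain ⟨w, hw⟩ := h
        exact ⟨z * w, by rw [map_mul, hw]⟩
      simp only [F₀, dif_pos h, dif_pos h']
      have e1 : h'.choose = z * h.choose := by
        apply hι
        rw [h'.choose_spec, map_mul, h.choose_spec]
      rw [e1]; push_cast; rfl
    · have h' : ¬ ∃ w : kˣ, ι w = ι z * γ := by
        rintro ⟨w, hw⟩
        apply h
        refine ⟨z⁻¹ * w, ?_⟩
        rw [map_mul, hw, map_inv]; group
      simp only [F₀, dif_neg h, dif_neg h', mul_zero]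
  refine ⟨⟨⟨F₀, hF₀⟩, 0, ?_⟩⟩
  intro h
  have h1 := congrFun (congrArg Subtype.val h) 1
  have h2 : ∃ z : kˣ, ι z = (1 : Γ) := ⟨1, map_one ι⟩
  have h3 : h2.choose = 1 := hι (by rw [h2.choose_spec, map_one])
  simp only [F₀, dif_pos h2, h3] at h1
  simp at h1

theorem exists_irreducible [Finite (Γ ⧸ ι.range)] (hι : Function.Injective ι)
    (hcent : ι.range = Subgroup.center Γ) :
    ∃ V : FDRep k Γ, Representation.IsIrreducible V.ρ ∧
      ∀ (z : kˣ) (v : V), V.ρ (ι z) v = (z : k) • v := by
  haveI := W1_finite ι hcent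
  haveI := W1_nontrivial ι hι
  obtain ⟨V, j, hirr, hj, hjρ⟩ := exists_irreducible_sub (rtrans ι)
  refine ⟨V, hirr, fun z v => ?_⟩
  apply hj
  rw [hjρ, rtrans_weight ι hcent, map_smul]

theorem main (k : Type u) [Field k] [IsAlgClosed k]
    (Γ : Type u) [Group Γ] (ι : kˣ →* Γ) (hι : Function.Injective ι)
    (hcent : ι.range = Subgroup.center Γ) (hcomm : commutator Γ ≤ ι.range)
    [Finite (Γ ⧸ ι.range)] (hcop : (Nat.card (Γ ⧸ ι.range)).Coprime (ringExpChar k)) :
    (∃ V : FDRep k Γ, Representation.IsIrreducible V.ρ ∧ ∀ (z : kˣ) (v : V), V.ρ (ι z) v = (z : k) • v) ∧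
    (∀ V W : FDRep k Γ, Representation.IsIrreducible V.ρ → Representation.IsIrreducible W.ρ →
      (∀ (z : kˣ) (v : V), V.ρ (ι z) v = (z : k) • v) → (∀ (z : kˣ) (w : W), W.ρ (ι z) w = (z : k) • w) →
      Nonempty (Representation.Equiv V.ρ W.ρ)) ∧
    (∀ V : FDRep k Γ, Representation.IsIrreducible V.ρ → (∀ (z : kˣ) (v : V), V.ρ (ι z) v = (z : k) • v) →
      Module.finrank k V ^ 2 = Nat.card (Γ ⧸ ι.range)) := by
  letI : Fintype (Γ ⧸ ι.range) := Fintype.ofFinite _
  refine ⟨exists_irreducible ι hι hcent, ?_, ?_⟩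
  · intro V W hV hW hwV hwW
    haveI := hV
    haveI := hW
    exact exists_equiv ι V.ρ W.ρ hι hcent hcomm hwV hwW
  · intro V hV hwV
    haveI := hV
    exact finrank_sq ι V.ρ hι hcent hcomm hwV

end funrep

end Groth.Agent.Helper8.Theta
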