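import Mathlib
import Groth.Agent.Helper8.Theta

set_option autoImplicit false
universe u v w

namespace Groth.Agent.Helper8.Theta

open scoped MonoidAlgebra commutatorElement Classical

section maschke
variable {k : Type u} [Field k] {Γ : Type v} [Group Γ] (ι : kˣ →* Γ)
  {W : Type w} [AddCommGroup W] [Module k W] (σ : Representation k Γ W)

/-- conjugation of an operator -/
noncomputable def cj (a : Γ) (p : Module.End k W) : Module.End k W := σ a * p * σ a⁻¹

theorem cj_iota_mul (hw : ∀ (z : kˣ) (v : W), σ (ι z) v = (z : k) • v) (z : kˣ) (a : Γ)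
    (p : Module.End k W) : cj σ (ι z * a) p = cj σ a p := by
  unfold cj
  rw [mul_inv_rev, map_mul, map_mul, ← map_inv, rho_iota ι σ hw, rho_iota ι σ hw]
  simp only [smul_mul_assoc, mul_smul_comm, one_mul, mul_one, smul_smul]
  rw [Units.val_inv_eq_inv_val, inv_mul_cancel₀ (Units.ne_zero z), one_smul]

theorem cj_mul (g a : Γ) (p : Module.End k W) : cj σ (g * a) p = σ g * cj σ a p * σ g⁻¹ := by
  unfold cj
  rw [mul_inv_rev, map_mul, map_mul]
  simp only [mul_assoc]

variable [Fintype (Γ ⧸ ι.range)]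

/-- the averaged operator -/
noncomputable def avg (p : Module.End k W) : Module.End k W :=
  ((Fintype.card (Γ ⧸ ι.range) : k))⁻¹ • ∑ κ : Γ ⧸ ι.range, cj σ κ.out p

theorem avg_conj (hcent : ι.range = Subgroup.center Γ)
    (hw : ∀ (z : kˣ) (v : W), σ (ι z) v = (z : k) • v) (g : Γ) (p : Module.End k W) :
    σ g * avg ι σ p * σ g⁻¹ = avg ι σ p := by
  unfold avg
  rw [mul_smul_comm, smul_mul_assoc, Finset.mul_sum, Finset.sum_mul]
  congr 1
  have h1 : ∀ κ : Γ ⧸ ι.range, σ g * cj σ κ.out p * σ g⁻¹ = cj σ (g • κ).out p := by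
    intro κ
    rw [← cj_mul]
    have h2 : (QuotientGroup.mk (g * κ.out) : Γ ⧸ ι.range) = g • κ := by
      conv_rhs => rw [← QuotientGroup.out_eq' κ]
      rfl
    conv_lhs => rw [zc_spec ι hcent (g * κ.out)]
    rw [cj_iota_mul ι σ hw, h2]
  simp only [h1]
  exact Equiv.sum_comp (MulAction.toPerm g) (fun κ : Γ ⧸ ι.range => cj σ κ.out p)

theorem avg_comm (hcent : ι.range = Subgroup.center Γ)
    (hw : ∀ (z : kˣ) (v : W), σ (ι z) v = (z : k) • v) (g : Γ) (p : Module.End k W) :
    σ g * avg ι σ p = avg ι σ p * σ g := by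
  have h := avg_conj ι σ hcent hw g p
  have h2 := congrArg (fun A => A * σ g) h
  simp only [mul_assoc] at h2
  rwa [← map_mul, inv_mul_cancel, map_one, mul_one] at h2

theorem semisimple (hcent : ι.range = Subgroup.center Γ)
    (hw : ∀ (z : kˣ) (v : W), σ (ι z) v = (z : k) • v)
    (hn : (Fintype.card (Γ ⧸ ι.range) : k) ≠ 0) : σ.IsSemisimpleRepresentation := by
  refine ⟨fun U => ?_⟩
  obtain ⟨r, hr⟩ := LinearMap.exists_leftInverse_of_injective U.toSubmodule.subtype
    (LinearMap.ker_eq_bot.mpr U.toSubmodule.injective_subtype)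
  let p : Module.End k W := U.toSubmodule.subtype ∘ₗ r
  have hp1 : ∀ w, p w ∈ U.toSubmodule := fun w => (r w).2
  have hp2 : ∀ u ∈ U.toSubmodule, p u = u := by
    intro u hu
    have := LinearMap.congr_fun hr ⟨u, hu⟩
    simp only [LinearMap.comp_apply, Submodule.subtype_apply, LinearMap.id_apply] at this
    show ((r u : U.toSubmodule) : W) = u
    rw [this]
  set q := avg ι σ p with hq
  have hcj1 : ∀ (a : Γ) (w : W), cj σ a p w ∈ U.toSubmodule := by
    intro a w
    exact U.apply_mem_toSubmodule a (hp1 _)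
  have hcj2 : ∀ (a : Γ) (u : W), u ∈ U.toSubmodule → cj σ a p u = u := by
    intro a u hu
    show σ a (p (σ a⁻¹ u)) = u
    rw [hp2 _ (U.apply_mem_toSubmodule a⁻¹ hu), ← Module.End.mul_apply, ← map_mul,
      mul_inv_cancel, map_one, Module.End.one_apply]
  have hq1 : ∀ w, q w ∈ U.toSubmodule := by
    intro w
    rw [hq, avg, LinearMap.smul_apply, LinearMap.sum_apply]
    exact Submodule.smul_mem _ _ (Submodule.sum_mem _ fun κ _ => hcj1 _ _)
  have hq2 : ∀ u ∈ U.toSubmodule, q u = u := by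
    intro u hu
    rw [hq, avg, LinearMap.smul_apply, LinearMap.sum_apply]
    simp only [hcj2 _ u hu, Finset.sum_const, Finset.card_univ]
    rw [← Nat.cast_smul_eq_nsmul k, smul_smul, inv_mul_cancel₀ hn, one_smul]
  let U' : Subrepresentation σ :=
    { toSubmodule := LinearMap.ker q
      apply_mem_toSubmodule := by
        intro g v hv
        rw [LinearMap.mem_ker] at hv ⊢
        have := LinearMap.congr_fun (avg_comm ι σ hcent hw g p) v
        simp only [Module.End.mul_apply] at this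
        rw [← hq] at this
        rw [← this, hv, map_zero] }
  refine ⟨U', ?_⟩
  rw [isCompl_iff, disjoint_iff, codisjoint_iff]
  constructor
  · apply Subrepresentation.toSubmodule_injective
    show U.toSubmodule ⊓ LinearMap.ker q = ⊥
    rw [eq_bot_iff]
    rintro u ⟨hu, hu'⟩
    rw [SetLike.mem_coe, LinearMap.mem_ker] at hu'
    rw [Submodule.mem_bot, ← hq2 u hu, hu']
  · apply Subrepresentation.toSubmodule_injective
    show U.toSubmodule ⊔ LinearMap.ker q = ⊤
    rw [eq_top_iff]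
    intro w _
    have : w = q w + (w - q w) := by abel
    rw [this]
    refine Submodule.add_mem_sup (hq1 w) ?_
    rw [LinearMap.mem_ker, map_sub, hq2 _ (hq1 w), sub_self]

end maschke

section level
variable {k : Type u} [Field k] {Γ : Type v} [Group Γ] (ι : kˣ →* Γ)

theorem exists_pow_mem_range [Finite (Γ ⧸ ι.range)] (g : Γ) : ∃ i : ℕ, 0 < i ∧ g ^ i ∈ ι.range := by
  obtain ⟨i, j, hij, h⟩ := Finite.exists_ne_map_eq_of_infinite
    (fun i : ℕ => (QuotientGroup.mk (g ^ i) : Γ ⧸ ι.range))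
  rw [QuotientGroup.eq] at h
  rcases lt_or_gt_of_ne hij with hlt | hlt
  · refine ⟨j - i, Nat.sub_pos_of_lt hlt, ?_⟩
    have : g ^ (j - i) = (g ^ i)⁻¹ * g ^ j := by
      rw [eq_inv_mul_iff_mul_eq, ← pow_add, Nat.add_sub_cancel' hlt.le]
    rwa [this]
  · refine ⟨i - j, Nat.sub_pos_of_lt hlt, ?_⟩
    have : g ^ (i - j) = ((g ^ i)⁻¹ * g ^ j)⁻¹ := by
      rw [mul_inv_rev, inv_inv, eq_inv_mul_iff_mul_eq, ← pow_add, Nat.add_sub_cancel' hlt.le]
    rw [this]
    exact inv_mem h

/-- the subgroup generated by `H` and an element commuting with `H` -/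
def adjoin (H : Subgroup Γ) (g : Γ) (hg : ∀ h ∈ H, g * h = h * g) : Subgroup Γ where
  carrier := {x | ∃ h ∈ H, ∃ i : ℤ, x = h * g ^ i}
  one_mem' := ⟨1, H.one_mem, 0, by simp⟩
  mul_mem' := by
    rintro _ _ ⟨h, hh, i, rfl⟩ ⟨h', hh', j, rfl⟩
    refine ⟨h * h', H.mul_mem hh hh', i + j, ?_⟩
    have hc : Commute (g ^ i) h' := (Commute.zpow_left (hg h' hh') i)
    rw [zpow_add, mul_assoc h, ← mul_assoc (g ^ i), hc.eq]
    simp only [mul_assoc]
  inv_mem' := by
    rintro _ ⟨h, hh, i, rfl⟩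
    refine ⟨h⁻¹, H.inv_mem hh, -i, ?_⟩
    have hc : Commute (g ^ (-i)) h⁻¹ := (Commute.zpow_left (hg h⁻¹ (H.inv_mem hh)) (-i))
    rw [mul_inv_rev, ← zpow_neg, hc.eq]

theorem centralizer_le [IsAlgClosed k] [Finite (Γ ⧸ ι.range)]
    (hcent : ι.range = Subgroup.center Γ)
    (H : Subgroup Γ) (hH : H ⊓ ι.range = ⊥)
    (hmax : ∀ H' : Subgroup Γ, H' ⊓ ι.range = ⊥ → H ≤ H' → H' = H)
    (g : Γ) (hg : ∀ h ∈ H, g * h = h * g) : ∃ (z : kˣ) (h : Γ), h ∈ H ∧ g = ι z * h := by
  have hex : ∃ i : ℕ, 0 < i ∧ ∃ (z : kˣ) (h : Γ), h ∈ H ∧ g ^ i = ι z * h := by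
    obtain ⟨i, hi, z, hz⟩ := exists_pow_mem_range ι g
    exact ⟨i, hi, z, 1, H.one_mem, by rw [mul_one, hz]⟩
  set m := Nat.find hex with hm
  obtain ⟨hm0, c, h₀, hh₀, hgm⟩ := Nat.find_spec hex
  rw [← hm] at hm0 hgm
  obtain ⟨z₀, hz₀⟩ := IsAlgClosed.exists_pow_nat_eq ((c : k)⁻¹) hm0
  have hz₀ne : z₀ ≠ 0 := by
    rintro rfl
    rw [zero_pow hm0.ne'] at hz₀
    exact inv_ne_zero (Units.ne_zero c) hz₀.symm
  set z : kˣ := Units.mk0 z₀ hz₀ne with hz
  have hzm : z ^ m * c = 1 := by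
    apply Units.ext
    rw [Units.val_mul, Units.val_pow_eq_pow_val, hz, Units.val_mk0, hz₀, Units.val_one,
      inv_mul_cancel₀ (Units.ne_zero c)]
  set g' := ι z * g with hg'
  have hcz : ∀ x : Γ, ι z * x = x * ι z := central ι hcent z
  have hg'H : ∀ h ∈ H, g' * h = h * g' := by
    intro h hh
    rw [hg', mul_assoc, hg h hh, ← mul_assoc, hcz h, mul_assoc]
  have hg'm : g' ^ m = h₀ := by
    have hc : Commute (ι z) g := hcz g
    rw [hg', hc.mul_pow, hgm, ← mul_assoc, ← map_pow, ← map_mul, hzm, map_one, one_mul]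
  have hgpow : ∀ r : ℕ, g ^ r = ι (z⁻¹ ^ r) * g' ^ r := by
    intro r
    have hc : Commute (ι z) g := hcz g
    rw [hg', hc.mul_pow, ← mul_assoc, ← map_pow, ← map_mul, inv_pow,
      inv_mul_cancel, map_one, one_mul]
  set H' := adjoin H g' hg'H with hH'
  have hHH' : H ≤ H' := fun h hh => ⟨h, hh, 0, by simp⟩
  have hlevel : H' ⊓ ι.range = ⊥ := by
    rw [eq_bot_iff]
    rintro x ⟨⟨h, hh, i, rfl⟩, ⟨y, hy⟩⟩
    rw [Subgroup.mem_bot]
    have hmz : (m : ℤ) ≠ 0 := by exact_mod_cast hm0.ne'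
    have hi : i = (m : ℤ) * (i / m) + i % m := (Int.mul_ediv_add_emod i m).symm
    have hr0 : 0 ≤ i % (m : ℤ) := Int.emod_nonneg i hmz
    have hrm : i % (m : ℤ) < m := Int.emod_lt_of_pos i (by exact_mod_cast hm0)
    obtain ⟨r, hr⟩ := Int.eq_ofNat_of_zero_le hr0
    have hrm' : r < m := by rw [hr] at hrm; exact_mod_cast hrm
    have e1 : g' ^ i = h₀ ^ (i / (m : ℤ)) * g' ^ r := by
      conv_lhs => rw [hi]
      rw [zpow_add, zpow_mul, zpow_natCast, hg'm, hr, zpow_natCast]
    set h₁ := h * h₀ ^ (i / (m : ℤ)) with hh₁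
    have hh₁H : h₁ ∈ H := H.mul_mem hh (H.zpow_mem hh₀ _)
    have e2 : h * g' ^ i = h₁ * g' ^ r := by rw [e1, hh₁, mul_assoc]
    have hr0' : r = 0 := by
      by_contra hne
      have hrpos : 0 < r := Nat.pos_of_ne_zero hne
      have : ∃ (z' : kˣ) (h' : Γ), h' ∈ H ∧ g ^ r = ι z' * h' := by
        refine ⟨z⁻¹ ^ r * y, h₁⁻¹, H.inv_mem hh₁H, ?_⟩
        rw [hgpow r, map_mul, mul_assoc]
        congr 1
        rw [hy, e2]
        have := central ι hcent y h₁⁻¹
        rw [hy, e2] at this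
        rw [this]; group
      exact Nat.find_min hex (hm ▸ hrm') ⟨hrpos, this⟩
    rw [e2, hr0', pow_zero, mul_one]
    have hmem : h₁ ∈ H ⊓ ι.range := by
      refine ⟨hh₁H, y, ?_⟩
      rw [hy, e2, hr0', pow_zero, mul_one]
    rw [hH] at hmem
    exact (Subgroup.mem_bot.mp hmem)
  have heq := hmax H' hlevel hHH'
  have hg'mem : g' ∈ H := by
    rw [← heq]
    exact ⟨1, H.one_mem, 1, by simp⟩
  refine ⟨z⁻¹, g', hg'mem, ?_⟩
  rw [hg', ← mul_assoc, ← map_mul, inv_mul_cancel, map_one, one_mul]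

end level

section morita
variable {k : Type u} [Field k] {V : Type v} [AddCommGroup V] [Module k V] [FiniteDimensional k V]
  {W : Type w} [AddCommGroup W] [Module k W] [FiniteDimensional k W]

omit [FiniteDimensional k V] in
theorem smulRight_mul (φ φ' : Module.Dual k V) (x x' : V) :
    (φ.smulRight x : Module.End k V) * φ'.smulRight x' = φ x' • φ'.smulRight x := by
  ext v
  simp [smul_smul, mul_comm]

theorem morita (Ψ : Module.End k V →ₐ[k] Module.End k W) (v₁ : V) (φ₁ : Module.Dual k V)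
    (h1 : φ₁ v₁ = 1) :
    Module.finrank k W =
      Module.finrank k V * Module.finrank k (LinearMap.range (Ψ (φ₁.smulRight v₁))) := by
  classical
  let b := Module.finBasis k V
  set e : Module.End k V := φ₁.smulRight v₁ with he
  set R := LinearMap.range (Ψ e) with hR
  have hee : e * e = e := by rw [he, smulRight_mul, h1, one_smul]
  have he_E : ∀ i, e * (b.coord i).smulRight v₁ = (b.coord i).smulRight v₁ := by
    intro i; rw [he, smulRight_mul, h1, one_smul]
  have hFE : ∀ i, (φ₁.smulRight (b i) : Module.End k V) * (b.coord i).smulRight v₁ =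
      (b.coord i).smulRight (b i) := by
    intro i; rw [smulRight_mul, h1, one_smul]
  have hsum : ∑ i, ((b.coord i).smulRight (b i) : Module.End k V) = 1 := by
    ext v
    simp only [LinearMap.sum_apply, LinearMap.smulRight_apply, Module.Basis.coord_apply,
      Module.End.one_apply]
    exact b.sum_repr v
  have hEF : ∀ i j, ((b.coord j).smulRight v₁ : Module.End k V) * φ₁.smulRight (b i) =
      (if i = j then (1 : k) else 0) • e := by
    intro i j
    rw [smulRight_mul, Module.Basis.coord_apply, Module.Basis.repr_self, Finsupp.single_apply]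
  have hmem : ∀ i (w : W), Ψ ((b.coord i).smulRight v₁) w ∈ R := by
    intro i w
    refine ⟨Ψ ((b.coord i).smulRight v₁) w, ?_⟩
    rw [← Module.End.mul_apply, ← map_mul, he_E]
  have hRfix : ∀ w ∈ R, Ψ e w = w := by
    rintro _ ⟨w, rfl⟩
    rw [← Module.End.mul_apply, ← map_mul, hee]
  let fwd : W →ₗ[k] (Fin (Module.finrank k V) → R) :=
    LinearMap.pi (fun i => (Ψ ((b.coord i).smulRight v₁)).codRestrict R (hmem i))
  let bwd : (Fin (Module.finrank k V) → R) →ₗ[k] W :=
    ∑ i, (Ψ (φ₁.smulRight (b i))) ∘ₗ R.subtype ∘ₗ LinearMap.proj i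
  have h12 : bwd ∘ₗ fwd = LinearMap.id := by
    ext w
    simp only [bwd, fwd, LinearMap.comp_apply, LinearMap.sum_apply, LinearMap.proj_apply,
      LinearMap.pi_apply, Submodule.subtype_apply, LinearMap.codRestrict_apply,
      LinearMap.id_apply]
    simp only [← Module.End.mul_apply, ← map_mul, hFE]
    rw [← LinearMap.sum_apply, ← map_sum, hsum, map_one, Module.End.one_apply]
  have h21 : fwd ∘ₗ bwd = LinearMap.id := by
    refine LinearMap.ext fun x => funext fun j => Subtype.ext ?_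
    simp only [bwd, fwd, LinearMap.comp_apply, LinearMap.sum_apply, LinearMap.proj_apply,
      LinearMap.pi_apply, Submodule.subtype_apply, LinearMap.codRestrict_apply,
      LinearMap.id_apply, map_sum]
    rw [AddSubmonoidClass.coe_finsetSum]
    simp only [LinearMap.codRestrict_apply]
    simp only [← Module.End.mul_apply, ← map_mul, hEF, map_smul, LinearMap.smul_apply]
    rw [Finset.sum_eq_single j]
    · rw [if_pos rfl, one_smul, hRfix _ (x j).2]
    · intro i _ hij
      rw [if_neg hij, zero_smul]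
    · intro h; exact absurd (Finset.mem_univ j) h
  have eqv : W ≃ₗ[k] (Fin (Module.finrank k V) → R) := LinearEquiv.ofLinearMap fwd bwd h21 h12
  rw [eqv.finrank_eq, Module.finrank_pi_fintype]
  simp

end morita

end Groth.Agent.Helper8.Theta
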