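import Mathlib
import Groth.Agent.Helper8.Theta2

set_option autoImplicit false
universe u v w

namespace Groth.Agent.Helper8.Theta

open scoped MonoidAlgebra commutatorElement Classical

section projector
variable {k : Type u} [Field k] {Γ : Type v} [Group Γ]
  {V : Type w} [AddCommGroup V] [Module k V] (ρ : Representation k Γ V)
  (H : Subgroup Γ) [Fintype H]

/-- averaging operator over `H` -/
noncomputable def eH : Module.End k V := ((Fintype.card H : k))⁻¹ • ∑ h : H, ρ (h : Γ)

theorem rho_mul_eH (h₀ : H) : ρ (h₀ : Γ) * eH ρ H = eH ρ H := by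
  unfold eH
  rw [mul_smul_comm, Finset.mul_sum]
  congr 1
  simp only [← map_mul, ← Subgroup.coe_mul]
  exact Equiv.sum_comp (Equiv.mulLeft h₀) (fun h : H => ρ (h : Γ))

theorem eH_mul_rho (h₀ : H) : eH ρ H * ρ (h₀ : Γ) = eH ρ H := by
  unfold eH
  rw [smul_mul_assoc, Finset.sum_mul]
  congr 1
  simp only [← map_mul, ← Subgroup.coe_mul]
  exact Equiv.sum_comp (Equiv.mulRight h₀) (fun h : H => ρ (h : Γ))

theorem eH_idem (hH : (Fintype.card H : k) ≠ 0) : eH ρ H * eH ρ H = eH ρ H := by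
  have h0 : eH ρ H * eH ρ H =
      (((Fintype.card H : k))⁻¹ • ∑ h : H, ρ (h : Γ)) * eH ρ H := rfl
  rw [h0, smul_mul_assoc, Finset.sum_mul]
  simp only [rho_mul_eH]
  rw [Finset.sum_const, Finset.card_univ, ← Nat.cast_smul_eq_nsmul k, smul_smul,
    inv_mul_cancel₀ hH, one_smul]

theorem eH_mem_invariants (v : V) : eH ρ H v ∈ Representation.invariants (ρ.comp H.subtype) := by
  rw [Representation.mem_invariants]
  intro h
  show ρ (h : Γ) (eH ρ H v) = eH ρ H v
  rw [← Module.End.mul_apply, rho_mul_eH]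

theorem eH_apply_of_mem (hH : (Fintype.card H : k) ≠ 0) (v : V)
    (hv : v ∈ Representation.invariants (ρ.comp H.subtype)) : eH ρ H v = v := by
  rw [Representation.mem_invariants] at hv
  have hv' : ∀ h : H, ρ (h : Γ) v = v := hv
  rw [eH, LinearMap.smul_apply, LinearMap.sum_apply]
  simp only [hv']
  rw [Finset.sum_const, Finset.card_univ, ← Nat.cast_smul_eq_nsmul k, smul_smul,
    inv_mul_cancel₀ hH, one_smul]

theorem range_eH (hH : (Fintype.card H : k) ≠ 0) :
    LinearMap.range (eH ρ H) = Representation.invariants (ρ.comp H.subtype) := by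
  apply le_antisymm
  · rintro _ ⟨v, rfl⟩
    exact eH_mem_invariants ρ H v
  · intro v hv
    exact ⟨v, eH_apply_of_mem ρ H hH v hv⟩

end projector

section indep
variable {k : Type u} [Field k] {Γ : Type v} [Group Γ] (ι : kˣ →* Γ)
  {V : Type w} [AddCommGroup V] [Module k V] (ρ : Representation k Γ V)

theorem mk_eq_of_chi_eq (hι : Function.Injective ι) (hcent : ι.range = Subgroup.center Γ)
    (hcomm : commutator Γ ≤ ι.range) (a a' : Γ)
    (h : chi ι hι hcent hcomm a = chi ι hι hcent hcomm a') :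
    (QuotientGroup.mk a : Γ ⧸ ι.range) = QuotientGroup.mk a' := by
  have h1 : ∀ g : Γ, ⁅g, a⁆ = ⁅g, a'⁆ := by
    intro g
    have := DFunLike.congr_fun h g
    simp only [chi_apply] at this
    rw [← pair_spec ι hcomm, ← pair_spec ι hcomm, Units.ext this]
  have h2 : a⁻¹ * a' ∈ Subgroup.center Γ := by
    rw [Subgroup.mem_center_iff]
    intro g
    have := h1 g⁻¹
    simp only [commutatorElement_def, inv_inv] at this
    have e1 : a * g * a⁻¹ = a' * g * a'⁻¹ := by
      have := congrArg (fun x => g * x) this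
      simpa [mul_assoc] using this
    calc g * (a⁻¹ * a') = a⁻¹ * (a * g * a⁻¹) * a' := by group
      _ = a⁻¹ * (a' * g * a'⁻¹) * a' := by rw [e1]
      _ = a⁻¹ * a' * g := by group
  rw [← hcent] at h2
  exact QuotientGroup.eq.mpr h2

theorem linearIndependent_rho [Nontrivial V] {I : Type*} [Fintype I] (a : I → Γ)
    (ha : Function.Injective (fun i => (QuotientGroup.mk (a i) : Γ ⧸ ι.range)))
    (hι : Function.Injective ι)
    (hcent : ι.range = Subgroup.center Γ) (hcomm : commutator Γ ≤ ι.range)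
    (hw : ∀ (z : kˣ) (v : V), ρ (ι z) v = (z : k) • v) :
    LinearIndependent k (fun i => ρ (a i)) := by
  rw [Fintype.linearIndependent_iff]
  intro c hc
  have h1 : ∀ g : Γ, ∑ i : I, (c i * chi ι hι hcent hcomm (a i) g) • ρ (a i) = 0 := by
    intro g
    have := congrArg (fun A => ρ g * A * ρ g⁻¹) hc
    simp only [Finset.mul_sum, Finset.sum_mul, mul_zero, zero_mul] at this
    rw [← this]
    apply Finset.sum_congr rfl
    intro i _
    rw [mul_smul_comm, smul_mul_assoc, conj_rel ι ρ hcomm hw, smul_mul_assoc, mul_assoc,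
      ← map_mul, mul_inv_cancel, map_one, mul_one, smul_smul, chi_apply]
  have hinj : Function.Injective (fun i : I => chi ι hι hcent hcomm (a i)) := by
    intro i j hij
    exact ha (mk_eq_of_chi_eq ι hι hcent hcomm _ _ hij)
  have hli : LinearIndependent k
      (fun i : I => (chi ι hι hcent hcomm (a i) : Γ → k)) :=
    (linearIndependent_monoidHom Γ k).comp _ hinj
  have h2 : ∀ (v : V) (φ : Module.Dual k V) (i : I), c i * φ (ρ (a i) v) = 0 := by
    intro v φ
    apply Fintype.linearIndependent_iff.mp hli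
    funext g
    have := congrArg (fun A : Module.End k V => φ (A v)) (h1 g)
    simp only [LinearMap.sum_apply, LinearMap.smul_apply, map_sum, map_smul, smul_eq_mul,
      map_zero, LinearMap.zero_apply] at this
    simp only [Finset.sum_apply, Pi.smul_apply, smul_eq_mul, Pi.zero_apply]
    rw [← this]
    apply Finset.sum_congr rfl
    intro i _
    ring
  intro i
  by_contra hi
  obtain ⟨v, hv⟩ := exists_ne (0 : V)
  have h3 : ρ (a i) v = 0 := by
    rw [← Module.forall_dual_apply_eq_zero_iff k]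
    intro φ
    rcases mul_eq_zero.mp (h2 v φ i) with h | h
    · exact absurd h hi
    · exact h
  apply hv
  have := congrArg (ρ (a i)⁻¹) h3
  rwa [← Module.End.mul_apply, ← map_mul, inv_mul_cancel, map_one, Module.End.one_apply,
    map_zero] at this

end indep

section rankone
variable {k : Type u} [Field k] {Γ : Type v} [Group Γ] (ι : kˣ →* Γ)
  {V : Type w} [AddCommGroup V] [Module k V] (ρ : Representation k Γ V)
  (H : Subgroup Γ) [Fintype H]

omit [Fintype H] in
theorem H_mk_injective (hH : H ⊓ ι.range = ⊥) :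
    Function.Injective (fun h : H => (QuotientGroup.mk (h : Γ) : Γ ⧸ ι.range)) := by
  intro h h' hh
  rw [QuotientGroup.eq] at hh
  have : (h : Γ)⁻¹ * h' ∈ H ⊓ ι.range := ⟨H.mul_mem (H.inv_mem h.2) h'.2, hh⟩
  rw [hH, Subgroup.mem_bot] at this
  exact Subtype.ext (inv_mul_eq_one.mp this)

theorem eH_ne_zero [Nontrivial V] (hcard : (Fintype.card H : k) ≠ 0) (hH : H ⊓ ι.range = ⊥)
    (hι : Function.Injective ι)
    (hcent : ι.range = Subgroup.center Γ) (hcomm : commutator Γ ≤ ι.range)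
    (hw : ∀ (z : kˣ) (v : V), ρ (ι z) v = (z : k) • v) : eH ρ H ≠ 0 := by
  intro h0
  have hli := linearIndependent_rho ι ρ (fun h : H => (h : Γ)) (H_mk_injective ι H hH)
    hι hcent hcomm hw
  rw [Fintype.linearIndependent_iff] at hli
  have := hli (fun _ => (Fintype.card H : k)⁻¹) (by rw [← Finset.smul_sum]; exact h0) 1
  exact inv_ne_zero hcard this

variable [IsAlgClosed k] [Finite (Γ ⧸ ι.range)]

theorem eH_sandwich_rho (hcard : (Fintype.card H : k) ≠ 0) (hH : H ⊓ ι.range = ⊥)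
    (hmax : ∀ H' : Subgroup Γ, H' ⊓ ι.range = ⊥ → H ≤ H' → H' = H)
    (hcent : ι.range = Subgroup.center Γ) (hcomm : commutator Γ ≤ ι.range)
    (hw : ∀ (z : kˣ) (v : V), ρ (ι z) v = (z : k) • v) (g : Γ) :
    ∃ c : k, eH ρ H * ρ g * eH ρ H = c • eH ρ H := by
  by_cases hg : ∀ h ∈ H, g * h = h * g
  · obtain ⟨z, h, hh, rfl⟩ := centralizer_le ι hcent H hH hmax g hg
    refine ⟨(z : k), ?_⟩
    rw [map_mul, rho_iota ι ρ hw, smul_mul_assoc, one_mul, mul_smul_comm, smul_mul_assoc,
      eH_mul_rho ρ H ⟨h, hh⟩, eH_idem ρ H hcard]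
  · push Not at hg
    obtain ⟨h₀, hh₀, hne⟩ := hg
    refine ⟨0, ?_⟩
    rw [zero_smul]
    set X := eH ρ H * ρ g * eH ρ H with hXdef
    have hX : X = (pair ι h₀ g : k) • X := by
      calc X = (eH ρ H * ρ h₀) * ρ g * eH ρ H := by rw [eH_mul_rho ρ H ⟨h₀, hh₀⟩]
        _ = eH ρ H * (ρ h₀ * ρ g) * eH ρ H := by simp only [mul_assoc]
        _ = eH ρ H * ((pair ι h₀ g : k) • (ρ g * ρ h₀)) * eH ρ H := by
            rw [conj_rel ι ρ hcomm hw]
        _ = (pair ι h₀ g : k) • (eH ρ H * ρ g * (ρ h₀ * eH ρ H)) := by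
            simp only [mul_smul_comm, smul_mul_assoc, mul_assoc]
        _ = (pair ι h₀ g : k) • X := by rw [rho_mul_eH ρ H ⟨h₀, hh₀⟩]
    have hp : (pair ι h₀ g : k) ≠ 1 := by
      intro h1
      have h1' : pair ι h₀ g = 1 := Units.ext h1
      have h2 := pair_spec ι hcomm h₀ g
      rw [h1', map_one, commutatorElement_def] at h2
      apply hne
      have h3 := congrArg (fun x => x * g * h₀) h2
      simp only [one_mul, inv_mul_cancel_right] at h3
      exact h3
    have h4 : (1 - (pair ι h₀ g : k)) • X = 0 := by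
      rw [sub_smul, one_smul, ← hX, sub_self]
    rcases smul_eq_zero.mp h4 with h | h
    · exact absurd (sub_eq_zero.mp h).symm hp
    · exact h

theorem eH_sandwich [FiniteDimensional k V] [ρ.IsIrreducible]
    (hcard : (Fintype.card H : k) ≠ 0) (hH : H ⊓ ι.range = ⊥)
    (hmax : ∀ H' : Subgroup Γ, H' ⊓ ι.range = ⊥ → H ≤ H' → H' = H)
    (hcent : ι.range = Subgroup.center Γ) (hcomm : commutator Γ ≤ ι.range)
    (hw : ∀ (z : kˣ) (v : V), ρ (ι z) v = (z : k) • v) (A : Module.End k V) :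
    ∃ c : k, eH ρ H * A * eH ρ H = c • eH ρ H := by
  obtain ⟨x, rfl⟩ := burnside ρ A
  induction x using MonoidAlgebra.induction_linear with
  | zero => exact ⟨0, by simp⟩
  | add x y hx hy =>
    obtain ⟨c, hc⟩ := hx
    obtain ⟨d, hd⟩ := hy
    exact ⟨c + d, by rw [map_add, mul_add, add_mul, hc, hd, add_smul]⟩
  | single g a =>
    obtain ⟨c, hc⟩ := eH_sandwich_rho ι ρ H hcard hH hmax hcent hcomm hw g
    exact ⟨a * c, by
      rw [Representation.asAlgebraHom_single, mul_smul_comm, smul_mul_assoc, hc, smul_smul]⟩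

theorem exists_rank_one [FiniteDimensional k V] [ρ.IsIrreducible]
    (hcard : (Fintype.card H : k) ≠ 0) (hH : H ⊓ ι.range = ⊥)
    (hmax : ∀ H' : Subgroup Γ, H' ⊓ ι.range = ⊥ → H ≤ H' → H' = H)
    (hι : Function.Injective ι)
    (hcent : ι.range = Subgroup.center Γ) (hcomm : commutator Γ ≤ ι.range)
    (hw : ∀ (z : kˣ) (v : V), ρ (ι z) v = (z : k) • v) :
    ∃ (v₁ : V) (φ₁ : Module.Dual k V), φ₁ v₁ = 1 ∧ eH ρ H = φ₁.smulRight v₁ := by
  haveI := nontrivial_of_irreducible ρ
  have hne := eH_ne_zero ι ρ H hcard hH hι hcent hcomm hw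
  have hidem := eH_idem ρ H hcard
  obtain ⟨v₀, hv₀⟩ : ∃ v₀, eH ρ H v₀ ≠ 0 := by
    by_contra hcon
    push Not at hcon
    exact hne (LinearMap.ext hcon)
  set v₁ := eH ρ H v₀ with hv₁
  have hev₁ : eH ρ H v₁ = v₁ := by
    rw [hv₁, ← Module.End.mul_apply, hidem]
  obtain ⟨ψ₀, hψ₀⟩ : ∃ ψ₀ : Module.Dual k V, ψ₀ v₁ ≠ 0 := by
    by_contra hcon
    push Not at hcon
    exact hv₀ ((Module.forall_dual_apply_eq_zero_iff k v₁).mp hcon)
  set ψ : Module.Dual k V := (ψ₀ v₁)⁻¹ • ψ₀ with hψ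
  have hψ1 : ψ v₁ = 1 := by
    rw [hψ, LinearMap.smul_apply, smul_eq_mul, inv_mul_cancel₀ hψ₀]
  have hspan : ∀ v, ∃ c : k, eH ρ H v = c • v₁ := by
    intro v
    obtain ⟨c, hc⟩ := eH_sandwich ι ρ H hcard hH hmax hcent hcomm hw (ψ.smulRight v)
    refine ⟨c, ?_⟩
    have h1 := LinearMap.congr_fun hc v₁
    simp only [Module.End.mul_apply, LinearMap.smul_apply, hev₁, LinearMap.smulRight_apply,
      hψ1, one_smul] at h1
    exact h1
  refine ⟨v₁, ψ ∘ₗ eH ρ H, ?_, ?_⟩
  · rw [LinearMap.comp_apply, hev₁, hψ1]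
  · ext v
    obtain ⟨c, hc⟩ := hspan v
    rw [LinearMap.smulRight_apply, LinearMap.comp_apply, hc, map_smul, hψ1, smul_eq_mul, mul_one]

end rankone

section final
variable {k : Type u} [Field k]

theorem natCast_ne_zero_of_coprime (n : ℕ) (hn : 0 < n) (h : n.Coprime (ringExpChar k)) :
    (n : k) ≠ 0 := by
  intro h0
  rw [ringChar.spec] at h0
  by_cases hp : ringChar k = 0
  · rw [hp, zero_dvd_iff] at h0
    omega
  · have h1 : ringExpChar k = ringChar k := by
      unfold ringExpChar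
      exact max_eq_left (Nat.one_le_iff_ne_zero.mpr hp)
    rw [h1] at h
    have h2 : ringChar k = 1 := Nat.Coprime.eq_one_of_dvd h.symm h0
    exact CharP.ringChar_ne_one h2

variable [IsAlgClosed k] {Γ : Type v} [Group Γ] (ι : kˣ →* Γ) [Fintype (Γ ⧸ ι.range)]
  {V : Type w} [AddCommGroup V] [Module k V] [FiniteDimensional k V] (ρ : Representation k Γ V)
  [ρ.IsIrreducible]
  {W : Type w} [AddCommGroup W] [Module k W] (σ : Representation k Γ W)

theorem exists_algHom (hι : Function.Injective ι)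
    (hcent : ι.range = Subgroup.center Γ) (hcomm : commutator Γ ≤ ι.range)
    (hw : ∀ (z : kˣ) (v : V), ρ (ι z) v = (z : k) • v)
    (hw' : ∀ (z : kˣ) (v : W), σ (ι z) v = (z : k) • v) :
    ∃ Ψ : Module.End k V →ₐ[k] Module.End k W, ∀ g, Ψ (ρ g) = σ g := by
  let Φ : Module.End k V →ₗ[k] Module.End k W :=
    (L ι σ) ∘ₗ (LE ι ρ hι hcent hcomm hw).symm.toLinearMap
  have hΦL : ∀ c, Φ (L ι ρ c) = L ι σ c := by
    intro c
    show (L ι σ) ((LE ι ρ hι hcent hcomm hw).symm (L ι ρ c)) = _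
    have : (LE ι ρ hι hcent hcomm hw).symm (L ι ρ c) = c :=
      (LE ι ρ hι hcent hcomm hw).symm_apply_apply c
    rw [this]
  have hΦ : ∀ x : k[Γ], Φ (ρ.asAlgebraHom x) = σ.asAlgebraHom x := by
    intro x
    induction x using MonoidAlgebra.induction_linear with
    | zero => simp
    | add x y hx hy => rw [map_add, map_add, map_add, hx, hy]
    | single g a =>
      rw [Representation.asAlgebraHom_single, Representation.asAlgebraHom_single, map_smul,
        rho_eq_L ι ρ hcent hw g, hΦL, ← rho_eq_L ι σ hcent hw' g]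
  let Ψ : Module.End k V →ₐ[k] Module.End k W :=
    AlgHom.ofLinearMap Φ
      (by
        have := hΦ 1
        rwa [map_one ρ.asAlgebraHom, map_one σ.asAlgebraHom] at this)
      (by
        intro A B
        obtain ⟨x, rfl⟩ := burnside ρ A
        obtain ⟨y, rfl⟩ := burnside ρ B
        rw [← map_mul, hΦ, hΦ, hΦ, map_mul])
  refine ⟨Ψ, fun g => ?_⟩
  have := hΦ (MonoidAlgebra.of k Γ g)
  rwa [Representation.asAlgebraHom_of, Representation.asAlgebraHom_of] at this

end final

section main2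

theorem main2 (k : Type u) [Field k] [IsAlgClosed k]
    (Γ : Type u) [Group Γ] (ι : kˣ →* Γ) (hι : Function.Injective ι)
    (hcent : ι.range = Subgroup.center Γ) (hcomm : commutator Γ ≤ ι.range)
    [Finite (Γ ⧸ ι.range)] (hcop : (Nat.card (Γ ⧸ ι.range)).Coprime (ringExpChar k))
    (V : FDRep k Γ) (hV : Representation.IsIrreducible V.ρ) (hV1 : ∀ (z : kˣ) (v : V), V.ρ (ι z) v = (z : k) • v)
    (W : FDRep k Γ) (hW1 : ∀ (z : kˣ) (w : W), W.ρ (ι z) w = (z : k) • w)
    (H : Subgroup Γ) (hH : H ⊓ ι.range = ⊥) (hmax : ∀ H' : Subgroup Γ, H' ⊓ ι.range = ⊥ → H ≤ H' → H' = H) :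
    Representation.IsSemisimpleRepresentation W.ρ ∧
      Module.finrank k W =
        Module.finrank k (Representation.invariants (W.ρ.comp H.subtype)) * Module.finrank k V := by
  letI : Fintype (Γ ⧸ ι.range) := Fintype.ofFinite _
  haveI := hV
  have hn : ((Fintype.card (Γ ⧸ ι.range) : ℕ) : k) ≠ 0 := by
    apply natCast_ne_zero_of_coprime
    · exact Fintype.card_pos
    · rwa [← Nat.card_eq_fintype_card]
  refine ⟨semisimple ι W.ρ hcent hW1 hn, ?_⟩
  haveI : Finite H := Finite.of_injective _ (H_mk_injective ι H hH)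
  letI : Fintype H := Fintype.ofFinite _
  have hcard : ((Fintype.card H : ℕ) : k) ≠ 0 := by
    haveI : ι.range.Normal := by rw [hcent]; infer_instance
    let f : H →* Γ ⧸ ι.range := (QuotientGroup.mk' ι.range).comp H.subtype
    have hf : Function.Injective f := H_mk_injective ι H hH
    have hdvd : Nat.card H ∣ Nat.card (Γ ⧸ ι.range) := Subgroup.card_dvd_of_injective f hf
    rw [Nat.card_eq_fintype_card, Nat.card_eq_fintype_card] at hdvd
    obtain ⟨d, hd⟩ := hdvd
    intro h0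
    apply hn
    rw [hd, Nat.cast_mul, h0, zero_mul]
  obtain ⟨v₁, φ₁, h1, he⟩ := exists_rank_one ι V.ρ H hcard hH hmax hι hcent hcomm hV1
  obtain ⟨Ψ, hΨ⟩ := exists_algHom ι V.ρ W.ρ hι hcent hcomm hV1 hW1
  have hm := morita Ψ v₁ φ₁ h1
  rw [← he] at hm
  have hΨe : Ψ (eH V.ρ H) = eH W.ρ H := by
    unfold eH
    rw [map_smul, map_sum]
    simp only [hΨ]
  rw [hΨe, range_eH W.ρ H hcard] at hm
  rw [hm, mul_comm]

end main2

end Groth.Agent.Helper8.Theta
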