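import Mathlib
import Groth.Agent.Helper8.Theta3

set_option autoImplicit false
universe u v w

namespace Groth.Agent.Helper8.Theta

open scoped commutatorElement Classical

section lagr
variable {k : Type u} [Field k] {Γ : Type v} [Group Γ] (ι : kˣ →* Γ)

theorem pair_mul_right (hι : Function.Injective ι) (hcent : ι.range = Subgroup.center Γ)
    (hcomm : commutator Γ ≤ ι.range) (g a b : Γ) :
    pair ι g (a * b) = pair ι g a * pair ι g b := by
  apply hι
  rw [map_mul, pair_spec ι hcomm, pair_spec ι hcomm g a]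
  have h2 : ⁅g, a * b⁆ = ⁅g, a⁆ * (a * ⁅g, b⁆ * a⁻¹) := by
    simp only [commutatorElement_def]; group
  rw [h2, ← pair_spec ι hcomm g b, ← central ι hcent _ a, mul_assoc, mul_inv_cancel, mul_one]

theorem pair_iota_left (hι : Function.Injective ι) (hcent : ι.range = Subgroup.center Γ)
    (hcomm : commutator Γ ≤ ι.range) (z : kˣ) (a : Γ) : pair ι (ι z) a = 1 := by
  apply hι
  rw [pair_spec ι hcomm, map_one, commutatorElement_def, central ι hcent z a]; group

theorem pair_eq_one_iff (hι : Function.Injective ι)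
    (hcomm : commutator Γ ≤ ι.range) (g a : Γ) : pair ι g a = 1 ↔ g * a = a * g := by
  rw [← hι.eq_iff, pair_spec ι hcomm, map_one, commutatorElement_def]
  constructor
  · intro h
    have := congrArg (fun x => x * a * g) h
    simpa [mul_assoc] using this
  · intro h
    rw [h]; group

/-- the character `g ↦ ⟨g, a⟩` with values in the units -/
noncomputable def chiU (hι : Function.Injective ι) (hcent : ι.range = Subgroup.center Γ)
    (hcomm : commutator Γ ≤ ι.range) (a : Γ) : Γ →* kˣ where
  toFun g := pair ι g a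
  map_one' := by
    have := pair_iota_left ι hι hcent hcomm 1 a
    rwa [map_one] at this
  map_mul' g h := pair_mul ι hι hcent hcomm g h a

theorem pair_iota_right (hι : Function.Injective ι) (hcent : ι.range = Subgroup.center Γ)
    (hcomm : commutator Γ ≤ ι.range) (z : kˣ) (g : Γ) : pair ι g (ι z) = 1 := by
  rw [pair_eq_one_iff ι hι hcomm, central ι hcent z g]

/-- the quotient by the centre is commutative -/
@[reducible] noncomputable def commGroupK [ι.range.Normal] (hcomm : commutator Γ ≤ ι.range) :
    CommGroup (Γ ⧸ ι.range) :=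
  { (inferInstance : Group (Γ ⧸ ι.range)) with
    mul_comm := by
      intro a b
      induction a using QuotientGroup.induction_on with | H a =>
      induction b using QuotientGroup.induction_on with | H b =>
      rw [← QuotientGroup.mk_mul, ← QuotientGroup.mk_mul, QuotientGroup.eq]
      apply hcomm
      have : (a * b)⁻¹ * (b * a) = ⁅b⁻¹, a⁻¹⁆ := by
        rw [commutatorElement_def]; group
      rw [this, commutator_def]
      exact Subgroup.commutator_mem_commutator (Subgroup.mem_top _) (Subgroup.mem_top _) }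

/-- the pairing as a map `K → Hom(K, kˣ)` -/
noncomputable def beta [ι.range.Normal] (hι : Function.Injective ι)
    (hcent : ι.range = Subgroup.center Γ) (hcomm : commutator Γ ≤ ι.range)
    (κ : Γ ⧸ ι.range) : (Γ ⧸ ι.range) →* kˣ :=
  QuotientGroup.lift ι.range (chiU ι hι hcent hcomm κ.out) (by
    rintro _ ⟨z, rfl⟩
    rw [MonoidHom.mem_ker]
    exact pair_iota_left ι hι hcent hcomm z _)

theorem beta_mk [ι.range.Normal] (hι : Function.Injective ι)
    (hcent : ι.range = Subgroup.center Γ) (hcomm : commutator Γ ≤ ι.range) (c g : Γ) :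
    beta ι hι hcent hcomm (QuotientGroup.mk c) (QuotientGroup.mk g) = pair ι g c := by
  unfold beta
  rw [QuotientGroup.lift_mk]
  show pair ι g (QuotientGroup.mk c : Γ ⧸ ι.range).out = pair ι g c
  have h1 : (QuotientGroup.mk (QuotientGroup.mk c : Γ ⧸ ι.range).out : Γ ⧸ ι.range) =
      QuotientGroup.mk c := QuotientGroup.out_eq' _
  rw [QuotientGroup.eq] at h1
  obtain ⟨z, hz⟩ := h1
  have : c = (QuotientGroup.mk c : Γ ⧸ ι.range).out * ι z := by rw [hz]; group
  conv_rhs => rw [this]
  rw [pair_mul_right ι hι hcent hcomm, pair_iota_right ι hι hcent hcomm, mul_one]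

theorem beta_injective [ι.range.Normal] (hι : Function.Injective ι)
    (hcent : ι.range = Subgroup.center Γ) (hcomm : commutator Γ ≤ ι.range) :
    Function.Injective (beta ι hι hcent hcomm) := by
  intro κ κ' h
  induction κ using QuotientGroup.induction_on with | H a =>
  induction κ' using QuotientGroup.induction_on with | H a' =>
  apply mk_eq_of_chi_eq ι hι hcent hcomm
  ext g
  have := DFunLike.congr_fun h (QuotientGroup.mk g)
  rw [beta_mk, beta_mk] at this
  rw [chi_apply, chi_apply, this]

theorem card_count [IsAlgClosed k] [Finite (Γ ⧸ ι.range)] (hι : Function.Injective ι)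
    (hcent : ι.range = Subgroup.center Γ) (hcomm : commutator Γ ≤ ι.range)
    (hn : ((Nat.card (Γ ⧸ ι.range) : ℕ) : k) ≠ 0) (H : Subgroup Γ) :
    ι.range.relIndex (Subgroup.centralizer (H : Set Γ)) * ι.range.relIndex H = ι.range.index := by
  haveI hN : ι.range.Normal := by rw [hcent]; infer_instance
  letI := commGroupK ι hcomm
  set π := QuotientGroup.mk' ι.range with hπ
  have hker : π.ker = ι.range := QuotientGroup.ker_mk' _
  have hrel : ∀ X : Subgroup Γ, ι.range.relIndex X = Nat.card (X.map π) := by
    intro X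
    rw [← Subgroup.relIndex_ker X π, hker]
  rw [hrel, hrel, Subgroup.index_eq_card]
  set Hb := H.map π with hHb
  set Cb := (Subgroup.centralizer (H : Set Γ)).map π with hCb
  haveI : NeZero ((Monoid.exponent (Γ ⧸ ι.range) : ℕ) : k) := by
    refine ⟨fun h0 => hn ?_⟩
    obtain ⟨d, hd⟩ := Group.exponent_dvd_nat_card (G := Γ ⧸ ι.range)
    rw [hd, Nat.cast_mul, h0, zero_mul]
  have hcardK : Nat.card ((Γ ⧸ ι.range) →* kˣ) = Nat.card (Γ ⧸ ι.range) :=
    CommGroup.card_monoidHom_of_hasEnoughRootsOfUnity (Γ ⧸ ι.range) k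
  haveI : Finite ((Γ ⧸ ι.range) →* kˣ) := by
    apply Nat.finite_of_card_ne_zero
    rw [hcardK]
    exact Nat.card_pos.ne'
  have hbij : Function.Bijective (beta ι hι hcent hcomm) :=
    (beta_injective ι hι hcent hcomm).bijective_of_nat_card_le hcardK.le
  have hmem : ∀ κ : Γ ⧸ ι.range, κ ∈ Cb ↔
      beta ι hι hcent hcomm κ ∈ (MonoidHom.domRestrictHom Hb kˣ).ker := by
    intro κ
    induction κ using QuotientGroup.induction_on with | H c =>
    rw [MonoidHom.mem_ker]
    constructor
    · rintro ⟨c', hc', hcc'⟩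
      ext ⟨η, h, hh, rfl⟩
      rw [Units.val_inj]
      show beta ι hι hcent hcomm (QuotientGroup.mk c) (π h) = 1
      have e1 : (QuotientGroup.mk c : Γ ⧸ ι.range) = QuotientGroup.mk c' := hcc'.symm
      rw [e1]
      show beta ι hι hcent hcomm (QuotientGroup.mk c') (QuotientGroup.mk h) = 1
      rw [beta_mk, pair_eq_one_iff ι hι hcomm]
      exact (Subgroup.mem_centralizer_iff.mp hc') h hh
    · intro h1
      refine ⟨c, ?_, rfl⟩
      rw [SetLike.mem_coe, Subgroup.mem_centralizer_iff]
      intro h hh
      rw [← pair_eq_one_iff ι hι hcomm, ← beta_mk ι hι hcent hcomm]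
      have := DFunLike.congr_fun h1 ⟨π h, h, hh, rfl⟩
      exact this
  have hcard1 : Nat.card Cb = Nat.card (MonoidHom.domRestrictHom Hb kˣ).ker := by
    apply Nat.card_congr
    refine Equiv.ofBijective
      (fun κ : Cb => (⟨beta ι hι hcent hcomm κ.1, (hmem κ.1).mp κ.2⟩ :
        (MonoidHom.domRestrictHom Hb kˣ).ker)) ⟨?_, ?_⟩
    · intro κ κ' h
      exact Subtype.ext (hbij.1 (congrArg Subtype.val h))
    · rintro ⟨φ, hφ⟩
      obtain ⟨κ, rfl⟩ := hbij.2 φ
      exact ⟨⟨κ, (hmem κ).mpr hφ⟩, rfl⟩
  rw [hcard1, CommGroup.card_domRestrictHom_ker k Hb]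
  exact (Hb.card_eq_card_quotient_mul_card_subgroup).symm

theorem comm_iff_le_centralizer (H : Subgroup Γ) :
    IsMulCommutative H ↔ H ≤ Subgroup.centralizer (H : Set Γ) := by
  rw [isMulCommutative_iff]
  constructor
  · intro h x hx
    rw [Subgroup.mem_centralizer_iff]
    intro y hy
    have := h ⟨y, hy⟩ ⟨x, hx⟩
    exact congrArg Subtype.val this
  · intro h a b
    apply Subtype.ext
    exact (Subgroup.mem_centralizer_iff.mp (h b.2)) a a.2

theorem adjoin_comm (H : Subgroup Γ) (hH : IsMulCommutative H) (g : Γ)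
    (hg : ∀ h ∈ H, g * h = h * g) : IsMulCommutative (adjoin H g hg) := by
  rw [comm_iff_le_centralizer]
  rintro _ ⟨h, hh, i, rfl⟩
  rw [Subgroup.mem_centralizer_iff]
  rintro _ ⟨h', hh', j, rfl⟩
  have c1 : Commute h h' := by
    have := (isMulCommutative_iff.mp hH) ⟨h, hh⟩ ⟨h', hh'⟩
    exact congrArg Subtype.val this
  have c2 : Commute (g ^ j) h := Commute.zpow_left (hg h hh) j
  have c3 : Commute (g ^ i) h' := Commute.zpow_left (hg h' hh') i
  have c4 : Commute (g ^ j) (g ^ i) := (Commute.refl g).zpow_zpow j i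
  have : Commute (h' * g ^ j) (h * g ^ i) :=
    Commute.mul_left (Commute.mul_right c1.symm c3.symm) (Commute.mul_right c2 c4)
  exact this.eq

theorem lagrangian_tfae
    (k : Type u) [Field k] [IsAlgClosed k]
    (Γ : Type u) [Group Γ] (ι : kˣ →* Γ) (hι : Function.Injective ι)
    (hcent : ι.range = Subgroup.center Γ) (hcomm : commutator Γ ≤ ι.range)
    [Finite (Γ ⧸ ι.range)] (hcop : (Nat.card (Γ ⧸ ι.range)).Coprime (ringExpChar k))
    (H : Subgroup Γ) (hH : ι.range ≤ H) :
    List.TFAE [
      IsMulCommutative H ∧ ∀ H' : Subgroup Γ, IsMulCommutative H' → H ≤ H' → H' = H,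
      IsMulCommutative H ∧ (ι.range.relIndex H) ^ 2 = ι.range.index,
      H = Subgroup.centralizer (H : Set Γ)] := by
  have hn : ((Nat.card (Γ ⧸ ι.range) : ℕ) : k) ≠ 0 :=
    natCast_ne_zero_of_coprime _ Nat.card_pos hcop
  have hcount := card_count ι hι hcent hcomm hn H
  have hidx : ι.range.index ≠ 0 := by
    rw [Subgroup.index_eq_card]; exact Nat.card_pos.ne'
  have hZC : ι.range ≤ Subgroup.centralizer (H : Set Γ) := by
    rw [hcent]; exact Subgroup.center_le_centralizer _
  tfae_have 1 ↔ 3 := by
    constructor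
    · rintro ⟨hc, hmax⟩
      apply le_antisymm ((comm_iff_le_centralizer H).mp hc)
      intro g hg
      have hg' : ∀ h ∈ H, g * h = h * g := fun h hh =>
        ((Subgroup.mem_centralizer_iff.mp hg) h hh).symm
      have h1 := hmax (adjoin H g hg') (adjoin_comm H hc g hg') (fun h hh => ⟨h, hh, 0, by simp⟩)
      rw [← h1]
      exact ⟨1, H.one_mem, 1, by simp⟩
    · intro h3
      have hc : IsMulCommutative H := (comm_iff_le_centralizer H).mpr h3.le
      refine ⟨hc, fun H' hc' hHH' => le_antisymm ?_ hHH'⟩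
      intro x hx
      rw [h3, Subgroup.mem_centralizer_iff]
      intro h hh
      have := (isMulCommutative_iff.mp hc') ⟨h, hHH' hh⟩ ⟨x, hx⟩
      exact congrArg Subtype.val this
  tfae_have 2 ↔ 3 := by
    constructor
    · rintro ⟨hc, hsq⟩
      have hle := (comm_iff_le_centralizer H).mp hc
      rw [← hcount, sq] at hsq
      have hrel_ne : ι.range.relIndex H ≠ 0 := by
        intro h0
        rw [h0, mul_zero] at hcount
        exact hidx hcount.symm
      have heq : ι.range.relIndex H = ι.range.relIndex (Subgroup.centralizer (H : Set Γ)) :=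
        Nat.eq_of_mul_eq_mul_right (Nat.pos_of_ne_zero hrel_ne) hsq
      -- relIndex Z C = relIndex Z H * relIndex H C
      have h2 := Subgroup.relIndex_mul_relIndex ι.range H (Subgroup.centralizer (H : Set Γ)) hH hle
      rw [← heq] at h2
      have h3 : H.relIndex (Subgroup.centralizer (H : Set Γ)) = 1 := by
        have := Nat.eq_of_mul_eq_mul_left (Nat.pos_of_ne_zero hrel_ne) (h2.trans (mul_one _).symm)
        exact this
      exact le_antisymm hle (Subgroup.relIndex_eq_one.mp h3)
    · intro h3
      have hc : IsMulCommutative H := (comm_iff_le_centralizer H).mpr h3.le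
      refine ⟨hc, ?_⟩
      rw [← h3] at hcount
      rw [sq, hcount]
  tfae_finish

end lagr

end Groth.Agent.Helper8.Theta
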