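import Mathlib
import Groth.Prelude.Def_DualGr
import Groth.Agent.Helper8.VanCycQ

set_option autoImplicit false
universe u

namespace Groth.Agent.Helper8.ThickNode

open MvPowerSeries IsLocalRing

section core

variable {S : Type*} [CommRing S]

/-- the element `xy - c`. -/
noncomputable abbrev gg (c : S) : MvPowerSeries (Fin 2) S :=
  X 0 * X 1 - C c

noncomputable abbrev e10 : Fin 2 →₀ ℕ := Finsupp.single 0 1
noncomputable abbrev e01 : Fin 2 →₀ ℕ := Finsupp.single 1 1

lemma X0X1 : (X 0 * X 1 : MvPowerSeries (Fin 2) S) = monomial (e10 + e01) 1 := by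
  rw [X_def, X_def, monomial_mul_monomial, one_mul]

lemma not_le_zero : ¬ (e10 + e01 ≤ (0 : Fin 2 →₀ ℕ)) := by
  intro h; have := h 0; simp [e10, e01] at this

lemma not_le_e10 : ¬ (e10 + e01 ≤ e10) := by
  intro h; have := h 1; simp [e10, e01] at this

lemma not_le_e01 : ¬ (e10 + e01 ≤ e01) := by
  intro h; have := h 0; simp [e10, e01] at this

/-- low-degree coefficients of multiples of `xy - c` are multiples of `c`. -/
lemma coeff_mem_of_mem (c : S) (d : Fin 2 →₀ ℕ) (hd : ¬ (e10 + e01 ≤ d))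
    {f : MvPowerSeries (Fin 2) S} (hf : f ∈ Ideal.span {gg c}) :
    coeff d f ∈ Ideal.span {c} := by
  obtain ⟨h, rfl⟩ := Ideal.mem_span_singleton'.1 hf
  rw [gg, mul_sub, mul_comm h (X 0 * X 1), X0X1, map_sub, coeff_monomial_mul, if_neg hd,
    zero_sub, mul_comm h, coeff_C_mul]
  exact (Ideal.span {c}).neg_mem (Ideal.mul_mem_right _ _ (Ideal.mem_span_singleton_self c))

lemma coeff_e10_mul (f g : MvPowerSeries (Fin 2) S) :
    coeff e10 (f * g) = coeff 0 f * coeff e10 g + coeff e10 f * coeff 0 g := by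
  classical
  rw [coeff_mul, e10, Finsupp.antidiagonal_single, Finset.sum_map,
    Finset.Nat.sum_antidiagonal_succ, Finset.Nat.antidiagonal_zero, Finset.sum_singleton]
  simp

lemma coeff_e01_mul (f g : MvPowerSeries (Fin 2) S) :
    coeff e01 (f * g) = coeff 0 f * coeff e01 g + coeff e01 f * coeff 0 g := by
  classical
  rw [coeff_mul, e01, Finsupp.antidiagonal_single, Finset.sum_map,
    Finset.Nat.sum_antidiagonal_succ, Finset.Nat.antidiagonal_zero, Finset.sum_singleton]
  simp

lemma coeff_zero_mul' (f g : MvPowerSeries (Fin 2) S) :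
    coeff 0 (f * g) = coeff 0 f * coeff 0 g := by
  rw [coeff_zero_eq_constantCoeff_apply, map_mul]; rfl

lemma e10_ne_zero : e10 ≠ 0 := by
  intro h; have := DFunLike.congr_fun h 0; simp [e10] at this

lemma e01_ne_zero : e01 ≠ 0 := by
  intro h; have := DFunLike.congr_fun h 1; simp [e01] at this

lemma e01_ne_e10 : e01 ≠ e10 := by
  intro h; have := DFunLike.congr_fun h 0; simp [e10, e01] at this

lemma coeff_e10_X0 : coeff e10 (X 0 : MvPowerSeries (Fin 2) S) = 1 := by
  classical
  rw [coeff_X, if_pos rfl]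

lemma coeff_e01_X0 : coeff e01 (X 0 : MvPowerSeries (Fin 2) S) = 0 := by
  classical
  rw [coeff_X, if_neg e01_ne_e10]

lemma coeff_e10_X1 : coeff e10 (X 1 : MvPowerSeries (Fin 2) S) = 0 := by
  classical
  rw [coeff_X, if_neg e01_ne_e10.symm]

lemma coeff_e01_X1 : coeff e01 (X 1 : MvPowerSeries (Fin 2) S) = 1 := by
  classical
  rw [coeff_X, if_pos rfl]

lemma coeff_e10_C (a : S) : coeff e10 (C a : MvPowerSeries (Fin 2) S) = 0 := by
  classical
  rw [coeff_C, if_neg e10_ne_zero]

lemma coeff_e01_C (a : S) : coeff e01 (C a : MvPowerSeries (Fin 2) S) = 0 := by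
  classical
  rw [coeff_C, if_neg e01_ne_zero]

lemma coeff_zero_C (a : S) : coeff 0 (C a : MvPowerSeries (Fin 2) S) = a := by
  classical
  rw [coeff_C, if_pos rfl]

/-- every power series in two variables is its constant term plus something in `(x, y)`. -/
lemma exists_decomp (f : MvPowerSeries (Fin 2) S) (f0 : S) (hf0 : f0 = coeff 0 f) :
    ∃ g h, f = C f0 + X 0 * g + X 1 * h := by
  classical
  have hmem := VanCycQ.mem_span_monomials (σ := Fin 2) (k := S) {e10, e01} (f - C f0) ?_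
  · rw [Finset.coe_insert, Finset.coe_singleton, Set.image_pair, Ideal.mem_span_pair] at hmem
    obtain ⟨g, h, hgh⟩ := hmem
    refine ⟨g, h, ?_⟩
    rw [X_def, X_def]
    linear_combination -hgh
  · intro e he
    have hne : e ≠ 0 := by
      rintro rfl
      apply he
      rw [map_sub, coeff_zero_C, hf0, sub_self]
    obtain ⟨i, hi⟩ := DFunLike.ne_iff.1 hne
    have hi' : 1 ≤ e i := Nat.one_le_iff_ne_zero.2 (by simpa using hi)
    fin_cases i
    · refine ⟨e10, by simp, ?_⟩
      intro j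
      rw [Finsupp.single_apply]
      split_ifs with hj
      · subst hj; exact hi'
      · exact Nat.zero_le _
    · refine ⟨e01, by simp, ?_⟩
      intro j
      rw [Finsupp.single_apply]
      split_ifs with hj
      · subst hj; exact hi'
      · exact Nat.zero_le _

variable [IsLocalRing S]

lemma isUnit_mk_iff (c : S) (hc : c ∈ maximalIdeal S) (f : MvPowerSeries (Fin 2) S) :
    IsUnit (Ideal.Quotient.mk (Ideal.span {gg c}) f) ↔ IsUnit (constantCoeff f) := by
  constructor
  · intro hu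
    obtain ⟨w', hw⟩ := isUnit_iff_exists_inv.1 hu
    obtain ⟨w, rfl⟩ := Ideal.Quotient.mk_surjective w'
    have hmem : f * w - 1 ∈ Ideal.span {gg c} := by
      rw [← Ideal.Quotient.eq_zero_iff_mem, map_sub, map_mul, hw, map_one, sub_self]
    have h0 := coeff_mem_of_mem c 0 not_le_zero hmem
    have hle : Ideal.span {c} ≤ maximalIdeal S := (Ideal.span_singleton_le_iff_mem _).2 hc
    have h1 := hle h0
    rw [map_sub, coeff_zero_mul'] at h1
    by_contra hnu
    have hfm : coeff 0 f ∈ maximalIdeal S := (mem_maximalIdeal _).2 hnu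
    have h2 : (1 : S) ∈ maximalIdeal S := by
      have h3 := (maximalIdeal S).sub_mem ((maximalIdeal S).mul_mem_right (coeff 0 w) hfm) h1
      have h4 : coeff 0 f * coeff 0 w - (coeff 0 f * coeff 0 w - coeff 0 (1 : MvPowerSeries (Fin 2) S))
          = 1 := by
        rw [sub_sub_cancel]; exact coeff_zero_one
      rwa [h4] at h3
    exact (Ideal.ne_top_iff_one _).1 (maximalIdeal.isMaximal S).ne_top h2
  · intro h
    exact (isUnit_iff_constantCoeff.2 h).map _

/-- The core computation. -/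
theorem core (a b : S) (hb : b ∈ maximalIdeal S)
    (Xt Yt : MvPowerSeries (Fin 2) S)
    (h1 : Xt * Yt - C a ∈ Ideal.span {gg b})
    (hX : coeff 0 Xt ∈ maximalIdeal S) (hY : coeff 0 Yt ∈ maximalIdeal S)
    (α β μ : MvPowerSeries (Fin 2) S)
    (hμ : ∀ d, coeff d μ ∈ maximalIdeal S)
    (h3 : X 0 - (α * Xt + β * Yt + μ) ∈ Ideal.span {gg b})
    (γ δ ν : MvPowerSeries (Fin 2) S)
    (hν : ∀ d, coeff d ν ∈ maximalIdeal S)
    (h4 : X 1 - (γ * Xt + δ * Yt + ν) ∈ Ideal.span {gg b}) :
    a ∈ Ideal.span {b} := by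
  have hle : Ideal.span {b} ≤ maximalIdeal S := (Ideal.span_singleton_le_iff_mem _).2 hb
  have E0 := coeff_mem_of_mem b 0 not_le_zero h1
  have E1 := coeff_mem_of_mem b e10 not_le_e10 h1
  have E2 := coeff_mem_of_mem b e01 not_le_e01 h1
  have M1 := hle (coeff_mem_of_mem b e10 not_le_e10 h3)
  have M2 := hle (coeff_mem_of_mem b e01 not_le_e01 h3)
  have M3 := hle (coeff_mem_of_mem b e10 not_le_e10 h4)
  have M4 := hle (coeff_mem_of_mem b e01 not_le_e01 h4)
  rw [map_sub, coeff_zero_mul', coeff_zero_C] at E0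
  rw [map_sub, coeff_e10_mul, coeff_e10_C, sub_zero] at E1
  rw [map_sub, coeff_e01_mul, coeff_e01_C, sub_zero] at E2
  rw [map_sub, map_add, map_add, coeff_e10_mul, coeff_e10_mul, coeff_e10_X0] at M1
  rw [map_sub, map_add, map_add, coeff_e01_mul, coeff_e01_mul, coeff_e01_X0] at M2
  rw [map_sub, map_add, map_add, coeff_e10_mul, coeff_e10_mul, coeff_e10_X1] at M3
  rw [map_sub, map_add, map_add, coeff_e01_mul, coeff_e01_mul, coeff_e01_X1] at M4
  rw [← residue_eq_zero_iff] at M1 M2 M3 M4 hX hY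
  have hμ1 := (residue_eq_zero_iff _).2 (hμ e10)
  have hμ2 := (residue_eq_zero_iff _).2 (hμ e01)
  have hν1 := (residue_eq_zero_iff _).2 (hν e10)
  have hν2 := (residue_eq_zero_iff _).2 (hν e01)
  simp only [map_sub, map_add, map_mul, map_one, map_zero, hX, hY, hμ1, hμ2, hν1, hν2,
    mul_zero, zero_mul, add_zero, zero_add] at M1 M2 M3 M4
  -- determinant is a unit
  have hD : IsUnit (coeff e10 Xt * coeff e01 Yt - coeff e10 Yt * coeff e01 Xt) := by
    have hprod : residue S ((coeff 0 α * coeff 0 δ - coeff 0 β * coeff 0 γ) *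
        (coeff e10 Xt * coeff e01 Yt - coeff e10 Yt * coeff e01 Xt)) ≠ 0 := by
      have : residue S ((coeff 0 α * coeff 0 δ - coeff 0 β * coeff 0 γ) *
        (coeff e10 Xt * coeff e01 Yt - coeff e10 Yt * coeff e01 Xt)) = 1 := by
        simp only [map_sub, map_mul]
        linear_combination
          (-(residue S (coeff 0 γ) * residue S (coeff e01 Xt) + residue S (coeff 0 δ) * residue S (coeff e01 Yt))) * M1
          + (residue S (coeff 0 γ) * residue S (coeff e10 Xt) + residue S (coeff 0 δ) * residue S (coeff e10 Yt)) * M2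
          + 0 * M3 - M4
      rw [this]; exact one_ne_zero
    exact isUnit_of_mul_isUnit_right ((residue_ne_zero_iff_isUnit _).1 hprod)
  -- pass to the quotient by b
  have F0 := Ideal.Quotient.eq_zero_iff_mem.2 E0
  have F1 := Ideal.Quotient.eq_zero_iff_mem.2 E1
  have F2 := Ideal.Quotient.eq_zero_iff_mem.2 E2
  simp only [map_sub, map_add, map_mul] at F0 F1 F2
  have hD' := hD.map (Ideal.Quotient.mk (Ideal.span {b}))
  simp only [map_sub, map_mul] at hD'
  have hy0 : Ideal.Quotient.mk (Ideal.span {b}) (coeff 0 Yt) = 0 := by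
    rw [← hD'.mul_right_eq_zero]
    linear_combination (Ideal.Quotient.mk (Ideal.span {b}) (coeff e01 Yt)) * F1
      - (Ideal.Quotient.mk (Ideal.span {b}) (coeff e10 Yt)) * F2
  rw [← Ideal.Quotient.eq_zero_iff_mem]
  linear_combination (Ideal.Quotient.mk (Ideal.span {b}) (coeff 0 Xt)) * hy0 - F0

end core


section completion

variable (R : Type u) [CommRing R] [IsLocalRing R] [IsNoetherianRing R]

/-- descent of principal-ideal membership from the completion. -/
theorem descent (a b : R)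
    (h : algebraMap R (AdicCompletion (maximalIdeal R) R) a ∈
      Ideal.span {algebraMap R (AdicCompletion (maximalIdeal R) R) b}) :
    a ∈ Ideal.span {b} := by
  obtain ⟨c, hc⟩ := Ideal.mem_span_singleton'.1 h
  rw [← Ideal.Quotient.eq_zero_iff_mem]
  haveI : IsHausdorff (maximalIdeal R) (R ⧸ Ideal.span {b}) := inferInstance
  apply IsHausdorff.haus' (I := maximalIdeal R)
  intro n
  obtain ⟨cn, hcn⟩ := Ideal.Quotient.mk_surjective (AdicCompletion.evalₐ (maximalIdeal R) n c)
  have h2 : Ideal.Quotient.mk ((maximalIdeal R) ^ n) (cn * b) =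
      Ideal.Quotient.mk ((maximalIdeal R) ^ n) a := by
    have e1 := (AdicCompletion.evalₐ (maximalIdeal R) n).commutes a
    have e2 := (AdicCompletion.evalₐ (maximalIdeal R) n).commutes b
    rw [Ideal.Quotient.algebraMap_eq] at e1 e2
    rw [map_mul, hcn, ← e1, ← e2, ← map_mul, hc]
  have h3 : a - cn * b ∈ (maximalIdeal R) ^ n := by
    rw [← Ideal.Quotient.eq_zero_iff_mem, map_sub, h2, sub_self]
  rw [SModEq.zero]
  have h4 : Ideal.Quotient.mk (Ideal.span {b}) a
      = (a - cn * b) • (1 : R ⧸ Ideal.span {b}) := by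
    rw [Algebra.smul_def, mul_one, Ideal.Quotient.algebraMap_eq, map_sub, map_mul]
    have : Ideal.Quotient.mk (Ideal.span {b}) b = 0 :=
      Ideal.Quotient.eq_zero_iff_mem.2 (Ideal.mem_span_singleton_self b)
    rw [this, mul_zero, sub_zero]
  rw [h4]
  exact Submodule.smul_mem_smul h3 trivial

lemma algebraMap_mem (a : R) (ha : a ∈ maximalIdeal R) :
    algebraMap R (Curv2.cpl R) a ∈ maximalIdeal (Curv2.cpl R) := by
  rw [AdicCompletion.maximalIdeal_eq_map]
  exact Ideal.mem_map_of_mem _ ha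

variable {R}

/-- the key statement over the completion. -/
theorem key (a b : R) (ha : a ∈ maximalIdeal R) (hb : b ∈ maximalIdeal R)
    (ψ : DualGr.nodeRing R a ≃+* DualGr.nodeRing R b)
    (hψ : ∀ r : R, ψ (Ideal.Quotient.mk _ (C (algebraMap R (Curv2.cpl R) r))) =
       Ideal.Quotient.mk _ (C (algebraMap R (Curv2.cpl R) r))) :
    algebraMap R (Curv2.cpl R) a ∈ Ideal.span {algebraMap R (Curv2.cpl R) b} := by
  have ha' := algebraMap_mem R a ha
  have hb' := algebraMap_mem R b hb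
  obtain ⟨mka, hmka⟩ : ∃ m : MvPowerSeries (Fin 2) (Curv2.cpl R) →+* DualGr.nodeRing R a,
    m = Ideal.Quotient.mk _ := ⟨_, rfl⟩
  obtain ⟨mkb, hmkb⟩ : ∃ m : MvPowerSeries (Fin 2) (Curv2.cpl R) →+* DualGr.nodeRing R b,
    m = Ideal.Quotient.mk _ := ⟨_, rfl⟩
  have surja : Function.Surjective mka := by rw [hmka]; exact Ideal.Quotient.mk_surjective
  have surjb : Function.Surjective mkb := by rw [hmkb]; exact Ideal.Quotient.mk_surjective
  have zeroa : ∀ f, mka f = 0 ↔ f ∈ Ideal.span {gg (algebraMap R (Curv2.cpl R) a)} := by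
    intro f; rw [hmka]; exact Ideal.Quotient.eq_zero_iff_mem
  have zerob : ∀ f, mkb f = 0 ↔ f ∈ Ideal.span {gg (algebraMap R (Curv2.cpl R) b)} := by
    intro f; rw [hmkb]; exact Ideal.Quotient.eq_zero_iff_mem
  have unita : ∀ f, IsUnit (mka f) ↔ IsUnit (constantCoeff f) := by
    intro f; rw [hmka]; exact isUnit_mk_iff _ ha' f
  have unitb : ∀ f, IsUnit (mkb f) ↔ IsUnit (constantCoeff f) := by
    intro f; rw [hmkb]; exact isUnit_mk_iff _ hb' f
  have hψ' : ∀ r : R, ψ (mka (C (algebraMap R (Curv2.cpl R) r))) =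
      mkb (C (algebraMap R (Curv2.cpl R) r)) := by
    intro r; rw [hmka, hmkb]; exact hψ r
  -- transfer of "constant coefficient in the maximal ideal"
  have transfer : ∀ f g, ψ (mka f) = mkb g →
      (coeff 0 f ∈ maximalIdeal (Curv2.cpl R) ↔ coeff 0 g ∈ maximalIdeal (Curv2.cpl R)) := by
    intro f g hfg
    rw [mem_maximalIdeal, mem_maximalIdeal, mem_nonunits_iff, mem_nonunits_iff,
      coeff_zero_eq_constantCoeff_apply, coeff_zero_eq_constantCoeff_apply, ← unita, ← unitb, ← hfg,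
      isUnit_map_iff ψ]
  -- lifting of constants in the maximal ideal
  have liftμ : ∀ c ∈ maximalIdeal (Curv2.cpl R), ∃ μ : MvPowerSeries (Fin 2) (Curv2.cpl R),
      (∀ d, coeff d μ ∈ maximalIdeal (Curv2.cpl R)) ∧ mkb μ = ψ (mka (C c)) := by
    intro c hc
    rw [AdicCompletion.maximalIdeal_eq_map] at hc
    have hcomp : ((ψ : DualGr.nodeRing R a →+* DualGr.nodeRing R b).comp (mka.comp C)).comp
        (algebraMap R (Curv2.cpl R)) = mkb.comp (C.comp (algebraMap R (Curv2.cpl R))) := by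
      ext r
      exact hψ' r
    have hmem : ((ψ : DualGr.nodeRing R a →+* DualGr.nodeRing R b).comp (mka.comp C)) c ∈
        Ideal.map mkb (Ideal.map (C.comp (algebraMap R (Curv2.cpl R))) (maximalIdeal R)) := by
      rw [Ideal.map_map, ← hcomp, ← Ideal.map_map]
      exact Ideal.mem_map_of_mem _ hc
    obtain ⟨μ, hμ, hμe⟩ := (Ideal.mem_map_iff_of_surjective mkb surjb).1 hmem
    refine ⟨μ, ?_, hμe⟩
    have hle : Ideal.map (C.comp (algebraMap R (Curv2.cpl R))) (maximalIdeal R) ≤
        RingHom.ker (MvPowerSeries.map (σ := Fin 2) (residue (Curv2.cpl R))) := by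
      rw [Ideal.map_le_iff_le_comap]
      intro r hr
      rw [Ideal.mem_comap, RingHom.mem_ker, RingHom.comp_apply, MvPowerSeries.map_C,
        (residue_eq_zero_iff _).2 (algebraMap_mem R r hr), map_zero]
    intro d
    have h0 := hle hμ
    rw [RingHom.mem_ker] at h0
    have h1 := congrArg (coeff d) h0
    rw [coeff_map, map_zero] at h1
    exact (residue_eq_zero_iff _).1 h1
  -- generation statement
  have gen : ∀ (Xt Yt : MvPowerSeries (Fin 2) (Curv2.cpl R)) (i : Fin 2),
      mkb Xt = ψ (mka (X 0)) → mkb Yt = ψ (mka (X 1)) →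
      ∃ α β μ : MvPowerSeries (Fin 2) (Curv2.cpl R),
        (∀ d, coeff d μ ∈ maximalIdeal (Curv2.cpl R)) ∧
        X i - (α * Xt + β * Yt + μ) ∈ Ideal.span {gg (algebraMap R (Curv2.cpl R) b)} := by
    intro Xt Yt i hXt hYt
    obtain ⟨Ut, hUt⟩ := surja (ψ.symm (mkb (X i)))
    have hUt' : ψ (mka Ut) = mkb (X i) := by rw [hUt, RingEquiv.apply_symm_apply]
    obtain ⟨u0, hu0⟩ : ∃ u0, u0 = coeff 0 Ut := ⟨_, rfl⟩
    have hu0m : u0 ∈ maximalIdeal (Curv2.cpl R) := by
      rw [hu0, transfer Ut (X i) hUt', coeff_zero_X]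
      exact zero_mem _
    obtain ⟨g, h, hgh⟩ := exists_decomp Ut u0 hu0
    obtain ⟨μ, hμ, hμe⟩ := liftμ u0 hu0m
    obtain ⟨α, hα⟩ := surjb (ψ (mka g))
    obtain ⟨β, hβ⟩ := surjb (ψ (mka h))
    refine ⟨α, β, μ, hμ, ?_⟩
    rw [← zerob, map_sub, map_add, map_add, map_mul, map_mul, hα, hβ, hXt, hYt, hμe, ← hUt', hgh]
    simp only [map_add, map_mul]
    ring
  obtain ⟨Xt, hXt⟩ := surjb (ψ (mka (X 0)))
  obtain ⟨Yt, hYt⟩ := surjb (ψ (mka (X 1)))
  have h1 : Xt * Yt - C (algebraMap R (Curv2.cpl R) a) ∈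
      Ideal.span {gg (algebraMap R (Curv2.cpl R) b)} := by
    rw [← zerob, map_sub, map_mul, hXt, hYt, ← hψ', ← map_mul, ← map_sub, ← map_mul, ← map_sub,
      (zeroa _).2 (Ideal.mem_span_singleton_self _), map_zero]
  have hX : coeff 0 Xt ∈ maximalIdeal (Curv2.cpl R) := by
    rw [← transfer (X 0) Xt hXt.symm, coeff_zero_X]; exact zero_mem _
  have hY : coeff 0 Yt ∈ maximalIdeal (Curv2.cpl R) := by
    rw [← transfer (X 1) Yt hYt.symm, coeff_zero_X]; exact zero_mem _
  obtain ⟨α, β, μ, hμ, h3⟩ := gen Xt Yt 0 hXt hYt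
  obtain ⟨γ, δ, ν, hν, h4⟩ := gen Xt Yt 1 hXt hYt
  exact core _ _ hb' Xt Yt h1 hX hY α β μ hμ h3 γ δ ν hν h4

end completion

end Groth.Agent.Helper8.ThickNode
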