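import Mathlib
import Groth.Agent.Helper7.Eis1

/-!
# TmB: the fraction field of `A[z]/(z^e - π)` is `K[z]/(z^e - π)`
-/

set_option autoImplicit false
set_option linter.unusedSectionVars false
universe u

namespace Groth.Agent.Helper8.Tm

open Polynomial IsLocalRing
open Groth.Agent.Helper7

section Kp

variable (A K : Type u) [CommRing A] [IsDomain A] [IsDiscreteValuationRing A] [Field K]
  [Algebra A K] [IsFractionRing A K] (π : A) (hπ : Irreducible π) (e : ℕ) (he : 0 < e)

/-- the Eisenstein polynomial over the fraction field -/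
noncomputable abbrev fK : K[X] := X ^ e - C (algebraMap A K π)

lemma map_f : (Eis.f A π e).map (algebraMap A K) = fK A K π e := by
  simp only [Eis.f, fK, Polynomial.map_sub, Polynomial.map_pow, map_X, map_C]

include hπ he in
theorem fK_irreducible : Irreducible (fK A K π e) := by
  rw [← map_f]
  exact ((Eis.f_monic A π e he).irreducible_iff_irreducible_map_fraction_map).1
    (Eis.f_irreducible A π hπ e he)

include he in
lemma fK_monic : (fK A K π e).Monic := monic_X_pow_sub_C _ he.ne'

omit [IsFractionRing A K] in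
include hπ he in
/-- a ring homomorphism out of `A[z]/(z^e - π)` which is injective on `A` is injective -/
theorem injective_of_comp_of {S : Type*} [CommRing S]
    (φ : AdjoinRoot (Eis.f A π e) →+* S)
    (hφ : Function.Injective (φ.comp (AdjoinRoot.of (Eis.f A π e)))) : Function.Injective φ := by
  haveI := Eis.isDomain A π hπ e he
  haveI := Eis.finite A π e he
  haveI : Algebra.IsIntegral A (AdjoinRoot (Eis.f A π e)) := Algebra.IsIntegral.of_finite A _
  rw [RingHom.injective_iff_ker_eq_bot]
  apply Ideal.eq_bot_of_comap_eq_bot (R := A)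
  rw [eq_bot_iff]
  intro a ha
  rw [Ideal.mem_comap, RingHom.mem_ker] at ha
  rw [Ideal.mem_bot]
  apply hφ
  rw [RingHom.comp_apply, map_zero]
  exact ha

/-- the canonical map to `K[z]/(z^e - π)` -/
noncomputable def toKp : AdjoinRoot (Eis.f A π e) →+* AdjoinRoot (fK A K π e) :=
  AdjoinRoot.map (algebraMap A K) _ _ (dvd_of_eq (map_f A K π e).symm)

lemma toKp_of (a : A) :
    toKp A K π e (AdjoinRoot.of _ a) = AdjoinRoot.of _ (algebraMap A K a) :=
  AdjoinRoot.map_of ..

lemma toKp_root : toKp A K π e (AdjoinRoot.root _) = AdjoinRoot.root _ :=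
  AdjoinRoot.map_root ..

lemma toKp_mk (q : A[X]) :
    toKp A K π e (AdjoinRoot.mk _ q) = AdjoinRoot.mk _ (q.map (algebraMap A K)) := by
  induction q using Polynomial.induction_on with
  | C a => rw [AdjoinRoot.mk_C, toKp_of, Polynomial.map_C, AdjoinRoot.mk_C]
  | add p q hp hq => rw [map_add, map_add, hp, hq, Polynomial.map_add, map_add]
  | monomial n a _ =>
    rw [map_mul, map_pow, AdjoinRoot.mk_C, AdjoinRoot.mk_X, map_mul, map_pow, toKp_of, toKp_root,
      Polynomial.map_mul, Polynomial.map_pow, Polynomial.map_C, Polynomial.map_X, map_mul,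
      map_pow, AdjoinRoot.mk_C, AdjoinRoot.mk_X]

include hπ he in
theorem toKp_injective [Fact (Irreducible (fK A K π e))] :
    Function.Injective (toKp A K π e) := by
  apply injective_of_comp_of A π hπ e he
  intro a b hab
  rw [RingHom.comp_apply, RingHom.comp_apply, toKp_of, toKp_of] at hab
  exact IsFractionRing.injective A K (AdjoinRoot.coe_injective' hab)

include hπ he in
theorem isFractionRing_Kp [Fact (Irreducible (fK A K π e))] :
    @IsFractionRing (AdjoinRoot (Eis.f A π e)) _ (AdjoinRoot (fK A K π e)) _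
      (toKp A K π e).toAlgebra := by
  letI : Algebra (AdjoinRoot (Eis.f A π e)) (AdjoinRoot (fK A K π e)) := (toKp A K π e).toAlgebra
  have hinj : Function.Injective (toKp A K π e) := toKp_injective A K π hπ e he
  haveI : FaithfulSMul (AdjoinRoot (Eis.f A π e)) (AdjoinRoot (fK A K π e)) :=
    (faithfulSMul_iff_algebraMap_injective _ _).2 hinj
  refine IsFractionRing.of_field _ _ ?_
  intro z
  obtain ⟨p, rfl⟩ := AdjoinRoot.mk_surjective z
  obtain ⟨b, hb⟩ := IsLocalization.integerNormalization_map_to_map (nonZeroDivisors A) p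
  refine ⟨AdjoinRoot.mk _ (IsLocalization.integerNormalization (nonZeroDivisors A) p),
    AdjoinRoot.of _ (b : A), ?_⟩
  show _ = toKp A K π e _ / toKp A K π e _
  have hb0 : AdjoinRoot.of (fK A K π e) (algebraMap A K (b : A)) ≠ 0 := by
    intro h0
    have h1 : algebraMap A K (b : A) = 0 :=
      AdjoinRoot.coe_injective' (f := fK A K π e) (h0.trans (map_zero _).symm)
    have h2 : (b : A) = 0 := IsFractionRing.injective A K (h1.trans (map_zero _).symm)
    exact nonZeroDivisors.ne_zero b.2 h2
  rw [toKp_mk, hb, toKp_of, eq_div_iff hb0, ← AdjoinRoot.smul_mk, Algebra.smul_def,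
    AdjoinRoot.algebraMap_eq', mul_comm]
  rfl

end Kp

end Groth.Agent.Helper8.Tm
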