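import Mathlib
import Groth.Prelude.Def_EtRam
import Groth.Agent.Helper7.Eis2
import Groth.Agent.Helper7.TotRamF
import Groth.Agent.Helper7.DomValC
import Groth.Agent.Helper8.EpH
import Groth.Agent.Helper8.TmA
import Groth.Agent.Helper8.TmB

/-!
# TmC: after adjoining a root of the uniformizer of suitable order, a tamely ramified extension
becomes unramified (local statement)
-/

set_option autoImplicit false
set_option linter.unusedSectionVars false
universe u

namespace Groth.Agent.Helper8.Tm

open Polynomial IsLocalRing
open Groth.Agent.Helper7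

section Bounds

variable {A K L : Type u} [CommRing A] [IsDomain A] [IsDiscreteValuationRing A] [Field K]
  [Algebra A K] [IsFractionRing A K] [Field L] [Algebra K L] [Algebra A L] [IsScalarTower A K L]
  [FiniteDimensional K L] [Algebra.IsSeparable K L]

/-- the ramification index at a dominating valuation ring is positive and at most the degree -/
theorem ramIdx_bounds (V : ValuationSubring L) (hV : EtRam.Dominates A (algebraMap A L) V) :
    letI : Algebra A V := (RingHom.codRestrict (algebraMap A L) V hV.1).toAlgebra
    0 < Ideal.ramificationIdx' (maximalIdeal A) (maximalIdeal V) ∧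
      Ideal.ramificationIdx' (maximalIdeal A) (maximalIdeal V) ≤ Module.finrank K L := by
  letI algAV : Algebra A V := (RingHom.codRestrict (algebraMap A L) V hV.1).toAlgebra
  haveI : IsLocalHom (algebraMap A V) := DomVal.isLocalHom_codRestrict _ V hV
  haveI : IsDiscreteValuationRing V := DomVal.isDVR_of_dominates (K := K) V hV
  obtain ⟨π, hπ⟩ := IsDiscreteValuationRing.exists_irreducible A
  obtain ⟨ϖ, hϖ⟩ := IsDiscreteValuationRing.exists_irreducible V
  have hinjL : Function.Injective (algebraMap A L) := by
    rw [IsScalarTower.algebraMap_eq A K L]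
    exact (algebraMap K L).injective.comp (IsFractionRing.injective A K)
  have hinj : Function.Injective (algebraMap A V) := by
    intro x y hxy
    exact hinjL (congrArg Subtype.val hxy)
  obtain ⟨h0, u, hu⟩ := Ep.ramIdx_eq hinj hπ hϖ
  refine ⟨Nat.pos_of_ne_zero h0, ?_⟩
  refine TotRam.ramification_le_finrank (L := K) V hV hϖ π hπ.maximalIdeal_eq ?_
  have h1 : RingHom.codRestrict (algebraMap A L) V hV.1 π = algebraMap A V π := rfl
  rw [h1, hu]
  exact associated_unit_mul_left _ _ u.isUnit

end Bounds

section Dom

variable {A : Type u} [CommRing A] [IsDomain A] [IsDiscreteValuationRing A]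
  (π : A) (hπ : Irreducible π) (e : ℕ) (he : 0 < e)
  [IsDomain (AdjoinRoot (Eis.f A π e))] [IsDiscreteValuationRing (AdjoinRoot (Eis.f A π e))]
  {M : Type u} [Field M]

include hπ he in
theorem of_mem_maximalIdeal (a : A) (ha : a ∈ maximalIdeal A) :
    AdjoinRoot.of (Eis.f A π e) a ∈ maximalIdeal (AdjoinRoot (Eis.f A π e)) := by
  rw [Eis.maximalIdeal_eq A π hπ e he]
  apply Eis.of_mem_span_x A π e he
  rwa [← hπ.maximalIdeal_eq]

include hπ he in
/-- a valuation ring dominating `A` (along a map from `A[z]/(z^e - π)`) dominates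
`A[z]/(z^e - π)` -/
theorem dominates_of_root (g : AdjoinRoot (Eis.f A π e) →+* M) (W : ValuationSubring M)
    (hW : EtRam.Dominates A (g.comp (AdjoinRoot.of (Eis.f A π e))) W) :
    EtRam.Dominates (AdjoinRoot (Eis.f A π e)) g W := by
  have hπW : W.valuation (g (AdjoinRoot.of _ π)) < 1 :=
    hW.2 π (by rw [hπ.maximalIdeal_eq]; exact Ideal.mem_span_singleton_self π)
  have hξ : W.valuation (g (Eis.x A π e)) < 1 := by
    by_contra h
    push Not at h
    have h2 : 1 ≤ W.valuation (g (Eis.x A π e)) ^ e := one_le_pow₀ h
    rw [← map_pow, ← map_pow, Eis.x_pow] at h2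
    exact absurd hπW (not_lt.2 h2)
  have hξmem : g (Eis.x A π e) ∈ W := (W.valuation_le_one_iff _).1 hξ.le
  have hmem : ∀ b : AdjoinRoot (Eis.f A π e), g b ∈ W := by
    intro b
    induction b using AdjoinRoot.induction_on with
    | ih p =>
      induction p using Polynomial.induction_on with
      | C a =>
        rw [AdjoinRoot.mk_C]
        exact hW.1 a
      | add p q hp hq =>
        rw [map_add, map_add]
        exact add_mem hp hq
      | monomial k a _ =>
        rw [map_mul, map_pow, AdjoinRoot.mk_C, AdjoinRoot.mk_X, map_mul, map_pow]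
        exact mul_mem (hW.1 a) (pow_mem hξmem _)
  refine ⟨hmem, fun b hb => ?_⟩
  rw [Eis.maximalIdeal_eq A π hπ e he, Ideal.mem_span_singleton] at hb
  obtain ⟨c, rfl⟩ := hb
  rw [map_mul, map_mul]
  have h3 : W.valuation (g c) ≤ 1 := (W.valuation_le_one_iff _).2 (hmem c)
  calc W.valuation (g (Eis.x A π e)) * W.valuation (g c)
      ≤ W.valuation (g (Eis.x A π e)) * 1 := mul_le_mul_right h3 _
    _ = W.valuation (g (Eis.x A π e)) := mul_one _
    _ < 1 := hξ

end Dom

section Local

variable {A K L : Type u} [CommRing A] [IsDomain A] [IsDiscreteValuationRing A] [Field K]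
  [Algebra A K] [IsFractionRing A K] [Field L] [Algebra K L] [Algebra A L] [IsScalarTower A K L]
  [FiniteDimensional K L] [Algebra.IsSeparable K L]
  (π : A) (hπ : Irreducible π) (e : ℕ) (he : 0 < e)
  [IsDomain (AdjoinRoot (Eis.f A π e))] [IsDiscreteValuationRing (AdjoinRoot (Eis.f A π e))]
  (K₁ : Type u) [Field K₁] [Algebra (AdjoinRoot (Eis.f A π e)) K₁]
  [IsFractionRing (AdjoinRoot (Eis.f A π e)) K₁] [Algebra K K₁] [FiniteDimensional K K₁]
  (M : Type u) [Field M] [Algebra K M] [Algebra L M] [Algebra K₁ M] [IsScalarTower K L M]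
  [IsScalarTower K K₁ M]

local notation "A'" => AdjoinRoot (Eis.f A π e)

include hπ he in
theorem local_unramified
    (hcompat : (algebraMap A' K₁).comp (AdjoinRoot.of (Eis.f A π e)) =
      (algebraMap K K₁).comp (algebraMap A K))
    (hadj : Algebra.adjoin L (Set.range (algebraMap K₁ M)) = ⊤)
    (htame : EtRam.IsTamelyRamified A (algebraMap A L))
    (hdiv : ∀ j : ℕ, 0 < j → j ≤ Module.finrank K L → (j : ResidueField A) ≠ 0 → j ∣ e) :
    EtRam.IsUnramifiedExt A' ((algebraMap K₁ M).comp (algebraMap A' K₁)) := by
  classical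
  intro W hW
  -- basic facts
  have hgA'inj : Function.Injective (algebraMap A' K₁) := IsFractionRing.injective A' K₁
  have hxmax : maximalIdeal A' = Ideal.span {Eis.x A π e} := Eis.maximalIdeal_eq A π hπ e he
  have gcomp : ∀ a : A, algebraMap A' K₁ (AdjoinRoot.of _ a) =
      algebraMap K K₁ (algebraMap A K a) := fun a => RingHom.congr_fun hcompat a
  have hofmem : ∀ a ∈ maximalIdeal A, AdjoinRoot.of (Eis.f A π e) a ∈ maximalIdeal A' :=
    of_mem_maximalIdeal π hπ e he
  -- the valuation ring below in `K₁`
  have hW₁ : EtRam.Dominates A' (algebraMap A' K₁) (W.comap (algebraMap K₁ M)) :=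
    DomVal.dominates_comap _ _ W hW
  have hV1 : EtRam.Dominates A (Eis.g A π e K₁) (W.comap (algebraMap K₁ M)) :=
    ⟨fun a => hW₁.1 (algebraMap A A' a), fun a ha => hW₁.2 (algebraMap A A' a) (hofmem a ha)⟩
  obtain ⟨ψ, hψdef⟩ : ∃ ψ : A' →+* (W.comap (algebraMap K₁ M)),
      ψ = RingHom.codRestrict (algebraMap A' K₁) (W.comap (algebraMap K₁ M)) hW₁.1 := ⟨_, rfl⟩
  have hψcoe : ∀ b : A', ((ψ b : W.comap (algebraMap K₁ M)) : K₁) = algebraMap A' K₁ b := by
    intro b; rw [hψdef]; rfl
  have hψsurj : Function.Surjective ψ := by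
    rintro ⟨z, hz⟩
    obtain ⟨b, hb⟩ := Eis.le_range A π hπ e he K₁ _ hV1 z hz
    exact ⟨b, Subtype.ext ((hψcoe b).trans hb)⟩
  haveI hψloc : IsLocalHom ψ := by
    rw [hψdef]
    exact DomVal.isLocalHom_codRestrict _ _ hW₁
  have hψmax : (maximalIdeal A').map ψ = maximalIdeal (W.comap (algebraMap K₁ M)) := by
    have hc : (maximalIdeal (W.comap (algebraMap K₁ M))).comap ψ = maximalIdeal A' :=
      ((local_hom_TFAE ψ).out 0 4).1 hψloc
    rw [← hc, Ideal.map_comap_of_surjective ψ hψsurj]
  -- the valuation ring below in `L`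
  have hcompM : ∀ a : A, algebraMap L M (algebraMap A L a) =
      algebraMap K₁ M (algebraMap A' K₁ (AdjoinRoot.of _ a)) := by
    intro a
    rw [gcomp, IsScalarTower.algebraMap_apply A K L, ← IsScalarTower.algebraMap_apply K L M,
      ← IsScalarTower.algebraMap_apply K K₁ M]
  have hV : EtRam.Dominates A (algebraMap A L) (W.comap (algebraMap L M)) := by
    refine ⟨fun a => ?_, fun a ha => ?_⟩
    · show algebraMap L M (algebraMap A L a) ∈ W
      rw [hcompM]
      exact hW.1 (AdjoinRoot.of _ a)
    · rw [DomVal.valuation_comap_lt_one_iff, hcompM]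
      exact hW.2 (AdjoinRoot.of _ a) (hofmem a ha)
  letI algAV : Algebra A (W.comap (algebraMap L M)) :=
    (RingHom.codRestrict (algebraMap A L) (W.comap (algebraMap L M)) hV.1).toAlgebra
  haveI locAV : IsLocalHom (algebraMap A (W.comap (algebraMap L M))) :=
    DomVal.isLocalHom_codRestrict _ _ hV
  haveI dvrV : IsDiscreteValuationRing (W.comap (algebraMap L M)) :=
    DomVal.isDVR_of_dominates (K := K) _ hV
  haveI : IsScalarTower A (W.comap (algebraMap L M)) L := IsScalarTower.of_algebraMap_eq' rfl
  have hinjL : Function.Injective (algebraMap A L) := by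
    rw [IsScalarTower.algebraMap_eq A K L]
    exact (algebraMap K L).injective.comp (IsFractionRing.injective A K)
  have hinjAV : Function.Injective (algebraMap A (W.comap (algebraMap L M))) := by
    intro x y hxy
    exact hinjL (congrArg Subtype.val hxy)
  obtain ⟨hsep, hp⟩ := htame (W.comap (algebraMap L M)) hV
  have hbounds := ramIdx_bounds (K := K) (W.comap (algebraMap L M)) hV
  have heVκ : ((Ideal.ramificationIdx' (maximalIdeal A)
      (maximalIdeal (W.comap (algebraMap L M))) : ℕ) : ResidueField A) ≠ 0 := by
    intro h0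
    have hc : CharP (ResidueField A) (ringChar (ResidueField A)) := ringChar.charP _
    rw [CharP.cast_eq_zero_iff (ResidueField A) (ringChar (ResidueField A))] at h0
    rcases CharP.char_is_prime_or_zero (ResidueField A) (ringChar (ResidueField A)) with hpr | hz
    · exact hp _ hpr hc h0
    · rw [hz] at h0
      exact hbounds.1.ne' (Nat.eq_zero_of_zero_dvd h0)
  have hdvdV : Ideal.ramificationIdx' (maximalIdeal A)
      (maximalIdeal (W.comap (algebraMap L M))) ∣ e := hdiv _ hbounds.1 hbounds.2 heVκ
  have htame' : CharZero (ResidueField A) ∨ ∃ p : ℕ, p.Prime ∧ CharP (ResidueField A) p ∧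
      ¬ p ∣ Ideal.ramificationIdx' (maximalIdeal A) (maximalIdeal (W.comap (algebraMap L M))) ∧
      Algebra.IsGeometricallyReduced (ResidueField A)
        (ResidueField (W.comap (algebraMap L M))) := by
    rcases CharP.char_is_prime_or_zero (ResidueField A) (ringChar (ResidueField A)) with hpr | hz
    · right
      exact ⟨_, hpr, ringChar.charP _, hp _ hpr (ringChar.charP _),
        isGeometricallyReduced_of_isSeparable⟩
    · left
      haveI : CharP (ResidueField A) 0 := hz ▸ ringChar.charP _
      exact CharP.charP_to_charZero _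
  -- the ramification index of `A → W ∩ K₁`
  have hA : ∀ a : A, (algebraMap K K₁) (algebraMap A K a) ∈ W.comap (algebraMap K₁ M) := by
    intro a
    rw [← gcomp]
    exact hW₁.1 _
  letI algAW₁ : Algebra A (W.comap (algebraMap K₁ M)) :=
    (RingHom.codRestrict ((algebraMap K K₁).comp (algebraMap A K))
      (W.comap (algebraMap K₁ M)) hA).toAlgebra
  have hξmax : maximalIdeal (W.comap (algebraMap K₁ M)) = Ideal.span {ψ (Eis.x A π e)} := by
    rw [← hψmax, hxmax, Ideal.map_span, Set.image_singleton]
  have hidx : Ideal.ramificationIdx' (maximalIdeal A)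
      (maximalIdeal (W.comap (algebraMap K₁ M))) = e := by
    have hfac : algebraMap A (W.comap (algebraMap K₁ M)) =
        ψ.comp (AdjoinRoot.of (Eis.f A π e)) := by
      ext a
      rw [RingHom.comp_apply, hψcoe, gcomp]
      rfl
    have hmap : (maximalIdeal A).map (algebraMap A (W.comap (algebraMap K₁ M))) =
        (maximalIdeal (W.comap (algebraMap K₁ M))) ^ e := by
      rw [hfac, ← Ideal.map_map, hπ.maximalIdeal_eq, Ideal.map_span, Set.image_singleton,
        ← Eis.x_pow, ← Ideal.span_singleton_pow, ← hxmax, Ideal.map_pow, hψmax]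
    apply Ideal.ramificationIdx'_spec
    · rw [hmap]
    · rw [hmap]
      intro hle
      rw [hξmax, Ideal.span_singleton_pow, Ideal.span_singleton_pow,
        Ideal.span_singleton_le_span_singleton] at hle
      have hξ0 : ψ (Eis.x A π e) ≠ 0 := by
        intro h0
        have h1 : algebraMap A' K₁ (Eis.x A π e) = 0 := by
          rw [← hψcoe, h0]; rfl
        exact Eis.x_ne_zero A π hπ e he (hgA'inj (h1.trans (map_zero _).symm))
      have hξnu : ¬ IsUnit (ψ (Eis.x A π e)) := by
        intro hu
        have hxu : IsUnit (Eis.x A π e) := hψloc.map_nonunit _ hu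
        have hxm : Eis.x A π e ∈ maximalIdeal A' := by
          rw [hxmax]; exact Ideal.mem_span_singleton_self _
        exact (mem_maximalIdeal _).1 hxm hxu
      have h2 := (pow_dvd_pow_iff hξ0 hξnu).1 hle
      omega
  have hd : Ideal.ramificationIdx' (maximalIdeal A) (maximalIdeal (W.comap (algebraMap L M))) ∣
      Ideal.ramificationIdx' (maximalIdeal A) (maximalIdeal (W.comap (algebraMap K₁ M))) := by
    rw [hidx]
    exact hdvdV
  have hWB : EtRam.Dominates (W.comap (algebraMap L M))
      ((algebraMap L M).comp (algebraMap (W.comap (algebraMap L M)) L)) W :=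
    DomVal.dominates_over (algebraMap L M) W
  obtain ⟨hwu, hgr⟩ := Ep.main_abhyankar A (W.comap (algebraMap L M)) K L K₁ M hinjAV htame' hadj W
    hWB hA hd
  -- conversion
  letI algA'W : Algebra A' W :=
    (RingHom.codRestrict ((algebraMap K₁ M).comp (algebraMap A' K₁)) W hW.1).toAlgebra
  intro hloc
  constructor
  · unfold EtRam.IsWeaklyUnramified
    have hwu' : (maximalIdeal (W.comap (algebraMap K₁ M))).map
        (EtRam.inclOfComap W (algebraMap K₁ M)) = maximalIdeal W := hwu
    have hfac2 : algebraMap A' W = (EtRam.inclOfComap W (algebraMap K₁ M)).comp ψ := by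
      refine RingHom.ext fun b => Subtype.ext ?_
      rw [RingHom.comp_apply, EtRam.inclOfComap_apply_coe, hψcoe]
      rfl
    rw [hfac2, ← Ideal.map_map, hψmax, hwu']
  · letI alg1 : Algebra (ResidueField (W.comap (algebraMap K₁ M))) (ResidueField W) :=
      (ResidueField.map (EtRam.inclOfComap W (algebraMap K₁ M))).toAlgebra
    haveI hgr' : Algebra.IsGeometricallyReduced (ResidueField (W.comap (algebraMap K₁ M)))
      (ResidueField W) := hgr
    letI alg2 : Algebra (ResidueField A') (ResidueField (W.comap (algebraMap K₁ M))) :=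
      (ResidueField.map ψ).toAlgebra
    haveI tower : IsScalarTower (ResidueField A') (ResidueField (W.comap (algebraMap K₁ M)))
        (ResidueField W) := by
      refine IsScalarTower.of_algebraMap_eq fun y => ?_
      obtain ⟨b, rfl⟩ := residue_surjective y
      show residue W (algebraMap A' W b) =
        ResidueField.map (EtRam.inclOfComap W (algebraMap K₁ M)) (ResidueField.map ψ (residue A' b))
      rw [ResidueField.map_residue, ResidueField.map_residue]
      congr 1
      apply Subtype.ext
      rw [EtRam.inclOfComap_apply_coe, hψcoe]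
      rfl
    haveI sep2 : Algebra.IsSeparable (ResidueField A')
        (ResidueField (W.comap (algebraMap K₁ M))) := by
      constructor
      intro y
      obtain ⟨w, rfl⟩ := residue_surjective y
      obtain ⟨b, rfl⟩ := hψsurj w
      have h1 : residue (W.comap (algebraMap K₁ M)) (ψ b) =
          algebraMap (ResidueField A') (ResidueField (W.comap (algebraMap K₁ M)))
            (residue A' b) := (ResidueField.map_residue ψ b).symm
      rw [h1]
      exact isSeparable_algebraMap _
    -- algebraicity of the residue field extension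
    letI algA'M : Algebra A' M := ((algebraMap K₁ M).comp (algebraMap A' K₁)).toAlgebra
    haveI : IsScalarTower A' K₁ M := IsScalarTower.of_algebraMap_eq' rfl
    haveI : IsScalarTower A' W M := IsScalarTower.of_algebraMap_eq' rfl
    haveI : FiniteDimensional L M := TotRam.finite_of_adjoin (K := K) hadj
    haveI : FiniteDimensional K M := FiniteDimensional.trans K L M
    haveI : FiniteDimensional K₁ M := FiniteDimensional.right K K₁ M
    have hxm : Eis.x A π e ∈ maximalIdeal A' := by
      rw [hxmax]; exact Ideal.mem_span_singleton_self _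
    have hWtop : W ≠ ⊤ := by
      intro htop
      have hx0 : ((algebraMap K₁ M).comp (algebraMap A' K₁)) (Eis.x A π e) ≠ 0 := by
        intro h0
        have h1 : algebraMap A' K₁ (Eis.x A π e) = 0 :=
          (algebraMap K₁ M).injective (h0.trans (map_zero _).symm)
        exact Eis.x_ne_zero A π hπ e he (hgA'inj (h1.trans (map_zero _).symm))
      have hinv : (((algebraMap K₁ M).comp (algebraMap A' K₁)) (Eis.x A π e))⁻¹ ∈ W := by
        rw [htop]; exact ValuationSubring.mem_top _
      have h1 := (W.valuation_le_one_iff _).2 hinv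
      rw [map_inv₀] at h1
      have h2 := hW.2 _ hxm
      exact absurd ((inv_le_one₀ (zero_lt_iff.2 ((_root_.map_ne_zero _).2 hx0))).1 h1) (not_le.2 h2)
    obtain ⟨-, pkg⟩ := Ep.dvr_package (R := A') K₁ W (fun r => hW.1 r) hWtop
    haveI halg : Algebra.IsAlgebraic (ResidueField A') (ResidueField W) :=
      Ep.isAlgebraic_residue W pkg
    haveI halg1 : Algebra.IsAlgebraic (ResidueField (W.comap (algebraMap K₁ M)))
        (ResidueField W) :=
      Algebra.IsAlgebraic.tower_top (K := ResidueField A') _
    haveI sep1 : Algebra.IsSeparable (ResidueField (W.comap (algebraMap K₁ M)))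
        (ResidueField W) := isSeparable_of_isGeometricallyReduced
    exact Algebra.IsSeparable.trans (ResidueField A') (ResidueField (W.comap (algebraMap K₁ M)))
      (ResidueField W)

end Local

end Groth.Agent.Helper8.Tm
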