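import Mathlib
import Groth.Prelude.Def_EtRam
import Groth.Agent.Helper7.DomValB
import Groth.Agent.Helper8.TmC

/-!
# TmD: S9329 / S9328 — tame ramification is killed by adjoining a root of the uniformizer
-/

set_option autoImplicit false
set_option linter.unusedSectionVars false
universe u

namespace Groth.Agent.Helper8.Tm

open Polynomial IsLocalRing
open Groth.Agent.Helper7

section Exists

variable {A K L : Type u} [CommRing A] [IsDomain A] [IsDiscreteValuationRing A] [Field K]
  [Algebra A K] [IsFractionRing A K] [Field L] [Algebra K L] [Algebra A L] [IsScalarTower A K L]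
  [FiniteDimensional K L] [Algebra.IsSeparable K L]

theorem exists_uniform (π : A) (hπ : maximalIdeal A = Ideal.span {π})
    (h : EtRam.IsTamelyRamified A (algebraMap A L)) :
    ∃ e₀ : ℕ, 0 < e₀ ∧ (e₀ : ResidueField A) ≠ 0 ∧
      ∀ e : ℕ, 0 < e → (e : ResidueField A) ≠ 0 → e₀ ∣ e →
        ∃ (L' : Type u) (_ : Field L') (_ : Algebra K L')
          (_ : Algebra (AdjoinRoot (X ^ e - C π : A[X])) L') (_ : L →ₐ[K] L'),
          FiniteDimensional K L' ∧ Algebra.IsSeparable K L' ∧
          (algebraMap (AdjoinRoot (X ^ e - C π : A[X])) L').comp (AdjoinRoot.of (X ^ e - C π)) =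
            (algebraMap K L').comp (algebraMap A K) ∧
          ∀ [IsLocalRing (AdjoinRoot (X ^ e - C π : A[X]))],
            EtRam.IsUnramifiedExt (AdjoinRoot (X ^ e - C π : A[X]))
              (algebraMap (AdjoinRoot (X ^ e - C π : A[X])) L') := by
  classical
  have hπi : Irreducible π := (IsDiscreteValuationRing.irreducible_iff_uniformizer π).2 hπ
  refine ⟨∏ j ∈ (Finset.Icc 1 (Module.finrank K L)).filter
    (fun j : ℕ => (j : ResidueField A) ≠ 0), j, ?_, ?_, ?_⟩
  · apply Finset.prod_pos
    intro j hj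
    exact (Finset.mem_Icc.1 (Finset.mem_filter.1 hj).1).1
  · rw [Nat.cast_prod]
    exact Finset.prod_ne_zero_iff.2 (fun j hj => (Finset.mem_filter.1 hj).2)
  intro e he heκ he₀
  have hdiv : ∀ j : ℕ, 0 < j → j ≤ Module.finrank K L → (j : ResidueField A) ≠ 0 → j ∣ e := by
    intro j hj1 hj2 hj3
    exact (Finset.dvd_prod_of_mem (fun j => j)
      (Finset.mem_filter.2 ⟨Finset.mem_Icc.2 ⟨hj1, hj2⟩, hj3⟩)).trans he₀
  -- characteristic
  have heA : (e : A) ≠ 0 := by
    intro h0
    apply heκ
    rw [← map_natCast (residue A), h0, map_zero]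
  have heK : (e : K) ≠ 0 := by
    rw [← map_natCast (algebraMap A K)]
    exact fun h0 => heA (IsFractionRing.injective A K (h0.trans (map_zero _).symm))
  have heL : (e : L) ≠ 0 := by
    rw [← map_natCast (algebraMap K L)]
    exact (_root_.map_ne_zero _).2 heK
  have hπK : algebraMap A K π ≠ 0 :=
    fun h0 => hπi.ne_zero (IsFractionRing.injective A K (h0.trans (map_zero _).symm))
  have hπL : algebraMap A L π ≠ 0 := by
    rw [IsScalarTower.algebraMap_apply A K L]
    exact (_root_.map_ne_zero _).2 hπK
  -- the field `K'`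
  haveI : Fact (Irreducible (fK A K π e)) := ⟨fK_irreducible A K π hπi e he⟩
  haveI : IsDomain (AdjoinRoot (Eis.f A π e)) := Eis.isDomain A π hπi e he
  haveI : IsDiscreteValuationRing (AdjoinRoot (Eis.f A π e)) := Eis.isDVR A π hπi e he
  letI algA'K' : Algebra (AdjoinRoot (Eis.f A π e)) (AdjoinRoot (fK A K π e)) :=
    (toKp A K π e).toAlgebra
  haveI : IsFractionRing (AdjoinRoot (Eis.f A π e)) (AdjoinRoot (fK A K π e)) :=
    isFractionRing_Kp A K π hπi e he
  haveI : FiniteDimensional K (AdjoinRoot (fK A K π e)) := (fK_monic A K π e he).finite_adjoinRoot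
  have hcompat : (algebraMap (AdjoinRoot (Eis.f A π e)) (AdjoinRoot (fK A K π e))).comp
      (AdjoinRoot.of (Eis.f A π e)) =
      (algebraMap K (AdjoinRoot (fK A K π e))).comp (algebraMap A K) := by
    refine RingHom.ext fun a => ?_
    exact toKp_of A K π e a
  -- the polynomial over `L`
  obtain ⟨fL, hfL⟩ : ∃ fL : L[X], fL = X ^ e - C (algebraMap A L π) := ⟨_, rfl⟩
  have hfLsep : fL.Separable := by rw [hfL]; exact separable_X_pow_sub_C _ heL hπL
  have hfLdeg : fL.natDegree = e := by rw [hfL]; exact natDegree_X_pow_sub_C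
  have hfL0 : fL ≠ 0 := by
    intro h0
    rw [h0, natDegree_zero] at hfLdeg
    omega
  have hfLnu : ¬ IsUnit fL := not_isUnit_of_natDegree_pos _ (by rw [hfLdeg]; exact he)
  obtain ⟨q, hirr, hdvd⟩ := WfDvdMonoid.exists_irreducible_factor hfLnu hfL0
  haveI : Fact (Irreducible q) := ⟨hirr⟩
  have hrootL : (AdjoinRoot.root q) ^ e = AdjoinRoot.of q (algebraMap A L π) := by
    have h1 : AdjoinRoot.mk q fL = 0 := AdjoinRoot.mk_eq_zero.2 hdvd
    rw [hfL, map_sub, map_pow, AdjoinRoot.mk_X, AdjoinRoot.mk_C, sub_eq_zero] at h1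
    exact h1
  have hroot : (fK A K π e).eval₂ (algebraMap K (AdjoinRoot q)) (AdjoinRoot.root q) = 0 := by
    rw [fK, eval₂_sub, eval₂_pow, eval₂_X, eval₂_C, sub_eq_zero, hrootL,
      AdjoinRoot.algebraMap_eq', RingHom.comp_apply, ← IsScalarTower.algebraMap_apply A K L]
  letI algK'L' : Algebra (AdjoinRoot (fK A K π e)) (AdjoinRoot q) :=
    (AdjoinRoot.lift (algebraMap K (AdjoinRoot q)) (AdjoinRoot.root q) hroot).toAlgebra
  haveI : IsScalarTower K (AdjoinRoot (fK A K π e)) (AdjoinRoot q) :=
    IsScalarTower.of_algebraMap_eq (fun k => (AdjoinRoot.lift_of hroot).symm)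
  have hadj : Algebra.adjoin L
      (Set.range (algebraMap (AdjoinRoot (fK A K π e)) (AdjoinRoot q))) = ⊤ := by
    rw [eq_top_iff, ← AdjoinRoot.adjoinRoot_eq_top]
    apply Algebra.adjoin_mono
    rw [Set.singleton_subset_iff]
    exact ⟨AdjoinRoot.root _, AdjoinRoot.lift_root hroot⟩
  haveI : FiniteDimensional L (AdjoinRoot q) := (AdjoinRoot.powerBasis hirr.ne_zero).finite
  haveI : FiniteDimensional K (AdjoinRoot q) := FiniteDimensional.trans K L (AdjoinRoot q)
  haveI : Algebra.IsSeparable L (AdjoinRoot q) := isSeparable_adjoinRoot q fL hfLsep hdvd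
  haveI : Algebra.IsSeparable K (AdjoinRoot q) := Algebra.IsSeparable.trans K L (AdjoinRoot q)
  letI algA'L' : Algebra (AdjoinRoot (Eis.f A π e)) (AdjoinRoot q) :=
    ((algebraMap (AdjoinRoot (fK A K π e)) (AdjoinRoot q)).comp
      (algebraMap (AdjoinRoot (Eis.f A π e)) (AdjoinRoot (fK A K π e)))).toAlgebra
  refine ⟨AdjoinRoot q, inferInstance, inferInstance, algA'L',
    IsScalarTower.toAlgHom K L (AdjoinRoot q), inferInstance, inferInstance, ?_, ?_⟩
  · refine RingHom.ext fun a => ?_
    show algebraMap (AdjoinRoot (fK A K π e)) (AdjoinRoot q)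
      (toKp A K π e (AdjoinRoot.of _ a)) = algebraMap K (AdjoinRoot q) (algebraMap A K a)
    rw [toKp_of]
    exact AdjoinRoot.lift_of hroot
  · intro inst
    exact local_unramified π hπi e he (AdjoinRoot (fK A K π e)) (AdjoinRoot q) hcompat hadj h hdiv

end Exists

section Converse

variable {A K L : Type u} [CommRing A] [IsDomain A] [IsDiscreteValuationRing A] [Field K]
  [Algebra A K] [IsFractionRing A K] [Field L] [Algebra K L]
  (π : A) (hπ : Irreducible π) (e : ℕ) (he : 0 < e)
  [IsDomain (AdjoinRoot (Eis.f A π e))] [IsDiscreteValuationRing (AdjoinRoot (Eis.f A π e))]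
  (L' : Type u) [Field L'] [Algebra K L'] [Algebra (AdjoinRoot (Eis.f A π e)) L'] [Algebra L L']
  [IsScalarTower K L L'] [FiniteDimensional K L'] [Algebra.IsSeparable K L']

local notation "A'" => AdjoinRoot (Eis.f A π e)

include hπ he in
theorem tame_of_unramified (heκ : (e : ResidueField A) ≠ 0)
    (hcompat : (algebraMap A' L').comp (AdjoinRoot.of (Eis.f A π e)) =
      (algebraMap K L').comp (algebraMap A K))
    (hU : EtRam.IsUnramifiedExt A' (algebraMap A' L'))
    (g : A →+* L) (hg : g = (algebraMap K L).comp (algebraMap A K)) :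
    EtRam.IsTamelyRamified A g := by
  subst hg
  intro V hV
  obtain ⟨W, rfl⟩ := DomVal.exists_extension (algebraMap L L') V
  have hcomp : (algebraMap K L').comp (algebraMap A K) =
      (algebraMap L L').comp ((algebraMap K L).comp (algebraMap A K)) := by
    rw [← RingHom.comp_assoc, ← IsScalarTower.algebraMap_eq K L L']
  have hW : EtRam.Dominates A ((algebraMap K L').comp (algebraMap A K)) W := by
    rw [hcomp]
    refine ⟨fun a => hV.1 a, fun a ha => ?_⟩
    have := hV.2 a ha
    rw [DomVal.valuation_comap_lt_one_iff] at this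
    exact this
  obtain ⟨hV', htow, hl1, hl2, hl3, hdV, hdW, hinj, hne⟩ :=
    DomVal.tower_package (L := L) W hW
  intro hloc
  letI algAV : Algebra A (W.comap (algebraMap L L')) :=
    (RingHom.codRestrict ((algebraMap K L).comp (algebraMap A K)) (W.comap (algebraMap L L'))
      hV.1).toAlgebra
  letI algVW : Algebra (W.comap (algebraMap L L')) W :=
    (RingHom.codRestrict ((algebraMap L L').comp (W.comap (algebraMap L L')).subtype) W
      (DomVal.dominates_over (algebraMap L L') W).1).toAlgebra
  letI algAW : Algebra A W :=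
    (RingHom.codRestrict ((algebraMap K L').comp (algebraMap A K)) W hW.1).toAlgebra
  haveI := htow
  haveI := hl2
  haveI := hl3
  haveI := hdV
  haveI := hdW
  -- `W` dominates `A'`
  have hW' : EtRam.Dominates A' (algebraMap A' L') W :=
    dominates_of_root π hπ e he _ W (by rw [hcompat]; exact hW)
  letI algA'W : Algebra A' W := (RingHom.codRestrict (algebraMap A' L') W hW'.1).toAlgebra
  haveI locA'W : IsLocalHom (algebraMap A' W) := DomVal.isLocalHom_codRestrict _ W hW'
  haveI towA : IsScalarTower A A' W := by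
    refine IsScalarTower.of_algebraMap_eq fun a => Subtype.ext ?_
    exact (RingHom.congr_fun hcompat a).symm
  have hxm : Eis.x A π e ∈ maximalIdeal A' := by
    rw [Eis.maximalIdeal_eq A π hπ e he]; exact Ideal.mem_span_singleton_self _
  haveI locAA' : IsLocalHom (algebraMap A A') := by
    constructor
    intro a ha
    by_contra hna
    have hmem : a ∈ maximalIdeal A := hna
    exact (mem_maximalIdeal _).1 (of_mem_maximalIdeal π hπ e he a hmem) ha
  obtain ⟨hwu, hsepU⟩ := hU W hW'
  have hmW0 : maximalIdeal W ≠ ⊥ := IsDiscreteValuationRing.not_a_field W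
  have hmW1 : maximalIdeal W ≠ ⊤ := Ideal.IsPrime.ne_top'
  have tA'W : DomVal.TameAt A' W := by
    refine ⟨hsepU, ?_⟩
    intro p hp _ hdvd
    have hidx : Ideal.ramificationIdx' (maximalIdeal A') (maximalIdeal W) = 1 := by
      unfold EtRam.IsWeaklyUnramified at hwu
      apply Ideal.ramificationIdx'_spec
      · rw [hwu, pow_one]
      · rw [hwu]
        exact not_le_of_gt (Ideal.pow_lt_self _ hmW0 hmW1 2 le_rfl)
    rw [hidx] at hdvd
    exact hp.one_lt.ne' (Nat.dvd_one.1 hdvd)
  have tAA' : DomVal.TameAt A A' := by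
    refine ⟨?_, ?_⟩
    · constructor
      intro y
      obtain ⟨z, rfl⟩ := residue_surjective y
      obtain ⟨a, w, rfl⟩ := Eis.exists_eq_of_add A π e z
      have h1 : residue A' (AdjoinRoot.of _ a + Eis.x A π e * w) =
          algebraMap (ResidueField A) (ResidueField A') (residue A a) := by
        rw [map_add, map_mul, (residue_eq_zero_iff _).2 hxm, zero_mul, add_zero]
        rfl
      rw [h1]
      exact isSeparable_algebraMap _
    · intro p hp hcp hdvd
      have hm0 : maximalIdeal A' ≠ ⊥ := IsDiscreteValuationRing.not_a_field A'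
      have hidx : Ideal.ramificationIdx' (maximalIdeal A) (maximalIdeal A') = e := by
        apply Ideal.ramificationIdx'_spec
        · rw [Eis.map_maximalIdeal A π hπ e he]
        · rw [Eis.map_maximalIdeal A π hπ e he]
          exact not_le_of_gt (Ideal.pow_succ_lt_pow hm0 e)
      rw [hidx] at hdvd
      haveI := hcp
      exact heκ ((CharP.cast_eq_zero_iff (ResidueField A) p e).2 hdvd)
  have hinjA'W : Function.Injective (algebraMap A' W) := by
    have h1 : Function.Injective (algebraMap A' L') := by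
      apply injective_of_comp_of A π hπ e he
      rw [hcompat]
      exact (algebraMap K L').injective.comp (IsFractionRing.injective A K)
    intro x y hxy
    exact h1 (congrArg Subtype.val hxy)
  have tAW : DomVal.TameAt A W := DomVal.tameAt_comp hinjA'W hne tAA' tA'W
  exact DomVal.tameAt_bot hinj hne tAW

end Converse

end Groth.Agent.Helper8.Tm
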