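import Mathlib
import Groth.Prelude.Def_EtRam
import Groth.Agent.Helper8.EpH
import Groth.Agent.Helper8.TmA

/-!
# TmE: tame ramification is stable under base change along an extension of DVRs
(generalised Abhyankar lemma)
-/

set_option autoImplicit false
set_option linter.unusedSectionVars false
universe u

namespace Groth.Agent.Helper8.Tm

open TensorProduct IsLocalRing Polynomial
open Groth.Agent.Helper7
open Groth.Agent.Helper8.Ep

/-- a separable algebraic field extension tensored with any field extension is reduced -/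
theorem isReduced_tensor_of_isSeparable {k F Ω : Type*} [Field k] [Field F] [Field Ω]
    [Algebra k F] [Algebra k Ω] [Algebra.IsSeparable k Ω] : IsReduced (F ⊗[k] Ω) := by
  apply IsReduced.tensorProduct_of_flat_of_forall_fg
  intro B hB
  haveI : Algebra.IsAlgebraic k Ω := Algebra.IsSeparable.isAlgebraic k Ω
  letI : Field B := (Subalgebra.isField_of_algebraic B).toField
  haveI : Algebra.IsSeparable k B := Algebra.isSeparable_tower_bot_of_isSeparable k B Ω
  haveI : Algebra.FormallyUnramified k B := Algebra.FormallyUnramified.of_isSeparable k B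
  haveI : Algebra.FiniteType k B := (Subalgebra.fg_iff_finiteType B).mp hB
  exact Algebra.FormallyUnramified.isReduced_of_field F (F ⊗[k] B)

/-- variant of `Ep.vnr_of_closure'` with the reducedness of the tensor product as a hypothesis -/
theorem vnr_of_closure_red {k F Ω S : Type*} [Field k] [Field F] [Field Ω] [CommRing S]
    [Algebra k F] [Algebra k Ω] [Algebra.IsAlgebraic k Ω] (hred : IsReduced (F ⊗[k] Ω))
    (φ : F →+* S) (ψ : Ω →+* S) (h : ∀ a : k, φ (algebraMap k F a) = ψ (algebraMap k Ω a))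
    (e : ℕ) (he : (e : k) ≠ 0) (c₁ : F) (hc₁ : c₁ ≠ 0) (c₂ : Ω) (hc₂ : c₂ ≠ 0) (θ : S)
    (hθ : θ ^ e = φ c₁ * ψ c₂)
    (hcl : ∀ s : S, s ∈ Subring.closure (Set.range φ ∪ Set.range ψ ∪ {θ})) :
    ∀ x : S, ∃ y : S, x = x * x * y := by
  have hint : Algebra.IsIntegral F (F ⊗[k] Ω) := inferInstance
  have hcu : IsUnit (c₁ ⊗ₜ[k] c₂ : F ⊗[k] Ω) := by
    refine IsUnit.of_mul_eq_one (c₁⁻¹ ⊗ₜ[k] c₂⁻¹) ?_
    rw [Algebra.TensorProduct.tmul_mul_tmul, mul_inv_cancel₀ hc₁, mul_inv_cancel₀ hc₂]
    rfl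
  have heu : IsUnit ((e : ℕ) : F ⊗[k] Ω) := by
    have h1 : IsUnit (algebraMap k (F ⊗[k] Ω) (e : k)) := (IsUnit.mk0 _ he).map _
    rwa [map_natCast] at h1
  haveI hred' : IsReduced (AdjoinRoot (X ^ e - C (c₁ ⊗ₜ[k] c₂) : (F ⊗[k] Ω)[X])) :=
    isReduced_adjoinRoot_pow_sub_C e heu _ hcu
  have he0 : e ≠ 0 := by
    rintro rfl
    exact he Nat.cast_zero
  have hmon : (X ^ e - C (c₁ ⊗ₜ[k] c₂) : (F ⊗[k] Ω)[X]).Monic := monic_X_pow_sub_C _ he0
  haveI hfin : Module.Finite (F ⊗[k] Ω)
      (AdjoinRoot (X ^ e - C (c₁ ⊗ₜ[k] c₂) : (F ⊗[k] Ω)[X])) := hmon.finite_adjoinRoot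
  haveI hint' : Algebra.IsIntegral (F ⊗[k] Ω)
      (AdjoinRoot (X ^ e - C (c₁ ⊗ₜ[k] c₂) : (F ⊗[k] Ω)[X])) := Algebra.IsIntegral.of_finite _ _
  haveI hint'' : Algebra.IsIntegral F
      (AdjoinRoot (X ^ e - C (c₁ ⊗ₜ[k] c₂) : (F ⊗[k] Ω)[X])) :=
    Algebra.IsIntegral.trans (F ⊗[k] Ω)
  have heval : (X ^ e - C (c₁ ⊗ₜ[k] c₂) : (F ⊗[k] Ω)[X]).eval₂ (prodHom φ ψ h) θ = 0 := by
    rw [eval₂_sub, eval₂_pow, eval₂_X, eval₂_C, prodHom_tmul, hθ, sub_self]
  let Λ : AdjoinRoot (X ^ e - C (c₁ ⊗ₜ[k] c₂) : (F ⊗[k] Ω)[X]) →+* S :=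
    AdjoinRoot.lift (prodHom φ ψ h) θ heval
  have hsurj : Function.Surjective Λ := by
    intro s
    have hle : Subring.closure (Set.range φ ∪ Set.range ψ ∪ {θ}) ≤ Λ.range := by
      rw [Subring.closure_le]
      rintro _ ((⟨a, rfl⟩ | ⟨b, rfl⟩) | hθ')
      · refine ⟨AdjoinRoot.of _ (a ⊗ₜ 1), ?_⟩
        show AdjoinRoot.lift _ _ _ _ = _
        rw [AdjoinRoot.lift_of, prodHom_tmul, map_one, mul_one]
      · refine ⟨AdjoinRoot.of _ (1 ⊗ₜ b), ?_⟩
        show AdjoinRoot.lift _ _ _ _ = _
        rw [AdjoinRoot.lift_of, prodHom_tmul, map_one, one_mul]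
      · rw [Set.mem_singleton_iff] at hθ'
        subst hθ'
        exact ⟨AdjoinRoot.root _, AdjoinRoot.lift_root _⟩
    exact hle (hcl s)
  intro x
  obtain ⟨t, rfl⟩ := hsurj x
  obtain ⟨y, hy⟩ := exists_vnr_of_isIntegral (k := F) t (Algebra.IsIntegral.isIntegral t)
  exact ⟨Λ y, by rw [← map_mul, ← map_mul, ← hy]⟩

theorem exists_bezout_nat (m e : ℕ) (hm : 0 < m) (he : 0 < e) (hco : Nat.Coprime e m) :
    ∃ a b : ℕ, a * m = b * e + 1 := by
  rcases Nat.lt_or_ge 1 e with h1 | h1
  · obtain ⟨a, -, ha⟩ := Nat.exists_mul_mod_eq_one_of_coprime hco.symm h1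
    refine ⟨a, m * a / e, ?_⟩
    have h2 := Nat.div_add_mod (m * a) e
    rw [ha] at h2
    calc a * m = m * a := mul_comm _ _
      _ = e * (m * a / e) + 1 := h2.symm
      _ = m * a / e * e + 1 := by rw [mul_comm e]
  · have h2 : e = 1 := by omega
    subst h2
    exact ⟨1, m - 1, by omega⟩

section Main

variable (A B K L : Type u) [CommRing A] [IsDomain A] [IsDiscreteValuationRing A]
  [CommRing B] [IsDomain B] [IsDiscreteValuationRing B] [Algebra A B]
  [IsLocalHom (algebraMap A B)]
  [Field K] [Field L] [Algebra A K] [IsFractionRing A K] [Algebra B L] [IsFractionRing B L]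
  [Algebra K L] [Algebra A L] [IsScalarTower A K L] [IsScalarTower A B L]
  (K' : Type u) [Field K'] [Algebra K K'] [FiniteDimensional K K'] [Algebra.IsSeparable K K']
  (F : Type u) [Field F] [Algebra K F] [Algebra L F] [Algebra K' F] [IsScalarTower K L F]
  [IsScalarTower K K' F]

/-- **Tame base change.** If `K'/K` is tamely ramified with respect to `A` and `A → B` is an
extension of discrete valuation rings with fraction fields `K ⊆ L`, then every compositum `F` of
`L` and `K'` is tamely ramified with respect to `B`. -/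
theorem tame_core (hinj : Function.Injective (algebraMap A B))
    (h : EtRam.IsTamelyRamified A ((algebraMap K K').comp (algebraMap A K)))
    (hadj : Algebra.adjoin L (Set.range (algebraMap K' F)) = ⊤) :
    EtRam.IsTamelyRamified B ((algebraMap L F).comp (algebraMap B L)) := by
  classical
  obtain ⟨gB, hgB⟩ : ∃ g : B →+* F, g = (algebraMap L F).comp (algebraMap B L) := ⟨_, rfl⟩
  rw [← hgB]
  intro W hW
  have hcompM : ∀ a : A, gB (algebraMap A B a) =
      algebraMap K' F (algebraMap K K' (algebraMap A K a)) := by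
    intro a
    rw [hgB, RingHom.comp_apply, ← IsScalarTower.algebraMap_apply A B L,
      IsScalarTower.algebraMap_apply A K L, ← IsScalarTower.algebraMap_apply K L F,
      ← IsScalarTower.algebraMap_apply K K' F]
  have hgAinj : Function.Injective ((algebraMap K K').comp (algebraMap A K)) :=
    (algebraMap K K').injective.comp (IsFractionRing.injective A K)
  have hgBinj : Function.Injective gB := by
    rw [hgB]
    exact (algebraMap L F).injective.comp (IsFractionRing.injective B L)
  have hAmB : ∀ a ∈ maximalIdeal A, algebraMap A B a ∈ maximalIdeal B := by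
    intro a ha
    rw [mem_maximalIdeal, mem_nonunits_iff] at ha ⊢
    exact fun hu => ha (isUnit_of_map_unit (algebraMap A B) a hu)
  have hA : ∀ a : A, (algebraMap K K') (algebraMap A K a) ∈ W.comap (algebraMap K' F) := by
    intro a
    show algebraMap K' F _ ∈ W
    rw [← hcompM]
    exact hW.1 _
  have hdomA : EtRam.Dominates A ((algebraMap K K').comp (algebraMap A K))
      (W.comap (algebraMap K' F)) := by
    refine ⟨hA, fun a ha => ?_⟩
    rw [DomVal.valuation_comap_lt_one_iff, RingHom.comp_apply, ← hcompM]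
    exact hW.2 _ (hAmB a ha)
  letI algAK' : Algebra A K' := ((algebraMap K K').comp (algebraMap A K)).toAlgebra
  haveI : IsScalarTower A K K' := IsScalarTower.of_algebraMap_eq' rfl
  letI algAV : Algebra A (W.comap (algebraMap K' F)) :=
    (RingHom.codRestrict ((algebraMap K K').comp (algebraMap A K))
      (W.comap (algebraMap K' F)) hdomA.1).toAlgebra
  haveI : IsScalarTower A (W.comap (algebraMap K' F)) K' := IsScalarTower.of_algebraMap_eq' rfl
  haveI hlocAV : IsLocalHom (algebraMap A (W.comap (algebraMap K' F))) :=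
    DomVal.isLocalHom_codRestrict _ _ hdomA
  haveI hDVR : IsDiscreteValuationRing (W.comap (algebraMap K' F)) :=
    DomVal.isDVR_of_dominates (K := K) (W.comap (algebraMap K' F)) hdomA
  obtain ⟨hsepV, hpV⟩ := h (W.comap (algebraMap K' F)) hdomA
  obtain ⟨πA, hπA⟩ := IsDiscreteValuationRing.exists_irreducible A
  have hπAm : πA ∈ maximalIdeal A := by
    rw [hπA.maximalIdeal_eq]
    exact Ideal.mem_span_singleton_self πA
  have hgπ0 : algebraMap K K' (algebraMap A K πA) ≠ 0 := fun h =>
    hπA.ne_zero (hgAinj (by rw [RingHom.comp_apply, h, map_zero]))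
  obtain ⟨fV, hfV⟩ : ∃ g : (W.comap (algebraMap K' F)) →+* F,
      g = (algebraMap K' F).comp (W.comap (algebraMap K' F)).subtype := ⟨_, rfl⟩
  have hfVapp : ∀ c, fV c = algebraMap K' F (c : K') := fun c => by rw [hfV]; rfl
  have hcomp : ∀ a : A, gB (algebraMap A B a) =
      fV (algebraMap A (W.comap (algebraMap K' F)) a) := by
    intro a
    rw [hcompM, hfVapp]
    rfl
  have hB : ∀ b, W.valuation (gB b) ≤ 1 := fun b => (W.valuation_le_one_iff _).2 (hW.1 b)
  have hV : ∀ c, W.valuation (fV c) ≤ 1 := fun c => by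
    rw [hfVapp]
    exact (W.valuation_le_one_iff _).2 c.2
  have hVm : ∀ c ∈ maximalIdeal (W.comap (algebraMap K' F)), W.valuation (fV c) < 1 := by
    intro c hc
    rw [hfVapp, ← ValuationSubring.mem_nonunits_iff]
    exact (DomVal.mem_maximalIdeal_comap_iff W _ c).1 hc
  have hfVinj : Function.Injective fV := by
    rw [hfV]
    exact (algebraMap K' F).injective.comp Subtype.val_injective
  have hinjAV : Function.Injective (algebraMap A (W.comap (algebraMap K' F))) := by
    intro a a' h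
    apply hgAinj
    exact congrArg Subtype.val h
  -- uniformizers and ramification
  obtain ⟨πB, hπB⟩ := IsDiscreteValuationRing.exists_irreducible B
  obtain ⟨ϖ₁, hϖ₁⟩ := IsDiscreteValuationRing.exists_irreducible (W.comap (algebraMap K' F))
  have hϖ₁m : ϖ₁ ∈ maximalIdeal (W.comap (algebraMap K' F)) := by
    rw [hϖ₁.maximalIdeal_eq]
    exact Ideal.mem_span_singleton_self ϖ₁
  have hπBm : πB ∈ maximalIdeal B := by
    rw [hπB.maximalIdeal_eq]
    exact Ideal.mem_span_singleton_self πB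
  obtain ⟨hm0, uB, huB⟩ := ramIdx_eq hinj hπA hπB
  obtain ⟨he0, uV, huV⟩ := ramIdx_eq hinjAV hπA hϖ₁
  have hek : ((Ideal.ramificationIdx' (maximalIdeal A)
      (maximalIdeal (W.comap (algebraMap K' F))) : ℕ) : ResidueField A) ≠ 0 := by
    intro h0
    have hc : CharP (ResidueField A) (ringChar (ResidueField A)) := ringChar.charP _
    rw [CharP.cast_eq_zero_iff (ResidueField A) (ringChar (ResidueField A))] at h0
    rcases CharP.char_is_prime_or_zero (ResidueField A) (ringChar (ResidueField A)) with hpr | hz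
    · exact hpV _ hpr hc h0
    · rw [hz] at h0
      exact he0 (Nat.eq_zero_of_zero_dvd h0)
  generalize Ideal.ramificationIdx' (maximalIdeal A) (maximalIdeal B) = m at hm0 huB
  generalize Ideal.ramificationIdx' (maximalIdeal A)
    (maximalIdeal (W.comap (algebraMap K' F))) = e at he0 huV hek
  clear hpV
  -- gcd decomposition
  obtain ⟨g, e'', m'', hg0, hee, hmm, hco⟩ : ∃ g e'' m'' : ℕ, 0 < g ∧ e = g * e'' ∧
      m = g * m'' ∧ Nat.Coprime e'' m'' :=
    ⟨Nat.gcd e m, e / Nat.gcd e m, m / Nat.gcd e m,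
      Nat.gcd_pos_of_pos_left m (Nat.pos_of_ne_zero he0),
      (Nat.mul_div_cancel' (Nat.gcd_dvd_left e m)).symm,
      (Nat.mul_div_cancel' (Nat.gcd_dvd_right e m)).symm,
      Nat.coprime_div_gcd_div_gcd (Nat.gcd_pos_of_pos_left m (Nat.pos_of_ne_zero he0))⟩
  have he''0 : 0 < e'' := by
    rcases Nat.eq_zero_or_pos e'' with h0 | h0
    · rw [h0, mul_zero] at hee; exact absurd hee he0
    · exact h0
  have hm''0 : 0 < m'' := by
    rcases Nat.eq_zero_or_pos m'' with h0 | h0
    · rw [h0, mul_zero] at hmm; exact absurd hmm hm0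
    · exact h0
  obtain ⟨a, b, hab⟩ := exists_bezout_nat m'' e'' hm''0 he''0 hco
  have hgk : ((g : ℕ) : ResidueField A) ≠ 0 := by
    intro h0
    apply hek
    rw [hee, Nat.cast_mul, h0, zero_mul]
  -- computations in `F`
  obtain ⟨P, hPdef⟩ : ∃ P, P = gB (algebraMap A B πA) := ⟨_, rfl⟩
  have hPB : P = gB uB * gB πB ^ m := by rw [hPdef, huB, map_mul, map_pow]
  have hPV : P = fV uV * fV ϖ₁ ^ e := by rw [hPdef, hcomp, huV, map_mul, map_pow]
  have hY0 : gB πB ≠ 0 := fun h => hπB.ne_zero (hgBinj (by rw [h, map_zero]))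
  have hX0 : fV ϖ₁ ≠ 0 := fun h => hϖ₁.ne_zero (hfVinj (by rw [h, map_zero]))
  have huB1 : gB uB * gB (↑uB⁻¹ : B) = 1 := by rw [← map_mul, Units.mul_inv, map_one]
  have huV1 : fV uV * fV (↑uV⁻¹ : (W.comap (algebraMap K' F))) = 1 := by
    rw [← map_mul, Units.mul_inv, map_one]
  obtain ⟨Xv, hXdef⟩ : ∃ Xv, Xv = fV ϖ₁ := ⟨_, rfl⟩
  obtain ⟨Yv, hYdef⟩ : ∃ Yv, Yv = gB πB := ⟨_, rfl⟩
  rw [← hXdef] at hX0 hPV
  rw [← hYdef] at hY0 hPB
  obtain ⟨θ, hθdef⟩ : ∃ θ, θ = Xv ^ e'' / Yv ^ m'' := ⟨_, rfl⟩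
  have hθg : θ ^ g = gB uB * fV (↑uV⁻¹ : (W.comap (algebraMap K' F))) := by
    rw [hθdef, div_pow, ← pow_mul, ← pow_mul, mul_comm e'' g, mul_comm m'' g, ← hee, ← hmm,
      div_eq_iff (pow_ne_zero _ hY0)]
    have h1 : gB uB * Yv ^ m = fV uV * Xv ^ e := hPB.symm.trans hPV
    calc Xv ^ e = (fV uV * fV (↑uV⁻¹ : (W.comap (algebraMap K' F)))) * Xv ^ e := by
          rw [huV1, one_mul]
      _ = fV (↑uV⁻¹ : (W.comap (algebraMap K' F))) * (fV uV * Xv ^ e) := by ring
      _ = fV (↑uV⁻¹ : (W.comap (algebraMap K' F))) * (gB uB * Yv ^ m) := by rw [h1]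
      _ = gB uB * fV (↑uV⁻¹ : (W.comap (algebraMap K' F))) * Yv ^ m := by ring
  have hvθ : W.valuation θ = 1 := by
    have h1 : W.valuation θ ^ g = 1 := by
      rw [← map_pow, hθg, map_mul, val_unit W.valuation gB hB uB,
        val_unit W.valuation fV hV uV⁻¹, one_mul]
    by_contra hne
    rcases lt_or_gt_of_ne hne with hlt | hgt
    · exact absurd h1 (ne_of_lt (pow_lt_one₀ zero_le' hlt hg0.ne'))
    · exact absurd h1 (ne_of_gt (one_lt_pow₀ hgt hg0.ne'))
  obtain ⟨θi, hθidef⟩ : ∃ θi, θi = θ ^ (g - 1) * gB (↑uB⁻¹ : B) * fV uV := ⟨_, rfl⟩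
  have hθθi : θ * θi = 1 := by
    rw [hθidef]
    calc θ * (θ ^ (g - 1) * gB (↑uB⁻¹ : B) * fV uV)
        = θ ^ (g - 1 + 1) * gB (↑uB⁻¹ : B) * fV uV := by ring
      _ = θ ^ g * gB (↑uB⁻¹ : B) * fV uV := by rw [Nat.sub_add_cancel hg0]
      _ = (gB uB * gB (↑uB⁻¹ : B)) *
          (fV uV * fV (↑uV⁻¹ : (W.comap (algebraMap K' F)))) := by rw [hθg]; ring
      _ = 1 := by rw [huB1, huV1, one_mul]
  have hvθi : W.valuation θi = 1 := by
    have h1 := congrArg W.valuation hθθi
    rw [map_mul, hvθ, one_mul, map_one] at h1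
    exact h1
  obtain ⟨ϖ, hϖdef⟩ : ∃ ϖ, ϖ = Xv ^ a / Yv ^ b := ⟨_, rfl⟩
  have hI1 : ϖ ^ e'' = θ ^ a * Yv := by
    have h1 : Yv ^ (m'' * a) = Yv ^ (b * e'') * Yv := by rw [mul_comm m'' a, hab, pow_succ]
    rw [hϖdef, hθdef, div_pow, div_pow, ← pow_mul, ← pow_mul, ← pow_mul, ← pow_mul,
      div_mul_eq_mul_div, div_eq_div_iff (pow_ne_zero _ hY0) (pow_ne_zero _ hY0), h1]
    ring
  have hI2 : ϖ ^ m'' = Xv * θ ^ b := by
    have h1 : Xv ^ (a * m'') = Xv ^ (e'' * b) * Xv := by rw [hab, mul_comm b e'', pow_succ]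
    rw [hϖdef, hθdef, div_pow, div_pow, ← pow_mul, ← pow_mul, ← pow_mul, ← pow_mul,
      mul_div_assoc', div_eq_div_iff (pow_ne_zero _ hY0) (pow_ne_zero _ hY0), h1]
    ring
  have hθθia : ∀ n : ℕ, θ ^ n * θi ^ n = 1 := fun n => by rw [← mul_pow, hθθi, one_pow]
  have hY : Yv = ϖ ^ e'' * θi ^ a := by
    rw [hI1]
    calc Yv = (θ ^ a * θi ^ a) * Yv := by rw [hθθia, one_mul]
      _ = θ ^ a * Yv * θi ^ a := by ring
  have hX : Xv = ϖ ^ m'' * θi ^ b := by
    rw [hI2]
    calc Xv = Xv * (θ ^ b * θi ^ b) := by rw [hθθia, mul_one]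
      _ = Xv * θ ^ b * θi ^ b := by ring
  have hϖ0 : ϖ ≠ 0 := by
    rw [hϖdef]
    exact div_ne_zero (pow_ne_zero _ hX0) (pow_ne_zero _ hY0)
  have hvY : W.valuation Yv < 1 := by
    rw [hYdef]
    exact hW.2 πB hπBm
  have hvϖ : W.valuation ϖ < 1 := by
    by_contra hge
    push Not at hge
    have h1 : 1 ≤ W.valuation ϖ ^ e'' := one_le_pow₀ hge
    rw [← map_pow, hI1, map_mul, map_pow, hvθ, one_pow, one_mul] at h1
    exact absurd hvY (not_lt.2 h1)
  -- the subring `D`
  obtain ⟨S₀, hS₀⟩ : ∃ S₀ : Set F, S₀ = Set.range gB ∪ Set.range fV ∪ {θ} ∪ {ϖ} := ⟨_, rfl⟩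
  have hBD : ∀ b, gB b ∈ Subring.closure S₀ := fun b =>
    Subring.subset_closure (by rw [hS₀]; exact Or.inl (Or.inl (Or.inl ⟨b, rfl⟩)))
  have hVD : ∀ c, fV c ∈ Subring.closure S₀ := fun c =>
    Subring.subset_closure (by rw [hS₀]; exact Or.inl (Or.inl (Or.inr ⟨c, rfl⟩)))
  have hθD : θ ∈ Subring.closure S₀ :=
    Subring.subset_closure (by rw [hS₀]; exact Or.inl (Or.inr rfl))
  have hϖD : ϖ ∈ Subring.closure S₀ :=
    Subring.subset_closure (by rw [hS₀]; exact Or.inr rfl)
  have hθiD : θi ∈ Subring.closure S₀ := by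
    rw [hθidef]
    exact Subring.mul_mem _ (Subring.mul_mem _ (Subring.pow_mem _ hθD _) (hBD _)) (hVD _)
  have hD : ∀ d ∈ Subring.closure S₀, W.valuation d ≤ 1 := by
    intro d hd
    induction hd using Subring.closure_induction with
    | mem x hx =>
      rw [hS₀] at hx
      rcases hx with ((⟨b, rfl⟩ | ⟨c, rfl⟩) | hx) | hx
      · exact hB b
      · exact hV c
      · rw [Set.mem_singleton_iff] at hx
        rw [hx, hvθ]
      · rw [Set.mem_singleton_iff] at hx
        rw [hx]
        exact hvϖ.le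
    | zero => simp
    | one => simp
    | add x y _ _ hx hy => exact (W.valuation.map_add x y).trans (max_le hx hy)
    | neg x _ hx => rwa [Valuation.map_neg]
    | mul x y _ _ hx hy =>
      rw [map_mul]
      exact mul_le_one' hx hy
  haveI halgV : Algebra.IsAlgebraic (ResidueField A)
      (ResidueField (W.comap (algebraMap K' F))) := Algebra.IsSeparable.isAlgebraic _ _
  have hred : IsReduced (ResidueField B ⊗[ResidueField A]
      ResidueField (W.comap (algebraMap K' F))) := isReduced_tensor_of_isSeparable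
  have hvnr : ∀ d ∈ Subring.closure S₀, ∃ y ∈ Subring.closure S₀, ∃ z ∈ Subring.closure S₀,
      d = d * d * y + ϖ * z := by
    let ϖD : Subring.closure S₀ := ⟨ϖ, hϖD⟩
    let I : Ideal (Subring.closure S₀) := Ideal.span {ϖD}
    let gB' : B →+* Subring.closure S₀ := gB.codRestrict (Subring.closure S₀) hBD
    let fV' : (W.comap (algebraMap K' F)) →+* Subring.closure S₀ :=
      fV.codRestrict (Subring.closure S₀) hVD
    let θD : Subring.closure S₀ := ⟨θ, hθD⟩
    let θiD : Subring.closure S₀ := ⟨θi, hθiD⟩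
    have hBz : ∀ b ∈ maximalIdeal B, Ideal.Quotient.mk I (gB' b) = 0 := by
      intro b hb
      rw [hπB.maximalIdeal_eq, Ideal.mem_span_singleton'] at hb
      obtain ⟨b', rfl⟩ := hb
      rw [Ideal.Quotient.eq_zero_iff_mem, Ideal.mem_span_singleton']
      refine ⟨gB' b' * (ϖD ^ (e'' - 1) * θiD ^ a), Subtype.ext ?_⟩
      show gB b' * (ϖ ^ (e'' - 1) * θi ^ a) * ϖ = gB (b' * πB)
      rw [map_mul, ← hYdef, hY]
      calc gB b' * (ϖ ^ (e'' - 1) * θi ^ a) * ϖ = gB b' * (ϖ ^ (e'' - 1 + 1) * θi ^ a) := by ring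
        _ = gB b' * (ϖ ^ e'' * θi ^ a) := by rw [Nat.sub_add_cancel he''0]
    have hVz : ∀ c ∈ maximalIdeal (W.comap (algebraMap K' F)),
        Ideal.Quotient.mk I (fV' c) = 0 := by
      intro c hc
      rw [hϖ₁.maximalIdeal_eq, Ideal.mem_span_singleton'] at hc
      obtain ⟨c', rfl⟩ := hc
      rw [Ideal.Quotient.eq_zero_iff_mem, Ideal.mem_span_singleton']
      refine ⟨fV' c' * (ϖD ^ (m'' - 1) * θiD ^ b), Subtype.ext ?_⟩
      show fV c' * (ϖ ^ (m'' - 1) * θi ^ b) * ϖ = fV (c' * ϖ₁)
      rw [map_mul, ← hXdef, hX]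
      calc fV c' * (ϖ ^ (m'' - 1) * θi ^ b) * ϖ = fV c' * (ϖ ^ (m'' - 1 + 1) * θi ^ b) := by ring
        _ = fV c' * (ϖ ^ m'' * θi ^ b) := by rw [Nat.sub_add_cancel hm''0]
    let φ : ResidueField B →+* Subring.closure S₀ ⧸ I :=
      Ideal.Quotient.lift (maximalIdeal B) ((Ideal.Quotient.mk I).comp gB') hBz
    let ψ : ResidueField (W.comap (algebraMap K' F)) →+* Subring.closure S₀ ⧸ I :=
      Ideal.Quotient.lift (maximalIdeal (W.comap (algebraMap K' F)))
        ((Ideal.Quotient.mk I).comp fV') hVz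
    have hφ : ∀ b, φ (residue B b) = Ideal.Quotient.mk I (gB' b) := fun _ => rfl
    have hψ : ∀ c, ψ (residue _ c) = Ideal.Quotient.mk I (fV' c) := fun _ => rfl
    have hcompat : ∀ x : ResidueField A,
        φ (algebraMap (ResidueField A) (ResidueField B) x) =
          ψ (algebraMap (ResidueField A) (ResidueField (W.comap (algebraMap K' F))) x) := by
      intro x
      obtain ⟨x, rfl⟩ := residue_surjective x
      rw [ResidueField.algebraMap_residue, ResidueField.algebraMap_residue, hφ, hψ]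
      congr 1
      exact Subtype.ext (hcomp x)
    have hθS : (Ideal.Quotient.mk I θD) ^ g =
        φ (residue B uB) * ψ (residue _ (↑uV⁻¹ : (W.comap (algebraMap K' F)))) := by
      rw [hφ, hψ, ← map_pow, ← map_mul]
      congr 1
      exact Subtype.ext hθg
    have hcl : ∀ s : Subring.closure S₀ ⧸ I,
        s ∈ Subring.closure (Set.range φ ∪ Set.range ψ ∪ {Ideal.Quotient.mk I θD}) := by
      intro s
      obtain ⟨d, rfl⟩ := Ideal.Quotient.mk_surjective s
      revert d
      apply closure_subtype_induction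
      · intro x hx
        have hx' := hx
        rw [hS₀] at hx'
        rcases hx' with ((⟨b, rfl⟩ | ⟨c, rfl⟩) | hx') | hx'
        · exact Subring.subset_closure (Or.inl (Or.inl ⟨residue B b, rfl⟩))
        · exact Subring.subset_closure (Or.inl (Or.inr ⟨residue _ c, rfl⟩))
        · rw [Set.mem_singleton_iff] at hx'
          subst hx'
          exact Subring.subset_closure (Or.inr rfl)
        · rw [Set.mem_singleton_iff] at hx'
          subst hx'
          have h0 : Ideal.Quotient.mk I ⟨x, Subring.subset_closure hx⟩ = 0 := by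
            rw [Ideal.Quotient.eq_zero_iff_mem]
            exact Ideal.mem_span_singleton_self _
          rw [h0]
          exact zero_mem _
      · rw [map_zero]; exact zero_mem _
      · rw [map_one]; exact one_mem _
      · intro a b ha hb; rw [map_add]; exact add_mem ha hb
      · intro a ha; rw [map_neg]; exact neg_mem ha
      · intro a b ha hb; rw [map_mul]; exact mul_mem ha hb
    have hne1 : residue B uB ≠ 0 := by
      rw [ne_eq, residue_eq_zero_iff]
      exact fun h => h uB.isUnit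
    have hne2 : residue (W.comap (algebraMap K' F))
        (↑uV⁻¹ : (W.comap (algebraMap K' F))) ≠ 0 := by
      rw [ne_eq, residue_eq_zero_iff]
      exact fun h => h uV⁻¹.isUnit
    intro d hd
    obtain ⟨y, hy⟩ := vnr_of_closure_red hred φ ψ hcompat g hgk (residue B uB) hne1
      (residue _ (↑uV⁻¹ : (W.comap (algebraMap K' F)))) hne2 (Ideal.Quotient.mk I θD) hθS hcl
      (Ideal.Quotient.mk I ⟨d, hd⟩)
    obtain ⟨⟨y, hyD⟩, rfl⟩ := Ideal.Quotient.mk_surjective y
    rw [← map_mul, ← map_mul, Ideal.Quotient.eq, Ideal.mem_span_singleton'] at hy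
    obtain ⟨⟨z, hzD⟩, hz⟩ := hy
    have hz' : z * ϖ = d - d * d * y := congrArg Subtype.val hz
    exact ⟨y, hyD, z, hzD, by linear_combination (-1 : F) * hz'⟩
  have hfrac : ∀ x : F, ∃ p ∈ Subring.closure S₀, ∃ q ∈ Subring.closure S₀, q ≠ 0 ∧ x * q = p := by
    intro x
    refine frac_of_adjoin (B := B) hadj (W.comap (algebraMap K' F)) (Subring.closure S₀) ?_ ?_ x
    · intro b
      have h := hBD b
      rwa [hgB] at h
    · intro c
      have h := hVD c
      rwa [hfVapp] at h
  haveI : FiniteDimensional L F := TotRam.finite_of_adjoin (K := K) hadj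
  letI algBF : Algebra B F := gB.toAlgebra
  haveI : IsScalarTower B L F := IsScalarTower.of_algebraMap_eq' hgB
  have halg : ∀ x : F, ∃ p : B[X], p ≠ 0 ∧ p.eval₂ gB x = 0 := by
    intro x
    have h1 : IsAlgebraic L x := Algebra.IsAlgebraic.isAlgebraic x
    have h2 : IsAlgebraic B x := (IsFractionRing.isAlgebraic_iff B L F).2 h1
    obtain ⟨p, hp0, hp⟩ := h2
    exact ⟨p, hp0, hp⟩
  have hy0 : algebraMap A (W.comap (algebraMap K' F)) πA ≠ 0 := by
    intro h
    apply hgπ0
    have := congrArg Subtype.val h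
    exact this
  have hyπ : W.valuation (fV (algebraMap A (W.comap (algebraMap K' F)) πA)) ≤
      W.valuation (gB πB) := by
    rw [← hcomp, ← hPdef, hPB, map_mul, val_unit W.valuation gB hB uB, one_mul, map_pow, ← hYdef]
    exact pow_le_of_le_one zero_le' hvY.le hm0
  have harch₁ : ∀ x : F, x ≠ 0 → ∃ n : ℕ, W.valuation (fV ϖ₁) ^ n < W.valuation x := fun x hx =>
    arch' W.valuation gB fV hB hV hVm halg πB hπB
      (algebraMap A (W.comap (algebraMap K' F)) πA) hy0 hyπ x hx ϖ₁ hϖ₁m
  have harch : ∀ x : F, x ≠ 0 → ∃ n : ℕ, W.valuation ϖ ^ n < W.valuation x := by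
    intro x hx
    obtain ⟨n, hn⟩ := harch₁ x hx
    refine ⟨m'' * n, ?_⟩
    rw [pow_mul, ← map_pow, hI2, map_mul, map_pow, hvθ, one_pow, mul_one, hXdef]
    exact hn
  have hwu := recog_wu W.valuation (Subring.closure S₀) ϖ hD hϖD hvnr hϖ0 hvϖ hfrac harch
  have hres := recog_res W.valuation (Subring.closure S₀) ϖ hD hϖD hvnr hϖ0 hvϖ hfrac harch
  have hDW : ∀ d ∈ Subring.closure S₀, d ∈ W := fun d hd =>
    (W.valuation_le_one_iff _).1 (hD d hd)
  -- conclusions
  letI algBW : Algebra B W := (RingHom.codRestrict gB W hW.1).toAlgebra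
  intro hloc
  have hϖW : ϖ ∈ W := hDW ϖ hϖD
  have hθiW : θi ∈ W := hDW θi hθiD
  have hϖWm : (⟨ϖ, hϖW⟩ : W) ∈ maximalIdeal W := (W.valuation_lt_one_iff _).2 hvϖ
  have hmW : maximalIdeal W = Ideal.span {(⟨ϖ, hϖW⟩ : W)} := by
    apply le_antisymm
    · intro x hx
      have hx1 : W.valuation (x : F) < 1 := (W.valuation_lt_one_iff x).1 hx
      obtain ⟨w, hw1, hxw⟩ := hwu (x : F) hx1
      rw [Ideal.mem_span_singleton']
      exact ⟨⟨w, (W.valuation_le_one_iff _).1 hw1⟩, Subtype.ext (by rw [hxw]; exact mul_comm _ _)⟩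
    · rw [Ideal.span_le, Set.singleton_subset_iff]
      exact hϖWm
  have hθiWu : IsUnit (⟨θi, hθiW⟩ : W) := (W.valuation_eq_one_iff _).2 hvθi
  have hmap : (maximalIdeal B).map (algebraMap B W) = maximalIdeal W ^ e'' := by
    rw [hπB.maximalIdeal_eq, Ideal.map_span, Set.image_singleton, hmW, Ideal.span_singleton_pow,
      Ideal.span_singleton_eq_span_singleton]
    have h1 : algebraMap B W πB = (⟨ϖ, hϖW⟩ : W) ^ e'' * (⟨θi, hθiW⟩ : W) ^ a := by
      apply Subtype.ext
      show gB πB = ϖ ^ e'' * θi ^ a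
      rw [← hYdef, hY]
    rw [h1]
    exact associated_mul_unit_left _ _ (hθiWu.pow a)
  have hidx : Ideal.ramificationIdx' (maximalIdeal B) (maximalIdeal W) = e'' := by
    apply Ideal.ramificationIdx'_spec
    · rw [hmap]
    · rw [hmap]
      intro hle
      rw [hmW, Ideal.span_singleton_pow, Ideal.span_singleton_pow,
        Ideal.span_singleton_le_span_singleton] at hle
      have hξ0 : (⟨ϖ, hϖW⟩ : W) ≠ 0 := fun h0 => hϖ0 (congrArg Subtype.val h0)
      have hξnu : ¬ IsUnit (⟨ϖ, hϖW⟩ : W) := (mem_maximalIdeal _).1 hϖWm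
      have h2 := (pow_dvd_pow_iff hξ0 hξnu).1 hle
      omega
  constructor
  swap
  · intro p hp hcp hdvd
    rw [hidx] at hdvd
    haveI := hcp
    have h1 : ((e : ℕ) : ResidueField B) = 0 := by
      rw [hee, Nat.cast_mul, (CharP.cast_eq_zero_iff (ResidueField B) p e'').2 hdvd, mul_zero]
    have h2 : ((e : ℕ) : ResidueField B) =
        algebraMap (ResidueField A) (ResidueField B) ((e : ℕ) : ResidueField A) :=
      (map_natCast _ e).symm
    rw [h2] at h1
    exact hek ((map_eq_zero _).1 h1)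
  · -- separability of the residue field extension
    obtain ⟨ψW, hψW⟩ : ∃ ψW : ResidueField (W.comap (algebraMap K' F)) →+* ResidueField W,
        ψW = ResidueField.map (EtRam.inclOfComap W (algebraMap K' F)) := ⟨_, rfl⟩
    have hψWres : ∀ c, ψW (residue _ c) = residue W ⟨fV c, hDW _ (hVD c)⟩ := by
      intro c
      rw [hψW, ResidueField.map_residue]
      congr 1
      exact Subtype.ext (hfVapp c).symm
    have hφWres : ∀ b, algebraMap (ResidueField B) (ResidueField W) (residue B b) =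
        residue W ⟨gB b, hDW _ (hBD b)⟩ := fun b => rfl
    have hcompat' : (algebraMap (ResidueField B) (ResidueField W)).comp
        (algebraMap (ResidueField A) (ResidueField B)) =
        ψW.comp (algebraMap (ResidueField A) (ResidueField (W.comap (algebraMap K' F)))) := by
      refine RingHom.ext fun x => ?_
      obtain ⟨x, rfl⟩ := residue_surjective x
      rw [RingHom.comp_apply, RingHom.comp_apply, ResidueField.algebraMap_residue, hφWres,
        ResidueField.algebraMap_residue, hψWres]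
      congr 1
      exact Subtype.ext (hcomp x)
    have hBmem : ∀ b, residue W ⟨gB b, hDW _ (hBD b)⟩ ∈
        separableClosure (ResidueField B) (ResidueField W) := by
      intro b
      rw [← hφWres]
      exact IntermediateField.algebraMap_mem _ _
    have hVmem : ∀ c, residue W ⟨fV c, hDW _ (hVD c)⟩ ∈
        separableClosure (ResidueField B) (ResidueField W) := by
      intro c
      rw [← hψWres, mem_separableClosure_iff]
      have hsp : (minpoly (ResidueField A) (residue _ c)).Separable :=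
        Algebra.IsSeparable.isSeparable (ResidueField A) (residue _ c)
      refine (hsp.map (f := algebraMap (ResidueField A) (ResidueField B))).of_dvd
        (minpoly.dvd (ResidueField B) _ ?_)
      rw [aeval_def, eval₂_map, hcompat', ← hom_eval₂, ← aeval_def, minpoly.aeval, map_zero]
    have hθW : θ ∈ W := hDW θ hθD
    have hθbar : (residue W ⟨θ, hθW⟩) ^ g =
        residue W ⟨gB uB, hDW _ (hBD uB)⟩ *
          residue W ⟨fV (↑uV⁻¹ : (W.comap (algebraMap K' F))), hDW _ (hVD _)⟩ := by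
      rw [← map_pow, ← map_mul]
      congr 1
      exact Subtype.ext hθg
    have hθmem : residue W ⟨θ, hθW⟩ ∈ separableClosure (ResidueField B) (ResidueField W) := by
      rw [mem_separableClosure_iff]
      have hcmem : residue W ⟨gB uB, hDW _ (hBD uB)⟩ *
          residue W ⟨fV (↑uV⁻¹ : (W.comap (algebraMap K' F))), hDW _ (hVD _)⟩ ∈
          separableClosure (ResidueField B) (ResidueField W) := mul_mem (hBmem _) (hVmem _)
      obtain ⟨cE, hcE⟩ : ∃ cE : separableClosure (ResidueField B) (ResidueField W),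
          (cE : ResidueField W) = residue W ⟨gB uB, hDW _ (hBD uB)⟩ *
            residue W ⟨fV (↑uV⁻¹ : (W.comap (algebraMap K' F))), hDW _ (hVD _)⟩ :=
        ⟨⟨_, hcmem⟩, rfl⟩
      have hθbar0 : residue W ⟨θ, hθW⟩ ≠ 0 := by
        rw [ne_eq, residue_eq_zero_iff]
        exact fun hmem => (mem_maximalIdeal _).1 hmem ((W.valuation_eq_one_iff _).2 hvθ)
      have hcE0 : cE ≠ 0 := by
        intro h0
        have h1 : (cE : ResidueField W) = 0 := by rw [h0]; rfl
        rw [hcE, ← hθbar] at h1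
        exact hθbar0 (pow_eq_zero_iff hg0.ne' |>.1 h1)
      have hgE : ((g : ℕ) : separableClosure (ResidueField B) (ResidueField W)) ≠ 0 := by
        intro h0
        have h1 : algebraMap (ResidueField B) (ResidueField W)
            (algebraMap (ResidueField A) (ResidueField B) ((g : ℕ) : ResidueField A)) = 0 := by
          rw [map_natCast, map_natCast]
          have h2 := congrArg (algebraMap (separableClosure (ResidueField B) (ResidueField W))
            (ResidueField W)) h0
          rwa [map_natCast, map_zero] at h2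
        exact hgk ((map_eq_zero _).1 ((map_eq_zero _).1 h1))
      have hsepq : (X ^ g - C cE : (separableClosure (ResidueField B) (ResidueField W))[X]).Separable :=
        separable_X_pow_sub_C cE hgE hcE0
      have hsepE : IsSeparable (separableClosure (ResidueField B) (ResidueField W))
          (residue W ⟨θ, hθW⟩) := by
        refine hsepq.of_dvd (minpoly.dvd _ _ ?_)
        rw [map_sub, map_pow, aeval_X, aeval_C, IntermediateField.algebraMap_apply, hcE, hθbar,
          sub_self]
      exact IsSeparable.of_algebra_isSeparable_of_isSeparable (ResidueField B) hsepE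
    have hϖmem : residue W ⟨ϖ, hϖW⟩ ∈ separableClosure (ResidueField B) (ResidueField W) := by
      rw [(residue_eq_zero_iff _).2 hϖWm]
      exact zero_mem _
    rw [← separableClosure.eq_top_iff, eq_top_iff]
    intro wbar _
    obtain ⟨w, rfl⟩ := residue_surjective wbar
    obtain ⟨d, hd, hdw⟩ := hres (w : F) (W.valuation_le_one w)
    have hcl : ∀ d' : Subring.closure S₀, residue W ⟨d'.1, hDW d'.1 d'.2⟩ ∈
        separableClosure (ResidueField B) (ResidueField W) := by
      apply closure_subtype_induction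
      · intro x hx
        have hx' := hx
        rw [hS₀] at hx'
        rcases hx' with ((⟨b, rfl⟩ | ⟨c, rfl⟩) | hx') | hx'
        · exact hBmem b
        · exact hVmem c
        · rw [Set.mem_singleton_iff] at hx'
          subst hx'
          exact hθmem
        · rw [Set.mem_singleton_iff] at hx'
          subst hx'
          exact hϖmem
      · have e0 : (⟨(0 : Subring.closure S₀).1, hDW _ (0 : Subring.closure S₀).2⟩ : W) = 0 := rfl
        rw [e0, map_zero]
        exact zero_mem _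
      · have e1 : (⟨(1 : Subring.closure S₀).1, hDW _ (1 : Subring.closure S₀).2⟩ : W) = 1 := rfl
        rw [e1, map_one]
        exact one_mem _
      · intro a b ha hb
        have e2 : (⟨(a + b).1, hDW _ (a + b).2⟩ : W) =
            ⟨a.1, hDW _ a.2⟩ + ⟨b.1, hDW _ b.2⟩ := rfl
        rw [e2, map_add]
        exact add_mem ha hb
      · intro a ha
        have e3 : (⟨(-a).1, hDW _ (-a).2⟩ : W) = -⟨a.1, hDW _ a.2⟩ := rfl
        rw [e3, map_neg]
        exact neg_mem ha
      · intro a b ha hb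
        have e4 : (⟨(a * b).1, hDW _ (a * b).2⟩ : W) =
            ⟨a.1, hDW _ a.2⟩ * ⟨b.1, hDW _ b.2⟩ := rfl
        rw [e4, map_mul]
        exact mul_mem ha hb
    have e : residue W w = residue W ⟨d, hDW d hd⟩ := by
      rw [← sub_eq_zero, ← map_sub, residue_eq_zero_iff, ValuationSubring.valuation_lt_one_iff]
      exact hdw
    rw [e]
    exact hcl ⟨d, hd⟩

end Main

end Groth.Agent.Helper8.Tm
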