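import Mathlib

/-!
# TmF: classes of finite separable field extensions closed under subextensions and composita
are closed under Galois closures (generic field theory for S1991)
-/

set_option autoImplicit false
set_option linter.unusedSectionVars false
universe u

namespace Groth.Agent.Helper8.Tm

open IntermediateField

section Generic

variable (K : Type u) [Field K] (P : ∀ (M : Type u) [Field M] [Algebra K M], Prop)

/-- a class of finite separable extensions of `K` closed under subextensions and composita -/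
structure GoodClass : Prop where
  down : ∀ (L M : Type u) [Field L] [Field M] [Algebra K L] [Algebra K M] [Algebra L M]
    [IsScalarTower K L M] [FiniteDimensional K M] [Algebra.IsSeparable K M], P M → P L
  comp : ∀ (L₁ L₂ M : Type u) [Field L₁] [Field L₂] [Field M] [Algebra K L₁] [Algebra K L₂]
    [Algebra K M] [Algebra L₁ M] [Algebra L₂ M] [IsScalarTower K L₁ M] [IsScalarTower K L₂ M]
    [FiniteDimensional K L₁] [FiniteDimensional K L₂] [Algebra.IsSeparable K L₁]
    [Algebra.IsSeparable K L₂] [FiniteDimensional K M] [Algebra.IsSeparable K M],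
    Algebra.adjoin L₁ (Set.range (algebraMap L₂ M)) = ⊤ → P L₁ → P L₂ → P M

variable {K P}

/-- the property for intermediate fields -/
def QP (P : ∀ (M : Type u) [Field M] [Algebra K M], Prop) {Ω : Type u} [Field Ω] [Algebra K Ω]
    (E : IntermediateField K Ω) : Prop :=
  FiniteDimensional K E ∧ Algebra.IsSeparable K E ∧ P E

variable {Ω : Type u} [Field Ω] [Algebra K Ω]

theorem adjoin_sup_eq_top (E₁ E₂ : IntermediateField K Ω) [FiniteDimensional K E₁] :
    letI : Algebra E₁ (E₁ ⊔ E₂ : IntermediateField K Ω) :=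
      (IntermediateField.inclusion (le_sup_left : E₁ ≤ E₁ ⊔ E₂)).toRingHom.toAlgebra
    Algebra.adjoin E₁ (Set.range (IntermediateField.inclusion (le_sup_right : E₂ ≤ E₁ ⊔ E₂))) =
      ⊤ := by
  letI : Algebra E₁ (E₁ ⊔ E₂ : IntermediateField K Ω) :=
    (IntermediateField.inclusion (le_sup_left : E₁ ≤ E₁ ⊔ E₂)).toRingHom.toAlgebra
  rw [eq_top_iff]
  rintro ⟨x, hx⟩ -
  have hx' : x ∈ (E₁ ⊔ E₂).toSubalgebra := hx
  have hsup : (E₁ ⊔ E₂).toSubalgebra =
      Algebra.adjoin K ((E₁ : Set Ω) ∪ (E₂ : Set Ω)) := by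
    rw [sup_toSubalgebra_of_left, Algebra.adjoin_union]
    congr 1
    · exact (Algebra.adjoin_eq E₁.toSubalgebra).symm
    · exact (Algebra.adjoin_eq E₂.toSubalgebra).symm
  have hle : ∀ y, y ∈ Algebra.adjoin K ((E₁ : Set Ω) ∪ (E₂ : Set Ω)) → y ∈ E₁ ⊔ E₂ := by
    intro y hy
    rw [← hsup] at hy
    exact hy
  rw [hsup] at hx'
  have key : ∀ (y : Ω) (hy : y ∈ Algebra.adjoin K ((E₁ : Set Ω) ∪ (E₂ : Set Ω))),
      (⟨y, hle y hy⟩ : (E₁ ⊔ E₂ : IntermediateField K Ω)) ∈
        Algebra.adjoin E₁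
          (Set.range (IntermediateField.inclusion (le_sup_right : E₂ ≤ E₁ ⊔ E₂))) := by
    intro y hy
    induction hy using Algebra.adjoin_induction with
    | mem y hy =>
      rcases hy with hy | hy
      · exact Subalgebra.algebraMap_mem _ (⟨y, hy⟩ : E₁)
      · exact Algebra.subset_adjoin ⟨⟨y, hy⟩, rfl⟩
    | algebraMap r =>
      exact Subalgebra.algebraMap_mem _ (algebraMap K E₁ r)
    | add y z hy hz ihy ihz =>
      exact add_mem ihy ihz
    | mul y z hy hz ihy ihz =>
      exact mul_mem ihy ihz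
  exact key x hx'

theorem QP_sup (hP : GoodClass K P) (E₁ E₂ : IntermediateField K Ω) (h₁ : QP P E₁)
    (h₂ : QP P E₂) : QP P (E₁ ⊔ E₂) := by
  obtain ⟨hf₁, hs₁, hp₁⟩ := h₁
  obtain ⟨hf₂, hs₂, hp₂⟩ := h₂
  haveI := hf₁
  haveI := hf₂
  haveI := hs₁
  haveI := hs₂
  refine ⟨inferInstance, inferInstance, ?_⟩
  letI alg1 : Algebra E₁ (E₁ ⊔ E₂ : IntermediateField K Ω) :=
    (IntermediateField.inclusion (le_sup_left : E₁ ≤ E₁ ⊔ E₂)).toRingHom.toAlgebra
  letI alg2 : Algebra E₂ (E₁ ⊔ E₂ : IntermediateField K Ω) :=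
    (IntermediateField.inclusion (le_sup_right : E₂ ≤ E₁ ⊔ E₂)).toRingHom.toAlgebra
  haveI : IsScalarTower K E₁ (E₁ ⊔ E₂ : IntermediateField K Ω) :=
    IsScalarTower.of_algebraMap_eq (fun k => rfl)
  haveI : IsScalarTower K E₂ (E₁ ⊔ E₂ : IntermediateField K Ω) :=
    IsScalarTower.of_algebraMap_eq (fun k => rfl)
  exact hP.comp E₁ E₂ (E₁ ⊔ E₂ : IntermediateField K Ω) (adjoin_sup_eq_top E₁ E₂) hp₁ hp₂

theorem QP_fieldRange (hP : GoodClass K P) (L : Type u) [Field L] [Algebra K L]
    [FiniteDimensional K L] [Algebra.IsSeparable K L] (hL : P L) (f : L →ₐ[K] Ω) :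
    QP P f.fieldRange := by
  have hfin : FiniteDimensional K f.fieldRange :=
    Module.Finite.equiv (AlgEquiv.ofInjectiveField f).toLinearEquiv
  have hsep : Algebra.IsSeparable K f.fieldRange :=
    Algebra.IsSeparable.of_algHom K L (AlgEquiv.ofInjectiveField f).symm.toAlgHom
  refine ⟨hfin, hsep, ?_⟩
  letI : Algebra f.fieldRange L := (AlgEquiv.ofInjectiveField f).symm.toAlgHom.toRingHom.toAlgebra
  haveI : IsScalarTower K f.fieldRange L :=
    IsScalarTower.of_algebraMap_eq
      (fun k => ((AlgEquiv.ofInjectiveField f).symm.commutes k).symm)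
  exact hP.down f.fieldRange L hL

theorem QP_finset_sup (hP : GoodClass K P) {ι : Type*} (F : ι → IntermediateField K Ω)
    (s : Finset ι) (hs : s.Nonempty) : (∀ i ∈ s, QP P (F i)) → QP P (s.sup F) := by
  induction hs using Finset.Nonempty.cons_induction with
  | singleton a =>
    intro h
    rw [Finset.sup_singleton]
    exact h a (Finset.mem_singleton_self a)
  | cons a s ha hs ih =>
    intro h
    rw [Finset.sup_cons]
    exact QP_sup hP _ _ (h a (Finset.mem_cons_self a s))
      (ih (fun i hi => h i (Finset.mem_cons_of_mem hi)))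

theorem exists_galois (hP : GoodClass K P) (L : Type u) [Field L] [Algebra K L]
    [FiniteDimensional K L] [Algebra.IsSeparable K L] (hL : P L) :
    ∃ (M : Type u) (_ : Field M) (_ : Algebra K M) (_ : FiniteDimensional K M)
      (_ : IsGalois K M) (_ : L →ₐ[K] M), P M := by
  classical
  obtain ⟨ι⟩ : Nonempty (L →ₐ[K] AlgebraicClosure K) := ⟨IsAlgClosed.lift⟩
  have hQ : QP P (IntermediateField.normalClosure K L (AlgebraicClosure K)) := by
    rw [normalClosure_def, ← Finset.sup_univ_eq_iSup]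
    exact QP_finset_sup hP (fun f : L →ₐ[K] AlgebraicClosure K => f.fieldRange) Finset.univ
      ⟨ι, Finset.mem_univ ι⟩ (fun f _ => QP_fieldRange hP L hL f)
  obtain ⟨hfin, hsep, hp⟩ := hQ
  haveI := hsep
  exact ⟨IntermediateField.normalClosure K L (AlgebraicClosure K), inferInstance, inferInstance,
    hfin, IsGalois.mk, (normalClosure.algHomEquiv K L (AlgebraicClosure K)).symm ι, hp⟩

theorem exists_compositum (hP : GoodClass K P) (L₁ L₂ : Type u) [Field L₁] [Field L₂]
    [Algebra K L₁] [Algebra K L₂] [FiniteDimensional K L₁] [FiniteDimensional K L₂]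
    [Algebra.IsSeparable K L₁] [Algebra.IsSeparable K L₂] (h₁ : P L₁) (h₂ : P L₂) :
    ∃ (M : Type u) (_ : Field M) (_ : Algebra K M) (_ : FiniteDimensional K M)
      (_ : Algebra.IsSeparable K M) (_ : L₁ →ₐ[K] M) (_ : L₂ →ₐ[K] M), P M := by
  obtain ⟨ι₁⟩ : Nonempty (L₁ →ₐ[K] AlgebraicClosure K) := ⟨IsAlgClosed.lift⟩
  obtain ⟨ι₂⟩ : Nonempty (L₂ →ₐ[K] AlgebraicClosure K) := ⟨IsAlgClosed.lift⟩
  obtain ⟨hfin, hsep, hp⟩ := QP_sup hP _ _ (QP_fieldRange hP L₁ h₁ ι₁) (QP_fieldRange hP L₂ h₂ ι₂)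
  exact ⟨(ι₁.fieldRange ⊔ ι₂.fieldRange : IntermediateField K (AlgebraicClosure K)),
    inferInstance, inferInstance, hfin, hsep,
    (IntermediateField.inclusion le_sup_left).comp (AlgEquiv.ofInjectiveField ι₁).toAlgHom,
    (IntermediateField.inclusion le_sup_right).comp (AlgEquiv.ofInjectiveField ι₂).toAlgHom, hp⟩

end Generic

end Groth.Agent.Helper8.Tm
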