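import Mathlib
import Groth.Prelude.Def_EtRam
import Groth.Agent.S1989
import Groth.Agent.S1990
import Groth.Agent.Helper7.DomValI
import Groth.Agent.Helper8.TmE
import Groth.Agent.Helper8.TmF

/-!
# TmG: unramified and tamely ramified extensions form good classes (S1991)
-/

set_option autoImplicit false
set_option linter.unusedSectionVars false
universe u

namespace Groth.Agent.Helper8.Tm

open IsLocalRing TensorProduct
open Groth.Agent.Helper7

section Classes

variable (A K : Type u) [CommRing A] [IsDomain A] [IsDiscreteValuationRing A] [Field K]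
  [Algebra A K] [IsFractionRing A K]

theorem goodClass_tame : GoodClass K (fun (M : Type u) [Field M] [Algebra K M] =>
    EtRam.IsTamelyRamified A ((algebraMap K M).comp (algebraMap A K))) where
  down := fun L M _ _ _ _ _ _ _ _ h => (Groth.Agent.S1989.result A K L M).1 h
  comp := by
    intro L₁ L₂ M _ _ _ _ _ _ _ _ _ _ _ _ _ _ _ _ hadj h₁ h₂
    refine (Groth.Agent.S1990.result A K L₁ M).1 h₁ ?_
    intro V hV
    letI algAL₁ : Algebra A L₁ := ((algebraMap K L₁).comp (algebraMap A K)).toAlgebra
    haveI : IsScalarTower A K L₁ := IsScalarTower.of_algebraMap_eq' rfl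
    letI algAV : Algebra A V :=
      (RingHom.codRestrict ((algebraMap K L₁).comp (algebraMap A K)) V hV.1).toAlgebra
    haveI : IsLocalHom (algebraMap A V) := DomVal.isLocalHom_codRestrict _ V hV
    haveI : IsDiscreteValuationRing V := DomVal.isDVR_of_dominates (K := K) V hV
    haveI : IsScalarTower A V L₁ := IsScalarTower.of_algebraMap_eq' rfl
    have hinj : Function.Injective (algebraMap A V) := by
      intro x y hxy
      have h1 : (algebraMap K L₁) (algebraMap A K x) = (algebraMap K L₁) (algebraMap A K y) :=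
        congrArg Subtype.val hxy
      exact IsFractionRing.injective A K ((algebraMap K L₁).injective h1)
    exact tame_core A V K L₁ L₂ M hinj h₂ hadj

theorem goodClass_unram : GoodClass K (fun (M : Type u) [Field M] [Algebra K M] =>
    EtRam.IsUnramifiedExt A ((algebraMap K M).comp (algebraMap A K))) where
  down := fun L M _ _ _ _ _ _ _ _ h => (Groth.Agent.S1989.result A K L M).2 h
  comp := by
    intro L₁ L₂ M _ _ _ _ _ _ _ _ _ _ _ _ _ _ _ _ hadj h₁ h₂
    refine (Groth.Agent.S1990.result A K L₁ M).2 h₁ ?_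
    intro V hV
    letI algAL₁ : Algebra A L₁ := ((algebraMap K L₁).comp (algebraMap A K)).toAlgebra
    haveI : IsScalarTower A K L₁ := IsScalarTower.of_algebraMap_eq' rfl
    letI algAV : Algebra A V :=
      (RingHom.codRestrict ((algebraMap K L₁).comp (algebraMap A K)) V hV.1).toAlgebra
    haveI : IsLocalHom (algebraMap A V) := DomVal.isLocalHom_codRestrict _ V hV
    haveI : IsDiscreteValuationRing V := DomVal.isDVR_of_dominates (K := K) V hV
    haveI : IsScalarTower A V L₁ := IsScalarTower.of_algebraMap_eq' rfl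
    letI algT : Algebra (L₂ ⊗[K] L₁) M :=
      (Algebra.TensorProduct.productMap (IsScalarTower.toAlgHom K L₂ M)
        (IsScalarTower.toAlgHom K L₁ M)).toRingHom.toAlgebra
    have hφ : ∀ (y : L₂) (l : L₁), algebraMap (L₂ ⊗[K] L₁) M (y ⊗ₜ[K] l) =
        algebraMap L₂ M y * algebraMap L₁ M l := by
      intro y l
      show Algebra.TensorProduct.productMap _ _ (y ⊗ₜ[K] l) = _
      rw [Algebra.TensorProduct.productMap_apply_tmul]
      rfl
    have hsurj : Function.Surjective (algebraMap (L₂ ⊗[K] L₁) M) := by
      intro x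
      have hx : x ∈ Algebra.adjoin L₁ (Set.range (algebraMap L₂ M)) := by rw [hadj]; trivial
      induction hx using Algebra.adjoin_induction with
      | mem x hx =>
        obtain ⟨y, rfl⟩ := hx
        exact ⟨y ⊗ₜ[K] 1, by rw [hφ, map_one, mul_one]⟩
      | algebraMap l => exact ⟨1 ⊗ₜ[K] l, by rw [hφ, map_one, one_mul]⟩
      | add x y _ _ hx hy =>
        obtain ⟨a, rfl⟩ := hx
        obtain ⟨b, rfl⟩ := hy
        exact ⟨a + b, map_add _ _ _⟩
      | mul x y _ _ hx hy =>
        obtain ⟨a, rfl⟩ := hx
        obtain ⟨b, rfl⟩ := hy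
        exact ⟨a * b, map_mul _ _ _⟩
    have key := DomVal.unramified_baseChange (A := A) (B := V) (K := K) (L := L₁) (K' := L₂)
      h₂ M hsurj
    have heq : (algebraMap (L₂ ⊗[K] L₁) M).comp
        ((Algebra.TensorProduct.includeRight : L₁ →ₐ[K] L₂ ⊗[K] L₁).toRingHom.comp
          (algebraMap V L₁)) = (algebraMap L₁ M).comp V.subtype := by
      refine RingHom.ext fun x => ?_
      show algebraMap (L₂ ⊗[K] L₁) M ((1 : L₂) ⊗ₜ[K] (x : L₁)) = algebraMap L₁ M (x : L₁)
      rw [hφ, map_one, one_mul]
    rw [heq] at key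
    exact key

end Classes

end Groth.Agent.Helper8.Tm
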