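import Mathlib.NumberTheory.Bernoulli
import Mathlib.RingTheory.PowerSeries.Inverse
import Mathlib.RingTheory.PowerSeries.Exp
import Mathlib.Tactic.Ring
import Mathlib.Tactic.Linarith
import Mathlib.Algebra.Polynomial.Degree.Defs
import Mathlib.Algebra.Polynomial.Eval.Defs
import Mathlib.Algebra.Polynomial.Degree.Lemmas
import Mathlib.Algebra.Polynomial.Eval.Degree

/-! The Todd product `B(-dx)⁻¹ B(-dpx) B(x)^(n+1) e^((dp-d-n-1+s)x)`. -/

set_option autoImplicit false

namespace Groth.Agent.Helper8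

open PowerSeries

/-- `B(x) = B(-x) e^x`. -/
theorem todd_eq_rescale_neg_one_mul_exp :
    bernoulli'PowerSeries ℚ = rescale (-1 : ℚ) (bernoulli'PowerSeries ℚ) * exp ℚ := by
  have hB : rescale (-1 : ℚ) (bernoulli'PowerSeries ℚ) = bernoulliPowerSeries ℚ := by
    ext n
    rw [coeff_rescale, bernoulli'PowerSeries, bernoulliPowerSeries, coeff_mk, coeff_mk, bernoulli]
    simp only [eq_ratCast, Rat.cast_eq_id, id_eq]
    ring
  rw [hB]
  have h1 := bernoulli'PowerSeries_mul_exp_sub_one ℚ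
  have h2 := bernoulliPowerSeries_mul_exp_sub_one ℚ
  have h3 : (bernoulli'PowerSeries ℚ - bernoulliPowerSeries ℚ * exp ℚ) * (exp ℚ - 1) = 0 := by
    have : (bernoulli'PowerSeries ℚ - bernoulliPowerSeries ℚ * exp ℚ) * (exp ℚ - 1) =
        bernoulli'PowerSeries ℚ * (exp ℚ - 1) - (bernoulliPowerSeries ℚ * (exp ℚ - 1)) * exp ℚ := by ring
    rw [this, h1, h2, sub_self]
  have hne : (exp ℚ - 1 : PowerSeries ℚ) ≠ 0 := by
    intro h
    have := congrArg (coeff 1) h
    rw [map_sub, coeff_exp, coeff_one] at this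
    norm_num at this
  rcases mul_eq_zero.mp h3 with h | h
  · exact sub_eq_zero.mp h
  · exact absurd h hne

/-- `B(-ax) e^(ax) = B(ax)`. -/
theorem todd_key (a : ℚ) :
    rescale (-a) (bernoulli'PowerSeries ℚ) * rescale a (exp ℚ) = rescale a (bernoulli'PowerSeries ℚ) := by
  conv_rhs => rw [todd_eq_rescale_neg_one_mul_exp]
  rw [map_mul, rescale_rescale]
  have h : (-1 : ℚ) * a = -a := by ring
  rw [h]

/-- The `p`-independent factor of the Todd product. -/
noncomputable def toddH (n d : ℕ) (s : ℤ) : PowerSeries ℚ :=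
  (rescale (-(d : ℚ)) (bernoulli'PowerSeries ℚ))⁻¹ * bernoulli'PowerSeries ℚ ^ (n + 1) *
    rescale (-(d : ℚ) - n - 1 + s) (exp ℚ)

theorem todd_product_eq (n d p : ℕ) (s : ℤ) :
    (rescale (-(d : ℚ)) (bernoulli'PowerSeries ℚ))⁻¹ *
        rescale (-((d : ℚ) * p)) (bernoulli'PowerSeries ℚ) * bernoulli'PowerSeries ℚ ^ (n + 1) *
        rescale ((d : ℚ) * p - d - n - 1 + s) (exp ℚ) =
      toddH n d s * rescale ((d : ℚ) * p) (bernoulli'PowerSeries ℚ) := by
  have h1 : rescale ((d : ℚ) * p - d - n - 1 + s) (exp ℚ) =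
      rescale ((d : ℚ) * p) (exp ℚ) * rescale (-(d : ℚ) - n - 1 + s) (exp ℚ) := by
    rw [exp_mul_exp_eq_exp_add]
    congr 2
    ring
  rw [h1, ← todd_key ((d : ℚ) * p), toddH]
  ring

theorem coeff_bernoulli' (j : ℕ) :
    coeff j (bernoulli'PowerSeries ℚ) = bernoulli' j / (Nat.factorial j : ℚ) := by
  rw [bernoulli'PowerSeries, coeff_mk]
  simp

theorem constantCoeff_bernoulli' : constantCoeff (bernoulli'PowerSeries ℚ) = 1 := by
  rw [← coeff_zero_eq_constantCoeff_apply, coeff_bernoulli']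
  simp

theorem constantCoeff_rescale' (a : ℚ) (f : PowerSeries ℚ) :
    constantCoeff (rescale a f) = constantCoeff f := by
  rw [← coeff_zero_eq_constantCoeff_apply, coeff_rescale]
  simp

theorem coeff_one_rescale' (a : ℚ) (f : PowerSeries ℚ) :
    coeff 1 (rescale a f) = a * coeff 1 f := by
  rw [coeff_rescale]
  simp

theorem coeff_one_inv' (f : PowerSeries ℚ) (hf : constantCoeff f = 1) :
    coeff 1 f⁻¹ = - coeff 1 f := by
  rw [coeff_inv]
  have : Finset.antidiagonal 1 = {(0, 1), (1, 0)} := rfl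
  rw [this, Finset.sum_insert (by decide), Finset.sum_singleton]
  simp [hf]

theorem constantCoeff_toddH (n d : ℕ) (s : ℤ) : coeff 0 (toddH n d s) = 1 := by
  rw [coeff_zero_eq_constantCoeff_apply, toddH]
  simp [constantCoeff_rescale', constantCoeff_bernoulli']

theorem coeff_one_toddH (n d : ℕ) (s : ℤ) :
    coeff 1 (toddH n d s) = (2 * (s : ℚ) - d - n - 1) / 2 := by
  have hT1 : coeff 1 (bernoulli'PowerSeries ℚ) = 1 / 2 := by
    rw [coeff_bernoulli']; simp [bernoulli'_one]
  have he0 : constantCoeff (exp ℚ) = 1 := by simp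
  have he1 : coeff 1 (exp ℚ) = 1 := by rw [coeff_exp]; simp
  rw [toddH, coeff_one_mul, coeff_one_mul, coeff_one_pow,
    coeff_one_inv' _ (by rw [constantCoeff_rescale', constantCoeff_bernoulli'])]
  simp only [map_mul, map_pow, constantCoeff_inv, constantCoeff_rescale', coeff_one_rescale',
    constantCoeff_bernoulli', hT1, he0, he1]
  push_cast
  ring

/-- The coefficient of `x^n` in the Todd product, as a sum over the antidiagonal. -/
theorem coeff_todd_product (n d p : ℕ) (s : ℤ) :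
    coeff n ((rescale (-(d : ℚ)) (bernoulli'PowerSeries ℚ))⁻¹ *
        rescale (-((d : ℚ) * p)) (bernoulli'PowerSeries ℚ) * bernoulli'PowerSeries ℚ ^ (n + 1) *
        rescale ((d : ℚ) * p - d - n - 1 + s) (exp ℚ)) =
      ∑ x ∈ Finset.antidiagonal n, coeff x.1 (toddH n d s) *
        (((d : ℚ) * p) ^ x.2 * (bernoulli' x.2 / (Nat.factorial x.2 : ℚ))) := by
  rw [todd_product_eq, coeff_mul]
  refine Finset.sum_congr rfl fun x _ => ?_
  rw [coeff_rescale, coeff_bernoulli']

/-- The two leading terms of the Todd coefficient as a polynomial in `p`. -/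
theorem todd_leading (n d : ℕ) (s : ℤ) (hn : 2 ≤ n) :
    ∃ P : Polynomial ℚ, P.natDegree ≤ n - 2 ∧ ∀ p : ℕ,
      coeff n ((rescale (-(d : ℚ)) (bernoulli'PowerSeries ℚ))⁻¹ *
        rescale (-((d : ℚ) * p)) (bernoulli'PowerSeries ℚ) * bernoulli'PowerSeries ℚ ^ (n + 1) *
        rescale ((d : ℚ) * p - d - n - 1 + s) (exp ℚ)) =
        bernoulli' n * ((d : ℚ) * p) ^ n / (Nat.factorial n : ℚ) +
          (2 * (s : ℚ) - d - n - 1) / 2 * bernoulli' (n - 1) * ((d : ℚ) * p) ^ (n - 1) /
            (Nat.factorial (n - 1) : ℚ) +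
          P.eval (p : ℚ) := by
  obtain ⟨m, rfl⟩ : ∃ m, n = m + 2 := ⟨n - 2, by omega⟩
  refine ⟨∑ x ∈ Finset.antidiagonal m,
    Polynomial.C (coeff (x.1 + 1 + 1) (toddH (m + 2) d s) *
      ((d : ℚ) ^ x.2 * (bernoulli' x.2 / (Nat.factorial x.2 : ℚ)))) * Polynomial.X ^ x.2, ?_, ?_⟩
  · refine Polynomial.natDegree_sum_le_of_forall_le _ _ fun x hx => ?_
    refine (Polynomial.natDegree_C_mul_X_pow_le _ _).trans ?_
    have h2 := Finset.mem_antidiagonal.mp hx
    omega
  · intro p
    rw [coeff_todd_product, Finset.Nat.sum_antidiagonal_succ, Finset.Nat.sum_antidiagonal_succ,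
      constantCoeff_toddH, coeff_one_toddH, Polynomial.eval_finsetSum]
    simp only [Polynomial.eval_mul, Polynomial.eval_C, Polynomial.eval_pow, Polynomial.eval_X]
    have h21 : m + 2 - 1 = m + 1 := by omega
    rw [h21, ← add_assoc]
    congr 1
    · congr 1
      · ring
      · ring
    · refine Finset.sum_congr rfl fun x _ => ?_
      ring

end Groth.Agent.Helper8
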