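import Mathlib

set_option autoImplicit false

namespace Groth.Agent.Helper8.ToddRR
open PowerSeries

local notation "E" => PowerSeries.exp ℚ
local notation "D" => PowerSeries.derivative ℚ

/-- `e^{at}` -/
noncomputable def ex (a : ℚ) : PowerSeries ℚ := rescale a E

lemma ex_add (a b : ℚ) : ex a * ex b = ex (a + b) := exp_mul_exp_eq_exp_add a b

lemma ex_one : ex 1 = E := by simp [ex]

lemma ex_zero : ex 0 = 1 := by
  ext n
  simp [ex, coeff_one]

lemma ex_neg_mul : ex (-1) * E = 1 := by
  rw [← ex_one, ex_add]; norm_num [ex_zero]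

lemma constantCoeff_ex (a : ℚ) : constantCoeff (ex a) = 1 := by
  rw [← coeff_zero_eq_constantCoeff_apply, ex, coeff_rescale]; simp

/-- the shifted exponential `(e^t - 1)/t` -/
noncomputable def u : PowerSeries ℚ := mk fun p => coeff (p + 1) E

lemma E_sub_one : E - 1 = X * u := by
  have := eq_X_mul_shift_add_const E
  rw [constantCoeff_exp] at this
  conv_lhs => rw [this]
  simp [u]

lemma constantCoeff_u : constantCoeff u = 1 := by
  simp [u, coeff_exp]

lemma E_sub_one_ne : E - 1 ≠ 0 := by
  rw [E_sub_one]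
  refine mul_ne_zero X_ne_zero ?_
  intro h
  have := constantCoeff_u
  rw [h] at this
  simp at this

section
variable (f : PowerSeries ℚ) (hf : f * (E - 1) = X * E)
include hf

lemma f_mul_u : f * u = E := by
  have : X * (f * u) = X * E := by rw [← hf, E_sub_one]; ring
  exact mul_left_cancel₀ X_ne_zero this

lemma constantCoeff_f : constantCoeff f = 1 := by
  have := congrArg constantCoeff (f_mul_u f hf)
  rw [map_mul, constantCoeff_u, mul_one, constantCoeff_exp] at this
  exact this

lemma key : X * D f = f - ex (-1) * f ^ 2 := by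
  have h1 : (E - 1) * D f = X * E + E - f * E := by
    have := congrArg D hf
    rw [Derivation.leibniz, Derivation.leibniz, map_sub, derivative_exp, derivative_one,
      derivative_X, sub_zero] at this
    simp only [smul_eq_mul] at this
    linear_combination this
  have h2 := ex_neg_mul
  have h3 : (E - 1) * (X * D f - f + ex (-1) * f ^ 2) = 0 := by
    linear_combination X * h1 + (ex (-1) * f - 1 - X) * hf + (f * X) * h2
  have := (mul_eq_zero.mp h3).resolve_left E_sub_one_ne
  linear_combination this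

lemma boundary (n : ℕ) : coeff (n + 1) (ex (-1) * f ^ (n + 2)) = 0 := by
  have hk := key f hf
  have e1 : ex (-1) * f ^ (n + 2) = f ^ (n + 1) - X * (f ^ n * D f) := by
    have : ex (-1) * f ^ (n + 2) = f ^ n * (ex (-1) * f ^ 2) := by ring
    rw [this]
    have : ex (-1) * f ^ 2 = f - X * D f := by linear_combination hk
    rw [this]; ring
  rw [e1, map_sub, coeff_succ_X_mul]
  have h2 : D (f ^ (n + 1)) = ((n + 1 : ℕ) : PowerSeries ℚ) * f ^ n * D f := by
    rw [derivative_pow]; simp
  have h3 := congrArg (coeff n) h2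
  rw [coeff_derivative, mul_assoc] at h3
  have h4 : coeff n (((n + 1 : ℕ) : PowerSeries ℚ) * (f ^ n * D f)) =
      ((n + 1 : ℕ) : ℚ) * coeff n (f ^ n * D f) := by
    rw [← map_natCast (C (R := ℚ)), coeff_C_mul]
  rw [h4] at h3
  have hn : ((n + 1 : ℕ) : ℚ) ≠ 0 := by positivity
  have h5 : coeff (n + 1) (f ^ (n + 1)) = coeff n (f ^ n * D f) := by
    apply mul_left_cancel₀ hn
    rw [← h3]; push_cast; ring
  rw [h5, sub_self]

/-- the coefficients in question -/
noncomputable def c (a : ℚ) (n : ℕ) : ℚ := coeff n (ex a * f ^ (n + 1))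

omit hf in
lemma c_def (a : ℚ) (n : ℕ) : c f a n = coeff n (ex a * f ^ (n + 1)) := rfl

lemma c_zero (a : ℚ) : c f a 0 = 1 := by
  rw [c_def, zero_add, pow_one, coeff_zero_eq_constantCoeff, map_mul, constantCoeff_ex,
    constantCoeff_f f hf, mul_one]

lemma c_rec (a : ℚ) (n : ℕ) : c f a (n + 1) = c f (a - 1) (n + 1) + c f a n := by
  rw [c_def, c_def, c_def]
  have : ex a * f ^ (n + 1 + 1) = ex (a - 1) * f ^ (n + 1 + 1) + X * (ex a * f ^ (n + 1)) := by
    have h1 : ex a = ex (a - 1) * E := by rw [← ex_one, ex_add]; congr 1; ring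
    have : ex (a - 1) * E * f ^ (n + 1 + 1) - ex (a - 1) * f ^ (n + 1 + 1) =
        ex (a - 1) * f ^ (n + 1) * (f * (E - 1)) := by ring
    rw [h1]
    linear_combination this + (ex (a - 1) * f ^ (n + 1)) * hf
  rw [this, map_add, coeff_succ_X_mul]

lemma c_neg_one (n : ℕ) : c f (-1) (n + 1) = 0 := boundary f hf n

theorem main_aux (m : ℤ) : ∀ n : ℕ, c f (m : ℚ) n = ((Ring.choose (m + n : ℤ) n : ℤ) : ℚ) := by
  induction m using Int.inductionOn' (b := -1) with
  | zero =>
    intro n
    rcases n with _ | n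
    · rw [c_zero f hf, Ring.choose_zero_right]; simp
    · have : ((-1 : ℤ) : ℚ) = -1 := by norm_num
      rw [this, c_neg_one f hf]
      have : (-1 + ((n + 1 : ℕ) : ℤ)) = ((n : ℕ) : ℤ) := by push_cast; ring
      rw [this, Ring.choose_natCast, Nat.choose_succ_self]; simp
  | succ k _ ih =>
    intro n
    induction n with
    | zero => rw [c_zero f hf, Ring.choose_zero_right]; simp
    | succ n ihn =>
      rw [c_rec f hf]
      have e1 : (((k + 1 : ℤ)) : ℚ) - 1 = (k : ℚ) := by push_cast; ring
      rw [e1, ih (n + 1), ihn]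
      have e2 : (k + 1 + ((n + 1 : ℕ) : ℤ)) = (k + ((n + 1 : ℕ) : ℤ)) + 1 := by ring
      rw [e2, Ring.choose_succ_succ]
      have e3 : k + 1 + (n : ℤ) = k + ((n + 1 : ℕ) : ℤ) := by push_cast; ring
      rw [e3]; push_cast; ring
  | pred k _ ih =>
    intro n
    rcases n with _ | n
    · rw [c_zero f hf, Ring.choose_zero_right]; simp
    · have h := c_rec f hf (k : ℚ) n
      have e1 : ((k - 1 : ℤ) : ℚ) = (k : ℚ) - 1 := by push_cast; ring
      rw [e1]
      have : c f ((k : ℚ) - 1) (n + 1) = c f (k : ℚ) (n + 1) - c f (k : ℚ) n := by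
        linear_combination -h
      rw [this, ih (n + 1), ih n]
      have e2 : (k + ((n + 1 : ℕ) : ℤ)) = (k + (n : ℤ)) + 1 := by push_cast; ring
      rw [e2, Ring.choose_succ_succ]
      have e3 : k - 1 + ((n + 1 : ℕ) : ℤ) = k + (n : ℤ) := by push_cast; ring
      rw [e3]; push_cast; ring

theorem main (m : ℤ) (n : ℕ) :
    PowerSeries.coeff n (PowerSeries.rescale (m : ℚ) (PowerSeries.exp ℚ) * f ^ (n + 1)) =
      ((Ring.choose (m + n : ℤ) n : ℤ) : ℚ) :=
  main_aux f hf m n

end

end Groth.Agent.Helper8.ToddRR
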