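import Mathlib
import Groth.Agent.Helper8.ToddRR

set_option autoImplicit false

namespace Groth.Agent.Helper8.ToddChar
open PowerSeries Groth.Agent.Helper8.ToddRR

local notation "E" => PowerSeries.exp ℚ

lemma of_todd (f : PowerSeries ℚ) (hf : f * (E - 1) = X * E) (n : ℕ) :
    coeff n (f ^ (n + 1)) = 1 := by
  have := ToddRR.main f hf 0 n
  have e0 : rescale ((0 : ℤ) : ℚ) E = 1 := by
    have := ex_zero
    simpa [ex] using this
  rw [e0, one_mul] at this
  rw [this]
  have : ((0 : ℤ) + (n : ℤ)) = ((n : ℕ) : ℤ) := by simp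
  rw [this, Ring.choose_natCast, Nat.choose_self]; simp

lemma unique (f g : PowerSeries ℚ) (hf : ∀ n, coeff n (f ^ (n + 1)) = 1)
    (hg : ∀ n, coeff n (g ^ (n + 1)) = 1) : f = g := by
  have hf0 : constantCoeff f = 1 := by
    have := hf 0; simpa using this
  have hg0 : constantCoeff g = 1 := by
    have := hg 0; simpa using this
  ext n
  induction n using Nat.strong_induction_on with
  | _ n ih =>
    have hdvd : X ^ n ∣ f - g := by
      rw [X_pow_dvd_iff]
      intro m hm
      rw [map_sub, ih m hm, sub_self]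
    obtain ⟨h, hh⟩ := hdvd
    have h1 : f ^ (n + 1) - g ^ (n + 1) =
        X ^ n * (h * ∑ i ∈ Finset.range (n + 1), f ^ i * g ^ (n + 1 - 1 - i)) := by
      rw [← geom_sum₂_mul, hh]; ring
    have h2 := congrArg (coeff n) h1
    rw [map_sub, hf n, hg n, sub_self] at h2
    have h3 : coeff n (X ^ n * (h * ∑ i ∈ Finset.range (n + 1), f ^ i * g ^ (n + 1 - 1 - i))) =
        constantCoeff h * ((n : ℚ) + 1) := by
      have := coeff_X_pow_mul (h * ∑ i ∈ Finset.range (n + 1), f ^ i * g ^ (n + 1 - 1 - i)) n 0
      rw [zero_add] at this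
      rw [this, coeff_zero_eq_constantCoeff_apply, map_mul, map_sum]
      congr 1
      simp [hf0, hg0]
    rw [h3] at h2
    have hn : (n : ℚ) + 1 ≠ 0 := by positivity
    have h4 : constantCoeff h = 0 := (mul_eq_zero.mp h2.symm).resolve_right hn
    have h5 : coeff n (f - g) = 0 := by
      rw [hh]
      have := coeff_X_pow_mul h n 0
      rw [zero_add] at this
      rw [this, coeff_zero_eq_constantCoeff_apply, h4]
    rw [map_sub] at h5
    exact sub_eq_zero.mp h5

/-- the Todd series -/
noncomputable def T : PowerSeries ℚ := E * u⁻¹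

lemma T_spec : T * (E - 1) = X * E := by
  have hu : u * u⁻¹ = 1 := PowerSeries.mul_inv_cancel u (by rw [constantCoeff_u]; exact one_ne_zero)
  rw [T, E_sub_one]
  calc E * u⁻¹ * (X * u) = X * E * (u * u⁻¹) := by ring
    _ = X * E := by rw [hu, mul_one]

theorem main (f : PowerSeries ℚ) :
    (∀ n : ℕ, PowerSeries.coeff n (f ^ (n + 1)) = 1) ↔
      f * (PowerSeries.exp ℚ - 1) = PowerSeries.X * PowerSeries.exp ℚ := by
  constructor
  · intro h
    have := unique f T h (of_todd T T_spec)
    rw [this]; exact T_spec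
  · intro h n
    exact of_todd f h n

end Groth.Agent.Helper8.ToddChar
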