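import Groth.Agent.Helper8.Todd
import Groth.Agent.Helper8.BernoulliSign

/-! Eventual negativity of the Todd coefficient. -/

set_option autoImplicit false

namespace Groth.Agent.Helper8

open PowerSeries

/-- A polynomial expression with negative leading coefficient is eventually negative. -/
theorem eventually_neg_of_leading (m : ℕ) (c : ℚ) (hc : c < 0) (Q : Polynomial ℚ)
    (hQ : Q.natDegree ≤ m) :
    ∃ N : ℕ, ∀ p : ℕ, N ≤ p → c * (p : ℚ) ^ (m + 1) + Q.eval (p : ℚ) < 0 := by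
  set A : ℚ := ∑ i ∈ Finset.range (m + 1), |Q.coeff i| with hA
  have hA0 : 0 ≤ A := Finset.sum_nonneg fun i _ => abs_nonneg _
  obtain ⟨N, hN⟩ := exists_nat_gt (A / (-c))
  refine ⟨N + 1, fun p hp => ?_⟩
  have hp1 : (1 : ℚ) ≤ p := by exact_mod_cast (by omega : 1 ≤ p)
  have hpN : (N : ℚ) < p := by exact_mod_cast (by omega : N < p)
  have hev : Q.eval (p : ℚ) ≤ A * (p : ℚ) ^ m := by
    rw [Polynomial.eval_eq_sum_range' (Nat.lt_succ_of_le hQ), hA, Finset.sum_mul]
    refine Finset.sum_le_sum fun i hi => ?_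
    have him : i ≤ m := by
      have := Finset.mem_range.mp hi
      omega
    calc Q.coeff i * (p : ℚ) ^ i ≤ |Q.coeff i| * (p : ℚ) ^ i :=
          mul_le_mul_of_nonneg_right (le_abs_self _) (by positivity)
      _ ≤ |Q.coeff i| * (p : ℚ) ^ m :=
          mul_le_mul_of_nonneg_left (pow_le_pow_right₀ hp1 him) (abs_nonneg _)
  have hcp : c * (p : ℚ) + A < 0 := by
    have h1 : A / (-c) < p := lt_trans hN hpN
    have hnc : 0 < -c := by linarith
    rw [div_lt_iff₀ hnc] at h1
    linarith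
  have hpm : (0 : ℚ) < (p : ℚ) ^ m := by positivity
  calc c * (p : ℚ) ^ (m + 1) + Q.eval (p : ℚ) ≤ c * (p : ℚ) ^ (m + 1) + A * (p : ℚ) ^ m := by
        linarith
    _ = (c * (p : ℚ) + A) * (p : ℚ) ^ m := by ring
    _ < 0 := mul_neg_of_neg_of_pos hcp hpm

/-- The Todd coefficient is eventually negative when its leading coefficient is. -/
theorem todd_neg_eventually (n d : ℕ) (s : ℤ) (hn : 2 ≤ n) (hd : 1 ≤ d)
    (h : bernoulli' n < 0 ∨
      (bernoulli' n = 0 ∧ (2 * (s : ℚ) - d - n - 1) * bernoulli' (n - 1) < 0)) :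
    ∃ P : ℕ, ∀ p : ℕ, P ≤ p →
      coeff n ((rescale (-(d : ℚ)) (bernoulli'PowerSeries ℚ))⁻¹ *
        rescale (-((d : ℚ) * p)) (bernoulli'PowerSeries ℚ) * bernoulli'PowerSeries ℚ ^ (n + 1) *
        rescale ((d : ℚ) * p - d - n - 1 + s) (exp ℚ)) < 0 := by
  obtain ⟨P, hP, hev⟩ := todd_leading n d s hn
  obtain ⟨m, rfl⟩ : ∃ m, n = m + 2 := ⟨n - 2, by omega⟩
  have hd0 : (0 : ℚ) < d := by exact_mod_cast hd
  have h21 : m + 2 - 1 = m + 1 := by omega
  have h22 : m + 2 - 2 = m := by omega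
  rw [h22] at hP
  rcases h with h | ⟨h0, h1⟩
  · -- leading term of degree `m + 2`
    set b : ℚ := (2 * (s : ℚ) - d - (m + 2 : ℕ) - 1) / 2 * bernoulli' (m + 2 - 1) *
      (d : ℚ) ^ (m + 2 - 1) / ((m + 2 - 1).factorial : ℚ) with hb
    have hc : bernoulli' (m + 2) * (d : ℚ) ^ (m + 2) / ((m + 2).factorial : ℚ) < 0 := by
      apply div_neg_of_neg_of_pos
      · exact mul_neg_of_neg_of_pos h (by positivity)
      · positivity
    obtain ⟨N, hN⟩ := eventually_neg_of_leading (m + 1) _ hc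
      (Polynomial.C b * Polynomial.X ^ (m + 1) + P) (by
        refine (Polynomial.natDegree_add_le _ _).trans (max_le ?_ (by omega))
        exact Polynomial.natDegree_C_mul_X_pow_le _ _)
    refine ⟨N, fun p hp => ?_⟩
    have := hN p hp
    rw [hev p]
    simp only [Polynomial.eval_add, Polynomial.eval_mul, Polynomial.eval_C, Polynomial.eval_pow,
      Polynomial.eval_X] at this
    rw [hb, h21] at this
    rw [h21]
    calc _ = bernoulli' (m + 2) * (d : ℚ) ^ (m + 2) / ((m + 2).factorial : ℚ) *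
          (p : ℚ) ^ (m + 1 + 1) + ((2 * (s : ℚ) - d - (m + 2 : ℕ) - 1) / 2 * bernoulli' (m + 1) *
            (d : ℚ) ^ (m + 1) / ((m + 1).factorial : ℚ) * (p : ℚ) ^ (m + 1) +
            Polynomial.eval (p : ℚ) P) := by ring
      _ < 0 := this
  · -- leading term of degree `m + 1`
    have hc : (2 * (s : ℚ) - d - (m + 2 : ℕ) - 1) / 2 * bernoulli' (m + 2 - 1) *
        (d : ℚ) ^ (m + 2 - 1) / ((m + 2 - 1).factorial : ℚ) < 0 := by
      apply div_neg_of_neg_of_pos
      · apply mul_neg_of_neg_of_pos _ (by positivity)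
        have : (2 * (s : ℚ) - d - (m + 2 : ℕ) - 1) / 2 * bernoulli' (m + 2 - 1) =
            ((2 * (s : ℚ) - d - (m + 2 : ℕ) - 1) * bernoulli' (m + 2 - 1)) / 2 := by ring
        rw [this]
        exact div_neg_of_neg_of_pos h1 (by norm_num)
      · positivity
    obtain ⟨N, hN⟩ := eventually_neg_of_leading m _ hc P hP
    refine ⟨N, fun p hp => ?_⟩
    have := hN p hp
    rw [hev p, h0]
    rw [h21] at this ⊢
    calc _ = (2 * (s : ℚ) - d - (m + 2 : ℕ) - 1) / 2 * bernoulli' (m + 1) *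
            (d : ℚ) ^ (m + 1) / ((m + 1).factorial : ℚ) * (p : ℚ) ^ (m + 1) +
            Polynomial.eval (p : ℚ) P := by ring
      _ < 0 := this

end Groth.Agent.Helper8
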