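import Mathlib

set_option autoImplicit false
universe u
open TensorProduct

namespace Groth.Agent.Helper8.Tors

variable {R S : Type u} [CommRing R] [CommRing S] [Algebra R S] (I : Ideal R)

/-- surjectivity part of `R/I → S/IS` bijective -/
def HS : Prop := ∀ s : S, ∃ r : R, s - algebraMap R S r ∈ I.map (algebraMap R S)
/-- injectivity part -/
def HI : Prop := ∀ r : R, algebraMap R S r ∈ I.map (algebraMap R S) → r ∈ I

theorem hs_of_bijective
    (hq : Function.Bijective (Ideal.quotientMap (I.map (algebraMap R S)) (algebraMap R S)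
      Ideal.le_comap_map)) : HS (S := S) I := by
  intro s
  obtain ⟨rb, hrb⟩ := hq.2 (Ideal.Quotient.mk _ s)
  obtain ⟨r, rfl⟩ := Ideal.Quotient.mk_surjective rb
  refine ⟨r, ?_⟩
  rw [Ideal.quotientMap_mk] at hrb
  rw [← Ideal.Quotient.eq]
  exact hrb.symm

theorem hi_of_bijective
    (hq : Function.Bijective (Ideal.quotientMap (I.map (algebraMap R S)) (algebraMap R S)
      Ideal.le_comap_map)) : HI (S := S) I := by
  intro r hr
  have : Ideal.quotientMap (I.map (algebraMap R S)) (algebraMap R S) Ideal.le_comap_map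
      (Ideal.Quotient.mk I r) = 0 := by
    rw [Ideal.quotientMap_mk, Ideal.Quotient.eq_zero_iff_mem]; exact hr
  have := hq.1 (this.trans (map_zero _).symm)
  rwa [Ideal.Quotient.eq_zero_iff_mem] at this

theorem bijective_of_hs_hi (hs : HS (S := S) I) (hi : HI (S := S) I) :
    Function.Bijective (Ideal.quotientMap (I.map (algebraMap R S)) (algebraMap R S)
      Ideal.le_comap_map) := by
  constructor
  · rw [injective_iff_map_eq_zero]
    intro x hx
    obtain ⟨r, rfl⟩ := Ideal.Quotient.mk_surjective x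
    rw [Ideal.quotientMap_mk, Ideal.Quotient.eq_zero_iff_mem] at hx
    rw [Ideal.Quotient.eq_zero_iff_mem]
    exact hi r hx
  · intro y
    obtain ⟨s, rfl⟩ := Ideal.Quotient.mk_surjective y
    obtain ⟨r, hr⟩ := hs s
    refine ⟨Ideal.Quotient.mk I r, ?_⟩
    rw [Ideal.quotientMap_mk, eq_comm, Ideal.Quotient.eq]
    exact hr

variable {I}
variable {M : Type u} [AddCommGroup M] [Module R M]

/-- `t ⊗ m = 0` for `t ∈ IS` when `I` kills `m`. -/
theorem tmul_eq_zero_of_mem_map (m : M) (hm : ∀ a ∈ I, a • m = 0) (t : S)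
    (ht : t ∈ I.map (algebraMap R S)) : t ⊗ₜ[R] m = 0 := by
  unfold Ideal.map at ht
  induction ht using Submodule.span_induction with
  | mem t ht =>
    obtain ⟨a, ha, rfl⟩ := ht
    rw [Algebra.algebraMap_eq_smul_one, TensorProduct.smul_tmul, hm a ha, tmul_zero]
  | zero => rw [zero_tmul]
  | add x y _ _ hx hy => rw [add_tmul, hx, hy, add_zero]
  | smul c x _ hx =>
    rw [smul_eq_mul, ← smul_eq_mul, ← TensorProduct.smul_tmul', hx, smul_zero]

/-- the retraction `S ⊗ M → M` for `M` killed by `I`. -/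
theorem exists_retraction (hs : HS (S := S) I) (hi : HI (S := S) I)
    (hM : ∀ (a : R) (m : M), a ∈ I → a • m = 0) :
    ∃ ν : S ⊗[R] M →ₗ[R] M, ∀ m, ν (1 ⊗ₜ m) = m := by
  let J : Submodule R S := (I.map (algebraMap R S)).restrictScalars R
  -- the linear map `R/I → S/J`
  let ℓ : (R ⧸ I) →ₗ[R] (S ⧸ J) := Submodule.liftQ I (J.mkQ ∘ₗ Algebra.linearMap R S) (by
    intro a ha
    simp only [LinearMap.mem_ker, LinearMap.coe_comp, Function.comp_apply, Algebra.linearMap_apply,
      Submodule.mkQ_apply, Submodule.Quotient.mk_eq_zero]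
    exact Ideal.mem_map_of_mem _ ha)
  have hℓ : Function.Bijective ℓ := by
    constructor
    · rw [injective_iff_map_eq_zero]
      intro x hx
      obtain ⟨r, rfl⟩ := Ideal.Quotient.mk_surjective x
      have : ℓ (Ideal.Quotient.mk I r) = J.mkQ (algebraMap R S r) := rfl
      rw [this, Submodule.mkQ_apply, Submodule.Quotient.mk_eq_zero] at hx
      rw [Ideal.Quotient.eq_zero_iff_mem]
      exact hi r hx
    · intro y
      obtain ⟨s, rfl⟩ := Submodule.Quotient.mk_surjective _ y
      obtain ⟨r, hr⟩ := hs s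
      refine ⟨Ideal.Quotient.mk I r, ?_⟩
      have : ℓ (Ideal.Quotient.mk I r) = J.mkQ (algebraMap R S r) := rfl
      rw [this, Submodule.mkQ_apply, eq_comm, Submodule.Quotient.eq]
      exact hr
  let e : (R ⧸ I) ≃ₗ[R] (S ⧸ J) := LinearEquiv.ofBijective ℓ hℓ
  have hbot : (I • ⊤ : Submodule R M) = ⊥ := by
    rw [eq_bot_iff, Submodule.smul_le]
    intro a ha m _
    rw [hM a m ha]; exact Submodule.zero_mem _
  refine ⟨((Submodule.quotEquivOfEqBot _ hbot).toLinearMap ∘ₗ
    (TensorProduct.quotTensorEquivQuotSMul M I).toLinearMap) ∘ₗ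
    (LinearMap.rTensor M (e.symm.toLinearMap ∘ₗ J.mkQ)), ?_⟩
  intro m
  have h1 : e.symm (J.mkQ (1 : S)) = 1 := by
    rw [LinearEquiv.symm_apply_eq]
    change _ = ℓ (Ideal.Quotient.mk I 1)
    change _ = J.mkQ (algebraMap R S 1)
    rw [(algebraMap R S).map_one]
  simp only [LinearMap.coe_comp, LinearEquiv.coe_coe, Function.comp_apply, LinearMap.rTensor_tmul,
    h1, TensorProduct.quotTensorEquivQuotSMul_mk_one_tmul, Submodule.quotEquivOfEqBot_apply_mk]

end Groth.Agent.Helper8.Tors
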