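import Mathlib
import Groth.Agent.Helper8.Tors1

set_option autoImplicit false
universe u
open TensorProduct

namespace Groth.Agent.Helper8.Tors

variable {R S : Type u} [CommRing R] [CommRing S] [Algebra R S] {I : Ideal R}

/-- Step 1: modules killed by `I`. -/
theorem bijective_mk_of_killed (hs : HS (S := S) I) (hi : HI (S := S) I)
    (M : Type u) [AddCommGroup M] [Module R M]
    (hM : ∀ (a : R) (m : M), a ∈ I → a • m = 0) :
    Function.Bijective (TensorProduct.mk R S M 1) := by
  constructor
  · obtain ⟨ν, hν⟩ := exists_retraction hs hi hM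
    intro m m' h
    have := congr_arg ν h
    simpa [hν] using this
  · intro y
    induction y using TensorProduct.induction_on with
    | zero => exact ⟨0, by simp⟩
    | tmul s m =>
      obtain ⟨r, hr⟩ := hs s
      refine ⟨r • m, ?_⟩
      have h0 := tmul_eq_zero_of_mem_map m (fun a ha => hM a m ha) _ hr
      rw [sub_tmul, sub_eq_zero] at h0
      rw [h0, Algebra.algebraMap_eq_smul_one, TensorProduct.smul_tmul]
      rfl
    | add x y hx hy =>
      obtain ⟨a, rfl⟩ := hx
      obtain ⟨b, rfl⟩ := hy
      exact ⟨a + b, map_add _ _ _⟩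

/-- Step 2: modules killed by `I ^ n`. -/
theorem bijective_mk_of_killed_pow [Module.Flat R S] (hs : HS (S := S) I) (hi : HI (S := S) I)
    (n : ℕ) : ∀ (M : Type u) [AddCommGroup M] [Module R M]
    (_ : ∀ (a : R) (m : M), a ∈ I ^ n → a • m = 0),
    Function.Bijective (TensorProduct.mk R S M 1) := by
  induction n with
  | zero =>
    intro M _ _ hM
    have hsub : Subsingleton M := ⟨fun a b => by
      rw [← one_smul R a, ← one_smul R b, hM 1 a (by simp), hM 1 b (by simp)]⟩
    constructor
    · intro a b _; exact Subsingleton.elim _ _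
    · intro y; exact ⟨0, Subsingleton.elim _ _⟩
  | succ n ih =>
    intro M _ _ hM
    let N : Submodule R M := I • ⊤
    have hN : ∀ (a : R) (x : N), a ∈ I ^ n → a • x = 0 := by
      rintro a ⟨x, hx⟩ ha
      apply Subtype.ext
      change a • x = 0
      refine Submodule.smul_induction_on hx (fun b hb m _ => ?_) (fun x y hx hy => ?_)
      · rw [← mul_smul]
        exact hM _ m (by rw [pow_succ]; exact Ideal.mul_mem_mul ha hb)
      · rw [smul_add, hx, hy, add_zero]
    have hQ : ∀ (a : R) (x : M ⧸ N), a ∈ I → a • x = 0 := by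
      intro a x ha
      obtain ⟨m, rfl⟩ := Submodule.Quotient.mk_surjective _ x
      rw [← Submodule.Quotient.mk_smul, Submodule.Quotient.mk_eq_zero]
      exact Submodule.smul_mem_smul ha Submodule.mem_top
    have bN := ih N hN
    have bQ := bijective_mk_of_killed hs hi (M ⧸ N) hQ
    have hinj : Function.Injective (N.subtype.lTensor S) :=
      Module.Flat.lTensor_preserves_injective_linearMap _ N.injective_subtype
    have hex : Function.Exact (N.subtype.lTensor S) (N.mkQ.lTensor S) :=
      lTensor_exact S (LinearMap.exact_subtype_mkQ N) N.mkQ_surjective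
    constructor
    · rw [injective_iff_map_eq_zero]
      intro m hm
      have h1 : TensorProduct.mk R S (M ⧸ N) 1 (N.mkQ m) = 0 := by
        have := congr_arg (N.mkQ.lTensor S) hm
        simpa using this
      have h2 : N.mkQ m = 0 := bQ.1 (h1.trans (map_zero _).symm)
      rw [Submodule.mkQ_apply, Submodule.Quotient.mk_eq_zero] at h2
      have h3 : N.subtype.lTensor S (TensorProduct.mk R S N 1 ⟨m, h2⟩) = 0 := by
        simpa using hm
      have h4 := hinj (h3.trans (map_zero _).symm)
      have h5 := bN.1 (h4.trans (map_zero _).symm)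
      exact congr_arg Subtype.val h5
    · intro y
      obtain ⟨q, hq⟩ := bQ.2 (N.mkQ.lTensor S y)
      obtain ⟨m, rfl⟩ := N.mkQ_surjective q
      have h1 : N.mkQ.lTensor S (y - TensorProduct.mk R S M 1 m) = 0 := by
        rw [map_sub, ← hq]; simp
      obtain ⟨z, hz⟩ := (hex _).mp h1
      obtain ⟨x, rfl⟩ := bN.2 z
      refine ⟨m + x, ?_⟩
      rw [map_add]
      have : TensorProduct.mk R S M 1 (x : M) = y - TensorProduct.mk R S M 1 m := by
        rw [← hz]; simp
      rw [this]; abel

end Groth.Agent.Helper8.Tors
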