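import Mathlib
import Groth.Agent.Helper8.Tors2

set_option autoImplicit false
universe u
open TensorProduct

namespace Groth.Agent.Helper8.Tors

variable {R S : Type u} [CommRing R] [CommRing S] [Algebra R S] {I : Ideal R}

/-- Step 3: `I`-power torsion modules. -/
theorem bijective_mk_of_torsion [Module.Flat R S] (hs : HS (S := S) I) (hi : HI (S := S) I)
    (M : Type u) [AddCommGroup M] [Module R M]
    (hM : ∀ m : M, ∃ n : ℕ, ∀ a ∈ I ^ n, a • m = 0) :
    Function.Bijective (TensorProduct.mk R S M 1) := by
  have hcyc : ∀ x : M, Function.Bijective (TensorProduct.mk R S (Submodule.span R {x}) 1) ∧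
      Function.Injective ((Submodule.span R {x}).subtype.lTensor S) := by
    intro x
    obtain ⟨n, hn⟩ := hM x
    refine ⟨bijective_mk_of_killed_pow hs hi n _ ?_,
      Module.Flat.lTensor_preserves_injective_linearMap _ (Submodule.injective_subtype _)⟩
    rintro a ⟨y, hy⟩ ha
    apply Subtype.ext
    change a • y = 0
    obtain ⟨c, rfl⟩ := Submodule.mem_span_singleton.mp hy
    rw [smul_comm, hn a ha, smul_zero]
  constructor
  · rw [injective_iff_map_eq_zero]
    intro x hx
    obtain ⟨hb, hinj⟩ := hcyc x
    have hxmem : x ∈ Submodule.span R {x} := Submodule.mem_span_singleton_self x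
    have h3 : (Submodule.span R {x}).subtype.lTensor S
        (TensorProduct.mk R S _ 1 ⟨x, hxmem⟩) = 0 := by
      simpa using hx
    have h4 := hinj (h3.trans (map_zero _).symm)
    have h5 := hb.1 (h4.trans (map_zero _).symm)
    exact congr_arg Subtype.val h5
  · intro y
    induction y using TensorProduct.induction_on with
    | zero => exact ⟨0, by simp⟩
    | tmul s x =>
      obtain ⟨hb, -⟩ := hcyc x
      have hxmem : x ∈ Submodule.span R {x} := Submodule.mem_span_singleton_self x
      obtain ⟨z, hz⟩ := hb.2 (s ⊗ₜ ⟨x, hxmem⟩)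
      refine ⟨(z : M), ?_⟩
      have := congr_arg ((Submodule.span R {x}).subtype.lTensor S) hz
      simpa using this
    | add x y hx hy =>
      obtain ⟨a, rfl⟩ := hx
      obtain ⟨b, rfl⟩ := hy
      exact ⟨a + b, map_add _ _ _⟩

theorem s2009 (R S : Type u) [CommRing R] [CommRing S] [Algebra R S] (I : Ideal R)
    [Module.Flat R S] :
    (∀ (M : Type u) [AddCommGroup M] [Module R M], (∀ m : M, ∃ n : ℕ, ∀ a ∈ I ^ n, a • m = 0) →
      Function.Bijective (TensorProduct.mk R S M 1)) ↔
    Function.Bijective (Ideal.quotientMap (I.map (algebraMap R S)) (algebraMap R S)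
      Ideal.le_comap_map) := by
  constructor
  · intro h
    have hkill : ∀ (a : R), a ∈ I → ∀ m : R ⧸ I, a • m = 0 := by
      intro a ha m
      obtain ⟨r, rfl⟩ := Ideal.Quotient.mk_surjective m
      rw [Algebra.smul_def, Ideal.Quotient.algebraMap_eq, ← map_mul,
        Ideal.Quotient.eq_zero_iff_mem]
      exact I.mul_mem_right _ ha
    have hb := h (R ⧸ I) (fun m => ⟨1, fun a ha => hkill a (by rwa [pow_one] at ha) m⟩)
    refine bijective_of_hs_hi I ?_ ?_
    · intro s
      obtain ⟨x, hx⟩ := hb.2 (s ⊗ₜ 1)
      obtain ⟨r, rfl⟩ := Ideal.Quotient.mk_surjective x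
      have := congr_arg (TensorProduct.tensorQuotEquivQuotSMul S I) hx
      rw [TensorProduct.mk_apply, TensorProduct.tensorQuotEquivQuotSMul_tmul_mk,
        ← map_one (Ideal.Quotient.mk I), TensorProduct.tensorQuotEquivQuotSMul_tmul_mk,
        one_smul, eq_comm, Submodule.Quotient.eq, Ideal.smul_top_eq_map] at this
      refine ⟨r, ?_⟩
      rw [Algebra.algebraMap_eq_smul_one]
      exact this
    · intro r hr
      have h0 := tmul_eq_zero_of_mem_map (1 : R ⧸ I) (fun a ha => hkill a ha 1) _ hr
      rw [Algebra.algebraMap_eq_smul_one, TensorProduct.smul_tmul] at h0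
      have h1 : TensorProduct.mk R S (R ⧸ I) 1 (r • (1 : R ⧸ I)) = 0 := h0
      have h2 := hb.1 (h1.trans (map_zero _).symm)
      rw [Algebra.smul_def, mul_one, Ideal.Quotient.algebraMap_eq,
        Ideal.Quotient.eq_zero_iff_mem] at h2
      exact h2
  · intro hq M _ _ hM
    exact bijective_mk_of_torsion (hs_of_bijective I hq) (hi_of_bijective I hq) M hM

end Groth.Agent.Helper8.Tors
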