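import Mathlib
import Groth.Agent.Helper8.Tors3

set_option autoImplicit false
universe u
open TensorProduct

namespace Groth.Agent.Helper8.Tors

variable {R S : Type u} [CommRing R] [CommRing S] [Algebra R S] (I : Ideal R)

example : algebraMap (R ⧸ I) (S ⧸ I.map (algebraMap R S)) =
    Ideal.quotientMap (I.map (algebraMap R S)) (algebraMap R S) Ideal.le_comap_map := rfl

variable (N : Type u) [AddCommGroup N] [Module R N]

/-- the `I`-power torsion submodule -/
def torsionSub : Submodule R N where
  carrier := {y | ∃ n : ℕ, ∀ a ∈ I ^ n, a • y = 0}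
  zero_mem' := ⟨0, fun a _ => smul_zero a⟩
  add_mem' := by
    rintro x y ⟨n, hn⟩ ⟨m, hm⟩
    refine ⟨max n m, fun a ha => ?_⟩
    rw [smul_add, hn a (Ideal.pow_le_pow_right (le_max_left n m) ha),
      hm a (Ideal.pow_le_pow_right (le_max_right n m) ha), add_zero]
  smul_mem' := by
    rintro c x ⟨n, hn⟩
    exact ⟨n, fun a ha => by rw [smul_comm, hn a ha, smul_zero]⟩

theorem mem_torsionSub {y : N} : y ∈ torsionSub I N ↔ ∃ n : ℕ, ∀ a ∈ I ^ n, a • y = 0 := Iff.rfl

theorem torsionSub_torsion (y : torsionSub I N) : ∃ n : ℕ, ∀ a ∈ I ^ n, a • y = 0 := by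
  obtain ⟨y, n, hn⟩ := y
  exact ⟨n, fun a ha => Subtype.ext (hn a ha)⟩

variable {N}

/-- Key: elements of `S ⊗ N` killed by a f.g. ideal come from `S ⊗ N[J]`. -/
theorem mem_range_lTensor_of_killed [Module.Flat R S] (J : Ideal R) (hJ : J.FG)
    (T : Submodule R N) (hT : ∀ y : N, (∀ a ∈ J, a • y = 0) → y ∈ T)
    (z : S ⊗[R] N) (hz : ∀ a ∈ J, a • z = 0) :
    z ∈ LinearMap.range (T.subtype.lTensor S) := by
  obtain ⟨k, a, ha⟩ := Submodule.fg_iff_exists_fin_generating_family.mp hJ
  let φ : N →ₗ[R] (Fin k → N) := LinearMap.pi fun i => a i • LinearMap.id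
  have hker : LinearMap.ker φ ≤ T := by
    intro y hy
    apply hT
    intro b hb
    rw [← ha] at hb
    induction hb using Submodule.span_induction with
    | mem b hb =>
      obtain ⟨i, rfl⟩ := hb
      have := congr_fun (LinearMap.mem_ker.mp hy) i
      simpa [φ] using this
    | zero => rw [zero_smul]
    | add b c _ _ hb hc => rw [add_smul, hb, hc, add_zero]
    | smul c b _ hb => rw [smul_eq_mul, mul_smul, hb, smul_zero]
  have hex : Function.Exact ((LinearMap.ker φ).subtype.lTensor S) (φ.lTensor S) :=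
    Module.Flat.lTensor_exact S (LinearMap.exact_subtype_ker_map φ)
  have hφz : φ.lTensor S z = 0 := by
    apply (TensorProduct.piRight R S S (fun _ : Fin k => N)).injective
    rw [map_zero]
    funext i
    have hcomp : ∀ w : S ⊗[R] N,
        TensorProduct.piRight R S S (fun _ : Fin k => N) (φ.lTensor S w) i = a i • w := by
      intro w
      induction w using TensorProduct.induction_on with
      | zero => simp
      | tmul s y => simp [φ, TensorProduct.tmul_smul]
      | add x y hx hy => simp only [map_add, Pi.add_apply, hx, hy, smul_add]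
    rw [hcomp]
    exact hz _ (by rw [← ha]; exact Submodule.subset_span ⟨i, rfl⟩)
  obtain ⟨w, hw⟩ := (hex z).mp hφz
  refine ⟨(Submodule.inclusion hker).lTensor S w, ?_⟩
  rw [← hw, ← LinearMap.comp_apply, ← LinearMap.lTensor_comp]
  rfl

end Groth.Agent.Helper8.Tors
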