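import Mathlib
import Groth.Agent.Helper8.Tors4

set_option autoImplicit false
universe u
open TensorProduct

namespace Groth.Agent.Helper8.Tors

variable {R S : Type u} [CommRing R] [CommRing S] [Algebra R S] (I : Ideal R)
variable {M N : Type u} [AddCommGroup M] [Module R M] [AddCommGroup N] [Module R N]

theorem baseChange_ext {f g : S ⊗[R] M →ₗ[S] S ⊗[R] N} (h : ∀ m : M, f (1 ⊗ₜ m) = g (1 ⊗ₜ m)) :
    f = g := by
  ext m
  exact h m

theorem caseN [Module.Flat R S] (hs : HS (S := S) I) (hi : HI (S := S) I)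
    (hN : ∀ y : N, ∃ n : ℕ, ∀ a ∈ I ^ n, a • y = 0) :
    Function.Bijective (fun f : M →ₗ[R] N => LinearMap.baseChange S f) := by
  have hb := bijective_mk_of_torsion hs hi N hN
  constructor
  · intro f g hfg
    ext m
    apply hb.1
    have := congr($hfg (1 ⊗ₜ m))
    simpa using this
  · intro F
    let e : N ≃ₗ[R] S ⊗[R] N := LinearEquiv.ofBijective (TensorProduct.mk R S N 1) hb
    refine ⟨e.symm.toLinearMap ∘ₗ (F.restrictScalars R) ∘ₗ (TensorProduct.mk R S M 1), ?_⟩
    apply baseChange_ext
    intro m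
    simp only [LinearMap.baseChange_tmul, LinearMap.coe_comp, LinearEquiv.coe_coe,
      Function.comp_apply, LinearMap.coe_restrictScalars, TensorProduct.mk_apply]
    exact e.apply_symm_apply _

theorem caseM [Module.Flat R S] (hI : I.FG) (hs : HS (S := S) I) (hi : HI (S := S) I)
    (hM : ∀ x : M, ∃ n : ℕ, ∀ a ∈ I ^ n, a • x = 0) :
    Function.Bijective (fun f : M →ₗ[R] N => LinearMap.baseChange S f) := by
  let T := torsionSub I N
  have hb := bijective_mk_of_torsion hs hi T (torsionSub_torsion I N)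
  have hinj : Function.Injective (T.subtype.lTensor S) :=
    Module.Flat.lTensor_preserves_injective_linearMap _ T.injective_subtype
  let j : T →ₗ[R] S ⊗[R] N := (T.subtype.lTensor S) ∘ₗ (TensorProduct.mk R S T 1)
  have hj : Function.Injective j := hinj.comp hb.1
  have hjapp : ∀ t : T, j t = 1 ⊗ₜ (t : N) := fun t => by simp [j]
  constructor
  · intro f g hfg
    ext m
    have hmem : f m - g m ∈ T := by
      obtain ⟨n, hn⟩ := hM m
      refine ⟨n, fun a ha => ?_⟩
      rw [smul_sub, ← map_smul, ← map_smul, hn a ha, map_zero, map_zero, sub_zero]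
    have h1 : j ⟨f m - g m, hmem⟩ = 0 := by
      rw [hjapp]
      have := congr($hfg (1 ⊗ₜ m))
      simp only [LinearMap.baseChange_tmul] at this
      rw [tmul_sub, this, sub_self]
    have h2 := hj (h1.trans (map_zero _).symm)
    have h3 : f m - g m = 0 := congr_arg Subtype.val h2
    exact sub_eq_zero.mp h3
  · intro F
    let G : M →ₗ[R] S ⊗[R] N := (F.restrictScalars R) ∘ₗ (TensorProduct.mk R S M 1)
    have hG : ∀ m, G m ∈ LinearMap.range j := by
      intro m
      obtain ⟨n, hn⟩ := hM m
      have hk : ∀ a ∈ I ^ n, a • G m = 0 := by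
        intro a ha
        rw [← map_smul, hn a ha, map_zero]
      have hmem := mem_range_lTensor_of_killed (S := S) (I ^ n) (hI.pow (n := n)) T
        (fun y hy => ⟨n, hy⟩) (G m) hk
      obtain ⟨w, hw⟩ := hmem
      obtain ⟨t, rfl⟩ := hb.2 w
      exact ⟨t, hw⟩
    let f : M →ₗ[R] N := T.subtype ∘ₗ (LinearEquiv.ofInjective j hj).symm.toLinearMap ∘ₗ
      (G.codRestrict (LinearMap.range j) hG)
    refine ⟨f, ?_⟩
    apply baseChange_ext
    intro m
    simp only [LinearMap.baseChange_tmul]
    have h1 : (1 : S) ⊗ₜ[R] f m = j ((LinearEquiv.ofInjective j hj).symm ⟨G m, hG m⟩) := by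
      rw [hjapp]; rfl
    rw [h1]
    have h2 : j ((LinearEquiv.ofInjective j hj).symm ⟨G m, hG m⟩) = G m := by
      have := (LinearEquiv.ofInjective j hj).apply_symm_apply ⟨G m, hG m⟩
      exact congr_arg Subtype.val this
    rw [h2]
    rfl

theorem s2055 {R S M N : Type u} [CommRing R] [CommRing S]
    [Algebra R S] [Module.Flat R S] (I : Ideal R) (hI : I.FG)
    (hq : Function.Bijective (algebraMap (R ⧸ I) (S ⧸ I.map (algebraMap R S))))
    [AddCommGroup M] [Module R M] [AddCommGroup N] [Module R N]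
    (hMN : (∀ x : M, ∃ n : ℕ, ∀ a ∈ I ^ n, a • x = 0) ∨
      (∀ y : N, ∃ n : ℕ, ∀ a ∈ I ^ n, a • y = 0)) :
    Function.Bijective (fun f : M →ₗ[R] N => LinearMap.baseChange S f) := by
  have hq' : Function.Bijective (Ideal.quotientMap (I.map (algebraMap R S)) (algebraMap R S)
      Ideal.le_comap_map) := hq
  rcases hMN with h | h
  · exact caseM I hI (hs_of_bijective I hq') (hi_of_bijective I hq') h
  · exact caseN I (hs_of_bijective I hq') (hi_of_bijective I hq') h

end Groth.Agent.Helper8.Tors
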