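import Mathlib
import Groth.Agent.Helper8.Tors5

set_option autoImplicit false
universe u
open TensorProduct

namespace Groth.Agent.Helper8.Tors

variable {R S : Type u} [CommRing R] [CommRing S] [Algebra R S] (I : Ideal R)

theorem flat_quot [Module.Flat R S] : Module.Flat (R ⧸ I) (S ⧸ I.map (algebraMap R S)) := by
  let e1 : (R ⧸ I) ⊗[R] S ≃ₗ[R] S ⧸ (I • ⊤ : Submodule R S) :=
    TensorProduct.quotTensorEquivQuotSMul S I
  let e2 : (S ⧸ (I • ⊤ : Submodule R S)) ≃ₗ[R] S ⧸ (I.map (algebraMap R S)).restrictScalars R :=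
    Submodule.quotEquivOfEq _ _ (Ideal.smul_top_eq_map I)
  let e3 : (S ⧸ (I.map (algebraMap R S)).restrictScalars R) ≃ₗ[R] S ⧸ I.map (algebraMap R S) :=
    Submodule.Quotient.restrictScalarsEquiv R _
  let e : (R ⧸ I) ⊗[R] S ≃ₗ[R ⧸ I] S ⧸ I.map (algebraMap R S) :=
    LinearEquiv.extendScalarsOfSurjective Ideal.Quotient.mk_surjective (e1 ≪≫ₗ e2 ≪≫ₗ e3)
  exact Module.Flat.of_linearEquiv e.symm

/-- Property (P): maximal ideals over `I` survive in `S`. -/
def PP : Prop := ∀ m : Ideal R, m.IsMaximal → I ≤ m → m.map (algebraMap R S) ≠ ⊤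

theorem pp_of_comap_surjective
    (h : Function.Surjective (PrimeSpectrum.comap (Ideal.quotientMap (I.map (algebraMap R S))
      (algebraMap R S) Ideal.le_comap_map))) : PP (S := S) I := by
  intro m hm hIm htop
  have hpr : (m.map (Ideal.Quotient.mk I)).IsPrime :=
    Ideal.map_isPrime_of_surjective Ideal.Quotient.mk_surjective (by rwa [Ideal.mk_ker])
  obtain ⟨q, hq⟩ := h ⟨m.map (Ideal.Quotient.mk I), hpr⟩
  have hle : m.map (algebraMap R S) ≤ q.asIdeal.comap (Ideal.Quotient.mk _) := by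
    rw [Ideal.map_le_iff_le_comap]
    intro a ha
    rw [Ideal.mem_comap, Ideal.mem_comap]
    have h1 : Ideal.Quotient.mk I a ∈ (PrimeSpectrum.comap (Ideal.quotientMap
        (I.map (algebraMap R S)) (algebraMap R S) Ideal.le_comap_map) q).asIdeal := by
      rw [hq]; exact Ideal.mem_map_of_mem _ ha
    rw [PrimeSpectrum.comap_asIdeal, Ideal.mem_comap, Ideal.quotientMap_mk] at h1
    exact h1
  rw [htop, top_le_iff] at hle
  exact (q.2.comap (Ideal.Quotient.mk _)).ne_top hle

theorem nontrivial_of_pp [Module.Flat R S] (hP : PP (S := S) I)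
    (M : Type u) [AddCommGroup M] [Module R M] (hM : ∀ (a : R) (m : M), a ∈ I → a • m = 0)
    [Nontrivial M] : Nontrivial (S ⊗[R] M) := by
  by_contra hnt
  rw [not_nontrivial_iff_subsingleton] at hnt
  obtain ⟨m, hm⟩ := exists_ne (0 : M)
  let Ann : Ideal R := LinearMap.ker (LinearMap.toSpanSingleton R M m)
  have hAnn : Ann ≠ ⊤ := by
    intro h
    have : (1 : R) ∈ Ann := by rw [h]; trivial
    rw [LinearMap.mem_ker, LinearMap.toSpanSingleton_apply, one_smul] at this
    exact hm this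
  have hI : I ≤ Ann := fun a ha => by
    rw [LinearMap.mem_ker, LinearMap.toSpanSingleton_apply]; exact hM a m ha
  obtain ⟨𝔪, h𝔪, hle⟩ := Ideal.exists_le_maximal Ann hAnn
  refine hP 𝔪 h𝔪 (hI.trans hle) ?_
  have hex : Function.Exact (Ann.subtype.lTensor S)
      ((LinearMap.toSpanSingleton R M m).lTensor S) :=
    Module.Flat.lTensor_exact S (LinearMap.exact_subtype_ker_map _)
  have h0 : (LinearMap.toSpanSingleton R M m).lTensor S ((1 : S) ⊗ₜ (1 : R)) = 0 :=
    Subsingleton.elim _ _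
  obtain ⟨w, hw⟩ := (hex _).mp h0
  have hrange : ∀ w : S ⊗[R] Ann, TensorProduct.rid R S (Ann.subtype.lTensor S w) ∈
      Ann.map (algebraMap R S) := by
    intro w
    induction w using TensorProduct.induction_on with
    | zero => simp
    | tmul s a =>
      simp only [LinearMap.lTensor_tmul, Submodule.subtype_apply, TensorProduct.rid_tmul]
      rw [Algebra.smul_def]
      exact Ideal.mul_mem_right _ _ (Ideal.mem_map_of_mem _ a.2)
    | add x y hx hy => rw [map_add, map_add]; exact add_mem hx hy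
  have h1 := hrange w
  rw [hw, TensorProduct.rid_tmul, one_smul] at h1
  rw [Ideal.eq_top_iff_one]
  exact Ideal.map_mono hle h1

theorem pp_of_nontrivial
    (h : ∀ (M : Type u) [AddCommGroup M] [Module R M], (∀ (a : R) (m : M), a ∈ I → a • m = 0) →
        Nontrivial M → Nontrivial (S ⊗[R] M)) : PP (S := S) I := by
  intro m hm hIm htop
  have hk : ∀ (a : R) (x : R ⧸ m), a ∈ I → a • x = 0 := by
    intro a x ha
    obtain ⟨r, rfl⟩ := Ideal.Quotient.mk_surjective x
    rw [Algebra.smul_def, Ideal.Quotient.algebraMap_eq, ← map_mul,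
      Ideal.Quotient.eq_zero_iff_mem]
    exact m.mul_mem_right _ (hIm ha)
  have hnt : Nontrivial (R ⧸ m) := Ideal.Quotient.nontrivial_iff.mpr hm.ne_top
  have := h (R ⧸ m) hk hnt
  have hsub : Subsingleton (S ⧸ (m • ⊤ : Submodule R S)) := by
    rw [Submodule.Quotient.subsingleton_iff, Ideal.smul_top_eq_map, htop]
    rfl
  have := (TensorProduct.tensorQuotEquivQuotSMul S m).symm.toEquiv.subsingleton_congr.mp hsub
  exact not_subsingleton _ this

theorem faithfullyFlat_of_pp [Module.Flat R S] (hP : PP (S := S) I) :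
    Module.FaithfullyFlat (R ⧸ I) (S ⧸ I.map (algebraMap R S)) := by
  have := flat_quot (S := S) I
  refine ⟨fun 𝔪b hmax htop => ?_⟩
  let 𝔪 : Ideal R := 𝔪b.comap (Ideal.Quotient.mk I)
  have h𝔪 : 𝔪.IsMaximal := Ideal.comap_isMaximal_of_surjective _ Ideal.Quotient.mk_surjective
  have hI𝔪 : I ≤ 𝔪 := fun a ha => by
    change Ideal.Quotient.mk I a ∈ 𝔪b
    rw [Ideal.Quotient.eq_zero_iff_mem.mpr ha]; exact zero_mem _
  refine hP 𝔪 h𝔪 hI𝔪 ?_
  let Q : Ideal (S ⧸ I.map (algebraMap R S)) :=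
    (𝔪.map (algebraMap R S)).map (Ideal.Quotient.mk _)
  have hle : (𝔪b • ⊤ : Submodule (R ⧸ I) (S ⧸ I.map (algebraMap R S))) ≤
      Q.restrictScalars (R ⧸ I) := by
    rw [Submodule.smul_le]
    intro ab hab b _
    obtain ⟨a, rfl⟩ := Ideal.Quotient.mk_surjective ab
    obtain ⟨s, rfl⟩ := Ideal.Quotient.mk_surjective b
    have ha : a ∈ 𝔪 := hab
    change _ ∈ Q
    rw [Algebra.smul_def]
    change Ideal.quotientMap _ (algebraMap R S) _ (Ideal.Quotient.mk I a) * _ ∈ Q
    rw [Ideal.quotientMap_mk, ← map_mul]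
    exact Ideal.mem_map_of_mem _ (Ideal.mul_mem_right _ _ (Ideal.mem_map_of_mem _ ha))
  have h1 : (1 : S ⧸ I.map (algebraMap R S)) ∈ Q := hle (by rw [htop]; trivial)
  rw [Ideal.mem_map_iff_of_surjective _ Ideal.Quotient.mk_surjective] at h1
  obtain ⟨t, ht, ht1⟩ := h1
  rw [Ideal.eq_top_iff_one]
  have h2 : 1 - t ∈ I.map (algebraMap R S) := by
    rw [← Ideal.Quotient.eq, ht1, map_one]
  have h3 : 1 - t ∈ 𝔪.map (algebraMap R S) := Ideal.map_mono hI𝔪 h2
  have := add_mem h3 ht
  rwa [sub_add_cancel] at this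

end Groth.Agent.Helper8.Tors
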