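import Mathlib
import Groth.Agent.Helper8.Tors6

set_option autoImplicit false
universe u
open TensorProduct

namespace Groth.Agent.Helper8.Tors

variable {R S : Type u} [CommRing R] [CommRing S] [Algebra R S] (I : Ideal R)

/-- the submodule of elements killed by `I` -/
def killedSub (M : Type u) [AddCommGroup M] [Module R M] : Submodule R M where
  carrier := {y | ∀ a ∈ I, a • y = 0}
  zero_mem' := fun a _ => smul_zero a
  add_mem' := by
    intro x y hx hy a ha
    rw [smul_add, hx a ha, hy a ha, add_zero]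
  smul_mem' := by
    intro c x hx a ha
    rw [smul_comm, hx a ha, smul_zero]

theorem killedSub_nontrivial (M : Type u) [AddCommGroup M] [Module R M]
    (hM : ∀ m : M, ∃ n : ℕ, ∀ a ∈ I ^ n, a • m = 0) [Nontrivial M] :
    Nontrivial (killedSub I M) := by
  classical
  obtain ⟨x, hx⟩ := exists_ne (0 : M)
  have hex : ∃ n : ℕ, ∀ a ∈ I ^ n, a • x = 0 := hM x
  have hn := Nat.find_spec hex
  have hmin := fun k (hk : k < Nat.find hex) => Nat.find_min hex hk
  have hpos : Nat.find hex ≠ 0 := by
    intro h0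
    rw [h0] at hn
    exact hx (by simpa using hn 1 (by simp))
  obtain ⟨k, hk⟩ := Nat.exists_eq_succ_of_ne_zero hpos
  have := hmin k (by rw [hk]; exact Nat.lt_succ_self k)
  push Not at this
  obtain ⟨b, hb, hbx⟩ := this
  refine ⟨⟨⟨b • x, fun a ha => ?_⟩, 0, fun h => hbx (congr_arg Subtype.val h)⟩⟩
  rw [← mul_smul]
  refine hn _ ?_
  rw [mul_comm a b, hk, pow_succ]
  exact Ideal.mul_mem_mul hb ha

theorem s2008 (R S : Type u) [CommRing R] [CommRing S] [Algebra R S] (I : Ideal R) :
    List.TFAE [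
      Module.Flat R S ∧ Module.FaithfullyFlat (R ⧸ I) (S ⧸ I.map (algebraMap R S)),
      Module.Flat R S ∧ Function.Surjective (PrimeSpectrum.comap (Ideal.quotientMap
        (I.map (algebraMap R S)) (algebraMap R S) Ideal.le_comap_map)),
      Module.Flat R S ∧ ∀ (M : Type u) [AddCommGroup M] [Module R M],
        (∀ (a : R) (m : M), a ∈ I → a • m = 0) → Nontrivial M → Nontrivial (S ⊗[R] M),
      Module.Flat R S ∧ ∀ (M : Type u) [AddCommGroup M] [Module R M],
        (∀ m : M, ∃ n : ℕ, ∀ a ∈ I ^ n, a • m = 0) → Nontrivial M → Nontrivial (S ⊗[R] M)] := by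
  tfae_have 1 → 2 := by
    rintro ⟨hfl, hff⟩
    exact ⟨hfl, PrimeSpectrum.comap_surjective_of_faithfullyFlat⟩
  tfae_have 2 → 3 := by
    rintro ⟨hfl, hs⟩
    refine ⟨hfl, fun M _ _ hM hnt => ?_⟩
    exact nontrivial_of_pp I (pp_of_comap_surjective I hs) M hM
  tfae_have 3 → 4 := by
    rintro ⟨hfl, h⟩
    refine ⟨hfl, fun M _ _ hM hnt => ?_⟩
    have hK := killedSub_nontrivial I M hM
    have h1 := h (killedSub I M) (fun a m ha => Subtype.ext (m.2 a ha)) hK
    have hinj : Function.Injective ((killedSub I M).subtype.lTensor S) :=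
      Module.Flat.lTensor_preserves_injective_linearMap _ (Submodule.injective_subtype _)
    exact hinj.nontrivial
  tfae_have 4 → 1 := by
    rintro ⟨hfl, h⟩
    refine ⟨hfl, faithfullyFlat_of_pp I (pp_of_nontrivial I fun M _ _ hM hnt => ?_)⟩
    exact h M (fun m => ⟨1, fun a ha => hM a m (by rwa [pow_one] at ha)⟩) hnt
  tfae_finish

end Groth.Agent.Helper8.Tors
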