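import Mathlib
import Groth.Agent.Helper8.Tors7

set_option autoImplicit false
universe u
open TensorProduct

namespace Groth.Agent.Helper8.Tors

variable {R S : Type u} [CommRing R] [CommRing S] [Algebra R S] (I : Ideal R)
variable {N : Type u} [AddCommGroup N] [Module R N]
variable {M' : Type u} [AddCommGroup M'] [Module S M'] [Module R M'] [IsScalarTower R S M']

/-- the fibre product module -/
def fib (φ : M' →ₗ[S] S ⊗[R] N) : Submodule R (M' × N) :=
  LinearMap.ker ((φ.restrictScalars R) ∘ₗ LinearMap.fst R M' N -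
    (TensorProduct.mk R S N 1) ∘ₗ LinearMap.snd R M' N)

theorem mem_fib (φ : M' →ₗ[S] S ⊗[R] N) (x : M' × N) :
    x ∈ fib φ ↔ φ x.1 = 1 ⊗ₜ x.2 := by
  simp [fib, sub_eq_zero]

/-- `N₀`: elements of `N` whose image lies in the range of `φ`. -/
def N0 (φ : M' →ₗ[S] S ⊗[R] N) : Submodule R N :=
  Submodule.comap (TensorProduct.mk R S N 1) ((LinearMap.range φ).restrictScalars R)

theorem mem_N0 (φ : M' →ₗ[S] S ⊗[R] N) (n : N) : n ∈ N0 φ ↔ ∃ m', φ m' = 1 ⊗ₜ n := by
  simp [N0]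

/-- everything in the image of `S ⊗ N₀` is in the range of `φ ∘ e`. -/
theorem exists_of_N0 (φ : M' →ₗ[S] S ⊗[R] N) (w : S ⊗[R] (N0 φ)) :
    ∃ x : S ⊗[R] (fib φ), φ (LinearMap.liftBaseChange S ((LinearMap.fst R M' N) ∘ₗ
      (fib φ).subtype) x) = (N0 φ).subtype.lTensor S w := by
  induction w using TensorProduct.induction_on with
  | zero => exact ⟨0, by simp⟩
  | tmul s n =>
    obtain ⟨m', hm'⟩ := (mem_N0 φ n).mp n.2
    refine ⟨s ⊗ₜ ⟨(m', (n : N)), (mem_fib φ _).mpr hm'⟩, ?_⟩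
    simp only [LinearMap.liftBaseChange_tmul, LinearMap.coe_comp, Submodule.coe_subtype,
      Function.comp_apply, LinearMap.fst_apply, map_smul, hm', LinearMap.lTensor_tmul]
    rw [TensorProduct.smul_tmul', smul_eq_mul, mul_one]
  | add a b ha hb =>
    obtain ⟨x, hx⟩ := ha
    obtain ⟨y, hy⟩ := hb
    exact ⟨x + y, by rw [map_add, map_add, map_add, hx, hy]⟩

end Groth.Agent.Helper8.Tors
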