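import Mathlib
import Groth.Agent.Helper8.Tors8

set_option autoImplicit false
universe u
open TensorProduct

namespace Groth.Agent.Helper8.Tors

variable {R S : Type u} [CommRing R] [CommRing S] [Algebra R S] {I : Ideal R}
variable {N : Type u} [AddCommGroup N] [Module R N]
variable {M' : Type u} [AddCommGroup M'] [Module S M'] [Module R M'] [IsScalarTower R S M']

theorem lTensor_N0_mem_range (φ : M' →ₗ[S] S ⊗[R] N) (w : S ⊗[R] (N0 φ)) :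
    (N0 φ).subtype.lTensor S w ∈ LinearMap.range φ := by
  obtain ⟨x, hx⟩ := exists_of_N0 φ w
  exact ⟨_, hx⟩

/-- the range of `φ` is the image of `S ⊗ N₀`. -/
theorem range_le_lTensor_N0 [Module.Flat R S] (hs : HS (S := S) I) (hi : HI (S := S) I)
    (φ : M' →ₗ[S] S ⊗[R] N)
    (hcoker : ∀ y : S ⊗[R] N, ∃ n : ℕ, ∀ a ∈ I ^ n, algebraMap R S a • y ∈ LinearMap.range φ)
    (m' : M') : φ m' ∈ LinearMap.range ((N0 φ).subtype.lTensor S) := by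
  -- `D = N / N₀` is torsion
  have hD : ∀ d : N ⧸ N0 φ, ∃ n : ℕ, ∀ a ∈ I ^ n, a • d = 0 := by
    intro d
    obtain ⟨n, rfl⟩ := Submodule.Quotient.mk_surjective _ d
    obtain ⟨k, hk⟩ := hcoker (1 ⊗ₜ n)
    refine ⟨k, fun a ha => ?_⟩
    rw [← Submodule.Quotient.mk_smul, Submodule.Quotient.mk_eq_zero, mem_N0]
    obtain ⟨m₁, hm₁⟩ := hk a ha
    refine ⟨m₁, ?_⟩
    rw [hm₁, algebraMap_smul, TensorProduct.tmul_smul]
  have hbD := bijective_mk_of_torsion hs hi (N ⧸ N0 φ) hD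
  have hex : Function.Exact ((N0 φ).subtype.lTensor S) ((N0 φ).mkQ.lTensor S) :=
    lTensor_exact S (LinearMap.exact_subtype_mkQ (N0 φ)) (N0 φ).mkQ_surjective
  obtain ⟨d, hd⟩ := hbD.2 ((N0 φ).mkQ.lTensor S (φ m'))
  obtain ⟨n₁, rfl⟩ := Submodule.Quotient.mk_surjective _ d
  have h1 : (N0 φ).mkQ.lTensor S (φ m' - 1 ⊗ₜ n₁) = 0 := by
    rw [map_sub, ← hd]; simp
  obtain ⟨w, hw⟩ := (hex _).mp h1
  have h2 : (1 : S) ⊗ₜ[R] n₁ ∈ LinearMap.range φ := by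
    have : (1 : S) ⊗ₜ[R] n₁ = φ m' - (N0 φ).subtype.lTensor S w := by rw [hw]; abel
    rw [this]
    exact sub_mem ⟨m', rfl⟩ (lTensor_N0_mem_range φ w)
  have h3 : n₁ ∈ N0 φ := (mem_N0 φ n₁).mpr (by obtain ⟨m₂, hm₂⟩ := h2; exact ⟨m₂, hm₂⟩)
  refine ⟨w + 1 ⊗ₜ ⟨n₁, h3⟩, ?_⟩
  rw [map_add, hw]
  simp

end Groth.Agent.Helper8.Tors
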