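import Mathlib
import Groth.Agent.Helper8.Tors9

set_option autoImplicit false
universe u
open TensorProduct

namespace Groth.Agent.Helper8.Tors

variable {R S : Type u} [CommRing R] [CommRing S] [Algebra R S] {I : Ideal R}
variable {N : Type u} [AddCommGroup N] [Module R N]
variable {M' : Type u} [AddCommGroup M'] [Module S M'] [Module R M'] [IsScalarTower R S M']

/-- the comparison map `S ⊗ fib φ → M'` -/
noncomputable def cmp (φ : M' →ₗ[S] S ⊗[R] N) : S ⊗[R] (fib φ) →ₗ[S] M' :=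
  LinearMap.liftBaseChange S ((LinearMap.fst R M' N) ∘ₗ (fib φ).subtype)

theorem cmp_tmul (φ : M' →ₗ[S] S ⊗[R] N) (s : S) (x : fib φ) :
    cmp φ (s ⊗ₜ x) = s • (x : M' × N).1 := by
  simp [cmp]

/-- `ker φ` as an `R`-submodule -/
def kerR (φ : M' →ₗ[S] S ⊗[R] N) : Submodule R M' := (LinearMap.ker φ).restrictScalars R

/-- the inclusion `ker φ → fib φ` -/
def kerIncl (φ : M' →ₗ[S] S ⊗[R] N) : kerR φ →ₗ[R] fib φ :=
  LinearMap.codRestrict (fib φ) ((LinearMap.inl R M' N) ∘ₗ (kerR φ).subtype) (by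
    rintro ⟨k, hk⟩
    rw [mem_fib]
    have : φ k = 0 := hk
    simp [this])

/-- the projection `fib φ → N₀` -/
def toN0 (φ : M' →ₗ[S] S ⊗[R] N) : fib φ →ₗ[R] N0 φ :=
  LinearMap.codRestrict (N0 φ) ((LinearMap.snd R M' N) ∘ₗ (fib φ).subtype) (by
    rintro ⟨x, hx⟩
    rw [mem_N0]
    exact ⟨x.1, (mem_fib φ x).mp hx⟩)

theorem exact_kerIncl_toN0 (φ : M' →ₗ[S] S ⊗[R] N) :
    Function.Exact (kerIncl φ) (toN0 φ) := by
  intro x
  constructor
  · intro hx
    obtain ⟨⟨m', n⟩, hmem⟩ := x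
    have hn : n = 0 := congr_arg Subtype.val hx
    subst hn
    have hm' : φ m' = 0 := by
      have := (mem_fib φ _).mp hmem
      simpa using this
    exact ⟨⟨m', hm'⟩, rfl⟩
  · rintro ⟨⟨k, hk⟩, rfl⟩
    rfl

theorem toN0_surjective (φ : M' →ₗ[S] S ⊗[R] N) : Function.Surjective (toN0 φ) := by
  rintro ⟨n, hn⟩
  obtain ⟨m', hm'⟩ := (mem_N0 φ n).mp hn
  exact ⟨⟨(m', n), (mem_fib φ _).mpr hm'⟩, rfl⟩

theorem phi_cmp (φ : M' →ₗ[S] S ⊗[R] N) (x : S ⊗[R] (fib φ)) :
    φ (cmp φ x) = (N0 φ).subtype.lTensor S ((toN0 φ).lTensor S x) := by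
  induction x using TensorProduct.induction_on with
  | zero => simp
  | tmul s x =>
    rw [cmp_tmul, map_smul, (mem_fib φ _).mp x.2]
    simp only [LinearMap.lTensor_tmul, Submodule.subtype_apply]
    rw [TensorProduct.smul_tmul', smul_eq_mul, mul_one]
    rfl
  | add a b ha hb => simp only [map_add, ha, hb]

theorem cmp_bijective [Module.Flat R S] (hs : HS (S := S) I) (hi : HI (S := S) I)
    (φ : M' →ₗ[S] S ⊗[R] N)
    (hker : ∀ x : M', φ x = 0 → ∃ n : ℕ, ∀ a ∈ I ^ n, algebraMap R S a • x = 0)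
    (hcoker : ∀ y : S ⊗[R] N, ∃ n : ℕ, ∀ a ∈ I ^ n, algebraMap R S a • y ∈ LinearMap.range φ) :
    Function.Bijective (cmp φ) := by
  have hK : ∀ k : kerR φ, ∃ n : ℕ, ∀ a ∈ I ^ n, a • k = 0 := by
    rintro ⟨k, hk⟩
    obtain ⟨n, hn⟩ := hker k hk
    refine ⟨n, fun a ha => Subtype.ext ?_⟩
    change a • k = 0
    rw [← algebraMap_smul S a k]
    exact hn a ha
  have hbK := bijective_mk_of_torsion hs hi (kerR φ) hK
  have hinj : Function.Injective ((N0 φ).subtype.lTensor S) :=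
    Module.Flat.lTensor_preserves_injective_linearMap _ (Submodule.injective_subtype _)
  have hex : Function.Exact ((kerIncl φ).lTensor S) ((toN0 φ).lTensor S) :=
    lTensor_exact S (exact_kerIncl_toN0 φ) (toN0_surjective φ)
  constructor
  · rw [injective_iff_map_eq_zero]
    intro x hx
    have h1 : (N0 φ).subtype.lTensor S ((toN0 φ).lTensor S x) = 0 := by
      rw [← phi_cmp, hx, map_zero]
    have h2 : (toN0 φ).lTensor S x = 0 := hinj (h1.trans (map_zero _).symm)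
    obtain ⟨z, rfl⟩ := (hex x).mp h2
    obtain ⟨k, rfl⟩ := hbK.2 z
    have h3 : cmp φ ((kerIncl φ).lTensor S (TensorProduct.mk R S _ 1 k)) = (k : M') := by
      simp [cmp_tmul, kerIncl]
    rw [h3] at hx
    have hk0 : k = 0 := Subtype.ext hx
    rw [hk0, map_zero, map_zero]
  · intro m'
    obtain ⟨w, hw⟩ := range_le_lTensor_N0 hs hi φ hcoker m'
    obtain ⟨x, hx⟩ := exists_of_N0 φ w
    have hk : φ (m' - cmp φ x) = 0 := by
      rw [map_sub, ← hw]
      exact sub_eq_zero.mpr hx.symm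
    refine ⟨x + (kerIncl φ).lTensor S (TensorProduct.mk R S _ 1 ⟨m' - cmp φ x, hk⟩), ?_⟩
    rw [map_add]
    have h3 : cmp φ ((kerIncl φ).lTensor S (TensorProduct.mk R S _ 1
        (⟨m' - cmp φ x, hk⟩ : kerR φ))) = m' - cmp φ x := by
      simp [cmp_tmul, kerIncl]
    rw [h3]; abel

theorem s2007 (R S : Type u) [CommRing R] [CommRing S] [Algebra R S] [Module.Flat R S]
    (I : Ideal R)
    (hq : Function.Bijective (Ideal.quotientMap (I.map (algebraMap R S)) (algebraMap R S)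
      Ideal.le_comap_map))
    (N : Type u) [AddCommGroup N] [Module R N] (M' : Type u) [AddCommGroup M'] [Module S M']
    (φ : M' →ₗ[S] S ⊗[R] N)
    (hker : ∀ x : M', φ x = 0 → ∃ n : ℕ, ∀ a ∈ I ^ n, algebraMap R S a • x = 0)
    (hcoker : ∀ y : S ⊗[R] N, ∃ n : ℕ, ∀ a ∈ I ^ n, algebraMap R S a • y ∈ LinearMap.range φ) :
    ∃ (M : Type u) (_ : AddCommGroup M) (_ : Module R M) (ψ : M →ₗ[R] N)
      (e : S ⊗[R] M ≃ₗ[S] M'), φ ∘ₗ e.toLinearMap = ψ.baseChange S := by
  let _ : Module R M' := Module.compHom M' (algebraMap R S)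
  have : IsScalarTower R S M' := IsScalarTower.of_algebraMap_smul fun _ _ => rfl
  have hb := cmp_bijective (hs_of_bijective I hq) (hi_of_bijective I hq) φ hker hcoker
  refine ⟨fib φ, inferInstance, inferInstance, (LinearMap.snd R M' N) ∘ₗ (fib φ).subtype,
    LinearEquiv.ofBijective (cmp φ) hb, ?_⟩
  ext x
  simp only [AlgebraTensorModule.curry_apply, LinearMap.restrictScalars_comp, curry_apply,
    LinearMap.coe_comp, LinearMap.coe_restrictScalars, LinearEquiv.coe_coe,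
    LinearEquiv.ofBijective_apply, Function.comp_apply, LinearMap.baseChange_tmul,
    Submodule.coe_subtype, LinearMap.snd_apply]
  rw [cmp_tmul, one_smul]
  exact (mem_fib φ _).mp x.2

end Groth.Agent.Helper8.Tors
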