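import Mathlib
import Groth.Prelude.Def_ConstAct2
import Groth.Prelude.Def_Hoch

set_option autoImplicit false
universe u

namespace Groth.Agent.Helper8.TotInt

open TensorProduct

variable (R : Type u) [CommRing R] (B : Type u) [CommRing B] [Algebra R B]
  (Γ : Type u) [Group Γ] [Fintype Γ] [DecidableEq Γ]

/-- coefficient extraction -/
noncomputable def coefAt (g : Γ) : B ⊗[R] ConstGrp.F R Γ →ₗ[R] B :=
  (TensorProduct.rid R B).toLinearMap ∘ₗ (LinearMap.lTensor B (ConstGrp.ev R g).toLinearMap)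

omit [Fintype Γ] [DecidableEq Γ] in
theorem coefAt_tmul (g : Γ) (b : B) (f : ConstGrp.F R Γ) :
    coefAt R B Γ g (b ⊗ₜ[R] f) = f g • b := by
  simp [coefAt]

variable [MulSemiringAction Γ B] [SMulCommClass Γ R B]

theorem main :
    letI := ConstAct.comod R B Γ
    (∃ α : ConstGrp.F R Γ →ₗ[R] B, Hoch.IsComodHom (ConstGrp.F R Γ) α ∧ α 1 = 1) ↔
      ∀ c : B, c ∈ ConstAct.inv R B Γ → ∃ b : B, ∑ γ : Γ, γ • b = c := by
  letI := ConstAct.comod R B Γ
  constructor
  · rintro ⟨α, hα, hα1⟩ c hc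
    have hkey : ∀ g h : Γ, g • α (ConstGrp.e R h) = α (ConstGrp.e R (h * g⁻¹)) := by
      intro g h
      have h1 := congrArg (fun φ => coefAt R B Γ g (φ (ConstGrp.e R h))) hα
      simp only [LinearMap.comp_apply] at h1
      have hl : (HopfRep.Comod.coact (k := R) (A := ConstGrp.F R Γ) (V := B)) (α (ConstGrp.e R h)) =
          ∑ γ : Γ, (γ • α (ConstGrp.e R h)) ⊗ₜ[R] ConstGrp.e R γ :=
        ConstAct.coactLin_apply R B Γ _
      have hr : (HopfRep.Comod.coact (k := R) (A := ConstGrp.F R Γ) (V := ConstGrp.F R Γ))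
          (ConstGrp.e R h) = ∑ a : Γ, ConstGrp.e R a ⊗ₜ[R] ConstGrp.e R (a⁻¹ * h) :=
        ConstGrp.comul_e R Γ h
      rw [hl, hr] at h1
      simp only [map_sum, LinearMap.rTensor_tmul, coefAt_tmul, ConstGrp.e_apply] at h1
      rw [Finset.sum_eq_single g, Finset.sum_eq_single (h * g⁻¹)] at h1
      · simpa using h1
      · intro a _ ha
        rw [if_neg, zero_smul]
        intro hg
        apply ha
        rw [hg]
        group
      · intro hh
        exact absurd (Finset.mem_univ _) hh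
      · intro a _ ha
        rw [if_neg (Ne.symm ha), zero_smul]
      · intro hh
        exact absurd (Finset.mem_univ _) hh
    have htr : ∑ γ : Γ, γ • α (ConstGrp.e R 1) = 1 := by
      simp_rw [hkey, one_mul]
      rw [← map_sum, ← hα1]
      congr 1
      rw [← ConstGrp.sum_e (R := R) (G := Γ)]
      exact Fintype.sum_equiv (Equiv.inv Γ) _ _ (fun g => rfl)
    refine ⟨c * α (ConstGrp.e R 1), ?_⟩
    simp_rw [smul_mul', (ConstAct.mem_inv R B Γ c).1 hc, ← Finset.mul_sum, htr, mul_one]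
  · intro h
    obtain ⟨b, hb⟩ := h 1 (by
      rw [ConstAct.mem_inv]
      intro g
      exact smul_one g)
    let α : ConstGrp.F R Γ →ₗ[R] B :=
      ∑ g : Γ, (ConstGrp.ev R g).toLinearMap.smulRight (g⁻¹ • b)
    have hαe : ∀ h : Γ, α (ConstGrp.e R h) = h⁻¹ • b := by
      intro h
      simp only [α, LinearMap.sum_apply, LinearMap.smulRight_apply, AlgHom.toLinearMap_apply,
        ConstGrp.ev_apply, ConstGrp.e_apply]
      rw [Finset.sum_eq_single h]
      · simp
      · intro a _ ha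
        rw [if_neg ha, zero_smul]
      · intro hh
        exact absurd (Finset.mem_univ _) hh
    refine ⟨α, ?_, ?_⟩
    · apply ConstGrp.linearMap_ext
      intro h
      simp only [LinearMap.comp_apply]
      have hl : (HopfRep.Comod.coact (k := R) (A := ConstGrp.F R Γ) (V := B)) (α (ConstGrp.e R h)) =
          ∑ γ : Γ, (γ • α (ConstGrp.e R h)) ⊗ₜ[R] ConstGrp.e R γ :=
        ConstAct.coactLin_apply R B Γ _
      have hr : (HopfRep.Comod.coact (k := R) (A := ConstGrp.F R Γ) (V := ConstGrp.F R Γ))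
          (ConstGrp.e R h) = ∑ a : Γ, ConstGrp.e R a ⊗ₜ[R] ConstGrp.e R (a⁻¹ * h) :=
        ConstGrp.comul_e R Γ h
      rw [hl, hr]
      simp only [map_sum, LinearMap.rTensor_tmul, hαe]
      refine Fintype.sum_equiv ((Equiv.inv Γ).trans (Equiv.mulLeft h)) _ _ (fun g => ?_)
      show (g • h⁻¹ • b) ⊗ₜ[R] ConstGrp.e R g = ((h * g⁻¹)⁻¹ • b) ⊗ₜ[R] ConstGrp.e R ((h * g⁻¹)⁻¹ * h)
      rw [mul_inv_rev, inv_inv, mul_smul, mul_assoc, inv_mul_cancel, mul_one]
    · rw [← ConstGrp.sum_e (R := R) (G := Γ), map_sum]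
      simp_rw [hαe]
      rw [← hb]
      exact Fintype.sum_equiv (Equiv.inv Γ) _ _ (fun g => rfl)

end Groth.Agent.Helper8.TotInt
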