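import Mathlib

universe u v

namespace Groth.Agent.Helper8.TrI

open Ideal

/-- The trace ideal of a module: left ideal spanned by all values `g q`. -/
def trace (A : Type u) [Ring A] (P : Type v) [AddCommGroup P] [Module A P] : Ideal A :=
  Ideal.span (Set.range fun gq : (P →ₗ[A] A) × P => gq.1 gq.2)

theorem apply_mem_trace {A : Type u} [Ring A] {P : Type v} [AddCommGroup P] [Module A P]
    (g : P →ₗ[A] A) (q : P) : g q ∈ trace A P :=
  Ideal.subset_span ⟨(g, q), rfl⟩

instance trace_isTwoSided (A : Type u) [Ring A] (P : Type v) [AddCommGroup P] [Module A P] :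
    (trace A P).IsTwoSided := by
  refine ⟨fun {a} b ha => ?_⟩
  unfold trace at ha
  induction ha using Submodule.span_induction with
  | mem x hx =>
    obtain ⟨⟨g, q⟩, rfl⟩ := hx
    exact apply_mem_trace (g.smulRight b) q
  | zero => simp
  | add x y _ _ hx hy => rw [add_mul]; exact add_mem hx hy
  | smul c x _ hx =>
    rw [smul_eq_mul, mul_assoc]
    exact Ideal.mul_mem_left _ c hx

theorem not_trace_le_jacobson (A : Type u) [Ring A] (P : Type v) [AddCommGroup P] [Module A P]
    [Module.Finite A P] [Module.Projective A P] [Nontrivial P] :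
    ¬ trace A P ≤ Ring.jacobson A := by
  intro hle
  obtain ⟨n, f, g, -, -, hfg⟩ := Module.Finite.exists_comp_eq_id_of_projective A P
  have hlt := Submodule.jacobson_smul_lt_top (⊤ : Submodule A P)
  refine hlt.ne (eq_top_iff.mpr fun p _ => ?_)
  have hp : p = ∑ i, (g p i) • f (Pi.single i 1) := by
    conv_lhs => rw [← LinearMap.id_apply (R := A) p, ← hfg, LinearMap.comp_apply]
    conv_lhs => rw [← Finset.univ_sum_single (g p)]
    rw [map_sum]
    refine Finset.sum_congr rfl fun i _ => ?_
    rw [← map_smul]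
    congr 1
    ext j
    by_cases h : j = i
    · subst h; simp
    · simp [h]
  rw [hp]
  refine Submodule.sum_mem _ fun i _ => ?_
  refine Submodule.smul_mem_smul (hle ?_) Submodule.mem_top
  exact apply_mem_trace ((LinearMap.proj i).comp g) p

theorem trace_eq_top (A : Type u) [Ring A] [IsSimpleRing (A ⧸ Ring.jacobson A)]
    (P : Type v) [AddCommGroup P] [Module A P]
    [Module.Finite A P] [Module.Projective A P] [Nontrivial P] :
    trace A P = ⊤ := by
  have hnle := not_trace_le_jacobson A P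
  obtain ⟨t, htT, htJ⟩ := Set.not_subset.mp hnle
  let π := Ideal.Quotient.mk (Ring.jacobson A)
  have h1 : (1 : A ⧸ Ring.jacobson A) ∈ ((trace A P).map π).toTwoSided := by
    refine IsSimpleRing.one_mem_of_ne_zero_mem _ (x := π t) ?_ ?_
    · intro h0
      exact htJ (Ideal.Quotient.eq_zero_iff_mem.mp h0)
    · rw [Ideal.mem_toTwoSided]
      exact Ideal.mem_map_of_mem π htT
  rw [Ideal.mem_toTwoSided,
    Ideal.mem_map_iff_of_surjective π Ideal.Quotient.mk_surjective] at h1
  obtain ⟨t1, ht1, ht1'⟩ := h1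
  have hj : 1 - t1 ∈ Ring.jacobson A := by
    rw [← Ideal.Quotient.eq_zero_iff_mem, map_sub, map_one]
    exact sub_eq_zero.mpr ht1'.symm
  by_contra hne
  have hlt : trace A P < ⊤ := lt_top_iff_ne_top.mpr hne
  have : Nontrivial (A ⧸ trace A P) := Submodule.Quotient.nontrivial_iff.mpr hlt.ne
  have hlt2 := Submodule.jacobson_smul_lt_top (⊤ : Submodule A (A ⧸ trace A P))
  refine hlt2.ne (eq_top_iff.mpr fun x _ => ?_)
  obtain ⟨a, rfl⟩ := Submodule.Quotient.mk_surjective _ x
  have : (Submodule.Quotient.mk a : A ⧸ trace A P)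
      = (a * (1 - t1)) • Submodule.Quotient.mk 1 := by
    rw [← Submodule.Quotient.mk_smul, smul_eq_mul, mul_one]
    rw [Submodule.Quotient.eq]
    have : a - a * (1 - t1) = a * t1 := by noncomm_ring
    rw [this]
    exact Ideal.mul_mem_left _ a ht1
  rw [this]
  exact Submodule.smul_mem_smul (Ideal.mul_mem_left _ a hj) Submodule.mem_top

theorem exists_sum_eq_one (A : Type u) [Ring A] [IsSimpleRing (A ⧸ Ring.jacobson A)]
    (P : Type v) [AddCommGroup P] [Module A P]
    [Module.Finite A P] [Module.Projective A P] [Nontrivial P] :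
    ∃ (s : Finset ((P →ₗ[A] A) × P)) (q : (P →ₗ[A] A) × P → P),
      ∑ i ∈ s, i.1 (q i) = 1 := by
  have h1 : (1 : A) ∈ trace A P := by rw [trace_eq_top]; trivial
  unfold trace Ideal.span at h1
  rw [Finsupp.mem_span_range_iff_exists_finsupp] at h1
  obtain ⟨c, hc⟩ := h1
  refine ⟨c.support, fun i => c i • i.2, ?_⟩
  rw [← hc, Finsupp.sum]
  refine Finset.sum_congr rfl fun i _ => ?_
  rw [map_smul]

theorem s13848 (A : Type u) [Ring A] [IsSimpleRing (A ⧸ Ring.jacobson A)]
    (P : Type v) [AddCommGroup P] [Module A P] [Module.Finite A P] [Module.Projective A P]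
    [Nontrivial P] (u : P ≃ₗ[A] P)
    (hu : ∀ f : Module.End A P, (u : P →ₗ[A] P) ∘ₗ f = f ∘ₗ (u : P →ₗ[A] P)) :
    ∃! a : A, (∀ b : A, a * b = b * a) ∧ ∀ x : P, u x = a • x := by
  obtain ⟨s, q, hsq⟩ := exists_sum_eq_one A P
  have faithful : ∀ c : A, (∀ x : P, c • x = 0) → c = 0 := by
    intro c hc
    calc c = c * 1 := (mul_one c).symm
      _ = ∑ i ∈ s, c * i.1 (q i) := by rw [← hsq, Finset.mul_sum]
      _ = ∑ i ∈ s, i.1 (c • q i) := by simp
      _ = 0 := by simp [hc]
  have key : ∀ x : P, u x = (∑ i ∈ s, i.1 (u (q i))) • x := by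
    intro x
    calc u x = (1 : A) • u x := (one_smul _ _).symm
      _ = ∑ i ∈ s, i.1 (q i) • u x := by rw [← hsq, Finset.sum_smul]
      _ = ∑ i ∈ s, i.1 (u (q i)) • x := by
          refine Finset.sum_congr rfl fun i _ => ?_
          have := LinearMap.congr_fun (hu (i.1.smulRight x)) (q i)
          simpa using this
      _ = _ := by rw [Finset.sum_smul]
  refine ⟨∑ i ∈ s, i.1 (u (q i)), ⟨fun b => ?_, key⟩, ?_⟩
  · rw [← sub_eq_zero]
    refine faithful _ fun x => ?_
    rw [sub_smul, mul_smul, mul_smul, ← key, ← key, map_smul, sub_self]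
  · rintro a' ⟨-, ha'⟩
    rw [← sub_eq_zero]
    refine faithful _ fun x => ?_
    rw [sub_smul, ← ha', ← key, sub_self]

end Groth.Agent.Helper8.TrI
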