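import Mathlib

namespace Groth.Agent.Helper8.TransEig

universe u

open Subgroup

variable (A : Type u) [CommRing A] (G : Type u) [Group G] [Finite G] (g : G) (l : A)
  (hl : l ^ orderOf g = 1)

/-- right cosets of `⟨g⟩` -/
abbrev Q := Quotient (QuotientGroup.rightRel (zpowers g))

variable {G}

/-- chosen representative of the coset of `h` -/
noncomputable def rep (h : G) : G := (Quotient.mk (QuotientGroup.rightRel (zpowers g)) h).out

theorem rep_spec (h : G) : h * (rep g h)⁻¹ ∈ zpowers g := by
  have := Quotient.mk_out (s := QuotientGroup.rightRel (zpowers g)) h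
  exact QuotientGroup.rightRel_apply.mp this

theorem exists_pow (h : G) : ∃ n : ℕ, g ^ n = h * (rep g h)⁻¹ := by
  have h1 := rep_spec g h
  rw [← mem_powers_iff_mem_zpowers] at h1
  exact Submonoid.mem_powers_iff _ _ |>.mp h1

/-- exponent -/
noncomputable def kk (h : G) : ℕ := (exists_pow g h).choose

theorem kk_spec (h : G) : g ^ kk g h = h * (rep g h)⁻¹ := (exists_pow g h).choose_spec

variable {A}

/-- the cocycle -/
noncomputable def cc (h : G) : A := l ^ kk g h

include hl in
theorem cc_eq (h : G) (n : ℕ) (hn : g ^ n = h * (rep g h)⁻¹) : cc g l h = l ^ n := by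
  unfold cc
  have h1 : g ^ kk g h = g ^ n := by rw [kk_spec, hn]
  rw [pow_eq_pow_iff_modEq] at h1
  have h2 : orderOf l ∣ orderOf g := orderOf_dvd_of_pow_eq_one hl
  have h3 : kk g h % orderOf l = n % orderOf l := h1.of_dvd h2
  rw [← pow_mod_orderOf l (kk g h), h3, pow_mod_orderOf]

theorem mk_mul (h : G) : (Quotient.mk (QuotientGroup.rightRel (zpowers g)) (g * h)) =
    Quotient.mk (QuotientGroup.rightRel (zpowers g)) h := by
  apply Quotient.sound
  change QuotientGroup.rightRel (zpowers g) (g * h) h
  rw [QuotientGroup.rightRel_apply]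
  have : h * (g * h)⁻¹ = g⁻¹ := by group
  rw [this]
  exact inv_mem (mem_zpowers g)

theorem rep_mul (h : G) : rep g (g * h) = rep g h := by
  unfold rep
  rw [mk_mul]

include hl in
theorem cc_mul (h : G) : cc g l (g * h) = l * cc g l h := by
  rw [cc_eq g l hl (g * h) (kk g h + 1), pow_succ']
  · rfl
  · rw [pow_succ', kk_spec, rep_mul, mul_assoc]

theorem rep_out (q : Q G g) : rep g q.out = q.out := by
  unfold rep
  rw [Quotient.out_eq]

include hl in
theorem cc_out (q : Q G g) : cc g l q.out = 1 := by
  rw [cc_eq g l hl q.out 0, pow_zero]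
  rw [pow_zero, rep_out, mul_inv_cancel]

/-- the translation operator -/
noncomputable abbrev TT : (G → A) →ₗ[A] (G → A) :=
  LinearMap.funLeft A A (fun h : G => g * h) - l • LinearMap.id

theorem mem_E (v : G → A) : v ∈ LinearMap.ker (TT g l) ↔ ∀ h, v (g * h) = l * v h := by
  rw [LinearMap.mem_ker]
  constructor
  · intro hv h
    have := congrFun hv h
    simp only [LinearMap.sub_apply, LinearMap.funLeft_apply, LinearMap.smul_apply,
      LinearMap.id_apply, Pi.sub_apply, Pi.smul_apply, smul_eq_mul, Pi.zero_apply] at this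
    exact sub_eq_zero.mp this
  · intro hv
    funext h
    simp only [LinearMap.sub_apply, LinearMap.funLeft_apply, LinearMap.smul_apply,
      LinearMap.id_apply, Pi.sub_apply, Pi.smul_apply, smul_eq_mul, Pi.zero_apply]
    exact sub_eq_zero.mpr (hv h)

/-- `Ψ` -/
noncomputable def Psi : (Q G g → A) →ₗ[A] (G → A) where
  toFun w := fun h => cc g l h * w (Quotient.mk _ h)
  map_add' w w' := by funext h; simp [mul_add]
  map_smul' a w := by funext h; simp [mul_left_comm]

/-- `Φ` -/
noncomputable def Phi : (G → A) →ₗ[A] (Q G g → A) where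
  toFun v := fun q => v q.out
  map_add' w w' := by funext h; simp
  map_smul' a w := by funext h; simp

include hl in
theorem Psi_mem (w : Q G g → A) : Psi g l w ∈ LinearMap.ker (TT g l) := by
  rw [mem_E]
  intro h
  change cc g l (g * h) * w (Quotient.mk _ (g * h)) = l * (cc g l h * w (Quotient.mk _ h))
  rw [cc_mul g l hl, mk_mul, mul_assoc]

include hl in
theorem Phi_Psi (w : Q G g → A) : Phi g (Psi g l w) = w := by
  funext q
  change cc g l q.out * w (Quotient.mk _ q.out) = w q
  rw [cc_out g l hl, one_mul, Quotient.out_eq]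

theorem pow_mul_E (v : G → A) (hv : v ∈ LinearMap.ker (TT g l)) (n : ℕ) (x : G) :
    v (g ^ n * x) = l ^ n * v x := by
  rw [mem_E] at hv
  induction n with
  | zero => simp
  | succ n ih => rw [pow_succ', mul_assoc, hv, ih, pow_succ']; ring

theorem Psi_Phi (v : G → A) (hv : v ∈ LinearMap.ker (TT g l)) : Psi g l (Phi g v) = v := by
  funext h
  change cc g l h * v (Quotient.mk (QuotientGroup.rightRel (zpowers g)) h).out = v h
  have h1 : h = g ^ kk g h * rep g h := by
    rw [kk_spec, inv_mul_cancel_right]
  conv_rhs => rw [h1, pow_mul_E g l v hv]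
  rfl

include hl in
theorem main [Nontrivial A] :
    Module.Free A (LinearMap.ker (LinearMap.funLeft A A (fun h : G => g * h) - l • LinearMap.id)) ∧
      Module.finrank A (LinearMap.ker (LinearMap.funLeft A A (fun h : G => g * h) - l • LinearMap.id)) * orderOf g = Nat.card G ∧
      ∃ E' : Submodule A (G → A), IsCompl (LinearMap.ker (LinearMap.funLeft A A (fun h : G => g * h) - l • LinearMap.id)) E' := by
  classical
  change Module.Free A (LinearMap.ker (TT g l)) ∧
    Module.finrank A (LinearMap.ker (TT g l)) * orderOf g = Nat.card G ∧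
    ∃ E' : Submodule A (G → A), IsCompl (LinearMap.ker (TT g l)) E'
  haveI : Fintype (Q G g) := Fintype.ofFinite _
  let e : LinearMap.ker (TT g l) ≃ₗ[A] (Q G g → A) :=
    LinearEquiv.ofLinearMap ((Phi g).comp (LinearMap.ker (TT g l)).subtype)
      ((Psi g l).codRestrict (LinearMap.ker (TT g l)) (Psi_mem g l hl))
      (by
        apply LinearMap.ext
        intro w
        exact Phi_Psi g l hl w)
      (by
        apply LinearMap.ext
        rintro ⟨v, hv⟩
        apply Subtype.ext
        exact Psi_Phi g l v hv)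
  refine ⟨Module.Free.of_equiv e.symm, ?_, ?_⟩
  · rw [e.finrank_eq, Module.finrank_fintype_fun_eq_card]
    have h1 := Subgroup.card_eq_card_quotient_mul_card_subgroup (zpowers g)
    rw [Nat.card_zpowers] at h1
    rw [h1, ← Nat.card_eq_fintype_card,
      Nat.card_congr (QuotientGroup.quotientRightRelEquivQuotientLeftRel (zpowers g))]
  · let f : (G → A) →ₗ[A] LinearMap.ker (TT g l) :=
      ((Psi g l).comp (Phi g)).codRestrict (LinearMap.ker (TT g l))
        (fun v => Psi_mem g l hl _)
    refine ⟨LinearMap.ker f, LinearMap.isCompl_of_proj (f := f) ?_⟩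
    rintro ⟨v, hv⟩
    apply Subtype.ext
    exact Psi_Phi g l v hv

end Groth.Agent.Helper8.TransEig
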