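import Mathlib.AlgebraicGeometry.Group.Abelian
import Mathlib.AlgebraicGeometry.AlgClosed.Basic
import Mathlib.AlgebraicGeometry.Morphisms.QuasiFinite
import Mathlib.AlgebraicGeometry.Morphisms.Proper
import Mathlib.AlgebraicGeometry.IdealSheaf.Subscheme
import Mathlib.CategoryTheory.Monoidal.Cartesian.Over
import Mathlib.CategoryTheory.Monoidal.Cartesian.Grp

set_option autoImplicit false
universe u
open CategoryTheory CategoryTheory.Limits MonoidalCategory CartesianMonoidalCategory MonObj GrpObj AlgebraicGeometry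

namespace Groth.Agent.Helper8.TransStab

variable {k : Type u} [Field k]

/-- the point underlying a `k`-point -/
noncomputable def pt (A : Over (Spec (CommRingCat.of k)))
    (x : 𝟙_ (Over (Spec (CommRingCat.of k))) ⟶ A) : A.left :=
  x.left.base (IsLocalRing.closedPoint k)

lemma pt_comp {A B : Over (Spec (CommRingCat.of k))} (f : A ⟶ B)
    (x : 𝟙_ (Over (Spec (CommRingCat.of k))) ⟶ A) :
    pt B (x ≫ f) = f.left.base (pt A x) := by
  simp [pt]

lemma pt_injective [IsAlgClosed k] (A : Over (Spec (CommRingCat.of k))) [LocallyOfFiniteType A.hom] :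
    Function.Injective (pt A) := by
  intro x y h
  apply Over.OverMorphism.ext
  refine ext_of_apply_closedPoint_eq A.hom ?_ ?_ h
  · simpa using Over.w x
  · simpa using Over.w y

lemma exists_pt_eq [IsAlgClosed k] (A : Over (Spec (CommRingCat.of k))) [LocallyOfFiniteType A.hom]
    (w : A.left) (hw : IsClosed {w}) : ∃ x, pt A x = w :=
  ⟨Over.homMk (pointOfClosedPoint A.hom w hw) (by simp), by simp [pt]⟩

variable (A : Over (Spec (CommRingCat.of k))) [GrpObj A]

lemma comp_toUnit_id (z : 𝟙_ (Over (Spec (CommRingCat.of k))) ⟶ A) :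
    z ≫ toUnit A = 𝟙 _ := toUnit_unique _ _

lemma t_comp (z x : 𝟙_ (Over (Spec (CommRingCat.of k))) ⟶ A) :
    z ≫ (𝟙 A * (toUnit A ≫ x)) = z * x := by
  rw [MonObj.comp_mul, Category.comp_id, ← Category.assoc, comp_toUnit_id, Category.id_comp]

lemma r_comp (z x : 𝟙_ (Over (Spec (CommRingCat.of k))) ⟶ A) :
    x ≫ ((toUnit A ≫ z) * (𝟙 A)⁻¹) = z * x⁻¹ := by
  rw [MonObj.comp_mul, GrpObj.comp_inv, Category.comp_id, ← Category.assoc, comp_toUnit_id,
    Category.id_comp]

lemma one_eq_eta : (1 : 𝟙_ (Over (Spec (CommRingCat.of k))) ⟶ A) = η[A] := by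
  rw [Hom.one_def]
  have : toUnit (𝟙_ (Over (Spec (CommRingCat.of k)))) = 𝟙 _ := toUnit_unique _ _
  rw [this, Category.id_comp]

theorem main [IsAlgClosed k] [IsProper A.hom]
    (U : A.left.Opens) (hU : IsAffineOpen U) (he : Set.range η[A].left.base ⊆ (U : Set A.left)) :
    Set.Finite {x : 𝟙_ (Over (Spec (CommRingCat.of k))) ⟶ A |
      (𝟙 A * (toUnit A ≫ x)).left.base ⁻¹' ((U : Set A.left)ᶜ) = (U : Set A.left)ᶜ} := by
  classical
  set D : Set A.left := (U : Set A.left)ᶜ with hD
  have hDc : IsClosed D := U.isOpen.isClosed_compl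
  let Z' : Set A.left := ⋂ (z : 𝟙_ (Over (Spec (CommRingCat.of k))) ⟶ A) (_ : pt A z ∈ D),
    ((toUnit A ≫ z) * (𝟙 A)⁻¹).left.base ⁻¹' D
  have hZc : IsClosed Z' := isClosed_iInter fun z => isClosed_iInter fun _ =>
    hDc.preimage ((toUnit A ≫ z) * (𝟙 A)⁻¹).left.continuous
  have hsub : {x : 𝟙_ (Over (Spec (CommRingCat.of k))) ⟶ A |
      (𝟙 A * (toUnit A ≫ x)).left.base ⁻¹' D = D} ⊆ pt A ⁻¹' Z' := by
    intro x hx
    simp only [Set.mem_setOf_eq] at hx
    refine Set.mem_iInter₂.mpr fun z hz => ?_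
    rw [Set.mem_preimage, ← pt_comp, r_comp]
    rw [← hx, Set.mem_preimage, ← pt_comp, t_comp, inv_mul_cancel_right]
    exact hz
  have hZU : Z' ⊆ (U : Set A.left) := by
    by_contra hne
    obtain ⟨w0, hw0Z, hw0U⟩ := Set.not_subset.mp hne
    have hcl : IsClosed (Z' ∩ D) := hZc.inter hDc
    have : JacobsonSpace A.left := LocallyOfFiniteType.jacobsonSpace A.hom
    have hcp : closure ((Z' ∩ D) ∩ closedPoints A.left) = closure (Z' ∩ D) :=
      JacobsonSpace.closure_inter_closedPoints_eq_closure hcl.isLocallyClosed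
    have hne2 : ((Z' ∩ D) ∩ closedPoints A.left).Nonempty := by
      by_contra h
      rw [Set.not_nonempty_iff_eq_empty] at h
      rw [h, closure_empty, hcl.closure_eq] at hcp
      have : w0 ∈ Z' ∩ D := ⟨hw0Z, hw0U⟩
      rw [← hcp] at this
      exact this
    obtain ⟨w, ⟨hwZ, hwD⟩, hwc⟩ := hne2
    obtain ⟨x, rfl⟩ := exists_pt_eq A w hwc
    have h1 := Set.mem_iInter₂.mp hwZ x hwD
    rw [Set.mem_preimage, ← pt_comp, r_comp, mul_inv_cancel, one_eq_eta] at h1
    exact h1 (he ⟨_, rfl⟩)
  have hZfin : Z'.Finite := by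
    let I := Scheme.IdealSheafData.vanishingIdeal ⟨Z', hZc⟩
    have hr : Set.range I.subschemeι = Z' := by
      rw [Scheme.IdealSheafData.range_subschemeι, Scheme.IdealSheafData.coe_support_vanishingIdeal]
      rfl
    let j : I.subscheme ⟶ U.toScheme := IsOpenImmersion.lift U.ι I.subschemeι
      (by rw [hr, Scheme.Opens.range_ι]; exact hZU)
    have hj : j ≫ U.ι = I.subschemeι := IsOpenImmersion.lift_fac _ _ _
    have : IsClosedImmersion j := by
      have : IsClosedImmersion (j ≫ U.ι) := hj ▸ inferInstance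
      exact IsClosedImmersion.of_comp j U.ι
    have : IsAffine U.toScheme := hU
    have : IsAffine I.subscheme := isAffine_of_isAffineHom j
    have h1 : IsProper (I.subschemeι ≫ A.hom) := inferInstance
    have h2 : IsAffineHom (I.subschemeι ≫ A.hom) := inferInstance
    have : IsFinite (I.subschemeι ≫ A.hom) := (IsFinite.iff_isProper_and_isAffineHom).mpr ⟨h1, h2⟩
    have hfin := Scheme.Hom.finite_preimage_singleton (I.subschemeι ≫ A.hom)
      (IsLocalRing.closedPoint k)
    have hfin2 : (Set.univ : Set I.subscheme).Finite := hfin.subset (fun w _ =>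
      Set.mem_preimage.mpr (Set.mem_singleton_iff.mpr (Subsingleton.elim _ _)))
    have : Finite I.subscheme := Set.finite_univ_iff.mp hfin2
    rw [← hr]
    exact Set.finite_range _
  exact (hZfin.preimage (pt_injective A).injOn).subset hsub

end Groth.Agent.Helper8.TransStab
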