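import Mathlib
import Groth.Agent.Helper8.SecSpan

set_option autoImplicit false
universe u

namespace Groth.Agent.Helper8.Trisecant
open MvPolynomial SecSpan

theorem main (K : Type u) [Field K]
    (V : Submodule K (MvPolynomial (Fin 2) K))
    (hV : V ≤ MvPolynomial.homogeneousSubmodule (Fin 2) K 5) (hdim : Module.finrank K ↥V = 5)
    (hsep : ∀ e ∈ MvPolynomial.homogeneousSubmodule (Fin 2) K 2, e ≠ 0 →
      ∀ F ∈ MvPolynomial.homogeneousSubmodule (Fin 2) K 5, ∃ v ∈ V,
        ∃ h ∈ MvPolynomial.homogeneousSubmodule (Fin 2) K 3, F = v + e * h) :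
    ∃ g ∈ MvPolynomial.homogeneousSubmodule (Fin 2) K 3, g ≠ 0 ∧
      (∀ h ∈ MvPolynomial.homogeneousSubmodule (Fin 2) K 2, g * h ∈ V) ∧
      ∀ g' ∈ MvPolynomial.homogeneousSubmodule (Fin 2) K 3,
        (∀ h ∈ MvPolynomial.homogeneousSubmodule (Fin 2) K 2, g' * h ∈ V) → ∃ c : K, g' = c • g := by
  set H5 := homogeneousSubmodule (Fin 2) K 5 with hH5
  set H3 := homogeneousSubmodule (Fin 2) K 3 with hH3
  set H2 := homogeneousSubmodule (Fin 2) K 2 with hH2
  set V' : Submodule K H5 := V.comap H5.subtype with hV'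
  have hmul : ∀ (g : H3) (h : H2), g.1 * h.1 ∈ H5 := by
    intro g h
    have := (g.2 : IsHomogeneous g.1 3).mul (h.2 : IsHomogeneous h.1 2)
    exact this
  have hfV' : Module.finrank K V' = 5 := by
    rw [← hdim]; exact LinearEquiv.finrank_eq (Submodule.comapSubtypeEquivOfLe hV)
  have hq : Module.finrank K (H5 ⧸ V') = 1 := by
    have h1 := Submodule.finrank_quotient_add_finrank V'
    rw [hfV', finrank_homog] at h1
    omega
  let ε : (H5 ⧸ V') ≃ₗ[K] K := LinearEquiv.ofFinrankEq _ _ (by rw [hq, Module.finrank_self])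
  let B : H3 →ₗ[K] H2 →ₗ[K] K :=
    LinearMap.mk₂ K (fun g h => ε (Submodule.Quotient.mk ⟨g.1 * h.1, hmul g h⟩))
      (fun g₁ g₂ h => by
        rw [← map_add, ← Submodule.Quotient.mk_add]; congr 2; apply Subtype.ext
        simp [add_mul])
      (fun c g h => by
        rw [← map_smul, ← Submodule.Quotient.mk_smul]; congr 2; apply Subtype.ext
        simp)
      (fun g h₁ h₂ => by
        rw [← map_add, ← Submodule.Quotient.mk_add]; congr 2; apply Subtype.ext
        simp [mul_add])
      (fun c g h => by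
        rw [← map_smul, ← Submodule.Quotient.mk_smul]; congr 2; apply Subtype.ext
        simp)
  have hB : ∀ (g : H3) (h : H2), B g h = 0 ↔ g.1 * h.1 ∈ V := by
    intro g h
    show ε (Submodule.Quotient.mk ⟨g.1 * h.1, hmul g h⟩) = 0 ↔ _
    rw [LinearEquiv.map_eq_zero_iff, Submodule.Quotient.mk_eq_zero]
    rfl
  -- flip is injective
  have hΨ : Function.Injective B.flip := by
    rw [← LinearMap.ker_eq_bot, LinearMap.ker_eq_bot']
    intro h hh
    by_contra hne
    have hne' : h.1 ≠ 0 := fun h0 => hne (Subtype.ext h0)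
    have hall : ∀ g : H3, g.1 * h.1 ∈ V := by
      intro g
      rw [← hB]
      have := LinearMap.congr_fun hh g
      simpa using this
    have hle : H5 ≤ V := by
      intro F hF
      obtain ⟨v, hv, g, hg, rfl⟩ := hsep h.1 h.2 hne' F hF
      refine V.add_mem hv ?_
      rw [mul_comm]
      exact hall ⟨g, hg⟩
    have : V = H5 := le_antisymm hV hle
    rw [this, finrank_homog] at hdim
    omega
  have hrange : Module.finrank K (LinearMap.range B.flip) = 3 := by
    rw [LinearMap.finrank_range_of_inj hΨ, finrank_homog]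
  have hco := Subspace.finrank_add_finrank_dualCoannihilator_eq (LinearMap.range B.flip)
  rw [hrange, finrank_homog] at hco
  have hco1 : Module.finrank K (LinearMap.range B.flip).dualCoannihilator = 1 := by omega
  have hmem : ∀ g : H3, g ∈ (LinearMap.range B.flip).dualCoannihilator ↔
      ∀ h : H2, g.1 * h.1 ∈ V := by
    intro g
    rw [Submodule.mem_dualCoannihilator]
    constructor
    · intro hg h
      rw [← hB]
      exact hg (B.flip h) ⟨h, rfl⟩
    · rintro hg _ ⟨h, rfl⟩
      show B g h = 0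
      rw [hB]; exact hg h
  have hne : (LinearMap.range B.flip).dualCoannihilator ≠ ⊥ := by
    intro h
    rw [h, finrank_bot] at hco1
    omega
  obtain ⟨g, hgmem, hg0⟩ := Submodule.exists_mem_ne_zero_of_ne_bot hne
  refine ⟨g.1, g.2, fun h => hg0 (Subtype.ext h), ?_, ?_⟩
  · intro h hh
    exact (hmem g).1 hgmem ⟨h, hh⟩
  · intro g' hg' hg'V
    have hg'mem : (⟨g', hg'⟩ : H3) ∈ (LinearMap.range B.flip).dualCoannihilator :=
      (hmem _).2 (fun h => hg'V h.1 h.2)
    have hg0' : (⟨g, hgmem⟩ : (LinearMap.range B.flip).dualCoannihilator) ≠ 0 :=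
      fun h => hg0 (congrArg Subtype.val h)
    obtain ⟨c, hc⟩ := exists_smul_eq_of_finrank_eq_one (K := K)
      (V := ↥(LinearMap.range B.flip).dualCoannihilator) hco1 hg0' ⟨⟨g', hg'⟩, hg'mem⟩
    refine ⟨c, ?_⟩
    have := congrArg (fun z => z.1.1) hc
    simpa using this.symm

end Groth.Agent.Helper8.Trisecant
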