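import Mathlib.RingTheory.WittVector.Frobenius
import Mathlib.RingTheory.WittVector.Identities
import Mathlib.FieldTheory.Perfect
import Mathlib.Algebra.Module.Torsion.Basic
import Mathlib.Algebra.Module.Projective
import Mathlib.RingTheory.Finiteness.Defs
import Mathlib.LinearAlgebra.Quotient.Basic
import Mathlib.RingTheory.Ideal.Quotient.Operations
import Mathlib.Algebra.Module.Submodule.Pointwise

universe u v

namespace Groth.Agent.Helper8.TruncDieu

variable {p : ℕ} [Fact p.Prime] {k : Type u} [CommRing k] [CharP k p] [PerfectRing k p]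

lemma mul_p_eq_zero (x : WittVector p k) (hx : x * (p : WittVector p k) = 0) : x = 0 := by
  rw [← WittVector.verschiebung_frobenius] at hx
  have h1 : WittVector.frobenius x = 0 :=
    WittVector.verschiebung_injective (p := p) (R := k) (hx.trans (map_zero _).symm)
  exact (WittVector.frobenius_bijective p k).1 (h1.trans (map_zero _).symm)

lemma quot_torsion (n : ℕ) (hn : 1 ≤ n)
    (c : WittVector p k ⧸ Ideal.span {(p : WittVector p k) ^ n})
    (hc : (p : WittVector p k) • c = 0) :
    ∃ d : WittVector p k ⧸ Ideal.span {(p : WittVector p k) ^ n},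
      c = (p : WittVector p k) ^ (n - 1) • d := by
  obtain ⟨a, rfl⟩ := Ideal.Quotient.mk_surjective c
  have h1 : (p : WittVector p k) * a ∈ Ideal.span {(p : WittVector p k) ^ n} := by
    rw [← Ideal.Quotient.eq_zero_iff_mem, map_mul]
    rw [Algebra.smul_def] at hc
    exact hc
  rw [Ideal.mem_span_singleton] at h1
  obtain ⟨b, hb⟩ := h1
  have h2 : (a - (p : WittVector p k) ^ (n - 1) * b) * (p : WittVector p k) = 0 := by
    have : (p : WittVector p k) ^ n = (p : WittVector p k) ^ (n - 1) * p := by
      rw [← pow_succ]; congr 1; omega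
    rw [this] at hb
    rw [sub_mul, mul_comm a, hb]; ring
  have h3 := sub_eq_zero.1 (mul_p_eq_zero _ h2)
  refine ⟨Ideal.Quotient.mk _ b, ?_⟩
  rw [h3, Algebra.smul_def, map_mul]
  rfl

variable {M : Type v} [AddCommGroup M] [Module (WittVector p k) M]

lemma torsion_mem (n : ℕ) (hn : 2 ≤ n)
    [Module (WittVector p k ⧸ Ideal.span {(p : WittVector p k) ^ n}) M]
    [IsScalarTower (WittVector p k) (WittVector p k ⧸ Ideal.span {(p : WittVector p k) ^ n}) M]
    [Module.Projective (WittVector p k ⧸ Ideal.span {(p : WittVector p k) ^ n}) M]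
    (x : M) (hx : (p : WittVector p k) • x = 0) :
    x ∈ Ideal.span {(p : WittVector p k)} • (⊤ : Submodule (WittVector p k) M) := by
  obtain ⟨s, hs⟩ := (Module.projective_def'
    (R := WittVector p k ⧸ Ideal.span {(p : WittVector p k) ^ n}) (P := M)).1 inferInstance
  have hsW : ∀ (a : WittVector p k) (m : M), s (a • m) = a • s m := by
    intro a m
    rw [← algebraMap_smul (WittVector p k ⧸ Ideal.span {(p : WittVector p k) ^ n}) a m, map_smul,
      algebraMap_smul]
  have h0 : (p : WittVector p k) • s x = 0 := by rw [← hsW, hx, map_zero]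
  have hx' : x = Finsupp.linearCombination _ id (s x) := by
    have := congrArg (fun f => f x) hs
    exact this.symm
  rw [hx', Finsupp.linearCombination_apply, Finsupp.sum]
  apply Submodule.sum_mem
  intro j _
  have hj : (p : WittVector p k) • (s x j) = 0 := by
    have := congrArg (fun f => f j) h0
    simpa using this
  obtain ⟨d, hd⟩ := quot_torsion n (by omega) _ hj
  rw [hd]
  have : (p : WittVector p k) ^ (n - 1) = (p : WittVector p k) * (p : WittVector p k) ^ (n - 2) := by
    rw [← pow_succ']; congr 1; omega
  rw [this, mul_smul, smul_assoc]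
  exact Submodule.smul_mem_smul (Ideal.subset_span rfl) Submodule.mem_top


theorem main (p : ℕ) [Fact p.Prime] (k : Type u) [CommRing k]
    [CharP k p] [PerfectRing k p] (n : ℕ) (hn : 2 ≤ n)
    (M : Type v) [AddCommGroup M] [Module (WittVector p k) M]
    [Module (WittVector p k ⧸ Ideal.span {(p : WittVector p k) ^ n}) M] [IsScalarTower (WittVector p k) (WittVector p k ⧸ Ideal.span {(p : WittVector p k) ^ n}) M]
    [Module.Projective (WittVector p k ⧸ Ideal.span {(p : WittVector p k) ^ n}) M]
    (F : M →ₛₗ[(WittVector.frobenius : WittVector p k →+* WittVector p k)] M)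
    (V : M →ₛₗ[((WittVector.frobeniusEquiv p k).symm : WittVector p k →+* WittVector p k)] M)
    (hFV : ∀ m : M, F (V m) = (p : WittVector p k) • m) (hVF : ∀ m : M, V (F m) = (p : WittVector p k) • m) :
    (Ideal.span {(p : WittVector p k)} • (⊤ : Submodule (WittVector p k) M)).comap F =
        Submodule.span (WittVector p k) (Set.range V) ⊔ Ideal.span {(p : WittVector p k)} • (⊤ : Submodule (WittVector p k) M) ∧
      (Ideal.span {(p : WittVector p k)} • (⊤ : Submodule (WittVector p k) M)).comap V =
        Submodule.span (WittVector p k) (Set.range F) ⊔ Ideal.span {(p : WittVector p k)} • (⊤ : Submodule (WittVector p k) M) := by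
  have hmem : ∀ x : M, x ∈ Ideal.span {(p : WittVector p k)} • (⊤ : Submodule (WittVector p k) M) ↔
      ∃ x', (p : WittVector p k) • x' = x := by
    intro x
    rw [Submodule.ideal_span_singleton_smul, Submodule.mem_smul_pointwise_iff_exists]
    constructor
    · rintro ⟨x', -, h⟩; exact ⟨x', h⟩
    · rintro ⟨x', h⟩; exact ⟨x', Submodule.mem_top, h⟩
  constructor
  · apply le_antisymm
    · intro m hm
      rw [Submodule.mem_comap, hmem] at hm
      obtain ⟨m', hm'⟩ := hm
      have h1 : F (m - V m') = 0 := by rw [map_sub, hFV, hm', sub_self]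
      have h2 : (p : WittVector p k) • (m - V m') = 0 := by rw [← hVF, h1, map_zero]
      have h3 := torsion_mem n hn (m - V m') h2
      have : m = V m' + (m - V m') := by abel
      rw [this]
      exact Submodule.add_mem_sup (Submodule.subset_span ⟨m', rfl⟩) h3
    · rw [sup_le_iff]
      constructor
      · rw [Submodule.span_le]
        rintro _ ⟨m, rfl⟩
        rw [SetLike.mem_coe, Submodule.mem_comap, hFV, hmem]
        exact ⟨m, rfl⟩
      · intro x hx
        rw [hmem] at hx
        obtain ⟨x', rfl⟩ := hx
        rw [Submodule.mem_comap, map_smulₛₗ, map_natCast, hmem]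
        exact ⟨F x', rfl⟩
  · apply le_antisymm
    · intro m hm
      rw [Submodule.mem_comap, hmem] at hm
      obtain ⟨m', hm'⟩ := hm
      have h1 : V (m - F m') = 0 := by rw [map_sub, hVF, hm', sub_self]
      have h2 : (p : WittVector p k) • (m - F m') = 0 := by rw [← hFV, h1, map_zero]
      have h3 := torsion_mem n hn (m - F m') h2
      have : m = F m' + (m - F m') := by abel
      rw [this]
      exact Submodule.add_mem_sup (Submodule.subset_span ⟨m', rfl⟩) h3
    · rw [sup_le_iff]
      constructor
      · rw [Submodule.span_le]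
        rintro _ ⟨m, rfl⟩
        rw [SetLike.mem_coe, Submodule.mem_comap, hVF, hmem]
        exact ⟨m, rfl⟩
      · intro x hx
        rw [hmem] at hx
        obtain ⟨x', rfl⟩ := hx
        rw [Submodule.mem_comap, map_smulₛₗ, map_natCast, hmem]
        exact ⟨V x', rfl⟩

end Groth.Agent.Helper8.TruncDieu
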