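import Mathlib

/-!
Truncated polynomial algebras `k[X_1..X_r]/(X_i^{n_i})`: monomial basis / dimension.
-/

set_option autoImplicit false
universe u

namespace Groth.Agent.Helper8.TruncPoly

open MvPolynomial

variable {k : Type u} [Field k] {r : ℕ}

/-- the ideal `(X_i^{n_i})` -/
noncomputable def I (k : Type u) [Field k] {r : ℕ} (n : Fin r → ℕ) : Ideal (MvPolynomial (Fin r) k) :=
  Ideal.span (Set.range fun i => (X i : MvPolynomial (Fin r) k) ^ n i)

theorem mem_I_iff (n : Fin r → ℕ) (P : MvPolynomial (Fin r) k) :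
    P ∈ I k n ↔ ∀ a ∈ P.support, ∃ i, n i ≤ a i := by
  have h1 : (Set.range fun i => (X i : MvPolynomial (Fin r) k) ^ n i) =
      (fun s => monomial s (1 : k)) '' (Set.range fun i => Finsupp.single i (n i)) := by
    ext Q
    simp only [Set.mem_range, Set.mem_image, exists_exists_eq_and, X_pow_eq_monomial]
  rw [I, h1, mem_ideal_span_monomial_image]
  constructor
  · intro h a ha
    obtain ⟨s, ⟨i, rfl⟩, hs⟩ := h a ha
    exact ⟨i, Finsupp.single_le_iff.1 hs⟩
  · intro h a ha
    obtain ⟨i, hi⟩ := h a ha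
    exact ⟨_, ⟨i, rfl⟩, Finsupp.single_le_iff.2 hi⟩

/-- exponent vector attached to a point of the box -/
noncomputable def tf (n : Fin r → ℕ) (b : ∀ i, Fin (n i)) : Fin r →₀ ℕ :=
  Finsupp.equivFunOnFinite.symm (fun i => (b i : ℕ))

theorem tf_apply (n : Fin r → ℕ) (b : ∀ i, Fin (n i)) (i : Fin r) : tf n b i = (b i : ℕ) := rfl

theorem tf_injective (n : Fin r → ℕ) : Function.Injective (tf n) := by
  intro b b' h
  funext i
  apply Fin.ext
  have := congrArg (fun f => f i) h
  simpa [tf_apply] using this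

/-- coefficient map to the box -/
noncomputable def Φ (k : Type u) [Field k] {r : ℕ} (n : Fin r → ℕ) :
    MvPolynomial (Fin r) k →ₗ[k] ((∀ i, Fin (n i)) → k) where
  toFun P b := coeff (tf n b) P
  map_add' P Q := by funext b; simp
  map_smul' c P := by funext b; simp

theorem Φ_apply (n : Fin r → ℕ) (P : MvPolynomial (Fin r) k) (b : ∀ i, Fin (n i)) :
    Φ k n P b = coeff (tf n b) P := rfl

theorem ker_Φ (n : Fin r → ℕ) : LinearMap.ker (Φ k n) = (I k n).restrictScalars k := by
  ext P
  rw [LinearMap.mem_ker, Submodule.restrictScalars_mem, mem_I_iff]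
  constructor
  · intro h a ha
    by_contra hcon
    push Not at hcon
    have : a = tf n (fun i => ⟨a i, hcon i⟩) := by
      ext i
      rfl
    have h2 := congrFun h (fun i => ⟨a i, hcon i⟩)
    rw [Φ_apply, ← this] at h2
    exact (mem_support_iff.1 ha) h2
  · intro h
    funext b
    rw [Φ_apply]
    by_contra hcon
    obtain ⟨i, hi⟩ := h (tf n b) (mem_support_iff.2 hcon)
    rw [tf_apply] at hi
    exact absurd (b i).2 (not_lt.2 hi)

theorem Φ_surjective (n : Fin r → ℕ) : Function.Surjective (Φ k n) := by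
  classical
  intro g
  refine ⟨∑ b, monomial (tf n b) (g b), ?_⟩
  funext b'
  rw [Φ_apply, coeff_sum]
  simp only [coeff_monomial]
  rw [Finset.sum_eq_single b']
  · simp
  · intro b _ hb
    rw [if_neg]
    intro h
    exact hb (tf_injective n h)
  · intro h
    exact absurd (Finset.mem_univ b') h

/-- the quotient is the function space on the box -/
noncomputable def quotEquiv (n : Fin r → ℕ) :
    (MvPolynomial (Fin r) k ⧸ I k n) ≃ₗ[k] ((∀ i, Fin (n i)) → k) :=
  (Submodule.Quotient.restrictScalarsEquiv k (I k n)).symm ≪≫ₗ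
    (Submodule.quotEquivOfEq _ _ (ker_Φ n).symm) ≪≫ₗ
    (Φ k n).quotKerEquivOfSurjective (Φ_surjective n)

theorem finrank_quot (n : Fin r → ℕ) :
    Module.finrank k (MvPolynomial (Fin r) k ⧸ I k n) = ∏ i, n i := by
  rw [(quotEquiv n).finrank_eq, Module.finrank_fintype_fun_eq_card, Fintype.card_pi]
  simp

instance finite_quot (n : Fin r → ℕ) : Module.Finite k (MvPolynomial (Fin r) k ⧸ I k n) :=
  Module.Finite.equiv (quotEquiv n).symm

end Groth.Agent.Helper8.TruncPoly
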