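import Mathlib
import Groth.Agent.Helper8.TruncPoly

set_option autoImplicit false
universe u

namespace Groth.Agent.Helper8.TruncPoly

open MvPolynomial

/-- the ideal generated by `q`-th powers of nilpotent elements -/
def Jq (B : Type*) [CommRing B] (q : ℕ) : Ideal B :=
  Ideal.span {y | ∃ x, IsNilpotent x ∧ y = x ^ q}

theorem Jq_map {k : Type*} [CommRing k] {B B' : Type*} [CommRing B] [CommRing B'] [Algebra k B]
    [Algebra k B'] (φ : B ≃ₐ[k] B') (q : ℕ) :
    Jq B' q = (Jq B q).map (φ : B →+* B') := by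
  rw [Jq, Jq, Ideal.map_span]
  congr 1
  ext y
  simp only [Set.mem_setOf_eq, Set.mem_image]
  constructor
  · rintro ⟨x, hx, rfl⟩
    refine ⟨φ.symm x ^ q, ⟨φ.symm x, hx.map φ.symm, rfl⟩, ?_⟩
    simp
  · rintro ⟨_, ⟨x, hx, rfl⟩, rfl⟩
    refine ⟨φ x, hx.map φ, ?_⟩
    simp

variable {k : Type u} [Field k] {r : ℕ}

/-- the ideal `(X_i^q)` -/
noncomputable def Iq (k : Type u) [Field k] (r : ℕ) (q : ℕ) : Ideal (MvPolynomial (Fin r) k) :=
  I k (fun _ : Fin r => q)

theorem X_pow_mem_I (n : Fin r → ℕ) (i : Fin r) : (X i : MvPolynomial (Fin r) k) ^ n i ∈ I k n :=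
  Ideal.subset_span ⟨i, rfl⟩

theorem pow_mem_Iq_of_mem_span_X (p : ℕ) [Fact p.Prime] [CharP k p] (t : ℕ)
    (P : MvPolynomial (Fin r) k)
    (hP : P ∈ Ideal.span (Set.range (X : Fin r → MvPolynomial (Fin r) k))) :
    P ^ (p ^ t) ∈ Iq k r (p ^ t) := by
  induction hP using Submodule.span_induction with
  | mem x hx =>
    obtain ⟨i, rfl⟩ := hx
    exact X_pow_mem_I (fun _ => p ^ t) i
  | zero =>
    rw [zero_pow (pow_ne_zero _ (Fact.out : p.Prime).ne_zero)]
    exact Ideal.zero_mem _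
  | add x y _ _ hx hy =>
    rw [add_pow_char_pow]
    exact Ideal.add_mem _ hx hy
  | smul a x _ hx =>
    rw [smul_eq_mul, mul_pow]
    exact Ideal.mul_mem_left _ _ hx

theorem constantCoeff_eq_zero_of_mem_I (n : Fin r → ℕ) (hn : ∀ i, 1 ≤ n i)
    (P : MvPolynomial (Fin r) k) (hP : P ∈ I k n) : constantCoeff P = 0 := by
  rw [mem_I_iff] at hP
  by_contra h
  have h0 : (0 : Fin r →₀ ℕ) ∈ P.support := by
    rw [mem_support_iff]
    exact h
  obtain ⟨i, hi⟩ := hP 0 h0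
  have := hn i
  simp at hi
  omega

theorem mem_span_X_of_constantCoeff_eq_zero (P : MvPolynomial (Fin r) k)
    (hP : constantCoeff P = 0) :
    P ∈ Ideal.span (Set.range (X : Fin r → MvPolynomial (Fin r) k)) := by
  rw [← Set.image_univ, mem_ideal_span_X_image]
  intro m hm
  by_contra hcon
  push Not at hcon
  have hm0 : m = 0 := by
    ext i
    simpa using hcon i (Set.mem_univ i)
  rw [hm0, mem_support_iff] at hm
  exact hm hP

theorem Jq_quot (p : ℕ) [Fact p.Prime] [CharP k p] (n : Fin r → ℕ) (hn : ∀ i, 1 ≤ n i) (t : ℕ) :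
    Jq (MvPolynomial (Fin r) k ⧸ I k n) (p ^ t) =
      (Iq k r (p ^ t)).map (Ideal.Quotient.mkₐ k (I k n)) := by
  apply le_antisymm
  · rw [Jq, Ideal.span_le]
    rintro _ ⟨x, hx, rfl⟩
    obtain ⟨P, rfl⟩ := Ideal.Quotient.mk_surjective x
    obtain ⟨N, hN⟩ := hx
    rw [← map_pow, Ideal.Quotient.eq_zero_iff_mem] at hN
    have h0 := constantCoeff_eq_zero_of_mem_I n hn _ hN
    rw [map_pow] at h0
    have h1 : constantCoeff P = 0 := eq_zero_of_pow_eq_zero h0
    have h2 := pow_mem_Iq_of_mem_span_X p t P (mem_span_X_of_constantCoeff_eq_zero P h1)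
    rw [← map_pow]
    exact Ideal.mem_map_of_mem _ h2
  · have hIq : Iq k r (p ^ t) =
        Ideal.span (Set.range fun i : Fin r => (X i : MvPolynomial (Fin r) k) ^ (p ^ t)) := rfl
    rw [hIq, Ideal.map_span, Ideal.span_le]
    rintro _ ⟨_, ⟨i, rfl⟩, rfl⟩
    apply Ideal.subset_span
    refine ⟨Ideal.Quotient.mk (I k n) (X i), ⟨n i, ?_⟩, ?_⟩
    · rw [← map_pow, Ideal.Quotient.eq_zero_iff_mem]
      exact X_pow_mem_I n i
    · simp

theorem I_sup_Iq (n : Fin r → ℕ) (q : ℕ) : I k n ⊔ Iq k r q = I k (fun i => min (n i) q) := by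
  apply le_antisymm
  · rw [sup_le_iff]
    constructor
    · rw [I, Ideal.span_le]
      rintro _ ⟨i, rfl⟩
      have : (X i : MvPolynomial (Fin r) k) ^ n i =
          X i ^ min (n i) q * X i ^ (n i - min (n i) q) := by
        rw [← pow_add]; congr 1; omega
      show X i ^ n i ∈ _
      rw [this]
      exact Ideal.mul_mem_right _ _ (X_pow_mem_I (fun i => min (n i) q) i)
    · rw [Iq, I, Ideal.span_le]
      rintro _ ⟨i, rfl⟩
      have : (X i : MvPolynomial (Fin r) k) ^ q =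
          X i ^ min (n i) q * X i ^ (q - min (n i) q) := by
        rw [← pow_add]; congr 1; omega
      show X i ^ q ∈ _
      rw [this]
      exact Ideal.mul_mem_right _ _ (X_pow_mem_I (fun i => min (n i) q) i)
  · rw [I, Ideal.span_le]
    rintro _ ⟨i, rfl⟩
    show X i ^ min (n i) q ∈ _
    rcases le_total (n i) q with h | h
    · rw [min_eq_left h]
      exact Ideal.mem_sup_left (X_pow_mem_I n i)
    · rw [min_eq_right h]
      exact Ideal.mem_sup_right (X_pow_mem_I (fun _ => q) i)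

theorem finrank_quot_Jq (p : ℕ) [Fact p.Prime] [CharP k p] (n : Fin r → ℕ) (hn : ∀ i, 1 ≤ n i)
    (t : ℕ) :
    Module.finrank k ((MvPolynomial (Fin r) k ⧸ I k n) ⧸
      Jq (MvPolynomial (Fin r) k ⧸ I k n) (p ^ t)) = ∏ i, min (n i) (p ^ t) := by
  have e1 : ((MvPolynomial (Fin r) k ⧸ I k n) ⧸
      Jq (MvPolynomial (Fin r) k ⧸ I k n) (p ^ t)) ≃ₐ[k]
      ((MvPolynomial (Fin r) k ⧸ I k n) ⧸ (Iq k r (p ^ t)).map (Ideal.Quotient.mkₐ k (I k n))) :=
    Ideal.quotientEquivAlgOfEq k (Jq_quot p n hn t)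
  have e2 := DoubleQuot.quotQuotEquivQuotSupₐ k (I k n) (Iq k r (p ^ t))
  have e3 : (MvPolynomial (Fin r) k ⧸ I k n ⊔ Iq k r (p ^ t)) ≃ₐ[k]
      (MvPolynomial (Fin r) k ⧸ I k (fun i => min (n i) (p ^ t))) :=
    Ideal.quotientEquivAlgOfEq k (I_sup_Iq n (p ^ t))
  rw [(e1.trans (e2.trans e3)).toLinearEquiv.finrank_eq, finrank_quot]

end Groth.Agent.Helper8.TruncPoly
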