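import Mathlib
import Groth.Agent.Helper8.TruncPoly2

set_option autoImplicit false
universe u

namespace Groth.Agent.Helper8.TruncPoly

open MvPolynomial Finset

theorem exists_equiv_of_sum_min {α β : Type} [Fintype α] [Fintype β]
    (e : α → ℕ) (f : β → ℕ) (he : ∀ i, 1 ≤ e i) (hf : ∀ j, 1 ≤ f j)
    (hS : ∀ t, ∑ i, min (e i) t = ∑ j, min (f j) t) :
    ∃ σ : α ≃ β, ∀ i, f (σ i) = e i := by
  classical
  -- indicator sums
  have hstep : ∀ (γ : Type) [Fintype γ] (g : γ → ℕ) (t : ℕ),
      ∑ i, min (g i) (t + 1) = ∑ i, min (g i) t + ∑ i, (if t < g i then 1 else 0) := by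
    intro γ _ g t
    rw [← Finset.sum_add_distrib]
    apply Finset.sum_congr rfl
    intro i _
    split_ifs <;> omega
  have hgt : ∀ t, ∑ i, (if t < e i then 1 else 0) = ∑ j, (if t < f j then 1 else 0) := by
    intro t
    have h1 := hstep α e t
    have h2 := hstep β f t
    have h3 := hS (t + 1)
    have h4 := hS t
    omega
  have hsplit : ∀ (γ : Type) [Fintype γ] (g : γ → ℕ) (u : ℕ),
      ∑ i, (if u < g i then 1 else 0) =
        ∑ i, (if g i = u + 1 then 1 else 0) + ∑ i, (if u + 1 < g i then 1 else 0) := by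
    intro γ _ g u
    rw [← Finset.sum_add_distrib]
    apply Finset.sum_congr rfl
    intro i _
    split_ifs <;> omega
  have heq : ∀ t, ∑ i, (if e i = t then 1 else 0) = ∑ j, (if f j = t then 1 else 0) := by
    intro t
    rcases t with _ | u
    · rw [Finset.sum_eq_zero, Finset.sum_eq_zero]
      · intro j _
        have := hf j
        rw [if_neg (by omega)]
      · intro i _
        have := he i
        rw [if_neg (by omega)]
    · have h1 := hsplit α e u
      have h2 := hsplit β f u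
      have h3 := hgt u
      have h4 := hgt (u + 1)
      omega
  have hcard : ∀ t, Fintype.card {i // e i = t} = Fintype.card {j // f j = t} := by
    intro t
    rw [Fintype.card_subtype, Fintype.card_subtype, Finset.card_filter, Finset.card_filter]
    exact heq t
  let σ : α ≃ β := (Equiv.sigmaFiberEquiv e).symm.trans
    ((Equiv.sigmaCongrRight fun t => Fintype.equivOfCardEq (hcard t)).trans
      (Equiv.sigmaFiberEquiv f))
  refine ⟨σ, ?_⟩
  intro i
  simp only [σ, Equiv.trans_apply, Equiv.sigmaFiberEquiv, Equiv.coe_fn_symm_mk,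
    Equiv.sigmaCongrRight_apply, Equiv.coe_fn_mk]
  exact (Fintype.equivOfCardEq (hcard (e i)) ⟨i, rfl⟩).2

theorem main (p : ℕ) [Fact p.Prime] (k : Type u) [Field k]
    [CharP k p] (r s : ℕ) (e : Fin r → ℕ) (f : Fin s → ℕ) (he : ∀ i, 1 ≤ e i) (hf : ∀ j, 1 ≤ f j)
    (φ : (MvPolynomial (Fin r) k ⧸ Ideal.span (Set.range fun i : Fin r => (MvPolynomial.X i : MvPolynomial (Fin r) k) ^ p ^ e i)) ≃ₐ[k]
      (MvPolynomial (Fin s) k ⧸ Ideal.span (Set.range fun j : Fin s => (MvPolynomial.X j : MvPolynomial (Fin s) k) ^ p ^ f j))) :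
    ∃ σ : Fin r ≃ Fin s, ∀ i : Fin r, f (σ i) = e i := by
  have hp2 : 2 ≤ p := (Fact.out : p.Prime).two_le
  have hpos : ∀ a : ℕ, 1 ≤ p ^ a := fun a => Nat.one_le_pow _ _ (by omega)
  let φ' : (MvPolynomial (Fin r) k ⧸ I k (fun i => p ^ e i)) ≃ₐ[k]
      (MvPolynomial (Fin s) k ⧸ I k (fun j => p ^ f j)) := φ
  apply exists_equiv_of_sum_min e f he hf
  intro t
  have h1 := finrank_quot_Jq (k := k) p (fun i => p ^ e i) (fun i => hpos _) t
  have h2 := finrank_quot_Jq (k := k) p (fun j => p ^ f j) (fun j => hpos _) t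
  have e1 := Ideal.quotientEquivAlg (Jq (MvPolynomial (Fin r) k ⧸ I k (fun i => p ^ e i)) (p ^ t))
    (Jq (MvPolynomial (Fin s) k ⧸ I k (fun j => p ^ f j)) (p ^ t)) φ' (Jq_map φ' (p ^ t))
  have h3 := e1.toLinearEquiv.finrank_eq
  rw [h1, h2] at h3
  have hmin : ∀ a : ℕ, min (p ^ a) (p ^ t) = p ^ min a t := by
    intro a
    exact ((pow_right_strictMono₀ (show 1 < p by omega)).monotone.map_min).symm
  simp_rw [hmin, Finset.prod_pow_eq_pow_sum] at h3
  exact Nat.pow_right_injective hp2 h3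

end Groth.Agent.Helper8.TruncPoly
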