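import Mathlib

set_option autoImplicit false

universe u

namespace Groth.Agent.Helper8.TruncSub

open Polynomial

section
variable (k : Type u) [Field k] (N : ℕ)

local notation "B" => AdjoinRoot ((X : k[X]) ^ (N + 1))
local notation "x" => AdjoinRoot.root ((X : k[X]) ^ (N + 1))

theorem x_pow : (x : B) ^ (N + 1) = 0 := by
  rw [← AdjoinRoot.mk_X, ← map_pow, AdjoinRoot.mk_self]

theorem decomp (b : B) : ∃ (c : k) (b' : B), b = algebraMap k B c + x * b' := by
  induction b using AdjoinRoot.induction_on with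
  | ih q =>
    refine ⟨q.coeff 0, AdjoinRoot.mk _ q.divX, ?_⟩
    conv_lhs => rw [← Polynomial.divX_mul_X_add q]
    rw [map_add, map_mul, AdjoinRoot.mk_X, AdjoinRoot.mk_C, AdjoinRoot.algebraMap_eq]
    ring

theorem coeff_zero_of_mem (m : ℕ) (hm : m ≤ N) (c : k) (b : B)
    (h : algebraMap k B c * x ^ m = x ^ (m + 1) * b) : c = 0 := by
  induction b using AdjoinRoot.induction_on with
  | ih q =>
    rw [AdjoinRoot.algebraMap_eq, ← AdjoinRoot.mk_C, ← AdjoinRoot.mk_X, ← map_pow, ← map_pow,
      ← map_mul, ← map_mul, AdjoinRoot.mk_eq_mk] at h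
    have h1 : (X : k[X]) ^ (m + 1) ∣ C c * X ^ m - X ^ (m + 1) * q :=
      (pow_dvd_pow X (by omega)).trans h
    have h2 : (X : k[X]) ^ (m + 1) ∣ C c * X ^ m := by
      have h3 := dvd_add h1 (dvd_mul_right (X ^ (m + 1)) q)
      simpa using h3
    rw [Polynomial.X_pow_dvd_iff] at h2
    have h3 := h2 m (by omega)
    simpa using h3

/-- `w = (1+x)⁻¹` -/
noncomputable def w : B := ∑ j ∈ Finset.range (N + 1), (-x) ^ j

theorem one_add_x_mul_w : (1 + x) * w k N = 1 := by
  have h := mul_neg_geom_sum (-x : B) (N + 1)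
  rw [sub_neg_eq_add, neg_pow, x_pow, mul_zero, sub_zero] at h
  exact h

theorem w_eq : w k N = 1 - x + x ^ 2 * w k N := by
  have h := one_add_x_mul_w k N
  linear_combination (1 - x) * h

/-- the substitution `x ↦ x / (1 + x)` -/
noncomputable def σ : B →ₐ[k] B :=
  AdjoinRoot.liftAlgHom _ (Algebra.ofId k B) (x * w k N) (by
    rw [Polynomial.eval₂_pow, Polynomial.eval₂_X, mul_pow, x_pow, zero_mul])

theorem σ_x : σ k N x = x * w k N := AdjoinRoot.liftAlgHom_root _ _ _ _

theorem σ_sub (u : B) : ∃ r : B, σ k N u - u = x ^ 2 * r := by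
  induction u using AdjoinRoot.induction_on with
  | ih q =>
    have h1 : AdjoinRoot.mk _ q = Polynomial.aeval (x : B) q := (AdjoinRoot.aeval_eq q).symm
    rw [h1, ← Polynomial.aeval_algHom_apply, σ_x]
    have h2 := Polynomial.sub_dvd_eval_sub (x * w k N) x (q.map (algebraMap k B))
    rw [Polynomial.eval_map_algebraMap, Polynomial.eval_map_algebraMap] at h2
    obtain ⟨t, ht⟩ := h2
    refine ⟨- w k N * t, ?_⟩
    rw [ht]
    have h3 : x * w k N - x = - x ^ 2 * w k N := by
      have h := one_add_x_mul_w k N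
      linear_combination x * h
    rw [h3]
    ring

theorem w_pow (m : ℕ) : ∃ s : B, (w k N) ^ m = 1 - (m : B) * x + x ^ 2 * s := by
  induction m with
  | zero => exact ⟨0, by simp⟩
  | succ m ih =>
    obtain ⟨s, hs⟩ := ih
    have hw := w_eq k N
    refine ⟨w k N + (m : B) - (m : B) * x * w k N + s - x * s + x ^ 2 * s * w k N, ?_⟩
    rw [pow_succ (w k N) m]
    push_cast
    linear_combination (w k N) * hs + (1 - (m : B) * x + x ^ 2 * s) * hw

theorem step (m : ℕ) (c : k) (u' : B) : ∃ t : B,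
    σ k N (x ^ m * (algebraMap k B c + x * u')) - x ^ m * (algebraMap k B c + x * u') =
      x ^ (m + 1) * (algebraMap k B (-(m : k) * c) + x * t) := by
  obtain ⟨r, hr⟩ := σ_sub k N (algebraMap k B c + x * u')
  obtain ⟨s, hs⟩ := w_pow k N m
  have hσu : σ k N (algebraMap k B c + x * u') = (algebraMap k B c + x * u') + x ^ 2 * r := by
    rw [← hr]
    ring
  rw [map_mul, map_pow, σ_x, mul_pow, hσu, hs]
  refine ⟨r - (m : B) * u' - (m : B) * x * r + s * algebraMap k B c + x * s * u' +
    x ^ 2 * s * r, ?_⟩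
  rw [map_mul, map_neg, map_natCast]
  ring

theorem main [CharZero k] (A : Subalgebra k B)
    (hA : ∀ (a : k) (τ : B →ₐ[k] B), τ x * (1 + algebraMap k B a * x) = x → A.map τ ≤ A) :
    ∃ n : ℕ, 1 ≤ n ∧ n ≤ N + 1 ∧
      Subalgebra.toSubmodule A =
        Submodule.span k {1} ⊔ (Ideal.span {x ^ n}).restrictScalars k := by
  classical
  have hσA : ∀ b ∈ A, σ k N b ∈ A := by
    intro b hb
    refine hA 1 (σ k N) ?_ ((Subalgebra.mem_map).2 ⟨b, hb, rfl⟩)
    rw [σ_x, map_one, one_mul]
    have h := one_add_x_mul_w k N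
    linear_combination x * h
  obtain ⟨T, hT⟩ : ∃ T : ℕ → Prop,
      T = fun m => ∀ b ∈ A, (∃ b', b = x * b') → ∃ u, b = x ^ m * u := ⟨_, rfl⟩
  have hT1 : T 1 := by
    rw [hT]
    intro b _ hb
    obtain ⟨b', hb'⟩ := hb
    exact ⟨b', by rw [pow_one]; exact hb'⟩
  obtain ⟨n, hn⟩ : ∃ n : ℕ, n = Nat.findGreatest T (N + 1) := ⟨_, rfl⟩
  have hnT : T n := by
    rw [hn]
    exact Nat.findGreatest_spec (m := 1) (by omega) hT1
  have hn1 : 1 ≤ n := by
    rw [hn]
    exact Nat.le_findGreatest (by omega) hT1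
  have hnN : n ≤ N + 1 := by
    rw [hn]
    exact Nat.findGreatest_le _
  refine ⟨n, hn1, hnN, ?_⟩
  have hgen : n ≤ N → ∀ j, n ≤ j → ∃ g ∈ A, ∃ (c : k) (u' : B), c ≠ 0 ∧
      g = x ^ j * (algebraMap k B c + x * u') := by
    intro hnN'
    have hnot : ¬ T (n + 1) := by
      have h1 : Nat.findGreatest T (N + 1) < n + 1 := by rw [← hn]; exact Nat.lt_succ_self n
      exact Nat.findGreatest_is_greatest h1 (by omega)
    rw [hT] at hnot
    push Not at hnot
    obtain ⟨f, hfA, hf1, hfn⟩ := hnot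
    have hnT' := hnT
    rw [hT] at hnT'
    obtain ⟨u, hu⟩ := hnT' f hfA hf1
    obtain ⟨c, u', hcu⟩ := decomp k N u
    have hc : c ≠ 0 := by
      intro h0
      apply hfn u'
      rw [hu, hcu, h0, map_zero, zero_add]
      ring
    intro j hj
    induction j, hj using Nat.le_induction with
    | base => exact ⟨f, hfA, c, u', hc, by rw [hu, hcu]⟩
    | succ j hj ih =>
      obtain ⟨g, hgA, cj, uj, hcj, hg⟩ := ih
      obtain ⟨t, ht⟩ := step k N j cj uj
      refine ⟨σ k N g - g, A.sub_mem (hσA g hgA) hgA, -(j : k) * cj, t, ?_, ?_⟩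
      · have hj0 : (j : k) ≠ 0 := by
          have : j ≠ 0 := by omega
          exact_mod_cast this
        exact mul_ne_zero (neg_ne_zero.2 hj0) hcj
      · rw [hg]
        exact ht
  have hQ : ∀ d m, m + d = N + 1 → n ≤ m → ∀ u : B, x ^ m * u ∈ A := by
    intro d
    induction d with
    | zero =>
      intro m hm _ u
      rw [show m = N + 1 by omega, x_pow, zero_mul]
      exact A.zero_mem
    | succ d ih =>
      intro m hm hnm u
      have hQ' := ih (m + 1) (by omega) (by omega)
      obtain ⟨g, hgA, c, u', hc, hg⟩ := hgen (by omega) m hnm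
      obtain ⟨e, v', hev⟩ := decomp k N u
      have hxm : x ^ m ∈ A := by
        have h1 : x ^ m = algebraMap k B c⁻¹ * (g - x ^ (m + 1) * u') := by
          rw [hg]
          have h2 : algebraMap k B c⁻¹ * algebraMap k B c = 1 := by
            rw [← map_mul, inv_mul_cancel₀ hc, map_one]
          linear_combination (-(x ^ m)) * h2
        rw [h1]
        exact A.mul_mem (A.algebraMap_mem _) (A.sub_mem hgA (hQ' u'))
      rw [hev]
      have h3 : x ^ m * (algebraMap k B e + x * v') =
          algebraMap k B e * x ^ m + x ^ (m + 1) * v' := by ring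
      rw [h3]
      exact A.add_mem (A.mul_mem (A.algebraMap_mem _) hxm) (hQ' v')
  apply le_antisymm
  · intro b hb
    rw [Subalgebra.mem_toSubmodule] at hb
    obtain ⟨c, b', hcb⟩ := decomp k N b
    have h1 : x * b' ∈ A := by
      have h2 : x * b' = b - algebraMap k B c := by rw [hcb]; ring
      rw [h2]
      exact A.sub_mem hb (A.algebraMap_mem c)
    have hnT' := hnT
    rw [hT] at hnT'
    obtain ⟨u, hu⟩ := hnT' (x * b') h1 ⟨b', rfl⟩
    rw [Submodule.mem_sup]
    refine ⟨algebraMap k B c, ?_, x * b', ?_, hcb.symm⟩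
    · rw [Algebra.algebraMap_eq_smul_one]
      exact Submodule.smul_mem _ _ (Submodule.subset_span rfl)
    · rw [Submodule.restrictScalars_mem, Ideal.mem_span_singleton']
      exact ⟨u, by rw [hu]; ring⟩
  · apply sup_le
    · rw [Submodule.span_le, Set.singleton_subset_iff]
      exact A.one_mem
    · intro b hb
      rw [Submodule.restrictScalars_mem, Ideal.mem_span_singleton'] at hb
      obtain ⟨u, rfl⟩ := hb
      rw [Subalgebra.mem_toSubmodule, mul_comm]
      exact hQ (N + 1 - n) n (by omega) le_rfl u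

end

end Groth.Agent.Helper8.TruncSub
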