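import Mathlib
import Groth.Prelude

/-!
# Morphisms which are disjoint unions of "sheets" (copies of the base)

`HasSheets p` says that the source of `p : P ⟶ T` is covered by pairwise disjoint opens each of
which maps isomorphically onto `T`.  This is stable under base change, holds for constant
schemes, and implies: étale, separated, and every closed subscheme quasi-compact over an affine
base is finite over it.
-/

set_option autoImplicit false
set_option linter.unusedSectionVars false
set_option linter.style.haveILetI false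
set_option linter.unusedVariables false

universe u

open CategoryTheory CategoryTheory.Limits AlgebraicGeometry TopologicalSpace

noncomputable section

namespace Groth.Agent.Helper8.TwSheets

/-- the source of `p` is a disjoint union of opens mapping isomorphically to the target -/
def HasSheets {P T : Scheme.{u}} (p : P ⟶ T) : Prop :=
  ∃ (I : Type u) (U : I → P.Opens), (∀ x : P, ∃ i, x ∈ U i) ∧
    (∀ (i j : I) (x : P), x ∈ U i → x ∈ U j → i = j) ∧ ∀ i, IsIso ((U i).ι ≫ p)

lemma hasSheets_const (T : Scheme.{u}) (I : Type u) :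
    HasSheets (Sigma.desc fun _ : I => 𝟙 T) := by
  refine ⟨I, fun i => (Sigma.ι (fun _ : I => T) i).opensRange, ?_, ?_, ?_⟩
  · intro x
    have h : x ∈ (⨆ i, (Sigma.ι (fun _ : I => T) i).opensRange) := by
      have := (sigmaOpenCover (fun _ : I => T)).iSup_opensRange
      change (⨆ i, (Sigma.ι (fun _ : I => T) i).opensRange) = ⊤ at this
      rw [this]; trivial
    rw [Opens.mem_iSup] at h
    exact h
  · intro i j x hi hj
    by_contra hij
    have hd := disjoint_opensRange_sigmaι (fun _ : I => T) i j hij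
    have : x ∈ ((Sigma.ι (fun _ : I => T) i).opensRange ⊓ (Sigma.ι (fun _ : I => T) j).opensRange) :=
      ⟨hi, hj⟩
    rw [hd.eq_bot] at this
    exact this
  · intro i
    have h : (Sigma.ι (fun _ : I => T) i).opensRange.ι ≫ Sigma.desc (fun _ : I => 𝟙 T) =
        (Sigma.ι (fun _ : I => T) i).isoOpensRange.inv := by
      rw [← Scheme.Hom.isoOpensRange_inv_comp, Category.assoc, Sigma.ι_desc, Category.comp_id]
    rw [h]
    infer_instance

lemma HasSheets.of_isPullback {P P' T T' : Scheme.{u}} {fst : P' ⟶ P} {snd : P' ⟶ T'}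
    {p : P ⟶ T} {t : T' ⟶ T} (h : IsPullback fst snd p t) (hp : HasSheets p) : HasSheets snd := by
  obtain ⟨I, U, hc, hd, hi⟩ := hp
  refine ⟨I, fun i => fst ⁻¹ᵁ U i, ?_, ?_, ?_⟩
  · intro x
    obtain ⟨i, hx⟩ := hc (fst x)
    exact ⟨i, hx⟩
  · intro i j x hxi hxj
    exact hd i j (fst x) hxi hxj
  · intro i
    have h1 := (isPullback_morphismRestrict fst (U i)).paste_vert h
    haveI := hi i
    exact h1.isIso_snd_of_isIso

lemma HasSheets.of_iso {P P' T : Scheme.{u}} {p : P ⟶ T} {p' : P' ⟶ T} (e : P' ≅ P)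
    (he : e.hom ≫ p = p') (h : HasSheets p) : HasSheets p' :=
  HasSheets.of_isPullback (IsPullback.of_horiz_isIso ⟨by rw [he, Category.comp_id]⟩) h

lemma HasSheets.etale {P T : Scheme.{u}} {p : P ⟶ T} (hp : HasSheets p) : Etale p := by
  obtain ⟨I, U, hc, hd, hi⟩ := hp
  refine IsZariskiLocalAtSource.of_iSup_eq_top (P := @Etale) U ?_ fun i => ?_
  · rw [eq_top_iff]
    intro x _
    rw [Opens.mem_iSup]
    exact hc x
  · haveI := hi i
    infer_instance

/-- a closed subscheme of a scheme with sheets over an affine base, quasi-compact over the base,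
is finite over the base -/
theorem isFinite_of_hasSheets_of_isAffine {P T Z : Scheme.{u}} [IsAffine T] {p : P ⟶ T}
    (hp : HasSheets p) (z : Z ⟶ P) [IsClosedImmersion z] [QuasiCompact (z ≫ p)] :
    IsFinite (z ≫ p) := by
  classical
  obtain ⟨I, U, hc, hd, hi⟩ := hp
  let W : I → Z.Opens := fun i => z ⁻¹ᵁ U i
  have hci : ∀ i, IsClosedImmersion ((W i).ι ≫ z ≫ p) := by
    intro i
    haveI := hi i
    have : (W i).ι ≫ z ≫ p = (z ∣_ U i) ≫ ((U i).ι ≫ p) := by
      rw [← Category.assoc, ← morphismRestrict_ι, Category.assoc]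
    rw [this]
    infer_instance
  have hWaff : ∀ i, IsAffineOpen (W i) := fun i => by
    haveI := hci i
    exact isAffine_of_isAffineHom ((W i).ι ≫ z ≫ p)
  have hWtop : ⨆ i, W i = ⊤ := by
    rw [eq_top_iff]
    intro x _
    rw [Opens.mem_iSup]
    exact hc (z x)
  haveI : CompactSpace Z :=
    (HasAffineProperty.iff_of_isAffine (P := @QuasiCompact) (f := z ≫ p)).mp inferInstance
  obtain ⟨J, hJ⟩ : ∃ J : Finset I, ∀ x : Z, ∃ i ∈ J, x ∈ W i := by
    obtain ⟨J, hJ⟩ := isCompact_univ.elim_finite_subcover (fun i => (W i : Set Z))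
      (fun i => (W i).isOpen) (by
        intro x _
        obtain ⟨i, hi⟩ := hc (z x)
        exact Set.mem_iUnion.mpr ⟨i, hi⟩)
    refine ⟨J, fun x => ?_⟩
    have := hJ (Set.mem_univ x)
    simp only [Set.mem_iUnion] at this
    obtain ⟨i, hi, hx⟩ := this
    exact ⟨i, hi, hx⟩
  have hZ : IsAffine Z := by
    have h1 : IsAffineOpen (⨆ i ∈ (J : Set I), W i) :=
      IsAffineOpen.biSup_of_disjoint J.finite_toSet (fun i _ => hWaff i) (by
        intro i _ j _ hij
        change Disjoint (W i) (W j)
        rw [disjoint_iff, eq_bot_iff]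
        rintro x ⟨hxi, hxj⟩
        exact (hij (hd i j (z x) hxi hxj)).elim)
    have h2 : (⨆ i ∈ (J : Set I), W i) = ⊤ := by
      rw [eq_top_iff]
      intro x _
      obtain ⟨i, hiJ, hx⟩ := hJ x
      simp only [Opens.mem_iSup]
      exact ⟨i, hiJ, hx⟩
    rw [h2] at h1
    haveI : IsAffine ((⊤ : Z.Opens) : Scheme) := h1
    exact IsAffine.of_isIso Z.topIso.inv
  rw [IsFinite.iff_isIntegralHom_and_locallyOfFiniteType]
  refine ⟨?_, ?_⟩
  · rw [HasAffineProperty.iff_of_isAffine (P := @IsIntegralHom)]
    refine ⟨hZ, ?_⟩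
    intro s
    have hsurj : ∀ i, ∃ t : Γ(T, ⊤), ((W i).ι ≫ z ≫ p).appTop.hom t = (W i).ι.appTop.hom s := by
      intro i
      haveI := hci i
      exact (IsClosedImmersion.isAffine_surjective_of_isAffine ((W i).ι ≫ z ≫ p)).2 _
    choose t ht using hsurj
    refine ⟨∏ i ∈ J, (Polynomial.X - Polynomial.C (t i)),
      Polynomial.monic_prod_of_monic _ _ (fun i _ => Polynomial.monic_X_sub_C _), ?_⟩
    rw [Polynomial.eval₂_finset_prod]
    simp only [Polynomial.eval₂_sub, Polynomial.eval₂_X, Polynomial.eval₂_C]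
    have hcovJ : IsOpenCover (fun i : J => W i.1) := by
      change (⨆ i : J, W i.1) = ⊤
      rw [eq_top_iff]
      intro x _
      obtain ⟨i, hiJ, hx⟩ := hJ x
      rw [Opens.mem_iSup]
      exact ⟨⟨i, hiJ⟩, hx⟩
    apply Scheme.zero_of_zero_cover _ (Z.openCoverOfIsOpenCover (fun i : J => W i.1) hcovJ)
    rintro ⟨i, hiJ⟩
    rw [map_prod]
    apply Finset.prod_eq_zero hiJ
    rw [map_sub, sub_eq_zero]
    have := ht i
    rw [Scheme.Hom.comp_appTop] at this
    exact this.symm
  · refine IsZariskiLocalAtSource.of_iSup_eq_top (P := @LocallyOfFiniteType) W hWtop fun i => ?_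
    haveI := hci i
    infer_instance

end Groth.Agent.Helper8.TwSheets
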