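import Mathlib
import Groth.Prelude
import Groth.Agent.Helper8.TwSheets
import Groth.Agent.Lead.SchDescent2

/-!
# Closed subschemes of twisted constant schemes, quasi-compact over the base, are finite (S5266)
-/

set_option autoImplicit false
set_option linter.unusedSectionVars false
set_option linter.style.haveILetI false
set_option linter.unusedVariables false

universe u

open CategoryTheory CategoryTheory.Limits AlgebraicGeometry TopologicalSpace

noncomputable section

namespace Groth.Agent.Helper8.TwFin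

open Groth.Agent.Helper8.TwSheets

section Calc

variable {S X : Scheme.{u}} (q : X ⟶ S) (P : MorphismProperty Scheme.{u})

/-- `P` holds for the base change of `q` along `t` -/
def BC {T : Scheme.{u}} (t : T ⟶ S) : Prop := P (pullback.snd q t)

lemma bc_id [P.RespectsIso] : BC q P (𝟙 S) ↔ P q := by
  have h : pullback.snd q (𝟙 S) = pullback.fst q (𝟙 S) ≫ q := by
    rw [pullback.condition, Category.comp_id]
  rw [BC, h, P.cancel_left_of_respectsIso]

lemma bc_comp_iff [P.RespectsIso] {T T' : Scheme.{u}} (t : T ⟶ S) (h : T' ⟶ T) :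
    BC q P (h ≫ t) ↔ P (pullback.snd (pullback.snd q t) h) := by
  rw [BC, ← pullbackLeftPullbackSndIso_hom_snd, P.cancel_left_of_respectsIso]

lemma bc_comp [P.IsStableUnderBaseChange] {T T' : Scheme.{u}} (t : T ⟶ S) (h : T' ⟶ T)
    (ht : BC q P t) : BC q P (h ≫ t) := by
  rw [bc_comp_iff]
  exact P.pullback_snd _ _ ht

lemma bc_descend [P.RespectsIso] {Q : MorphismProperty Scheme.{u}} [P.DescendsAlong Q]
    {T T' : Scheme.{u}} (t : T ⟶ S) (h : T' ⟶ T) (hh : Q h) (ht : BC q P (h ≫ t)) :
    BC q P t := by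
  rw [bc_comp_iff] at ht
  exact MorphismProperty.of_pullback_snd_of_descendsAlong (P := P) (Q := Q) hh ht

lemma bc_local [IsZariskiLocalAtTarget P] {T : Scheme.{u}} (t : T ⟶ S) (𝒰 : T.OpenCover)
    (H : ∀ i, BC q P (𝒰.f i ≫ t)) : BC q P t := by
  rw [BC, IsZariskiLocalAtTarget.iff_of_openCover (P := P) 𝒰]
  intro i
  have := H i
  rw [bc_comp_iff] at this
  exact this

end Calc

/-- the local statement: over an affine scheme mapping to a trivialising scheme -/
theorem core {S : Scheme.{u}} (R : Over S) {Z : Scheme.{u}} (z : Z ⟶ R.left) [IsClosedImmersion z]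
    [QuasiCompact (z ≫ R.hom)] {U' O : Scheme.{u}} [IsAffine O] (u : U' ⟶ S) (I : Type u)
    (e : Red.bc u R ≅ TwC.const U' I) (o : O ⟶ U') :
    BC (z ≫ R.hom) @IsFinite (o ≫ u) := by
  set q := z ≫ R.hom with hq
  set t := o ≫ u with ht
  let z' : pullback q t ⟶ pullback R.hom t :=
    pullback.lift (pullback.fst q t ≫ z) (pullback.snd q t) (by
      rw [Category.assoc, ← hq, pullback.condition])
  have hz' : z' ≫ pullback.snd R.hom t = pullback.snd q t := pullback.lift_snd _ _ _
  have hsq : IsPullback z' (pullback.fst q t) (pullback.fst R.hom t) z := by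
    refine IsPullback.of_right (h₁₂ := pullback.snd R.hom t) (h₂₂ := R.hom) (v₁₃ := t) ?_ ?_ ?_
    · rw [hz']
      exact (IsPullback.of_hasPullback q t).flip
    · exact pullback.lift_fst _ _ _
    · exact (IsPullback.of_hasPullback R.hom t).flip
  haveI : IsClosedImmersion z' :=
    MorphismProperty.of_isPullback (P := @IsClosedImmersion) hsq.flip inferInstance
  haveI : QuasiCompact (z' ≫ pullback.snd R.hom t) := by
    rw [hz']; infer_instance
  -- sheets
  have hs_u : HasSheets (pullback.snd R.hom u) := by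
    refine HasSheets.of_iso ((Over.forget _).mapIso e) ?_ (hasSheets_const U' I)
    exact Over.w e.hom
  let m : pullback R.hom t ⟶ pullback R.hom u :=
    pullback.lift (pullback.fst R.hom t) (pullback.snd R.hom t ≫ o) (by
      rw [pullback.condition, Category.assoc])
  have hm : IsPullback m (pullback.snd R.hom t) (pullback.snd R.hom u) o := by
    refine IsPullback.of_right (h₁₂ := pullback.fst R.hom u) (h₂₂ := u) (v₁₃ := R.hom) ?_ ?_ ?_
    · have : m ≫ pullback.fst R.hom u = pullback.fst R.hom t := pullback.lift_fst _ _ _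
      rw [this]
      exact IsPullback.of_hasPullback R.hom t
    · exact pullback.lift_snd _ _ _
    · exact IsPullback.of_hasPullback R.hom u
  have hs_t : HasSheets (pullback.snd R.hom t) := HasSheets.of_isPullback hm hs_u
  have key := isFinite_of_hasSheets_of_isAffine hs_t z'
  rw [hz'] at key
  exact key

/-- S5266 -/
theorem main {S : Scheme.{u}} (R : Over S) (hR : TwC.IsTwConst TwC.Topology.fpqc R)
    {Z : Scheme.{u}} (z : Z ⟶ R.left) [IsClosedImmersion z] [QuasiCompact (z ≫ R.hom)] :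
    IsFinite (z ≫ R.hom) := by
  classical
  obtain ⟨S', f, hflat, hsurj, hqc, hloc⟩ := hR
  haveI := hflat
  haveI : MorphismProperty.DescendsAlong (@IsFinite : MorphismProperty Scheme.{u})
      (@Surjective ⊓ @Flat ⊓ @QuasiCompact) :=
    Groth.Agent.Lead.SchDescent2.descendsAlong_isFinite_fpqc
  set q := z ≫ R.hom with hq
  rw [← bc_id q @IsFinite]
  apply bc_local q @IsFinite (𝟙 S) S.affineCover
  intro a
  rw [Category.comp_id]
  set j := S.affineCover.f a with hj
  obtain ⟨W, hWc, hWV⟩ := hqc j.opensRange (isAffineOpen_opensRange j)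
  have hch : ∀ w : W, ∃ O : S'.Opens, IsAffineOpen O ∧ (w : S') ∈ O ∧ O ≤ W ∧
      BC q @IsFinite (O.ι ≫ f) := by
    intro w
    obtain ⟨U, hwU, I, ⟨e⟩⟩ := hloc w
    obtain ⟨_, ⟨O, hO, rfl⟩, hwO, hOUW⟩ := S'.isBasis_affineOpens.exists_subset_of_mem_open
      (show (w : S') ∈ ((U ⊓ W : S'.Opens) : Set S') from ⟨hwU, w.2⟩) (U ⊓ W).isOpen
    have hOU : O ≤ U := fun x hx => (hOUW hx).1
    have hOW : O ≤ W := fun x hx => (hOUW hx).2
    refine ⟨O, hO, hwO, hOW, ?_⟩
    haveI : IsAffine (O : Scheme.{u}) := hO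
    have := core R z (U.ι ≫ f) I e (S'.homOfLE hOU)
    rwa [← Category.assoc, Scheme.homOfLE_ι] at this
  choose O hOaff hwO hOW hOfin using hch
  obtain ⟨F, hF⟩ := hWc.elim_finite_subcover (fun w : W => (O w : Set S'))
    (fun w => (O w).isOpen) (by
      intro x hx
      exact Set.mem_iUnion.mpr ⟨⟨x, hx⟩, hwO ⟨x, hx⟩⟩)
  -- the covering of the affine piece
  have hrange : ∀ w : F, Set.range ((O w.1).ι ≫ f) ⊆ Set.range j := by
    rintro w _ ⟨x, rfl⟩
    have hxO : (O w.1).ι x ∈ O w.1 := by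
      have : (O w.1).ι x ∈ Set.range (O w.1).ι := ⟨x, rfl⟩
      rwa [Scheme.Opens.range_ι] at this
    have hxW : (O w.1).ι x ∈ W := hOW w.1 hxO
    have : f ((O w.1).ι x) ∈ f.base '' (W : Set S') := ⟨_, hxW, rfl⟩
    rw [hWV] at this
    exact this
  let g₀ : ∀ w : F, ((O w.1 : S'.Opens) : Scheme.{u}) ⟶ S.affineCover.X a := fun w =>
    IsOpenImmersion.lift j ((O w.1).ι ≫ f) (hrange w)
  have hg₀ : ∀ w : F, g₀ w ≫ j = (O w.1).ι ≫ f := fun w => IsOpenImmersion.lift_fac _ _ _
  let g : (∐ fun w : F => ((O w.1 : S'.Opens) : Scheme.{u})) ⟶ S.affineCover.X a := Sigma.desc g₀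
  haveI : ∀ w : F, IsAffine ((O w.1 : S'.Opens) : Scheme.{u}) := fun w => hOaff w.1
  haveI : IsAffine (S.affineCover.X a) := by
    change IsAffine (Spec _); infer_instance
  have hQg : (@Surjective ⊓ @Flat ⊓ @QuasiCompact : MorphismProperty Scheme.{u}) g := by
    refine ⟨⟨⟨fun y => ?_⟩, ?_⟩, ?_⟩
    · -- surjective
      have hy : j y ∈ f.base '' (W : Set S') := by
        rw [hWV]; exact ⟨y, rfl⟩
      obtain ⟨x, hxW, hxy⟩ := hy
      have hx' := hF hxW
      simp only [Set.mem_iUnion] at hx'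
      obtain ⟨w, hwF, hxO⟩ := hx'
      refine ⟨(Sigma.ι (fun w : F => ((O w.1 : S'.Opens) : Scheme.{u})) ⟨w, hwF⟩) ⟨x, hxO⟩, ?_⟩
      apply j.isOpenEmbedding.injective
      rw [← Scheme.Hom.comp_apply, ← Scheme.Hom.comp_apply]
      change (Sigma.ι _ _ ≫ Sigma.desc g₀ ≫ j) _ = _
      rw [Sigma.ι_desc_assoc, hg₀]
      exact hxy
    · -- flat
      apply IsZariskiLocalAtSource.sigmaDesc (P := @Flat)
      intro w
      have h1 : Flat (g₀ w ≫ j) := by rw [hg₀]; infer_instance
      exact MorphismProperty.of_postcomp (W := @Flat) (W' := MorphismProperty.monomorphisms _)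
        (g₀ w) j (inferInstanceAs (Mono j)) h1
    · infer_instance
  apply bc_descend q @IsFinite j g hQg
  apply bc_local q @IsFinite (g ≫ j)
    (sigmaOpenCover fun w : F => ((O w.1 : S'.Opens) : Scheme.{u}))
  intro w
  change BC q @IsFinite (Sigma.ι _ w ≫ Sigma.desc g₀ ≫ j)
  rw [Sigma.ι_desc_assoc, hg₀]
  exact hOfin w.1

end Groth.Agent.Helper8.TwFin
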