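import Mathlib
import Groth.Prelude
import Groth.Agent.Helper8.TwSheets
import Groth.Agent.Helper8.TwFin

/-!
# Morphisms with sheets are separated; étaleness and separatedness of twisted constant schemes
-/

set_option autoImplicit false
set_option linter.unusedSectionVars false
set_option linter.style.haveILetI false
set_option linter.unusedVariables false

universe u

open CategoryTheory CategoryTheory.Limits AlgebraicGeometry TopologicalSpace

noncomputable section

namespace Groth.Agent.Helper8.TwSheets

open Groth.Agent.Helper8.TwFin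

lemma HasSheets.isSeparated {P T : Scheme.{u}} {p : P ⟶ T} (hp : HasSheets p) : IsSeparated p := by
  obtain ⟨I, U, hc, hd, hi⟩ := hp
  refine ⟨IsClosedImmersion.of_isPreimmersion _ ?_⟩
  rw [← isOpen_compl_iff, isOpen_iff_forall_mem_open]
  intro w hw
  obtain ⟨i, hwi⟩ := hc (pullback.fst p p w)
  obtain ⟨j, hwj⟩ := hc (pullback.snd p p w)
  let N : (pullback p p).Opens := pullback.fst p p ⁻¹ᵁ U i ⊓ pullback.snd p p ⁻¹ᵁ U j
  have hwN : w ∈ N := ⟨hwi, hwj⟩
  by_cases hij : i = j
  · subst hij
    exfalso
    apply hw
    haveI := hi i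
    have hr1 : Set.range (N.ι ≫ pullback.fst p p) ⊆ Set.range (U i).ι := by
      rintro _ ⟨y, rfl⟩
      rw [Scheme.Opens.range_ι]
      have : N.ι y ∈ N := by
        have : N.ι y ∈ Set.range N.ι := ⟨y, rfl⟩
        rwa [Scheme.Opens.range_ι] at this
      exact this.1
    have hr2 : Set.range (N.ι ≫ pullback.snd p p) ⊆ Set.range (U i).ι := by
      rintro _ ⟨y, rfl⟩
      rw [Scheme.Opens.range_ι]
      have : N.ι y ∈ N := by
        have : N.ι y ∈ Set.range N.ι := ⟨y, rfl⟩
        rwa [Scheme.Opens.range_ι] at this
      exact this.2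
    let a₁ := IsOpenImmersion.lift (U i).ι (N.ι ≫ pullback.fst p p) hr1
    let a₂ := IsOpenImmersion.lift (U i).ι (N.ι ≫ pullback.snd p p) hr2
    have ha₁ : a₁ ≫ (U i).ι = N.ι ≫ pullback.fst p p := IsOpenImmersion.lift_fac _ _ _
    have ha₂ : a₂ ≫ (U i).ι = N.ι ≫ pullback.snd p p := IsOpenImmersion.lift_fac _ _ _
    have h12 : a₁ = a₂ := by
      rw [← cancel_mono ((U i).ι ≫ p), ← Category.assoc, ← Category.assoc, ha₁, ha₂,
        Category.assoc, Category.assoc, pullback.condition]
    have heq : N.ι ≫ pullback.fst p p = N.ι ≫ pullback.snd p p := by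
      rw [← ha₁, ← ha₂, h12]
    have hfac : N.ι = (N.ι ≫ pullback.fst p p) ≫ pullback.diagonal p := by
      apply pullback.hom_ext
      · rw [Category.assoc, pullback.diagonal_fst, Category.comp_id]
      · rw [Category.assoc, pullback.diagonal_snd, Category.comp_id, heq]
    have hw' : w = N.ι ⟨w, hwN⟩ := rfl
    rw [hw', hfac]
    exact ⟨_, rfl⟩
  · refine ⟨N, ?_, N.isOpen, hwN⟩
    rintro _ ⟨hy1, hy2⟩ ⟨y, rfl⟩
    apply hij
    have e1 : pullback.fst p p (pullback.diagonal p y) = y := by
      rw [← Scheme.Hom.comp_apply, pullback.diagonal_fst]; rfl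
    have e2 : pullback.snd p p (pullback.diagonal p y) = y := by
      rw [← Scheme.Hom.comp_apply, pullback.diagonal_snd]; rfl
    have h1 : y ∈ U i := by
      have : pullback.fst p p (pullback.diagonal p y) ∈ U i := hy1
      rwa [e1] at this
    have h2 : y ∈ U j := by
      have : pullback.snd p p (pullback.diagonal p y) ∈ U j := hy2
      rwa [e2] at this
    exact hd i j y h1 h2

/-- a property which is local on the target and descends along `Q` holds for `q` as soon as it
holds for the base changes of `q` to the members of an open cover of a `Q`-cover -/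
lemma prop_of_cover {S X S' : Scheme.{u}} (q : X ⟶ S) (P Q : MorphismProperty Scheme.{u})
    [IsZariskiLocalAtTarget P] [P.DescendsAlong Q] (f : S' ⟶ S) (hf : Q f)
    (𝒰 : S'.OpenCover) (h : ∀ i, P (pullback.snd q (𝒰.f i ≫ f))) : P q := by
  rw [← bc_id q P]
  apply bc_descend q P (𝟙 S) f hf
  rw [Category.comp_id]
  exact bc_local q P f 𝒰 h

/-- a morphism is separated iff its diagonal is universally closed -/
theorem isSeparated_iff_universallyClosed_diagonal {X Y : Scheme.{u}} (f : X ⟶ Y) :
    IsSeparated f ↔ UniversallyClosed (pullback.diagonal f) := by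
  constructor
  · intro h
    infer_instance
  · intro h
    refine ⟨IsClosedImmersion.of_isPreimmersion _ ?_⟩
    exact (pullback.diagonal f).isClosedMap.isClosed_range

theorem isSeparated_eq_diagonal :
    (@IsSeparated : MorphismProperty Scheme.{u}) =
      MorphismProperty.diagonal (@UniversallyClosed : MorphismProperty Scheme.{u}) := by
  ext X Y f
  exact isSeparated_iff_universallyClosed_diagonal f

/-- separatedness satisfies fpqc descent -/
theorem descendsAlong_isSeparated :
    MorphismProperty.DescendsAlong @IsSeparated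
      (@Surjective ⊓ @Flat ⊓ @QuasiCompact : MorphismProperty Scheme.{u}) := by
  rw [isSeparated_eq_diagonal]
  infer_instance

end Groth.Agent.Helper8.TwSheets
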