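import Mathlib
import Groth.Prelude
import Groth.Agent.Helper8.TwSheets
import Groth.Agent.Helper8.TwSheets2
import Groth.Agent.Helper8.TwFin

/-!
# Isotrivial twisted constant schemes are unions of open and closed finite subschemes (S5308)
-/

set_option autoImplicit false
set_option linter.unusedSectionVars false
set_option linter.style.haveILetI false
set_option linter.unusedVariables false

universe u

open CategoryTheory CategoryTheory.Limits AlgebraicGeometry TopologicalSpace

noncomputable section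

namespace Groth.Agent.Helper8.TwClopen

open Groth.Agent.Helper8.TwSheets Groth.Agent.Helper8.TwFin

/-- the geometric core: `q : X ⟶ S` becomes a scheme with sheets over the members of a cover of
`S'` by open and closed subschemes, `f : S' ⟶ S` finite étale surjective -/
theorem core {S X S' : Scheme.{u}} (q : X ⟶ S) (f : S' ⟶ S) [IsFinite f] [Etale f] [Surjective f]
    (U : S' → S'.Opens) (hU : ∀ s', s' ∈ U s') (hUcl : ∀ s', IsClosed (U s' : Set S'))
    (hsh : ∀ s', HasSheets (pullback.snd q ((U s').ι ≫ f))) (x : X) :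
    ∃ N : X.Opens, x ∈ N ∧ IsClosed (N : Set X) ∧ IsFinite (N.ι ≫ q) := by
  classical
  have hcov : IsOpenCover U := by
    change (⨆ s', U s') = ⊤
    rw [eq_top_iff]
    intro y _
    rw [Opens.mem_iSup]
    exact ⟨y, hU y⟩
  have hQf : (@Surjective ⊓ @Flat ⊓ @QuasiCompact : MorphismProperty Scheme.{u}) f :=
    ⟨⟨inferInstance, inferInstance⟩, inferInstance⟩
  -- `q` is étale and separated
  haveI hqet : Etale q :=
    prop_of_cover q @Etale _ f hQf (S'.openCoverOfIsOpenCover U hcov) (fun s' => (hsh s').etale)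
  haveI hqsep : IsSeparated q := by
    haveI := descendsAlong_isSeparated.{u}
    exact prop_of_cover q @IsSeparated _ f hQf (S'.openCoverOfIsOpenCover U hcov)
      (fun s' => (hsh s').isSeparated)
  -- the finite étale cover of `X`
  let π : pullback q f ⟶ X := pullback.fst q f
  let σ : pullback q f ⟶ S' := pullback.snd q f
  haveI hπsurj : Surjective π := inferInstanceAs (Surjective (pullback.fst q f))
  obtain ⟨x', hx'⟩ := hπsurj.surj x
  let s' : S' := σ x'
  obtain ⟨I, V, hVc, hVd, hVi⟩ := hsh s'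
  let k : pullback q ((U s').ι ≫ f) ⟶ pullback q f :=
    pullback.lift (pullback.fst q _) (pullback.snd q _ ≫ (U s').ι) (by
      rw [pullback.condition, Category.assoc])
  have hk : IsPullback k (pullback.snd q ((U s').ι ≫ f)) σ (U s').ι := by
    refine IsPullback.of_right (h₁₂ := pullback.fst q f) (h₂₂ := f) (v₁₃ := q) ?_ ?_ ?_
    · have : k ≫ pullback.fst q f = pullback.fst q ((U s').ι ≫ f) := pullback.lift_fst _ _ _
      rw [this]
      exact IsPullback.of_hasPullback q ((U s').ι ≫ f)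
    · exact pullback.lift_snd _ _ _
    · exact IsPullback.of_hasPullback q f
  haveI : IsOpenImmersion k :=
    MorphismProperty.of_isPullback (P := @IsOpenImmersion) hk.flip inferInstance
  have hkσ : k ≫ σ = pullback.snd q ((U s').ι ≫ f) ≫ (U s').ι := pullback.lift_snd _ _ _
  -- points over `U s'` come from `k`
  have hrange : ∀ y : ↥(pullback q f), σ y ∈ U s' → ∃ y'', k y'' = y := by
    intro y hy
    obtain ⟨z, hz1, -⟩ := Scheme.Pullback.exists_preimage_pullback (f := σ) (g := (U s').ι) y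
      ⟨σ y, hy⟩ rfl
    refine ⟨hk.isoPullback.inv z, ?_⟩
    rw [← Scheme.Hom.comp_apply, hk.isoPullback_inv_fst]
    exact hz1
  have hσk : ∀ y'', σ (k y'') ∈ U s' := by
    intro y''
    rw [← Scheme.Hom.comp_apply, hkσ, Scheme.Hom.comp_apply]
    have : (U s').ι (pullback.snd q ((U s').ι ≫ f) y'') ∈ Set.range (U s').ι := ⟨_, rfl⟩
    rwa [Scheme.Opens.range_ι] at this
  obtain ⟨x'', hx''⟩ := hrange x' (hU s')
  obtain ⟨i, hxi⟩ := hVc x''
  -- the sheet through `x'`
  let C : Set ↥(pullback q f) := k '' (V i : Set _)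
  have hCopen : IsOpen C := k.isOpenEmbedding.isOpenMap _ (V i).isOpen
  have hCclosed : IsClosed C := by
    rw [← isOpen_compl_iff, isOpen_iff_forall_mem_open]
    intro y hy
    by_cases hyU : σ y ∈ U s'
    · obtain ⟨y'', rfl⟩ := hrange y hyU
      obtain ⟨j, hyj⟩ := hVc y''
      refine ⟨k '' (V j : Set _), ?_, k.isOpenEmbedding.isOpenMap _ (V j).isOpen, ⟨y'', hyj, rfl⟩⟩
      rintro _ ⟨a, haj, rfl⟩ ⟨b, hbi, hab⟩
      have : b = a := k.isOpenEmbedding.injective hab
      subst this
      have hij : i = j := hVd i j b hbi haj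
      subst hij
      exact hy ⟨y'', hyj, rfl⟩
    · refine ⟨σ ⁻¹' ((U s' : Set S')ᶜ), ?_, (hUcl s').isOpen_compl.preimage σ.continuous, hyU⟩
      rintro _ hb ⟨b, -, rfl⟩
      exact hb (hσk b)
  let N : X.Opens := ⟨π '' C, π.isOpenMap _ hCopen⟩
  have hNclosed : IsClosed (N : Set X) := π.isClosedMap _ hCclosed
  have hxN : x ∈ N := ⟨x', ⟨x'', hxi, hx''⟩, hx'⟩
  refine ⟨N, hxN, hNclosed, ?_⟩
  -- the sheet maps onto `N`
  have hr : Set.range ((V i).ι ≫ k ≫ π) ⊆ Set.range N.ι := by
    rintro _ ⟨a, rfl⟩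
    rw [Scheme.Opens.range_ι]
    refine ⟨k ((V i).ι a), ⟨(V i).ι a, ?_, rfl⟩, rfl⟩
    have : (V i).ι a ∈ Set.range (V i).ι := ⟨a, rfl⟩
    rwa [Scheme.Opens.range_ι] at this
  let c : ((V i : (pullback q ((U s').ι ≫ f)).Opens) : Scheme.{u}) ⟶ (N : Scheme.{u}) :=
    IsOpenImmersion.lift N.ι ((V i).ι ≫ k ≫ π) hr
  have hc : c ≫ N.ι = (V i).ι ≫ k ≫ π := IsOpenImmersion.lift_fac _ _ _
  haveI hcsurj : Surjective c := by
    refine ⟨fun n => ?_⟩
    have hn : N.ι n ∈ N := by
      have : N.ι n ∈ Set.range N.ι := ⟨n, rfl⟩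
      rwa [Scheme.Opens.range_ι] at this
    obtain ⟨y, ⟨y'', hy'', rfl⟩, hyn⟩ := hn
    refine ⟨⟨y'', hy''⟩, ?_⟩
    apply N.ι.isOpenEmbedding.injective
    rw [← Scheme.Hom.comp_apply, hc]
    exact hyn
  haveI : IsClosedImmersion (U s').ι :=
    IsClosedImmersion.of_isPreimmersion _ (by rw [Scheme.Opens.range_ι]; exact hUcl s')
  have hcg : c ≫ N.ι ≫ q = ((V i).ι ≫ pullback.snd q ((U s').ι ≫ f)) ≫ (U s').ι ≫ f := by
    rw [← Category.assoc, hc]
    simp only [Category.assoc]
    have : π ≫ q = σ ≫ f := pullback.condition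
    rw [this, ← Category.assoc k, hkσ]
    simp only [Category.assoc]
  haveI hfin : IsFinite (c ≫ N.ι ≫ q) := by
    rw [hcg]
    haveI := hVi i
    infer_instance
  haveI : UniversallyClosed (N.ι ≫ q) := UniversallyClosed.of_comp_surjective c (N.ι ≫ q)
  haveI : IsProper (N.ι ≫ q) := {}
  haveI : LocallyQuasiFinite (N.ι ≫ q) := by
    apply LocallyQuasiFinite.of_finite_preimage_singleton
    intro s
    have h1 := Scheme.Hom.finite_preimage_singleton (c ≫ N.ι ≫ q) s
    refine (h1.image c).subset ?_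
    intro n hn
    obtain ⟨a, rfl⟩ := hcsurj.surj n
    exact ⟨a, hn, rfl⟩
  exact IsFinite.of_isProper_of_locallyQuasiFinite _

/-- S5308 -/
theorem main {S : Scheme.{u}} (R : Over S) [GrpObj R]
    (hR : TwC.IsTwConstGrp TwC.Topology.finiteEtale R) (x : R.left) :
    ∃ U : R.left.Opens, x ∈ U ∧ IsClosed (U : Set R.left) ∧ IsFinite (U.ι ≫ R.hom) := by
  obtain ⟨S', f, hfin, het, hsurj, hloc⟩ := hR
  haveI := hfin
  haveI := het
  haveI := hsurj
  choose U hU hUcl M instM e he using hloc
  refine core R.hom f U hU hUcl (fun s' => ?_) x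
  refine HasSheets.of_iso ((Over.forget _).mapIso (e s')) ?_ (hasSheets_const _ (M s'))
  exact Over.w (e s').hom

end Groth.Agent.Helper8.TwClopen
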