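import Mathlib
import Groth.Prelude
import Groth.Agent.Helper8.TwSheets
import Groth.Agent.Helper8.TwSheets2
import Groth.Agent.Helper8.TwFin
import Groth.Agent.Helper4.SchLQF
import Groth.Agent.Lead.SchDescent2

/-!
# Open and closed subschemes of quasi-isotrivial twisted constant schemes with one finite fibre
are finite, over a connected locally noetherian base (S5267)
-/

set_option autoImplicit false
set_option linter.unusedSectionVars false
set_option linter.style.haveILetI false
set_option linter.unusedVariables false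

universe u

open CategoryTheory CategoryTheory.Limits AlgebraicGeometry TopologicalSpace

noncomputable section

namespace Groth.Agent.Helper8.TwFibFin

open Groth.Agent.Helper8.TwSheets Groth.Agent.Helper8.TwFin

/-! ### Topology: connected components of noetherian spaces are open -/

theorem isOpen_connectedComponent_of_noetherianSpace {X : Type*} [TopologicalSpace X]
    [NoetherianSpace X] (x : X) : IsOpen (connectedComponent x) := by
  rw [← isClosed_compl_iff]
  set F : Set (Set X) := {Y | Y ∈ irreducibleComponents X ∧ ¬ Y ⊆ connectedComponent x} with hF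
  have hFfin : F.Finite :=
    (NoetherianSpace.finite_irreducibleComponents (α := X)).subset fun Y hY => hY.1
  have hcl : IsClosed (⋃₀ F) := by
    rw [Set.sUnion_eq_biUnion]
    exact hFfin.isClosed_biUnion fun Y hY => isClosed_of_mem_irreducibleComponents Y hY.1
  have heq : (connectedComponent x)ᶜ = ⋃₀ F := by
    ext y
    constructor
    · intro hy
      refine ⟨irreducibleComponent y, ⟨irreducibleComponent_mem_irreducibleComponents y, ?_⟩,
        mem_irreducibleComponent⟩
      intro hsub
      exact hy (hsub mem_irreducibleComponent)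
    · rintro ⟨Y, ⟨hY, hYn⟩, hyY⟩ hy
      apply hYn
      have hirr : IsIrreducible Y := hY.1
      have h1 : Y ⊆ connectedComponent y :=
        hirr.isConnected.isPreconnected.subset_connectedComponent hyY
      rwa [← connectedComponent_eq hy] at h1
  rw [heq]
  exact hcl

/-! ### Sheets -/

section Sheets

variable {Y T : Scheme.{u}} {p : Y ⟶ T} {I : Type u} {U : I → Y.Opens}

/-- the section of `p` with image the sheet `U i` -/
def sec (p : Y ⟶ T) (U : I → Y.Opens) (hi : ∀ i, IsIso ((U i).ι ≫ p)) (i : I) : T ⟶ Y :=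
  haveI := hi i
  inv ((U i).ι ≫ p) ≫ (U i).ι

lemma sec_comp (hi : ∀ i, IsIso ((U i).ι ≫ p)) (i : I) : sec p U hi i ≫ p = 𝟙 T := by
  haveI := hi i
  rw [sec, Category.assoc, IsIso.inv_hom_id]

lemma p_sec (hi : ∀ i, IsIso ((U i).ι ≫ p)) (i : I) (t : T) : p (sec p U hi i t) = t := by
  rw [← Scheme.Hom.comp_apply, sec_comp]
  rfl

lemma sec_mem (hi : ∀ i, IsIso ((U i).ι ≫ p)) (i : I) (t : T) : sec p U hi i t ∈ U i := by
  haveI := hi i
  rw [sec, Scheme.Hom.comp_apply]
  exact ((inv ((U i).ι ≫ p)) t).2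

lemma sec_p (hi : ∀ i, IsIso ((U i).ι ≫ p)) (i : I) (y : Y) (hy : y ∈ U i) :
    sec p U hi i (p y) = y := by
  haveI := hi i
  have h1 : y = (U i).ι ⟨y, hy⟩ := rfl
  have h2 : p y = ((U i).ι ≫ p) ⟨y, hy⟩ := by
    rw [Scheme.Hom.comp_apply]; rfl
  rw [h2, sec, ← Scheme.Hom.comp_apply, ← Category.assoc, IsIso.hom_inv_id, Category.id_comp]
  rfl

variable [PreconnectedSpace T]

lemma sec_mem_clopen (hi : ∀ i, IsIso ((U i).ι ≫ p)) {C : Set Y} (hC : IsClopen C) (i : I)
    (t₀ t : T) (h : sec p U hi i t₀ ∈ C) : sec p U hi i t ∈ C := by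
  have hcl : IsClopen ((sec p U hi i) ⁻¹' C) := hC.preimage (sec p U hi i).continuous
  have := hcl.eq_univ ⟨t₀, h⟩
  have ht : t ∈ (sec p U hi i) ⁻¹' C := by rw [this]; trivial
  exact ht

/-- a clopen subset with one finite fibre is a finite union of sheets -/
lemma exists_finite_sheets (hd : ∀ (i j : I) (x : Y), x ∈ U i → x ∈ U j → i = j)
    (hc : ∀ x : Y, ∃ i, x ∈ U i)
    (hi : ∀ i, IsIso ((U i).ι ≫ p)) {C : Set Y} (hC : IsClopen C) (t₀ : T)
    (hfin : (p ⁻¹' {t₀} ∩ C).Finite) :
    ∃ J : Set I, J.Finite ∧ C = ⋃ i ∈ J, (U i : Set Y) := by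
  refine ⟨{i | sec p U hi i t₀ ∈ C}, ?_, ?_⟩
  · refine Set.Finite.of_injOn (f := fun i => sec p U hi i t₀) ?_ ?_ hfin
    · intro i hi'
      exact ⟨p_sec hi i t₀, hi'⟩
    · intro i _ j _ hij
      exact hd i j _ (sec_mem hi i t₀) (by
        have : sec p U hi i t₀ = sec p U hi j t₀ := hij
        rw [this]; exact sec_mem hi j t₀)
  · ext y
    simp only [Set.mem_iUnion, Set.mem_setOf_eq, SetLike.mem_coe, exists_prop]
    constructor
    · intro hy
      obtain ⟨i, hyi⟩ := hc y
      refine ⟨i, ?_, hyi⟩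
      apply sec_mem_clopen hi hC i (p y) t₀
      rw [sec_p hi i y hyi]
      exact hy
    · rintro ⟨i, hi', hyi⟩
      have := sec_mem_clopen hi hC i t₀ (p y) hi'
      rwa [sec_p hi i y hyi] at this

lemma finite_fibre_of_finite_fibre (hp : HasSheets p) {C : Set Y} (hC : IsClopen C) (t₀ t : T)
    (hfin : (p ⁻¹' {t₀} ∩ C).Finite) : (p ⁻¹' {t} ∩ C).Finite := by
  obtain ⟨I, U, hc, hd, hi⟩ := hp
  obtain ⟨J, hJ, hCJ⟩ := exists_finite_sheets hd hc hi hC t₀ hfin
  refine (hJ.image fun i => sec p U hi i t).subset ?_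
  rintro y ⟨hy1, hy2⟩
  rw [hCJ] at hy2
  simp only [Set.mem_iUnion, SetLike.mem_coe, exists_prop] at hy2
  obtain ⟨i, hiJ, hyi⟩ := hy2
  refine ⟨i, hiJ, ?_⟩
  have : p y = t := hy1
  change sec p U hi i t = y
  rw [← this, sec_p hi i y hyi]

lemma isCompact_of_finite_fibre [CompactSpace T] (hp : HasSheets p) {C : Set Y} (hC : IsClopen C)
    (t₀ : T) (hfin : (p ⁻¹' {t₀} ∩ C).Finite) : IsCompact C := by
  obtain ⟨I, U, hc, hd, hi⟩ := hp
  obtain ⟨J, hJ, hCJ⟩ := exists_finite_sheets hd hc hi hC t₀ hfin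
  rw [hCJ]
  refine hJ.isCompact_biUnion fun i _ => ?_
  have : (U i : Set Y) = Set.range (sec p U hi i) := by
    ext y
    constructor
    · intro hy
      exact ⟨p y, sec_p hi i y hy⟩
    · rintro ⟨t, rfl⟩
      exact sec_mem hi i t
  rw [this]
  exact isCompact_range (sec p U hi i).continuous

end Sheets

/-! ### Fibres under base change -/

section Fibres

variable {Z S O : Scheme.{u}} (q : Z ⟶ S) (g : O ⟶ S)

lemma finite_fibre_of_bc (o : O) (h : ((pullback.snd q g) ⁻¹' {o}).Finite) :
    (q ⁻¹' {g o}).Finite := by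
  refine (h.image (pullback.fst q g)).subset ?_
  intro x hx
  obtain ⟨w, hw1, hw2⟩ := Scheme.Pullback.exists_preimage_pullback (f := q) (g := g) x o hx
  exact ⟨w, hw2, hw1⟩

lemma finite_fibre_bc [LocallyQuasiFinite g] [QuasiCompact g] (o : O)
    (h : (q ⁻¹' {g o}).Finite) : ((pullback.snd q g) ⁻¹' {o}).Finite := by
  refine ((pullback.fst q g).finite_preimage h).subset ?_
  intro w hw
  have hw' : pullback.snd q g w = o := hw
  change q (pullback.fst q g w) = g o
  rw [← Scheme.Hom.comp_apply, pullback.condition, Scheme.Hom.comp_apply, hw']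

end Fibres

/-! ### Connected affine neighbourhoods -/

theorem exists_affine_preconnected_nhd {T : Scheme.{u}} [IsLocallyNoetherian T] (t : T) :
    ∃ O : T.Opens, IsAffineOpen O ∧ t ∈ O ∧ _root_.IsPreconnected (O : Set T) := by
  obtain ⟨_, ⟨V, hV, rfl⟩, htV, -⟩ := T.isBasis_affineOpens.exists_subset_of_mem_open
    (Set.mem_univ t) isOpen_univ
  obtain ⟨V, rfl⟩ : ∃ V' : T.Opens, V' = V := ⟨V, rfl⟩
  haveI : IsAffine (V : Scheme.{u}) := hV
  haveI : IsNoetherianRing Γ(T, V) := IsLocallyNoetherian.component_noetherian ⟨V, hV⟩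
  haveI : NoetherianSpace (V : Scheme.{u}) := noetherianSpace_of_isAffineOpen V hV
  let t' : (V : Scheme.{u}) := ⟨t, htV⟩
  have hopen : IsOpen (connectedComponent t') := isOpen_connectedComponent_of_noetherianSpace t'
  let O' : (V : Scheme.{u}).Opens := ⟨connectedComponent t', hopen⟩
  haveI : IsClosedImmersion O'.ι := by
    apply IsClosedImmersion.of_isPreimmersion
    rw [Scheme.Opens.range_ι]
    exact isClosed_connectedComponent
  haveI : IsAffine (O' : Scheme.{u}) := isAffine_of_isAffineHom O'.ι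
  have hO' : IsAffineOpen O' := ‹IsAffine (O' : Scheme.{u})›
  refine ⟨V.ι ''ᵁ O', hO'.image_of_isOpenImmersion V.ι, ⟨t', mem_connectedComponent, rfl⟩, ?_⟩
  rw [Scheme.Hom.coe_image]
  exact isPreconnected_connectedComponent.image _ V.ι.continuous.continuousOn

/-! ### The main statement -/

lemma hasSheets_comp {P S S' O : Scheme.{u}} (p : P ⟶ S) (f : S' ⟶ S) (o : O ⟶ S')
    (h : HasSheets (pullback.snd p f)) : HasSheets (pullback.snd p (o ≫ f)) := by
  let m : pullback p (o ≫ f) ⟶ pullback p f :=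
    pullback.lift (pullback.fst p (o ≫ f)) (pullback.snd p (o ≫ f) ≫ o) (by
      rw [pullback.condition, Category.assoc])
  have hm : IsPullback m (pullback.snd p (o ≫ f)) (pullback.snd p f) o := by
    refine IsPullback.of_right (h₁₂ := pullback.fst p f) (h₂₂ := f) (v₁₃ := p) ?_ ?_ ?_
    · have : m ≫ pullback.fst p f = pullback.fst p (o ≫ f) := pullback.lift_fst _ _ _
      rw [this]
      exact IsPullback.of_hasPullback p (o ≫ f)
    · exact pullback.lift_snd _ _ _
    · exact IsPullback.of_hasPullback p f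
  exact HasSheets.of_isPullback hm h

theorem core {S : Scheme.{u}} [IsLocallyNoetherian S] [ConnectedSpace S] {P Z : Scheme.{u}}
    (p : P ⟶ S)
    (hP : ∀ s : S, ∃ (S' : Scheme.{u}) (f : S' ⟶ S), Etale f ∧ s ∈ Set.range f.base ∧
      HasSheets (pullback.snd p f))
    (z : Z ⟶ P) [IsOpenImmersion z] [IsClosedImmersion z]
    (hs : ∃ s : S, Set.Finite ((z ≫ p).base ⁻¹' {s})) : IsFinite (z ≫ p) := by
  classical
  -- refine the covering to connected affine schemes
  have hP' : ∀ s : S, ∃ (O : Scheme.{u}) (g : O ⟶ S), IsAffine O ∧ PreconnectedSpace O ∧ Etale g ∧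
      s ∈ Set.range g.base ∧ HasSheets (pullback.snd p g) := by
    intro s
    obtain ⟨S', f, hf, ⟨s', hs'⟩, hsh⟩ := hP s
    haveI := hf
    haveI : IsLocallyNoetherian S' := LocallyOfFiniteType.isLocallyNoetherian f
    obtain ⟨O, hO, hsO, hconn⟩ := exists_affine_preconnected_nhd s'
    refine ⟨O, O.ι ≫ f, hO, Subtype.preconnectedSpace hconn, inferInstance, ?_,
      hasSheets_comp p f O.ι hsh⟩
    refine ⟨⟨s', hsO⟩, ?_⟩
    rw [Scheme.Hom.comp_base, TopCat.comp_app]
    exact hs'
  choose O g hOaff hOconn hget hsg hsh using hP'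
  set q := z ≫ p with hq
  -- the local picture over a member of the covering
  have hloc : ∀ (s : S), ∃ (z' : pullback q (g s) ⟶ pullback p (g s)),
      IsClosedImmersion z' ∧ IsOpenImmersion z' ∧
        z' ≫ pullback.snd p (g s) = pullback.snd q (g s) := by
    intro s
    let z' : pullback q (g s) ⟶ pullback p (g s) :=
      pullback.lift (pullback.fst q (g s) ≫ z) (pullback.snd q (g s)) (by
        rw [Category.assoc, ← hq, pullback.condition])
    have hz' : z' ≫ pullback.snd p (g s) = pullback.snd q (g s) := pullback.lift_snd _ _ _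
    have hsq : IsPullback z' (pullback.fst q (g s)) (pullback.fst p (g s)) z := by
      refine IsPullback.of_right (h₁₂ := pullback.snd p (g s)) (h₂₂ := p) (v₁₃ := g s) ?_ ?_ ?_
      · rw [hz']
        exact (IsPullback.of_hasPullback q (g s)).flip
      · exact pullback.lift_fst _ _ _
      · exact (IsPullback.of_hasPullback p (g s)).flip
    refine ⟨z', ?_, ?_, hz'⟩
    · exact MorphismProperty.of_isPullback (P := @IsClosedImmersion) hsq.flip inferInstance
    · exact MorphismProperty.of_isPullback (P := @IsOpenImmersion) hsq.flip inferInstance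
  choose z' hz'cl hz'op hz' using hloc
  -- finiteness of fibres over the covering, in terms of the clopen image
  have hfib : ∀ (s : S) (o : O s),
      ((pullback.snd q (g s)) ⁻¹' {o}).Finite ↔
        ((pullback.snd p (g s)) ⁻¹' {o} ∩ Set.range (z' s)).Finite := by
    intro s o
    haveI := hz'cl s
    have hinj : Function.Injective (z' s) := (z' s).isEmbedding.injective
    have heq : (pullback.snd p (g s)) ⁻¹' {o} ∩ Set.range (z' s) =
        (z' s) '' ((pullback.snd q (g s)) ⁻¹' {o}) := by
      ext y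
      constructor
      · rintro ⟨hy, w, rfl⟩
        refine ⟨w, ?_, rfl⟩
        change pullback.snd q (g s) w = o
        rw [← hz' s, Scheme.Hom.comp_apply]
        exact hy
      · rintro ⟨w, hw, rfl⟩
        refine ⟨?_, w, rfl⟩
        change pullback.snd p (g s) (z' s w) = o
        rw [← Scheme.Hom.comp_apply, hz' s]
        exact hw
    rw [heq]
    exact (Set.finite_image_iff hinj.injOn).symm
  have hclopen : ∀ s, IsClopen (Set.range (z' s)) := fun s =>
    ⟨(z' s).isClosedEmbedding.isClosed_range, (z' s).isOpenEmbedding.isOpen_range⟩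
  -- quasi-compactness and quasi-finiteness of the covering maps
  have hqc : ∀ s, QuasiCompact (g s) := fun s => by
    haveI := hOaff s
    infer_instance
  have hlqf : ∀ s, LocallyQuasiFinite (g s) := fun s => by
    haveI := hget s
    exact Groth.Agent.Helper4.SchLQF.locallyQuasiFinite_of_etale (g s)
  -- the set of points with finite fibre
  have hA : ∀ (s : S) (o₁ o₂ : O s), (q ⁻¹' {g s o₁}).Finite → (q ⁻¹' {g s o₂}).Finite := by
    intro s o₁ o₂ h
    haveI := hqc s
    haveI := hlqf s
    haveI := hOconn s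
    have h1 := finite_fibre_bc q (g s) o₁ h
    rw [hfib] at h1
    have h2 := finite_fibre_of_finite_fibre (hsh s) (hclopen s) o₁ o₂ h1
    rw [← hfib] at h2
    exact finite_fibre_of_bc q (g s) o₂ h2
  have hopenrange : ∀ s, IsOpen (Set.range (g s)) := fun s => by
    haveI := hget s
    exact (g s).isOpenMap.isOpen_range
  set A : Set S := {s | (q ⁻¹' {s}).Finite} with hAdef
  have hAopen : IsOpen A := by
    rw [isOpen_iff_mem_nhds]
    intro s hsA
    obtain ⟨o₁, ho₁⟩ := hsg s
    refine Filter.mem_of_superset ((hopenrange s).mem_nhds ⟨o₁, ho₁⟩) ?_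
    rintro _ ⟨o₂, rfl⟩
    apply hA s o₁ o₂
    have : g s o₁ = s := ho₁
    rw [this]
    exact hsA
  have hAclosed : IsClosed A := by
    rw [← isOpen_compl_iff, isOpen_iff_mem_nhds]
    intro s hsA
    obtain ⟨o₁, ho₁⟩ := hsg s
    refine Filter.mem_of_superset ((hopenrange s).mem_nhds ⟨o₁, ho₁⟩) ?_
    rintro _ ⟨o₂, rfl⟩ ho₂
    apply hsA
    have := hA s o₂ o₁ ho₂
    have h' : g s o₁ = s := ho₁
    rw [h'] at this
    exact this
  have hAuniv : A = Set.univ := by
    obtain ⟨s₀, hs₀⟩ := hs
    exact IsClopen.eq_univ ⟨hAclosed, hAopen⟩ ⟨s₀, hs₀⟩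
  -- finiteness over the members of the covering
  have hfinloc : ∀ s, IsFinite (pullback.snd q (g s)) := by
    intro s
    haveI := hOaff s
    haveI := hOconn s
    haveI := hz'cl s
    obtain ⟨o₁, ho₁⟩ := hsg s
    have h0 : (q ⁻¹' {g s o₁}).Finite := by
      have : g s o₁ ∈ A := by rw [hAuniv]; trivial
      exact this
    haveI := hqc s
    haveI := hlqf s
    have h1 := finite_fibre_bc q (g s) o₁ h0
    rw [hfib] at h1
    have hcomp : IsCompact (Set.range (z' s)) :=
      isCompact_of_finite_fibre (hsh s) (hclopen s) o₁ h1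
    haveI : CompactSpace (pullback q (g s) : Scheme.{u}) := by
      rw [← isCompact_univ_iff, (z' s).isEmbedding.isCompact_iff, Set.image_univ]
      exact hcomp
    haveI : QuasiCompact (z' s ≫ pullback.snd p (g s)) := by
      rw [quasiCompact_iff_compactSpace]
      infer_instance
    have key := isFinite_of_hasSheets_of_isAffine (hsh s) (z' s)
    rw [hz' s] at key
    exact key
  -- descent
  haveI := hget
  let F : (∐ O) ⟶ S := Sigma.desc g
  haveI hFet : Etale F := IsZariskiLocalAtSource.sigmaDesc (P := @Etale) hget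
  haveI hFsurj : Surjective F := by
    refine ⟨fun s => ?_⟩
    obtain ⟨a, ha⟩ := hsg s
    refine ⟨Sigma.ι O s a, ?_⟩
    rw [← Scheme.Hom.comp_apply]
    change (Sigma.ι O s ≫ Sigma.desc g) a = s
    rw [Sigma.ι_desc]
    exact ha
  have hQ : (@Surjective ⊓ @Flat ⊓ @LocallyOfFinitePresentation : MorphismProperty Scheme.{u}) F :=
    ⟨⟨hFsurj, inferInstance⟩, inferInstance⟩
  have hcomp : ∀ s, Sigma.ι O s ≫ F = g s := fun s => Sigma.ι_desc _ _
  haveI : MorphismProperty.DescendsAlong (@IsFinite : MorphismProperty Scheme.{u})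
      (@Surjective ⊓ @Flat ⊓ @QuasiCompact) :=
    Groth.Agent.Lead.SchDescent2.descendsAlong_isFinite_fpqc
  refine prop_of_cover q @IsFinite _ F hQ (sigmaOpenCover O) (fun s => ?_)
  change IsFinite (pullback.snd q (Sigma.ι O s ≫ F))
  rw [hcomp]
  exact hfinloc s

/-- S5267 -/
theorem main {S : Scheme.{u}} [IsLocallyNoetherian S] [ConnectedSpace S]
    (P : Over S) (hP : TwC.IsTwConst TwC.Topology.etale P)
    {Z : Scheme.{u}} (z : Z ⟶ P.left) [IsOpenImmersion z] [IsClosedImmersion z]
    (hs : ∃ s : S, Set.Finite ((z ≫ P.hom).base ⁻¹' {s})) :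
    IsFinite (z ≫ P.hom) := by
  apply core P.hom _ z hs
  intro s
  obtain ⟨S', f, hfet, hs, I, ⟨e⟩⟩ := hP s
  refine ⟨S', f, hfet, hs, ?_⟩
  refine HasSheets.of_iso ((Over.forget _).mapIso e) ?_ (hasSheets_const _ I)
  exact Over.w e.hom

end Groth.Agent.Helper8.TwFibFin
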