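import Mathlib
import Groth.Agent.Helper8.MatInner

set_option autoImplicit false
open TensorProduct
universe u

namespace Groth.Agent.Helper8.TwTors

open Groth.Agent.Helper8.MatInner

theorem invertible_piTensor (A : Type u) [CommRing A] (L : Type u) [AddCommGroup L] [Module A L]
    [Module.Invertible A L] : ∀ m : ℕ, Module.Invertible A (⨂[A] _ : Fin m, L)
  | 0 => .congr (PiTensorProduct.isEmptyEquiv (R := A) (s := fun _ : Fin 0 => L) (Fin 0)).symm
  | m + 1 => by
    haveI := invertible_piTensor A L m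
    have e1 : (⨂[A] _ : Fin m, L) ⊗[A] (⨂[A] _ : Fin 1, L) ≃ₗ[A] ⨂[A] _ : Fin m ⊕ Fin 1, L :=
      PiTensorProduct.tmulEquiv A L
    have e2 : (⨂[A] _ : Fin m ⊕ Fin 1, L) ≃ₗ[A] ⨂[A] _ : Fin (m + 1), L :=
      PiTensorProduct.reindex A (fun _ => L) finSumFinEquiv
    have e3 : (⨂[A] _ : Fin 1, L) ≃ₗ[A] L := PiTensorProduct.subsingletonEquiv (0 : Fin 1)
    haveI : Module.Invertible A (⨂[A] _ : Fin 1, L) := .congr e3.symm
    exact .congr (e1.trans e2)

variable {A : Type u} [CommRing A] {n : ℕ}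

/-- the multilinear form `(T₁,…,Tₙ) ↦ det (rows of Tᵢ)` -/
noncomputable def μ (K : Submodule A (Matrix (Fin n) (Fin n) A)) :
    MultilinearMap A (fun _ : Fin n => K) A :=
  (Matrix.detRowAlternating (n := Fin n) (R := A)).toMultilinearMap.compLinearMap
    (fun i => (LinearMap.proj i : (Fin n → Fin n → A) →ₗ[A] (Fin n → A)) ∘ₗ
      (Matrix.ofLinearEquiv A).symm.toLinearMap ∘ₗ K.subtype)

theorem μ_const (K : Submodule A (Matrix (Fin n) (Fin n) A)) (T : K) :
    μ K (fun _ => T) = (T : Matrix (Fin n) (Fin n) A).det := by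
  simp only [μ, MultilinearMap.compLinearMap_apply]
  rfl

theorem main (A : Type u) [CommRing A] (n : ℕ) (hn : 0 < n)
    (α : Matrix (Fin n) (Fin n) A ≃ₐ[A] Matrix (Fin n) (Fin n) A) :
    Module.Invertible A
        (LinearMap.ker (LinearMap.mul A (Matrix (Fin n) (Fin n) A) -
          (LinearMap.lcomp A (Matrix (Fin n) (Fin n) A) α.toLinearMap).comp (LinearMap.mul A (Matrix (Fin n) (Fin n) A)).flip)) ∧
      Nonempty ((⨂[A] _ : Fin n,
          LinearMap.ker (LinearMap.mul A (Matrix (Fin n) (Fin n) A) -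
            (LinearMap.lcomp A (Matrix (Fin n) (Fin n) A) α.toLinearMap).comp (LinearMap.mul A (Matrix (Fin n) (Fin n) A)).flip)) ≃ₗ[A] A) := by
  have hn1 : 1 ≤ n := hn
  have hK : LinearMap.ker (LinearMap.mul A (Matrix (Fin n) (Fin n) A) -
          (LinearMap.lcomp A (Matrix (Fin n) (Fin n) A) α.toLinearMap).comp
            (LinearMap.mul A (Matrix (Fin n) (Fin n) A)).flip) = tw α := by
    ext T
    rw [LinearMap.mem_ker, mem_tw]
    constructor
    · intro h N
      have := LinearMap.congr_fun h N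
      simp only [LinearMap.sub_apply, LinearMap.comp_apply, LinearMap.lcomp_apply,
        LinearMap.flip_apply, LinearMap.mul_apply', AlgEquiv.toLinearMap_apply,
        LinearMap.zero_apply] at this
      exact sub_eq_zero.mp this
    · intro h
      ext1 N
      simp only [LinearMap.sub_apply, LinearMap.comp_apply, LinearMap.lcomp_apply,
        LinearMap.flip_apply, LinearMap.mul_apply', AlgEquiv.toLinearMap_apply,
        LinearMap.zero_apply]
      exact sub_eq_zero.mpr (h N)
  rw [hK]
  haveI := faithful (R := A) hn1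
  haveI hinv : Module.Invertible A (tw α) :=
    (inferInstance : Module.Invertible A ((twUnit hn1 α : (Submodule A (Matrix (Fin n) (Fin n) A))ˣ) : Submodule A (Matrix (Fin n) (Fin n) A)))
  refine ⟨hinv, ?_⟩
  haveI := invertible_piTensor A (tw α) n
  let f : (⨂[A] _ : Fin n, tw α) →ₗ[A] A := PiTensorProduct.lift (μ (tw α))
  suffices hsurj : Function.Surjective f from
    ⟨LinearEquiv.ofBijective f (Module.Invertible.bijective_of_surjective hsurj)⟩
  rw [← LinearMap.range_eq_top]
  let I : Ideal A := LinearMap.range f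
  change I = ⊤
  have hdet : ∀ T ∈ tw α, (T : Matrix (Fin n) (Fin n) A).det ∈ I := by
    intro T hT
    refine ⟨PiTensorProduct.tprod A (fun _ => ⟨T, hT⟩), ?_⟩
    rw [PiTensorProduct.lift.tprod, μ_const]
  have key : ∀ x ∈ tw α * tw α.symm, ∃ c : A, algebraMap A _ c = x ∧ c ∈ I.radical := by
    intro x hx
    induction hx using Submodule.mul_induction_on' with
    | mem_mul_mem T hT S hS =>
      have h1 : T * S ∈ (1 : Submodule A (Matrix (Fin n) (Fin n) A)) :=
        tw_mul_le α (Submodule.mul_mem_mul hT hS)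
      obtain ⟨c, hc⟩ := Submodule.mem_one.mp h1
      refine ⟨c, hc, n, ?_⟩
      have h2 : (T * S).det = c ^ n := by
        rw [← hc, Algebra.algebraMap_eq_smul_one, Matrix.det_smul, Matrix.det_one, mul_one,
          Fintype.card_fin]
      rw [← h2, Matrix.det_mul]
      exact I.mul_mem_right _ (hdet T hT)
    | add x _ y _ hx hy =>
      obtain ⟨c, hc, hcI⟩ := hx
      obtain ⟨d, hd, hdI⟩ := hy
      exact ⟨c + d, by rw [map_add, hc, hd], I.radical.add_mem hcI hdI⟩
  obtain ⟨c, hc, hcI⟩ := key 1 (one_mem_tw_mul hn1 α)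
  have hc1 : c = 1 := by
    apply FaithfulSMul.algebraMap_injective A (Matrix (Fin n) (Fin n) A)
    rw [hc, map_one]
  rw [hc1] at hcI
  rw [← Ideal.radical_eq_top, Ideal.eq_top_iff_one]
  exact hcI

end Groth.Agent.Helper8.TwTors
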