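import Mathlib
import Groth.Prelude
import Groth.Agent.Helper8.TwSheets
import Groth.Agent.Helper8.TwSheets2
import Groth.Agent.Helper8.TwFin

/-!
# Quasi-isotrivial twisted constant schemes are separated, étale and satisfy the valuative
criterion (S19144)
-/

set_option autoImplicit false
set_option linter.unusedSectionVars false
set_option linter.style.haveILetI false
set_option linter.unusedVariables false

universe u

open CategoryTheory CategoryTheory.Limits AlgebraicGeometry TopologicalSpace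

noncomputable section

namespace Groth.Agent.Helper8.TwVal

open Groth.Agent.Helper8.TwSheets Groth.Agent.Helper8.TwFin

/-- specialisations lift along a morphism which acquires sheets after a flat base change -/
lemma exists_specializes_of_hasSheets {Y T T' : Scheme.{u}} (p : Y ⟶ T) (g : T' ⟶ T) [Flat g]
    (hs : HasSheets (pullback.snd p g)) (y : Y) (t₁' : T') (h : p y ⤳ g t₁') :
    ∃ y₁ : Y, y ⤳ y₁ ∧ p y₁ = g t₁' := by
  obtain ⟨I, V, hVc, hVd, hVi⟩ := hs
  obtain ⟨t', ht', hgt'⟩ := (Flat.generalizingMap g) h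
  obtain ⟨y', hy'1, hy'2⟩ :=
    Scheme.Pullback.exists_preimage_pullback (f := p) (g := g) y t' hgt'.symm
  obtain ⟨i, hi⟩ := hVc y'
  haveI := hVi i
  let φ : ((V i : (pullback p g).Opens) : Scheme.{u}) ⟶ T' := (V i).ι ≫ pullback.snd p g
  let ρ : T' ⟶ ((V i : (pullback p g).Opens) : Scheme.{u}) := inv φ
  have hφρ : ∀ a, φ (ρ a) = a := by
    intro a
    rw [← Scheme.Hom.comp_apply, IsIso.inv_hom_id]
    rfl
  have hρφ : ∀ b, ρ (φ b) = b := by
    intro b
    rw [← Scheme.Hom.comp_apply, IsIso.hom_inv_id]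
    rfl
  have e2 : φ ⟨y', hi⟩ = t' := hy'2
  have hspec : y' ⤳ (V i).ι (ρ t₁') := by
    have h1 : ρ t' ⤳ ρ t₁' := ht'.map ρ.continuous
    have h2 := h1.map (V i).ι.continuous
    rw [← e2, hρφ] at h2
    exact h2
  refine ⟨pullback.fst p g ((V i).ι (ρ t₁')), ?_, ?_⟩
  · have := hspec.map (pullback.fst p g).continuous
    rwa [hy'1] at this
  · rw [← Scheme.Hom.comp_apply, pullback.condition, Scheme.Hom.comp_apply]
    congr 1
    exact hφρ t₁'

/-- the main statement, from the sheets description of the local trivialisations -/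
theorem core {S X : Scheme.{u}} (q : X ⟶ S)
    (hX : ∀ s : S, ∃ (S' : Scheme.{u}) (f : S' ⟶ S), Etale f ∧ s ∈ Set.range f.base ∧
      HasSheets (pullback.snd q f)) :
    IsSeparated q ∧ Etale q ∧ ValuativeCriterion q := by
  choose S' f hfet hsf hsh using hX
  haveI := hfet
  let F : (∐ S') ⟶ S := Sigma.desc f
  haveI hFet : Etale F := IsZariskiLocalAtSource.sigmaDesc (P := @Etale) hfet
  haveI hFsurj : Surjective F := by
    refine ⟨fun s => ?_⟩
    obtain ⟨a, ha⟩ := hsf s
    refine ⟨Sigma.ι S' s a, ?_⟩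
    rw [← Scheme.Hom.comp_apply]
    change (Sigma.ι S' s ≫ Sigma.desc f) a = s
    rw [Sigma.ι_desc]
    exact ha
  have hQ : (@Surjective ⊓ @Flat ⊓ @LocallyOfFinitePresentation : MorphismProperty Scheme.{u}) F :=
    ⟨⟨hFsurj, inferInstance⟩, inferInstance⟩
  have hcomp : ∀ s, Sigma.ι S' s ≫ F = f s := fun s => Sigma.ι_desc _ _
  haveI := descendsAlong_isSeparated.{u}
  have hsep : IsSeparated q := by
    refine prop_of_cover q @IsSeparated _ F hQ (sigmaOpenCover S') (fun s => ?_)
    change IsSeparated (pullback.snd q (Sigma.ι S' s ≫ F))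
    rw [hcomp]
    exact (hsh s).isSeparated
  have het : Etale q := by
    refine prop_of_cover q @Etale _ F hQ (sigmaOpenCover S') (fun s => ?_)
    change Etale (pullback.snd q (Sigma.ι S' s ≫ F))
    rw [hcomp]
    exact (hsh s).etale
  refine ⟨hsep, het, ValuativeCriterion.iff.mpr ⟨?_, IsSeparated.valuativeCriterion q⟩⟩
  apply ValuativeCriterion.Existence.of_specializingMap
  intro X' Y' i₁ i₂ f' hpb
  change SpecializingMap f'
  intro y t₁ hspec
  change f' y ⤳ t₁ at hspec
  change ∃ a', y ⤳ a' ∧ f' a' = t₁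
  obtain ⟨s₁', hs₁'⟩ := hsf (i₂ t₁)
  let g : pullback i₂ (f (i₂ t₁)) ⟶ Y' := pullback.fst i₂ (f (i₂ t₁))
  obtain ⟨t₁', ht₁', -⟩ := Scheme.Pullback.exists_preimage_pullback (f := i₂) (g := f (i₂ t₁))
    t₁ s₁' hs₁'.symm
  -- sheets on the base change of `f'` along `g`
  let b : pullback i₂ (f (i₂ t₁)) ⟶ S' (i₂ t₁) := pullback.snd i₂ (f (i₂ t₁))
  let m : pullback f' g ⟶ pullback q (f (i₂ t₁)) :=
    pullback.lift (pullback.fst f' g ≫ i₁) (pullback.snd f' g ≫ b) (by
      rw [Category.assoc, ← hpb.w, ← Category.assoc, pullback.condition, Category.assoc,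
        Category.assoc]
      congr 1
      exact pullback.condition)
  have hm : IsPullback m (pullback.snd f' g) (pullback.snd q (f (i₂ t₁))) b := by
    refine IsPullback.of_right (h₁₂ := pullback.fst q (f (i₂ t₁))) (h₂₂ := f (i₂ t₁))
      (v₁₃ := q) ?_ ?_ ?_
    · have h1 : m ≫ pullback.fst q (f (i₂ t₁)) = pullback.fst f' g ≫ i₁ := pullback.lift_fst _ _ _
      have h2 : b ≫ f (i₂ t₁) = g ≫ i₂ := pullback.condition.symm
      rw [h1, h2]
      exact (IsPullback.of_hasPullback f' g).paste_horiz hpb.flip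
    · exact pullback.lift_snd _ _ _
    · exact IsPullback.of_hasPullback q (f (i₂ t₁))
  have hs' : HasSheets (pullback.snd f' g) := HasSheets.of_isPullback hm (hsh (i₂ t₁))
  have h' : f' y ⤳ g t₁' := by rw [ht₁']; exact hspec
  obtain ⟨y₁, hy₁, hfy₁⟩ := exists_specializes_of_hasSheets f' g hs' y t₁' h'
  exact ⟨y₁, hy₁, hfy₁.trans ht₁'⟩

/-- S19144 -/
theorem main {S : Scheme.{u}} (X : Over S) (hX : TwC.IsTwConst TwC.Topology.etale X) :
    IsSeparated X.hom ∧ Etale X.hom ∧ ValuativeCriterion X.hom := by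
  apply core
  intro s
  obtain ⟨S', f, hfet, hs, I, ⟨e⟩⟩ := hX s
  refine ⟨S', f, hfet, hs, ?_⟩
  refine HasSheets.of_iso ((Over.forget _).mapIso e) ?_ (hasSheets_const _ I)
  exact Over.w e.hom

end Groth.Agent.Helper8.TwVal
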