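import Mathlib

namespace Groth.Agent.Helper8.TwoSub

open Polynomial

universe u

variable (k : Type u) [Field k] (A : Type u) [CommRing A] [Algebra k A]

/-- an element with `a * b = λ b` makes polynomials in `a` act on `b` through evaluation at `λ` -/
theorem aeval_mul_eq (a b : A) (l : k) (hab : a * b = l • b) (P : k[X]) :
    aeval a P * b = (P.eval l) • b := by
  obtain ⟨q, hq⟩ := Polynomial.X_sub_C_dvd_sub_C_eval (a := l) (p := P)
  have h1 : aeval a (P - C (P.eval l)) * b = 0 := by
    rw [hq, map_mul, mul_assoc, map_sub, aeval_X, aeval_C, mul_comm (aeval a q), ← mul_assoc,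
      sub_mul, hab, Algebra.algebraMap_eq_smul_one, smul_mul_assoc, one_mul, sub_self, zero_mul]
  rw [map_sub, aeval_C, sub_mul, sub_eq_zero] at h1
  rw [h1, Algebra.algebraMap_eq_smul_one, smul_mul_assoc, one_mul]

variable {k A}

/-- the structure: `A` is spanned by `1, b` with `b * b = c • b`, `b ∉ k` -/
theorem exists_gen [IsAlgClosed k] (hbt : (⊥ : Subalgebra k A) ≠ ⊤)
    (h2 : ∀ S : Subalgebra k A, S = ⊥ ∨ S = ⊤) :
    ∃ (b : A) (c : k), b * b = c • b ∧ b ∉ (⊥ : Subalgebra k A) ∧
      ∀ x : A, ∃ s t : k, x = s • (1 : A) + t • b := by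
  have : Nontrivial A := by
    by_contra hnt
    rw [not_nontrivial_iff_subsingleton] at hnt
    exact hbt (Subsingleton.elim _ _)
  -- pick `a ∉ k`
  obtain ⟨a, ha⟩ : ∃ a : A, a ∉ (⊥ : Subalgebra k A) := by
    by_contra hc
    push Not at hc
    exact hbt (eq_top_iff.mpr fun x _ => hc x)
  -- `a` is algebraic
  have halg : IsAlgebraic k a := by
    rcases h2 (Algebra.adjoin k {a ^ 2}) with h | h
    · have : a ^ 2 ∈ (⊥ : Subalgebra k A) := h ▸ Algebra.subset_adjoin (Set.mem_singleton _)
      obtain ⟨c, hc⟩ := Algebra.mem_bot.mp this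
      refine ⟨X ^ 2 - C c, ?_, by simp [hc]⟩
      intro h0
      have := congrArg (fun p => p.coeff 2) h0
      simp [coeff_X_pow, coeff_C] at this
    · have : a ∈ Algebra.adjoin k {a ^ 2} := h ▸ Algebra.mem_top
      rw [Algebra.adjoin_singleton_eq_range_aeval] at this
      obtain ⟨P, hP⟩ := this
      refine ⟨X - expand k 2 P, ?_, ?_⟩
      · intro h0
        have := congrArg (fun p => p.coeff 1) h0
        simp [coeff_expand] at this
      · rw [map_sub, aeval_X, expand_aeval]
        simp only [AlgHom.toRingHom_eq_coe, RingHom.coe_coe] at hP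
        rw [hP, sub_self]
  have hint : IsIntegral k a := halg.isIntegral
  -- root of the minimal polynomial
  obtain ⟨l, hl⟩ := IsAlgClosed.exists_root (minpoly k a) (minpoly.degree_pos hint).ne'
  obtain ⟨g, hg⟩ := (dvd_iff_isRoot.mpr hl)
  have hg0 : g ≠ 0 := by
    intro h0
    rw [h0, mul_zero] at hg
    exact minpoly.ne_zero hint hg
  set b : A := aeval a g with hb
  have hab : a * b = l • b := by
    have : aeval a (minpoly k a) = 0 := minpoly.aeval k a
    rw [hg, map_mul, map_sub, aeval_X, aeval_C, sub_mul, sub_eq_zero] at this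
    rw [this, Algebra.algebraMap_eq_smul_one, smul_mul_assoc, one_mul]
  have hb0 : b ≠ 0 := by
    intro h0
    have h1 := natDegree_le_natDegree (minpoly.degree_le_of_ne_zero k a hg0 h0)
    rw [hg, natDegree_mul (X_sub_C_ne_zero l) hg0, natDegree_X_sub_C] at h1
    omega
  have hbb : b * b = (g.eval l) • b := aeval_mul_eq k A a b l hab g
  have hbk : b ∉ (⊥ : Subalgebra k A) := by
    intro hmem
    obtain ⟨μ, hμ⟩ := Algebra.mem_bot.mp hmem
    have hμ0 : μ ≠ 0 := by
      intro h0; rw [h0, map_zero] at hμ; exact hb0 hμ.symm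
    apply ha
    rw [Algebra.mem_bot]
    refine ⟨l, ?_⟩
    have h1 : μ • a = μ • algebraMap k A l := by
      have : a * b = l • b := hab
      rw [← hμ, Algebra.algebraMap_eq_smul_one, mul_smul_comm, mul_one, smul_smul, mul_comm l μ,
        ← smul_smul] at this
      rw [this, Algebra.algebraMap_eq_smul_one]
    have := congrArg (fun z => μ⁻¹ • z) h1
    simp only [smul_smul, inv_mul_cancel₀ hμ0, one_smul] at this
    exact this.symm
  refine ⟨b, g.eval l, hbb, hbk, ?_⟩
  -- spanning
  have htop : Algebra.adjoin k {b} = ⊤ := by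
    rcases h2 (Algebra.adjoin k {b}) with h | h
    · exact absurd (h ▸ Algebra.subset_adjoin (Set.mem_singleton _)) hbk
    · exact h
  have hpow : ∀ n : ℕ, ∃ s t : k, b ^ n = s • (1 : A) + t • b := by
    intro n
    induction n with
    | zero => exact ⟨1, 0, by simp⟩
    | succ n ih =>
      obtain ⟨s, t, hst⟩ := ih
      refine ⟨0, s + t * g.eval l, ?_⟩
      rw [pow_succ, hst, add_mul, smul_mul_assoc, one_mul, smul_mul_assoc, hbb, smul_smul, zero_smul,
        zero_add, add_smul]
  intro x
  have hx : x ∈ Algebra.adjoin k {b} := htop ▸ Algebra.mem_top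
  rw [Algebra.adjoin_singleton_eq_range_aeval] at hx
  obtain ⟨P, hP⟩ := hx
  simp only [AlgHom.toRingHom_eq_coe, RingHom.coe_coe] at hP
  subst hP
  induction P using Polynomial.induction_on' with
  | add p q hp hq =>
    obtain ⟨s, t, h1⟩ := hp
    obtain ⟨s', t', h2⟩ := hq
    exact ⟨s + s', t + t', by rw [map_add, h1, h2, add_smul, add_smul]; abel⟩
  | monomial n r =>
    obtain ⟨s, t, h1⟩ := hpow n
    refine ⟨r * s, r * t, ?_⟩
    rw [aeval_monomial, h1, Algebra.algebraMap_eq_smul_one, smul_mul_assoc, one_mul, smul_add,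
      smul_smul, smul_smul]

theorem main (k : Type u) [Field k] [IsAlgClosed k] (A : Type u) [CommRing A] [Algebra k A]
    (h : Nat.card (Subalgebra k A) = 2) :
    Nonempty (A ≃ₐ[k] (k × k)) ∨ Nonempty (A ≃ₐ[k] DualNumber k) := by
  obtain ⟨y, hy, hyu⟩ := (Nat.card_eq_two_iff' (⊥ : Subalgebra k A)).mp h
  have hbt : (⊥ : Subalgebra k A) ≠ ⊤ := by
    intro hbt
    apply hy
    exact le_antisymm (hbt ▸ le_top) bot_le
  have h2 : ∀ S : Subalgebra k A, S = ⊥ ∨ S = ⊤ := by
    intro S
    by_cases hS : S = ⊥
    · exact Or.inl hS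
    · right
      rw [hyu S hS, hyu ⊤ (Ne.symm hbt)]
  obtain ⟨b, c, hbb, hbk, hspan⟩ := exists_gen hbt h2
  have : Nontrivial A := by
    by_contra hnt
    rw [not_nontrivial_iff_subsingleton] at hnt
    exact hbt (Subsingleton.elim _ _)
  have hinj : Function.Injective (algebraMap k A) := (algebraMap k A).injective
  -- uniqueness of coordinates
  have huniq : ∀ s t : k, s • (1 : A) + t • b = 0 → s = 0 ∧ t = 0 := by
    intro s t hst
    have ht : t = 0 := by
      by_contra ht
      apply hbk
      rw [Algebra.mem_bot]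
      refine ⟨-(t⁻¹ * s), ?_⟩
      have h1 : t • b = -(s • (1 : A)) := by
        rw [← add_eq_zero_iff_eq_neg']; exact hst
      have := congrArg (fun z => t⁻¹ • z) h1
      simp only [smul_smul, inv_mul_cancel₀ ht, one_smul, smul_neg] at this
      rw [this, Algebra.algebraMap_eq_smul_one, neg_smul]
    refine ⟨?_, ht⟩
    rw [ht, zero_smul, add_zero, ← Algebra.algebraMap_eq_smul_one] at hst
    exact hinj (by rw [hst, map_zero])
  by_cases hc : c = 0
  · -- dual numbers
    right
    rw [hc, zero_smul] at hbb
    let φ : DualNumber k →ₐ[k] A :=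
      DualNumber.lift ⟨(Algebra.ofId k A, b), hbb, fun _ => Commute.all _ _⟩
    have hφ : ∀ z : DualNumber k, φ z = z.fst • (1 : A) + z.snd • b := by
      intro z
      rw [DualNumber.lift_apply_apply]
      simp only [Algebra.ofId_apply, Algebra.algebraMap_eq_smul_one, smul_mul_assoc, one_mul]
    have hbij : Function.Bijective φ := by
      constructor
      · rw [injective_iff_map_eq_zero]
        intro z hz
        rw [hφ] at hz
        obtain ⟨h1, h2⟩ := huniq _ _ hz
        exact TrivSqZeroExt.ext h1 h2
      · intro x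
        obtain ⟨s, t, hx⟩ := hspan x
        refine ⟨TrivSqZeroExt.inl s + TrivSqZeroExt.inr t, ?_⟩
        rw [hφ, hx]
        simp
    exact ⟨(AlgEquiv.ofBijective φ hbij).symm⟩
  · -- product
    left
    set e : A := c⁻¹ • b with he
    have hee : e * e = e := by
      rw [he, smul_mul_smul_comm, hbb, smul_smul]
      congr 1
      field_simp
    have he1 : e * (1 - e) = 0 := by rw [mul_sub, mul_one, hee, sub_self]
    have h11 : (1 - e) * (1 - e) = 1 - e := by
      rw [sub_mul, one_mul, he1, sub_zero]
    let ψ : (k × k) →ₐ[k] A :=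
      { toFun := fun z => z.1 • (1 - e) + z.2 • e
        map_one' := by simp
        map_mul' := by
          intro z w
          simp only [Prod.fst_mul, Prod.snd_mul]
          have e2 : (1 - e) * e = 0 := by rw [mul_comm]; exact he1
          calc (z.1 * w.1) • (1 - e) + (z.2 * w.2) • e
              = (z.1 * w.1) • ((1 - e) * (1 - e)) + (z.1 * w.2) • ((1 - e) * e) +
                (z.2 * w.1) • (e * (1 - e)) + (z.2 * w.2) • (e * e) := by
                rw [h11, e2, he1, hee, smul_zero, smul_zero, add_zero, add_zero]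
            _ = (z.1 • (1 - e) + z.2 • e) * (w.1 • (1 - e) + w.2 • e) := by
                simp only [add_mul, mul_add, smul_mul_smul_comm]
                abel
        map_zero' := by simp
        map_add' := by
          intro z w
          simp only [Prod.fst_add, Prod.snd_add, add_smul]
          abel
        commutes' := by
          intro r
          simp only [Prod.algebraMap_apply, Algebra.algebraMap_self, RingHom.id_apply]
          rw [← smul_add, sub_add_cancel, Algebra.algebraMap_eq_smul_one] }
    have hψ : ∀ z : k × k, ψ z = z.1 • (1 : A) + ((z.2 - z.1) * c⁻¹) • b := by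
      intro z
      show z.1 • (1 - e) + z.2 • e = _
      rw [he, smul_sub, smul_smul, smul_smul, sub_mul, sub_smul]
      abel
    have hbij : Function.Bijective ψ := by
      constructor
      · rw [injective_iff_map_eq_zero]
        intro z hz
        rw [hψ] at hz
        obtain ⟨h1, h2⟩ := huniq _ _ hz
        have h3 : z.2 - z.1 = 0 := by
          rcases mul_eq_zero.mp h2 with h | h
          · exact h
          · exact absurd (inv_eq_zero.mp h) hc
        exact Prod.ext h1 (by rw [sub_eq_zero] at h3; rw [h3, h1]; rfl)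
      · intro x
        obtain ⟨s, t, hx⟩ := hspan x
        refine ⟨(s, s + t * c), ?_⟩
        rw [hψ, hx]
        simp only [add_sub_cancel_left, mul_assoc, mul_inv_cancel₀ hc, mul_one]
    exact ⟨(AlgEquiv.ofBijective ψ hbij).symm⟩

end Groth.Agent.Helper8.TwoSub
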