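import Mathlib
import Groth.Prelude.Def_W4c5m1nsnscurvesU

set_option autoImplicit false
universe u

namespace Groth.Agent.Helper8.U5

open MvPolynomial W4c5m1nsnscurves

/-- `c_{54}` in the six coordinates -/
noncomputable def c10 : MvPolynomial (Fin 6) ℤ := X 0 + X 1 + X 2 + X 3 + X 4 - X 5

/-- images of the generators -/
noncomputable def psi0 : UGen 2 → MvPolynomial (Fin 6) ℤ
  | .a => X 0
  | .c => c10 * X 3 + X 5 * X 1 - X 1 * X 3
  | .cb => c10 * X 2 + X 5 * X 4 - X 2 * X 4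
  | .ci i => if i = 0 then X 1 else X 3
  | .cbi i => if i = 0 then X 2 else X 4
  | .cij i _ _ => if i = 0 then X 5 else c10

theorem psi_rel : ∀ p ∈ Ideal.span (URel ℤ 2), (aeval psi0 : _ →ₐ[ℤ] _).toRingHom p = 0 := by
  intro p hp
  have : Ideal.span (URel ℤ 2) ≤ RingHom.ker (aeval psi0 : _ →ₐ[ℤ] _).toRingHom := by
    rw [Ideal.span_le]
    intro p hp
    rw [SetLike.mem_coe, RingHom.mem_ker]
    rcases hp with ((⟨⟨⟨i, j⟩, h⟩, rfl⟩ | ⟨⟨⟨i, j⟩, h⟩, rfl⟩) | ⟨⟨⟨i, j⟩, h⟩, rfl⟩) |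
      ⟨⟨⟨i, j, k⟩, h⟩, rfl⟩
    · fin_cases i <;> fin_cases j <;> simp at h <;> simp [psi0, c10] <;> ring
    · fin_cases i <;> fin_cases j <;> simp at h <;> simp [psi0, c10] <;> ring
    · fin_cases i <;> fin_cases j <;> simp at h <;> simp [psi0, c10] <;> ring
    · exfalso
      fin_cases i <;> fin_cases j <;> fin_cases k <;> simp at h
  exact this hp

/-- the inverse map -/
noncomputable def psi : URing ℤ 2 →+* MvPolynomial (Fin 6) ℤ :=
  Ideal.Quotient.lift (Ideal.span (URel ℤ 2)) (aeval psi0 : _ →ₐ[ℤ] _).toRingHom psi_rel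

theorem psi_ugen (g : UGen 2) : psi (ugen ℤ 2 g) = psi0 g := by
  unfold psi ugen
  rw [Ideal.Quotient.lift_mk]
  simp

/-- the map of the statement -/
noncomputable def phi : MvPolynomial (Fin 6) ℤ →ₐ[ℤ] URing ℤ 2 :=
  MvPolynomial.aeval (R := ℤ) (S₁ := URing ℤ 2)
      ![ugen ℤ 2 .a, ugen ℤ 2 (.ci 0), ugen ℤ 2 (.cbi 0), ugen ℤ 2 (.ci 1), ugen ℤ 2 (.cbi 1),
        ugen ℤ 2 (.cij 0 1 Fin.zero_ne_one)]

theorem rel_mem (p : MvPolynomial (UGen 2) ℤ) (hp : p ∈ URel ℤ 2) :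
    Ideal.Quotient.mk (Ideal.span (URel ℤ 2)) p = 0 :=
  Ideal.Quotient.eq_zero_iff_mem.2 (Ideal.subset_span hp)

theorem rel_lin : ugen ℤ 2 (.cij 1 0 (Ne.symm Fin.zero_ne_one)) =
    ugen ℤ 2 .a + ugen ℤ 2 (.ci 0) + ugen ℤ 2 (.cbi 0) + ugen ℤ 2 (.ci 1) + ugen ℤ 2 (.cbi 1)
      - ugen ℤ 2 (.cij 0 1 Fin.zero_ne_one) := by
  have := rel_mem _ (Or.inl (Or.inl (Or.inl ⟨⟨((0 : Fin 2), (1 : Fin 2)), Fin.zero_ne_one⟩, rfl⟩)))
  simp only [map_sub, map_add] at this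
  unfold ugen
  linear_combination this

theorem rel_c : ugen ℤ 2 .c =
    ugen ℤ 2 (.cij 1 0 (Ne.symm Fin.zero_ne_one)) * ugen ℤ 2 (.ci 1) +
      ugen ℤ 2 (.cij 0 1 Fin.zero_ne_one) * ugen ℤ 2 (.ci 0) - ugen ℤ 2 (.ci 0) * ugen ℤ 2 (.ci 1) := by
  have := rel_mem _ (Or.inl (Or.inl (Or.inr ⟨⟨((0 : Fin 2), (1 : Fin 2)), Fin.zero_ne_one⟩, rfl⟩)))
  simp only [map_sub, map_add, map_mul] at this
  unfold ugen
  linear_combination -this

theorem rel_cb : ugen ℤ 2 .cb =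
    ugen ℤ 2 (.cij 1 0 (Ne.symm Fin.zero_ne_one)) * ugen ℤ 2 (.cbi 0) +
      ugen ℤ 2 (.cij 0 1 Fin.zero_ne_one) * ugen ℤ 2 (.cbi 1) - ugen ℤ 2 (.cbi 0) * ugen ℤ 2 (.cbi 1) := by
  have := rel_mem _ (Or.inl (Or.inr ⟨⟨((0 : Fin 2), (1 : Fin 2)), Fin.zero_ne_one⟩, rfl⟩))
  simp only [map_sub, map_add, map_mul] at this
  unfold ugen
  linear_combination -this

theorem phi_X (k : Fin 6) : phi (X k) = ![ugen ℤ 2 .a, ugen ℤ 2 (.ci 0), ugen ℤ 2 (.cbi 0),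
    ugen ℤ 2 (.ci 1), ugen ℤ 2 (.cbi 1), ugen ℤ 2 (.cij 0 1 Fin.zero_ne_one)] k := by
  unfold phi
  rw [aeval_X]

theorem phi_c10 : phi c10 = ugen ℤ 2 (.cij 1 0 (Ne.symm Fin.zero_ne_one)) := by
  unfold c10
  rw [rel_lin]
  simp only [map_sub, map_add, phi_X]
  rfl

theorem phi_psi0 (g : UGen 2) : phi (psi0 g) = ugen ℤ 2 g := by
  rcases g with _ | _ | _ | i | i | ⟨i, j, h⟩
  · exact phi_X 0
  · show phi (c10 * X 3 + X 5 * X 1 - X 1 * X 3) = _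
    rw [rel_c]
    simp only [map_sub, map_add, map_mul, phi_X, phi_c10]
    rfl
  · show phi (c10 * X 2 + X 5 * X 4 - X 2 * X 4) = _
    rw [rel_cb]
    simp only [map_sub, map_add, map_mul, phi_X, phi_c10]
    rfl
  · fin_cases i
    · exact phi_X 1
    · exact phi_X 3
  · fin_cases i
    · exact phi_X 2
    · exact phi_X 4
  · fin_cases i <;> fin_cases j <;> simp at h
    · exact phi_X 5
    · exact phi_c10

theorem psi_phi (p : MvPolynomial (Fin 6) ℤ) : psi (phi p) = p := by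
  have : psi.comp phi.toRingHom = RingHom.id _ := by
    apply MvPolynomial.ringHom_ext
    · intro r
      simp
    · intro k
      show psi (phi (X k)) = X k
      rw [phi_X]
      fin_cases k <;> simp [psi_ugen, psi0]
  exact RingHom.congr_fun this p

theorem phi_psi (x : URing ℤ 2) : phi (psi x) = x := by
  have : phi.toRingHom.comp psi = RingHom.id _ := by
    apply Ideal.Quotient.ringHom_ext
    apply MvPolynomial.ringHom_ext
    · intro r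
      simp
    · intro g
      show phi (psi (ugen ℤ 2 g)) = ugen ℤ 2 g
      rw [psi_ugen, phi_psi0]
  exact RingHom.congr_fun this x

theorem main : Function.Bijective (MvPolynomial.aeval (R := ℤ) (S₁ := URing ℤ 2)
      ![ugen ℤ 2 .a, ugen ℤ 2 (.ci 0), ugen ℤ 2 (.cbi 0), ugen ℤ 2 (.ci 1), ugen ℤ 2 (.cbi 1),
        ugen ℤ 2 (.cij 0 1 Fin.zero_ne_one)]) :=
  Function.bijective_iff_has_inverse.2 ⟨psi, psi_phi, phi_psi⟩

end Groth.Agent.Helper8.U5
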