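import Mathlib
import Groth.Agent.Helper7.CKO1
import Groth.Agent.Helper7.CohenM

/-!
# A finite DVR through a generization (algebraic core of S4981, direct implication)

`A` a complete DVR, `C` a Noetherian local ring, `ψ : A → C` a local homomorphism inducing a
surjection on residue fields, and `P₀` a prime of `C` lying over the generic point of `A`.
Then there is a DVR `B`, finite over `A`, with a local homomorphism `χ : C → B` over `A`.
-/

set_option autoImplicit false
set_option linter.style.haveILetI false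
set_option linter.unusedSectionVars false
set_option linter.unusedVariables false
universe u
open IsLocalRing

namespace Groth.Agent.Helper8.UODvrA

open Groth.Agent.Helper7.CKd

section Fin

variable {A : Type u} [CommRing A] {D : Type u} [CommRing D] [IsLocalRing D] [IsNoetherianRing D]
  [Algebra A D]

/-- if `A → D/𝔪` is surjective then `D` is spanned over `A` by a finite set modulo `𝔪^i`. -/
theorem exists_finset_span (hres : ∀ d : D, ∃ a : A, d - algebraMap A D a ∈ maximalIdeal D)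
    (i : ℕ) : ∃ F : Finset D, ∀ d : D, ∃ s ∈ Submodule.span A (F : Set D),
      d - s ∈ maximalIdeal D ^ i := by
  classical
  induction i with
  | zero =>
    refine ⟨∅, fun d => ⟨0, Submodule.zero_mem _, ?_⟩⟩
    rw [pow_zero, Ideal.one_eq_top]
    exact Submodule.mem_top
  | succ i ih =>
    obtain ⟨F, hF⟩ := ih
    obtain ⟨G, hG⟩ : (maximalIdeal D ^ i).FG := IsNoetherian.noetherian _
    refine ⟨F ∪ G, fun d => ?_⟩
    obtain ⟨s, hs, ht⟩ := hF d
    rw [← hG] at ht
    obtain ⟨c, hc⟩ := (Submodule.mem_span_finset (R := D)).1 ht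
    choose a ha using hres
    refine ⟨s + ∑ g ∈ G, a (c g) • g, ?_, ?_⟩
    · apply Submodule.add_mem
      · exact Submodule.span_mono (by simp) hs
      · apply Submodule.sum_mem
        intro g hg
        apply Submodule.smul_mem
        apply Submodule.subset_span
        simp [hg]
    · have h1 : d - (s + ∑ g ∈ G, a (c g) • g) = ∑ g ∈ G, (c g - algebraMap A D (a (c g))) * g := by
        have : d - s = ∑ g ∈ G, c g • g := hc.2.symm
        rw [← sub_sub, this, ← Finset.sum_sub_distrib]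
        apply Finset.sum_congr rfl
        intro g _
        rw [smul_eq_mul, Algebra.smul_def, sub_mul]
      rw [h1, pow_succ']
      apply Ideal.sum_mem
      intro g hg
      apply Ideal.mul_mem_mul (ha _)
      rw [← hG]
      exact Submodule.subset_span hg

/-- `D/I` is a finite `A`-module as soon as `I` contains a power of the maximal ideal and
`A → D/𝔪` is surjective. -/
theorem finite_quotient (hres : ∀ d : D, ∃ a : A, d - algebraMap A D a ∈ maximalIdeal D)
    (I : Ideal D) (N : ℕ) (hI : maximalIdeal D ^ N ≤ I) : Module.Finite A (D ⧸ I) := by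
  obtain ⟨F, hF⟩ := exists_finset_span hres N
  let f : Submodule.span A (F : Set D) →ₗ[A] D ⧸ I :=
    (Ideal.Quotient.mkₐ A I).toLinearMap ∘ₗ (Submodule.span A (F : Set D)).subtype
  haveI : Module.Finite A (Submodule.span A (F : Set D)) :=
    Module.Finite.span_of_finite A F.finite_toSet
  apply Module.Finite.of_surjective f
  intro y
  obtain ⟨d, rfl⟩ := Ideal.Quotient.mk_surjective y
  obtain ⟨s, hs, ht⟩ := hF d
  refine ⟨⟨s, hs⟩, ?_⟩
  change Ideal.Quotient.mk I s = Ideal.Quotient.mk I d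
  rw [eq_comm, Ideal.Quotient.eq]
  exact hI ht

end Fin

section Main

variable {A : Type u} [CommRing A] [IsDomain A] [IsDiscreteValuationRing A]
  [IsAdicComplete (maximalIdeal A) A]
  {C : Type u} [CommRing C] [IsLocalRing C] [IsNoetherianRing C]

theorem exists_dvr_through (ψ : A →+* C) [IsLocalHom ψ]
    (hres : ∀ c : C, ∃ a : A, c - ψ a ∈ maximalIdeal C)
    (P₀ : Ideal C) [hP₀p : P₀.IsPrime] (hP₀ : P₀.comap ψ = ⊥) :
    ∃ (B : Type u) (_ : CommRing B) (_ : IsDomain B) (_ : IsDiscreteValuationRing B)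
      (φ : A →+* B) (χ : C →+* B), IsLocalHom φ ∧ IsLocalHom χ ∧ φ.Finite ∧ χ.comp ψ = φ := by
  obtain ⟨π, hπ⟩ := IsDiscreteValuationRing.exists_irreducible A
  have hπmax : maximalIdeal A = Ideal.span {π} := hπ.maximalIdeal_eq
  have hπ0 : π ≠ 0 := hπ.ne_zero
  have hπP₀ : ψ π ∉ P₀ := by
    intro h
    have : π ∈ P₀.comap ψ := h
    rw [hP₀] at this
    exact hπ0 this
  have hπm : ψ π ∈ maximalIdeal C := by
    rw [mem_maximalIdeal, mem_nonunits_iff]
    intro h
    exact hπ.not_isUnit (isUnit_of_map_unit ψ π h)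
  have hP₀m : P₀ ≠ maximalIdeal C := fun h => hπP₀ (h ▸ hπm)
  obtain ⟨Q, hQ, hP₀Q, hπQ⟩ := exists_cohtOne_not_mem P₀ hP₀m (ψ π) hπP₀
  haveI := hQ.1
  have hsurj : Function.Surjective (Ideal.Quotient.mk Q) := Ideal.Quotient.mk_surjective
  haveI : IsLocalRing (C ⧸ Q) := IsLocalRing.of_surjective' (Ideal.Quotient.mk Q) hsurj
  haveI hqloc : IsLocalHom (Ideal.Quotient.mk Q) := IsLocalHom.of_surjective _ hsurj
  have hmax : (maximalIdeal C).map (Ideal.Quotient.mk Q) = maximalIdeal (C ⧸ Q) :=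
    IsLocalRing.map_maximalIdeal_of_surjective (Ideal.Quotient.mk Q) hsurj
  have hdim : ∀ 𝔮 : Ideal (C ⧸ Q), 𝔮.IsPrime → 𝔮 ≠ ⊥ → 𝔮 = maximalIdeal (C ⧸ Q) := by
    intro 𝔮 h𝔮 h𝔮0
    have hle : Q ≤ 𝔮.comap (Ideal.Quotient.mk Q) := by
      intro b hb
      show Ideal.Quotient.mk Q b ∈ 𝔮
      rw [Ideal.Quotient.eq_zero_iff_mem.mpr hb]
      exact zero_mem _
    have hne' : Q ≠ 𝔮.comap (Ideal.Quotient.mk Q) := by
      intro h
      apply h𝔮0
      rw [← Ideal.map_comap_of_surjective _ hsurj 𝔮, ← h, Ideal.map_quotient_self]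
    have h2 := hQ.2.2 _ (Ideal.comap_isPrime _ _) (lt_of_le_of_ne hle hne')
    rw [← Ideal.map_comap_of_surjective _ hsurj 𝔮, h2, hmax]
  -- the `A`-algebra structure
  let ψD : A →+* (C ⧸ Q) := (Ideal.Quotient.mk Q).comp ψ
  letI : Algebra A (C ⧸ Q) := ψD.toAlgebra
  have halg : ∀ a : A, algebraMap A (C ⧸ Q) a = Ideal.Quotient.mk Q (ψ a) := fun _ => rfl
  have hπD0 : algebraMap A (C ⧸ Q) π ≠ 0 := by
    rw [halg, Ne, Ideal.Quotient.eq_zero_iff_mem]
    exact hπQ
  have hπDm : algebraMap A (C ⧸ Q) π ∈ maximalIdeal (C ⧸ Q) := by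
    rw [halg, ← hmax]
    exact Ideal.mem_map_of_mem _ hπm
  have hresD : ∀ d : C ⧸ Q, ∃ a : A, d - algebraMap A (C ⧸ Q) a ∈ maximalIdeal (C ⧸ Q) := by
    intro d
    obtain ⟨c, rfl⟩ := hsurj d
    obtain ⟨a, ha⟩ := hres c
    refine ⟨a, ?_⟩
    rw [halg, ← map_sub, ← hmax]
    exact Ideal.mem_map_of_mem _ ha
  have hmapmax : (maximalIdeal A).map (algebraMap A (C ⧸ Q)) =
      Ideal.span {algebraMap A (C ⧸ Q) π} := by
    rw [hπmax, Ideal.map_span, Set.image_singleton]
  -- a power of the maximal ideal lies in `(π)`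
  have hrad : maximalIdeal (C ⧸ Q) ≤ (Ideal.span {algebraMap A (C ⧸ Q) π}).radical := by
    rw [Ideal.radical_eq_sInf]
    apply le_sInf
    rintro 𝔮 ⟨h𝔮le, h𝔮p⟩
    have h𝔮0 : 𝔮 ≠ ⊥ := by
      intro h
      apply hπD0
      have : algebraMap A (C ⧸ Q) π ∈ 𝔮 := h𝔮le (Ideal.subset_span rfl)
      rw [h] at this
      exact this
    rw [hdim 𝔮 h𝔮p h𝔮0]
  obtain ⟨N, hN⟩ := Ideal.exists_pow_le_of_le_radical_of_fg hrad
    (IsNoetherian.noetherian (maximalIdeal (C ⧸ Q)))
  have hfinq : Module.Finite A ((C ⧸ Q) ⧸ (maximalIdeal A).map (algebraMap A (C ⧸ Q))) := by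
    rw [hmapmax]
    exact finite_quotient hresD _ N hN
  haveI : IsHausdorff ((maximalIdeal A).map (algebraMap A (C ⧸ Q))) (C ⧸ Q) := by
    apply IsHausdorff.of_isLocalRing
    rw [hmapmax]
    intro h
    have h1 : algebraMap A (C ⧸ Q) π ∈ maximalIdeal (C ⧸ Q) := hπDm
    have h2 : Ideal.span {algebraMap A (C ⧸ Q) π} ≤ maximalIdeal (C ⧸ Q) := by
      rw [Ideal.span_le]
      intro y hy
      rw [Set.mem_singleton_iff.mp hy]
      exact h1
    rw [h] at h2
    exact (maximalIdeal.isMaximal (C ⧸ Q)).ne_top (top_le_iff.mp h2)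
  haveI hfinD : Module.Finite A (C ⧸ Q) :=
    Groth.Agent.Helper7.Cohen.finite_of_complete A (C ⧸ Q) (maximalIdeal A) hfinq
  obtain ⟨_, hcomp⟩ := Groth.Agent.Helper2.NagataCompl2.local_complete_of_finite A (C ⧸ Q)
  haveI := hcomp
  have hDfield : ¬ IsField (C ⧸ Q) := by
    intro h
    rw [IsLocalRing.isField_iff_maximalIdeal_eq] at h
    rw [h] at hπDm
    exact hπD0 hπDm
  obtain ⟨V, i1, i2, i3, ψ', hψinj, hψfin⟩ := exists_dvr_of_dim_one (C ⧸ Q) hDfield hdim
  haveI hψ'loc : IsLocalHom ψ' := RingHom.IsIntegral.isLocalHom hψfin.to_isIntegral hψinj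
  have hψDfin : ψD.Finite := hfinD
  haveI hχloc : IsLocalHom (ψ'.comp (Ideal.Quotient.mk Q)) := RingHom.isLocalHom_comp _ _
  refine ⟨V, i1, i2, i3, (ψ'.comp (Ideal.Quotient.mk Q)).comp ψ, ψ'.comp (Ideal.Quotient.mk Q),
    RingHom.isLocalHom_comp _ _, hχloc, ?_, rfl⟩
  have : (ψ'.comp (Ideal.Quotient.mk Q)).comp ψ = ψ'.comp ψD := rfl
  rw [this]
  exact hψfin.comp hψDfin

end Main

end Groth.Agent.Helper8.UODvrA
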