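import Mathlib
import Groth.Prelude.Def_EGA43
import Groth.Agent.Helper5.PtOpen6
import Groth.Agent.Helper8.UODvrA
import Groth.Agent.Helper8.DvrResExt

/-!
# S4981: universal openness at a point and lifting of complete DVR points after finite extension
-/

set_option autoImplicit false
set_option linter.style.haveILetI false
set_option linter.unusedSectionVars false
set_option linter.unusedVariables false
universe u
open CategoryTheory CategoryTheory.Limits AlgebraicGeometry IsLocalRing

namespace Groth.Agent.Helper8.UODvrB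

open Groth.Agent.Helper5

/-- the lifting property of S4981 -/
def LiftAt {X Y : Scheme.{u}} (f : X ⟶ Y) (x : X) : Prop :=
  ∀ (A : Type u) [CommRing A] [IsDomain A] [IsDiscreteValuationRing A]
    [IsAdicComplete (IsLocalRing.maximalIdeal A) A] [IsAlgClosed (IsLocalRing.ResidueField A)]
    (g : Spec (CommRingCat.of A) ⟶ Y), g.base (IsLocalRing.closedPoint A) = f.base x →
    ∀ u₀ : Spec (CommRingCat.of (IsLocalRing.ResidueField A)) ⟶ X,
      u₀ ≫ f = Spec.map (CommRingCat.ofHom (IsLocalRing.residue A)) ≫ g → x ∈ Set.range u₀.base →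
      ∃ (B : CommRingCat.{u}) (_ : IsDomain B) (_ : IsDiscreteValuationRing B) (φ : A →+* B)
        (_ : IsLocalHom φ) (v : Spec B ⟶ X),
        φ.Finite ∧ v ≫ f = Spec.map (CommRingCat.ofHom φ) ≫ g ∧
        Spec.map (CommRingCat.ofHom (IsLocalRing.ResidueField.map φ)) ≫ u₀ =
          Spec.map (CommRingCat.ofHom (IsLocalRing.residue B)) ≫ v

section Direct

/-- scheme-level core of the direct implication. -/
theorem exists_dvr_lift {P : Scheme.{u}} [IsLocallyNoetherian P]
    {A : Type u} [CommRing A] [IsDomain A] [IsDiscreteValuationRing A]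
    [IsAdicComplete (maximalIdeal A) A]
    (q : P ⟶ Spec (CommRingCat.of A))
    (s : Spec (CommRingCat.of (ResidueField A)) ⟶ P)
    (hs : s ≫ q = Spec.map (CommRingCat.ofHom (residue A)))
    (z' : P) (hz' : z' ⤳ s (closedPoint (ResidueField A)))
    (hz'2 : q z' ≠ closedPoint A) :
    ∃ (B : CommRingCat.{u}) (_ : IsDomain B) (_ : IsDiscreteValuationRing B) (φ : A →+* B)
      (_ : IsLocalHom φ) (w : Spec B ⟶ P),
      φ.Finite ∧ w ≫ q = Spec.map (CommRingCat.ofHom φ) ∧
      Spec.map (CommRingCat.ofHom (ResidueField.map φ)) ≫ s =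
        Spec.map (CommRingCat.ofHom (residue B)) ≫ w := by
  obtain ⟨σ, hσdef⟩ : ∃ σ : P.presheaf.stalk (s (closedPoint (ResidueField A))) ⟶
      CommRingCat.of (ResidueField A), σ = Scheme.stalkClosedPointTo s := ⟨_, rfl⟩
  have hσ : Spec.map σ ≫ P.fromSpecStalk _ = s := by
    rw [hσdef]; exact Scheme.Spec_stalkClosedPointTo_fromSpecStalk s
  haveI hσloc : IsLocalHom σ.hom := by
    rw [hσdef]; exact Scheme.isLocalHom_stalkClosedPointTo' s
  obtain ⟨ψc, hψc⟩ : ∃ ψc : CommRingCat.of A ⟶ P.presheaf.stalk (s (closedPoint (ResidueField A))),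
      Spec.map ψc = P.fromSpecStalk _ ≫ q := ⟨Spec.preimage _, Spec.map_preimage _⟩
  have hψσ : ψc ≫ σ = CommRingCat.ofHom (residue A) := by
    apply Spec.map_injective
    rw [Spec.map_comp, hψc, ← Category.assoc, hσ, hs]
  have hσψ : ∀ a : A, σ.hom (ψc.hom a) = residue A a := fun a =>
    congrArg (fun h : CommRingCat.of A ⟶ CommRingCat.of (ResidueField A) => h.hom a) hψσ
  haveI hψloc : IsLocalHom ψc.hom := by
    haveI : IsLocalHom (σ.hom.comp ψc.hom) := by
      have : σ.hom.comp ψc.hom = residue A := RingHom.ext hσψ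
      rw [this]; infer_instance
    exact isLocalHom_of_comp ψc.hom σ.hom
  have hσm : ∀ c : P.presheaf.stalk (s (closedPoint (ResidueField A))), σ.hom c = 0 →
      c ∈ maximalIdeal (P.presheaf.stalk (s (closedPoint (ResidueField A)))) := by
    intro c hc
    rw [mem_maximalIdeal, mem_nonunits_iff]
    intro hu
    have := hu.map σ.hom
    rw [hc] at this
    exact not_isUnit_zero this
  have hσ0 : ∀ y ∈ maximalIdeal (P.presheaf.stalk (s (closedPoint (ResidueField A)))),
      σ.hom y = 0 := by
    intro y hy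
    have := map_nonunit σ.hom y hy
    rwa [IsLocalRing.maximalIdeal_eq_bot, Ideal.mem_bot] at this
  have hres : ∀ c : P.presheaf.stalk (s (closedPoint (ResidueField A))), ∃ a : A,
      c - ψc.hom a ∈ maximalIdeal (P.presheaf.stalk (s (closedPoint (ResidueField A)))) := by
    intro c
    obtain ⟨a, ha⟩ := residue_surjective (σ.hom c)
    refine ⟨a, hσm _ ?_⟩
    rw [map_sub, hσψ, ha, sub_self]
  -- the prime
  obtain ⟨𝔭, h𝔭⟩ : z' ∈ Set.range (P.fromSpecStalk (s (closedPoint (ResidueField A)))) := by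
    rw [Scheme.range_fromSpecStalk]; exact hz'
  have hcomap : 𝔭.asIdeal.comap ψc.hom = ⊥ := by
    have h1 : (Spec.map ψc) 𝔭 = q z' := by rw [hψc, Scheme.Hom.comp_apply, h𝔭]
    have h2 : (Spec.map ψc) 𝔭 ≠ closedPoint A := h1 ▸ hz'2
    have h3 := PtOpen.dvr_eq_bot_of_ne_closedPoint A _ h2
    exact congrArg PrimeSpectrum.asIdeal h3
  haveI := 𝔭.isPrime
  obtain ⟨B, i1, i2, i3, φ, χ, hφloc, hχloc, hφfin, hχψ⟩ :=
    UODvrA.exists_dvr_through ψc.hom hres 𝔭.asIdeal hcomap
  refine ⟨CommRingCat.of B, i2, i3, φ, hφloc,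
    Spec.map (CommRingCat.ofHom χ) ≫ P.fromSpecStalk _, hφfin, ?_, ?_⟩
  · rw [Category.assoc, ← hψc, ← Spec.map_comp]
    congr 1
    ext a
    exact RingHom.congr_fun hχψ a
  · have hstep : Spec.map (CommRingCat.ofHom (ResidueField.map φ)) ≫ s =
        Spec.map (CommRingCat.ofHom (ResidueField.map φ)) ≫ Spec.map σ ≫
          P.fromSpecStalk (s (closedPoint (ResidueField A))) := by rw [hσ]
    rw [hstep, ← Category.assoc, ← Category.assoc, ← Spec.map_comp, ← Spec.map_comp]
    congr 2
    ext c
    obtain ⟨a, ha⟩ := hres c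
    have e1 : σ.hom c = residue A a := by
      have := hσ0 _ ha
      rw [map_sub, hσψ, sub_eq_zero] at this
      exact this
    have e2 : residue B (χ c) = residue B (φ a) := by
      have h1 := map_nonunit χ _ ha
      rw [map_sub] at h1
      have h2 : χ (ψc.hom a) = φ a := RingHom.congr_fun hχψ a
      rw [h2] at h1
      exact Ideal.Quotient.eq.2 h1
    change ResidueField.map φ (σ.hom c) = residue B (χ c)
    rw [e1, ResidueField.map_residue, e2]

theorem liftAt_of_isUnivOpenAt {X Y : Scheme.{u}} [IsLocallyNoetherian Y] (f : X ⟶ Y)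
    [LocallyOfFiniteType f] (x : X) (h : EGA43.IsUnivOpenAt f x) : LiftAt f x := by
  intro A _ _ _ _ _ g hg u₀ hu₀ hx
  haveI : IsLocallyNoetherian (pullback f g) :=
    LocallyOfFiniteType.isLocallyNoetherian (pullback.snd f g)
  obtain ⟨s, hs1, hs2⟩ : ∃ s : Spec (CommRingCat.of (ResidueField A)) ⟶ pullback f g,
      s ≫ pullback.fst f g = u₀ ∧
      s ≫ pullback.snd f g = Spec.map (CommRingCat.ofHom (residue A)) :=
    ⟨pullback.lift u₀ _ hu₀, pullback.lift_fst _ _ _, pullback.lift_snd _ _ _⟩
  have hx'1 : (pullback.fst f g).base (s (closedPoint (ResidueField A))) = x := by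
    obtain ⟨p, hp⟩ := hx
    have hp' : p = closedPoint (ResidueField A) := Subsingleton.elim _ _
    rw [← hp, hp', ← hs1]
    rfl
  have hx'2 : (pullback.snd f g).base (s (closedPoint (ResidueField A))) = closedPoint A := by
    have : (s ≫ pullback.snd f g) (closedPoint (ResidueField A)) = closedPoint A := by
      rw [hs2]
      exact IsLocalRing.PrimeSpectrum.comap_residue A _
    exact this
  obtain ⟨z', hz', hz'2⟩ := PtOpen.dvrAt_of_isUnivOpenAt f x h A g hg _ hx'1 hx'2
  obtain ⟨B, i1, i2, φ, hφ, w, hfin, hw, hres⟩ :=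
    exists_dvr_lift (pullback.snd f g) s hs2 z' hz' hz'2
  refine ⟨B, i1, i2, φ, hφ, w ≫ pullback.fst f g, hfin, ?_, ?_⟩
  · rw [Category.assoc, pullback.condition, ← Category.assoc, hw]
  · rw [← hs1, ← Category.assoc, hres, Category.assoc]

end Direct

section Converse

theorem injective_of_finite_dvr {C B : Type u} [CommRing C] [IsDomain C]
    [IsDiscreteValuationRing C] [CommRing B] [IsDomain B] [IsDiscreteValuationRing B]
    (φ : C →+* B) (hφ : φ.Finite) : Function.Injective φ := by
  rw [RingHom.injective_iff_ker_eq_bot]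
  by_contra hne
  haveI : (RingHom.ker φ).IsPrime := RingHom.ker_isPrime φ
  have hmax : (RingHom.ker φ).IsMaximal := Ring.DimensionLEOne.maximalOfPrime hne inferInstance
  have hfield : IsField (C ⧸ RingHom.ker φ) :=
    (Ideal.Quotient.maximal_ideal_iff_isField_quotient _).mp hmax
  letI : Algebra (C ⧸ RingHom.ker φ) B := (RingHom.kerLift φ).toAlgebra
  haveI : Algebra.IsIntegral (C ⧸ RingHom.ker φ) B := ⟨hφ.to_isIntegral.kerLift⟩
  exact IsDiscreteValuationRing.not_isField B (isField_of_isIntegral_of_isField' hfield)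

theorem dvrAt_of_liftAt {X Y : Scheme.{u}} (f : X ⟶ Y) (x : X) (H : LiftAt f x) :
    PtOpen.DvrAt f x := by
  intro A₀ _ _ _ g₀ hg₀ x' hx'1 hx'2
  -- the residue field of `x'` as an extension of the residue field of `A₀`
  obtain ⟨ρc, hρc⟩ : ∃ ρc : CommRingCat.of A₀ ⟶ (pullback f g₀).residueField x',
      Spec.map ρc = (pullback f g₀).fromSpecResidueField x' ≫ pullback.snd f g₀ :=
    ⟨Spec.preimage _, Spec.map_preimage _⟩
  haveI hρloc : IsLocalHom ρc.hom := by
    rw [isLocalHom_iff_comap_closedPoint]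
    have h1 : (Spec.map ρc) (closedPoint ((pullback f g₀).residueField x')) = closedPoint A₀ := by
      rw [hρc, Scheme.Hom.comp_apply, Scheme.fromSpecResidueField_apply]
      exact hx'2
    exact h1
  letI algL : Algebra (ResidueField A₀) (AlgebraicClosure ((pullback f g₀).residueField x')) :=
    ((algebraMap ((pullback f g₀).residueField x')
      (AlgebraicClosure ((pullback f g₀).residueField x'))).comp
        (ResidueField.lift ρc.hom)).toAlgebra
  obtain ⟨C, i1, i2, i3, ι, θ, hcomp, hιinj, hιloc', hθsurj, hθker, hθι, -⟩ :=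
    DvrResExt.exists_complete_ext A₀ (AlgebraicClosure ((pullback f g₀).residueField x'))
  haveI := hcomp
  haveI hιloc : IsLocalHom ι := by
    refine ⟨fun a ha => ?_⟩
    by_contra hna
    exact hιloc' a ((mem_maximalIdeal a).2 (mem_nonunits_iff.2 hna)) ha
  obtain ⟨e, he⟩ : ∃ e : ResidueField C ≃+*
      AlgebraicClosure ((pullback f g₀).residueField x'), ∀ c : C, e (residue C c) = θ c :=
    ⟨(Ideal.quotEquivOfEq hθker.symm).trans (RingHom.quotientKerEquivOfSurjective hθsurj),
      fun c => rfl⟩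
  haveI hac : IsAlgClosed (ResidueField C) :=
    IsAlgClosed.of_ringEquiv (k := AlgebraicClosure ((pullback f g₀).residueField x'))
      (ResidueField C) e.symm
  obtain ⟨τ, hτ⟩ : ∃ τ : (pullback f g₀).residueField x' →+* ResidueField C,
      ∀ y, e (τ y) = algebraMap ((pullback f g₀).residueField x')
        (AlgebraicClosure ((pullback f g₀).residueField x')) y :=
    ⟨(e.symm.toRingHom).comp (algebraMap ((pullback f g₀).residueField x')
      (AlgebraicClosure ((pullback f g₀).residueField x'))), fun y => e.apply_symm_apply _⟩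
  have hτρ : ∀ a : A₀, τ (ρc.hom a) = residue C (ι a) := by
    intro a
    apply e.injective
    rw [hτ, he, hθι]
    change _ = algebraMap _ _ (ResidueField.lift ρc.hom (residue A₀ a))
    rw [ResidueField.lift_residue_apply]
  -- the data for `H`
  obtain ⟨g, hgdef⟩ : ∃ g : Spec (CommRingCat.of C) ⟶ Y,
      g = Spec.map (CommRingCat.ofHom ι) ≫ g₀ := ⟨_, rfl⟩
  have hg : g.base (closedPoint C) = f.base x := by
    rw [hgdef, ← hg₀]
    have : (Spec.map (CommRingCat.ofHom ι)) (closedPoint C) = closedPoint A₀ :=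
      IsLocalRing.comap_closedPoint ι
    rw [Scheme.Hom.comp_base, TopCat.comp_app, this]
  obtain ⟨u₀, hu₀def⟩ : ∃ u₀ : Spec (CommRingCat.of (ResidueField C)) ⟶ X,
      u₀ = Spec.map (CommRingCat.ofHom τ) ≫ (pullback f g₀).fromSpecResidueField x' ≫
        pullback.fst f g₀ := ⟨_, rfl⟩
  have hu₀ : u₀ ≫ f = Spec.map (CommRingCat.ofHom (residue C)) ≫ g := by
    rw [hu₀def, hgdef, Category.assoc, Category.assoc, pullback.condition,
      ← Category.assoc ((pullback f g₀).fromSpecResidueField x'), ← hρc, ← Category.assoc,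
      ← Category.assoc]
    congr 1
    rw [← Spec.map_comp, ← Spec.map_comp]
    congr 1
    ext a
    exact hτρ a
  have hxr : x ∈ Set.range u₀.base := by
    refine ⟨closedPoint (ResidueField C), ?_⟩
    rw [hu₀def, ← hx'1]
    change (pullback.fst f g₀).base (((pullback f g₀).fromSpecResidueField x').base _) = _
    rw [Scheme.fromSpecResidueField_apply]
  obtain ⟨B, iB1, iB2, φ, hφloc, v, hφfin, hv, hres⟩ := H C g hg u₀ hu₀ hxr
  -- the induced point of the pullback
  have hvcond : v ≫ f = Spec.map (CommRingCat.ofHom (φ.comp ι)) ≫ g₀ := by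
    rw [hv, hgdef, ← Category.assoc, ← Spec.map_comp]
    rfl
  obtain ⟨w, hw1, hw2⟩ : ∃ w : Spec B ⟶ pullback f g₀, w ≫ pullback.fst f g₀ = v ∧
      w ≫ pullback.snd f g₀ = Spec.map (CommRingCat.ofHom (φ.comp ι)) :=
    ⟨pullback.lift v _ hvcond, pullback.lift_fst _ _ _, pullback.lift_snd _ _ _⟩
  -- the closed point goes to `x'`
  have hab : Spec.map (CommRingCat.ofHom (residue B)) ≫ w =
      Spec.map (CommRingCat.ofHom (ResidueField.map φ)) ≫ Spec.map (CommRingCat.ofHom τ) ≫
        (pullback f g₀).fromSpecResidueField x' := by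
    apply pullback.hom_ext
    · rw [Category.assoc, hw1, ← hres, hu₀def]
      simp only [Category.assoc]
    · rw [Category.assoc, hw2, Category.assoc, Category.assoc, ← hρc, ← Spec.map_comp,
        ← Spec.map_comp, ← Spec.map_comp]
      congr 1
      ext a
      change residue B (φ (ι a)) = ResidueField.map φ (τ (ρc.hom a))
      rw [hτρ, ResidueField.map_residue]
  have hwc : w.base (closedPoint B) = x' := by
    have h1 : (Spec.map (CommRingCat.ofHom (residue B))) (closedPoint (ResidueField B)) =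
        closedPoint B := IsLocalRing.PrimeSpectrum.comap_residue B _
    have h2 := congrArg (fun m : Spec (CommRingCat.of (ResidueField B)) ⟶ pullback f g₀ =>
      m.base (closedPoint (ResidueField B))) hab
    simp only [Scheme.Hom.comp_base, TopCat.comp_app] at h2
    rw [Scheme.fromSpecResidueField_apply] at h2
    rw [← h2, ← h1]
  -- the generic point
  have hφinj : Function.Injective (φ.comp ι) :=
    (injective_of_finite_dvr φ hφfin).comp hιinj
  refine ⟨w.base ⟨⊥, Ideal.isPrime_bot⟩, ?_, ?_⟩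
  · rw [← hwc]
    exact (IsLocalRing.specializes_closedPoint _).map w.continuous
  · have h1 : (pullback.snd f g₀).base (w.base ⟨⊥, Ideal.isPrime_bot⟩) =
        (Spec.map (CommRingCat.ofHom (φ.comp ι))) ⟨⊥, Ideal.isPrime_bot⟩ := by
      rw [← hw2]; rfl
    rw [h1]
    have h2 : (Spec.map (CommRingCat.ofHom (φ.comp ι))) ⟨⊥, Ideal.isPrime_bot⟩ =
        (⟨⊥, Ideal.isPrime_bot⟩ : PrimeSpectrum A₀) := by
      apply PrimeSpectrum.ext
      change Ideal.comap (φ.comp ι) ⊥ = ⊥
      rw [← RingHom.ker_eq_comap_bot]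
      exact (RingHom.injective_iff_ker_eq_bot _).1 hφinj
    rw [h2]
    exact PtOpen.dvr_bot_ne_closedPoint A₀

end Converse

/-- S4981 -/
theorem main {X Y : Scheme.{u}} [IsLocallyNoetherian Y] (f : X ⟶ Y) [LocallyOfFiniteType f]
    (x : X) : EGA43.IsUnivOpenAt f x ↔ LiftAt f x :=
  ⟨liftAt_of_isUnivOpenAt f x, fun H =>
    PtOpen.isUnivOpenAt_of_dvrAt f x (dvrAt_of_liftAt f x H)⟩

end Groth.Agent.Helper8.UODvrB
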