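import Mathlib

set_option autoImplicit false
universe u
open Polynomial IntermediateField

namespace Groth.Agent.Helper8.UniLuroth

open IntermediateField.algebraAdjoinAdjoin in
/-- an element algebraic over `k(x)` satisfies a polynomial relation over `k[x]` with nonzero
constant term -/
theorem exists_rel (k : Type u) [Field k] (K : Type u) [Field K] [Algebra k K] (x : K)
    (y : K) (hy0 : y ≠ 0) (hy : IsAlgebraic (IntermediateField.adjoin k {x}) y) :
    ∃ q : (Algebra.adjoin k {x})[X], q.coeff 0 ≠ 0 ∧ aeval y q = 0 := by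
  have h1 : IsAlgebraic (Algebra.adjoin k {x}) y :=
    (IsFractionRing.isAlgebraic_iff (Algebra.adjoin k {x}) (IntermediateField.adjoin k {x}) K).mpr hy
  exact h1.exists_nonzero_coeff_and_aeval_eq_zero (mem_nonZeroDivisors_of_ne_zero hy0)

theorem key (k : Type u) [Field k] (K : Type u) [Field K] [Algebra k K] (x : K)
    (halg : Algebra.IsAlgebraic (IntermediateField.adjoin k {x}) K)
    (A : Subalgebra k K) (hA : ∀ y : K, ∃ r ∈ A, ∃ s ∈ A, y = r / s) (hxA : x ∈ A)
    (ψ : A →ₐ[k] RatFunc k) (hψx : Transcendental k (ψ ⟨x, hxA⟩)) :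
    ∃ t : K, Transcendental k t ∧ IntermediateField.adjoin k {t} = ⊤ := by
  -- injectivity of ψ
  have hTA : Algebra.adjoin k {x} ≤ A := Algebra.adjoin_le (by simpa using hxA)
  have hinj : Function.Injective ψ := by
    rw [injective_iff_map_eq_zero]
    intro y hy
    by_contra hy0
    have hy0' : (y : K) ≠ 0 := fun h => hy0 (Subtype.ext h)
    obtain ⟨q, hq0, hq⟩ := exists_rel k K x y hy0' (halg.isAlgebraic _)
    let incl : Algebra.adjoin k {x} →+* A := (Subalgebra.inclusion hTA).toRingHom
    have h1 : Polynomial.eval₂ incl y q = 0 := by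
      apply Subtype.val_injective
      have := Polynomial.hom_eval₂ q incl A.val.toRingHom y
      rw [show (A.val.toRingHom (Polynomial.eval₂ incl y q) : K) =
        ((Polynomial.eval₂ incl y q : A) : K) from rfl] at this
      rw [this]
      exact hq
    have h2 := congrArg ψ h1
    rw [map_zero, ← AlgHom.coe_toRingHom, Polynomial.hom_eval₂, AlgHom.coe_toRingHom, hy,
      Polynomial.eval₂_at_zero] at h2
    -- the constant coefficient is a polynomial in x
    have hc : ∀ z : K, z ∈ Algebra.adjoin k {x} → ∃ r : k[X], aeval x r = z := by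
      intro z hz
      rw [Algebra.adjoin_singleton_eq_range_aeval] at hz
      exact hz
    obtain ⟨r, hr⟩ := hc _ (q.coeff 0).2
    have hr0 : r ≠ 0 := by
      rintro rfl
      rw [map_zero] at hr
      exact hq0 (Subtype.ext hr.symm)
    have h3 : incl (q.coeff 0) = aeval (⟨x, hxA⟩ : A) r := by
      apply Subtype.val_injective
      rw [← Subalgebra.aeval_coe]
      exact hr.symm
    rw [RingHom.comp_apply, h3, AlgHom.coe_toRingHom, ← Polynomial.aeval_algHom_apply] at h2
    exact hψx ⟨r, hr0, h2⟩
  haveI : IsFractionRing A K := IsFractionRing.of_field A K (by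
    intro y
    obtain ⟨r, hr, s, hs, rfl⟩ := hA y
    exact ⟨⟨r, hr⟩, ⟨s, hs⟩, rfl⟩)
  let Ψ : K →ₐ[k] RatFunc k := IsFractionRing.liftAlgHom (g := ψ) hinj
  have hΨ : ∀ a : A, Ψ a = ψ a := fun a => IsFractionRing.lift_algebraMap hinj a
  have hΨinj : Function.Injective Ψ := Ψ.toRingHom.injective
  set E : IntermediateField k (RatFunc k) := Ψ.fieldRange with hE
  have hEbot : E ≠ ⊥ := by
    intro h
    have h1 : Ψ x ∈ E := ⟨x, rfl⟩
    rw [h, IntermediateField.mem_bot] at h1
    obtain ⟨c, hc⟩ := h1
    have h2 : Ψ x = ψ ⟨x, hxA⟩ := hΨ ⟨x, hxA⟩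
    rw [← h2, ← hc] at hψx
    exact hψx (isAlgebraic_algebraMap c)
  have hgen := RatFunc.Luroth.eq_adjoin_generator (E := E)
  obtain ⟨t, ht⟩ : ∃ t, Ψ t = RatFunc.Luroth.generator E := RatFunc.Luroth.generator_mem (E := E)
  refine ⟨t, ?_, ?_⟩
  · intro halgt
    have := RatFunc.Luroth.transcendental_generator hEbot
    rw [← ht] at this
    exact this (halgt.algHom Ψ)
  · rw [eq_top_iff]
    intro y _
    have h1 : Ψ y ∈ E := ⟨y, rfl⟩
    rw [hgen, ← ht, ← Set.image_singleton, ← IntermediateField.adjoin_map] at h1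
    obtain ⟨y', hy', hyy⟩ := h1
    rw [← hΨinj hyy]
    exact hy'

/-- restriction of polynomials to the line through `P` and `Q` -/
noncomputable def line {k : Type u} [Field k] {n : ℕ} (P Q : Fin n → k) :
    MvPolynomial (Fin n) k →ₐ[k] k[X] :=
  MvPolynomial.aeval (fun i => C (P i) + C (Q i - P i) * X)

theorem line_eval_zero {k : Type u} [Field k] {n : ℕ} (P Q : Fin n → k)
    (f : MvPolynomial (Fin n) k) : (line P Q f).eval 0 = MvPolynomial.eval P f := by
  have : (Polynomial.aeval (0 : k)).comp (line P Q) = MvPolynomial.aeval P := by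
    apply MvPolynomial.algHom_ext
    intro i
    simp [line]
  have h2 := DFunLike.congr_fun this f
  rw [AlgHom.comp_apply, Polynomial.coe_aeval_eq_eval, MvPolynomial.aeval_eq_eval] at h2
  exact h2

theorem line_eval_one {k : Type u} [Field k] {n : ℕ} (P Q : Fin n → k)
    (f : MvPolynomial (Fin n) k) : (line P Q f).eval 1 = MvPolynomial.eval Q f := by
  have : (Polynomial.aeval (1 : k)).comp (line P Q) = MvPolynomial.aeval Q := by
    apply MvPolynomial.algHom_ext
    intro i
    simp [line]
  have h2 := DFunLike.congr_fun this f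
  rw [AlgHom.comp_apply, Polynomial.coe_aeval_eq_eval, MvPolynomial.aeval_eq_eval] at h2
  exact h2

theorem exists_nonvanishing {k : Type u} [Field k] [Infinite k] {n : ℕ}
    (f : MvPolynomial (Fin n) k) (hf : f ≠ 0) : ∃ P : Fin n → k, MvPolynomial.eval P f ≠ 0 := by
  by_contra h
  rw [not_exists] at h
  apply hf
  apply MvPolynomial.funext
  intro P
  rw [map_zero]
  exact not_not.mp (h P)

theorem main (k : Type u) [Field k] [IsAlgClosed k]
    (K : Type u) [Field K] [Algebra k K] (hfg : (⊤ : IntermediateField k K).FG)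
    (x : K) (hx : Transcendental k x) (halg : Algebra.IsAlgebraic ↥(IntermediateField.adjoin k {x}) K)
    (n : ℕ) (φ : K →ₐ[k] FractionRing (MvPolynomial (Fin n) k)) :
    ∃ t : K, Transcendental k t ∧ IntermediateField.adjoin k {t} = ⊤ := by
  classical
  obtain ⟨G, hG⟩ := hfg
  set G' : Finset K := insert x G with hG'
  have hG'top : IntermediateField.adjoin k (G' : Set K) = ⊤ := by
    rw [eq_top_iff, ← hG]
    apply IntermediateField.adjoin.mono
    rw [hG']
    intro y hy
    exact Finset.mem_coe.mpr (Finset.mem_insert_of_mem hy)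
  set R := MvPolynomial (Fin n) k with hR
  set F := FractionRing R with hF
  have hφinj : Function.Injective φ := φ.toRingHom.injective
  -- common denominator
  obtain ⟨⟨D, hDmem⟩, hD⟩ := IsLocalization.exist_integer_multiples_of_finset (nonZeroDivisors R)
    (G'.image φ)
  have hD0 : D ≠ 0 := nonZeroDivisors.ne_zero hDmem
  have hDF0 : algebraMap R F D ≠ 0 := by
    rw [Ne, map_eq_zero_iff _ (IsFractionRing.injective R F)]; exact hD0
  have hp : ∀ g ∈ G', ∃ p : R, algebraMap R F p = algebraMap R F D * φ g := by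
    intro g hg
    obtain ⟨p, hp⟩ := hD (φ g) (Finset.mem_image_of_mem φ hg)
    exact ⟨p, by rw [hp, Algebra.smul_def]⟩
  obtain ⟨px, hpx⟩ := hp x (Finset.mem_insert_self x G)
  -- the points P and Q
  obtain ⟨P, hP⟩ := exists_nonvanishing D hD0
  set c : k := MvPolynomial.eval P px / MvPolynomial.eval P D with hc
  have hne : px - MvPolynomial.C c * D ≠ 0 := by
    intro h
    rw [sub_eq_zero] at h
    rw [h, map_mul] at hpx
    have h2 : φ x = algebraMap R F (MvPolynomial.C c) := by
      have := mul_left_cancel₀ hDF0 (by rw [← hpx, mul_comm] : algebraMap R F D * φ x =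
        algebraMap R F D * algebraMap R F (MvPolynomial.C c))
      exact this
    have h3 : algebraMap R F (MvPolynomial.C c) = φ (algebraMap k K c) := by
      rw [φ.commutes, IsScalarTower.algebraMap_apply k R F]
      rfl
    rw [h3] at h2
    have := hφinj h2
    rw [this] at hx
    exact hx (isAlgebraic_algebraMap c)
  obtain ⟨Q, hQ⟩ := exists_nonvanishing ((px - MvPolynomial.C c * D) * D) (mul_ne_zero hne hD0)
  rw [map_mul, map_sub, map_mul, MvPolynomial.eval_C, mul_ne_zero_iff, sub_ne_zero] at hQ
  obtain ⟨hQ1, hQ2⟩ := hQ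
  -- the line
  set lam := line P Q with hlam
  have hlamD : lam D ≠ 0 := by
    intro h
    apply hP
    rw [← line_eval_zero P Q, ← hlam, h, eval_zero]
  -- the localization
  set B := Localization.Away D with hB
  have hunitF : ∀ y : Submonoid.powers D, IsUnit ((IsScalarTower.toAlgHom k R F) (y : R)) := by
    rintro ⟨_, m, rfl⟩
    apply IsUnit.mk0
    change algebraMap R F (D ^ m) ≠ 0
    rw [map_pow]
    exact pow_ne_zero _ hDF0
  let j : B →ₐ[k] F := IsLocalization.liftAlgHom (M := Submonoid.powers D)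
    (f := IsScalarTower.toAlgHom k R F) hunitF
  have hjalg : ∀ r : R, j (algebraMap R B r) = algebraMap R F r := fun r =>
    IsLocalization.lift_eq _ r
  have hj : Function.Injective j := by
    rw [injective_iff_map_eq_zero]
    intro b hb
    obtain ⟨⟨a, s⟩, hab⟩ := IsLocalization.surj (Submonoid.powers D) b
    have h2 := congrArg j hab
    rw [map_mul, hb, zero_mul, hjalg] at h2
    have h3 : a = 0 := (map_eq_zero_iff _ (IsFractionRing.injective R F)).mp h2.symm
    simp only at hab
    rw [h3, map_zero] at hab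
    exact (IsUnit.mul_left_eq_zero (IsLocalization.map_units B s)).mp hab
  have hunitE : ∀ y : Submonoid.powers D,
      IsUnit (((IsScalarTower.toAlgHom k k[X] (RatFunc k)).comp lam) (y : R)) := by
    rintro ⟨_, m, rfl⟩
    apply IsUnit.mk0
    change algebraMap k[X] (RatFunc k) (lam (D ^ m)) ≠ 0
    rw [map_pow, map_pow]
    apply pow_ne_zero
    rw [Ne, map_eq_zero_iff _ (IsFractionRing.injective k[X] (RatFunc k))]
    exact hlamD
  let ev : B →ₐ[k] RatFunc k := IsLocalization.liftAlgHom (M := Submonoid.powers D)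
    (f := (IsScalarTower.toAlgHom k k[X] (RatFunc k)).comp lam) hunitE
  have hevalg : ∀ r : R, ev (algebraMap R B r) = algebraMap k[X] (RatFunc k) (lam r) := fun r =>
    IsLocalization.lift_eq _ r
  -- the subalgebra A
  set A : Subalgebra k K := Algebra.adjoin k (G' : Set K) with hA
  have hAdiv : ∀ y : K, ∃ r ∈ A, ∃ s ∈ A, y = r / s := by
    intro y
    have : y ∈ IntermediateField.adjoin k (G' : Set K) := by rw [hG'top]; trivial
    exact IntermediateField.mem_adjoin_iff_div.mp this
  have hxA : x ∈ A := Algebra.subset_adjoin (Finset.mem_coe.mpr (Finset.mem_insert_self x G))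
  have hrange : ∀ a : A, (φ.comp A.val) a ∈ j.range := by
    intro a
    have hle : A ≤ j.range.comap φ := by
      apply Algebra.adjoin_le
      intro g hg
      obtain ⟨p, hp⟩ := hp g (Finset.mem_coe.mp hg)
      change φ g ∈ j.range
      refine ⟨IsLocalization.mk' B p (⟨D, 1, pow_one D⟩ : Submonoid.powers D), ?_⟩
      have h1 : IsLocalization.mk' B p (⟨D, 1, pow_one D⟩ : Submonoid.powers D) *
          algebraMap R B D = algebraMap R B p :=
        IsLocalization.mk'_spec B p (⟨D, 1, pow_one D⟩ : Submonoid.powers D)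
      have h2 := congrArg j h1
      rw [map_mul, hjalg, hjalg, hp, mul_comm] at h2
      exact mul_left_cancel₀ hDF0 h2
    exact hle a.2
  let e := AlgEquiv.ofInjective j hj
  let ψ₀ : A →ₐ[k] B := (e.symm : j.range →ₐ[k] B).comp ((φ.comp A.val).codRestrict j.range hrange)
  have hψ₀ : ∀ a : A, j (ψ₀ a) = φ a := by
    intro a
    have : (e (ψ₀ a) : F) = φ a := by
      simp only [ψ₀, AlgHom.comp_apply, AlgEquiv.coe_toAlgHom, AlgEquiv.apply_symm_apply]
      rfl
    exact this
  let ψ : A →ₐ[k] RatFunc k := ev.comp ψ₀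
  apply key k K x halg A hAdiv hxA ψ
  -- transcendence of ψ x
  apply RatFunc.transcendental_of_ne_C
  rintro ⟨c', hc'⟩
  have h1 : algebraMap R B D * ψ₀ ⟨x, hxA⟩ = algebraMap R B px := by
    apply hj
    rw [map_mul, hjalg, hjalg, hψ₀, hpx]
  have h2 := congrArg ev h1
  rw [map_mul, hevalg, hevalg] at h2
  change ev (ψ₀ ⟨x, hxA⟩) = RatFunc.C c' at hc'
  rw [hc', ← RatFunc.algebraMap_C, ← map_mul] at h2
  have h3 : lam D * C c' = lam px := IsFractionRing.injective k[X] (RatFunc k) h2
  have h4 := congrArg (Polynomial.eval 0) h3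
  have h5 := congrArg (Polynomial.eval 1) h3
  rw [eval_mul, eval_C, hlam, line_eval_zero, line_eval_zero] at h4
  rw [eval_mul, eval_C, hlam, line_eval_one, line_eval_one] at h5
  have hc'c : c' = c := by
    rw [hc, ← h4]
    field_simp
  rw [hc'c] at h5
  apply hQ1
  rw [← h5, mul_comm]

end Groth.Agent.Helper8.UniLuroth
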