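import Mathlib
import Groth.Prelude
import Groth.Agent.Helper8.DHomK
import Groth.Agent.Helper8.QuotFac
import Groth.Agent.Helper7.GaGmTriv

/-!
# Homomorphisms from a group with a composition series of `𝔾_a`'s to a torus are trivial
-/

set_option autoImplicit false
set_option linter.unusedSectionVars false
set_option linter.style.haveILetI false
set_option linter.unusedVariables false

universe u

open CategoryTheory CategoryTheory.Limits MonoidalCategory CartesianMonoidalCategory MonObj
  AlgebraicGeometry MorphismProperty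

noncomputable section

namespace Groth.Agent.Helper8.UniTorus

open Groth.Agent.Helper8.DSPts Groth.Agent.Helper8.DHomB Groth.Agent.Helper8.DHomC
  Groth.Agent.Helper8.DHomD Groth.Agent.Helper8.DHomJ Groth.Agent.Helper8.DHomK
  Groth.Agent.Helper8.QuotFac

section GaBC

/-- base change of `𝔾_a` -/
def grpGa {U W : Scheme.{u}} (h : W ⟶ U) : Grp.mk (Red.bc h (Red.Ga U)) ≅ Grp.mk (Red.Ga W) :=
  (grpComp (Limits.IsTerminal.from specULiftZIsTerminal U) h Red.GaZ).symm ≪≫
    grpCongr (specULiftZIsTerminal.hom_ext _ _) Red.GaZ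

end GaBC

section Triv

variable {Z : Scheme.{u}}

theorem eq_one_of_trivOn_id {G H : Over Z} [GrpObj G] [GrpObj H] (u : G ⟶ H)
    (h : TrivOn u (𝟙 Z)) : u = 1 := by
  let e : (Over.map (𝟙 Z)).obj G ≅ G := Over.isoMk (Iso.refl _) (by
    change 𝟙 _ ≫ G.hom = G.hom ≫ 𝟙 Z
    rw [Category.id_comp, Category.comp_id])
  have h1 := h G e.hom
  rw [← cancel_epi e.hom, h1, MonObj.comp_one]

/-- homomorphisms from `𝔾_a` to a split torus over a reduced base are trivial -/
theorem ga_split_triv (B : Scheme.{u}) [IsReduced B] (r : ℕ)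
    (v : Red.Ga B ⟶ Red.DS B (Fin r → ℤ)) [IsMonHom v] : v = 1 := by
  apply hom_ext_pts
  intro R _ f' t
  letI := ULift.algebra' ℤ R
  apply chr_injective (Fin r → ℤ) R f'
  refine MonoidHom.ext fun m => ?_
  have h1 : v ≫ Red.DSmap B (zmultiplesHom (Fin r → ℤ) (Multiplicative.toAdd m)) = 1 :=
    Groth.Agent.Helper7.GaGmTriv.main B _
  have h2 := chr_DSmap R f' (zmultiplesHom (Fin r → ℤ) (Multiplicative.toAdd m)) (t ≫ v)
    (Multiplicative.ofAdd (1 : ℤ))
  rw [Category.assoc, h1, MonObj.comp_one, chr_one] at h2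
  rw [MonObj.comp_one, chr_one]
  have h3 : AddMonoidHom.toMultiplicative (zmultiplesHom (Fin r → ℤ) (Multiplicative.toAdd m))
      (Multiplicative.ofAdd (1 : ℤ)) = m := by
    change Multiplicative.ofAdd ((1 : ℤ) • Multiplicative.toAdd m) = m
    rw [_root_.one_smul]
    rfl
  rw [h3] at h2
  exact h2.symm

/-- homomorphisms from `𝔾_a` to a torus over a field are trivial -/
theorem ga_torus_triv (k : Type u) [Field k] (T : Over (Spec (CommRingCat.of k))) [GrpObj T]
    (hT : Red.IsTorus T) (u : Red.Ga (Spec (CommRingCat.of k)) ⟶ T) [IsMonHom u] : u = 1 := by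
  obtain ⟨S', f, hf, hs, hc, hloc⟩ := hT
  haveI := hs
  obtain ⟨y, -⟩ := f.surjective (⊥ : PrimeSpectrum k)
  obtain ⟨U, hyU, r, eTU⟩ := hloc y
  let κ := (U : Scheme.{u}).residueField ⟨y, hyU⟩
  let g : Spec κ ⟶ Spec (CommRingCat.of k) :=
    (U : Scheme.{u}).fromSpecResidueField ⟨y, hyU⟩ ≫ U.ι ≫ f
  obtain ⟨eT⟩ := restrict_triv (U.ι ≫ f) ((U : Scheme.{u}).fromSpecResidueField ⟨y, hyU⟩) g rfl
    T _ eTU
  obtain ⟨hg1, hg2⟩ := flat_surj_of_fields k κ g
  apply eq_one_of_trivOn_id
  apply trivOn_descend u (𝟙 _) g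
  rw [Category.comp_id, trivOn_iff]
  let iT := overIso eT
  let iG := overIso (grpGa g)
  haveI : IsMonHom ((Over.pullback g).map u) := inferInstance
  let v : Red.Ga (Spec κ) ⟶ Red.DS (Spec κ) (Fin r → ℤ) := iG.inv ≫ (Over.pullback g).map u ≫ iT.hom
  haveI : IsMonHom v := inferInstance
  have hv : v = 1 := ga_split_triv (Spec κ) r v
  have h1 : (Over.pullback g).map u = iG.hom ≫ v ≫ iT.inv := by
    change _ = iG.hom ≫ (iG.inv ≫ (Over.pullback g).map u ≫ iT.hom) ≫ iT.inv
    simp only [Category.assoc, Iso.hom_inv_id, Category.comp_id, Iso.hom_inv_id_assoc]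
  rw [h1, hv, MonObj.one_comp, MonObj.comp_one]

end Triv

section Main

variable (k : Type u) [Field k]

theorem main (T U : Over (Spec (CommRingCat.of k))) [GrpObj T] [GrpObj U] (hT : Red.IsTorus T)
    [QuasiCompact U.hom]
    (n : ℕ) (Us : Fin (n + 1) → Over (Spec (CommRingCat.of k))) [∀ i, GrpObj (Us i)]
    (h0 : Red.IsTrivialGrp (Us 0))
    (e : Us (Fin.last n) ≅ U) [IsMonHom e.hom]
    (incl : ∀ i : Fin n, Us i.castSucc ⟶ Us i.succ) [∀ i, IsMonHom (incl i)]
    [∀ i, IsClosedImmersion (incl i).left]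
    (quot : ∀ i : Fin n, Us i.succ ⟶ Red.Ga (Spec (CommRingCat.of k))) [∀ i, IsMonHom (quot i)]
    [∀ i, Surjective (quot i).left] [∀ i, Flat (quot i).left]
    (hker : ∀ i : Fin n, AlgGrp.IsKernel (incl i) (quot i))
    (f : U ⟶ T) [IsMonHom f] : f = 1 := by
  haveI : CompactSpace U.left := (quasiCompact_iff_compactSpace U.hom).mp inferInstance
  haveI : IsAffine (Red.Ga (Spec (CommRingCat.of k))).left := by
    haveI : IsAffine (Red.GaZ.{u}).left := inferInstanceAs (IsAffine (Spec _))
    change IsAffine (pullback (Red.GaZ.{u}).hom _)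
    infer_instance
  have hcomp : ∀ i : Fin (n + 1), CompactSpace (Us i).left := by
    intro i
    induction i using Fin.reverseInduction with
    | last =>
      haveI : IsIso e.hom.left := Groth.Agent.Helper8.DHomE.isIso_left_of_isIso _
      exact QuasiCompact.compactSpace_of_compactSpace e.hom.left
    | cast i ih =>
      haveI := ih
      exact QuasiCompact.compactSpace_of_compactSpace (incl i).left
  have key : ∀ i : Fin (n + 1), ∀ (g : Us i ⟶ T), IsMonHom g → g = 1 := by
    intro i
    induction i using Fin.induction with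
    | zero =>
      intro g hg
      haveI := hg
      haveI : IsIso (Us 0).hom := h0
      have h1 : 𝟙 (Us 0) = toUnit (Us 0) ≫ η[Us 0] := by
        ext1
        rw [← cancel_mono (Us 0).hom, CategoryTheory.Over.w, CategoryTheory.Over.w]
      calc g = 𝟙 (Us 0) ≫ g := (Category.id_comp g).symm
        _ = toUnit (Us 0) ≫ η[Us 0] ≫ g := by rw [h1, Category.assoc]
        _ = toUnit (Us 0) ≫ η[T] := by rw [IsMonHom.one_hom g]
        _ = 1 := Hom.one_def.symm
    | succ i ih =>
      intro g hg
      haveI := hg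
      have h1 : incl i ≫ g = 1 := ih _ inferInstance
      haveI : CompactSpace (Us i.succ).left := hcomp _
      haveI : QuasiCompact (quot i).left := inferInstance
      haveI : EffectiveEpi (quot i).left := inferInstance
      haveI : Epi (quot i ⊗ₘ quot i) := epi_tensorHom _
      obtain ⟨g', hg'1, hg'2⟩ := exists_factor (quot i) g (fun X x hx => by
        have hx' : x ≫ quot i = toUnit X ≫ η := by rw [hx]; exact Hom.one_def
        have h2 : (hker i).lift x (toUnit X) hx' ≫ incl i = x := (hker i).lift_fst _ _ _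
        rw [← h2, Category.assoc, h1, MonObj.comp_one])
      haveI := hg'1
      rw [← hg'2, ga_torus_triv k T hT g', MonObj.comp_one]
  have h2 := key (Fin.last n) (e.hom ≫ f) inferInstance
  rw [← cancel_epi e.hom, h2, MonObj.comp_one]

end Main

end Groth.Agent.Helper8.UniTorus
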