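import Mathlib
import Groth.Prelude.Def_CAlg2
import Groth.Agent.Helper8.Unibr2

set_option autoImplicit false
universe u

namespace Groth.Agent.Helper8.Unibr

open IsLocalRing

theorem s4935 {A B : Type u} [CommRing A] [IsDomain A] [IsLocalRing A] (hA : CAlg2.IsUnibranch A)
    [CommRing B] [IsDomain B] [Algebra A B] (hinj : Function.Injective (algebraMap A B))
    [Algebra.IsIntegral A B] (n : Ideal B) [n.IsPrime]
    (hn : n.comap (algebraMap A B) = IsLocalRing.maximalIdeal A) (p : Ideal A) [p.IsPrime] :
    ∃ q : Ideal B, q.IsPrime ∧ q ≤ n ∧ q.comap (algebraMap A B) = p := by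
  haveI hdom : IsDomain (CAlg2.red A) := hA.1
  have hnil : nilradical A = ⊥ := nilradical_eq_zero A
  let R := CAlg2.red A
  let π : A →+* R := Ideal.Quotient.mk (nilradical A)
  have hπs : Function.Surjective π := Ideal.Quotient.mk_surjective
  have hπi : Function.Injective π := by
    rw [RingHom.injective_iff_ker_eq_bot, Ideal.mk_ker, hnil]
  let f : R →+* B := Ideal.Quotient.lift (nilradical A) (algebraMap A B) (by
    intro a ha
    rw [hnil] at ha
    rw [(Submodule.mem_bot A).mp ha, map_zero])
  letI : Algebra R B := f.toAlgebra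
  have hf : ∀ a : A, algebraMap R B (π a) = algebraMap A B a := fun a => rfl
  haveI : IsScalarTower A R B := IsScalarTower.of_algebraMap_eq (fun a => (hf a).symm)
  have hinjR : Function.Injective (algebraMap R B) := by
    intro x y hxy
    obtain ⟨a, rfl⟩ := hπs x
    obtain ⟨b, rfl⟩ := hπs y
    rw [hf, hf] at hxy
    rw [hinj hxy]
  haveI : Algebra.IsIntegral R B := Algebra.IsIntegral.tower_top (R := A)
  have hcomap : ∀ I : Ideal B, (I.comap (algebraMap R B)).comap π = I.comap (algebraMap A B) := by
    intro I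
    ext a
    simp only [Ideal.mem_comap, hf]
  have hnR : (n.comap (algebraMap R B)).IsMaximal := by
    have h1 : (n.comap (algebraMap R B)).comap π = maximalIdeal A := by rw [hcomap, hn]
    have h2 : (n.comap (algebraMap R B)) = (maximalIdeal A).map π := by
      rw [← h1, Ideal.map_comap_of_surjective π hπs]
    rw [h2]
    exact (Ideal.isMaximal_map_iff_of_bijective π ⟨hπi, hπs⟩).mpr inferInstance
  haveI : (p.map π).IsPrime :=
    Ideal.map_isPrime_of_surjective hπs (by rw [Ideal.mk_ker, hnil]; exact bot_le)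
  obtain ⟨q, hq, hqn, hqp⟩ := lemmaH R (FractionRing R) hA.2 B hinjR n hnR (p.map π)
  refine ⟨q, hq, hqn, ?_⟩
  rw [← hcomap, hqp, Ideal.comap_map_of_surjective π hπs, ← RingHom.ker_eq_comap_bot, Ideal.mk_ker,
    hnil, sup_bot_eq]

end Groth.Agent.Helper8.Unibr
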