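import Mathlib
set_option autoImplicit false
universe u v

namespace Groth.Agent.Helper8.Unip

variable {K : Type u} {V : Type v} [Field K] [AddCommGroup V] [Module K V]

/-- the elements `h - 1` -/
def D (H : Subgroup (V ≃ₗ[K] V)) : Set (Module.End K V) :=
  {e | ∃ h ∈ H, e = ((h : V ≃ₗ[K] V) : Module.End K V) - 1}

/-- list form of unipotence -/
def UL (H : Subgroup (V ≃ₗ[K] V)) (n : ℕ) : Prop :=
  ∀ l : List (Module.End K V), l.length = n → (∀ e ∈ l, e ∈ D H) → l.prod = 0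

theorem UL_of_ofFn (H : Subgroup (V ≃ₗ[K] V)) (n : ℕ)
    (h : ∀ f : Fin n → ↥H,
      (List.ofFn fun i => (((f i : ↥H) : V ≃ₗ[K] V) : Module.End K V) - 1).prod = 0) : UL H n := by
  intro l hl hD
  subst hl
  choose! c hc using hD
  have := h (fun i => ⟨c l[i], (hc l[i] (List.getElem_mem _)).1⟩)
  have h2 : (List.ofFn fun i : Fin l.length => ((c l[i] : V ≃ₗ[K] V) : Module.End K V) - 1) = l := by
    conv_rhs => rw [← List.ofFn_getElem (xs := l)]
    congr 1
    funext i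
    exact ((hc l[i] (List.getElem_mem _)).2).symm
  rw [← h2]
  exact this

theorem ofFn_of_UL (H : Subgroup (V ≃ₗ[K] V)) (n : ℕ) (h : UL H n) (f : Fin n → ↥H) :
    (List.ofFn fun i => (((f i : ↥H) : V ≃ₗ[K] V) : Module.End K V) - 1).prod = 0 := by
  apply h
  · rw [List.length_ofFn]
  · intro e he
    rw [List.mem_ofFn] at he
    obtain ⟨i, rfl⟩ := he
    exact ⟨f i, (f i).2, rfl⟩

/-- the canonical flag -/
def F (H : Subgroup (V ≃ₗ[K] V)) (i : ℕ) : Submodule K V :=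
  Submodule.span K {y | ∃ l : List (Module.End K V), l.length = i ∧ (∀ e ∈ l, e ∈ D H) ∧
    ∃ v : V, y = l.prod v}

theorem F_zero (H : Subgroup (V ≃ₗ[K] V)) : F H 0 = ⊤ := by
  rw [eq_top_iff]
  intro v _
  exact Submodule.subset_span ⟨[], rfl, by simp, v, by simp⟩

theorem F_bot (H : Subgroup (V ≃ₗ[K] V)) (n : ℕ) (h : UL H n) : F H n = ⊥ := by
  rw [eq_bot_iff, F, Submodule.span_le]
  rintro y ⟨l, hl, hD, v, rfl⟩
  rw [h l hl hD]
  simp

theorem F_step (H : Subgroup (V ≃ₗ[K] V)) (i : ℕ) (e : Module.End K V) (he : e ∈ D H) (w : V)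
    (hw : w ∈ F H i) : e w ∈ F H (i + 1) := by
  induction hw using Submodule.span_induction with
  | mem y hy =>
    obtain ⟨l, hl, hD, v, rfl⟩ := hy
    refine Submodule.subset_span ⟨e :: l, by simp [hl], ?_, v, by simp⟩
    intro e' he'
    rcases List.mem_cons.1 he' with rfl | h
    · exact he
    · exact hD e' h
  | zero => rw [map_zero]; exact Submodule.zero_mem _
  | add x y _ _ hx hy => rw [map_add]; exact Submodule.add_mem _ hx hy
  | smul a x _ hx => rw [map_smul]; exact Submodule.smul_mem _ _ hx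

theorem F_anti (H : Subgroup (V ≃ₗ[K] V)) (i : ℕ) : F H (i + 1) ≤ F H i := by
  rw [F, Submodule.span_le]
  rintro y ⟨l, hl, hD, v, rfl⟩
  have hne : l ≠ [] := by
    intro h; rw [h] at hl; simp at hl
  obtain ⟨l', e, rfl⟩ := List.eq_nil_or_concat' l |>.resolve_left hne
  refine Submodule.subset_span ⟨l', by simpa using hl, fun e' he' => hD e' (by simp [he']), e v, ?_⟩
  simp [List.prod_append]


section Main
variable (H₁ H₂ : Subgroup (V ≃ₗ[K] V)) (hnorm : ∀ g ∈ H₂, ∀ h ∈ H₁, g * h * g⁻¹ ∈ H₁)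

include hnorm in
theorem conj_prod (g : V ≃ₗ[K] V) (hg : g ∈ H₂) (l : List (Module.End K V))
    (hD : ∀ e ∈ l, e ∈ D H₁) :
    ∃ l' : List (Module.End K V), l'.length = l.length ∧ (∀ e ∈ l', e ∈ D H₁) ∧
      ∀ v : V, g (l.prod v) = l'.prod (g v) := by
  induction l with
  | nil => exact ⟨[], rfl, by simp, fun v => by simp⟩
  | cons e l ih =>
    obtain ⟨l', hl', hD', h'⟩ := ih (fun e' he' => hD e' (List.mem_cons_of_mem _ he'))
    obtain ⟨h, hh, rfl⟩ := hD e List.mem_cons_self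
    refine ⟨(((g * h * g⁻¹ : V ≃ₗ[K] V) : Module.End K V) - 1) :: l', by simp [hl'], ?_, ?_⟩
    · intro e' he'
      rcases List.mem_cons.1 he' with rfl | h''
      · exact ⟨_, hnorm g hg h hh, rfl⟩
      · exact hD' e' h''
    · intro v
      simp only [List.prod_cons, Module.End.mul_apply, LinearMap.sub_apply, LinearEquiv.coe_coe,
        Module.End.one_apply, map_sub]
      rw [h' v]
      congr 1
      change g (h (l.prod v)) = g (h (g⁻¹ (l'.prod (g v))))
      rw [← h' v]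
      congr 2
      exact (LinearEquiv.symm_apply_apply g _).symm

include hnorm in
theorem F_stable (g : V ≃ₗ[K] V) (hg : g ∈ H₂) (i : ℕ) (w : V) (hw : w ∈ F H₁ i) :
    g w ∈ F H₁ i := by
  induction hw using Submodule.span_induction with
  | mem y hy =>
    obtain ⟨l, hl, hD, v, rfl⟩ := hy
    obtain ⟨l', hl', hD', h'⟩ := conj_prod H₁ H₂ hnorm g hg l hD
    exact Submodule.subset_span ⟨l', hl'.trans hl, hD', g v, h' v⟩
  | zero => rw [map_zero]; exact Submodule.zero_mem _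
  | add x y _ _ hx hy => rw [map_add]; exact Submodule.add_mem _ hx hy
  | smul a x _ hx => rw [map_smul]; exact Submodule.smul_mem _ _ hx

theorem F_stable₁ (h : V ≃ₗ[K] V) (hh : h ∈ H₁) (i : ℕ) (w : V) (hw : w ∈ F H₁ i) :
    h w ∈ F H₁ i := by
  have h1 : (((h : V ≃ₗ[K] V) : Module.End K V) - 1) w ∈ F H₁ (i + 1) :=
    F_step H₁ i _ ⟨h, hh, rfl⟩ w hw
  have h2 : h w = (((h : V ≃ₗ[K] V) : Module.End K V) - 1) w + w := by
    simp
  rw [h2]
  exact Submodule.add_mem _ (F_anti H₁ i h1) hw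

/-- the property defining the auxiliary subgroup -/
def P (x : V ≃ₗ[K] V) : Prop :=
  ∃ g ∈ H₂, ∀ i, (∀ w ∈ F H₁ i, x w - g w ∈ F H₁ (i + 1)) ∧ (∀ w ∈ F H₁ i, x w ∈ F H₁ i) ∧
    (∀ w ∈ F H₁ i, x⁻¹ w ∈ F H₁ i)

include hnorm in
theorem P_of_sup (x : V ≃ₗ[K] V) (hx : x ∈ H₁ ⊔ H₂) : P H₁ H₂ x := by
  let S : Subgroup (V ≃ₗ[K] V) :=
    { carrier := {x | P H₁ H₂ x}
      one_mem' := ⟨1, H₂.one_mem, fun i => ⟨fun w _ => by simp, fun w hw => hw, fun w hw => by simpa using hw⟩⟩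
      mul_mem' := by
        rintro x y ⟨g, hg, hx⟩ ⟨g', hg', hy⟩
        refine ⟨g * g', H₂.mul_mem hg hg', fun i => ⟨fun w hw => ?_, fun w hw => ?_, fun w hw => ?_⟩⟩
        · have e1 : (x * y) w - (g * g') w = (x (y w - g' w)) + (x (g' w) - g (g' w)) := by
            change x (y w) - g (g' w) = _
            rw [map_sub]; abel
          rw [e1]
          refine Submodule.add_mem _ ?_ ?_
          · exact (hx (i + 1)).2.1 _ ((hy i).1 w hw)
          · exact (hx i).1 _ (F_stable H₁ H₂ hnorm g' hg' i w hw)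
        · exact (hx i).2.1 _ ((hy i).2.1 w hw)
        · rw [mul_inv_rev]
          exact (hy i).2.2 _ ((hx i).2.2 w hw)
      inv_mem' := by
        rintro x ⟨g, hg, hx⟩
        refine ⟨g⁻¹, H₂.inv_mem hg, fun i => ⟨fun w hw => ?_, fun w hw => (hx i).2.2 w hw,
          fun w hw => by rw [inv_inv]; exact (hx i).2.1 w hw⟩⟩
        have hgw : g⁻¹ w ∈ F H₁ i := F_stable H₁ H₂ hnorm g⁻¹ (H₂.inv_mem hg) i w hw
        have e1 : x⁻¹ w - g⁻¹ w = -(x⁻¹ (x (g⁻¹ w) - g (g⁻¹ w))) := by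
          rw [map_sub]
          have h1 : x⁻¹ (x (g⁻¹ w)) = g⁻¹ w := LinearEquiv.symm_apply_apply x _
          have h2 : g (g⁻¹ w) = w := LinearEquiv.apply_symm_apply g _
          rw [h1, h2]; abel
        rw [e1]
        exact Submodule.neg_mem _ ((hx (i + 1)).2.2 _ ((hx i).1 _ hgw)) }
  have h1 : H₁ ≤ S := by
    intro h hh
    refine ⟨1, H₂.one_mem, fun i => ⟨fun w hw => ?_, fun w hw => F_stable₁ H₁ h hh i w hw,
      fun w hw => F_stable₁ H₁ h⁻¹ (H₁.inv_mem hh) i w hw⟩⟩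
    have := F_step H₁ i _ ⟨h, hh, rfl⟩ w hw
    simpa using this
  have h2 : H₂ ≤ S := by
    intro g hg
    refine ⟨g, hg, fun i => ⟨fun w hw => by simp, fun w hw => F_stable H₁ H₂ hnorm g hg i w hw,
      fun w hw => F_stable H₁ H₂ hnorm g⁻¹ (H₂.inv_mem hg) i w hw⟩⟩
  exact (sup_le h1 h2) hx


include hnorm in
theorem heart (l : List (Module.End K V)) (hD : ∀ e ∈ l, e ∈ D (H₁ ⊔ H₂)) :
    ∃ l' : List (Module.End K V), l'.length = l.length ∧ (∀ e ∈ l', e ∈ D H₂) ∧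
      ∀ i, (∀ w ∈ F H₁ i, l.prod w - l'.prod w ∈ F H₁ (i + 1)) ∧ (∀ w ∈ F H₁ i, l.prod w ∈ F H₁ i) ∧
        (∀ w ∈ F H₁ i, l'.prod w ∈ F H₁ i) := by
  induction l with
  | nil => exact ⟨[], rfl, by simp, fun i => ⟨fun w _ => by simp, fun w hw => by simpa using hw,
      fun w hw => by simpa using hw⟩⟩
  | cons e l ih =>
    obtain ⟨l', hl', hD', h'⟩ := ih (fun e' he' => hD e' (List.mem_cons_of_mem _ he'))
    obtain ⟨x, hx, rfl⟩ := hD e List.mem_cons_self
    obtain ⟨g, hg, hP⟩ := P_of_sup H₁ H₂ hnorm x hx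
    refine ⟨(((g : V ≃ₗ[K] V) : Module.End K V) - 1) :: l', by simp [hl'], ?_, fun i => ⟨?_, ?_, ?_⟩⟩
    · intro e' he'
      rcases List.mem_cons.1 he' with rfl | h''
      · exact ⟨g, hg, rfl⟩
      · exact hD' e' h''
    · intro w hw
      simp only [List.prod_cons, Module.End.mul_apply, LinearMap.sub_apply, LinearEquiv.coe_coe,
        Module.End.one_apply]
      have e1 : x (l.prod w) - l.prod w - (g (l'.prod w) - l'.prod w) =
          (x (l.prod w) - g (l.prod w)) + (g (l.prod w - l'.prod w) - (l.prod w - l'.prod w)) := by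
        rw [map_sub]; abel
      rw [e1]
      refine Submodule.add_mem _ ((hP i).1 _ ((h' i).2.1 w hw)) (Submodule.sub_mem _ ?_ ((h' i).1 w hw))
      exact F_stable H₁ H₂ hnorm g hg (i + 1) _ ((h' i).1 w hw)
    · intro w hw
      simp only [List.prod_cons, Module.End.mul_apply, LinearMap.sub_apply, LinearEquiv.coe_coe,
        Module.End.one_apply]
      exact Submodule.sub_mem _ ((hP i).2.1 _ ((h' i).2.1 w hw)) ((h' i).2.1 w hw)
    · intro w hw
      simp only [List.prod_cons, Module.End.mul_apply, LinearMap.sub_apply, LinearEquiv.coe_coe,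
        Module.End.one_apply]
      exact Submodule.sub_mem _ (F_stable H₁ H₂ hnorm g hg i _ ((h' i).2.2 w hw)) ((h' i).2.2 w hw)

include hnorm in
theorem block (n₂ : ℕ) (h₂ : UL H₂ n₂) (l : List (Module.End K V)) (hl : l.length = n₂)
    (hD : ∀ e ∈ l, e ∈ D (H₁ ⊔ H₂)) (i : ℕ) (w : V) (hw : w ∈ F H₁ i) :
    l.prod w ∈ F H₁ (i + 1) := by
  obtain ⟨l', hl', hD', h'⟩ := heart H₁ H₂ hnorm l hD
  have h0 : l'.prod = 0 := h₂ l' (hl'.trans hl) hD'
  have := (h' i).1 w hw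
  rwa [h0, LinearMap.zero_apply, sub_zero] at this

include hnorm in
theorem blocks (n₂ : ℕ) (h₂ : UL H₂ n₂) (i : ℕ) : ∀ (l : List (Module.End K V)),
    l.length = i * n₂ → (∀ e ∈ l, e ∈ D (H₁ ⊔ H₂)) → ∀ v : V, l.prod v ∈ F H₁ i := by
  induction i with
  | zero => intro l _ _ v; rw [F_zero]; trivial
  | succ i ih =>
    intro l hl hD v
    have hsplit : l = l.take n₂ ++ l.drop n₂ := (List.take_append_drop n₂ l).symm
    have hlt : (l.take n₂).length = n₂ := by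
      rw [List.length_take, hl]
      apply min_eq_left
      rw [Nat.succ_mul]; omega
    have hld : (l.drop n₂).length = i * n₂ := by
      rw [List.length_drop, hl, Nat.succ_mul]; omega
    rw [hsplit, List.prod_append, Module.End.mul_apply]
    apply block H₁ H₂ hnorm n₂ h₂ _ hlt (fun e he => hD e (List.mem_of_mem_take he))
    exact ih _ hld (fun e he => hD e (List.mem_of_mem_drop he)) v

include hnorm in
theorem main_UL (n₁ n₂ : ℕ) (h₁ : UL H₁ n₁) (h₂ : UL H₂ n₂) : UL (H₁ ⊔ H₂) (n₁ * n₂) := by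
  intro l hl hD
  apply LinearMap.ext
  intro v
  have := blocks H₁ H₂ hnorm n₂ h₂ n₁ l hl hD v
  rw [F_bot H₁ n₁ h₁, Submodule.mem_bot] at this
  rw [this, LinearMap.zero_apply]

include hnorm in
theorem main
    (h₁ : ∃ n : ℕ, ∀ f : Fin n → ↥H₁,
      (List.ofFn fun i => (((f i : ↥H₁) : V ≃ₗ[K] V) : Module.End K V) - 1).prod = 0)
    (h₂ : ∃ n : ℕ, ∀ f : Fin n → ↥H₂,
      (List.ofFn fun i => (((f i : ↥H₂) : V ≃ₗ[K] V) : Module.End K V) - 1).prod = 0) :
    ∃ n : ℕ, ∀ f : Fin n → ↥(H₁ ⊔ H₂),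
      (List.ofFn fun i => (((f i : ↥(H₁ ⊔ H₂)) : V ≃ₗ[K] V) : Module.End K V) - 1).prod = 0 := by
  obtain ⟨n₁, h₁⟩ := h₁
  obtain ⟨n₂, h₂⟩ := h₂
  exact ⟨n₁ * n₂, ofFn_of_UL _ _ (main_UL H₁ H₂ hnorm n₁ n₂ (UL_of_ofFn _ _ h₁) (UL_of_ofFn _ _ h₂))⟩

end Main
end Groth.Agent.Helper8.Unip
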