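import Mathlib
import Groth.Prelude.Def_CAlgX

namespace Groth.Agent.Helper8.UnivInj

open TensorProduct LinearMap

universe u

variable {R M N : Type u} [CommRing R] [AddCommGroup M]
    [Module R M] [AddCommGroup N] [Module R N] (f : M →ₗ[R] N)

/-- Step A: finitely presented test modules suffice for finitely generated ones. -/
theorem stepA (H : ∀ (Q : Type u) [AddCommGroup Q] [Module R Q], Module.FinitePresentation R Q →
        Function.Injective (f.lTensor Q))
    (Q : Type u) [AddCommGroup Q] [Module R Q] [Module.Finite R Q] :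
    Function.Injective (f.lTensor Q) := by
  obtain ⟨n, π, hπ⟩ := Module.Finite.exists_fin' R Q
  rw [injective_iff_map_eq_zero]
  intro z hz
  obtain ⟨z₁, rfl⟩ := LinearMap.rTensor_surjective M hπ z
  -- (F ⊗ f) z₁ maps to zero in Q ⊗ N
  have h1 : (π.rTensor N) ((f.lTensor (Fin n → R)) z₁) = 0 := by
    rw [← LinearMap.comp_apply, LinearMap.rTensor_comp_lTensor, ← LinearMap.lTensor_comp_rTensor,
      LinearMap.comp_apply, hz]
  have hex : Function.Exact ((LinearMap.ker π).subtype.rTensor N) (π.rTensor N) :=
    rTensor_exact N (LinearMap.exact_subtype_ker_map π) hπ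
  obtain ⟨w, hw⟩ := (hex _).mp h1
  obtain ⟨K', hK', w', hw'⟩ := TensorProduct.exists_of_fg (N := N) w
  set K'' : Submodule R (Fin n → R) := K'.map (LinearMap.ker π).subtype with hK''
  have hK''fg : K''.FG := hK'.map _
  have hK''le : K'' ≤ LinearMap.ker π := by
    rintro x ⟨y, -, rfl⟩
    exact y.2
  have hfp : Module.FinitePresentation R ((Fin n → R) ⧸ K'') :=
    Module.finitePresentation_of_free_of_surjective K''.mkQ K''.mkQ_surjective
      (by rw [Submodule.ker_mkQ]; exact hK''fg)
  have hinj := H _ hfp
  have hz' : (K''.mkQ.rTensor M) z₁ = 0 := by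
    apply hinj
    rw [map_zero, ← LinearMap.comp_apply, LinearMap.lTensor_comp_rTensor,
      ← LinearMap.rTensor_comp_lTensor, LinearMap.comp_apply, ← hw, ← hw',
      ← LinearMap.comp_apply, ← LinearMap.comp_apply, ← LinearMap.rTensor_comp,
      ← LinearMap.rTensor_comp]
    have : (K''.mkQ ∘ₗ (LinearMap.ker π).subtype) ∘ₗ K'.subtype = 0 := by
      ext x
      simp only [LinearMap.comp_apply, Submodule.subtype_apply, Submodule.mkQ_apply,
        LinearMap.zero_apply, Submodule.Quotient.mk_eq_zero]
      exact ⟨x.1, x.2, rfl⟩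
    rw [this, LinearMap.rTensor_zero, LinearMap.zero_apply]
  have hfac : π = (K''.liftQ π hK''le) ∘ₗ K''.mkQ := by
    ext x; simp
  rw [hfac, LinearMap.rTensor_comp, LinearMap.comp_apply, hz', map_zero]

/-- Step B: finitely generated test modules suffice. -/
theorem stepB (H : ∀ (Q : Type u) [AddCommGroup Q] [Module R Q], Module.Finite R Q →
        Function.Injective (f.lTensor Q))
    (Q : Type u) [AddCommGroup Q] [Module R Q] :
    Function.Injective (f.lTensor Q) := by
  rw [injective_iff_map_eq_zero]
  intro z hz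
  obtain ⟨P, hP, t, rfl⟩ := TensorProduct.exists_of_fg (N := M) z
  have h1 : (P.subtype.rTensor N) ((f.lTensor P) t) = 0 := by
    rw [← LinearMap.comp_apply, LinearMap.rTensor_comp_lTensor, ← LinearMap.lTensor_comp_rTensor,
      LinearMap.comp_apply, hz]
  obtain ⟨Q', hPQ, hQ', h2⟩ := TensorProduct.eq_zero_of_fg_of_subtype_eq_zero hP h1
  have hfin : Module.Finite R Q' := Module.Finite.iff_fg.mpr hQ'
  have hinj := H Q' hfin
  have h3 : ((Submodule.inclusion hPQ).rTensor M) t = 0 := by
    apply hinj
    rw [map_zero, ← LinearMap.comp_apply, LinearMap.lTensor_comp_rTensor,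
      ← LinearMap.rTensor_comp_lTensor, LinearMap.comp_apply, h2]
  have hfac : P.subtype = Q'.subtype ∘ₗ Submodule.inclusion hPQ := by
    ext x; simp
  rw [hfac, LinearMap.rTensor_comp, LinearMap.comp_apply, h3, map_zero]

theorem main :
    CAlgX.UniversallyInjective R f ↔
      ∀ (Q : Type u) [AddCommGroup Q] [Module R Q], Module.FinitePresentation R Q →
        Function.Injective (f.rTensor Q) := by
  constructor
  · intro h Q _ _ _
    exact h Q
  · intro H Q _ _
    rw [← LinearMap.lTensor_inj_iff_rTensor_inj]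
    apply stepB f
    intro Q' _ _ hfin
    apply stepA f
    intro Q'' _ _ hfp
    rw [LinearMap.lTensor_inj_iff_rTensor_inj]
    exact H Q'' hfp

end Groth.Agent.Helper8.UnivInj
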