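import Mathlib
import Groth.Prelude.Def_CAlgX
import Groth.Agent.Helper8.UnivInj

namespace Groth.Agent.Helper8.UnivInjEq

open TensorProduct LinearMap

universe u

variable {R : Type u} [CommRing R]

/-- coordinates on `M ⊗ Rⁿ` -/
noncomputable abbrev co (M : Type u) [AddCommGroup M] [Module R M] (n : ℕ) :
    M ⊗[R] (Fin n → R) ≃ₗ[R] (Fin n → M) :=
  TensorProduct.piScalarRight R R M (Fin n)

lemma co_tmul (M : Type u) [AddCommGroup M] [Module R M] (n : ℕ) (x : M) (v : Fin n → R) :
    co (R := R) M n (x ⊗ₜ v) = fun j => v j • x := by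
  simp [co]

lemma co_rTensor {M₁ M₂ : Type u} [AddCommGroup M₁] [Module R M₁] [AddCommGroup M₂] [Module R M₂]
    (f : M₁ →ₗ[R] M₂) (n : ℕ) (ξ : M₁ ⊗[R] (Fin n → R)) :
    co (R := R) M₂ n (f.rTensor _ ξ) = fun i => f (co (R := R) M₁ n ξ i) := by
  induction ξ using TensorProduct.induction_on with
  | zero => simp; rfl
  | tmul x v =>
    rw [LinearMap.rTensor_tmul, co_tmul, co_tmul]
    funext i
    simp
  | add a b ha hb =>
    rw [map_add, map_add, ha, hb, map_add]
    funext i
    simp

lemma co_lTensor {M : Type u} [AddCommGroup M] [Module R M] (n m : ℕ)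
    (g : (Fin m → R) →ₗ[R] (Fin n → R)) (ζ : M ⊗[R] (Fin m → R)) :
    co (R := R) M n (g.lTensor M ζ) = fun i => ∑ j, g (Pi.single j 1) i • co (R := R) M m ζ j := by
  induction ζ using TensorProduct.induction_on with
  | zero => simp; rfl
  | tmul x v =>
    rw [LinearMap.lTensor_tmul, co_tmul, co_tmul]
    funext i
    have hv : v = ∑ j, v j • (Pi.single j (1 : R) : Fin m → R) := by
      funext k
      simp [Finset.sum_apply, Pi.single_apply]
    conv_lhs => rw [hv]
    rw [map_sum, Finset.sum_apply, Finset.sum_smul]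
    refine Finset.sum_congr rfl fun j _ => ?_
    rw [map_smul, Pi.smul_apply, smul_eq_mul, smul_smul, mul_comm]
  | add a b ha hb =>
    rw [map_add, map_add, ha, hb, map_add]
    funext i
    simp [smul_add, Finset.sum_add_distrib]

theorem main {M₁ M₂ : Type u} [AddCommGroup M₁]
    [Module R M₁] [AddCommGroup M₂] [Module R M₂] (f : M₁ →ₗ[R] M₂) :
    CAlgX.UniversallyInjective R f ↔
      ∀ (n m : ℕ) (x : Fin n → M₁) (y : Fin m → M₂) (a : Fin n → Fin m → R),
        (∀ i, f (x i) = ∑ j, a i j • y j) → ∃ z : Fin m → M₁, ∀ i, x i = ∑ j, a i j • z j := by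
  constructor
  · intro h n m x y a hxy
    set g : (Fin m → R) →ₗ[R] (Fin n → R) := Matrix.mulVecLin (Matrix.of a) with hg
    have hga : ∀ i j, g (Pi.single j 1) i = a i j := by
      intro i j
      simp [hg]
    set π := (LinearMap.range g).mkQ with hπ
    have hex : Function.Exact g π := LinearMap.exact_map_mkQ_range g
    have hsurj : Function.Surjective π := Submodule.mkQ_surjective _
    have hex1 : Function.Exact (g.lTensor M₁) (π.lTensor M₁) := lTensor_exact (R := R) M₁ hex hsurj
    have hex2 : Function.Exact (g.lTensor M₂) (π.lTensor M₂) := lTensor_exact (R := R) M₂ hex hsurj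
    set ξ := (co (R := R) M₁ n).symm x with hξ
    set η := (co (R := R) M₂ m).symm y with hη
    have h1 : f.rTensor _ ξ = g.lTensor M₂ η := by
      apply (co (R := R) M₂ n).injective
      rw [co_rTensor, co_lTensor]
      funext i
      simp only [hξ, hη, LinearEquiv.apply_symm_apply, hga]
      exact hxy i
    have h2 : π.lTensor M₁ ξ = 0 := by
      apply h _
      rw [map_zero, ← LinearMap.comp_apply, LinearMap.rTensor_comp_lTensor,
        ← LinearMap.lTensor_comp_rTensor, LinearMap.comp_apply, h1]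
      exact (hex2 _).mpr ⟨η, rfl⟩
    obtain ⟨ζ, hζ⟩ := (hex1 _).mp h2
    refine ⟨co (R := R) M₁ m ζ, fun i => ?_⟩
    have := congrFun (co_lTensor n m g ζ) i
    rw [hζ, hξ, LinearEquiv.apply_symm_apply] at this
    rw [this]
    simp only [hga]
  · intro H
    rw [UnivInj.main]
    intro Q _ _ hfp
    obtain ⟨n, m, π, g, hπ, hex⟩ := Module.FinitePresentation.exists_fin' R Q
    have hex1 : Function.Exact (g.lTensor M₁) (π.lTensor M₁) := lTensor_exact (R := R) M₁ hex hπ
    have hex2 : Function.Exact (g.lTensor M₂) (π.lTensor M₂) := lTensor_exact (R := R) M₂ hex hπ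
    rw [injective_iff_map_eq_zero]
    intro w hw
    obtain ⟨ξ, rfl⟩ := LinearMap.lTensor_surjective M₁ hπ w
    have h1 : π.lTensor M₂ (f.rTensor _ ξ) = 0 := by
      rw [← LinearMap.comp_apply, LinearMap.lTensor_comp_rTensor,
        ← LinearMap.rTensor_comp_lTensor, LinearMap.comp_apply, hw]
    obtain ⟨η, hη⟩ := (hex2 _).mp h1
    have h2 : ∀ i, f (co (R := R) M₁ n ξ i) = ∑ j, g (Pi.single j 1) i • co (R := R) M₂ m η j := by
      intro i
      have e1 := congrFun (co_rTensor f n ξ) i
      have e2 := congrFun (co_lTensor n m g η) i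
      rw [← e1, ← hη, e2]
    obtain ⟨z, hz⟩ := H n m (co (R := R) M₁ n ξ) (co (R := R) M₂ m η) (fun i j => g (Pi.single j 1) i) h2
    have h3 : ξ = g.lTensor M₁ ((co (R := R) M₁ m).symm z) := by
      apply (co (R := R) M₁ n).injective
      rw [co_lTensor]
      funext i
      rw [hz i, LinearEquiv.apply_symm_apply]
    rw [h3]
    exact (hex1 _).mpr ⟨_, rfl⟩

end Groth.Agent.Helper8.UnivInjEq
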