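import Mathlib
import Groth.Prelude.Def_CAlgX

namespace Groth.Agent.Helper8.UnivInjLoc

open TensorProduct LinearMap

universe u

section general
variable {R A M P Q : Type*} [CommRing R] [CommRing A] [Algebra R A]
  [AddCommGroup M] [Module A M] [Module R M] [IsScalarTower R A M]
  [AddCommGroup P] [Module A P] [Module R P] [IsScalarTower R A P]
  [AddCommGroup Q] [Module R Q]

lemma atm_rTensor_apply (v : M →ₗ[A] P) (z : M ⊗[R] Q) :
    (AlgebraTensorModule.rTensor R Q v) z = ((v.restrictScalars R).rTensor Q) z := by
  induction z using TensorProduct.induction_on with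
  | zero => simp
  | tmul x q => simp
  | add a b ha hb => rw [map_add, map_add, ha, hb]

lemma atm_rTensor_injective_iff (v : M →ₗ[A] P) :
    Function.Injective (AlgebraTensorModule.rTensor R Q v) ↔
      Function.Injective ((v.restrictScalars R).rTensor Q) := by
  have : ⇑(AlgebraTensorModule.rTensor R Q v) = ⇑((v.restrictScalars R).rTensor Q) :=
    funext (atm_rTensor_apply v)
  rw [this]

end general

variable {R S M M' : Type u} [CommRing R] [CommRing S] [Algebra R S]
    [AddCommGroup M] [Module S M] [Module R M] [IsScalarTower R S M] [AddCommGroup M'] [Module S M']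
    [Module R M'] [IsScalarTower R S M']

/-- the localized map as an `S`-linear map -/
noncomputable abbrev um (u : M →ₗ[S] M') (m : Ideal S) [m.IsMaximal] :
    LocalizedModule m.primeCompl M →ₗ[S] LocalizedModule m.primeCompl M' :=
  (LocalizedModule.map m.primeCompl u).restrictScalars S

lemma map_eq (u : M →ₗ[S] M') (m : Ideal S) [m.IsMaximal] (Q : Type u) [AddCommGroup Q]
    [Module R Q] :
    IsLocalizedModule.map m.primeCompl
      (AlgebraTensorModule.rTensor R Q (LocalizedModule.mkLinearMap m.primeCompl M))
      (AlgebraTensorModule.rTensor R Q (LocalizedModule.mkLinearMap m.primeCompl M'))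
      (AlgebraTensorModule.rTensor R Q u) =
    AlgebraTensorModule.rTensor R Q (um u m) := by
  apply IsLocalizedModule.linearMap_ext m.primeCompl
    (AlgebraTensorModule.rTensor R Q (LocalizedModule.mkLinearMap m.primeCompl M))
    (AlgebraTensorModule.rTensor R Q (LocalizedModule.mkLinearMap m.primeCompl M'))
  rw [IsLocalizedModule.map_comp]
  ext x q
  simp [um, LocalizedModule.map_mk]

theorem main (u : M →ₗ[S] M') :
    CAlgX.UniversallyInjective R (u.restrictScalars R) ↔
      ∀ (m : Ideal S) [m.IsMaximal],
        CAlgX.UniversallyInjective R ((LocalizedModule.map m.primeCompl u).restrictScalars R) := by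
  constructor
  · intro h m _ Q _ _
    have h1 : Function.Injective (AlgebraTensorModule.rTensor R Q u) :=
      (atm_rTensor_injective_iff u).mpr (h Q)
    have h2 := IsLocalizedModule.map_injective m.primeCompl
      (AlgebraTensorModule.rTensor R Q (LocalizedModule.mkLinearMap m.primeCompl M))
      (AlgebraTensorModule.rTensor R Q (LocalizedModule.mkLinearMap m.primeCompl M')) _ h1
    rw [map_eq, atm_rTensor_injective_iff] at h2
    exact h2
  · intro h Q _ _
    rw [← atm_rTensor_injective_iff (A := S)]
    apply injective_of_isLocalized_maximal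
      (fun (m : Ideal S) _ => LocalizedModule m.primeCompl M ⊗[R] Q)
      (fun m _ => AlgebraTensorModule.rTensor R Q (LocalizedModule.mkLinearMap m.primeCompl M))
      (fun (m : Ideal S) _ => LocalizedModule m.primeCompl M' ⊗[R] Q)
      (fun m _ => AlgebraTensorModule.rTensor R Q (LocalizedModule.mkLinearMap m.primeCompl M'))
    intro m _
    rw [map_eq, atm_rTensor_injective_iff]
    exact h m Q

end Groth.Agent.Helper8.UnivInjLoc
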