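import Mathlib

namespace Groth.Agent.Helper8.UnramFin

open Polynomial

universe u

variable (k A : Type u) [Field k] [CommRing A] [Algebra k A]

/-- In a reduced Artinian ring, an element vanishing in all residue fields is zero. -/
theorem eq_zero_of_forall_mk_eq_zero [IsArtinianRing A] [IsReduced A] (a : A)
    (h : ∀ m : MaximalSpectrum A, Ideal.Quotient.mk m.asIdeal a = 0) : a = 0 := by
  apply (IsArtinianRing.equivPi A).injective
  rw [map_zero]
  funext m
  exact h m

theorem forward [Algebra.FiniteType k A] [Algebra.FormallyUnramified k A] :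
    Module.Finite k A ∧ Algebra.IsSeparable k A := by
  have hfin : Module.Finite k A := Algebra.FormallyUnramified.finite_of_free k A
  refine ⟨hfin, ?_⟩
  have hE : Algebra.FormallyEtale k A := Algebra.FormallyEtale.of_formallyUnramified_of_field k A
  have hArt : IsArtinianRing A := isArtinian_of_tower k inferInstance
  have hRed := Algebra.FormallyUnramified.isReduced_of_field k A
  constructor
  intro x
  classical
  let _ : ∀ m : MaximalSpectrum A, Field (A ⧸ m.asIdeal) := fun m => Ideal.Quotient.field m.asIdeal
  let q : MaximalSpectrum A → k[X] := fun m => minpoly k (Ideal.Quotient.mk m.asIdeal x)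
  have hfinS : (Set.range q).Finite := Set.finite_range q
  let S : Finset k[X] := hfinS.toFinset
  have hint : ∀ m : MaximalSpectrum A, IsIntegral k (Ideal.Quotient.mk m.asIdeal x) :=
    fun m => Algebra.IsIntegral.isIntegral _
  have hsep : (∏ p ∈ S, p).Separable := by
    have := separable_prod' (f := fun p : k[X] => p) (s := S) ?_ ?_
    · exact this
    · intro p hp p' hp' hne
      rw [Set.Finite.mem_toFinset] at hp hp'
      obtain ⟨m, rfl⟩ := hp
      obtain ⟨m', rfl⟩ := hp'
      have hirr : Irreducible (q m) := minpoly.irreducible (hint m)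
      have hirr' : Irreducible (q m') := minpoly.irreducible (hint m')
      rw [hirr.coprime_iff_not_dvd]
      intro hdvd
      apply hne
      exact eq_of_monic_of_associated (minpoly.monic (hint m)) (minpoly.monic (hint m'))
        (hirr.associated_of_dvd hirr' hdvd)
    · intro p hp
      rw [Set.Finite.mem_toFinset] at hp
      obtain ⟨m, rfl⟩ := hp
      exact Algebra.IsSeparable.isSeparable k (Ideal.Quotient.mk m.asIdeal x)
  have hzero : aeval x (∏ p ∈ S, p) = 0 := by
    apply eq_zero_of_forall_mk_eq_zero
    intro m
    have h1 : Ideal.Quotient.mk m.asIdeal (aeval x (∏ p ∈ S, p)) =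
        aeval (Ideal.Quotient.mk m.asIdeal x) (∏ p ∈ S, p) := by
      have := Polynomial.aeval_algHom_apply (Ideal.Quotient.mkₐ k m.asIdeal) x (∏ p ∈ S, p)
      exact this.symm
    rw [h1]
    have hmem : q m ∈ S := by
      rw [Set.Finite.mem_toFinset]; exact ⟨m, rfl⟩
    obtain ⟨c, hc⟩ := Finset.dvd_prod_of_mem (fun p : k[X] => p) hmem
    rw [hc, map_mul, minpoly.aeval, zero_mul]
  exact hsep.of_dvd (minpoly.dvd k x hzero)

theorem backward [Module.Finite k A] [Algebra.IsSeparable k A] :
    Algebra.FormallyUnramified k A := by
  have hArt : IsArtinianRing A := isArtinian_of_tower k inferInstance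
  have hRed : IsReduced A := by
    constructor
    intro x hx
    obtain ⟨n, hn⟩ := hx
    rcases subsingleton_or_nontrivial A with hA | hA
    · exact Subsingleton.elim _ _
    have hsep : (minpoly k x).Separable := Algebra.IsSeparable.isSeparable k x
    have hdvd : minpoly k x ∣ X ^ n := by
      apply minpoly.dvd
      simp [hn]
    have hn0 : n ≠ 0 := by
      rintro rfl
      rw [pow_zero] at hdvd
      exact minpoly.not_isUnit k x (isUnit_of_dvd_one hdvd)
    have hdvd' : minpoly k x ∣ X :=
      (hsep.squarefree.dvd_pow_iff_dvd hn0).mp hdvd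
    have := (minpoly.dvd_iff (x := x) (p := X)).mp hdvd'
    simpa using this
  let _ : ∀ m : MaximalSpectrum A, Field (A ⧸ m.asIdeal) := fun m => Ideal.Quotient.field m.asIdeal
  have hs : ∀ m : MaximalSpectrum A, Algebra.IsSeparable k (A ⧸ m.asIdeal) := by
    intro m
    constructor
    intro y
    obtain ⟨x, rfl⟩ := Ideal.Quotient.mk_surjective y
    have hsep : (minpoly k x).Separable := Algebra.IsSeparable.isSeparable k x
    have h1 : aeval (Ideal.Quotient.mk m.asIdeal x) (minpoly k x) = 0 := by
      have := Polynomial.aeval_algHom_apply (Ideal.Quotient.mkₐ k m.asIdeal) x (minpoly k x)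
      rw [minpoly.aeval, map_zero] at this
      exact this
    exact hsep.of_dvd (minpoly.dvd k _ h1)
  have hu : ∀ m : MaximalSpectrum A, Algebra.FormallyUnramified k (A ⧸ m.asIdeal) := fun m =>
    Algebra.FormallyUnramified.of_isSeparable k (A ⧸ m.asIdeal)
  exact Algebra.FormallyUnramified.of_equiv ((IsArtinianRing.equivPi A).restrictScalars k).symm

theorem main [Algebra.FiniteType k A] :
    Algebra.FormallyUnramified k A ↔ Module.Finite k A ∧ Algebra.IsSeparable k A :=
  ⟨fun _ => forward k A, fun ⟨_, _⟩ => backward k A⟩

end Groth.Agent.Helper8.UnramFin
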