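import Mathlib
import Groth.Agent.Helper8.CompleteLocal
import Groth.Agent.Helper8.UnramInertia

/-!
# Trivial inertia iff unramified, over a complete normal local domain
-/

namespace Groth.Agent.Helper8.Unram

open Polynomial IntermediateField Groth.Agent.Helper8.CompleteLocal
open scoped Pointwise

universe u

attribute [local instance] Ideal.Quotient.field

/-- `S` is a finite `R`-module. -/
theorem finite_of_isGaloisGroup (R S G : Type u) [CommRing R] [CommRing S] [IsDomain R]
    [IsDomain S] [IsNoetherianRing R] [IsIntegrallyClosed R]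
    [Algebra R S] [FaithfulSMul R S] [IsIntegrallyClosed S]
    [Group G] [Finite G] [MulSemiringAction G S] [SMulCommClass G R S] [IsGaloisGroup G R S] :
    Module.Finite R S := by
  haveI : Algebra.IsInvariant R S G := IsGaloisGroup.isInvariant
  haveI hint : Algebra.IsIntegral R S := Algebra.IsInvariant.isIntegral R S G
  haveI : FaithfulSMul R (FractionRing S) := by
    rw [faithfulSMul_iff_algebraMap_injective, IsScalarTower.algebraMap_eq R S (FractionRing S)]
    exact (IsFractionRing.injective S (FractionRing S)).comp
      (FaithfulSMul.algebraMap_injective R S)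
  letI : Algebra (FractionRing R) (FractionRing S) := FractionRing.liftAlgebra R (FractionRing S)
  haveI : IsScalarTower R (FractionRing R) (FractionRing S) :=
    FractionRing.isScalarTower_liftAlgebra R (FractionRing S)
  letI : MulSemiringAction G (FractionRing S) :=
    IsFractionRing.mulSemiringAction G S (FractionRing S)
  haveI hGKL : IsGaloisGroup G (FractionRing R) (FractionRing S) :=
    IsGaloisGroup.toFractionRing G R S
  haveI : IsGalois (FractionRing R) (FractionRing S) :=
    IsGaloisGroup.isGalois G (FractionRing R) (FractionRing S)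
  haveI : FiniteDimensional (FractionRing R) (FractionRing S) :=
    IsGaloisGroup.finiteDimensional G (FractionRing R) (FractionRing S)
  haveI : IsIntegralClosure S R (FractionRing S) :=
    { algebraMap_injective := IsFractionRing.injective S (FractionRing S)
      isIntegral_iff := by
        intro x
        constructor
        · intro hx
          have : IsIntegral S x := hx.tower_top
          exact IsIntegrallyClosed.isIntegral_iff.mp this
        · rintro ⟨y, rfl⟩
          exact (Algebra.IsIntegral.isIntegral y).algebraMap }
  exact IsIntegralClosure.finite R (FractionRing R) (FractionRing S) S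

theorem isIntegralClosure_of_isGaloisGroup (R S G : Type u) [CommRing R] [CommRing S]
    [IsDomain S] [Algebra R S] [IsIntegrallyClosed S]
    [Group G] [Finite G] [MulSemiringAction G S] [IsGaloisGroup G R S] :
    IsIntegralClosure S R (FractionRing S) := by
  haveI : Algebra.IsInvariant R S G := IsGaloisGroup.isInvariant
  haveI hint : Algebra.IsIntegral R S := Algebra.IsInvariant.isIntegral R S G
  exact
    { algebraMap_injective := IsFractionRing.injective S (FractionRing S)
      isIntegral_iff := by
        intro x
        constructor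
        · intro hx
          have : IsIntegral S x := hx.tower_top
          exact IsIntegrallyClosed.isIntegral_iff.mp this
        · rintro ⟨y, rfl⟩
          exact (Algebra.IsIntegral.isIntegral y).algebraMap }

section Local

variable (R S G : Type u) [CommRing R] [CommRing S] [IsDomain S]
    [IsNoetherianRing R] [IsLocalRing R]
    [IsAdicComplete (IsLocalRing.maximalIdeal R) R]
    [Algebra R S] [Module.Finite R S]
    [Group G] [Finite G] [MulSemiringAction G S] [SMulCommClass G R S] [IsGaloisGroup G R S]
    (n : Ideal S) [hnmax : n.IsMaximal] [hlies : n.LiesOver (IsLocalRing.maximalIdeal R)]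

include hnmax hlies in
theorem exists_smul_of_prime (P : Ideal S) (hP : P.IsPrime)
    (hmP : (IsLocalRing.maximalIdeal R).map (algebraMap R S) ≤ P) :
    P.IsMaximal ∧ ∃ g : G, P = g • n := by
  haveI : Algebra.IsInvariant R S G := IsGaloisGroup.isInvariant
  haveI hint : Algebra.IsIntegral R S := Algebra.IsInvariant.isIntegral R S G
  have hPm : P.comap (algebraMap R S) = IsLocalRing.maximalIdeal R := by
    have h1 : IsLocalRing.maximalIdeal R ≤ P.comap (algebraMap R S) :=
      Ideal.map_le_iff_le_comap.mp hmP
    exact ((IsLocalRing.maximalIdeal.isMaximal R).eq_of_le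
      (Ideal.comap_ne_top _ hP.ne_top) h1).symm
  have hPmax : P.IsMaximal :=
    Ideal.isMaximal_of_isIntegral_of_isMaximal_comap P
      (hPm ▸ IsLocalRing.maximalIdeal.isMaximal R)
  refine ⟨hPmax, ?_⟩
  exact Algebra.IsInvariant.exists_smul_of_under_eq R S G n P (by
    rw [Ideal.under_def, Ideal.under_def, hPm, ← Ideal.under_def]
    exact (hlies.over).symm)

include hnmax hlies in
theorem smul_eq_self (g₀ : G) : g₀ • n = n := by
  classical
  haveI : Fintype G := Fintype.ofFinite G
  have hmS_le_n : (IsLocalRing.maximalIdeal R).map (algebraMap R S) ≤ n := by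
    rw [Ideal.map_le_iff_le_comap, ← Ideal.under_def, ← hlies.over]
  have hsmul_max : ∀ g : G, (g • n).IsMaximal := fun g =>
    (exists_smul_of_prime R S G n (g • n) inferInstance (by
      rw [Ideal.map_le_iff_le_comap, ← Ideal.under_def, Ideal.under_smul, ← hlies.over])).1
  by_contra hg₀
  let T := Finset.univ.filter (fun g : G => g • n ≠ n)
  let 𝔟 : Ideal S := T.inf (fun g => g • n)
  have hcop : n ⊔ 𝔟 = ⊤ := by
    by_contra h
    have hle : n ≤ n ⊔ 𝔟 := le_sup_left
    have heq := hnmax.eq_of_le h hle
    have h𝔟n : 𝔟 ≤ n := by rw [heq]; exact le_sup_right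
    obtain ⟨g, hgT, hg⟩ := (Ideal.IsPrime.inf_le' hnmax.isPrime).mp h𝔟n
    have : g • n = n := (hsmul_max g).eq_of_le hnmax.ne_top hg
    exact (Finset.mem_filter.mp hgT).2 this
  have hrad : n ⊓ 𝔟 ≤ ((IsLocalRing.maximalIdeal R).map (algebraMap R S)).radical := by
    rw [Ideal.radical_eq_sInf]
    refine le_sInf ?_
    rintro P ⟨hmP, hP⟩
    obtain ⟨-, g, rfl⟩ := exists_smul_of_prime R S G n P hP hmP
    by_cases hgn : g • n = n
    · rw [hgn]; exact inf_le_left
    · exact inf_le_right.trans
        (Finset.inf_le (Finset.mem_filter.mpr ⟨Finset.mem_univ g, hgn⟩))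
  have h𝔟 := eq_top_of_coprime_of_inf_le_radical (R := R) n 𝔟 hnmax.ne_top hmS_le_n hcop hrad
  have h1 : 𝔟 ≤ g₀ • n := Finset.inf_le (Finset.mem_filter.mpr ⟨Finset.mem_univ g₀, hg₀⟩)
  exact (hsmul_max g₀).ne_top (top_le_iff.mp (h𝔟 ▸ h1))

include G hnmax hlies in
theorem eq_of_isMaximal (P : Ideal S) (hP : P.IsMaximal) : P = n := by
  haveI : Algebra.IsInvariant R S G := IsGaloisGroup.isInvariant
  haveI hint : Algebra.IsIntegral R S := Algebra.IsInvariant.isIntegral R S G
  have h1 : (P.comap (algebraMap R S)).IsMaximal :=
    Ideal.isMaximal_comap_of_isIntegral_of_isMaximal P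
  have h2 := IsLocalRing.eq_maximalIdeal h1
  obtain ⟨-, g, hg⟩ := exists_smul_of_prime R S G n P hP.isPrime (by
    rw [Ideal.map_le_iff_le_comap, h2])
  rw [hg, smul_eq_self R S G n g]

end Local

theorem main (R S G : Type u) [CommRing R] [CommRing S] [IsDomain R] [IsDomain S]
    [IsNoetherianRing R] [IsLocalRing R] [IsIntegrallyClosed R]
    [IsAdicComplete (IsLocalRing.maximalIdeal R) R]
    [Algebra R S] [FaithfulSMul R S] [IsIntegrallyClosed S]
    [Group G] [Finite G] [MulSemiringAction G S] [SMulCommClass G R S] [IsGaloisGroup G R S]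
    (n : Ideal S) [hnmax : n.IsMaximal] [hlies : n.LiesOver (IsLocalRing.maximalIdeal R)] :
    n.toAddSubgroup.inertia G = ⊥ ↔
      ((IsLocalRing.maximalIdeal R).map (algebraMap R S) = n ∧
        Module.Finite (R ⧸ IsLocalRing.maximalIdeal R) (S ⧸ n) ∧
        Algebra.IsSeparable (R ⧸ IsLocalRing.maximalIdeal R) (S ⧸ n)) := by
  classical
  haveI : Fintype G := Fintype.ofFinite G
  set m := IsLocalRing.maximalIdeal R with hm
  haveI hmmax : m.IsMaximal := IsLocalRing.maximalIdeal.isMaximal R
  haveI : Algebra.IsInvariant R S G := IsGaloisGroup.isInvariant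
  haveI hint : Algebra.IsIntegral R S := Algebra.IsInvariant.isIntegral R S G
  haveI hfinRS : Module.Finite R S := finite_of_isGaloisGroup R S G
  haveI : FaithfulSMul R (FractionRing S) := by
    rw [faithfulSMul_iff_algebraMap_injective, IsScalarTower.algebraMap_eq R S (FractionRing S)]
    exact (IsFractionRing.injective S (FractionRing S)).comp
      (FaithfulSMul.algebraMap_injective R S)
  letI : Algebra (FractionRing R) (FractionRing S) := FractionRing.liftAlgebra R (FractionRing S)
  haveI : IsScalarTower R (FractionRing R) (FractionRing S) :=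
    FractionRing.isScalarTower_liftAlgebra R (FractionRing S)
  letI : MulSemiringAction G (FractionRing S) :=
    IsFractionRing.mulSemiringAction G S (FractionRing S)
  haveI hGKL : IsGaloisGroup G (FractionRing R) (FractionRing S) :=
    IsGaloisGroup.toFractionRing G R S
  haveI : IsGalois (FractionRing R) (FractionRing S) :=
    IsGaloisGroup.isGalois G (FractionRing R) (FractionRing S)
  haveI : FiniteDimensional (FractionRing R) (FractionRing S) :=
    IsGaloisGroup.finiteDimensional G (FractionRing R) (FractionRing S)
  haveI : IsIntegralClosure S R (FractionRing S) := isIntegralClosure_of_isGaloisGroup R S G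
  have hcardG : Nat.card G = Module.finrank (FractionRing R) (FractionRing S) :=
    IsGaloisGroup.card_eq_finrank G (FractionRing R) (FractionRing S)
  have hstab : ∀ g : G, g • n = n := smul_eq_self R S G n
  have hmS_le_n : m.map (algebraMap R S) ≤ n := by
    rw [Ideal.map_le_iff_le_comap, ← Ideal.under_def, ← hlies.over]
  haveI : Module.Finite (R ⧸ m) (S ⧸ n) :=
    Module.Finite.of_restrictScalars_finite R (R ⧸ m) (S ⧸ n)
  -- the homomorphism to the automorphism group of the residue field
  have hmemstab : ∀ g : G, g ∈ MulAction.stabilizer G n :=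
    fun g => MulAction.mem_stabilizer_iff.mpr (hstab g)
  let φ : G →* ((S ⧸ n) ≃ₐ[R ⧸ m] (S ⧸ n)) :=
    { toFun := fun g => Ideal.Quotient.stabilizerHom n m G ⟨g, hmemstab g⟩
      map_one' := (Ideal.Quotient.stabilizerHom n m G).map_one
      map_mul' := fun g h => by rw [← map_mul]; rfl }
  have hφ_apply : ∀ (g : G) (s : S),
      φ g (Ideal.Quotient.mk n s) = Ideal.Quotient.mk n (g • s) := fun g s => rfl
  have hφsurj : Function.Surjective φ := by
    intro σ
    obtain ⟨⟨g, hg⟩, rfl⟩ := Ideal.Quotient.stabilizerHom_surjective G m n σ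
    exact ⟨g, rfl⟩
  have hφker : ∀ g : G, φ g = 1 ↔ g ∈ n.toAddSubgroup.inertia G := by
    intro g
    rw [AddSubgroup.mem_inertia, AlgEquiv.ext_iff]
    constructor
    · intro h x
      have := h (Ideal.Quotient.mk n x)
      rw [hφ_apply, AlgEquiv.one_apply, Ideal.Quotient.eq] at this
      exact this
    · intro h x
      obtain ⟨x, rfl⟩ := Ideal.Quotient.mk_surjective x
      rw [hφ_apply, AlgEquiv.one_apply, Ideal.Quotient.eq]
      exact h x
  have hbot_iff : n.toAddSubgroup.inertia G = ⊥ ↔ Function.Injective φ := by
    rw [injective_iff_map_eq_one, Subgroup.eq_bot_iff_forall]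
    exact forall_congr' fun g => by rw [hφker]
  haveI : Normal (R ⧸ m) (S ⧸ n) := Ideal.Quotient.normal G m n
  rw [hbot_iff]
  constructor
  · -- trivial inertia implies unramified
    intro hφinj
    obtain ⟨θb, hθb⟩ := exists_free_element (R ⧸ m) (S ⧸ n)
    obtain ⟨θ, rfl⟩ := Ideal.Quotient.mk_surjective θb
    have hfree : ∀ g : G, Ideal.Quotient.mk n (g • θ) = Ideal.Quotient.mk n θ → g = 1 := by
      intro g hg
      apply hφinj
      rw [map_one]
      exact hθb (φ g) (by rw [hφ_apply]; exact hg)
    have hinjE : Function.Injective (fun g : G => Ideal.Quotient.mk n (g • θ)) := by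
      intro g h hgh
      simp only at hgh
      have h1 : Ideal.Quotient.mk n ((h⁻¹ * g) • θ) = Ideal.Quotient.mk n θ := by
        rw [mul_smul, ← hφ_apply, hgh, hφ_apply, inv_smul_smul]
      exact (inv_mul_eq_one.mp (hfree _ h1)).symm
    -- the characteristic polynomial
    set F := MulSemiringAction.charpoly G θ with hF
    obtain ⟨f, hfmap, hfdeg, hfmonic⟩ := Polynomial.lifts_and_degree_eq_and_monic
      (Algebra.IsInvariant.charpoly_mem_lifts R S G θ) (MulSemiringAction.monic_charpoly G θ)
    have hFdeg : F.natDegree = Fintype.card G := by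
      rw [hF, MulSemiringAction.charpoly_eq, Polynomial.natDegree_finsetProd_X_sub_C_eq_card,
        Finset.card_univ]
    have hfnat : f.natDegree = Fintype.card G := by
      rw [← hFdeg]; exact Polynomial.natDegree_eq_of_degree_eq hfdeg
    have hfθ : Polynomial.aeval θ f = 0 := by
      rw [Polynomial.aeval_def, ← Polynomial.eval_map, hfmap]
      exact MulSemiringAction.eval_charpoly G θ
    have hFmap : F.map (Ideal.Quotient.mk n) =
        ∏ g : G, (X - C (Ideal.Quotient.mk n (g • θ))) := by
      rw [hF, MulSemiringAction.charpoly_eq, Polynomial.map_prod]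
      simp only [Polynomial.map_sub, Polynomial.map_X, Polynomial.map_C]
    have hFsep : (F.map (Ideal.Quotient.mk n)).Separable := by
      rw [hFmap]; exact Polynomial.separable_prod_X_sub_C_iff.mpr hinjE
    have hFroot : Polynomial.eval (Ideal.Quotient.mk n θ) (F.map (Ideal.Quotient.mk n)) = 0 := by
      rw [hFmap, Polynomial.eval_prod]
      refine Finset.prod_eq_zero (Finset.mem_univ (1 : G)) ?_
      simp
    -- the derivative is a unit
    set u := Polynomial.aeval θ (derivative f) with hu
    have hu_ne : Ideal.Quotient.mk n u ≠ 0 := by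
      have h1 : Ideal.Quotient.mk n u =
          Polynomial.eval (Ideal.Quotient.mk n θ) (derivative (F.map (Ideal.Quotient.mk n))) := by
        rw [hu, Polynomial.aeval_def, ← Polynomial.eval_map, ← Polynomial.derivative_map, hfmap,
          ← Polynomial.eval₂_at_apply, Polynomial.derivative_map, Polynomial.eval_map]
      rw [h1]
      have := hFsep.eval₂_derivative_ne_zero (RingHom.id _) (x := Ideal.Quotient.mk n θ)
        (by rw [Polynomial.eval₂_id]; exact hFroot)
      rwa [Polynomial.eval₂_id] at this
    have hunit : IsUnit u := by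
      by_contra hnu
      obtain ⟨P, hPmax, huP⟩ := exists_max_ideal_of_mem_nonunits hnu
      have hPn : P = n := eq_of_isMaximal R S G n P hPmax
      exact hu_ne (Ideal.Quotient.eq_zero_iff_mem.mpr (hPn ▸ huP))
    -- the orbit of `θ` in the fraction field is free
    have hfreeL : ∀ g : G, g • (algebraMap S (FractionRing S) θ) =
        algebraMap S (FractionRing S) θ → g = 1 := by
      intro g hg
      apply hfree
      have h1 : algebraMap S (FractionRing S) (g • θ) = algebraMap S (FractionRing S) θ :=
        (algebraMap.coe_smul' g θ (FractionRing S)).trans hg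
      rw [IsFractionRing.injective S (FractionRing S) h1]
    have htopL := adjoin_eq_top_of_free_orbit (FractionRing R) (FractionRing S) G
      (algebraMap S (FractionRing S) θ) hfreeL
    have hadj : Algebra.adjoin R {θ} = ⊤ :=
      adjoin_eq_top_of_unit_derivative R S (FractionRing R) (FractionRing S)
        (IsFractionRing.injective S (FractionRing S)) θ htopL f hfmonic hfθ
        (by rw [hfnat, ← hcardG, Nat.card_eq_fintype_card]) hunit
    -- consequences
    have hθbint : IsIntegral (R ⧸ m) (Ideal.Quotient.mk n θ) := Algebra.IsIntegral.isIntegral _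
    have hdegmin : Fintype.card G ≤ (minpoly (R ⧸ m) (Ideal.Quotient.mk n θ)).natDegree :=
      card_le_natDegree_minpoly (fun g : G => ((φ g : (S ⧸ n) ≃ₐ[R ⧸ m] (S ⧸ n)) :
        (S ⧸ n) →ₐ[R ⧸ m] (S ⧸ n))) _ hθbint (fun g h hgh => hinjE hgh)
    have hcomp : (algebraMap (R ⧸ m) (S ⧸ n)).comp (Ideal.Quotient.mk m) =
        (Ideal.Quotient.mk n).comp (algebraMap R S) := by
      ext r; rfl
    have haeval_mk : ∀ q : R[X], Polynomial.aeval (Ideal.Quotient.mk n θ)
        (q.map (Ideal.Quotient.mk m)) = Ideal.Quotient.mk n (Polynomial.aeval θ q) := by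
      intro q
      rw [Polynomial.aeval_def, Polynomial.eval₂_map, hcomp, ← Polynomial.hom_eval₂,
        Polynomial.aeval_def]
    refine ⟨?_, inferInstance, ?_⟩
    · -- `m S = n`
      apply le_antisymm hmS_le_n
      intro s hs
      have hs_adj : s ∈ Algebra.adjoin R {θ} := hadj ▸ Algebra.mem_top
      rw [Algebra.adjoin_singleton_eq_range_aeval] at hs_adj
      obtain ⟨p, hp⟩ := hs_adj
      have hp' : Polynomial.aeval θ p = s := hp
      set q := p %ₘ f with hq
      have hqs : Polynomial.aeval θ q = s := by
        rw [hq, Polynomial.aeval_modByMonic_eq_self_of_root hfθ]; exact hp'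
      have hf1 : f ≠ 1 := by
        intro h1
        rw [h1, Polynomial.natDegree_one] at hfnat
        exact Fintype.card_ne_zero hfnat.symm
      have hqdeg : q.natDegree < Fintype.card G := by
        rw [← hfnat]; exact Polynomial.natDegree_modByMonic_lt p hfmonic hf1
      have hqb0 : Polynomial.aeval (Ideal.Quotient.mk n θ) (q.map (Ideal.Quotient.mk m)) = 0 := by
        rw [haeval_mk, hqs]; exact Ideal.Quotient.eq_zero_iff_mem.mpr hs
      have hqb_zero : q.map (Ideal.Quotient.mk m) = 0 := by
        by_contra hne
        have h1 := minpoly.degree_le_of_ne_zero (R ⧸ m) _ hne hqb0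
        have h2 : (q.map (Ideal.Quotient.mk m)).natDegree ≤ q.natDegree :=
          Polynomial.natDegree_map_le
        have h3 := Polynomial.natDegree_le_natDegree h1
        omega
      have hcoef : ∀ i, q.coeff i ∈ m := by
        intro i
        have := congrArg (fun r => Polynomial.coeff r i) hqb_zero
        simp only [Polynomial.coeff_map, Polynomial.coeff_zero] at this
        exact Ideal.Quotient.eq_zero_iff_mem.mp this
      rw [← hqs, Polynomial.aeval_eq_sum_range]
      refine Ideal.sum_mem _ fun i _ => ?_
      rw [Algebra.smul_def]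
      exact Ideal.mul_mem_right _ _ (Ideal.mem_map_of_mem _ (hcoef i))
    · -- separability
      rw [← separableClosure.eq_top_iff, eq_top_iff]
      intro e _
      obtain ⟨s, rfl⟩ := Ideal.Quotient.mk_surjective e
      have hs_adj : s ∈ Algebra.adjoin R {θ} := hadj ▸ Algebra.mem_top
      have hθsep : Ideal.Quotient.mk n θ ∈ separableClosure (R ⧸ m) (S ⧸ n) := by
        rw [mem_separableClosure_iff]
        have hdvd : minpoly (R ⧸ m) (Ideal.Quotient.mk n θ) ∣ f.map (Ideal.Quotient.mk m) :=
          minpoly.dvd _ _ (by rw [haeval_mk, hfθ, map_zero])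
        have hfbsep : (f.map (Ideal.Quotient.mk m)).Separable := by
          rw [← Polynomial.separable_map (algebraMap (R ⧸ m) (S ⧸ n)), Polynomial.map_map, hcomp,
            ← Polynomial.map_map, hfmap]
          exact hFsep
        exact hfbsep.of_dvd hdvd
      refine Algebra.adjoin_induction (p := fun s _ =>
        Ideal.Quotient.mk n s ∈ separableClosure (R ⧸ m) (S ⧸ n)) ?_ ?_ ?_ ?_ hs_adj
      · rintro x (rfl : x = θ); exact hθsep
      · intro r
        have : Ideal.Quotient.mk n (algebraMap R S r) =
            algebraMap (R ⧸ m) (S ⧸ n) (Ideal.Quotient.mk m r) := rfl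
        rw [this]
        exact IntermediateField.algebraMap_mem _ _
      · intro x y _ _ hx hy; rw [map_add]; exact add_mem hx hy
      · intro x y _ _ hx hy; rw [map_mul]; exact mul_mem hx hy
  · -- unramified implies trivial inertia
    rintro ⟨hmap, hfinE, hsep⟩
    haveI := hsep
    haveI : IsGalois (R ⧸ m) (S ⧸ n) := isGalois_iff.mpr ⟨hsep, inferInstance⟩
    have hcardΓ : Nat.card ((S ⧸ n) ≃ₐ[R ⧸ m] (S ⧸ n)) = Module.finrank (R ⧸ m) (S ⧸ n) :=
      IsGalois.card_aut_eq_finrank (R ⧸ m) (S ⧸ n)
    suffices h : Module.finrank (FractionRing R) (FractionRing S) ≤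
        Module.finrank (R ⧸ m) (S ⧸ n) from
      (hφsurj.bijective_of_nat_card_le (by rw [hcardG, hcardΓ]; exact h)).1
    let b := Module.finBasis (R ⧸ m) (S ⧸ n)
    choose s hs using fun i => Ideal.Quotient.mk_surjective (b i)
    have hspan : Submodule.span R (Set.range s) = ⊤ := by
      rw [eq_top_iff]
      apply Submodule.le_of_le_smul_of_le_jacobson_bot (I := m) Module.Finite.fg_top
        (IsLocalRing.maximalIdeal_le_jacobson _)
      intro x _
      have hx := b.sum_repr (Ideal.Quotient.mk n x)
      choose r hr using fun i => Ideal.Quotient.mk_surjective (b.repr (Ideal.Quotient.mk n x) i)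
      have hx2 : x - ∑ i, r i • s i ∈ n := by
        rw [← Ideal.Quotient.eq, map_sum, ← hx]
        refine Finset.sum_congr rfl fun i _ => ?_
        rw [← hr i, ← hs i, Algebra.smul_def, Algebra.smul_def,
          Ideal.Quotient.algebraMap_mk_of_liesOver, map_mul]
      have hx3 : x = ∑ i, r i • s i + (x - ∑ i, r i • s i) := by ring
      rw [hx3]
      refine Submodule.add_mem_sup (Submodule.sum_mem _ fun i _ =>
        Submodule.smul_mem _ _ (Submodule.subset_span ⟨i, rfl⟩)) ?_
      rw [Ideal.smul_top_eq_map, hmap]
      exact hx2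
    have hspanL : Submodule.span (FractionRing R)
        (Set.range fun i => algebraMap S (FractionRing S) (s i)) = ⊤ := by
      rw [eq_top_iff]
      intro l _
      have hlalg : IsAlgebraic R l :=
        (IsFractionRing.isAlgebraic_iff R (FractionRing R) (FractionRing S)).mpr
          (Algebra.IsAlgebraic.isAlgebraic l)
      obtain ⟨y, hy0, hyint⟩ := hlalg.exists_integral_multiple
      obtain ⟨x, hx⟩ := (IsIntegralClosure.isIntegral_iff (A := S)).mp hyint
      have hxspan : x ∈ Submodule.span R (Set.range s) := hspan ▸ Submodule.mem_top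
      have h1 : algebraMap S (FractionRing S) x ∈ Submodule.span (FractionRing R)
          (Set.range fun i => algebraMap S (FractionRing S) (s i)) := by
        have h2 : (IsScalarTower.toAlgHom R S (FractionRing S)).toLinearMap x ∈
            Submodule.map (IsScalarTower.toAlgHom R S (FractionRing S)).toLinearMap
              (Submodule.span R (Set.range s)) := Submodule.mem_map_of_mem hxspan
        rw [Submodule.map_span, ← Set.range_comp] at h2
        exact Submodule.span_le_restrictScalars R (FractionRing R) _ h2
      have hy0' : algebraMap R (FractionRing R) y ≠ 0 := by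
        rwa [Ne, IsFractionRing.to_map_eq_zero_iff]
      have hl : l = (algebraMap R (FractionRing R) y)⁻¹ • algebraMap S (FractionRing S) x := by
        rw [hx, ← algebraMap_smul (FractionRing R) y l, smul_smul, inv_mul_cancel₀ hy0', one_smul]
      rw [hl]
      exact Submodule.smul_mem _ _ h1
    calc Module.finrank (FractionRing R) (FractionRing S)
        = Set.finrank (FractionRing R)
            (Set.range fun i => algebraMap S (FractionRing S) (s i)) := by
          rw [Set.finrank, hspanL, finrank_top]
      _ ≤ Fintype.card (Fin (Module.finrank (R ⧸ m) (S ⧸ n))) := finrank_range_le_card _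
      _ = Module.finrank (R ⧸ m) (S ⧸ n) := Fintype.card_fin _

end Groth.Agent.Helper8.Unram
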