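import Mathlib
import Groth.Agent.Helper8.FilProj
import Groth.Agent.Helper8.WittAdic

/-!
# Finite projective `W(R)`-modules and their truncations (`p` nilpotent in `R`)
-/

namespace Groth.Agent.Helper8.WittFilProj

open Groth.Agent.Helper8 Groth.Agent.Helper8.FilProj

variable (p : ℕ) [Fact p.Prime] (R : Type*) [CommRing R]

theorem ker_truncate_one :
    RingHom.ker (WittVector.truncate (p := p) (R := R) 1) =
      RingHom.ker (WittVector.constantCoeff : WittVector p R →+* R) := by
  ext x
  rw [WittVector.mem_ker_truncate, RingHom.mem_ker]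
  constructor
  · intro h
    exact h 0 (by omega)
  · intro h i hi
    obtain rfl : i = 0 := by omega
    exact h

theorem ker_truncate_antitone {m n : ℕ} (h : m ≤ n) :
    RingHom.ker (WittVector.truncate (p := p) (R := R) n) ≤
      RingHom.ker (WittVector.truncate (p := p) (R := R) m) := by
  intro x hx
  rw [WittVector.mem_ker_truncate] at hx ⊢
  intro i hi
  exact hx i (by omega)

theorem isAdicComplete_p (N : ℕ) (hN : (p : R) ^ N = 0) :
    IsAdicComplete (Ideal.span {(p : R)}) R :=
  isAdicComplete_of_pow_eq_bot _ R N (by
    rw [Ideal.span_singleton_pow, hN]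
    exact Ideal.span_singleton_eq_bot.mpr rfl)

theorem pow_le_ker_truncate (N : ℕ) (hN : (p : R) ^ N = 0) (n : ℕ) :
    (RingHom.ker (WittVector.constantCoeff : WittVector p R →+* R)) ^ (N * n + 1) ≤
      RingHom.ker (WittVector.truncate (p := p) (R := R) n) := by
  haveI := isAdicComplete_p p R N hN
  rw [WittAdic.ker_pow_succ]
  intro x hx
  rw [Ideal.mem_span_singleton_mul] at hx
  obtain ⟨y, -, rfl⟩ := hx
  rw [WittVector.mem_ker_truncate]
  intro i hi
  exact WittAdic.coeff_pow_mul_eq_zero' (p := p) N hN n y i hi

theorem sep (x : WittVector p R)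
    (hx : ∀ n, x ∈ RingHom.ker (WittVector.truncate (p := p) (R := R) (n + 1))) : x = 0 := by
  ext i
  have := hx i
  rw [WittVector.mem_ker_truncate] at this
  rw [WittVector.zero_coeff]
  exact this i (by omega)

theorem main (hp : IsNilpotent (p : R))
    (P : Type*) [AddCommGroup P] [Module (WittVector p R) P] :
    (Module.Finite (WittVector p R) P ∧ Module.Projective (WittVector p R) P) ↔
      ((⨅ n : ℕ, (RingHom.ker (WittVector.truncate (p := p) (R := R) n) •
          (⊤ : Submodule (WittVector p R) P))) = ⊥ ∧
        ∀ n : ℕ, Module.Finite (WittVector p R ⧸ RingHom.ker (WittVector.truncate (p := p) (R := R) n))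
              (P ⧸ (RingHom.ker (WittVector.truncate (p := p) (R := R) n) •
                (⊤ : Submodule (WittVector p R) P))) ∧
            Module.Projective (WittVector p R ⧸ RingHom.ker (WittVector.truncate (p := p) (R := R) n))
              (P ⧸ (RingHom.ker (WittVector.truncate (p := p) (R := R) n) •
                (⊤ : Submodule (WittVector p R) P)))) := by
  obtain ⟨N, hN⟩ := hp
  constructor
  · rintro ⟨hf, hpr⟩
    refine ⟨?_, fun n => quotients_of_fin_proj _ P⟩
    rw [eq_bot_iff]
    intro y hy
    rw [Submodule.mem_iInf] at hy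
    rw [Submodule.mem_bot]
    exact sep_of_fin_proj (fun n => RingHom.ker (WittVector.truncate (p := p) (R := R) (n + 1)))
      (sep p R) P y (fun n => hy (n + 1))
  · rintro ⟨hsep, hq⟩
    haveI : IsAdicComplete (Ideal.span {(p : R)}) R := isAdicComplete_p p R N hN
    haveI : IsAdicComplete (RingHom.ker (WittVector.truncate (p := p) (R := R) 1))
        (WittVector p R) := by
      rw [ker_truncate_one]
      exact WittAdic.isAdicComplete_ker
    haveI := (hq 1).1
    haveI := (hq 1).2
    refine fin_proj_of_quotients (RingHom.ker (WittVector.truncate (p := p) (R := R) 1))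
      (fun n => RingHom.ker (WittVector.truncate (p := p) (R := R) (n + 1)))
      (fun n => ker_truncate_antitone p R (by omega)) (fun n => ?_) (sep p R) P (fun y hy => ?_)
      (fun n => (hq (n + 1)).2)
    · refine ⟨N * (n + 1) + 1, ?_⟩
      rw [ker_truncate_one]
      exact pow_le_ker_truncate p R N hN (n + 1)
    · have : y ∈ (⊥ : Submodule (WittVector p R) P) := by
        rw [← hsep, Submodule.mem_iInf]
        intro n
        exact Submodule.smul_mono_left (ker_truncate_antitone p R (Nat.le_succ n)) (hy n)
      simpa using this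

end Groth.Agent.Helper8.WittFilProj
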