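import Mathlib
import Groth.Prelude.Def_Disp2
import Groth.Agent.Helper8.DispMat
import Groth.Agent.Helper8.NormalDecomp
import Groth.Agent.Helper8.WittFilProj
import Groth.Agent.Helper8.Disp1

/-!
# Existence and uniqueness of `V^#` for a 3n-display over a ring in which `p` is nilpotent
-/

set_option autoImplicit false

universe u v w

open Dieu W4c1extbt610

namespace Groth.Agent.Helper8.VSharp

section General

/-- Rank of a scalar extension `BC φ P` at a prime. -/
theorem rankAtStalk_BC {A : Type u} {B : Type v} [CommRing A] [CommRing B] (φ : A →+* B)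
    (P : Type w) [AddCommGroup P] [Module A P] [Module.Finite A P] [Module.Flat A P]
    (𝔮 : PrimeSpectrum B) :
    Module.rankAtStalk (BC φ P) 𝔮 = Module.rankAtStalk P (PrimeSpectrum.comap φ 𝔮) := by
  letI alg : Algebra A B := φ.toAlgebra
  letI modA : Module A (BC φ P) := Module.compHom (BC φ P) φ
  haveI tower : IsScalarTower A B (BC φ P) := ⟨fun a b z => by
    show (φ a * b) • z = φ a • (b • z)
    rw [mul_smul]⟩
  let f : P →ₗ[A] BC φ P :=
    { toFun := fun x => BC.tmul φ 1 x
      map_add' := BC.tmul_add φ 1
      map_smul' := fun a x => by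
        show BC.tmul φ 1 (a • x) = φ a • BC.tmul φ 1 x
        rw [BC.smul_tmul, mul_one, ← BC.tmul_apply_eq] }
  have hf : IsBaseChange B f := by
    apply IsBaseChange.of_lift_unique
    intro Q _ _ _ _ g
    letI : AddCommGroup Q := Module.addCommMonoidToAddCommGroup B
    let gs : P →ₛₗ[φ] Q :=
      { toFun := g
        map_add' := g.map_add
        map_smul' := fun a x => by
          rw [g.map_smul]
          exact (algebraMap_smul B a (g x)).symm }
    refine ⟨BC.lift φ gs, ?_, ?_⟩
    · apply LinearMap.ext
      intro x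
      show BC.lift φ gs (BC.tmul φ 1 x) = g x
      rw [BC.lift_tmul, one_smul]
      rfl
    · intro g' hg'
      apply BC.ext
      intro x
      rw [BC.lift_tmul, one_smul]
      exact LinearMap.congr_fun hg' x
  exact Module.rankAtStalk_isBaseChange hf 𝔮

/-- A surjection of finite projective modules with the same rank function is injective. -/
theorem injective_of_surjective_of_rank_eq {W : Type u} [CommRing W] {M : Type v} {N : Type w}
    [AddCommGroup M] [Module W M] [Module.Finite W M] [Module.Projective W M]
    [AddCommGroup N] [Module W N] [Module.Finite W N] [Module.Projective W N]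
    (g : M →ₗ[W] N) (hg : Function.Surjective g)
    (hrank : Module.rankAtStalk (R := W) M = Module.rankAtStalk N) : Function.Injective g := by
  obtain ⟨s, hs⟩ := Module.projective_lifting_property g LinearMap.id hg
  have hs' : ∀ y, g (s y) = y := fun y => LinearMap.congr_fun hs y
  let K : Submodule W M := LinearMap.ker g
  let ρ : M →ₗ[W] M := LinearMap.id - s ∘ₗ g
  have hρ : ∀ m, ρ m = m - s (g m) := fun m => rfl
  let toK : M →ₗ[W] K := ρ.codRestrict K (fun m => by
    show g (ρ m) = 0
    rw [hρ, map_sub, hs', sub_self])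
  have htoK : ∀ m, ((toK m : K) : M) = m - s (g m) := fun m => rfl
  let e : M ≃ₗ[W] (K × N) :=
    LinearEquiv.ofLinearMap (toK.prod g) (K.subtype.coprod s)
      (by
        apply LinearMap.ext
        rintro ⟨k, x⟩
        have hk : g (k : M) = 0 := k.2
        apply Prod.ext
        · apply Subtype.ext
          show ((toK ((k : M) + s x) : K) : M) = k
          rw [htoK, map_add, hk, hs', zero_add, add_sub_cancel_right]
        · show g ((k : M) + s x) = x
          rw [map_add, hk, hs', zero_add])
      (by
        apply LinearMap.ext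
        intro m
        show ((toK m : K) : M) + s (g m) = m
        rw [htoK, sub_add_cancel])
  haveI : Module.Projective W K :=
    Module.Projective.of_split K.subtype toK (by
      apply LinearMap.ext
      intro k
      apply Subtype.ext
      show ((toK (k : M) : K) : M) = k
      have hk : g (k : M) = 0 := k.2
      rw [htoK, hk, map_zero, sub_zero])
  haveI : Module.Finite W K := Module.Finite.of_surjective toK (by
    intro k
    refine ⟨(k : M), ?_⟩
    apply Subtype.ext
    have hk : g (k : M) = 0 := k.2
    rw [htoK, hk, map_zero, sub_zero])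
  have h1 : Module.rankAtStalk (R := W) M = Module.rankAtStalk K + Module.rankAtStalk N := by
    rw [Module.rankAtStalk_eq_of_equiv e, Module.rankAtStalk_prod]
  have h2 : Module.rankAtStalk (R := W) K = 0 := by
    funext 𝔮
    have := congrFun h1 𝔮
    rw [hrank] at this
    simp only [Pi.add_apply] at this
    simp only [Pi.zero_apply]
    omega
  have h3 : Subsingleton K := Module.rankAtStalk_eq_zero_iff_subsingleton.mp h2
  rw [← LinearMap.ker_eq_bot]
  exact Submodule.eq_bot_of_subsingleton

end General

section Witt

variable {p : ℕ} [Fact p.Prime] {R : Type u} [CommRing R]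

local notation "σ" => (WittVector.frobenius : WittVector p R →+* WittVector p R)

/-- For `p` nilpotent in `R`, Frobenius pulls back every maximal ideal of `W(R)` into itself. -/
theorem mem_of_frobenius_mem (hp : IsNilpotent (p : R)) (𝔪 : Ideal (WittVector p R))
    [h𝔪 : 𝔪.IsMaximal] (x : WittVector p R) (hx : WittVector.frobenius x ∈ 𝔪) : x ∈ 𝔪 := by
  obtain ⟨N, hN⟩ := hp
  haveI := WittFilProj.isAdicComplete_p p R N hN
  haveI : IsAdicComplete (RingHom.ker (WittVector.constantCoeff : WittVector p R →+* R))
      (WittVector p R) := WittAdic.isAdicComplete_ker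
  have hI : IV p R ≤ 𝔪 := by
    rw [NormalDecomp.IV_eq_ker]
    refine le_trans (IsAdicComplete.le_jacobson_bot _) ?_
    exact sInf_le ⟨bot_le, h𝔪⟩
  have hpm : (p : WittVector p R) ∈ 𝔪 := by
    have h1 : ((p : WittVector p R)) ^ N ∈ 𝔪 := by
      apply hI
      rw [NormalDecomp.IV_eq_ker, RingHom.mem_ker, map_pow, map_natCast, hN]
    exact h𝔪.isPrime.mem_of_pow_mem N h1
  have hker : ∀ a : WittVector p R, DispMat.rho p R a = 0 → a ∈ 𝔪 := by
    intro a ha
    rw [DispMat.rho_eq_zero_iff] at ha
    refine (sup_le hI ?_) ha
    rw [Ideal.span_le]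
    intro y hy
    rw [Set.mem_singleton_iff] at hy
    rw [hy]
    exact hpm
  have h2 : WittVector.frobenius x - x ^ p ∈ 𝔪 := by
    apply hker
    rw [map_sub, map_pow]
    have := DispMat.rho_frob (p := p) (R := R) x
    rw [show DispPow.frob p R x = WittVector.frobenius x from rfl] at this
    rw [this, sub_self]
  have h3 : x ^ p ∈ 𝔪 := by
    have : x ^ p = WittVector.frobenius x - (WittVector.frobenius x - x ^ p) := by ring
    rw [this]
    exact 𝔪.sub_mem hx h2
  exact h𝔪.isPrime.mem_of_pow_mem p h3

theorem rank_BC_frobenius (hp : IsNilpotent (p : R)) (P : Type v) [AddCommGroup P]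
    [Module (WittVector p R) P] [Module.Finite (WittVector p R) P]
    [Module.Projective (WittVector p R) P] :
    Module.rankAtStalk (R := WittVector p R) (BC σ P) = Module.rankAtStalk P := by
  haveI : Module.Flat (WittVector p R) P := Module.Flat.of_projective
  funext 𝔮
  rw [rankAtStalk_BC]
  obtain ⟨𝔪, h𝔪, hle⟩ := Ideal.exists_le_maximal 𝔮.asIdeal 𝔮.2.ne_top
  have h1 : 𝔮 ≤ ⟨𝔪, h𝔪.isPrime⟩ := hle
  have h2 : PrimeSpectrum.comap σ 𝔮 ≤ ⟨𝔪, h𝔪.isPrime⟩ := by
    intro x hx
    have hx' : WittVector.frobenius x ∈ 𝔮.asIdeal := hx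
    exact mem_of_frobenius_mem hp 𝔪 x (hle hx')
  rw [Module.rankAtStalk_eq_of_le_of_finite_of_flat P h1,
    Module.rankAtStalk_eq_of_le_of_finite_of_flat P h2]

end Witt

end Groth.Agent.Helper8.VSharp
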