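import Mathlib
import Groth.Agent.Helper8.VSharp

/-!
# Construction of `V^#`
-/

set_option autoImplicit false

universe u v

open Dieu W4c1extbt610

namespace Groth.Agent.Helper8.VSharp

variable {p : ℕ} [Fact p.Prime] {R : Type u} [CommRing R]
variable {P : Type v} [AddCommGroup P] [Module (WittVector p R) P]

local notation "σ" => (WittVector.frobenius : WittVector p R →+* WittVector p R)

theorem unique_vSharp (D : Display3n p R P)
    (Vs₁ Vs₂ : P →ₗ[WittVector p R] BC σ P) (h₁ : IsVSharp D Vs₁) (h₂ : IsVSharp D Vs₂) :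
    Vs₁ = Vs₂ := by
  apply LinearMap.ext_on D.span_range_Vinv
  rintro _ ⟨y, rfl⟩
  have e1 := h₁.app_smul_Vinv 1 y
  have e2 := h₂.app_smul_Vinv 1 y
  rw [one_smul] at e1 e2
  rw [e1, e2]

section Construct

variable (D : Display3n p R P) (L T : Submodule (WittVector p R) P) (hLT : IsCompl L T)
  (hQ : D.Q = L ⊔ IV p R • T)

include hQ in
theorem L_le_Q : L ≤ D.Q := by
  rw [hQ]; exact le_sup_left

/-- `x ↦ (projection to L) x` as a map into `Q`. -/
noncomputable def qL : P →ₗ[WittVector p R] D.Q :=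
  (L.projection T hLT).codRestrict D.Q (fun x => L_le_Q D L T hQ (Submodule.projection_apply_mem hLT x))

theorem qL_coe (x : P) : ((qL D L T hLT hQ x : D.Q) : P) = L.projection T hLT x := rfl

/-- The semilinear map `Φ = V⁻¹ ∘ π_L + F ∘ π_T`. -/
noncomputable def Phi : P →ₛₗ[σ] P :=
  D.Vinv.comp (qL D L T hLT hQ) + D.F.comp (T.projection L hLT.symm)

theorem Phi_apply (x : P) :
    Phi D L T hLT hQ x = D.Vinv (qL D L T hLT hQ x) + D.F (T.projection L hLT.symm x) := rfl

theorem Phi_of_mem_L (l : P) (hl : l ∈ L) :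
    Phi D L T hLT hQ l = D.Vinv ⟨l, L_le_Q D L T hQ hl⟩ := by
  rw [Phi_apply, Submodule.projection_apply_of_mem_right hLT.symm hl, map_zero, add_zero]
  congr 1
  apply Subtype.ext
  rw [qL_coe]
  exact Submodule.projection_apply_of_mem_left hLT hl

theorem Phi_of_mem_T (t : P) (ht : t ∈ T) :
    Phi D L T hLT hQ t = D.F t := by
  rw [Phi_apply, Submodule.projection_apply_of_mem_left hLT.symm ht]
  have : qL D L T hLT hQ t = 0 := by
    apply Subtype.ext
    rw [qL_coe]
    exact Submodule.projection_apply_of_mem_right hLT ht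
  rw [this, map_zero, zero_add]

/-- `θ = π_L + p π_T`. -/
noncomputable def theta : P →ₗ[WittVector p R] P :=
  L.projection T hLT + (p : WittVector p R) • T.projection L hLT.symm

theorem theta_of_mem_L (l : P) (hl : l ∈ L) : theta L T hLT l = l := by
  show L.projection T hLT l + (p : WittVector p R) • T.projection L hLT.symm l = l
  rw [Submodule.projection_apply_of_mem_right hLT.symm hl, smul_zero, add_zero,
    Submodule.projection_apply_of_mem_left hLT hl]

theorem theta_of_mem_T (t : P) (ht : t ∈ T) : theta L T hLT t = (p : WittVector p R) • t := by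
  show L.projection T hLT t + (p : WittVector p R) • T.projection L hLT.symm t = _
  rw [Submodule.projection_apply_of_mem_right hLT ht, zero_add,
    Submodule.projection_apply_of_mem_left hLT.symm ht]

theorem tmul_smul' (b a : WittVector p R) (x : P) :
    BC.tmul σ b (a • x) = BC.tmul σ (b * WittVector.frobenius a) x :=
  (BC.tmul_mul_apply σ b a x).symm

/-- key property: for `y ∈ Q` there is `z` with `Φ^# z = V⁻¹ y` and `(1 ⊗ θ) z = 1 ⊗ y`. -/
theorem key (x : P) (hx : x ∈ D.Q) :
    ∃ z : BC σ P, BC.lift σ (Phi D L T hLT hQ) z = D.Vinv ⟨x, hx⟩ ∧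
      BC.map σ (theta L T hLT) z = BC.tmul σ 1 x := by
  -- motive
  have hIT : ∀ z ∈ (IV p R • T : Submodule (WittVector p R) P),
      ∃ (hz : z ∈ D.Q) (z' : BC σ P), BC.lift σ (Phi D L T hLT hQ) z' = D.Vinv ⟨z, hz⟩ ∧
        BC.map σ (theta L T hLT) z' = BC.tmul σ 1 z := by
    intro z hz
    refine Submodule.smul_induction_on hz ?_ ?_
    · intro a ha t ht
      obtain ⟨b, rfl⟩ := (DispBasis.mem_IV_iff a).1 ha
      have hmem : WittVector.verschiebung b • t ∈ D.Q :=
        D.IV_smul_le (Submodule.smul_mem_smul (verschiebung_mem_IV p R b) Submodule.mem_top)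
      refine ⟨hmem, BC.tmul σ b t, ?_, ?_⟩
      · rw [BC.lift_tmul, Phi_of_mem_T D L T hLT hQ t ht]
        exact (D.Vinv_verschiebung_smul b t).symm
      · rw [BC.map_tmul, theta_of_mem_T L T hLT t ht, tmul_smul', tmul_smul', map_natCast,
          WittVector.frobenius_verschiebung, one_mul, mul_comm]
    · rintro z₁ z₂ ⟨h1, w1, e1, f1⟩ ⟨h2, w2, e2, f2⟩
      refine ⟨D.Q.add_mem h1 h2, w1 + w2, ?_, ?_⟩
      · rw [map_add, e1, e2, ← map_add]
        rfl
      · rw [map_add, f1, f2, BC.tmul_add]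
  have hx' : x ∈ L ⊔ IV p R • T := hQ ▸ hx
  obtain ⟨l, hl, z, hz, rfl⟩ := Submodule.mem_sup.mp hx'
  obtain ⟨hzQ, z', e1, f1⟩ := hIT z hz
  refine ⟨BC.tmul σ 1 l + z', ?_, ?_⟩
  · rw [map_add, BC.lift_tmul, one_smul, Phi_of_mem_L D L T hLT hQ l hl, e1, ← map_add]
    rfl
  · rw [map_add, BC.map_tmul, theta_of_mem_L L T hLT l hl, f1, BC.tmul_add]

theorem lift_Phi_surjective : Function.Surjective (BC.lift σ (Phi D L T hLT hQ)) := by
  rw [← LinearMap.range_eq_top, eq_top_iff, ← D.span_range_Vinv, Submodule.span_le]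
  rintro _ ⟨y, rfl⟩
  obtain ⟨z, hz, -⟩ := key D L T hLT hQ (y : P) y.2
  exact ⟨z, hz⟩

include hQ hLT in
theorem exists_vSharp (hp : IsNilpotent (p : R)) :
    ∃ Vs : P →ₗ[WittVector p R] BC σ P, IsVSharp D Vs := by
  haveI := D.finite
  haveI := D.projective
  haveI hfp := DispBCEx.finite_projective (g := σ) (P := P)
  haveI := hfp.1
  haveI := hfp.2
  have hsurj := lift_Phi_surjective D L T hLT hQ
  have hinj := injective_of_surjective_of_rank_eq (BC.lift σ (Phi D L T hLT hQ)) hsurj
    (rank_BC_frobenius hp P)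
  let e : BC σ P ≃ₗ[WittVector p R] P := LinearEquiv.ofBijective _ ⟨hinj, hsurj⟩
  have he : ∀ z, e z = BC.lift σ (Phi D L T hLT hQ) z := fun z => rfl
  refine ⟨(BC.map σ (theta L T hLT)).comp e.symm.toLinearMap, ?_, ?_⟩
  · intro w x
    -- decompose x
    set l := L.projection T hLT x with hl
    set t := T.projection L hLT.symm x with ht
    have hlL : l ∈ L := Submodule.projection_apply_mem hLT x
    have htT : t ∈ T := Submodule.projection_apply_mem hLT.symm x
    have hx : x = l + t := (Submodule.projection_add_projection_eq_self hLT x).symm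
    have hF : D.F x = (p : WittVector p R) • Phi D L T hLT hQ l + Phi D L T hLT hQ t := by
      rw [Phi_of_mem_L D L T hLT hQ l hlL, Phi_of_mem_T D L T hLT hQ t htT, hx, map_add]
      congr 1
      exact Disp1.F_eq_p_smul_Vinv D ⟨l, L_le_Q D L T hQ hlL⟩
    have hz : e (BC.tmul σ (w * p) l + BC.tmul σ w t) = w • D.F x := by
      rw [he, map_add, BC.lift_tmul, BC.lift_tmul, hF, smul_add, mul_smul]
    have hz' : e.symm (w • D.F x) = BC.tmul σ (w * p) l + BC.tmul σ w t := by
      rw [← hz, LinearEquiv.symm_apply_apply]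
    rw [LinearMap.comp_apply]
    show BC.map σ (theta L T hLT) (e.symm (w • D.F x)) = _
    rw [hz', map_add, BC.map_tmul, BC.map_tmul, theta_of_mem_L L T hLT l hlL,
      theta_of_mem_T L T hLT t htT, tmul_smul', map_natCast, ← BC.tmul_add, ← hx, BC.smul_tmul,
      mul_comm]
  · intro w y
    obtain ⟨z, hz1, hz2⟩ := key D L T hLT hQ (y : P) y.2
    have hz' : e.symm (D.Vinv y) = z := by
      rw [LinearEquiv.symm_apply_eq, he, hz1]
    rw [map_smul, LinearMap.comp_apply]
    show w • BC.map σ (theta L T hLT) (e.symm (D.Vinv y)) = _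
    rw [hz', hz2, BC.smul_tmul, mul_one]

end Construct

theorem main (hp : IsNilpotent (p : R)) (D : Display3n p R P) :
    ∃! Vs : P →ₗ[WittVector p R] BC σ P, IsVSharp D Vs := by
  obtain ⟨L, T, hLT, hQ⟩ := D.exists_normal
  obtain ⟨Vs, hVs⟩ := exists_vSharp D L T hLT hQ hp
  exact ⟨Vs, hVs, fun Vs' h' => unique_vSharp D Vs' Vs h' hVs⟩

end Groth.Agent.Helper8.VSharp
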