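import Mathlib

/-!
# Valuation-ring base change through generic points of fibres (EGA IV 14.5-type lemma)
-/

set_option autoImplicit false
universe u
open AlgebraicGeometry CategoryTheory Limits

namespace Groth.Agent.Helper8.ValGen

section Top

variable {α β : Type*} [TopologicalSpace α] [TopologicalSpace β]

/-- Subspaces of the form `closed ∩ fibre` of a quasi-sober space over a `T0` space are
quasi-sober. -/
theorem exists_isGenericPoint_of_closed_inter_fibre [QuasiSober α] [T0Space β] {φ : α → β}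
    (hφ : Continuous φ) {A : Set α} (hA : IsClosed A) (p : β) (C : Set ↑(A ∩ φ ⁻¹' {p}))
    (hC : IsIrreducible C) (hC' : IsClosed C) :
    ∃ ξ : ↑(A ∩ φ ⁻¹' {p}), IsGenericPoint ξ C := by
  obtain ⟨C', hC'def⟩ : ∃ C' : Set α, C' = Subtype.val '' C := ⟨_, rfl⟩
  have hirr : IsIrreducible (closure C') := by
    rw [hC'def]
    exact (hC.image Subtype.val continuous_subtype_val.continuousOn).closure
  obtain ⟨ξ, hξ⟩ := QuasiSober.sober hirr isClosed_closure
  have hC'A : C' ⊆ A := by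
    rw [hC'def]; rintro _ ⟨c, -, rfl⟩; exact c.2.1
  have hξA : ξ ∈ A := hA.closure_subset_iff.mpr hC'A hξ.mem
  obtain ⟨c₀, hc₀⟩ := hC.nonempty
  have hξc : ∀ c ∈ C, ξ ⤳ (c : α) := fun c hc =>
    hξ.specializes (subset_closure (hC'def ▸ ⟨c, hc, rfl⟩))
  have h1 : φ ξ ⤳ p := by
    have h := (hξc c₀ hc₀).map hφ
    have h0 : φ (c₀ : α) = p := c₀.2.2
    rwa [h0] at h
  have h2 : p ⤳ φ ξ := by
    rw [specializes_iff_mem_closure]
    have h3 : φ '' closure C' ⊆ closure (φ '' C') := image_closure_subset_closure_image hφ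
    have h4 : φ '' C' ⊆ {p} := by
      rw [hC'def]; rintro _ ⟨_, ⟨c, -, rfl⟩, rfl⟩; exact c.2.2
    exact closure_mono h4 (h3 ⟨ξ, hξ.mem, rfl⟩)
  have hξp : φ ξ = p := (h1.antisymm h2).eq
  refine ⟨⟨ξ, hξA, hξp⟩, ?_⟩
  have hCeq : C = Subtype.val ⁻¹' closure C' := by
    apply Set.Subset.antisymm
    · intro c hc; exact subset_closure (hC'def ▸ ⟨c, hc, rfl⟩)
    · obtain ⟨K, hK, hKC⟩ := isClosed_induced_iff.mp hC'
      intro c hc
      have hsub : closure C' ⊆ K := hK.closure_subset_iff.mpr (by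
        rw [hC'def]; rintro _ ⟨c', hc', rfl⟩
        have : c' ∈ Subtype.val ⁻¹' K := hKC ▸ hc'
        exact this)
      have : c ∈ Subtype.val ⁻¹' K := hsub hc
      rwa [hKC] at this
  change closure {(⟨ξ, hξA, hξp⟩ : ↑(A ∩ φ ⁻¹' {p}))} = C
  rw [Topology.IsInducing.subtypeVal.closure_eq_preimage_closure_image, Set.image_singleton, hCeq,
    hξ.def]

/-- Every point of `closed ∩ fibre` is a specialisation of the generic point of an irreducible
component. -/
theorem exists_generic_specializes [QuasiSober α] [T0Space β] {φ : α → β}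
    (hφ : Continuous φ) {A : Set α} (hA : IsClosed A) (p : β) (w₀ : ↑(A ∩ φ ⁻¹' {p})) :
    ∃ ξ : ↑(A ∩ φ ⁻¹' {p}), (∃ C ∈ irreducibleComponents ↑(A ∩ φ ⁻¹' {p}), IsGenericPoint ξ C) ∧
      (ξ : α) ⤳ (w₀ : α) := by
  obtain ⟨ξ, hξ⟩ := exists_isGenericPoint_of_closed_inter_fibre hφ hA p (irreducibleComponent w₀)
    isIrreducible_irreducibleComponent isClosed_irreducibleComponent
  refine ⟨ξ, ⟨_, irreducibleComponent_mem_irreducibleComponents w₀, hξ⟩, ?_⟩
  exact (hξ.specializes mem_irreducibleComponent).map continuous_subtype_val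

/-- A generisation of the generic point of an irreducible component is that point. -/
theorem eq_of_specializes_generic [T0Space α] {x w : α} {C₀ : Set α}
    (hC₀ : C₀ ∈ irreducibleComponents α) (hx : IsGenericPoint x C₀) (hw : w ⤳ x) : w = x := by
  have h1 : IsIrreducible (closure ({w} : Set α)) := isIrreducible_singleton.closure
  have h2 : C₀ ≤ closure ({w} : Set α) := by
    rw [← hx.def]
    exact closure_minimal (Set.singleton_subset_iff.mpr (specializes_iff_mem_closure.mp hw))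
      isClosed_closure
  have h3 : closure ({w} : Set α) ≤ C₀ := hC₀.2 h1 h2
  have h4 : x ⤳ w := by
    rw [specializes_iff_mem_closure, hx.def]
    exact h3 (subset_closure rfl)
  exact (hw.antisymm h4).eq

end Top

section Sch

open IsLocalRing

theorem exists_valuationRing_of_specializes {X : Scheme.{u}} {y x : X} (h : y ⤳ x) :
    ∃ (R : Type u) (_ : CommRing R) (_ : IsDomain R) (_ : ValuationRing R)
      (g : Spec (CommRingCat.of R) ⟶ X),
      g (⊥ : PrimeSpectrum R) = y ∧ g (IsLocalRing.closedPoint R) = x := by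
  let φ : X.presheaf.stalk x ⟶ X.residueField y := X.presheaf.stalkSpecializes h ≫ X.residue y
  obtain ⟨A, hA, hA_local⟩ := IsLocalRing.exists_factor_valuationRing φ.hom
  let ψ : X.presheaf.stalk x ⟶ .of A := CommRingCat.ofHom (φ.hom.codRestrict _ hA)
  refine ⟨A, inferInstance, inferInstance, inferInstance, Spec.map ψ ≫ X.fromSpecStalk x, ?_, ?_⟩
  · have w : X.fromSpecResidueField y =
        Spec.map (CommRingCat.ofHom (algebraMap A (X.residueField y))) ≫
          Spec.map ψ ≫ X.fromSpecStalk x := by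
      rw [Scheme.fromSpecResidueField, ← Scheme.SpecMap_stalkSpecializes_fromSpecStalk h]
      simp_rw [← Spec.map_comp_assoc]
      rfl
    have hbot : (⊥ : PrimeSpectrum A) =
        Spec.map (CommRingCat.ofHom (algebraMap A (X.residueField y)))
          (closedPoint (X.residueField y)) := by
      apply PrimeSpectrum.ext
      ext a
      change a ∈ (⊥ : Ideal A) ↔ algebraMap A (X.residueField y) a ∈ maximalIdeal (X.residueField y)
      rw [Ideal.mem_bot, IsLocalRing.mem_maximalIdeal, mem_nonunits_iff, isUnit_iff_ne_zero, not_not]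
      constructor
      · rintro rfl; exact map_zero _
      · intro ha
        exact Subtype.ext ha
    rw [hbot, ← Scheme.Hom.comp_apply, ← w, Scheme.fromSpecResidueField_apply]
  · rw [Scheme.Hom.comp_apply]
    have : Spec.map ψ (closedPoint A) = closedPoint (X.presheaf.stalk x) :=
      comap_closedPoint (S := A) (φ.hom.codRestrict A.toSubring hA)
    rw [this, X.fromSpecStalk_closedPoint]

theorem main {X S : Scheme.{u}} (f : X ⟶ S) (y : X) (s : S) (x : X)
    (hx : x ∈ closure ({y} : Set ↑X)) (hxs : f x = s)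
    (hgen : ∃ C ∈ irreducibleComponents ↑(closure ({y} : Set ↑X) ∩ f ⁻¹' {s}), IsGenericPoint (⟨x, hx, hxs⟩ : ↑(closure ({y} : Set ↑X) ∩ f ⁻¹' {s})) C) :
    ∃ (R : Type u) (_ : CommRing R) (_ : IsDomain R) (_ : ValuationRing R) (g : Spec (CommRingCat.of R) ⟶ S),
      g (⊥ : PrimeSpectrum R) = f y ∧ g (IsLocalRing.closedPoint R) = s ∧
      ∃ (y' : ↑(pullback f g)) (hy't : pullback.snd f g y' = (⊥ : PrimeSpectrum R)) (hy'Y : pullback.fst f g y' ∈ closure ({y} : Set ↑X)),
        pullback.fst f g y' = y ∧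
        (∃ C ∈ irreducibleComponents ↑((pullback.fst f g) ⁻¹' closure ({y} : Set ↑X) ∩ (pullback.snd f g) ⁻¹' {(⊥ : PrimeSpectrum R)}),
          IsGenericPoint (⟨y', hy'Y, hy't⟩ : ↑((pullback.fst f g) ⁻¹' closure ({y} : Set ↑X) ∩ (pullback.snd f g) ⁻¹' {(⊥ : PrimeSpectrum R)})) C) ∧
        ∃ (x' : ↑(pullback f g)) (hx' : x' ∈ closure ({y'} : Set ↑(pullback f g))) (hx's : pullback.snd f g x' = IsLocalRing.closedPoint R),
          pullback.fst f g x' = x ∧
          ∃ C ∈ irreducibleComponents ↑(closure ({y'} : Set ↑(pullback f g)) ∩ (pullback.snd f g) ⁻¹' {IsLocalRing.closedPoint R}),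
            IsGenericPoint (⟨x', hx', hx's⟩ : ↑(closure ({y'} : Set ↑(pullback f g)) ∩ (pullback.snd f g) ⁻¹' {IsLocalRing.closedPoint R})) C := by
  have hyx : y ⤳ x := specializes_iff_mem_closure.mpr hx
  obtain ⟨R, _, _, _, h, hη, hcl⟩ := exists_valuationRing_of_specializes hyx
  refine ⟨R, inferInstance, inferInstance, inferInstance, h ≫ f, ?_, ?_, ?_⟩
  · rw [Scheme.Hom.comp_apply, hη]
  · rw [Scheme.Hom.comp_apply, hcl, hxs]
  obtain ⟨σ, hσ1, hσ2⟩ : ∃ σ : Spec (CommRingCat.of R) ⟶ pullback f (h ≫ f),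
      σ ≫ pullback.fst f (h ≫ f) = h ∧ σ ≫ pullback.snd f (h ≫ f) = 𝟙 _ :=
    ⟨pullback.lift h (𝟙 _) (by simp), pullback.lift_fst _ _ _, pullback.lift_snd _ _ _⟩
  obtain ⟨y₀, hy₀⟩ : ∃ y₀, y₀ = σ (⊥ : PrimeSpectrum R) := ⟨_, rfl⟩
  obtain ⟨x₀, hx₀⟩ : ∃ x₀, x₀ = σ (IsLocalRing.closedPoint R) := ⟨_, rfl⟩
  have hy₀1 : pullback.fst f (h ≫ f) y₀ = y := by
    rw [hy₀, ← Scheme.Hom.comp_apply, hσ1, hη]
  have hy₀2 : pullback.snd f (h ≫ f) y₀ = (⊥ : PrimeSpectrum R) := by
    rw [hy₀, ← Scheme.Hom.comp_apply, hσ2]; rfl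
  have hx₀1 : pullback.fst f (h ≫ f) x₀ = x := by
    rw [hx₀, ← Scheme.Hom.comp_apply, hσ1, hcl]
  have hx₀2 : pullback.snd f (h ≫ f) x₀ = IsLocalRing.closedPoint R := by
    rw [hx₀, ← Scheme.Hom.comp_apply, hσ2]; rfl
  have hy₀x₀ : y₀ ⤳ x₀ := by
    rw [hy₀, hx₀]
    exact ((PrimeSpectrum.le_iff_specializes (⊥ : PrimeSpectrum R)
      (IsLocalRing.closedPoint R)).mp bot_le).map σ.continuous
  -- the generic point over the generic point
  have hA1 : IsClosed ((pullback.fst f (h ≫ f)) ⁻¹' closure ({y} : Set ↑X)) :=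
    isClosed_closure.preimage (pullback.fst f (h ≫ f)).continuous
  obtain ⟨ξ, hξC, hξy₀⟩ := exists_generic_specializes (pullback.snd f (h ≫ f)).continuous hA1
    (⊥ : PrimeSpectrum R) ⟨y₀, by rw [Set.mem_preimage, hy₀1]; exact subset_closure rfl, hy₀2⟩
  have hfy' : pullback.fst f (h ≫ f) ξ.1 = y := by
    have h1 : y ⤳ pullback.fst f (h ≫ f) ξ.1 := specializes_iff_mem_closure.mpr ξ.2.1
    have h2 : pullback.fst f (h ≫ f) ξ.1 ⤳ y := by
      have := hξy₀.map (pullback.fst f (h ≫ f)).continuous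
      rwa [hy₀1] at this
    exact (h2.antisymm h1).eq
  refine ⟨ξ.1, ξ.2.2, ξ.2.1, hfy', hξC, ?_⟩
  -- the generic point over the closed point
  have hx₀cl : x₀ ∈ closure ({ξ.1} : Set ↑(pullback f (h ≫ f))) :=
    specializes_iff_mem_closure.mp (hξy₀.trans hy₀x₀)
  obtain ⟨ζ, hζD, hζx₀⟩ := exists_generic_specializes (pullback.snd f (h ≫ f)).continuous
    (isClosed_closure (s := ({ξ.1} : Set ↑(pullback f (h ≫ f))))) (IsLocalRing.closedPoint R)
    ⟨x₀, hx₀cl, hx₀2⟩
  refine ⟨ζ.1, ζ.2.1, ζ.2.2, ?_, hζD⟩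
  -- `fst ζ = x`
  have hw1 : pullback.fst f (h ≫ f) ζ.1 ⤳ x := by
    have := hζx₀.map (pullback.fst f (h ≫ f)).continuous
    rwa [hx₀1] at this
  have hw2 : pullback.fst f (h ≫ f) ζ.1 ∈ closure ({y} : Set ↑X) := by
    have h1 : ξ.1 ⤳ ζ.1 := specializes_iff_mem_closure.mpr ζ.2.1
    have h2 := h1.map (pullback.fst f (h ≫ f)).continuous
    rw [hfy'] at h2
    exact specializes_iff_mem_closure.mp h2
  have hw3 : f (pullback.fst f (h ≫ f) ζ.1) = s := by
    rw [← Scheme.Hom.comp_apply, pullback.condition, Scheme.Hom.comp_apply]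
    have : pullback.snd f (h ≫ f) ζ.1 = IsLocalRing.closedPoint R := ζ.2.2
    rw [this, Scheme.Hom.comp_apply, hcl, hxs]
  obtain ⟨C₀, hC₀, hxC₀⟩ := hgen
  have hspec : (⟨pullback.fst f (h ≫ f) ζ.1, hw2, hw3⟩ : ↑(closure ({y} : Set ↑X) ∩ f ⁻¹' {s})) ⤳
      ⟨x, hx, hxs⟩ := Topology.IsInducing.subtypeVal.specializes_iff.mp hw1
  have := eq_of_specializes_generic hC₀ hxC₀ hspec
  exact congrArg Subtype.val this

end Sch

end Groth.Agent.Helper8.ValGen
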