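import Mathlib
import Groth.Agent.Helper8.WCPt

set_option autoImplicit false
universe u v w

namespace Groth.Agent.Helper8.WCGen

open CategoryTheory CategoryTheory.Limits AlgebraicGeometry WeilCoh
open Groth.Agent.Helper5.VarDim Groth.Agent.Helper7 Groth.Agent.Helper8.WCGeo
open Groth.Agent.Helper8.WCDiag Groth.Agent.Helper8.WCPt

variable {k : Type u} [Field k]

theorem closure_pt (ξ0 : (pt k).obj.left) : closure ({ξ0} : Set (pt k).obj.left) = Set.univ := by
  apply Set.eq_univ_of_forall
  intro y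
  rw [Subsingleton.elim y ξ0]
  exact subset_closure rfl

theorem isCompPt_iff (X : Var k) [IrreducibleSpace ↥X.obj.left] (ξ0 : (pt k).obj.left)
    (w : X.obj.left) :
    IsCompPt ((sm (toPt X)) ⁻¹' closure ({ξ0} : Set (pt k).obj.left)) w ↔
      w = genericPoint ↥X.obj.left := by
  rw [closure_pt, Set.preimage_univ]
  constructor
  · rintro ⟨-, h⟩
    exact (h _ trivial (genericPoint_specializes w)).symm
  · rintro rfl
    exact ⟨trivial, fun w' _ hw' => (hw'.antisymm (genericPoint_specializes w')).eq⟩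

/-- The multiplicity of the inverse image of the point along the generic point is one. -/
theorem preimMult_generic (X : Var k) [IrreducibleSpace ↥X.obj.left] (ξ0 : (pt k).obj.left)
    (h : sm (toPt X) (genericPoint ↥X.obj.left) ∈ closure ({ξ0} : Set (pt k).obj.left)) :
    preimMult (sm (toPt X)) ξ0 (genericPoint ↥X.obj.left) h = 1 := by
  unfold preimMult
  haveI := WCPt.isIntegral X
  set η := genericPoint ↥X.obj.left with hη
  set φ := ((sm (toPt X)).stalkMap η).hom with hφ
  set J := RingHom.ker (Cyc.specMap (sm (toPt X) η) ξ0 (specializes_iff_mem_closure.mpr h))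
    with hJ
  have hfield : IsField (X.obj.left.presheaf.stalk η) :=
    isField_stalk_of_closure_mem_irreducibleComponents X.obj.left η (by
      rw [(genericPoint_spec X.obj.left).def]
      simp [irreducibleComponents_eq_singleton])
  letI := hfield.toField
  have hJtop : J ≠ ⊤ := RingHom.ker_ne_top _
  have hJle : J ≤ IsLocalRing.maximalIdeal _ := IsLocalRing.le_maximalIdeal hJtop
  haveI : IsLocalHom φ := by rw [hφ]; infer_instance
  have hloc : (IsLocalRing.maximalIdeal _).map φ ≤ IsLocalRing.maximalIdeal _ := by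
    rw [Ideal.map_le_iff_le_comap]
    intro x hx
    rw [Ideal.mem_comap, IsLocalRing.mem_maximalIdeal, mem_nonunits_iff]
    rw [IsLocalRing.mem_maximalIdeal, mem_nonunits_iff] at hx
    exact fun hu => hx (isUnit_of_map_unit φ x hu)
  have hI : Ideal.map φ J = ⊥ := by
    have h1 : Ideal.map φ J ≤ IsLocalRing.maximalIdeal (X.obj.left.presheaf.stalk η) :=
      (Ideal.map_mono hJle).trans hloc
    rw [IsLocalRing.maximalIdeal_eq_bot] at h1
    exact le_bot_iff.mp h1
  rw [hI]
  have e : (X.obj.left.presheaf.stalk η ⧸ (⊥ : Ideal (X.obj.left.presheaf.stalk η)))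
      ≃ₗ[X.obj.left.presheaf.stalk η] X.obj.left.presheaf.stalk η :=
    Submodule.quotEquivOfEqBot ⊥ rfl
  rw [e.length_eq, Module.length_eq_one]
  rfl

variable {K : Type v} [Field K] (T : TheoryOn.{u, v, w} k (IsVar k) K)

/-- S15443. -/
theorem cl_generic (X : Var k) [IrreducibleSpace ↥X.obj.left] :
    T.cl X (genericPoint ↥X.obj.left) = 1 := by
  let ξ0 : (pt k).obj.left := IsLocalRing.closedPoint k
  have hdim : ∀ w : X.obj.left,
      IsCompPt ((sm (toPt X)) ⁻¹' closure ({ξ0} : Set (pt k).obj.left)) w →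
      (pdim X.obj.left w : ℤ) =
        pdim (pt k).obj.left ξ0 + dim X.obj.left - dim (pt k).obj.left := by
    intro w hw
    rw [(isCompPt_iff X ξ0 w).1 hw, pdim_pt, dim_pt,
      pdim_of_closure_eq_univ X _ (by rw [(genericPoint_spec X.obj.left).def])]
    simp
  have hflat : (∃ U : (pt k).obj.left.Opens,
      closure ({ξ0} : Set (pt k).obj.left) ⊆ (U : Set (pt k).obj.left) ∧
        Flat ((sm (toPt X)) ∣_ U)) := by
    refine ⟨⊤, fun _ _ => trivial, ?_⟩
    haveI : Smooth (sm (toPt X)) := X.property.1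
    infer_instance
  have h := T.cl_pull (toPt X) ξ0 hdim (Or.inl hflat)
  rw [cl_pt, map_one] at h
  haveI : Unique {w : X.obj.left //
      IsCompPt ((sm (toPt X)) ⁻¹' closure ({ξ0} : Set (pt k).obj.left)) w} :=
    ⟨⟨⟨genericPoint ↥X.obj.left, (isCompPt_iff X ξ0 _).2 rfl⟩⟩,
      fun w => Subtype.ext ((isCompPt_iff X ξ0 w.1).1 w.2)⟩
  rw [finsum_unique] at h
  have hgen : ∀ w : {w : X.obj.left //
      IsCompPt ((sm (toPt X)) ⁻¹' closure ({ξ0} : Set (pt k).obj.left)) w},
      preimMult (sm (toPt X)) ξ0 w.1 w.2.1 = 1 := by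
    rintro ⟨w, hw⟩
    have := (isCompPt_iff X ξ0 w).1 hw
    subst this
    exact preimMult_generic X ξ0 _
  rw [hgen, Nat.cast_one, one_smul] at h
  have hd := (isCompPt_iff X ξ0 _).1 (default : {w : X.obj.left //
      IsCompPt ((sm (toPt X)) ⁻¹' closure ({ξ0} : Set (pt k).obj.left)) w}).2
  rw [hd] at h
  exact h.symm

/-- S15445. -/
theorem tr_pull (X Y : Var k) [IrreducibleSpace ↥X.obj.left] [IrreducibleSpace ↥Y.obj.left]
    (f : X ⟶ Y)
    (hdom : sm f (genericPoint ↥X.obj.left) = genericPoint ↥Y.obj.left)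
    (hdim : dim X.obj.left = dim Y.obj.left) (a : T.H Y)
    (ha : a ∈ T.gr Y (2 * (dim Y.obj.left : ℤ))) :
    T.tr X (T.pull f a) =
      ((sm f).residueDegree (genericPoint ↥X.obj.left) : K) * T.tr Y a := by
  have hp : pdim X.obj.left (genericPoint ↥X.obj.left) = dim X.obj.left :=
    pdim_of_closure_eq_univ X _ (by rw [(genericPoint_spec X.obj.left).def])
  have h := T.cl_push f (genericPoint ↥X.obj.left) a
    (WC.gr_congr T (by rw [hp, hdim]) ha)
  rw [hdom, cl_generic, cl_generic, one_mul, one_mul] at h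
  exact h

/-- S15464. -/
theorem graph (X Y P : Var k) [IrreducibleSpace ↥X.obj.left] (f : X ⟶ Y) (p : P ⟶ X)
    (q : P ⟶ Y) (j : X ⟶ P) (hjp : j ≫ p = 𝟙 X) (hjq : j ≫ q = f)
    (i : ℤ) (β : ↥(T.gr Y i)) :
    (T.push p (2 * (codim P.obj.left (sm j (genericPoint ↥X.obj.left)) : ℤ) + i)
        ⟨T.cl P (sm j (genericPoint ↥X.obj.left)) * T.pull q (β : T.H Y),
          SetLike.mul_mem_graded (T.cl_mem P (sm j (genericPoint ↥X.obj.left)))
            (T.pull_mem q i β β.2)⟩ : T.H X) = T.pull f (β : T.H Y) := by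
  set η := genericPoint ↥X.obj.left with hη
  have hsec : sm j ≫ sm p = 𝟙 X.obj.left := by
    rw [← sm_comp, hjp, sm_id]
  have hdeg : (sm j).residueDegree η = 1 := residueDegree_of_section (sm j) (sm p) hsec η
  have hpX : pdim X.obj.left η = dim X.obj.left :=
    pdim_of_closure_eq_univ X _ (by rw [(genericPoint_spec X.obj.left).def])
  have hp : pdim P.obj.left (sm j η) = pdim X.obj.left η :=
    pdim_eq_of_residueDegree_ne_zero j η (by rw [hdeg]; exact one_ne_zero)
  have hcP := two_codim P (sm j η)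
  apply WC.eq_of_forall_tr T
    (2 * (codim P.obj.left (sm j η) : ℤ) + i + 2 * (dim X.obj.left : ℤ) - 2 * (dim P.obj.left : ℤ))
    (2 * (dim P.obj.left : ℤ) - (2 * (codim P.obj.left (sm j η) : ℤ) + i)) (by omega)
  · exact (T.push p _ _).2
  · exact WC.gr_congr T (by omega) (T.pull_mem f i β β.2)
  · intro b hb
    rw [WC.push_spec T p _ _ b hb]
    show T.tr P (T.cl P (sm j η) * T.pull q (β : T.H Y) * T.pull p b) = _
    have hc : T.pull q (β : T.H Y) * T.pull p b ∈ T.gr P (2 * (pdim X.obj.left η : ℤ)) :=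
      WC.gr_congr T (by omega)
        (SetLike.mul_mem_graded (T.pull_mem q i β β.2) (T.pull_mem p _ b hb))
    have h1 := T.cl_push j η _ hc
    rw [hdeg, Nat.cast_one, one_mul, map_mul (T.pull j), pull_section T j p hjp,
      pull_pull T j q, hjq, cl_generic, one_mul] at h1
    rw [mul_assoc, ← h1]

end Groth.Agent.Helper8.WCGen
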