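import Mathlib
import Groth.Agent.Helper8.WCGen

set_option autoImplicit false
universe u v w

namespace Groth.Agent.Helper8.WCKun

open CategoryTheory CategoryTheory.Limits AlgebraicGeometry WeilCoh
open Groth.Agent.Helper5.VarDim Groth.Agent.Helper7 Groth.Agent.Helper8.WCGeo
open Groth.Agent.Helper8.WCDiag Groth.Agent.Helper8.WCPt Groth.Agent.Helper8.WCGen

variable {k : Type u} [Field k]
variable {K : Type v} [Field K] (T : TheoryOn.{u, v, w} k (IsVar k) K)

theorem hom_induction (X : Var k) (motive : T.H X → Prop) (h0 : motive 0)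
    (hadd : ∀ x y, motive x → motive y → motive (x + y))
    (hhom : ∀ (i : ℤ) (x : T.H X), x ∈ T.gr X i → motive x) (x : T.H X) : motive x := by
  have htop : x ∈ iSup (T.gr X) := by
    rw [(T.decomp X).submodule_iSup_eq_top]; trivial
  exact Submodule.iSup_induction (T.gr X) (motive := motive) htop hhom h0 hadd

theorem eq_zero_of_vanish (X : Var k) (i : ℤ) (h : i < 0 ∨ 2 * (dim X.obj.left : ℤ) < i)
    (x : T.H X) (hx : x ∈ T.gr X i) : x = 0 := by
  have h2 : ∀ (S : Submodule K (T.H X)), x ∈ S → S = ⊥ → x = 0 := by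
    intro S hx hS
    rw [hS, Submodule.mem_bot] at hx
    exact hx
  exact h2 _ hx (T.vanish X i h)

/-- Multiplicativity of the trace on a product, for arbitrary classes. -/
theorem tr_prod_all {X Y Q : Var k} (p : Q ⟶ X) (q : Q ⟶ Y) (hQ : IsProd p q)
    (u : T.H X) (v : T.H Y) :
    T.tr Q (T.pull p u * T.pull q v) = T.tr X u * T.tr Y v := by
  have hd := WC.dim_prod T p q hQ
  refine hom_induction T X
    (fun u => T.tr Q (T.pull p u * T.pull q v) = T.tr X u * T.tr Y v)
    (by simp) (fun x y hx hy => by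
      simp only [map_add, add_mul, hx, hy]) ?_ u
  intro a' u hu
  refine hom_induction T Y
    (fun v => T.tr Q (T.pull p u * T.pull q v) = T.tr X u * T.tr Y v)
    (by simp) (fun x y hx hy => by
      simp only [map_add, mul_add, hx, hy]) ?_ v
  intro b' v hv
  by_cases h1 : a' = 2 * (dim X.obj.left : ℤ) ∧ b' = 2 * (dim Y.obj.left : ℤ)
  · exact T.tr_prod p q hQ u v (h1.1 ▸ hu) (h1.2 ▸ hv)
  · have hR : T.tr X u * T.tr Y v = 0 := by
      by_cases h2 : a' = 2 * (dim X.obj.left : ℤ)
      · have h3 : b' ≠ 2 * (dim Y.obj.left : ℤ) := fun h => h1 ⟨h2, h⟩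
        rw [T.tr_vanish Y b' v hv h3, mul_zero]
      · rw [T.tr_vanish X a' u hu h2, zero_mul]
    rw [hR]
    by_cases h4 : a' + b' = 2 * (dim Q.obj.left : ℤ)
    · have h5 : 2 * (dim X.obj.left : ℤ) < a' ∨ 2 * (dim Y.obj.left : ℤ) < b' := by omega
      rcases h5 with h | h
      · rw [eq_zero_of_vanish T X a' (Or.inr h) u hu]; simp
      · rw [eq_zero_of_vanish T Y b' (Or.inr h) v hv]; simp
    · exact T.tr_vanish Q (a' + b') _
        (SetLike.mul_mem_graded (T.pull_mem p _ _ hu) (T.pull_mem q _ _ hv)) h4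

section Graph

variable (X P : Var k) [IrreducibleSpace ↥X.obj.left] (φ : X ⟶ X)
  (p q : P ⟶ X) (hP : IsProd p q) (j : X ⟶ P) (hjp : j ≫ p = 𝟙 X) (hjq : j ≫ q = φ)

include T hP hjp in
theorem two_codim_graph :
    2 * (codim P.obj.left (sm j (genericPoint ↥X.obj.left)) : ℤ) = 2 * (dim X.obj.left : ℤ) ∧
    pdim X.obj.left (genericPoint ↥X.obj.left) = dim X.obj.left ∧
    (sm j).residueDegree (genericPoint ↥X.obj.left) = 1 ∧
    (dim P.obj.left : ℤ) = dim X.obj.left + dim X.obj.left := by
  set η := genericPoint ↥X.obj.left with hη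
  have hsec : sm j ≫ sm p = 𝟙 X.obj.left := by
    rw [← sm_comp, hjp, sm_id]
  have hdeg : (sm j).residueDegree η = 1 := residueDegree_of_section (sm j) (sm p) hsec η
  have hpX : pdim X.obj.left η = dim X.obj.left :=
    pdim_of_closure_eq_univ X _ (by rw [(genericPoint_spec X.obj.left).def])
  have hp : pdim P.obj.left (sm j η) = pdim X.obj.left η :=
    pdim_eq_of_residueDegree_ne_zero j η (by rw [hdeg]; exact one_ne_zero)
  have hcP := two_codim P (sm j η)
  have hd := WC.dim_prod T p q hP
  refine ⟨by omega, hpX, hdeg, hd⟩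

include hP hjp hjq in
/-- Pairing the class of the graph against a product class. -/
theorem tr_graph_mul (a b : T.H X) :
    T.tr P (T.cl P (sm j (genericPoint ↥X.obj.left)) * (T.pull p a * T.pull q b)) =
      T.tr X (a * T.pull φ b) := by
  obtain ⟨hc, hpX, hdeg, hd⟩ := two_codim_graph T X P p q hP j hjp
  set η := genericPoint ↥X.obj.left with hη
  refine hom_induction T X
    (fun a => T.tr P (T.cl P (sm j η) * (T.pull p a * T.pull q b)) = T.tr X (a * T.pull φ b))
    (by simp) (fun x y hx hy => by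
      simp only [map_add, add_mul, mul_add, hx, hy]) ?_ a
  intro s a ha
  refine hom_induction T X
    (fun b => T.tr P (T.cl P (sm j η) * (T.pull p a * T.pull q b)) = T.tr X (a * T.pull φ b))
    (by simp) (fun x y hx hy => by
      simp only [map_add, mul_add, hx, hy]) ?_ b
  intro t b hb
  by_cases hst : s + t = 2 * (dim X.obj.left : ℤ)
  · have hcm : T.pull p a * T.pull q b ∈ T.gr P (2 * (pdim X.obj.left η : ℤ)) :=
      WC.gr_congr T (by rw [hpX]; exact hst)
        (SetLike.mul_mem_graded (T.pull_mem p s a ha) (T.pull_mem q t b hb))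
    have h1 := T.cl_push j η _ hcm
    rw [hdeg, Nat.cast_one, one_mul, map_mul (T.pull j), pull_section T j p hjp,
      pull_pull T j q, hjq, cl_generic, one_mul] at h1
    exact h1.symm
  · rw [T.tr_vanish P (2 * (codim P.obj.left (sm j η) : ℤ) + (s + t)) _
        (SetLike.mul_mem_graded (T.cl_mem P (sm j η))
          (SetLike.mul_mem_graded (T.pull_mem p s a ha) (T.pull_mem q t b hb))) (by omega),
      T.tr_vanish X (s + t) _ (SetLike.mul_mem_graded ha (T.pull_mem φ t b hb)) hst]

variable (ι : ℕ → Type) [∀ r, Fintype (ι r)] [∀ r, DecidableEq (ι r)]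
    (e : (r : ℕ) → Module.Basis (ι r) K ↥(T.gr X (r : ℤ)))
    (f : (r : ℕ) → ι r → ↥(T.gr X (2 * (dim X.obj.left : ℤ) - r)))
    (hef : ∀ r, r ≤ 2 * dim X.obj.left → ∀ i l : ι r,
      T.tr X ((f r l : T.H X) * (e r i : T.H X)) = if i = l then 1 else 0)

include hef in
theorem repr_eq (r : ℕ) (hr : r ≤ 2 * dim X.obj.left) (b : ↥(T.gr X (r : ℤ))) (l : ι r) :
    (e r).repr b l = T.tr X ((f r l : T.H X) * (b : T.H X)) := by
  conv_rhs => rw [← (e r).sum_repr b]
  rw [Submodule.coe_sum, Finset.mul_sum, map_sum]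
  simp only [Submodule.coe_smul, mul_smul_comm, map_smul, smul_eq_mul, hef r hr]
  simp

include hef in
/-- The key identity behind the Künneth decomposition of a graph. -/
theorem tr_expand (a b : T.H X) :
    T.tr X (a * T.pull φ b) =
      ∑ r ∈ Finset.range (2 * dim X.obj.left + 1), ∑ i : ι r,
        T.tr X (a * T.pull φ (e r i : T.H X)) * T.tr X ((f r i : T.H X) * b) := by
  refine hom_induction T X
    (fun b => T.tr X (a * T.pull φ b) =
      ∑ r ∈ Finset.range (2 * dim X.obj.left + 1), ∑ i : ι r,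
        T.tr X (a * T.pull φ (e r i : T.H X)) * T.tr X ((f r i : T.H X) * b))
    (by simp) (fun x y hx hy => by
      simp only [map_add, mul_add, hx, hy, Finset.sum_add_distrib]) ?_ b
  intro t b hb
  by_cases ht : t < 0 ∨ 2 * (dim X.obj.left : ℤ) < t
  · rw [eq_zero_of_vanish T X t ht b hb]; simp
  · have ht0 : 0 ≤ t := by omega
    obtain ⟨t', rfl⟩ := Int.eq_ofNat_of_zero_le ht0
    have ht' : t' ≤ 2 * dim X.obj.left := by omega
    rw [Finset.sum_eq_single t']
    · have hb' := (e t').sum_repr ⟨b, hb⟩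
      have hb2 : b = ∑ i : ι t', ((e t').repr ⟨b, hb⟩ i) • (e t' i : T.H X) := by
        have := congrArg Subtype.val hb'
        rw [Submodule.coe_sum] at this
        simpa using this.symm
      conv_lhs => rw [hb2]
      rw [map_sum, Finset.mul_sum, map_sum]
      refine Finset.sum_congr rfl fun i _ => ?_
      rw [map_smul, mul_smul_comm, map_smul, smul_eq_mul, repr_eq T X ι e f hef t' ht' ⟨b, hb⟩ i,
        mul_comm]
    · intro r _ hr
      refine Finset.sum_eq_zero fun i _ => ?_
      rw [T.tr_vanish X (2 * (dim X.obj.left : ℤ) - r + t') _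
        (SetLike.mul_mem_graded (f r i).2 hb) (by omega), mul_zero]
    · intro h
      exact absurd (Finset.mem_range.2 (by omega)) h

include hP in
/-- Pairing the candidate Künneth expansion against a product class. -/
theorem tr_expansion_mul (a b : T.H X) :
    T.tr P ((∑ r ∈ Finset.range (2 * dim X.obj.left + 1), ∑ i : ι r,
        T.pull p (T.pull φ (e r i : T.H X)) * T.pull q (f r i : T.H X)) *
          (T.pull p a * T.pull q b)) =
      ∑ r ∈ Finset.range (2 * dim X.obj.left + 1), ∑ i : ι r,
        T.tr X (a * T.pull φ (e r i : T.H X)) * T.tr X ((f r i : T.H X) * b) := by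
  rw [Finset.sum_mul, map_sum]
  refine Finset.sum_congr rfl fun r _ => ?_
  rw [Finset.sum_mul, map_sum]
  refine Finset.sum_congr rfl fun i _ => ?_
  refine hom_induction T X
    (fun a => T.tr P (T.pull p (T.pull φ (e r i : T.H X)) * T.pull q (f r i : T.H X) *
        (T.pull p a * T.pull q b)) =
      T.tr X (a * T.pull φ (e r i : T.H X)) * T.tr X ((f r i : T.H X) * b))
    (by simp) (fun x y hx hy => by
      simp only [map_add, add_mul, mul_add, hx, hy]) ?_ a
  intro s a ha
  have hE : T.pull p (T.pull φ (e r i : T.H X)) * T.pull q (f r i : T.H X) ∈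
      T.gr P (2 * ((dim X.obj.left : ℕ) : ℤ)) :=
    WC.gr_congr T (by omega)
      (SetLike.mul_mem_graded (T.pull_mem p _ _ (T.pull_mem φ _ _ (e r i).2))
        (T.pull_mem q _ _ (f r i).2))
  rw [← mul_assoc, ← comm_even T P s (dim X.obj.left) _ _ (T.pull_mem p s a ha) hE,
    ← mul_assoc, ← map_mul (T.pull p), mul_assoc, ← map_mul (T.pull q),
    tr_prod_all T p q hP]

include hP hjp hjq hef in
/-- S15451. -/
theorem cl_graph :
    T.cl P (sm j (genericPoint ↥X.obj.left)) =
      ∑ r ∈ Finset.range (2 * dim X.obj.left + 1), ∑ i : ι r,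
        T.pull p (T.pull φ (e r i : T.H X)) * T.pull q (f r i : T.H X) := by
  obtain ⟨hc, hpX, hdeg, hd⟩ := two_codim_graph T X P p q hP j hjp
  apply WC.eq_of_forall_tr T (2 * (dim X.obj.left : ℤ)) (2 * (dim X.obj.left : ℤ)) (by omega)
  · exact WC.gr_congr T hc (T.cl_mem P _)
  · refine Submodule.sum_mem _ fun r _ => Submodule.sum_mem _ fun i _ => ?_
    exact WC.gr_congr T (by omega)
      (SetLike.mul_mem_graded (T.pull_mem p _ _ (T.pull_mem φ _ _ (e r i).2))
        (T.pull_mem q _ _ (f r i).2))
  · have key : ∀ t : TensorProduct K (T.H X) (T.H X),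
        T.tr P (T.cl P (sm j (genericPoint ↥X.obj.left)) *
          kunnethMap K (T.pull p) (T.pull q) t) =
        T.tr P ((∑ r ∈ Finset.range (2 * dim X.obj.left + 1), ∑ i : ι r,
          T.pull p (T.pull φ (e r i : T.H X)) * T.pull q (f r i : T.H X)) *
          kunnethMap K (T.pull p) (T.pull q) t) := by
      intro t
      induction t using TensorProduct.induction_on with
      | zero => simp
      | tmul a b =>
        show T.tr P (_ * (T.pull p a * T.pull q b)) = T.tr P (_ * (T.pull p a * T.pull q b))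
        rw [tr_graph_mul T X P φ p q hP j hjp hjq, tr_expansion_mul T X P φ p q hP ι e f,
          tr_expand T X φ ι e f hef]
      | add x y hx hy =>
        simp only [map_add, mul_add, hx, hy]
    intro c _
    obtain ⟨t, rfl⟩ := (T.kunneth p q hP).surjective c
    exact key t

end Graph

end Groth.Agent.Helper8.WCKun
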