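import Mathlib
import Groth.Agent.Helper8.WCKun

set_option autoImplicit false
universe u v w

namespace Groth.Agent.Helper8.WCLef

open CategoryTheory CategoryTheory.Limits AlgebraicGeometry WeilCoh
open Groth.Agent.Helper5.VarDim Groth.Agent.Helper7 Groth.Agent.Helper8.WCGeo
open Groth.Agent.Helper8.WCDiag Groth.Agent.Helper8.WCPt Groth.Agent.Helper8.WCGen
open Groth.Agent.Helper8.WCKun

variable {k : Type u} [Field k]
variable {K : Type v} [Field K] (T : TheoryOn.{u, v, w} k (IsVar k) K)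

section Bases

variable (X : Var k)

/-- Index types of chosen bases. -/
abbrev ι (r : ℕ) : Type := Fin (Module.finrank K ↥(T.gr X (r : ℤ)))

/-- Chosen bases of the cohomology groups. -/
noncomputable def eB (r : ℕ) : Module.Basis (ι T X r) K ↥(T.gr X (r : ℤ)) :=
  Module.finBasis K ↥(T.gr X (r : ℤ))

/-- The Poincaré dual family. -/
noncomputable def fB (r : ℕ) (l : ι T X r) : ↥(T.gr X (2 * (dim X.obj.left : ℤ) - r)) :=
  haveI := T.duality X (2 * (dim X.obj.left : ℤ) - r) r (by omega)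
  (pairing K (T.gr X (2 * (dim X.obj.left : ℤ) - r)) (T.gr X (r : ℤ))
    (T.tr X)).toPerfPair.symm ((eB T X r).coord l)

theorem fB_spec (r : ℕ) (i l : ι T X r) :
    T.tr X ((fB T X r l : T.H X) * (eB T X r i : T.H X)) = if i = l then 1 else 0 := by
  haveI := T.duality X (2 * (dim X.obj.left : ℤ) - r) r (by omega)
  have h := LinearMap.apply_symm_toPerfPair_self
    (pairing K (T.gr X (2 * (dim X.obj.left : ℤ) - r)) (T.gr X (r : ℤ)) (T.tr X))
    ((eB T X r).coord l)
  have h2 := LinearMap.congr_fun h (eB T X r i)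
  have h3 : (eB T X r).coord l (eB T X r i) = if i = l then 1 else 0 := by
    rw [Module.Basis.coord_apply, Module.Basis.repr_self, Finsupp.single_apply]
  rw [h3] at h2
  exact h2

end Bases

theorem neg_one_pow_mul (r m : ℕ) (hr : r ≤ 2 * m) :
    ((-1 : K) ^ (r * (2 * m - r))) = (-1 : K) ^ r := by
  rcases Nat.even_or_odd r with h | h
  · rw [h.neg_one_pow, (h.mul_right _).neg_one_pow]
  · have h2 : Odd (2 * m - r) := by
      obtain ⟨c, hc⟩ := h
      exact ⟨m - c - 1, by omega⟩
    rw [h.neg_one_pow, (h.mul h2).neg_one_pow]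

/-- S15450. -/
theorem lefschetz (X P : Var k) [IrreducibleSpace ↥X.obj.left] (φ : X ⟶ X)
    (p q : P ⟶ X) (hP : IsProd p q) (j d : X ⟶ P)
    (hjp : j ≫ p = 𝟙 X) (hjq : j ≫ q = φ) (hdp : d ≫ p = 𝟙 X) (hdq : d ≫ q = 𝟙 X) :
    T.tr P (T.cl P (sm j (genericPoint ↥X.obj.left)) *
        T.cl P (sm d (genericPoint ↥X.obj.left))) =
      ∑ i ∈ Finset.range (2 * dim X.obj.left + 1),
        (-1 : K) ^ i * LinearMap.trace K ↥(T.gr X (i : ℤ)) (T.pullDeg φ (i : ℤ)) := by
  obtain ⟨hcj, hpX, -, hd⟩ := two_codim_graph T X P p q hP j hjp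
  obtain ⟨hcd, -, hdeg, -⟩ := two_codim_graph T X P p q hP d hdp
  set η := genericPoint ↥X.obj.left with hη
  -- step 1: reduce to the trace of the pull-back of the graph class along the diagonal
  have hmem : T.cl P (sm j η) ∈ T.gr P (2 * (pdim X.obj.left η : ℤ)) :=
    WC.gr_congr T (by rw [hpX]; exact hcj) (T.cl_mem P _)
  have h1 := T.cl_push d η _ hmem
  rw [hdeg, Nat.cast_one, one_mul, cl_generic, one_mul] at h1
  have hcomm : T.cl P (sm j η) * T.cl P (sm d η) = T.cl P (sm d η) * T.cl P (sm j η) :=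
    comm_even T P _ (codim P.obj.left (sm d η)) _ _ (T.cl_mem P _) (T.cl_mem P _)
  rw [hcomm, ← h1,
    cl_graph T X P φ p q hP j hjp hjq (ι T X) (eB T X) (fB T X)
      (fun r _ i l => fB_spec T X r i l),
    map_sum, map_sum]
  refine Finset.sum_congr rfl fun r hr => ?_
  have hr' : r ≤ 2 * dim X.obj.left := by
    have := Finset.mem_range.1 hr; omega
  rw [map_sum, map_sum, LinearMap.trace_eq_matrix_trace K (eB T X r), Matrix.trace,
    Finset.mul_sum]
  refine Finset.sum_congr rfl fun i _ => ?_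
  rw [map_mul (T.pull d), pull_section T d p hdp, pull_section T d q hdq, Matrix.diag_apply,
    LinearMap.toMatrix_apply,
    repr_eq T X (ι T X) (eB T X) (fB T X) (fun r _ i l => fB_spec T X r i l) r hr']
  have hg := T.gradedComm X (r : ℤ) (2 * (dim X.obj.left : ℤ) - r)
    (T.pull φ (eB T X r i : T.H X)) (fB T X r i : T.H X)
    (T.pull_mem φ _ _ (eB T X r i).2) (fB T X r i).2
  have hn : (2 * (dim X.obj.left : ℤ) - r).natAbs = 2 * dim X.obj.left - r := by omega
  rw [hg, Int.natAbs_natCast, hn, neg_one_pow_mul r _ hr', map_smul, smul_eq_mul]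
  rfl

end Groth.Agent.Helper8.WCLef
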