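import Mathlib
import Groth.Agent.Helper8.WCKun

set_option autoImplicit false
universe u v w

namespace Groth.Agent.Helper8.WCProj

open CategoryTheory CategoryTheory.Limits AlgebraicGeometry WeilCoh
open Groth.Agent.Helper5.VarDim Groth.Agent.Helper7 Groth.Agent.Helper8.WCGeo
open Groth.Agent.Helper8.WCDiag Groth.Agent.Helper8.WCPt Groth.Agent.Helper8.WCGen
open Groth.Agent.Helper8.WCKun

variable {k : Type u} [Field k]

/-- Morphisms into a product with prescribed components. -/
theorem exists_lift {X Y Q W : Var k} (p : Q ⟶ X) (q : Q ⟶ Y) (hQ : IsProd p q)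
    (a : W ⟶ X) (b : W ⟶ Y) : ∃ g : W ⟶ Q, g ≫ p = a ∧ g ≫ q = b := by
  have w : sm a ≫ X.obj.hom = sm b ≫ Y.obj.hom := by
    rw [Over.w a.hom, Over.w b.hom]
  have h1 : hQ.lift (sm a) (sm b) w ≫ Q.obj.hom = W.obj.hom := by
    rw [← Over.w p.hom, ← Category.assoc]
    erw [hQ.lift_fst]
    exact Over.w a.hom
  refine ⟨ObjectProperty.homMk (Over.homMk (hQ.lift (sm a) (sm b) w) h1), ?_, ?_⟩
  · apply ObjectProperty.hom_ext
    apply Over.OverMorphism.ext
    exact hQ.lift_fst _ _ _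
  · apply ObjectProperty.hom_ext
    apply Over.OverMorphism.ext
    exact hQ.lift_snd _ _ _

variable {K : Type v} [Field K] (T : TheoryOn.{u, v, w} k (IsVar k) K)

theorem push_congr {X Y : Var k} (f : X ⟶ Y) (m m' : ℤ) (h : m = m') (x : T.H X)
    (hx : x ∈ T.gr X m) (hx' : x ∈ T.gr X m') :
    (T.push f m ⟨x, hx⟩ : T.H Y) = (T.push f m' ⟨x, hx'⟩ : T.H Y) := by
  subst h
  rfl

theorem push_sum {X Y : Var k} (f : X ⟶ Y) (m : ℤ) {ι : Type*} (s : Finset ι) (c : ι → K)
    (x : ι → T.H X) (hx : ∀ i, x i ∈ T.gr X m) (h : ∑ i ∈ s, c i • x i ∈ T.gr X m) :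
    (T.push f m ⟨∑ i ∈ s, c i • x i, h⟩ : T.H Y) =
      ∑ i ∈ s, c i • (T.push f m ⟨x i, hx i⟩ : T.H Y) := by
  have : (⟨∑ i ∈ s, c i • x i, h⟩ : T.gr X m) = ∑ i ∈ s, c i • (⟨x i, hx i⟩ : T.gr X m) := by
    apply Subtype.ext
    rw [Submodule.coe_sum]
    rfl
  rw [this, map_sum, Submodule.coe_sum]
  refine Finset.sum_congr rfl fun i _ => ?_
  rw [map_smul]
  rfl

section Powers

variable {X : Var k} (F : X ⟶ X)

/-- Iterates of an endomorphism. -/
noncomputable def Fpow : ℕ → (X ⟶ X)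
  | 0 => 𝟙 X
  | (m + 1) => F ≫ Fpow m

theorem pullDeg_pow (j : ℤ) (m : ℕ) (b : ↥(T.gr X j)) :
    ((((T.pullDeg F j) ^ m) b : ↥(T.gr X j)) : T.H X) = T.pull (Fpow F m) (b : T.H X) := by
  induction m with
  | zero =>
    show (b : T.H X) = T.pull (𝟙 X) (b : T.H X)
    rw [T.pull_id]; rfl
  | succ m ih =>
    rw [pow_succ', Module.End.mul_apply]
    show T.pull F ((((T.pullDeg F j) ^ m) b : ↥(T.gr X j)) : T.H X) = T.pull (F ≫ Fpow F m) b
    rw [ih, T.pull_comp]
    rfl

theorem aeval_pullDeg (j : ℤ) (g : Polynomial K) (b : ↥(T.gr X j)) :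
    ((Polynomial.aeval (T.pullDeg F j) g b : ↥(T.gr X j)) : T.H X) =
      ∑ m ∈ Finset.range (g.natDegree + 1), g.coeff m • T.pull (Fpow F m) (b : T.H X) := by
  rw [Polynomial.aeval_eq_sum_range, LinearMap.sum_apply, Submodule.coe_sum]
  refine Finset.sum_congr rfl fun m _ => ?_
  rw [LinearMap.smul_apply, Submodule.coe_smul, pullDeg_pow]

end Powers

/-- S19415. -/
theorem main (X P : Var k) (p q : P ⟶ X) (hP : IsProd p q) (F : X ⟶ X)
    (hF : ∀ i j : ℤ, i ≠ j → IsCoprime (T.pullDeg F i).charpoly (T.pullDeg F j).charpoly)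
    (i : ℤ) :
    ∃ u : ↥(T.gr P (2 * (dim X.obj.left : ℤ))),
      (u : T.H P) ∈ Submodule.span K (Set.range (T.cl P)) ∧
        ∀ (j : ℤ) (b : ↥(T.gr X j)),
          (T.push q (j + 2 * (dim X.obj.left : ℤ))
              ⟨T.pull p (b : T.H X) * (u : T.H P),
                SetLike.mul_mem_graded (T.pull_mem p j b b.2) u.2⟩ : T.H X) =
            if j = i then (b : T.H X) else 0 := by
  classical
  haveI := irr X
  set n := dim X.obj.left with hn
  set η := genericPoint ↥X.obj.left with hη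
  -- the polynomial
  set J : Finset ℕ := (Finset.range (2 * n + 1)).filter (fun j' => (j' : ℤ) ≠ i) with hJ
  set Q : Polynomial K := ∏ j' ∈ J, (T.pullDeg F (j' : ℤ)).charpoly with hQ
  have hcop : IsCoprime (T.pullDeg F i).charpoly Q := by
    apply IsCoprime.prod_right
    intro j' hj'
    rw [hJ, Finset.mem_filter] at hj'
    exact hF i j' (fun h => hj'.2 h.symm)
  obtain ⟨a, b', hab⟩ := hcop
  set g : Polynomial K := b' * Q with hg
  have hg1 : g = 1 - a * (T.pullDeg F i).charpoly := by rw [hg, ← hab]; ring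
  -- the transposed graphs
  have hgr : ∀ m : ℕ, ∃ gm : X ⟶ P, gm ≫ q = 𝟙 X ∧ gm ≫ p = Fpow F m := by
    intro m
    obtain ⟨gm, h1, h2⟩ := exists_lift p q hP (Fpow F m) (𝟙 X)
    exact ⟨gm, h2, h1⟩
  choose gm hgq hgp using hgr
  have hPf : IsProd q p := IsPullback.flip hP
  have hdeg : ∀ m, 2 * (codim P.obj.left (sm (gm m) η) : ℤ) = 2 * (n : ℤ) := fun m =>
    (two_codim_graph T X P q p hPf (gm m) (hgq m)).1
  have hmem : ∀ m, T.cl P (sm (gm m) η) ∈ T.gr P (2 * (n : ℤ)) := fun m =>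
    WC.gr_congr T (hdeg m) (T.cl_mem P _)
  have hd := WC.dim_prod T p q hP
  have hu : ∑ m ∈ Finset.range (g.natDegree + 1), g.coeff m • T.cl P (sm (gm m) η) ∈
      T.gr P (2 * (n : ℤ)) :=
    Submodule.sum_mem _ fun m _ => Submodule.smul_mem _ _ (hmem m)
  refine ⟨(⟨_, hu⟩ : ↥(T.gr P (2 * (n : ℤ)))), ?_, ?_⟩
  · show ∑ m ∈ Finset.range (g.natDegree + 1), g.coeff m • T.cl P (sm (gm m) η) ∈
      Submodule.span K (Set.range (T.cl P))
    exact Submodule.sum_mem _ fun m _ => Submodule.smul_mem _ _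
      (Submodule.subset_span (Set.mem_range_self _))
  · intro j b
    show (T.push q (j + 2 * (n : ℤ)) ⟨T.pull p (b : T.H X) *
      ∑ m ∈ Finset.range (g.natDegree + 1), g.coeff m • T.cl P (sm (gm m) η), _⟩ : T.H X) = _
    by_cases hj : j < 0 ∨ 2 * (n : ℤ) < j
    · have hb0 : (b : T.H X) = 0 := eq_zero_of_vanish T X j hj b b.2
      have : (⟨T.pull p (b : T.H X) *
          ∑ m ∈ Finset.range (g.natDegree + 1), g.coeff m • T.cl P (sm (gm m) η),
          SetLike.mul_mem_graded (T.pull_mem p j b b.2) hu⟩ : T.gr P (j + 2 * (n : ℤ))) = 0 := by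
        apply Subtype.ext
        show T.pull p (b : T.H X) * _ = 0
        rw [hb0, map_zero, zero_mul]
      rw [this, map_zero, hb0]
      simp
    · -- rewrite the product as a linear combination
      have hx : ∀ m, T.pull p (b : T.H X) * T.cl P (sm (gm m) η) ∈ T.gr P (j + 2 * (n : ℤ)) :=
        fun m => SetLike.mul_mem_graded (T.pull_mem p j b b.2) (hmem m)
      have hsum : T.pull p (b : T.H X) *
          ∑ m ∈ Finset.range (g.natDegree + 1), g.coeff m • T.cl P (sm (gm m) η) =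
          ∑ m ∈ Finset.range (g.natDegree + 1),
            g.coeff m • (T.pull p (b : T.H X) * T.cl P (sm (gm m) η)) := by
        rw [Finset.mul_sum]
        refine Finset.sum_congr rfl fun m _ => ?_
        rw [mul_smul_comm]
      have hstep : ∀ m, (T.push q (j + 2 * (n : ℤ))
          ⟨T.pull p (b : T.H X) * T.cl P (sm (gm m) η), hx m⟩ : T.H X) =
          T.pull (Fpow F m) (b : T.H X) := by
        intro m
        have h1 := graph T X X P (Fpow F m) q p (gm m) (hgq m) (hgp m) j b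
        rw [← h1]
        have hc := comm_even T P j n _ _ (T.pull_mem p j b b.2) (hmem m)
        have : (⟨T.pull p (b : T.H X) * T.cl P (sm (gm m) η), hx m⟩ : T.gr P (j + 2 * (n : ℤ))) =
            ⟨T.cl P (sm (gm m) η) * T.pull p (b : T.H X), hc ▸ hx m⟩ := Subtype.ext hc
        rw [this]
        exact push_congr T q _ _ (by rw [hdeg m]; ring) _ _ _
      have key : (T.push q (j + 2 * (n : ℤ)) ⟨T.pull p (b : T.H X) *
          ∑ m ∈ Finset.range (g.natDegree + 1), g.coeff m • T.cl P (sm (gm m) η),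
          SetLike.mul_mem_graded (T.pull_mem p j b b.2) hu⟩ : T.H X) =
          ((Polynomial.aeval (T.pullDeg F j) g b : ↥(T.gr X j)) : T.H X) := by
        rw [aeval_pullDeg]
        have h2 := push_sum T q (j + 2 * (n : ℤ)) (Finset.range (g.natDegree + 1))
          (fun m => g.coeff m) (fun m => T.pull p (b : T.H X) * T.cl P (sm (gm m) η)) hx
          (hsum ▸ SetLike.mul_mem_graded (T.pull_mem p j b b.2) hu)
        have h3 : (⟨T.pull p (b : T.H X) *
            ∑ m ∈ Finset.range (g.natDegree + 1), g.coeff m • T.cl P (sm (gm m) η),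
            SetLike.mul_mem_graded (T.pull_mem p j b b.2) hu⟩ : T.gr P (j + 2 * (n : ℤ))) =
            ⟨∑ m ∈ Finset.range (g.natDegree + 1),
              g.coeff m • (T.pull p (b : T.H X) * T.cl P (sm (gm m) η)),
              hsum ▸ SetLike.mul_mem_graded (T.pull_mem p j b b.2) hu⟩ := Subtype.ext hsum
        rw [h3, h2]
        refine Finset.sum_congr rfl fun m _ => ?_
        rw [hstep m]
      rw [key]
      by_cases hji : j = i
      · rw [if_pos hji]
        subst hji
        rw [hg1, map_sub, map_one, map_mul, LinearMap.aeval_self_charpoly, mul_zero]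
        simp
      · rw [if_neg hji]
        have hj0 : 0 ≤ j := by omega
        obtain ⟨j', rfl⟩ := Int.eq_ofNat_of_zero_le hj0
        have hjJ : j' ∈ J := by
          rw [hJ, Finset.mem_filter, Finset.mem_range]
          exact ⟨by omega, hji⟩
        have hdvd : (T.pullDeg F (j' : ℤ)).charpoly ∣ g :=
          Dvd.dvd.mul_left (Finset.dvd_prod_of_mem _ hjJ) _
        obtain ⟨r, hr⟩ := hdvd
        rw [hr, map_mul, LinearMap.aeval_self_charpoly, zero_mul]
        rfl

end Groth.Agent.Helper8.WCProj
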