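import Mathlib
import Groth.Agent.Helper8.WCLef
import Groth.Agent.Helper8.WCProj

set_option autoImplicit false
universe u v w

namespace Groth.Agent.Helper8.WCCorr

open CategoryTheory CategoryTheory.Limits AlgebraicGeometry WeilCoh
open Groth.Agent.Helper5.VarDim Groth.Agent.Helper7 Groth.Agent.Helper8.WCGeo
open Groth.Agent.Helper8.WCDiag Groth.Agent.Helper8.WCPt Groth.Agent.Helper8.WCGen
open Groth.Agent.Helper8.WCKun Groth.Agent.Helper8.WCLef Groth.Agent.Helper8.WCProj

variable {k : Type u} [Field k]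
variable {K : Type v} [Field K] (T : TheoryOn.{u, v, w} k (IsVar k) K)

/-- The action of a class on `X × Y` as a correspondence, on one degree. -/
noncomputable abbrev corr {X Y P : Var k} (p : P ⟶ X) (q : P ⟶ Y) (D : ℤ) (φ : ↥(T.gr P D)) (i : ℤ) :
    ↥(T.gr X i) →ₗ[K]
      ↥(T.gr Y (i + D + 2 * (dim Y.obj.left : ℤ) - 2 * (dim P.obj.left : ℤ))) :=
  (T.push q (i + D)) ∘ₗ
    ((LinearMap.mulRight K (φ : T.H P)).restrict (p := T.gr P i) (q := T.gr P (i + D))
      (fun x hx => SetLike.mul_mem_graded hx φ.2)) ∘ₗ (T.pullDeg p i)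

theorem corr_apply {X Y P : Var k} (p : P ⟶ X) (q : P ⟶ Y) (D : ℤ) (φ : ↥(T.gr P D)) (i : ℤ)
    (x : ↥(T.gr X i)) :
    ((corr T p q D φ i x : ↥(T.gr Y _)) : T.H Y) =
      (T.push q (i + D) ⟨T.pull p (x : T.H X) * (φ : T.H P),
        SetLike.mul_mem_graded (T.pull_mem p i x x.2) φ.2⟩ : T.H Y) := rfl

/-- Pairing a class of the product against all product classes detects it. -/
theorem eq_of_forall_tr_prod {X Y P : Var k} (p : P ⟶ X) (q : P ⟶ Y) (hP : IsProd p q) (D : ℤ)
    (φ1 φ2 : T.H P) (h1 : φ1 ∈ T.gr P D) (h2 : φ2 ∈ T.gr P D)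
    (H : ∀ (i t : ℤ) (x : T.H X) (y : T.H Y), x ∈ T.gr X i → y ∈ T.gr Y t →
      T.tr P (φ1 * (T.pull p x * T.pull q y)) = T.tr P (φ2 * (T.pull p x * T.pull q y))) :
    φ1 = φ2 := by
  have key : ∀ t : TensorProduct K (T.H X) (T.H Y),
      T.tr P (φ1 * kunnethMap K (T.pull p) (T.pull q) t) =
        T.tr P (φ2 * kunnethMap K (T.pull p) (T.pull q) t) := by
    intro t
    induction t using TensorProduct.induction_on with
    | zero => simp
    | tmul a b =>
      show T.tr P (_ * (T.pull p a * T.pull q b)) = T.tr P (_ * (T.pull p a * T.pull q b))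
      refine hom_induction T X
        (fun a => T.tr P (φ1 * (T.pull p a * T.pull q b)) =
          T.tr P (φ2 * (T.pull p a * T.pull q b)))
        (by simp) (fun x y hx hy => by
          simp only [map_add, add_mul, mul_add, hx, hy]) ?_ a
      intro i a ha
      refine hom_induction T Y
        (fun b => T.tr P (φ1 * (T.pull p a * T.pull q b)) =
          T.tr P (φ2 * (T.pull p a * T.pull q b)))
        (by simp) (fun x y hx hy => by
          simp only [map_add, mul_add, hx, hy]) ?_ b
      intro t b hb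
      exact H i t a b ha hb
    | add x y hx hy =>
      simp only [map_add, mul_add, hx, hy]
  apply WC.eq_of_forall_tr T D (2 * (dim P.obj.left : ℤ) - D) (by omega) φ1 φ2 h1 h2
  intro c _
  obtain ⟨t, rfl⟩ := (T.kunneth p q hP).surjective c
  exact key t

/-- S19871. -/
theorem main (X Y P : Var k) (p : P ⟶ X) (q : P ⟶ Y) (hP : IsProd p q)
    (hdim : dim P.obj.left = dim X.obj.left + dim Y.obj.left) (r : ℤ) :
    Function.Bijective (fun φ : ↥(T.gr P (2 * (dim X.obj.left : ℤ) + r)) => fun i : ℤ =>
      corr T p q (2 * (dim X.obj.left : ℤ) + r) φ i) := by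
  have hdimZ : (dim P.obj.left : ℤ) = dim X.obj.left + dim Y.obj.left := by exact_mod_cast hdim
  set D : ℤ := 2 * (dim X.obj.left : ℤ) + r with hD
  constructor
  · -- injectivity
    intro φ1 φ2 h
    apply Subtype.ext
    apply eq_of_forall_tr_prod T p q hP D _ _ φ1.2 φ2.2
    intro i t x y hx hy
    by_cases ht : t = 2 * (dim P.obj.left : ℤ) - (i + D)
    · have h1 := congrArg (fun L => ((L ⟨x, hx⟩ : ↥(T.gr Y _)) : T.H Y)) (congrFun h i)
      simp only [corr_apply] at h1
      have h2 := congrArg (fun z => T.tr Y (z * y)) h1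
      beta_reduce at h2
      rw [WC.push_spec T q (i + D) _ y (ht ▸ hy), WC.push_spec T q (i + D) _ y (ht ▸ hy)] at h2
      have hc1 := T.gradedComm P D i _ _ φ1.2 (T.pull_mem p i x hx)
      have hc2 := T.gradedComm P D i _ _ φ2.2 (T.pull_mem p i x hx)
      rw [← mul_assoc, ← mul_assoc, hc1, hc2, smul_mul_assoc, smul_mul_assoc, map_smul, map_smul]
      exact congrArg _ h2
    · rw [T.tr_vanish P (D + (i + t)) _ (SetLike.mul_mem_graded φ1.2
          (SetLike.mul_mem_graded (T.pull_mem p i x hx) (T.pull_mem q t y hy))) (by omega),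
        T.tr_vanish P (D + (i + t)) _ (SetLike.mul_mem_graded φ2.2
          (SetLike.mul_mem_graded (T.pull_mem p i x hx) (T.pull_mem q t y hy))) (by omega)]
  · -- surjectivity
    intro L
    classical
    set n := dim X.obj.left with hn
    have hterm : ∀ (i' : ℕ) (a : ι T X i'),
        T.pull p (fB T X i' a : T.H X) * T.pull q ((L (i' : ℤ) (eB T X i' a) : ↥(T.gr Y _)) : T.H Y) ∈
          T.gr P D := fun i' a =>
      WC.gr_congr T (by omega)
        (SetLike.mul_mem_graded (T.pull_mem p _ _ (fB T X i' a).2)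
          (T.pull_mem q _ _ (L (i' : ℤ) (eB T X i' a)).2))
    have hφ0 : ∑ i' ∈ Finset.range (2 * n + 1), ∑ a : ι T X i',
        ((-1 : K) ^ i') • (T.pull p (fB T X i' a : T.H X) *
          T.pull q ((L (i' : ℤ) (eB T X i' a) : ↥(T.gr Y _)) : T.H Y)) ∈ T.gr P D :=
      Submodule.sum_mem _ fun i' _ => Submodule.sum_mem _ fun a _ =>
        Submodule.smul_mem _ _ (hterm i' a)
    refine ⟨⟨_, hφ0⟩, ?_⟩
    funext i
    by_cases hi : i < 0 ∨ 2 * (n : ℤ) < i
    · apply LinearMap.ext
      intro x
      have hx0 : x = 0 := Subtype.ext (eq_zero_of_vanish T X i hi x x.2)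
      rw [hx0, map_zero, map_zero]
    · have hi0 : 0 ≤ i := by omega
      obtain ⟨i', rfl⟩ := Int.eq_ofNat_of_zero_le hi0
      have hi' : i' ≤ 2 * n := by omega
      apply (eB T X i').ext
      intro b
      apply Subtype.ext
      rw [corr_apply]
      apply WC.eq_of_forall_tr T
        ((i' : ℤ) + D + 2 * (dim Y.obj.left : ℤ) - 2 * (dim P.obj.left : ℤ))
        (2 * (dim P.obj.left : ℤ) - ((i' : ℤ) + D)) (by omega)
      · exact (T.push q _ _).2
      · exact (L (i' : ℤ) (eB T X i' b)).2
      · intro y hy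
        rw [WC.push_spec T q ((i' : ℤ) + D) _ y hy]
        show T.tr P (T.pull p (eB T X i' b : T.H X) *
          (∑ i'' ∈ Finset.range (2 * n + 1), ∑ a : ι T X i'',
            ((-1 : K) ^ i'') • (T.pull p (fB T X i'' a : T.H X) *
              T.pull q ((L (i'' : ℤ) (eB T X i'' a) : ↥(T.gr Y _)) : T.H Y))) * T.pull q y) = _
        rw [Finset.mul_sum, Finset.sum_mul, map_sum]
        rw [Finset.sum_eq_single i']
        · rw [Finset.mul_sum, Finset.sum_mul, map_sum]
          rw [Finset.sum_eq_single b]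
          · rw [mul_smul_comm, smul_mul_assoc, map_smul, ← mul_assoc, ← map_mul (T.pull p),
              mul_assoc, ← map_mul (T.pull q), tr_prod_all T p q hP]
            have hg := T.gradedComm X (i' : ℤ) (2 * (n : ℤ) - i')
              (eB T X i' b : T.H X) (fB T X i' b : T.H X) (eB T X i' b).2 (fB T X i' b).2
            have hnn : (2 * (n : ℤ) - i').natAbs = 2 * n - i' := by omega
            rw [hg, Int.natAbs_natCast, hnn, neg_one_pow_mul i' _ hi', map_smul,
              fB_spec T X i' b b, if_pos rfl, smul_eq_mul, smul_eq_mul, mul_one, ← mul_assoc,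
              ← pow_add, ← two_mul, pow_mul]
            simp
          · intro a _ hab
            rw [mul_smul_comm, smul_mul_assoc, map_smul, ← mul_assoc, ← map_mul (T.pull p),
              mul_assoc, ← map_mul (T.pull q), tr_prod_all T p q hP]
            have hg := T.gradedComm X (i' : ℤ) (2 * (n : ℤ) - i')
              (eB T X i' b : T.H X) (fB T X i' a : T.H X) (eB T X i' b).2 (fB T X i' a).2
            rw [hg, map_smul, fB_spec T X i' b a, if_neg (fun h => hab h.symm)]
            simp
          · intro h; exact absurd (Finset.mem_univ b) h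
        · intro i'' _ hne
          rw [Finset.mul_sum, Finset.sum_mul, map_sum]
          refine Finset.sum_eq_zero fun a _ => ?_
          rw [mul_smul_comm, smul_mul_assoc, map_smul, ← mul_assoc, ← map_mul (T.pull p),
            mul_assoc, ← map_mul (T.pull q), tr_prod_all T p q hP,
            T.tr_vanish X ((i' : ℤ) + (2 * (n : ℤ) - i'')) _
              (SetLike.mul_mem_graded (eB T X i' b).2 (fB T X i'' a).2) (by omega)]
          simp
        · intro h
          exact absurd (Finset.mem_range.2 (by omega)) h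

end Groth.Agent.Helper8.WCCorr
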