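import Mathlib
import Groth.Agent.Helper8.WCKun
import Groth.Agent.Helper6.HProj
import Groth.Agent.Helper5.VarDim13
import Groth.Prelude.Def_ChowOps

set_option autoImplicit false
universe u v w

namespace Groth.Agent.Helper8.WCCyc

open CategoryTheory CategoryTheory.Limits AlgebraicGeometry WeilCoh
open Groth.Agent.Helper5.VarDim Groth.Agent.Helper7 Groth.Agent.Helper8.WCGeo
open Groth.Agent.Helper8.WCDiag Groth.Agent.Helper8.WCPt Groth.Agent.Helper8.WCGen
open Groth.Agent.Helper8.WCKun

variable {k : Type u} [Field k]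

theorem isProper (X : Var k) : IsProper X.obj.hom := by
  obtain ⟨n, i, hi, hif⟩ := X.property.2.1
  haveI := Groth.Agent.Helper6.HProj.isProper_toBase n (Spec (CommRingCat.of k))
  rw [← hif]
  infer_instance

theorem compact (X : Var k) : CompactSpace ↥X.obj.left := by
  haveI := isProper X
  exact QuasiCompact.compactSpace_of_compactSpace X.obj.hom

theorem support_finite (X : Var k) (α : AlgebraicCycle X.obj.left ℤ) :
    (Function.support α).Finite := by
  haveI := compact X
  have h := α.locallyFiniteSupport.finite_inter_support_of_isCompact isCompact_univ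
  rw [Set.univ_inter] at h
  exact h

theorem delta_eq_pdim (X : Var k) (δ : ↥X.obj.left → ℤ)
    (hδ : Cyc.DeltaCompat X.obj.hom δ (fun _ => 0)) (x : X.obj.left) :
    δ x = (pdim X.obj.left x : ℤ) := by
  obtain ⟨n, h1, h2⟩ := hδ x
  have h3 := trdeg_tower' X (pt k) (toPt X) x
  rw [pdim_pt, Nat.cast_zero, zero_add] at h3
  have h4 : ((pdim X.obj.left x : ℕ) : Cardinal.{u}) = (n : Cardinal.{u}) := h3.trans h1
  have h5 : pdim X.obj.left x = n := by exact_mod_cast h4
  rw [h2, h5]
  simp

theorem closed_of_pdim_zero (X : Var k) (x : X.obj.left) (h : pdim X.obj.left x = 0) :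
    IsClosed ({x} : Set X.obj.left) := by
  rw [← closure_subset_iff_isClosed]
  intro y hy
  by_contra hne
  have h1 := one_le_dim_closure x y (specializes_iff_mem_closure.mpr hy)
    (fun h => hne (by rw [Set.mem_singleton_iff]; exact h.symm))
  rw [(tkd_closure X x).1, h] at h1
  exact absurd h1 (by decide)

theorem residueDegree_closed [IsAlgClosed k] (X : Var k) (x : X.obj.left)
    (hx : IsClosed ({x} : Set X.obj.left)) : X.obj.hom.residueDegree x = 1 := by
  haveI := lft X
  have h1 := residueDegree_comp (pointOfClosedPoint X.obj.hom x hx) X.obj.hom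
    (IsLocalRing.closedPoint k)
  rw [pointOfClosedPoint_comp, Scheme.Hom.residueDegree_id, pointOfClosedPoint_apply] at h1
  exact Nat.eq_one_of_mul_eq_one_right h1.symm

variable {K : Type v} [Field K] (T : TheoryOn.{u, v, w} k (IsVar k) K)

theorem clCyc_eq_sum (X : Var k) (β : AlgebraicCycle X.obj.left ℤ) (s : Finset X.obj.left)
    (hs : Function.support β ⊆ ↑s) :
    T.clCyc X β = ∑ x ∈ s, ((β x : ℤ) : K) • T.cl X x := by
  unfold TheoryOn.clCyc
  apply finsum_eq_sum_of_support_subset
  intro x hx
  apply hs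
  rw [Function.mem_support] at hx ⊢
  intro h0
  apply hx
  rw [h0]
  simp

/-- S15459. -/
theorem deg_eq_tr [IsAlgClosed k] (X : Var k) [QuasiCompact X.obj.hom]
    (δ : ↥X.obj.left → ℤ) (hδ : Cyc.DeltaCompat X.obj.hom δ (fun _ => 0))
    (α : AlgebraicCycle X.obj.left ℤ) (hα : α ∈ Cyc.Zk X.obj.left δ 0) :
    (ChowOps.deg X.obj.hom δ α : K) = T.tr X (T.clCyc X α) := by
  set s := (support_finite X α).toFinset with hs
  have hsupp : Function.support α ⊆ ↑s := by rw [hs, Set.Finite.coe_toFinset]
  have hclosed : ∀ x, α x ≠ 0 → IsClosed ({x} : Set X.obj.left) := by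
    intro x hx
    have h0 : δ x = 0 := by
      by_contra h
      exact hx (hα x h)
    rw [delta_eq_pdim X δ hδ x] at h0
    exact closed_of_pdim_zero X x (by exact_mod_cast h0)
  have hdelta : ∀ x, α x ≠ 0 → δ x = 0 := by
    intro x hx
    by_contra h
    exact hx (hα x h)
  have hdeg : ChowOps.deg X.obj.hom δ α = ∑ x ∈ s, α x := by
    unfold ChowOps.deg AlgebraicCycle.map
    rw [Function.locallyFinsupp.map_apply]
    rw [finsum_mem_eq_sum_of_inter_support_eq (t := s)]
    · refine Finset.sum_congr rfl fun x hx => ?_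
      have hx' : α x ≠ 0 := by
        rw [hs, Set.Finite.mem_toFinset] at hx
        exact hx
      unfold AlgebraicCycle.mapCoeff
      rw [if_pos (hdelta x hx'), residueDegree_closed X x (hclosed x hx')]
      simp
    · ext x
      simp only [Set.mem_inter_iff, Set.mem_preimage, Set.mem_singleton_iff,
        Function.mem_support, Finset.mem_coe]
      constructor
      · rintro ⟨-, h⟩
        refine ⟨hsupp ?_, h⟩
        rw [Function.mem_support]
        intro h0
        apply h
        rw [h0, zero_mul]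
      · rintro ⟨-, h⟩
        exact ⟨Subsingleton.elim (α := ↥(pt k).obj.left) _ _, h⟩
  rw [hdeg, clCyc_eq_sum T X α s hsupp, map_sum, Int.cast_sum]
  refine Finset.sum_congr rfl fun x hx => ?_
  have hx' : α x ≠ 0 := by
    rw [hs, Set.Finite.mem_toFinset] at hx
    exact hx
  rw [map_smul, tr_cl_closed T X x (hclosed x hx'), smul_eq_mul, mul_one]

/-- The class of a zero-cycle lies in the top degree. -/
theorem clCyc_mem_top (X : Var k) (δ : ↥X.obj.left → ℤ)
    (hδ : Cyc.DeltaCompat X.obj.hom δ (fun _ => 0))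
    (α : AlgebraicCycle X.obj.left ℤ) (hα : α ∈ Cyc.Zk X.obj.left δ 0) :
    T.clCyc X α ∈ T.gr X (2 * (dim X.obj.left : ℤ)) := by
  set s := (support_finite X α).toFinset with hs
  have hsupp : Function.support α ⊆ ↑s := by rw [hs, Set.Finite.coe_toFinset]
  rw [clCyc_eq_sum T X α s hsupp]
  refine Submodule.sum_mem _ fun x hx => Submodule.smul_mem _ _ ?_
  have hx' : α x ≠ 0 := by
    rw [hs, Set.Finite.mem_toFinset] at hx
    exact hx
  have h0 : δ x = 0 := by
    by_contra h
    exact hx' (hα x h)
  rw [delta_eq_pdim X δ hδ x] at h0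
  have hc := two_codim X x
  exact WC.gr_congr T (by omega) (T.cl_mem X x)

/-- S15441. -/
theorem homEquivZero_iff [IsAlgClosed k] [CharZero K] (X : Var k) [QuasiCompact X.obj.hom]
    (δ : ↥X.obj.left → ℤ) (hδ : Cyc.DeltaCompat X.obj.hom δ (fun _ => 0))
    (α : AlgebraicCycle X.obj.left ℤ) (hα : α ∈ Cyc.Zk X.obj.left δ 0) :
    T.IsHomEquivZero X α ↔ ChowOps.deg X.obj.hom δ α = 0 := by
  have h1 := deg_eq_tr T X δ hδ α hα
  unfold TheoryOn.IsHomEquivZero
  constructor
  · intro h
    rw [h, map_zero] at h1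
    exact_mod_cast h1
  · intro h
    rw [h, Int.cast_zero] at h1
    have hmem := clCyc_mem_top T X δ hδ α hα
    have hinj := (T.tr_bijective X).injective
    have : (⟨T.clCyc X α, hmem⟩ : T.gr X (2 * (dim X.obj.left : ℤ))) = 0 := by
      apply hinj
      rw [map_zero]
      exact h1.symm
    exact congrArg Subtype.val this

/-- S15458. -/
theorem tr_clCyc_map (X Y : Var k) (f : X ⟶ Y) [QuasiCompact (sm f)]
    (δX : ↥X.obj.left → ℤ) (hδX : Cyc.DeltaCompat X.obj.hom δX (fun _ => 0))
    (δY : ↥Y.obj.left → ℤ) (hδY : Cyc.DeltaCompat Y.obj.hom δY (fun _ => 0))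
    (α : AlgebraicCycle X.obj.left ℤ) (b : T.H Y) :
    T.tr Y (T.clCyc Y (AlgebraicCycle.map (sm f) δX δY α) * b) =
      T.tr X (T.clCyc X α * T.pull f b) := by
  classical
  set s := (support_finite X α).toFinset with hs
  have hsupp : Function.support α ⊆ ↑s := by rw [hs, Set.Finite.coe_toFinset]
  set c : X.obj.left → ℤ := fun x => ((AlgebraicCycle.mapCoeff (sm f) δX δY x : ℕ) : ℤ) with hc
  -- the value of the push-forward at a point, as a finite sum
  have hval : ∀ y, (AlgebraicCycle.map (sm f) δX δY α) y =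
      ∑ x ∈ s.filter (fun x => sm f x = y), α x * c x := by
    intro y
    unfold AlgebraicCycle.map
    rw [Function.locallyFinsupp.map_apply]
    apply finsum_mem_eq_sum_of_inter_support_eq
    ext x
    simp only [Set.mem_inter_iff, Set.mem_preimage, Set.mem_singleton_iff,
      Function.mem_support, Finset.coe_filter, Set.mem_setOf_eq]
    constructor
    · rintro ⟨hxy, h⟩
      refine ⟨⟨hsupp ?_, hxy⟩, h⟩
      rw [Function.mem_support]
      intro h0
      apply h
      rw [h0, zero_mul]
    · rintro ⟨⟨-, hxy⟩, h⟩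
      exact ⟨hxy, h⟩
  have hsuppY : Function.support (AlgebraicCycle.map (sm f) δX δY α) ⊆ ↑(s.image (sm f)) := by
    intro y hy
    rw [Function.mem_support, hval y] at hy
    obtain ⟨x, hx, -⟩ := Finset.exists_ne_zero_of_sum_ne_zero hy
    rw [Finset.mem_filter] at hx
    rw [Finset.coe_image]
    exact ⟨x, hx.1, hx.2⟩
  rw [clCyc_eq_sum T Y _ _ hsuppY, clCyc_eq_sum T X α s hsupp, Finset.sum_mul, Finset.sum_mul,
    map_sum, map_sum]
  -- termwise identity
  have hterm : ∀ x, ((c x : ℤ) : K) * T.tr Y (T.cl Y (sm f x) * b) =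
      T.tr X (T.cl X x * T.pull f b) := by
    intro x
    refine hom_induction T Y
      (fun b => ((c x : ℤ) : K) * T.tr Y (T.cl Y (sm f x) * b) =
        T.tr X (T.cl X x * T.pull f b))
      (by simp) (fun b1 b2 h1 h2 => by
        simp only [map_add, mul_add, h1, h2]) ?_ b
    intro n b hb
    have hcX := two_codim X x
    have hcY := two_codim Y (sm f x)
    have hdX := delta_eq_pdim X δX hδX x
    have hdY := delta_eq_pdim Y δY hδY (sm f x)
    by_cases hn : n = 2 * (pdim X.obj.left x : ℤ)
    · rw [T.cl_push f x b (hn ▸ hb)]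
      congr 1
      rw [hc]
      simp only [AlgebraicCycle.mapCoeff]
      by_cases hd : δX x = δY (sm f x)
      · rw [if_pos hd]; simp
      · rw [if_neg hd]
        have : (sm f).residueDegree x = 0 := by
          by_contra h0
          have := pdim_eq_of_residueDegree_ne_zero f x h0
          apply hd
          rw [hdX, hdY, this]
        rw [this]; simp
    · rw [T.tr_vanish X (2 * (codim X.obj.left x : ℤ) + n) _
        (SetLike.mul_mem_graded (T.cl_mem X x) (T.pull_mem f n b hb)) (by omega)]
      rw [hc]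
      simp only [AlgebraicCycle.mapCoeff]
      by_cases hd : δX x = δY (sm f x)
      · rw [T.tr_vanish Y (2 * (codim Y.obj.left (sm f x) : ℤ) + n) _
          (SetLike.mul_mem_graded (T.cl_mem Y (sm f x)) hb) (by
            rw [hdX, hdY] at hd
            omega), mul_zero]
      · rw [if_neg hd]; simp
  refine Finset.sum_image' (s := s) (g := fun x => sm f x)
    (f := fun y => T.tr Y ((((AlgebraicCycle.map (sm f) δX δY α) y : ℤ) : K) • T.cl Y y * b))
    (fun x => T.tr X (((α x : ℤ) : K) • T.cl X x * T.pull f b)) ?_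
  intro x hx
  show T.tr Y ((((AlgebraicCycle.map (sm f) δX δY α) (sm f x) : ℤ) : K) • T.cl Y (sm f x) * b) = _
  rw [hval (sm f x), Int.cast_sum, Finset.sum_smul, Finset.sum_mul, map_sum]
  refine Finset.sum_congr rfl fun x' hx' => ?_
  rw [Finset.mem_filter] at hx'
  rw [smul_mul_assoc, map_smul, smul_mul_assoc, map_smul, smul_eq_mul, smul_eq_mul,
    ← hterm x', hx'.2, Int.cast_mul, mul_assoc]

end Groth.Agent.Helper8.WCCyc
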