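import Mathlib
import Groth.Agent.Helper8.WCGen
import Groth.Agent.Helper8.FrobDeg3
import Groth.Agent.Helper8.FrobLA

set_option autoImplicit false
universe u v w

namespace Groth.Agent.Helper8.WCFrob

open CategoryTheory CategoryTheory.Limits AlgebraicGeometry WeilCoh Polynomial
open Groth.Agent.Helper5.VarDim Groth.Agent.Helper7 Groth.Agent.Helper8.WCGeo
open Groth.Agent.Helper8.WCDiag Groth.Agent.Helper8.WCPt Groth.Agent.Helper8.WCGen

variable (k₀ : Type u) [Field k₀] [Finite k₀] (k : Type u) [Field k] [IsAlgClosed k] [Algebra k₀ k]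
variable {K : Type v} [Field K] (T : TheoryOn.{u, v, w} k (IsVar k) K)
variable {X : Scheme.{u}} (f : X ⟶ Spec (CommRingCat.of k₀))
    (FX : X ⟶ X) (hle : ∀ U : X.Opens, U ≤ FX ⁻¹ᵁ U)
    (hFapp : ∀ (U : X.Opens) (s : Γ(X, U)), (FX.appLE U U (hle U)).hom s = s ^ Nat.card k₀)
    (Xb : Var k) (π : Xb.obj.left ⟶ X)
    (hπ : IsPullback π Xb.obj.hom f (Spec.map (CommRingCat.ofHom (algebraMap k₀ k))))
    (F : Xb ⟶ Xb) (hF : sm F ≫ π = π ≫ FX)

include hFapp hπ hF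

/-- The Frobenius multiplies the trace by `q ^ dim`. -/
theorem tr_frob (a : T.H Xb) (ha : a ∈ T.gr Xb (2 * (dim Xb.obj.left : ℤ))) :
    T.tr Xb (T.pull F a) = (Nat.card k₀ : K) ^ (dim Xb.obj.left) * T.tr Xb a := by
  haveI := lft Xb
  haveI := irr Xb
  haveI := WCPt.isIntegral Xb
  obtain ⟨h1, h2⟩ := FrobDeg.main k₀ k f Xb.obj.hom π hπ FX hle hFapp (sm F) hF (Over.w F.hom)
    (dim Xb.obj.left) (tkd_dim Xb)
  rw [tr_pull T Xb Xb F h1 rfl a ha, h2, Nat.cast_pow]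

theorem pairing_frob (i : ℤ) (x : ↥(T.gr Xb i))
    (y : ↥(T.gr Xb (2 * (dim Xb.obj.left : ℤ) - i))) :
    pairing K (T.gr Xb i) (T.gr Xb (2 * (dim Xb.obj.left : ℤ) - i)) (T.tr Xb)
        (T.pullDeg F i x) (T.pullDeg F (2 * (dim Xb.obj.left : ℤ) - i) y) =
      (Nat.card k₀ : K) ^ (dim Xb.obj.left) *
        pairing K (T.gr Xb i) (T.gr Xb (2 * (dim Xb.obj.left : ℤ) - i)) (T.tr Xb) x y := by
  show T.tr Xb (T.pull F (x : T.H Xb) * T.pull F (y : T.H Xb)) = _ * T.tr Xb ((x : T.H Xb) * y)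
  rw [← map_mul (T.pull F)]
  exact tr_frob k₀ k T f FX hle hFapp Xb π hπ F hF _
    (WC.gr_congr T (by ring) (SetLike.mul_mem_graded x.2 y.2))

/-- S15454 and S15455. -/
theorem main (i : ℤ) :
    LinearMap.det (T.pullDeg F (2 * (dim Xb.obj.left : ℤ) - i)) * LinearMap.det (T.pullDeg F i) =
        (Nat.card k₀ : K) ^ (dim Xb.obj.left * Module.finrank K ↥(T.gr Xb i)) ∧
      LinearMap.det (T.pullDeg F i) •
          (LinearMap.charpoly (T.pullDeg F (2 * (dim Xb.obj.left : ℤ) - i))).reverse =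
        (-1 : Polynomial K) ^ Module.finrank K ↥(T.gr Xb i) *
          (LinearMap.charpoly (T.pullDeg F i)).comp
            (Polynomial.C ((Nat.card k₀ : K) ^ dim Xb.obj.left) * Polynomial.X) := by
  have h := FrobLA.adjoint_pair
    (pairing K (T.gr Xb i) (T.gr Xb (2 * (dim Xb.obj.left : ℤ) - i)) (T.tr Xb))
    (T.duality Xb i (2 * (dim Xb.obj.left : ℤ) - i) (by ring))
    (T.pullDeg F i) (T.pullDeg F (2 * (dim Xb.obj.left : ℤ) - i))
    ((Nat.card k₀ : K) ^ (dim Xb.obj.left))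
    (pairing_frob k₀ k T f FX hle hFapp Xb π hπ F hF i)
  rw [← pow_mul] at h
  exact h

end Groth.Agent.Helper8.WCFrob
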