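import Mathlib
import Groth.Agent.Helper8.WCFrob
import Groth.Agent.Helper8.FrobLA3

set_option autoImplicit false
universe u v w

namespace Groth.Agent.Helper8.WCFunEq

open CategoryTheory CategoryTheory.Limits AlgebraicGeometry WeilCoh Polynomial
open Groth.Agent.Helper5.VarDim Groth.Agent.Helper7 Groth.Agent.Helper8.WCGeo
open Groth.Agent.Helper8.WCDiag Groth.Agent.Helper8.WCPt Groth.Agent.Helper8.WCGen

variable {k : Type u} [Field k]
variable {K : Type v} [Field K] (T : TheoryOn.{u, v, w} k (IsVar k) K)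

theorem finrank_compl (X : Var k) (i : ℤ) :
    Module.finrank K ↥(T.gr X (2 * (dim X.obj.left : ℤ) - i)) = Module.finrank K ↥(T.gr X i) := by
  haveI := T.duality X i (2 * (dim X.obj.left : ℤ) - i) (by ring)
  have e := (pairing K (T.gr X i) (T.gr X (2 * (dim X.obj.left : ℤ) - i)) (T.tr X)).toPerfPair
  rw [e.finrank_eq, Subspace.dual_finrank_eq]

theorem even_finrank_middle [CharZero K] (X : Var k) (hn : Odd (dim X.obj.left)) :
    Even (Module.finrank K ↥(T.gr X ((dim X.obj.left : ℕ) : ℤ))) := by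
  apply FrobLA2.even_finrank_of_skew
    (pairing K (T.gr X (dim X.obj.left : ℤ)) (T.gr X (dim X.obj.left : ℤ)) (T.tr X))
    (T.duality X _ _ (by ring))
  intro x y
  show T.tr X ((x : T.H X) * y) = - T.tr X ((y : T.H X) * x)
  rw [T.gradedComm X _ _ _ _ x.2 y.2, Int.natAbs_natCast]
  have : Odd (dim X.obj.left * dim X.obj.left) := hn.mul hn
  rw [this.neg_one_pow, neg_smul, one_smul, map_neg]


section Main

variable (k₀ : Type u) [Field k₀] [Finite k₀] (k : Type u) [Field k] [IsAlgClosed k] [Algebra k₀ k]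
variable {K : Type v} [Field K] [CharZero K] (T : TheoryOn.{u, v, w} k (IsVar k) K)
variable {X : Scheme.{u}} (f : X ⟶ Spec (CommRingCat.of k₀))
    (FX : X ⟶ X) (hle : ∀ U : X.Opens, U ≤ FX ⁻¹ᵁ U)
    (hFapp : ∀ (U : X.Opens) (s : Γ(X, U)), (FX.appLE U U (hle U)).hom s = s ^ Nat.card k₀)
    (Xb : Var k) (π : Xb.obj.left ⟶ X)
    (hπ : IsPullback π Xb.obj.hom f (Spec.map (CommRingCat.ofHom (algebraMap k₀ k))))
    (F : Xb ⟶ Xb) (hF : sm F ≫ π = π ≫ FX)

include hFapp hπ hF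

/-- S15456. -/
theorem main :
    ∃ ε : K, (ε = 1 ∨ ε = -1) ∧
      Polynomial.aeval ((RatFunc.X : RatFunc K)⁻¹ * RatFunc.C ((Nat.card k₀ : K) ^ WeilCoh.dim Xb.obj.left)⁻¹)
          (∏ i ∈ Finset.range (WeilCoh.dim Xb.obj.left),
            (LinearMap.charpoly (T.pullDeg F ((2 * i + 1 : ℕ) : ℤ))).reverse) /
        Polynomial.aeval ((RatFunc.X : RatFunc K)⁻¹ * RatFunc.C ((Nat.card k₀ : K) ^ WeilCoh.dim Xb.obj.left)⁻¹)
          (∏ i ∈ Finset.range (WeilCoh.dim Xb.obj.left + 1),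
            (LinearMap.charpoly (T.pullDeg F ((2 * i : ℕ) : ℤ))).reverse) =
      RatFunc.C ε * RatFunc.C (Nat.card k₀ : K) ^ ((WeilCoh.dim Xb.obj.left : ℤ) * (∑ i ∈ Finset.range (2 * WeilCoh.dim Xb.obj.left + 1), (-1 : ℤ) ^ i * (Module.finrank K ↥(T.gr Xb (i : ℤ)) : ℤ)) / 2) *
        (RatFunc.X : RatFunc K) ^ (∑ i ∈ Finset.range (2 * WeilCoh.dim Xb.obj.left + 1), (-1 : ℤ) ^ i * (Module.finrank K ↥(T.gr Xb (i : ℤ)) : ℤ)) *
        (algebraMap (Polynomial K) (RatFunc K)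
          (∏ i ∈ Finset.range (WeilCoh.dim Xb.obj.left),
            (LinearMap.charpoly (T.pullDeg F ((2 * i + 1 : ℕ) : ℤ))).reverse) /
         algebraMap (Polynomial K) (RatFunc K)
          (∏ i ∈ Finset.range (WeilCoh.dim Xb.obj.left + 1),
            (LinearMap.charpoly (T.pullDeg F ((2 * i : ℕ) : ℤ))).reverse)) := by
  have hQ : (Nat.card k₀ : K) ≠ 0 := by
    have : Nat.card k₀ ≠ 0 := (Nat.card_pos (α := k₀)).ne'
    exact_mod_cast this
  exact FrobLA3.funeq_abstract (dim Xb.obj.left) (Nat.card k₀ : K) hQ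
    (fun i => LinearMap.det (T.pullDeg F i))
    (fun i => Module.finrank K ↥(T.gr Xb i))
    (fun i => LinearMap.charpoly (T.pullDeg F i))
    (fun i => LinearMap.charpoly_natDegree _)
    (fun i => (WCFrob.main k₀ k T f FX hle hFapp Xb π hπ F hF i).1)
    (fun i => (WCFrob.main k₀ k T f FX hle hFapp Xb π hπ F hF i).2)
    (finrank_compl T Xb)
    (even_finrank_middle T Xb)

end Main

end Groth.Agent.Helper8.WCFunEq
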