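import Mathlib
import Groth.Agent.Helper8.WCCorr

set_option autoImplicit false
universe u v w

namespace Groth.Agent.Helper8.WCSwap

open CategoryTheory CategoryTheory.Limits AlgebraicGeometry WeilCoh
open Groth.Agent.Helper5.VarDim Groth.Agent.Helper7 Groth.Agent.Helper8.WCGeo
open Groth.Agent.Helper8.WCDiag Groth.Agent.Helper8.WCPt Groth.Agent.Helper8.WCGen
open Groth.Agent.Helper8.WCKun Groth.Agent.Helper8.WCLef Groth.Agent.Helper8.WCProj
open Groth.Agent.Helper8.WCCorr

variable {k : Type u} [Field k]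
variable {K : Type v} [Field K] (T : TheoryOn.{u, v, w} k (IsVar k) K)

theorem neg_one_pow_congr {n c : ℕ} (h : Even n ↔ Even c) : (-1 : K) ^ n = (-1) ^ c := by
  rcases Nat.even_or_odd n with hn | hn
  · rw [hn.neg_one_pow, (h.1 hn).neg_one_pow]
  · have hc : Odd c := by
      rw [← Nat.not_even_iff_odd] at hn ⊢
      exact fun hc => hn (h.2 hc)
    rw [hn.neg_one_pow, hc.neg_one_pow]

theorem sgn_eq (a b : ℤ) (c : ℕ) (h : (a % 2 = 0 ∨ b % 2 = 0) ↔ c % 2 = 0) :
    (-1 : K) ^ (a.natAbs * b.natAbs) = (-1) ^ c := by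
  apply neg_one_pow_congr
  rw [← Int.natAbs_mul, Int.natAbs_even, Int.even_mul, Int.even_iff, Int.even_iff, Nat.even_iff]
  exact h

section Decomp

variable {X Y P : Var k} (p : P ⟶ X) (q : P ⟶ Y) (hP : IsProd p q) (D : ℤ)

/-- The explicit class with prescribed action. -/
noncomputable def phi0
    (L : ∀ i : ℤ, ↥(T.gr X i) →ₗ[K]
      ↥(T.gr Y (i + D + 2 * (dim Y.obj.left : ℤ) - 2 * (dim P.obj.left : ℤ)))) : T.H P :=
  ∑ i' ∈ Finset.range (2 * dim X.obj.left + 1), ∑ a : ι T X i',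
    ((-1 : K) ^ i') • (T.pull p (fB T X i' a : T.H X) *
      T.pull q ((L (i' : ℤ) (eB T X i' a) : ↥(T.gr Y _)) : T.H Y))

include hP in
theorem phi0_mem
    (L : ∀ i : ℤ, ↥(T.gr X i) →ₗ[K]
      ↥(T.gr Y (i + D + 2 * (dim Y.obj.left : ℤ) - 2 * (dim P.obj.left : ℤ)))) :
    phi0 T p q D L ∈ T.gr P D := by
  have hd := WC.dim_prod T p q hP
  refine Submodule.sum_mem _ fun i' _ => Submodule.sum_mem _ fun a _ =>
    Submodule.smul_mem _ _ ?_
  exact WC.gr_congr T (by omega)
    (SetLike.mul_mem_graded (T.pull_mem p _ _ (fB T X i' a).2)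
      (T.pull_mem q _ _ (L (i' : ℤ) (eB T X i' a)).2))

include hP in
theorem corr_phi0
    (L : ∀ i : ℤ, ↥(T.gr X i) →ₗ[K]
      ↥(T.gr Y (i + D + 2 * (dim Y.obj.left : ℤ) - 2 * (dim P.obj.left : ℤ)))) :
    (fun i : ℤ => corr T p q D ⟨phi0 T p q D L, phi0_mem T p q hP D L⟩ i) = L := by
  classical
  have hdimZ := WC.dim_prod T p q hP
  set n := dim X.obj.left with hn
  funext i
  by_cases hi : i < 0 ∨ 2 * (n : ℤ) < i
  · apply LinearMap.ext
    intro x
    have hx0 : x = 0 := Subtype.ext (eq_zero_of_vanish T X i hi x x.2)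
    rw [hx0, map_zero, map_zero]
  · have hi0 : 0 ≤ i := by omega
    obtain ⟨i', rfl⟩ := Int.eq_ofNat_of_zero_le hi0
    have hi' : i' ≤ 2 * n := by omega
    apply (eB T X i').ext
    intro b
    apply Subtype.ext
    rw [corr_apply]
    apply WC.eq_of_forall_tr T
      ((i' : ℤ) + D + 2 * (dim Y.obj.left : ℤ) - 2 * (dim P.obj.left : ℤ))
      (2 * (dim P.obj.left : ℤ) - ((i' : ℤ) + D)) (by omega)
    · exact (T.push q _ _).2
    · exact (L (i' : ℤ) (eB T X i' b)).2
    · intro y hy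
      rw [WC.push_spec T q ((i' : ℤ) + D) _ y hy]
      show T.tr P (T.pull p (eB T X i' b : T.H X) *
        (∑ i'' ∈ Finset.range (2 * n + 1), ∑ a : ι T X i'',
          ((-1 : K) ^ i'') • (T.pull p (fB T X i'' a : T.H X) *
            T.pull q ((L (i'' : ℤ) (eB T X i'' a) : ↥(T.gr Y _)) : T.H Y))) * T.pull q y) = _
      rw [Finset.mul_sum, Finset.sum_mul, map_sum]
      rw [Finset.sum_eq_single i']
      · rw [Finset.mul_sum, Finset.sum_mul, map_sum]
        rw [Finset.sum_eq_single b]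
        · rw [mul_smul_comm, smul_mul_assoc, map_smul, ← mul_assoc, ← map_mul (T.pull p),
            mul_assoc, ← map_mul (T.pull q), tr_prod_all T p q hP]
          have hg := T.gradedComm X (i' : ℤ) (2 * (n : ℤ) - i')
            (eB T X i' b : T.H X) (fB T X i' b : T.H X) (eB T X i' b).2 (fB T X i' b).2
          have hnn : (2 * (n : ℤ) - i').natAbs = 2 * n - i' := by omega
          rw [hg, Int.natAbs_natCast, hnn, neg_one_pow_mul i' _ hi', map_smul,
            fB_spec T X i' b b, if_pos rfl, smul_eq_mul, smul_eq_mul, mul_one, ← mul_assoc,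
            ← pow_add, ← two_mul, pow_mul]
          simp
        · intro a _ hab
          rw [mul_smul_comm, smul_mul_assoc, map_smul, ← mul_assoc, ← map_mul (T.pull p),
            mul_assoc, ← map_mul (T.pull q), tr_prod_all T p q hP]
          have hg := T.gradedComm X (i' : ℤ) (2 * (n : ℤ) - i')
            (eB T X i' b : T.H X) (fB T X i' a : T.H X) (eB T X i' b).2 (fB T X i' a).2
          rw [hg, map_smul, fB_spec T X i' b a, if_neg (fun h => hab h.symm)]
          simp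
        · intro h; exact absurd (Finset.mem_univ b) h
      · intro i'' _ hne
        rw [Finset.mul_sum, Finset.sum_mul, map_sum]
        refine Finset.sum_eq_zero fun a _ => ?_
        rw [mul_smul_comm, smul_mul_assoc, map_smul, ← mul_assoc, ← map_mul (T.pull p),
          mul_assoc, ← map_mul (T.pull q), tr_prod_all T p q hP,
          T.tr_vanish X ((i' : ℤ) + (2 * (n : ℤ) - i'')) _
            (SetLike.mul_mem_graded (eB T X i' b).2 (fB T X i'' a).2) (by omega)]
        simp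
      · intro h
        exact absurd (Finset.mem_range.2 (by omega)) h

include hP in
/-- Every class on the product is the explicit class attached to its own action. -/
theorem decomp_of_corr (φ : ↥(T.gr P D)) :
    (φ : T.H P) = phi0 T p q D (fun i => corr T p q D φ i) := by
  have hd := WC.dim_prod T p q hP
  have h1 := corr_phi0 T p q hP D (fun i => corr T p q D φ i)
  have hdimN : dim P.obj.left = dim X.obj.left + dim Y.obj.left := by exact_mod_cast hd
  -- injectivity from S19871, with D written as 2 dim X + r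
  have hbij := WCCorr.main T X Y P p q hP hdimN (D - 2 * (dim X.obj.left : ℤ))
  have hD : 2 * (dim X.obj.left : ℤ) + (D - 2 * (dim X.obj.left : ℤ)) = D := by ring
  rw [hD] at hbij
  have := hbij.injective h1
  exact (congrArg Subtype.val this).symm

end Decomp

/-- The swap preserves traces. -/
theorem tr_pull_swap {X Y P P' : Var k} (p : P ⟶ X) (q : P ⟶ Y) (hP : IsProd p q)
    (p' : P' ⟶ Y) (q' : P' ⟶ X) (hP' : IsProd p' q')
    (σ : P ⟶ P') (hσ₁ : σ ≫ p' = q) (hσ₂ : σ ≫ q' = p) (z : T.H P') :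
    T.tr P (T.pull σ z) = T.tr P' z := by
  obtain ⟨t, rfl⟩ := (T.kunneth p' q' hP').surjective z
  induction t using TensorProduct.induction_on with
  | zero => simp
  | tmul y x =>
    show T.tr P (T.pull σ (T.pull p' y * T.pull q' x)) = T.tr P' (T.pull p' y * T.pull q' x)
    rw [map_mul (T.pull σ), pull_pull, pull_pull, hσ₁, hσ₂, tr_prod_all T p' q' hP']
    refine hom_induction T Y
      (fun y => T.tr P (T.pull q y * T.pull p x) = T.tr Y y * T.tr X x)
      (by simp) (fun a b ha hb => by simp only [map_add, add_mul, ha, hb]) ?_ y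
    intro t y hy
    refine hom_induction T X
      (fun x => T.tr P (T.pull q y * T.pull p x) = T.tr Y y * T.tr X x)
      (by simp) (fun a b ha hb => by simp only [map_add, mul_add, ha, hb]) ?_ x
    intro s x hx
    by_cases hst : s = 2 * (dim X.obj.left : ℤ) ∧ t = 2 * (dim Y.obj.left : ℤ)
    · have hg := T.gradedComm P t s _ _ (T.pull_mem q t y hy) (T.pull_mem p s x hx)
      have hs : (-1 : K) ^ (t.natAbs * s.natAbs) = (-1) ^ 0 :=
        sgn_eq t s 0 (by omega)
      rw [hg, hs, pow_zero, one_smul, tr_prod_all T p q hP, mul_comm]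
    · have hR : T.tr Y y * T.tr X x = 0 := by
        by_cases h2 : s = 2 * (dim X.obj.left : ℤ)
        · have h3 : t ≠ 2 * (dim Y.obj.left : ℤ) := fun h => hst ⟨h2, h⟩
          rw [T.tr_vanish Y t y hy h3, zero_mul]
        · rw [T.tr_vanish X s x hx h2, mul_zero]
      rw [hR]
      have hg := T.gradedComm P t s _ _ (T.pull_mem q t y hy) (T.pull_mem p s x hx)
      rw [hg, map_smul, tr_prod_all T p q hP, mul_comm (T.tr X x), hR, smul_zero]
  | add a b ha hb =>
    simp only [map_add, ha, hb]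

/-- S15748. -/
theorem main (X Y P P' : Var k)
    (p : P ⟶ X) (q : P ⟶ Y) (hP : IsProd p q)
    (p' : P' ⟶ Y) (q' : P' ⟶ X) (hP' : IsProd p' q')
    (σ : P ⟶ P') (hσ₁ : σ ≫ p' = q) (hσ₂ : σ ≫ q' = p) (r : ℤ)
    (hdim : ∀ i : ℤ, ((i + (2 * (dim X.obj.left : ℤ) + r) + 2 * (dim Y.obj.left : ℤ) -
      2 * (dim P.obj.left : ℤ)) + (2 * (dim Y.obj.left : ℤ) - r) + 2 * (dim X.obj.left : ℤ) -
      2 * (dim P'.obj.left : ℤ)) = i)
    (φ : ↥(T.gr P (2 * (dim X.obj.left : ℤ) + r)))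
    (ψ : ↥(T.gr P' (2 * (dim Y.obj.left : ℤ) - r))) :
    T.tr P ((φ : T.H P) * T.pull σ (ψ : T.H P')) =
      ∑ i ∈ Finset.range (2 * dim X.obj.left + 1),
        (-1 : K) ^ i * LinearMap.trace K ↥(T.gr X (i : ℤ))
          ((LinearEquiv.ofEq _ (T.gr X (i : ℤ)) (congrArg (T.gr X) (hdim (i : ℤ)))).toLinearMap ∘ₗ
            (corr T p' q' (2 * (dim Y.obj.left : ℤ) - r) ψ
              ((i : ℤ) + (2 * (dim X.obj.left : ℤ) + r) + 2 * (dim Y.obj.left : ℤ) -
                2 * (dim P.obj.left : ℤ))) ∘ₗ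
            (corr T p q (2 * (dim X.obj.left : ℤ) + r) φ (i : ℤ))) := by
  classical
  haveI := irr X
  have hdP := WC.dim_prod T p q hP
  have hdP' := WC.dim_prod T p' q' hP'
  conv_lhs => rw [decomp_of_corr T p q hP (2 * (dim X.obj.left : ℤ) + r) φ]
  unfold phi0
  rw [Finset.sum_mul, map_sum]
  refine Finset.sum_congr rfl fun i' hi => ?_
  have hi' : i' ≤ 2 * dim X.obj.left := by
    have := Finset.mem_range.1 hi; omega
  rw [Finset.sum_mul, map_sum, LinearMap.trace_eq_matrix_trace K (eB T X i'), Matrix.trace,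
    Finset.mul_sum]
  refine Finset.sum_congr rfl fun a _ => ?_
  rw [Matrix.diag_apply, LinearMap.toMatrix_apply,
    repr_eq T X (ι T X) (eB T X) (fB T X) (fun r _ i l => fB_spec T X r i l) i' hi']
  -- unfold the composite
  set w := corr T p q (2 * (dim X.obj.left : ℤ) + r) φ (i' : ℤ) (eB T X i' a) with hw
  have hZ : (((LinearEquiv.ofEq _ (T.gr X (i' : ℤ)) (congrArg (T.gr X) (hdim (i' : ℤ)))).toLinearMap ∘ₗ
      (corr T p' q' (2 * (dim Y.obj.left : ℤ) - r) ψ ((i' : ℤ) + (2 * (dim X.obj.left : ℤ) + r) + 2 * (dim Y.obj.left : ℤ) - 2 * (dim P.obj.left : ℤ))) ∘ₗ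
      (corr T p q (2 * (dim X.obj.left : ℤ) + r) φ (i' : ℤ))) (eB T X i' a) : T.H X) =
      (T.push q' ((i' : ℤ) + (2 * (dim X.obj.left : ℤ) + r) + 2 * (dim Y.obj.left : ℤ) - 2 * (dim P.obj.left : ℤ) + (2 * (dim Y.obj.left : ℤ) - r))
        ⟨T.pull p' (w : T.H Y) * (ψ : T.H P'),
          SetLike.mul_mem_graded (T.pull_mem p' _ w w.2) ψ.2⟩ : T.H X) := rfl
  rw [hZ]
  set Z := T.push q' ((i' : ℤ) + (2 * (dim X.obj.left : ℤ) + r) + 2 * (dim Y.obj.left : ℤ) - 2 * (dim P.obj.left : ℤ) + (2 * (dim Y.obj.left : ℤ) - r))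
        ⟨T.pull p' (w : T.H Y) * (ψ : T.H P'),
          SetLike.mul_mem_graded (T.pull_mem p' _ w w.2) ψ.2⟩ with hZdef
  -- commute f and Z
  have hg := T.gradedComm X (2 * (dim X.obj.left : ℤ) - i') _ (fB T X i' a : T.H X) (Z : T.H X)
    (fB T X i' a).2 Z.2
  have hs1 : (-1 : K) ^ ((2 * (dim X.obj.left : ℤ) - i').natAbs *
      ((i' : ℤ) + (2 * (dim X.obj.left : ℤ) + r) + 2 * (dim Y.obj.left : ℤ) - 2 * (dim P.obj.left : ℤ) + (2 * (dim Y.obj.left : ℤ) - r) +
        2 * (dim X.obj.left : ℤ) - 2 * (dim P'.obj.left : ℤ)).natAbs) = (-1) ^ i' :=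
    sgn_eq _ _ i' (by omega)
  rw [hg, hs1, map_smul, smul_eq_mul]
  -- push_spec
  have hf : (fB T X i' a : T.H X) ∈ T.gr X (2 * (dim P'.obj.left : ℤ) -
      ((i' : ℤ) + (2 * (dim X.obj.left : ℤ) + r) + 2 * (dim Y.obj.left : ℤ) - 2 * (dim P.obj.left : ℤ) + (2 * (dim Y.obj.left : ℤ) - r))) :=
    WC.gr_congr T (by omega) (fB T X i' a).2
  rw [WC.push_spec T q' _ _ _ hf]
  show _ = (-1 : K) ^ i' * ((-1) ^ i' *
    T.tr P' (T.pull p' (w : T.H Y) * (ψ : T.H P') * T.pull q' (fB T X i' a : T.H X)))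
  -- commute in P'
  have hg2 := T.gradedComm P' _ _ (T.pull p' (w : T.H Y) * (ψ : T.H P'))
    (T.pull q' (fB T X i' a : T.H X))
    (SetLike.mul_mem_graded (T.pull_mem p' _ w w.2) ψ.2) (T.pull_mem q' _ _ (fB T X i' a).2)
  have hs2 : (-1 : K) ^ (((i' : ℤ) + (2 * (dim X.obj.left : ℤ) + r) + 2 * (dim Y.obj.left : ℤ) - 2 * (dim P.obj.left : ℤ) +
      (2 * (dim Y.obj.left : ℤ) - r)).natAbs * (2 * (dim X.obj.left : ℤ) - i').natAbs) = (-1) ^ i' :=
    sgn_eq _ _ i' (by omega)
  rw [hg2, hs2, map_smul, smul_eq_mul, ← mul_assoc, ← mul_assoc, ← pow_add, ← pow_add,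
    ← tr_pull_swap T p q hP p' q' hP' σ hσ₁ hσ₂, map_mul (T.pull σ), map_mul (T.pull σ),
    pull_pull, pull_pull, hσ₁, hσ₂, smul_mul_assoc, map_smul, smul_eq_mul, ← mul_assoc]
  have he : ((-1 : K) ^ (i' + i' + i')) = (-1) ^ i' := by
    apply neg_one_pow_congr
    rw [Nat.even_add, Nat.even_add]
    tauto
  rw [he]

end Groth.Agent.Helper8.WCSwap
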