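import Mathlib
import Groth.Agent.Helper8.WCSwap

set_option autoImplicit false
universe u v w

namespace Groth.Agent.Helper8.WCJac

open CategoryTheory CategoryTheory.Limits AlgebraicGeometry WeilCoh
open Groth.Agent.Helper5.VarDim Groth.Agent.Helper7 Groth.Agent.Helper8.WCGeo
open Groth.Agent.Helper8.WCDiag Groth.Agent.Helper8.WCPt Groth.Agent.Helper8.WCGen
open Groth.Agent.Helper8.WCKun Groth.Agent.Helper8.WCLef Groth.Agent.Helper8.WCProj
open Groth.Agent.Helper8.WCCorr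

variable {k : Type u} [Field k]

/-- Uniqueness of maps into a product. -/
theorem prod_hom_ext {X Y Q W : Var k} (p : Q ⟶ X) (q : Q ⟶ Y) (hQ : IsProd p q)
    (g g' : W ⟶ Q) (h1 : g ≫ p = g' ≫ p) (h2 : g ≫ q = g' ≫ q) : g = g' := by
  apply ObjectProperty.hom_ext
  apply Over.OverMorphism.ext
  apply hQ.hom_ext
  · exact congrArg sm h1
  · exact congrArg sm h2

theorem swap_sq {X P : Var k} (p q : P ⟶ X) (hP : IsProd p q) (σ : P ⟶ P)
    (h1 : σ ≫ p = q) (h2 : σ ≫ q = p) : σ ≫ σ = 𝟙 P :=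
  prod_hom_ext p q hP _ _ (by rw [Category.assoc, h1, h2, Category.id_comp])
    (by rw [Category.assoc, h2, h1, Category.id_comp])

theorem sm_invol {P : Var k} (σ : P ⟶ P) (hσ : σ ≫ σ = 𝟙 P) : sm σ ≫ sm σ = 𝟙 P.obj.left :=
  congrArg sm hσ

theorem sm_invol_apply {P : Var k} (σ : P ⟶ P) (hσ : σ ≫ σ = 𝟙 P) (x : P.obj.left) :
    sm σ (sm σ x) = x := by
  have h := sm_invol σ hσ
  have := congrArg (fun f : P.obj.left ⟶ P.obj.left => f x) h
  simpa using this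

theorem pdim_invol {P : Var k} (σ : P ⟶ P) (hσ : σ ≫ σ = 𝟙 P) (w : P.obj.left) :
    pdim P.obj.left (sm σ w) = pdim P.obj.left w :=
  pdim_eq_of_residueDegree_ne_zero σ w (by
    rw [residueDegree_of_section (sm σ) (sm σ) (sm_invol σ hσ) w]
    exact one_ne_zero)

variable {K : Type v} [Field K] (T : TheoryOn.{u, v, w} k (IsVar k) K)

/-- The pull-back of a cycle class along an involution is algebraic. -/
theorem pull_cl_mem {P : Var k} (σ : P ⟶ P) (hσ : σ ≫ σ = 𝟙 P) (ξ : P.obj.left) :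
    T.pull σ (T.cl P ξ) ∈ Submodule.span K (Set.range (T.cl P)) := by
  have hσσ := sm_invol_apply σ hσ
  rw [T.cl_pull σ ξ ?_ ?_]
  · refine finsum_induction (fun z => z ∈ Submodule.span K (Set.range (T.cl P)))
      (zero_mem _) (fun a b ha hb => add_mem ha hb) ?_
    intro w
    exact Submodule.smul_mem _ _ (Submodule.subset_span ⟨w.1, rfl⟩)
  · intro w hw
    have hw1 : ξ ⤳ sm σ w := specializes_iff_mem_closure.2 hw.1
    have h2 : sm σ ξ ⤳ w := by
      have := hw1.map (sm σ).continuous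
      rwa [hσσ] at this
    have h3 : sm σ ξ ∈ (sm σ) ⁻¹' closure ({ξ} : Set P.obj.left) := by
      show sm σ (sm σ ξ) ∈ closure ({ξ} : Set P.obj.left)
      rw [hσσ]
      exact subset_closure rfl
    have h4 := hw.2 _ h3 h2
    rw [← h4, pdim_invol σ hσ]
    ring
  · left
    refine ⟨⊤, fun _ _ => trivial, ?_⟩
    haveI : IsIso (sm σ) := ⟨sm σ, sm_invol σ hσ, sm_invol σ hσ⟩
    infer_instance

theorem pull_mem_span {P : Var k} (σ : P ⟶ P) (hσ : σ ≫ σ = 𝟙 P) (v : T.H P)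
    (hv : v ∈ Submodule.span K (Set.range (T.cl P))) :
    T.pull σ v ∈ Submodule.span K (Set.range (T.cl P)) := by
  have h := (Submodule.map_span_le (T.pull σ).toLinearMap (Set.range (T.cl P))
    (Submodule.span K (Set.range (T.cl P)))).2 (by
      rintro _ ⟨ξ, rfl⟩
      exact pull_cl_mem T σ hσ ξ)
  exact h ⟨v, hv, rfl⟩

/-- The value of a correspondence action only depends on the underlying classes. -/
theorem corr_val_congr {X Y P : Var k} (p : P ⟶ X) (q : P ⟶ Y) (D D' : ℤ) (hD : D = D')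
    (φ : ↥(T.gr P D)) (φ' : ↥(T.gr P D')) (hφ : (φ : T.H P) = (φ' : T.H P)) (i i' : ℤ)
    (hi : i = i') (x : ↥(T.gr X i)) (x' : ↥(T.gr X i')) (hx : (x : T.H X) = (x' : T.H X)) :
    ((corr T p q D φ i x : ↥(T.gr Y _)) : T.H Y) = ((corr T p q D' φ' i' x' : ↥(T.gr Y _)) : T.H Y) := by
  subst hD
  subst hi
  obtain rfl : φ = φ' := Subtype.ext hφ
  obtain rfl : x = x' := Subtype.ext hx
  rfl

/-- S19418. -/
theorem main (X P : Var k)
    (p q : P ⟶ X) (hP : IsProd p q) (σ : P ⟶ P) (hσp : σ ≫ p = q) (hσq : σ ≫ q = p)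
    (hdim : ∀ j : ℤ, j + 2 * (WeilCoh.dim X.obj.left : ℤ) + 2 * (WeilCoh.dim X.obj.left : ℤ) - 2 * (WeilCoh.dim P.obj.left : ℤ) = j)
    (u : ↥(T.gr P (2 * (WeilCoh.dim X.obj.left : ℤ)))) (hu : (u : T.H P) ∈ Submodule.span K (Set.range (T.cl P)))
    (hJ : ∀ ψ ∈ Algebra.adjoin K
          (Set.range (fun w : {w : ↥(T.gr P (2 * (WeilCoh.dim X.obj.left : ℤ))) // (w : T.H P) ∈ Submodule.span K (Set.range (T.cl P))} =>
            fun j : Fin (2 * WeilCoh.dim X.obj.left + 1) =>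
              ((LinearEquiv.ofEq (T.gr X (((j : ℕ) : ℤ) + 2 * (WeilCoh.dim X.obj.left : ℤ) + 2 * (WeilCoh.dim X.obj.left : ℤ) - 2 * (WeilCoh.dim P.obj.left : ℤ))) (T.gr X ((j : ℕ) : ℤ)) (congrArg (T.gr X) (hdim ((j : ℕ) : ℤ)))).toLinearMap ∘ₗ
              ((T.push q (((j : ℕ) : ℤ) + 2 * (WeilCoh.dim X.obj.left : ℤ))) ∘ₗ
                (((LinearMap.mulRight K (w.1 : T.H P)).restrict (p := T.gr P ((j : ℕ) : ℤ))
                    (q := T.gr P (((j : ℕ) : ℤ) + 2 * (WeilCoh.dim X.obj.left : ℤ))) (fun x hx => SetLike.mul_mem_graded hx w.1.2)) ∘ₗ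
                  T.pullDeg p ((j : ℕ) : ℤ)))))),
        IsNilpotent (ψ * fun j : Fin (2 * WeilCoh.dim X.obj.left + 1) =>
          ((LinearEquiv.ofEq (T.gr X (((j : ℕ) : ℤ) + 2 * (WeilCoh.dim X.obj.left : ℤ) + 2 * (WeilCoh.dim X.obj.left : ℤ) - 2 * (WeilCoh.dim P.obj.left : ℤ))) (T.gr X ((j : ℕ) : ℤ)) (congrArg (T.gr X) (hdim ((j : ℕ) : ℤ)))).toLinearMap ∘ₗ
              ((T.push q (((j : ℕ) : ℤ) + 2 * (WeilCoh.dim X.obj.left : ℤ))) ∘ₗ
                (((LinearMap.mulRight K (u : T.H P)).restrict (p := T.gr P ((j : ℕ) : ℤ))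
                    (q := T.gr P (((j : ℕ) : ℤ) + 2 * (WeilCoh.dim X.obj.left : ℤ))) (fun x hx => SetLike.mul_mem_graded hx u.2)) ∘ₗ
                  T.pullDeg p ((j : ℕ) : ℤ))))))
    (v : ↥(T.gr P (2 * (WeilCoh.dim X.obj.left : ℤ)))) (hv : (v : T.H P) ∈ Submodule.span K (Set.range (T.cl P))) :
    T.tr P ((u : T.H P) * (v : T.H P)) = 0 := by
  classical
  have hσσ := swap_sq p q hP σ hσp hσq
  have h0 := hdim 0
  -- the class `σ^* v`
  have hv'g : T.pull σ (v : T.H P) ∈ T.gr P (2 * (dim X.obj.left : ℤ)) := T.pull_mem σ _ _ v.2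
  have hv's := pull_mem_span T σ hσσ _ hv
  have hvv : T.pull σ (T.pull σ (v : T.H P)) = (v : T.H P) := by
    rw [pull_pull, hσσ, T.pull_id]
    rfl
  set φ : ↥(T.gr P (2 * (dim X.obj.left : ℤ) + 0)) := ⟨(u : T.H P), WC.gr_congr T (by ring) u.2⟩
    with hφ
  set ψ : ↥(T.gr P (2 * (dim X.obj.left : ℤ) - 0)) :=
    ⟨T.pull σ (v : T.H P), WC.gr_congr T (by ring) hv'g⟩ with hψ
  have hdim' : ∀ i : ℤ, ((i + (2 * (dim X.obj.left : ℤ) + 0) + 2 * (dim X.obj.left : ℤ) -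
      2 * (dim P.obj.left : ℤ)) + (2 * (dim X.obj.left : ℤ) - 0) + 2 * (dim X.obj.left : ℤ) -
      2 * (dim P.obj.left : ℤ)) = i := fun i => by omega
  have key := WCSwap.main T X X P P p q hP p q hP σ hσp hσq 0 hdim' φ ψ
  have hL : T.tr P ((φ : T.H P) * T.pull σ (ψ : T.H P)) = T.tr P ((u : T.H P) * (v : T.H P)) := by
    show T.tr P ((u : T.H P) * T.pull σ (T.pull σ (v : T.H P))) = _
    rw [hvv]
  rw [← hL, key]
  refine Finset.sum_eq_zero fun i hi => ?_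
  have hi' : i < 2 * dim X.obj.left + 1 := Finset.mem_range.1 hi
  -- the generator attached to `σ^* v`
  let w0 : {w : ↥(T.gr P (2 * (WeilCoh.dim X.obj.left : ℤ))) //
      (w : T.H P) ∈ Submodule.span K (Set.range (T.cl P))} := ⟨⟨T.pull σ (v : T.H P), hv'g⟩, hv's⟩
  have hnil := hJ _ (Algebra.subset_adjoin ⟨w0, rfl⟩)
  obtain ⟨m, hm⟩ := hnil
  have hm' := congrFun hm ⟨i, hi'⟩
  rw [Pi.pow_apply, Pi.zero_apply] at hm'
  have hnil' : IsNilpotent
      ((LinearEquiv.ofEq _ (T.gr X (i : ℤ)) (congrArg (T.gr X) (hdim' (i : ℤ)))).toLinearMap ∘ₗ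
        (corr T p q (2 * (dim X.obj.left : ℤ) - 0) ψ
          ((i : ℤ) + (2 * (dim X.obj.left : ℤ) + 0) + 2 * (dim X.obj.left : ℤ) -
            2 * (dim P.obj.left : ℤ))) ∘ₗ
        (corr T p q (2 * (dim X.obj.left : ℤ) + 0) φ (i : ℤ))) := by
    refine ⟨m, ?_⟩
    rw [← hm']
    congr 1
    apply LinearMap.ext
    intro x
    apply Subtype.ext
    exact corr_val_congr T p q _ _ (by ring) ψ w0.1 rfl _ _ (by show _ = (i : ℤ); omega) _ _
      (corr_val_congr T p q _ _ (by ring) φ u rfl _ _ rfl x x rfl)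
  rw [(LinearMap.isNilpotent_trace_of_isNilpotent hnil').eq_zero, mul_zero]

end Groth.Agent.Helper8.WCJac
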