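import Mathlib
import Groth.Prelude.Def_W4c3truncdispsmoothDesc
import Groth.Agent.Helper8.GDescC

/-!
# Descent for modules over truncated Witt vectors: full faithfulness

Instantiates `Helper8.GDesc.main` at the truncated Witt vector functor: for `R → R'` faithfully
flat, `W_n(R) → W_n(R')` is injective and `W_n(R)` is the equalizer of
`W_n(R') ⇉ W_n(R' ⊗_R R')` (coefficientwise), so the functor to descent data is fully faithful
on maps into flat `W_n(R)`-modules.
-/

set_option autoImplicit false
set_option linter.unusedSectionVars false
set_option linter.unusedVariables false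

universe u

open CategoryTheory Opposite TensorProduct

noncomputable section

namespace Groth.Agent.Helper8.WDesc

variable (p : ℕ) [Fact p.Prime] (n : ℕ)

lemma truncMap_injective {A B : Type u} [CommRing A] [CommRing B] (f : A →+* B)
    (hf : Function.Injective f) : Function.Injective (WittGrp.truncMap p n f) := by
  intro x y h
  apply TruncatedWittVector.ext
  intro i
  apply hf
  have := congrArg (fun w => w.coeff i) h
  simpa only [WittGrp.coeff_truncMap] using this

lemma truncMap_exact (R S : Type u) [CommRing R] [CommRing S] [Algebra R S]
    [Module.FaithfullyFlat R S] (w : TruncatedWittVector p n S)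
    (hw : WittGrp.truncMap p n (Algebra.TensorProduct.includeLeftRingHom : S →+* S ⊗[R] S) w =
      WittGrp.truncMap p n
        (Algebra.TensorProduct.includeRight (R := R) (A := S) (B := S)).toRingHom w) :
    ∃ v, WittGrp.truncMap p n (algebraMap R S) v = w := by
  have heff := Algebra.IsEffective.of_faithfullyFlat R S
  have hloc := heff.eqLocus_includeLeft_includeRight
  have hcoef : ∀ i, ∃ r : R, algebraMap R S r = w.coeff i := by
    intro i
    have h1 := congrArg (fun z => z.coeff i) hw
    simp only [WittGrp.coeff_truncMap] at h1
    have h2 : w.coeff i ∈ ((Algebra.TensorProduct.includeLeftRingHom : S →+* S ⊗[R] S).eqLocus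
        (Algebra.TensorProduct.includeRight (R := R) (A := S) (B := S)).toRingHom : Set S) := h1
    rw [hloc] at h2
    exact h2
  choose r hr using hcoef
  refine ⟨TruncatedWittVector.mk p r, ?_⟩
  apply TruncatedWittVector.ext
  intro i
  rw [WittGrp.coeff_truncMap, TruncatedWittVector.coeff_mk, hr]

theorem main (R R' : Type u) [CommRing R] [CommRing R'] [Algebra R R']
    [Module.FaithfullyFlat R R']
    (M N : ModuleCat.{u} (TruncatedWittVector p n R))
    [hN : Module.Flat (TruncatedWittVector p n R) N] :
    GDesc.FF.{u} (W4c3truncdispsmooth.wittModPF.{u} p n)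
      (CommRingCat.ofHom (algebraMap R R')).op M N :=
  @GDesc.main (W4c3truncdispsmooth.wittTrunc.{u} p n) R R' (R' ⊗[R] R') _ _ _ _
    (Algebra.TensorProduct.includeLeftRingHom : R' →+* R' ⊗[R] R')
    (Algebra.TensorProduct.includeRight (R := R) (A := R') (B := R')).toRingHom
    Algebra.TensorProduct.includeLeftRingHom_comp_algebraMap
    (truncMap_injective p n (algebraMap R R') (FaithfulSMul.algebraMap_injective R R'))
    (truncMap_exact p n R R') M N hN

theorem main' (R R' : Type u) [CommRing R] [CommRing R'] [Algebra R R']
    [Module.FaithfullyFlat R R']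
    (M N : ModuleCat.{u} (TruncatedWittVector p n R))
    [hN : Module.Flat (TruncatedWittVector p n R) N] :
    Function.Bijective (fun φ : M ⟶ N =>
      ((W4c3truncdispsmooth.wittModPF.{u} p n).toDescentData
        (fun _ : PUnit.{u + 1} => (CommRingCat.ofHom (algebraMap R R')).op)).map φ) :=
  main p n R R' M N

end Groth.Agent.Helper8.WDesc
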