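import Mathlib
import Groth.Prelude.Def_WittGrp
import Groth.Agent.Helper8.NAH2

/-!
# A finite filtration of truncated Witt vectors with additive graded pieces

For a ring `T` in which `p ^ N = 0`, the ideals
`𝒥 k j = {x ∈ W_n(T) | x_i = 0 for i < k, x_k ∈ p^j T}` ordered lexicographically form a finite
filtration of `W_n(T)` with `𝒥 1 0 * 𝒥 k j ⊆ 𝒥 k (j + 1)`, functorial in `T`.
-/

set_option autoImplicit false
set_option linter.unusedSectionVars false
set_option linter.unusedVariables false

universe u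

open WittVector

noncomputable section

namespace Groth.Agent.Helper8.WittFil

variable {p : ℕ} [hp : Fact p.Prime] {T : Type*} [CommRing T]

/-! ### Witt vectors -/

lemma mul_coeff_of_vanish (k : ℕ) (x y : WittVector p T) (hx : ∀ i < k, x.coeff i = 0) :
    (∀ i < k, (x * y).coeff i = 0) ∧
      (x * y).coeff k = x.coeff k * ((frobenius^[k] y).coeff 0) := by
  have e : x * y = verschiebung^[k] (x.shift k * frobenius^[k] y) := by
    conv_lhs => rw [eq_iterate_verschiebung hx]
    exact iterate_verschiebung_mul_left _ _ _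
  constructor
  · intro i hi
    rw [e]
    exact iterate_verschiebung_coeff_eq_zero _ hi
  · rw [e]
    have := iterate_verschiebung_coeff (x.shift k * frobenius^[k] y) k 0
    rw [zero_add] at this
    rw [this, mul_coeff_zero, shift_coeff, add_zero]

lemma add_coeff_of_vanish (k : ℕ) (x y : WittVector p T) (hx : ∀ i < k, x.coeff i = 0)
    (hy : ∀ i < k, y.coeff i = 0) :
    (∀ i < k, (x + y).coeff i = 0) ∧ (x + y).coeff k = x.coeff k + y.coeff k := by
  have e : x + y = verschiebung^[k] (x.shift k + y.shift k) := by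
    conv_lhs => rw [eq_iterate_verschiebung hx, eq_iterate_verschiebung hy]
    exact (iterate_map_add (verschiebung : WittVector p T →+ WittVector p T) k
      _ _).symm
  constructor
  · intro i hi
    rw [e]
    exact iterate_verschiebung_coeff_eq_zero _ hi
  · rw [e]
    have := iterate_verschiebung_coeff (x.shift k + y.shift k) k 0
    rw [zero_add] at this
    rw [this, add_coeff_zero, shift_coeff, shift_coeff, add_zero]

lemma iterate_frobenius_natCast (k m : ℕ) :
    (frobenius^[k] (m : WittVector p T)) = (m : WittVector p T) :=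
  Function.iterate_fixed (map_natCast (frobenius : WittVector p T →+* WittVector p T) m) k

lemma natCast_coeff_zero (m : ℕ) : (m : WittVector p T).coeff 0 = (m : T) := by
  have := map_natCast (constantCoeff : WittVector p T →+* T) m
  rwa [constantCoeff_apply] at this

lemma iterate_frobenius_coeff_zero_mem (k : ℕ) (hk : 1 ≤ k) (y : WittVector p T)
    (hy : y.coeff 0 = 0) : ∃ c : T, (frobenius^[k] y).coeff 0 = c * (p : T) := by
  obtain ⟨k, rfl⟩ : ∃ k', k = k' + 1 := ⟨k - 1, by omega⟩
  have hy' : y = verschiebung (y.shift 1) := by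
    have := eq_iterate_verschiebung (x := y) (n := 1) (by
      intro i hi
      have : i = 0 := by omega
      rw [this, hy])
    simpa using this
  rw [Function.iterate_succ_apply]
  have h0 : frobenius y = y.shift 1 * (p : WittVector p T) := by
    conv_lhs => rw [hy']
    exact frobenius_verschiebung _
  rw [h0]
  have h1 : (frobenius^[k] (y.shift 1 * (p : WittVector p T))) =
      frobenius^[k] (y.shift 1) * (p : WittVector p T) := by
    rw [iterate_map_mul, iterate_frobenius_natCast]
  rw [h1, mul_coeff_zero, natCast_coeff_zero]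
  exact ⟨_, rfl⟩

lemma neg_coeff_of_vanish (k : ℕ) (x : WittVector p T) (hx : ∀ i < k, x.coeff i = 0) :
    (∀ i < k, (-x).coeff i = 0) ∧ (-x).coeff k = -x.coeff k := by
  have e : -x = x * (-1) := by ring
  have h := mul_coeff_of_vanish k x (-1) hx
  rw [← e] at h
  refine ⟨h.1, h.2.trans ?_⟩
  have h1 : (frobenius^[k] (-1 : WittVector p T)) = -1 := by
    have : (frobenius : WittVector p T →+* WittVector p T) (-1) = -1 := by
      rw [map_neg, map_one]
    exact Function.iterate_fixed this k
  have h2 : (-1 : WittVector p T).coeff 0 = -1 := by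
    have := map_neg (constantCoeff : WittVector p T →+* T) 1
    rw [map_one, constantCoeff_apply] at this
    exact this
  rw [h1, h2, mul_neg, mul_one]

/-! ### Truncated Witt vectors -/

variable {n : ℕ}

/-- the first `k` coefficients vanish -/
def Vanish (k : ℕ) (x : TruncatedWittVector p n T) : Prop :=
  ∀ i : Fin n, (i : ℕ) < k → x.coeff i = 0

/-- the `k`-th coefficient, or zero -/
def ck (k : ℕ) (x : TruncatedWittVector p n T) : T :=
  if h : k < n then x.coeff ⟨k, h⟩ else 0

lemma out_coeff (x : TruncatedWittVector p n T) (i : ℕ) :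
    x.out.coeff i = if h : i < n then x.coeff ⟨i, h⟩ else 0 := by
  rfl

lemma truncate_out (x : TruncatedWittVector p n T) : WittVector.truncate n x.out = x := by
  apply TruncatedWittVector.ext
  intro i
  rw [WittVector.coeff_truncate, TruncatedWittVector.coeff_out]

lemma out_vanish {k : ℕ} {x : TruncatedWittVector p n T} (hx : Vanish k x) :
    ∀ i < k, x.out.coeff i = 0 := by
  intro i hi
  rw [out_coeff]
  split_ifs with h
  · exact hx ⟨i, h⟩ hi
  · rfl

lemma out_ck (k : ℕ) (x : TruncatedWittVector p n T) : x.out.coeff k = ck k x := by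
  rw [out_coeff]
  rfl

lemma vanish_truncate {k : ℕ} {X : WittVector p T} (hX : ∀ i < k, X.coeff i = 0) :
    Vanish k (WittVector.truncate n X) := by
  intro i hi
  rw [WittVector.coeff_truncate]
  exact hX i hi

lemma ck_truncate (k : ℕ) (hk : k < n) (X : WittVector p T) :
    ck k (WittVector.truncate n X) = X.coeff k := by
  unfold ck
  rw [dif_pos hk, WittVector.coeff_truncate]

lemma ck_of_le (k : ℕ) (hk : n ≤ k) (x : TruncatedWittVector p n T) : ck k x = 0 := by
  unfold ck
  rw [dif_neg (by omega)]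

/-- the multiplier of the `k`-th coefficient -/
def gh (k : ℕ) (y : TruncatedWittVector p n T) : T := (frobenius^[k] y.out).coeff 0

lemma mul_vanish (k : ℕ) (x y : TruncatedWittVector p n T) (hx : Vanish k x) :
    Vanish k (x * y) ∧ ck k (x * y) = ck k x * gh k y := by
  have h := mul_coeff_of_vanish k x.out y.out (out_vanish hx)
  have e : x * y = WittVector.truncate n (x.out * y.out) := by
    rw [map_mul, truncate_out, truncate_out]
  constructor
  · rw [e]
    exact vanish_truncate h.1
  · by_cases hk : k < n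
    · rw [e, ck_truncate k hk, h.2, out_ck]
      rfl
    · rw [ck_of_le k (by omega), ck_of_le k (by omega), zero_mul]

lemma add_vanish (k : ℕ) (x y : TruncatedWittVector p n T) (hx : Vanish k x) (hy : Vanish k y) :
    Vanish k (x + y) ∧ ck k (x + y) = ck k x + ck k y := by
  have h := add_coeff_of_vanish k x.out y.out (out_vanish hx) (out_vanish hy)
  have e : x + y = WittVector.truncate n (x.out + y.out) := by
    rw [map_add, truncate_out, truncate_out]
  constructor
  · rw [e]
    exact vanish_truncate h.1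
  · by_cases hk : k < n
    · rw [e, ck_truncate k hk, h.2, out_ck, out_ck]
    · rw [ck_of_le k (by omega), ck_of_le k (by omega), ck_of_le k (by omega), zero_add]

lemma neg_vanish (k : ℕ) (x : TruncatedWittVector p n T) (hx : Vanish k x) :
    Vanish k (-x) ∧ ck k (-x) = -ck k x := by
  have h := neg_coeff_of_vanish k x.out (out_vanish hx)
  have e : -x = WittVector.truncate n (-x.out) := by
    rw [map_neg, truncate_out]
  constructor
  · rw [e]
    exact vanish_truncate h.1
  · by_cases hk : k < n
    · rw [e, ck_truncate k hk, h.2, out_ck]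
    · rw [ck_of_le k (by omega), ck_of_le k (by omega), neg_zero]

lemma sub_vanish (k : ℕ) (x y : TruncatedWittVector p n T) (hx : Vanish k x) (hy : Vanish k y) :
    Vanish k (x - y) ∧ ck k (x - y) = ck k x - ck k y := by
  have h1 := neg_vanish k y hy
  have h2 := add_vanish k x (-y) hx h1.1
  rw [sub_eq_add_neg]
  exact ⟨h2.1, by rw [h2.2, h1.2, sub_eq_add_neg]⟩

lemma zero_vanish (k : ℕ) : Vanish k (0 : TruncatedWittVector p n T) ∧
    ck k (0 : TruncatedWittVector p n T) = 0 := by
  constructor
  · intro i _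
    exact TruncatedWittVector.coeff_zero p n T i
  · unfold ck
    split_ifs
    · exact TruncatedWittVector.coeff_zero p n T _
    · rfl

lemma gh_mem (k : ℕ) (hk : 1 ≤ k) (y : TruncatedWittVector p n T) (hy : Vanish 1 y) :
    ∃ c : T, gh k y = c * (p : T) := by
  apply iterate_frobenius_coeff_zero_mem k hk
  exact out_vanish hy 0 (by omega)

/-- the ideals of the filtration -/
def 𝒥 (n : ℕ) (T : Type*) [CommRing T] (k j : ℕ) : Ideal (TruncatedWittVector p n T) where
  carrier := {x | Vanish k x ∧ ck k x ∈ Ideal.span {(p : T) ^ j}}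
  add_mem' := fun {x y} hx hy => by
    have h := add_vanish k x y hx.1 hy.1
    exact ⟨h.1, by rw [h.2]; exact Ideal.add_mem _ hx.2 hy.2⟩
  zero_mem' := by
    have h := zero_vanish (p := p) (T := T) (n := n) k
    exact ⟨h.1, by rw [h.2]; exact Ideal.zero_mem _⟩
  smul_mem' := fun c x hx => by
    have h := mul_vanish k x c hx.1
    rw [smul_eq_mul, mul_comm]
    exact ⟨h.1, by rw [h.2]; exact Ideal.mul_mem_right _ _ hx.2⟩

lemma mem_𝒥 (k j : ℕ) (x : TruncatedWittVector p n T) :
    x ∈ 𝒥 (p := p) n T k j ↔ Vanish k x ∧ ck k x ∈ Ideal.span {(p : T) ^ j} := Iff.rfl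

lemma 𝒥_succ_le (k j : ℕ) : 𝒥 (p := p) n T k (j + 1) ≤ 𝒥 (p := p) n T k j := by
  intro x hx
  refine ⟨hx.1, ?_⟩
  obtain ⟨c, hc⟩ := Ideal.mem_span_singleton'.mp hx.2
  rw [← hc, pow_succ]
  have e : c * ((p : T) ^ j * (p : T)) = (c * (p : T)) * (p : T) ^ j := by ring
  rw [e]
  exact Ideal.mul_mem_left _ _ (Ideal.subset_span (Set.mem_singleton _))

lemma vanish_succ {k : ℕ} {x : TruncatedWittVector p n T} (hx : Vanish (k + 1) x) :
    Vanish k x ∧ ck k x = 0 := by
  constructor
  · intro i hi
    exact hx i (by omega)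
  · unfold ck
    split_ifs with h
    · exact hx ⟨k, h⟩ (by simp)
    · rfl

lemma 𝒥_next_le (k j : ℕ) : 𝒥 (p := p) n T (k + 1) 0 ≤ 𝒥 (p := p) n T k j := by
  intro x hx
  have h := vanish_succ hx.1
  exact ⟨h.1, by rw [h.2]; exact Ideal.zero_mem _⟩

lemma 𝒥_eq_next (k N : ℕ) (hN : (p : T) ^ N = 0) :
    𝒥 (p := p) n T k N = 𝒥 (p := p) n T (k + 1) 0 := by
  apply le_antisymm
  · intro x hx
    have h0 : ck k x = 0 := by
      have := hx.2
      rw [hN] at this
      simpa using this
    refine ⟨?_, by rw [pow_zero, Ideal.span_singleton_one]; trivial⟩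
    intro i hi
    by_cases h : (i : ℕ) < k
    · exact hx.1 i h
    · have hik : (i : ℕ) = k := by omega
      have : ck k x = x.coeff i := by
        unfold ck
        rw [dif_pos (by omega)]
        congr 1
        exact Fin.ext hik.symm
      rw [← this, h0]
  · exact 𝒥_next_le k N

lemma 𝒥_mul (k j : ℕ) (hk : 1 ≤ k) (x y : TruncatedWittVector p n T)
    (hx : x ∈ 𝒥 (p := p) n T 1 0) (hy : y ∈ 𝒥 (p := p) n T k j) :
    x * y ∈ 𝒥 (p := p) n T k (j + 1) := by
  have h := mul_vanish k y x hy.1
  rw [mul_comm]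
  refine ⟨h.1, ?_⟩
  rw [h.2]
  obtain ⟨c, hc⟩ := gh_mem k hk x hx.1
  obtain ⟨d, hd⟩ := Ideal.mem_span_singleton'.mp hy.2
  rw [hc, ← hd, pow_succ]
  have : d * (p : T) ^ j * (c * (p : T)) = (d * c) * ((p : T) ^ j * (p : T)) := by ring
  rw [this]
  exact Ideal.mul_mem_left _ _ (Ideal.subset_span rfl)

lemma 𝒥_top (k j : ℕ) (hk : n ≤ k) : 𝒥 (p := p) n T k j = ⊥ := by
  rw [eq_bot_iff]
  intro x hx
  rw [Ideal.mem_bot]
  apply TruncatedWittVector.ext
  intro i
  rw [TruncatedWittVector.coeff_zero]
  exact hx.1 i (by omega)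

/-! ### Functoriality -/

variable {T' : Type*} [CommRing T']

lemma truncMap_vanish (f : T →+* T') (k : ℕ) (x : TruncatedWittVector p n T) (hx : Vanish k x) :
    Vanish k (WittGrp.truncMap p n f x) := by
  intro i hi
  rw [WittGrp.coeff_truncMap, hx i hi, map_zero]

lemma ck_truncMap (f : T →+* T') (k : ℕ) (x : TruncatedWittVector p n T) :
    ck k (WittGrp.truncMap p n f x) = f (ck k x) := by
  unfold ck
  split_ifs
  · rw [WittGrp.coeff_truncMap]
  · rw [map_zero]

lemma truncMap_mem (f : T →+* T') (k j : ℕ) (x : TruncatedWittVector p n T)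
    (hx : x ∈ 𝒥 (p := p) n T k j) : WittGrp.truncMap p n f x ∈ 𝒥 (p := p) n T' k j := by
  refine ⟨truncMap_vanish f k x hx.1, ?_⟩
  rw [ck_truncMap]
  obtain ⟨c, hc⟩ := Ideal.mem_span_singleton'.mp hx.2
  rw [← hc, map_mul, map_pow, map_natCast]
  exact Ideal.mul_mem_left _ _ (Ideal.subset_span rfl)

/-- the Witt vector with a single nonzero coefficient -/
def single (k : ℕ) (c : T) : TruncatedWittVector p n T :=
  TruncatedWittVector.mk p fun i => if (i : ℕ) = k then c else 0

lemma single_vanish (k : ℕ) (c : T) : Vanish k (single (p := p) (n := n) k c) := by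
  intro i hi
  unfold single
  rw [TruncatedWittVector.coeff_mk, if_neg (by omega)]

lemma ck_single (k : ℕ) (hk : k < n) (c : T) : ck k (single (p := p) (n := n) k c) = c := by
  unfold ck single
  rw [dif_pos hk, TruncatedWittVector.coeff_mk, if_pos rfl]

lemma truncMap_single (f : T →+* T') (k : ℕ) (c : T) :
    WittGrp.truncMap p n f (single k c) = single k (f c) := by
  apply TruncatedWittVector.ext
  intro i
  unfold single
  rw [WittGrp.coeff_truncMap, TruncatedWittVector.coeff_mk, TruncatedWittVector.coeff_mk]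
  split_ifs
  · rfl
  · exact map_zero f

/-! ### The filtration -/

lemma succ_cases (N a : ℕ) (hN : 0 < N) :
    ((a + 1) / N = a / N ∧ (a + 1) % N = a % N + 1 ∧ a % N + 1 < N) ∨
      ((a + 1) / N = a / N + 1 ∧ (a + 1) % N = 0 ∧ a % N + 1 = N) := by
  have h1 := Nat.div_add_mod a N
  have h2 := Nat.mod_lt a hN
  by_cases h : a % N + 1 < N
  · left
    have e : (a % N + 1) + N * (a / N) = a + 1 := by omega
    have := (Nat.div_mod_unique hN).mpr ⟨e, h⟩
    exact ⟨this.1, this.2, h⟩
  · right
    have h3 : a % N + 1 = N := by omega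
    have e : a + 1 = N * (a / N + 1) := by
      rw [mul_add, mul_one]
      omega
    refine ⟨?_, ?_, h3⟩
    · rw [e, Nat.mul_div_cancel_left _ hN]
    · rw [e, Nat.mul_mod_right]

/-- the filtration of `W_n(T)` when `p ^ N = 0` in `T` -/
def fil (n : ℕ) (T : Type u) [CommRing T] (N : ℕ) (hN : 0 < N) (hpN : (p : T) ^ N = 0) :
    NAH2.IFil (TruncatedWittVector p n T) (n * N) where
  I a := 𝒥 (p := p) n T (1 + a / N) (a % N)
  anti a := by
    rcases succ_cases N a hN with ⟨h1, h2, h3⟩ | ⟨h1, h2, h3⟩
    · rw [h1, h2]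
      exact 𝒥_succ_le _ _
    · rw [h1, h2, ← add_assoc]
      exact 𝒥_next_le _ _
  mul a x y hx hy := by
    have hx' : x ∈ 𝒥 (p := p) n T 1 0 := by
      have : (0 : ℕ) / N = 0 := Nat.zero_div N
      have h2 : (0 : ℕ) % N = 0 := Nat.zero_mod N
      rw [this, h2] at hx
      exact hx
    have key := 𝒥_mul (1 + a / N) (a % N) (Nat.le_add_right 1 _) x y hx' hy
    rcases succ_cases N a hN with ⟨h1, h2, h3⟩ | ⟨h1, h2, h3⟩
    · rw [h1, h2]
      exact key
    · rw [h1, h2, ← add_assoc, ← 𝒥_eq_next _ N hpN]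
      have key' := key
      rw [h3] at key'
      exact key'
  top := by
    apply 𝒥_top
    rw [Nat.mul_div_cancel _ hN]
    omega

lemma fil_I (N : ℕ) (hN : 0 < N) {T : Type u} [CommRing T] (hpN : (p : T) ^ N = 0) (a : ℕ) :
    (fil (p := p) n T N hN hpN).I a = 𝒥 (p := p) n T (1 + a / N) (a % N) := rfl

lemma fil_I_succ (N : ℕ) (hN : 0 < N) {T : Type u} [CommRing T] (hpN : (p : T) ^ N = 0) (a : ℕ) :
    (fil (p := p) n T N hN hpN).I (a + 1) = 𝒥 (p := p) n T (1 + a / N) (a % N + 1) := by
  rw [fil_I]
  rcases succ_cases N a hN with ⟨h1, h2, h3⟩ | ⟨h1, h2, h3⟩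
  · rw [h1, h2]
  · rw [h1, h2, ← add_assoc, ← 𝒥_eq_next _ N hpN, h3]

end Groth.Agent.Helper8.WittFil
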