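import Mathlib
import Groth.Agent.Helper8.WittFil
import Groth.Agent.Helper8.FFDesc3
import Groth.Agent.Helper6.Amitsur1

/-!
# The additive exactness for the Witt filtration along a faithfully flat map

For `R → S` faithfully flat, the Amitsur complex `S → S ⊗ S → S ⊗ S ⊗ S` stays exact modulo any
element `q` of `R`; this gives the exactness needed on the graded pieces of the Witt filtration.
-/

set_option autoImplicit false
set_option linter.unusedSectionVars false
set_option linter.unusedVariables false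

universe u

open TensorProduct

noncomputable section

namespace Groth.Agent.Helper8.WittGE

open Groth.Agent.Helper8.FFDesc Groth.Agent.Helper8.WittFil

section Mod

variable (R : Type u) [CommRing R] (q : R)

/-- `x ↦ 1 ⊗ x`, `X → (R/q) ⊗ X` -/
def pi (X : Type u) [AddCommGroup X] [Module R X] : X →ₗ[R] (R ⧸ Ideal.span {q}) ⊗[R] X :=
  TensorProduct.mk R (R ⧸ Ideal.span {q}) X 1

lemma pi_apply (X : Type u) [AddCommGroup X] [Module R X] (x : X) :
    pi R q X x = (1 : R ⧸ Ideal.span {q}) ⊗ₜ[R] x := rfl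

lemma pi_surjective (X : Type u) [AddCommGroup X] [Module R X] :
    Function.Surjective (pi R q X) := by
  intro z
  induction z using TensorProduct.induction_on with
  | zero => exact ⟨0, map_zero _⟩
  | tmul m x =>
    obtain ⟨r, rfl⟩ := Ideal.Quotient.mk_surjective m
    refine ⟨r • x, ?_⟩
    rw [pi_apply, TensorProduct.tmul_smul, TensorProduct.smul_tmul']
    congr 1
    rw [Algebra.smul_def, mul_one, Ideal.Quotient.algebraMap_eq]
  | add z z' hz hz' =>
    obtain ⟨x, rfl⟩ := hz
    obtain ⟨x', rfl⟩ := hz'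
    exact ⟨x + x', map_add _ _ _⟩

lemma pi_lTensor {X Y : Type u} [AddCommGroup X] [Module R X] [AddCommGroup Y] [Module R Y]
    (f : X →ₗ[R] Y) (x : X) :
    (LinearMap.lTensor (R ⧸ Ideal.span {q}) f) (pi R q X x) = pi R q Y (f x) := by
  rw [pi_apply, LinearMap.lTensor_tmul]
  rfl

lemma mem_of_pi_eq_zero (X : Type u) [CommRing X] [Algebra R X] (x : X) (hx : pi R q X x = 0) :
    x ∈ Ideal.span {algebraMap R X q} := by
  have h := congrArg (TensorProduct.quotTensorEquivQuotSMul X (Ideal.span {q})) hx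
  rw [pi_apply, TensorProduct.quotTensorEquivQuotSMul_mk_one_tmul, map_zero,
    Submodule.Quotient.mk_eq_zero, Submodule.ideal_span_singleton_smul] at h
  obtain ⟨x', -, rfl⟩ := (Submodule.mem_smul_pointwise_iff_exists _ _ _).mp h
  rw [Algebra.smul_def]
  exact Ideal.mul_mem_right _ _ (Ideal.subset_span (Set.mem_singleton _))

lemma pi_eq_zero_of_mem (X : Type u) [CommRing X] [Algebra R X] (x : X)
    (hx : x ∈ Ideal.span {algebraMap R X q}) : pi R q X x = 0 := by
  obtain ⟨c, rfl⟩ := Ideal.mem_span_singleton'.mp hx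
  have e : c * algebraMap R X q = q • c := by
    rw [Algebra.smul_def, mul_comm]
  rw [e, pi_apply, TensorProduct.tmul_smul, TensorProduct.smul_tmul']
  have : q • (1 : R ⧸ Ideal.span {q}) = 0 := by
    rw [Algebra.smul_def, mul_one, Ideal.Quotient.algebraMap_eq]
    exact Ideal.Quotient.eq_zero_iff_mem.mpr (Ideal.subset_span (Set.mem_singleton _))
  rw [this, TensorProduct.zero_tmul]

end Mod

section Amitsur

variable (R S : Type u) [CommRing R] [CommRing S] [Algebra R S] [Module.FaithfullyFlat R S]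

/-- the Amitsur complex is exact modulo `q` -/
theorem amitsur_mod (q : R) (t : S ⊗[R] S)
    (ht : incR (R := R) (S := S) t - g₁₃ (R := R) (S := S) t + g₁₂ (R := R) (S := S) t ∈
      Ideal.span {algebraMap R (S ⊗[R] (S ⊗[R] S)) q}) :
    ∃ c : S, t - (i₂ (R := R) (S := S) c - i₁ (R := R) (S := S) c) ∈
      Ideal.span {algebraMap R (S ⊗[R] S) q} := by
  have h1 : Groth.Agent.Helper6.Amitsur1.d2 R S (R ⧸ Ideal.span {q}) (pi R q (S ⊗[R] S) t) = 0 := by
    unfold Groth.Agent.Helper6.Amitsur1.d2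
    rw [LinearMap.add_apply, LinearMap.sub_apply, pi_lTensor, pi_lTensor, pi_lTensor,
      ← map_sub, ← map_add]
    exact pi_eq_zero_of_mem R q _ _ ht
  obtain ⟨w, hw⟩ := (Groth.Agent.Helper6.Amitsur1.exact R S (R ⧸ Ideal.span {q}) _).mp h1
  obtain ⟨c, rfl⟩ := pi_surjective R q S w
  refine ⟨c, ?_⟩
  apply mem_of_pi_eq_zero
  rw [map_sub, ← hw]
  unfold Groth.Agent.Helper6.Amitsur1.d1
  rw [LinearMap.sub_apply, pi_lTensor, pi_lTensor, ← map_sub, sub_eq_zero]
  rfl

end Amitsur

section Witt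

variable {p : ℕ} [hp : Fact p.Prime] (n : ℕ)
variable (R S : Type u) [CommRing R] [CommRing S] [Algebra R S] [Module.FaithfullyFlat R S]

/-- the exactness on graded pieces of the Witt filtration -/
theorem witt_ge (k j : ℕ) (hk : 1 ≤ k) (x : TruncatedWittVector p n (S ⊗[R] S))
    (hx : x ∈ 𝒥 (p := p) n (S ⊗[R] S) k j)
    (hδ : WittGrp.truncMap p n (incR (R := R) (S := S)) x -
        WittGrp.truncMap p n (g₁₃ (R := R) (S := S)) x +
        WittGrp.truncMap p n (g₁₂ (R := R) (S := S)) x ∈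
      𝒥 (p := p) n (S ⊗[R] (S ⊗[R] S)) k (j + 1)) :
    ∃ y ∈ 𝒥 (p := p) n S 1 0,
      x - (WittGrp.truncMap p n (i₂ (R := R) (S := S)) y -
        WittGrp.truncMap p n (i₁ (R := R) (S := S)) y) ∈ 𝒥 (p := p) n (S ⊗[R] S) k (j + 1) := by
  have v23 := truncMap_vanish (incR (R := R) (S := S)) k x hx.1
  have v13 := truncMap_vanish (g₁₃ (R := R) (S := S)) k x hx.1
  have v12 := truncMap_vanish (g₁₂ (R := R) (S := S)) k x hx.1
  have s1 := sub_vanish k _ _ v23 v13
  have s2 := add_vanish k _ _ s1.1 v12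
  have hck := hδ.2
  rw [s2.2, s1.2, ck_truncMap, ck_truncMap, ck_truncMap] at hck
  have hq : ((p : S ⊗[R] (S ⊗[R] S)) ^ (j + 1)) =
      algebraMap R (S ⊗[R] (S ⊗[R] S)) ((p : R) ^ (j + 1)) := by
    rw [map_pow, map_natCast]
  rw [hq] at hck
  obtain ⟨c, hc⟩ := amitsur_mod R S ((p : R) ^ (j + 1)) (ck k x) hck
  have hq' : algebraMap R (S ⊗[R] S) ((p : R) ^ (j + 1)) = ((p : S ⊗[R] S) ^ (j + 1)) := by
    rw [map_pow, map_natCast]
  rw [hq'] at hc
  refine ⟨single k c, ?_, ?_⟩
  · refine ⟨?_, ?_⟩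
    · intro i hi
      exact single_vanish k c i (by omega)
    · rw [pow_zero, Ideal.span_singleton_one]
      exact Submodule.mem_top
  · have w2 := truncMap_vanish (i₂ (R := R) (S := S)) k _ (single_vanish (p := p) (n := n) k c)
    have w1 := truncMap_vanish (i₁ (R := R) (S := S)) k _ (single_vanish (p := p) (n := n) k c)
    have t1 := sub_vanish k _ _ w2 w1
    have t2 := sub_vanish k _ _ hx.1 t1.1
    refine ⟨t2.1, ?_⟩
    by_cases hkn : k < n
    · rw [t2.2, t1.2, ck_truncMap, ck_truncMap, ck_single k hkn]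
      exact hc
    · rw [ck_of_le k (by omega)]
      exact Ideal.zero_mem _

end Witt

end Groth.Agent.Helper8.WittGE
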