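import Mathlib
import Groth.Prelude.Def_W4c3truncdispsmoothDesc
import Groth.Agent.Helper8.GEff
import Groth.Agent.Helper8.WittGE

/-!
# Effectivity of descent for finite projective modules over truncated Witt vectors

Instantiates `Helper8.GEff.main` at the truncated Witt vector functor `W_{n+1}`, with the
augmentation `W_{n+1}(T) → T` (zeroth coefficient) and the filtration of `Helper8.WittFil`.
The case of `W_0` (the zero ring) is treated separately.
-/

set_option autoImplicit false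
set_option linter.unusedSectionVars false
set_option linter.unusedVariables false

universe u

open CategoryTheory Opposite TensorProduct Matrix

noncomputable section

namespace Groth.Agent.Helper8.WEff

open ModuleCat ChangeOfRings Groth.Agent.Helper8.GDesc Groth.Agent.Helper8.PresMat
  Groth.Agent.Helper8.GDescR Groth.Agent.Helper8.WittFil

open Groth.Agent.Helper8.FFDesc (i₁ i₂ hc₀ j₁ j₂ j₃ incR g₁₂ g₁₃ g₁₂_comp_i₁ g₁₂_comp_i₂
  g₁₃_comp_i₁ g₁₃_comp_i₂)

variable (p : ℕ) [hp : Fact p.Prime] (n : ℕ)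

/-! ### The augmentation -/

/-- the zeroth coefficient `W_{n+1}(T) → T` -/
def th (T : Type u) [CommRing T] : TruncatedWittVector p (n + 1) T →+* T where
  toFun x := x.coeff 0
  map_one' := by
    have : (1 : TruncatedWittVector p (n + 1) T) = WittVector.truncate (n + 1) 1 := (map_one _).symm
    rw [this, WittVector.coeff_truncate]
    exact WittVector.one_coeff_zero p T
  map_mul' x y := by
    obtain ⟨X, rfl⟩ := WittVector.truncate_surjective p (n + 1) T x
    obtain ⟨Y, rfl⟩ := WittVector.truncate_surjective p (n + 1) T y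
    rw [← map_mul, WittVector.coeff_truncate, WittVector.coeff_truncate, WittVector.coeff_truncate]
    exact WittVector.mul_coeff_zero X Y
  map_zero' := TruncatedWittVector.coeff_zero p (n + 1) T 0
  map_add' x y := by
    obtain ⟨X, rfl⟩ := WittVector.truncate_surjective p (n + 1) T x
    obtain ⟨Y, rfl⟩ := WittVector.truncate_surjective p (n + 1) T y
    rw [← map_add, WittVector.coeff_truncate, WittVector.coeff_truncate, WittVector.coeff_truncate]
    exact WittVector.add_coeff_zero X Y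

lemma th_apply (T : Type u) [CommRing T] (x : TruncatedWittVector p (n + 1) T) :
    th p n T x = x.coeff 0 := rfl

lemma th_surjective (T : Type u) [CommRing T] : Function.Surjective (th p n T) := by
  intro c
  refine ⟨TruncatedWittVector.mk p (fun _ => c), ?_⟩
  rw [th_apply, TruncatedWittVector.coeff_mk]

lemma th_truncMap {T T' : Type u} [CommRing T] [CommRing T'] (g : T →+* T')
    (x : TruncatedWittVector p (n + 1) T) :
    th p n T' (WittGrp.truncMap p (n + 1) g x) = g (th p n T x) := by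
  rw [th_apply, th_apply, WittGrp.coeff_truncMap]

lemma mem_of_th_eq_zero (T : Type u) [CommRing T] (x : TruncatedWittVector p (n + 1) T)
    (hx : th p n T x = 0) : x ∈ 𝒥 (p := p) (n + 1) T 1 0 := by
  refine ⟨?_, ?_⟩
  · intro i hi
    have : i = 0 := by
      apply Fin.ext
      simp only [Fin.val_zero]
      omega
    rw [this]
    exact hx
  · rw [pow_zero, Ideal.span_singleton_one]
    exact Submodule.mem_top

/-- the functor `W_{n+1}` -/
abbrev Φ : CommRingCat.{u} ⥤ CommRingCat.{u} := W4c3truncdispsmooth.wittTrunc.{u} p (n + 1)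

/-- the augmentation of `W_{n+1}` -/
def aug : Aug (Φ.{u} p n) where
  θ T _ := th p n T
  nat g x := th_truncMap p n g x

/-! ### The filtration -/

variable {p n}

lemma fil_I_zero (N : ℕ) (hN : 0 < N) {T : Type u} [CommRing T] (hpN : (p : T) ^ N = 0) :
    (fil (p := p) (n + 1) T N hN hpN).I 0 = 𝒥 (p := p) (n + 1) T 1 0 := by
  rw [fil_I, Nat.zero_div, Nat.zero_mod]

lemma nilpotent_of_map (N : ℕ) (hN : 0 < N) {T : Type u} [CommRing T] (hpN : (p : T) ^ N = 0)
    (k : ℕ) (Z : Matrix (Fin k) (Fin k) (TruncatedWittVector p (n + 1) T))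
    (hZ : Z.map (th p n T) = 0) : IsNilpotent Z := by
  apply NAH1.Fil.isNilpotent (NAH2.matFil (h := k) (fil (p := p) (n + 1) T N hN hpN))
  intro i j
  rw [fil_I_zero]
  apply mem_of_th_eq_zero
  have := congrFun (congrFun hZ i) j
  simpa using this

lemma pow_eq_zero_of_algebra {R : Type u} [CommRing R] (N : ℕ) (hpN : (p : R) ^ N = 0)
    (T : Type u) [CommRing T] [Algebra R T] : (p : T) ^ N = 0 := by
  have : (p : T) = algebraMap R T (p : R) := (map_natCast (algebraMap R T) p).symm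
  rw [this, ← map_pow, hpN, map_zero]

/-! ### The main theorem for `W_{n+1}` -/

variable (p n)

theorem main_succ (R S : Type u) [CommRing R] [CommRing S] [Algebra R S]
    [Module.FaithfullyFlat R S] (hpR : IsNilpotent (p : R))
    (D : DD (Φ.{u} p n) R S)
    [hfin : Module.Finite (Wn (Φ.{u} p n) S) (Nmod D)]
    [hproj : Module.Projective (Wn (Φ.{u} p n) S) (Nmod D)] :
    ∃ M : ModuleCat.{u} (Wn (Φ.{u} p n) R),
      Module.Finite (Wn (Φ.{u} p n) R) M ∧
      Module.Projective (Wn (Φ.{u} p n) R) M ∧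
      Nonempty (((PF (Φ.{u} p n)).toDescentData (fun _ : PUnit.{u + 1} => f₀ R S)).obj M ≅ D) := by
  obtain ⟨N₀, hN₀⟩ := hpR
  obtain ⟨N, hN, hpN⟩ : ∃ N : ℕ, 0 < N ∧ (p : R) ^ N = 0 :=
    ⟨N₀ + 1, Nat.succ_pos _, by rw [pow_succ, hN₀, zero_mul]⟩
  have hpS : (p : S) ^ N = 0 := pow_eq_zero_of_algebra N hpN S
  have hpT₂ : (p : S ⊗[R] S) ^ N = 0 := pow_eq_zero_of_algebra N hpN (S ⊗[R] S)
  have hpT₃ : (p : S ⊗[R] (S ⊗[R] S)) ^ N = 0 := pow_eq_zero_of_algebra N hpN (S ⊗[R] (S ⊗[R] S))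
  let F₀ : NAH2.IFil (Wn (Φ.{u} p n) S) ((n + 1) * N) := fil (p := p) (n + 1) S N hN hpS
  let F₁ : NAH2.IFil (Wn (Φ.{u} p n) (S ⊗[R] S)) ((n + 1) * N) :=
    fil (p := p) (n + 1) (S ⊗[R] S) N hN hpT₂
  let F₂ : NAH2.IFil (Wn (Φ.{u} p n) (S ⊗[R] (S ⊗[R] S))) ((n + 1) * N) :=
    fil (p := p) (n + 1) (S ⊗[R] (S ⊗[R] S)) N hN hpT₃
  have hθR : Function.Surjective ((aug.{u} p n).θ R) := th_surjective p n R
  have hθS : Function.Surjective ((aug.{u} p n).θ S) := th_surjective p n S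
  have hnilR : ∀ (k : ℕ) (Z : Matrix (Fin k) (Fin k) (Wn (Φ.{u} p n) R)),
      Z.map ((aug.{u} p n).θ R) = 0 → IsNilpotent Z :=
    fun k Z hZ => nilpotent_of_map N hN hpN k Z hZ
  have hnilS : ∀ (k : ℕ) (Z : Matrix (Fin k) (Fin k) (Wn (Φ.{u} p n) S)),
      Z.map ((aug.{u} p n).θ S) = 0 → IsNilpotent Z :=
    fun k Z hZ => nilpotent_of_map N hN hpS k Z hZ
  have hF₁ : ∀ x : Wn (Φ.{u} p n) (S ⊗[R] S), (aug.{u} p n).θ (S ⊗[R] S) x = 0 → x ∈ F₁.I 0 := by
    intro x hx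
    change x ∈ (fil (p := p) (n + 1) (S ⊗[R] S) N hN hpT₂).I 0
    rw [fil_I_zero]
    exact mem_of_th_eq_zero p n _ x hx
  have hd₁ : ∀ a x, x ∈ F₀.I a → Wm (Φ.{u} p n) (i₁ (R := R) (S := S)) x ∈ F₁.I a :=
    fun a x hx => truncMap_mem (i₁ (R := R) (S := S)) _ _ x hx
  have hd₂ : ∀ a x, x ∈ F₀.I a → Wm (Φ.{u} p n) (i₂ (R := R) (S := S)) x ∈ F₁.I a :=
    fun a x hx => truncMap_mem (i₂ (R := R) (S := S)) _ _ x hx
  have hd₁₂ : ∀ a x, x ∈ F₁.I a → Wm (Φ.{u} p n) (g₁₂ (R := R) (S := S)) x ∈ F₂.I a :=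
    fun a x hx => truncMap_mem (g₁₂ (R := R) (S := S)) _ _ x hx
  have hd₁₃ : ∀ a x, x ∈ F₁.I a → Wm (Φ.{u} p n) (g₁₃ (R := R) (S := S)) x ∈ F₂.I a :=
    fun a x hx => truncMap_mem (g₁₃ (R := R) (S := S)) _ _ x hx
  have hd₂₃ : ∀ a x, x ∈ F₁.I a → Wm (Φ.{u} p n) (incR (R := R) (S := S)) x ∈ F₂.I a :=
    fun a x hx => truncMap_mem (incR (R := R) (S := S)) _ _ x hx
  have GE : ∀ a, a < (n + 1) * N → ∀ x, x ∈ F₁.I a →
      Wm (Φ.{u} p n) (incR (R := R) (S := S)) x - Wm (Φ.{u} p n) (g₁₃ (R := R) (S := S)) x +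
        Wm (Φ.{u} p n) (g₁₂ (R := R) (S := S)) x ∈ F₂.I (a + 1) →
      ∃ y, y ∈ F₀.I 0 ∧ x - (Wm (Φ.{u} p n) (i₂ (R := R) (S := S)) y -
        Wm (Φ.{u} p n) (i₁ (R := R) (S := S)) y) ∈ F₁.I (a + 1) := by
    intro a _ x hx hδ
    change x ∈ (fil (p := p) (n + 1) (S ⊗[R] S) N hN hpT₂).I a at hx
    change _ ∈ (fil (p := p) (n + 1) (S ⊗[R] (S ⊗[R] S)) N hN hpT₃).I (a + 1) at hδ
    rw [fil_I] at hx
    rw [fil_I_succ] at hδ
    obtain ⟨y, hy, hy'⟩ := WittGE.witt_ge (p := p) (n + 1) R S (1 + a / N) (a % N)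
      (Nat.le_add_right 1 _) x hx hδ
    refine ⟨y, ?_, ?_⟩
    · change y ∈ (fil (p := p) (n + 1) S N hN hpS).I 0
      rw [fil_I_zero]
      exact hy
    · change _ ∈ (fil (p := p) (n + 1) (S ⊗[R] S) N hN hpT₂).I (a + 1)
      rw [fil_I_succ]
      exact hy'
  have H11 : (g₁₂ (R := R) (S := S)).comp (i₁ (R := R) (S := S)) =
      (g₁₃ (R := R) (S := S)).comp (i₁ (R := R) (S := S)) :=
    g₁₂_comp_i₁.trans g₁₃_comp_i₁.symm
  have H22 : (g₁₂ (R := R) (S := S)).comp (i₂ (R := R) (S := S)) =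
      (incR (R := R) (S := S)).comp (i₁ (R := R) (S := S)) := g₁₂_comp_i₂
  have H33 : (g₁₃ (R := R) (S := S)).comp (i₂ (R := R) (S := S)) =
      (incR (R := R) (S := S)).comp (i₂ (R := R) (S := S)) := g₁₃_comp_i₂
  exact GEff.main (aug.{u} p n) D hθR hθS hnilR hnilS (g₁₂ (R := R) (S := S))
    (g₁₃ (R := R) (S := S)) (incR (R := R) (S := S)) H11 H22 H33 F₀ F₁ F₂ hF₁ hd₁ hd₂ hd₁₂ hd₁₃
    hd₂₃ GE

/-! ### The case of `W_0` -/

/-- the functor `W_0` -/
abbrev Φ₀ : CommRingCat.{u} ⥤ CommRingCat.{u} := W4c3truncdispsmooth.wittTrunc.{u} p 0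

instance subsingleton_W0 (T : Type u) [CommRing T] : Subsingleton (TruncatedWittVector p 0 T) :=
  ⟨fun x y => TruncatedWittVector.ext fun i => i.elim0⟩

/-- linear equivalence of subsingleton modules -/
def equivOfSubsingleton {A M N : Type*} [Ring A] [AddCommGroup M] [Module A M] [AddCommGroup N]
    [Module A N] [Subsingleton M] [Subsingleton N] : M ≃ₗ[A] N where
  toFun _ := 0
  invFun _ := 0
  map_add' _ _ := (add_zero 0).symm
  map_smul' _ _ := (smul_zero _).symm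
  left_inv _ := Subsingleton.elim _ _
  right_inv _ := Subsingleton.elim _ _

theorem main_zero (R S : Type u) [CommRing R] [CommRing S] [Algebra R S]
    (D : DD (Φ₀.{u} p) R S) :
    ∃ M : ModuleCat.{u} (Wn (Φ₀.{u} p) R),
      Module.Finite (Wn (Φ₀.{u} p) R) M ∧
      Module.Projective (Wn (Φ₀.{u} p) R) M ∧
      Nonempty (((PF (Φ₀.{u} p)).toDescentData (fun _ : PUnit.{u + 1} => f₀ R S)).obj M ≅ D) := by
  let M : ModuleCat.{u} (Wn (Φ₀.{u} p) R) := ModuleCat.of (TruncatedWittVector p 0 R) PUnit.{u + 1}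
  haveI hS : Subsingleton (Wn (Φ₀.{u} p) S) := subsingleton_W0 p S
  haveI hT : Subsingleton (Wn (Φ₀.{u} p) (S ⊗[R] S)) := subsingleton_W0 p (S ⊗[R] S)
  haveI h1 : Subsingleton ↑((extendScalars.{u,u,u} (Wm (Φ₀.{u} p) (algebraMap R S))).obj M) :=
    Module.subsingleton (Wn (Φ₀.{u} p) S) _
  haveI h2 : Subsingleton ↑(Nmod D) := Module.subsingleton (Wn (Φ₀.{u} p) S) _
  haveI h3 : Subsingleton
      ↑((extendScalars.{u,u,u} (Wm (Φ₀.{u} p) (i₂ (R := R) (S := S)))).obj (Nmod D)) :=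
    Module.subsingleton (Wn (Φ₀.{u} p) (S ⊗[R] S)) _
  let α : ↑((extendScalars.{u,u,u} (Wm (Φ₀.{u} p) (algebraMap R S))).obj M) ≃ₗ[Wn (Φ₀.{u} p) S]
      ↑(Nmod D) := equivOfSubsingleton
  refine ⟨M, ?_, ?_, nonempty_iso D M α.toModuleIso (fun m => Subsingleton.elim _ _)⟩
  · exact Module.Finite.of_finite
  · exact Module.Projective.of_free

end Groth.Agent.Helper8.WEff
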