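import Mathlib
set_option autoImplicit false
universe u
open MvPolynomial

namespace Groth.Agent.Helper8.WGauss

variable {k : Type u} [Field k] [CharZero k] {n : ℕ}

/-- Koszul tuple -/
noncomputable def K (i j : Fin (n+1)) : Fin (n+1) → MvPolynomial (Fin (n+1)) k :=
  fun l => (if l = i then X j else 0) - (if l = j then X i else 0)

/-- the span of weighted Wronskian tuples -/
noncomputable def S (a b e : ℕ) : Submodule k (Fin (n+1) → MvPolynomial (Fin (n+1)) k) :=
  Submodule.span k
      {g : Fin (n + 1) → MvPolynomial (Fin (n + 1)) k |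
        ∃ σ τ : MvPolynomial (Fin (n + 1)) k, σ.IsHomogeneous (a * e) ∧ τ.IsHomogeneous (b * e) ∧
          g = fun i => (b : k) • (τ * pderiv i σ) - (a : k) • (σ * pderiv i τ)}

theorem A' (a b e : ℕ) (hae : 0 < a * e) (hbe : 0 < b * e) (hab : 0 < a + b)
    (σ₀ τ₀ : MvPolynomial (Fin (n+1)) k)
    (hσ₀ : σ₀.IsHomogeneous (a * e - 1)) (hτ₀ : τ₀.IsHomogeneous (b * e - 1)) (i j : Fin (n+1)) :
    (fun l => σ₀ * τ₀ * K i j l) ∈ S (k := k) (n := n) a b e := by
  have hd1 : 1 + (a * e - 1) = a * e := by omega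
  have hd2 : 1 + (b * e - 1) = b * e := by omega
  have h1 : (fun l => (b : k) • ((X j * τ₀) * pderiv l (X i * σ₀))
      - (a : k) • ((X i * σ₀) * pderiv l (X j * τ₀))) ∈ S (k := k) (n := n) a b e :=
    Submodule.subset_span ⟨X i * σ₀, X j * τ₀, hd1 ▸ (isHomogeneous_X _ i).mul hσ₀,
      hd2 ▸ (isHomogeneous_X _ j).mul hτ₀, rfl⟩
  have h2 : (fun l => (b : k) • ((X i * τ₀) * pderiv l (X j * σ₀))
      - (a : k) • ((X j * σ₀) * pderiv l (X i * τ₀))) ∈ S (k := k) (n := n) a b e :=
    Submodule.subset_span ⟨X j * σ₀, X i * τ₀, hd1 ▸ (isHomogeneous_X _ j).mul hσ₀,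
      hd2 ▸ (isHomogeneous_X _ i).mul hτ₀, rfl⟩
  have key : ((a : k) + b) • (fun l => σ₀ * τ₀ * K i j l) =
      (fun l => (b : k) • ((X j * τ₀) * pderiv l (X i * σ₀))
      - (a : k) • ((X i * σ₀) * pderiv l (X j * τ₀))) -
      (fun l => (b : k) • ((X i * τ₀) * pderiv l (X j * σ₀))
      - (a : k) • ((X j * σ₀) * pderiv l (X i * τ₀))) := by
    ext1 l
    simp only [Pi.smul_apply, Pi.sub_apply, K, pderiv_mul, pderiv_X, Pi.single_apply,
      smul_eq_C_mul, map_add]
    by_cases hi : l = i
    · subst hi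
      by_cases hj : l = j
      · subst hj
        simp only [if_true]
        ring
      · simp only [if_true, hj, Ne.symm hj, if_false]
        ring
    · by_cases hj : l = j
      · subst hj
        simp only [if_true, hi, Ne.symm hi, if_false]
        ring
      · simp only [hi, hj, Ne.symm hi, Ne.symm hj, if_false]
        ring
  have hne : ((a : k) + b) ≠ 0 := by
    have : ((a + b : ℕ) : k) ≠ 0 := Nat.cast_ne_zero.2 hab.ne'
    simpa using this
  have : (fun l => σ₀ * τ₀ * K i j l) = ((a : k) + b)⁻¹ • (((a : k) + b) •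
      (fun l => σ₀ * τ₀ * K (k := k) i j l)) := by
    rw [inv_smul_smul₀ hne]
  rw [this, key]
  exact Submodule.smul_mem _ _ (Submodule.sub_mem _ h1 h2)

theorem split {ι : Type*} (μ : ι →₀ ℕ) (m : ℕ) (hm : m ≤ μ.degree) :
    ∃ α : ι →₀ ℕ, α ≤ μ ∧ α.degree = m := by
  classical
  induction m with
  | zero => exact ⟨0, bot_le, by simp⟩
  | succ m ih =>
    obtain ⟨α, hα, hd⟩ := ih (by omega)
    have hne : α ≠ μ := by
      rintro rfl
      omega
    have : ∃ l, α l < μ l := by
      by_contra hcon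
      push Not at hcon
      exact hne (le_antisymm hα (fun l => hcon l))
    obtain ⟨l, hl⟩ := this
    refine ⟨α + Finsupp.single l 1, ?_, ?_⟩
    · intro l'
      by_cases h : l' = l
      · subst h
        simp only [Finsupp.add_apply, Finsupp.single_eq_same]
        omega
      · simp only [Finsupp.add_apply, Finsupp.single_eq_of_ne h, add_zero]
        exact hα l'
    · rw [map_add, hd, Finsupp.degree_single]

theorem A'' (a b e : ℕ) (he : 0 < e) (ha : 0 < a) (hb : 0 < b)
    (p : MvPolynomial (Fin (n+1)) k) (hp : p.IsHomogeneous ((a + b) * e - 2)) (i j : Fin (n+1)) :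
    (fun l => p * K i j l) ∈ S (k := k) (n := n) a b e := by
  have hae : 0 < a * e := Nat.mul_pos ha he
  have hbe : 0 < b * e := Nat.mul_pos hb he
  have hsum : (fun l => p * K (k := k) i j l) =
      ∑ μ ∈ p.support, coeff μ p • (fun l => monomial μ (1 : k) * K i j l) := by
    ext1 l
    rw [Finset.sum_apply]
    simp only [Pi.smul_apply, smul_eq_C_mul, ← mul_assoc, C_mul_monomial, mul_one]
    rw [← Finset.sum_mul, support_sum_monomial_coeff]
  rw [hsum]
  refine Submodule.sum_mem _ fun μ hμ => Submodule.smul_mem _ _ ?_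
  have hdeg : μ.degree = (a + b) * e - 2 := by
    have := hp (mem_support_iff.1 hμ)
    rw [Finsupp.degree_eq_weight_one]
    exact this
  obtain ⟨α, hα, hαd⟩ := split μ (a * e - 1) (by rw [hdeg, add_mul]; omega)
  have hμ' : μ = α + (μ - α) := (add_tsub_cancel_of_le hα).symm
  have hβd : (μ - α).degree = b * e - 1 := by
    have h1 : μ.degree = α.degree + (μ - α).degree := by
      conv_lhs => rw [hμ']
      rw [map_add]
    rw [hdeg, hαd, add_mul] at h1
    omega
  have hmon : monomial μ (1 : k) = monomial α 1 * monomial (μ - α) 1 := by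
    rw [monomial_mul, one_mul, ← hμ']
  rw [hmon]
  exact A' a b e hae hbe (by omega) _ _ (isHomogeneous_monomial _ hαd)
    (isHomogeneous_monomial _ hβd) i j

theorem C' (t : ℕ) (ht : 0 < t)
    (f : Fin (n + 1) → MvPolynomial (Fin (n + 1)) k)
    (hf : ∀ i, (f i).IsHomogeneous (t - 1))
    (hEuler : ∑ i, X i * f i = 0) :
    (t : k) • f = ∑ i, ∑ j, (fun l => pderiv j (f i) * K i j l) := by
  ext1 l
  rw [Finset.sum_apply]
  simp only [Finset.sum_apply, Pi.smul_apply, K, mul_sub, mul_ite, mul_zero,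
    Finset.sum_sub_distrib]
  rw [Finset.sum_comm (f := fun i j => if l = i then pderiv j (f i) * X j else 0)]
  simp only [Finset.sum_ite_eq, Finset.mem_univ, if_true]
  have h1 : ∑ j, pderiv j (f l) * X j = (t - 1 : ℕ) • f l := by
    rw [← (hf l).sum_X_mul_pderiv]
    exact Finset.sum_congr rfl fun j _ => mul_comm _ _
  have h2 : ∑ i, pderiv l (f i) * X i = - f l := by
    have := congrArg (pderiv l) hEuler
    simp only [map_sum, pderiv_mul, pderiv_X, Pi.single_apply, map_zero, ite_mul, one_mul,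
      zero_mul, Finset.sum_add_distrib, Finset.sum_ite_eq', Finset.mem_univ, if_true] at this
    rw [eq_neg_iff_add_eq_zero]
    refine Eq.trans ?_ this
    rw [add_comm (f l)]
    congr 1
    exact Finset.sum_congr rfl fun j _ => mul_comm _ _
  rw [h1, h2, sub_neg_eq_add]
  have ht' : ((t - 1 : ℕ) : k) + 1 = (t : k) := by
    rw [← Nat.cast_one (R := k), ← Nat.cast_add]
    congr 1
    omega
  rw [← ht', add_smul, one_smul, Nat.cast_smul_eq_nsmul]

theorem main (a b e : ℕ) (he : 0 < e) (ha : 0 < a) (hab : a < b)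
    (f : Fin (n + 1) → MvPolynomial (Fin (n + 1)) k)
    (hf : ∀ i, (f i).IsHomogeneous ((a + b) * e - 1))
    (hEuler : ∑ i, X i * f i = 0) :
    f ∈ S (k := k) (n := n) a b e := by
  have ht : 0 < (a + b) * e := Nat.mul_pos (by omega) he
  have hne : (((a + b) * e : ℕ) : k) ≠ 0 := Nat.cast_ne_zero.2 ht.ne'
  have h := C' ((a + b) * e) ht f hf hEuler
  have : f = (((a + b) * e : ℕ) : k)⁻¹ • ((((a + b) * e : ℕ) : k) • f) := by
    rw [inv_smul_smul₀ hne]
  rw [this, h]
  refine Submodule.smul_mem _ _ (Submodule.sum_mem _ fun i _ => Submodule.sum_mem _ fun j _ => ?_)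
  exact A'' a b e he ha (by omega) _ (hf i).pderiv i j

end Groth.Agent.Helper8.WGauss
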