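import Mathlib
import Groth.Agent.Helper8.EssFreeD

/-! Weil restriction of closed subschemes: descent along fpqc coverings of the base. -/

set_option autoImplicit false
set_option linter.style.haveILetI false
set_option linter.unusedSectionVars false
set_option linter.unusedVariables false

open AlgebraicGeometry CategoryTheory CategoryTheory.Limits TopologicalSpace
open MorphismProperty

universe u

namespace Groth.Agent.Helper8.EssFree

open Groth.Agent.Helper3 Groth.Agent.Helper3.CoefIdeal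

/-- `K` cuts out the Weil restriction of `V(𝓙)` along `f` -/
def IsWR {Z S : Scheme.{u}} (f : Z ⟶ S) (𝓙 : Z.IdealSheafData) (K : S.IdealSheafData) : Prop :=
  ∀ (S'' : Scheme.{u}) (h : S'' ⟶ S), K ≤ h.ker ↔ 𝓙 ≤ (pullback.fst f h).ker

lemma IsWR.comap {Z S : Scheme.{u}} {f : Z ⟶ S} {𝓙 : Z.IdealSheafData} {K : S.IdealSheafData}
    (hK : IsWR f 𝓙 K) {S' : Scheme.{u}} (g : S' ⟶ S) :
    IsWR (pullback.snd f g) (𝓙.comap (pullback.fst f g)) (K.comap g) := by
  intro S'' h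
  rw [comap_le_ker_iff, hK, le_ker_fst_comp_iff]

lemma IsWR.le_ker_iff {Z S : Scheme.{u}} {f : Z ⟶ S} {𝓙 : Z.IdealSheafData}
    {K : S.IdealSheafData} (hK : IsWR f 𝓙 K) {S'' P : Scheme.{u}} {h : S'' ⟶ S} {p : P ⟶ Z}
    {q : P ⟶ S''} (hpb : IsPullback p q f h) : K ≤ h.ker ↔ 𝓙 ≤ p.ker := by
  rw [hK S'' h]
  have e : p = hpb.isoPullback.hom ≫ pullback.fst f h := (hpb.isoPullback_hom_fst).symm
  rw [e, Scheme.Hom.ker_comp_of_isIso]

lemma le_bot_of_forall_comap_le_bot {P : Scheme.{u}} {κ : Type u} {Q : κ → Scheme.{u}}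
    (p : ∀ i, Q i ⟶ P) [∀ i, Flat (p i)] (hp : ∀ x : P, ∃ i, x ∈ Set.range (p i))
    (I : P.IdealSheafData) (h : ∀ i, I.comap (p i) ≤ ⊥) : I ≤ ⊥ := by
  rw [le_bot_iff]
  refine IdDesc.eq_of_comap_eq p hp (fun i => ?_)
  rw [comap_bot]
  exact le_bot_iff.mp (h i)

/-- Weil restrictions of a closed subscheme descend along fpqc coverings of the base -/
theorem exists_isWR_of_fpqc {Z S : Scheme.{u}} (f : Z ⟶ S) (𝓙 : Z.IdealSheafData) {ι : Type u}
    {Q : ι → Scheme.{u}} (g : ∀ i, Q i ⟶ S)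
    (hg : Presieve.ofArrows Q g ∈ Scheme.fpqcPrecoverage S) (K : ∀ i, (Q i).IdealSheafData)
    (hK : ∀ i, IsWR (pullback.snd f (g i)) (𝓙.comap (pullback.fst f (g i))) (K i)) :
    ∃ 𝓚 : S.IdealSheafData, (∀ i, 𝓚.comap (g i) = K i) ∧ IsWR f 𝓙 𝓚 := by
  have hK' : ∀ i (S'' : Scheme.{u}) (h : S'' ⟶ Q i),
      K i ≤ h.ker ↔ 𝓙 ≤ (pullback.fst f (h ≫ g i)).ker := by
    intro i S'' h
    rw [hK i S'' h, ← le_ker_fst_comp_iff]
  have compat : ∀ i j, (K i).comap (pullback.fst (g i) (g j)) =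
      (K j).comap (pullback.snd (g i) (g j)) := by
    intro i j
    refine ideal_eq_of_forall _ _ fun T x => ?_
    rw [comap_le_ker_iff, comap_le_ker_iff, hK', hK', Category.assoc, Category.assoc,
      pullback.condition]
  obtain ⟨𝓚, h𝓚, -⟩ := IdDesc.main g hg K compat
  let 𝒰 : Scheme.Cover.{u} (Scheme.precoverage @Flat) S :=
    { I₀ := ι, X := Q, f := g, mem₀ := hg.2 }
  haveI : ∀ i, Flat (g i) := 𝒰.map_prop
  have hsurj : ∀ x : S, ∃ i, x ∈ Set.range (g i) := fun x => by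
    obtain ⟨i, y, hy⟩ := 𝒰.exists_eq x
    exact ⟨i, y, hy⟩
  refine ⟨𝓚, h𝓚, fun S'' h => ?_⟩
  have hp : ∀ x : S'', ∃ i, x ∈ Set.range (pullback.fst h (g i)) := by
    intro x
    obtain ⟨i, y, hy⟩ := hsurj (h x)
    obtain ⟨w, hw1, -⟩ := Scheme.Pullback.exists_preimage_pullback (f := h) (g := g i) x y hy.symm
    exact ⟨i, w, hw1⟩
  rw [le_ker_fst_iff_of_cover f 𝓙 h (fun i => pullback.fst h (g i)) hp]
  have e : ∀ i, pullback.fst h (g i) ≫ h = pullback.snd h (g i) ≫ g i :=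
    fun i => pullback.condition
  constructor
  · intro hle i
    show 𝓙 ≤ (pullback.fst f (pullback.fst h (g i) ≫ h)).ker
    rw [e i, ← hK', ← h𝓚 i, comap_le_ker_iff, ← e i]
    exact hle.trans (Scheme.Hom.le_ker_comp _ _)
  · intro H
    rw [le_ker_iff_comap_le_bot]
    refine le_bot_of_forall_comap_le_bot (fun i => pullback.fst h (g i)) hp _ (fun i => ?_)
    have h1 : 𝓙 ≤ (pullback.fst f (pullback.fst h (g i) ≫ h)).ker := H i
    rw [e i, ← hK', ← h𝓚 i, comap_le_ker_iff, ← e i, ← comap_le_ker_iff,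
      le_ker_iff_comap_le_bot] at h1
    exact h1

/-- the Weil restriction along an essentially free morphism, in ideal form -/
theorem exists_isWR_of_EF {Z S : Scheme.{u}} (f : Z ⟶ S) (hf : EF f) (𝓙 : Z.IdealSheafData) :
    ∃ K : S.IdealSheafData, IsWR f 𝓙 K ∧
      (QuasiCompact f → LocallyOfFinitePresentation 𝓙.subschemeι →
        LocallyOfFinitePresentation K.subschemeι) := by
  obtain ⟨T, t, ht, h1, h2⟩ := main f hf 𝓙.subschemeι
  haveI := ht
  refine ⟨t.ker, fun S'' h => ?_, fun hqc hfp => ?_⟩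
  · rw [← KerLocal.exists_lift_iff_le_ker, h1 S'' h, isIso_snd_iff, 𝓙.ker_subschemeι]
  · have h3 : LocallyOfFinitePresentation t := h2 hqc hfp
    have e : t.ker.subschemeι = inv t.toImage ≫ t := by
      rw [IsIso.eq_inv_comp]
      exact t.toImage_imageι
    rw [e]
    infer_instance

/-- descent of a local property along an fpqc family -/
theorem of_fpqc_family (P : MorphismProperty Scheme.{u}) [IsZariskiLocalAtTarget P]
    [P.IsStableUnderBaseChange] [P.DescendsAlong (@Surjective ⊓ @Flat ⊓ @QuasiCompact)]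
    {X S : Scheme.{u}} (t : X ⟶ S) {ι : Type u} {Q : ι → Scheme.{u}} (g : ∀ i, Q i ⟶ S)
    (hg : Presieve.ofArrows Q g ∈ Scheme.fpqcPrecoverage S)
    (h : ∀ i, P (pullback.snd t (g i))) : P t := by
  let 𝒰 : Scheme.Cover.{u} (Scheme.precoverage @Flat) S :=
    { I₀ := ι, X := Q, f := g, mem₀ := hg.2 }
  haveI : QuasiCompactCover 𝒰.1 := Scheme.presieve₀_mem_qcPrecoverage_iff.mp hg.1
  haveI : ∀ i, Flat (g i) := 𝒰.map_prop
  rw [IsZariskiLocalAtTarget.iff_of_openCover (P := P)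
    (S.openCoverOfIsOpenCover (fun W : S.affineOpens => W.1) (iSup_affineOpens_eq_top S))]
  intro W
  show P (pullback.snd t W.1.ι)
  obtain ⟨n, idx, V, hVaff, hVW⟩ :=
    QuasiCompactCover.exists_isAffineOpen_of_isCompact 𝒰.1 W.2.isCompact
  haveI : ∀ k, IsAffine ((V k : (Q (idx k)).Opens) : Scheme.{u}) := fun k => hVaff k
  haveI : IsAffine ((W.1 : S.Opens) : Scheme.{u}) := W.2
  let F : Fin n → Scheme.{u} := fun k => ((V k : (Q (idx k)).Opens) : Scheme.{u})
  let γ : (∐ F) ⟶ S := Sigma.desc fun k => (V k).ι ≫ g (idx k)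
  have hγι : ∀ k, Sigma.ι F k ≫ γ = (V k).ι ≫ g (idx k) := fun k => Sigma.ι_desc _ _
  have hγrange : Set.range γ ⊆ Set.range W.1.ι := by
    rintro _ ⟨x, rfl⟩
    obtain ⟨k, v, rfl⟩ := (sigmaOpenCover F).exists_eq x
    rw [Scheme.Opens.range_ι]
    have hmem : γ ((sigmaOpenCover F).f k v) ∈ ⋃ i, (g (idx i)) '' (V i : Set (Q (idx i))) := by
      refine Set.mem_iUnion.mpr ⟨k, (V k).ι v, ?_, ?_⟩
      · exact v.2
      · show g (idx k) ((V k).ι v) = γ (Sigma.ι F k v)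
        rw [← Scheme.Hom.comp_apply, ← Scheme.Hom.comp_apply, hγι]
    rw [hVW] at hmem
    exact hmem
  let γ' : (∐ F) ⟶ (W.1 : Scheme.{u}) := IsOpenImmersion.lift W.1.ι γ hγrange
  have hγ' : γ' ≫ W.1.ι = γ := IsOpenImmersion.lift_fac _ _ _
  have hγflat : Flat γ := IsZariskiLocalAtSource.sigmaDesc (fun k => inferInstance)
  have hflat : Flat γ' := by
    have sq : IsPullback (𝟙 (∐ F)) γ' γ W.1.ι :=
      IsPullback.of_horiz_isIso_mono ⟨by rw [Category.id_comp, hγ']⟩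
    exact MorphismProperty.of_isPullback (P := @Flat) sq hγflat
  have hsurj : Surjective γ' := by
    refine ⟨fun w => ?_⟩
    have hw : (W.1.ι w) ∈ ⋃ i, (g (idx i)) '' (V i : Set (Q (idx i))) := by
      rw [hVW]
      exact w.2
    obtain ⟨k, v, hv, hvw⟩ := Set.mem_iUnion.mp hw
    refine ⟨Sigma.ι F k ⟨v, hv⟩, ?_⟩
    apply W.1.ι.isOpenEmbedding.injective
    rw [← Scheme.Hom.comp_apply, hγ', ← Scheme.Hom.comp_apply, hγι, Scheme.Hom.comp_apply]
    exact hvw
  have hqc : QuasiCompact γ' := inferInstance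
  refine MorphismProperty.of_isPullback_of_descendsAlong (P := P)
    (Q := @Surjective ⊓ @Flat ⊓ @QuasiCompact)
    (IsPullback.of_hasPullback γ' (pullback.snd t W.1.ι)) ⟨⟨hsurj, hflat⟩, hqc⟩ ?_
  rw [IsZariskiLocalAtTarget.iff_of_openCover (P := P) (sigmaOpenCover F)]
  intro k
  show P (pullback.snd (pullback.fst γ' (pullback.snd t W.1.ι)) (Sigma.ι F k))
  have sqA := IsPullback.of_hasPullback (pullback.fst γ' (pullback.snd t W.1.ι)) (Sigma.ι F k)
  have sqB := (IsPullback.of_hasPullback γ' (pullback.snd t W.1.ι)).flip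
  have sqC := IsPullback.of_hasPullback t W.1.ι
  have big := (sqA.paste_horiz sqB).paste_horiz sqC
  have hbot : (Sigma.ι F k ≫ γ') ≫ W.1.ι = (V k).ι ≫ g (idx k) := by
    rw [Category.assoc, hγ', hγι]
  rw [hbot] at big
  have hw := big.w
  let l : pullback (pullback.fst γ' (pullback.snd t W.1.ι)) (Sigma.ι F k) ⟶
      pullback t (g (idx k)) :=
    pullback.lift _ (pullback.snd _ _ ≫ (V k).ι) (by rw [hw, Category.assoc])
  have hl1 : l ≫ pullback.fst t (g (idx k)) = _ := pullback.lift_fst _ _ _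
  have hl2 : l ≫ pullback.snd t (g (idx k)) = pullback.snd _ _ ≫ (V k).ι :=
    pullback.lift_snd _ _ _
  have sqD : IsPullback l (pullback.snd _ _) (pullback.snd t (g (idx k))) (V k).ι := by
    refine IsPullback.of_right ?_ hl2 (IsPullback.of_hasPullback t (g (idx k)))
    rw [hl1]
    exact big
  exact MorphismProperty.of_isPullback (P := P) sqD (h (idx k))

/-- finite presentation of a closed subscheme is fpqc local on the base -/
theorem lfp_of_fpqc {S : Scheme.{u}} (𝓚 : S.IdealSheafData) {ι : Type u} {Q : ι → Scheme.{u}}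
    (g : ∀ i, Q i ⟶ S) (hg : Presieve.ofArrows Q g ∈ Scheme.fpqcPrecoverage S)
    (h : ∀ i, LocallyOfFinitePresentation (𝓚.comap (g i)).subschemeι) :
    LocallyOfFinitePresentation 𝓚.subschemeι := by
  refine of_fpqc_family @LocallyOfFinitePresentation 𝓚.subschemeι g hg (fun i => ?_)
  haveI := h i
  rw [← pullbackSymmetry_hom_comp_fst, ← Scheme.IdealSheafData.comapIso_inv_subschemeι]
  infer_instance

lemma lfp_comap {Z Z' : Scheme.{u}} (𝓙 : Z.IdealSheafData) (φ : Z' ⟶ Z)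
    [LocallyOfFinitePresentation 𝓙.subschemeι] :
    LocallyOfFinitePresentation (𝓙.comap φ).subschemeι := by
  have e : (𝓙.comap φ).subschemeι =
      (Scheme.IdealSheafData.comapIso 𝓙 φ).hom ≫ pullback.fst φ 𝓙.subschemeι := by
    rw [← Scheme.IdealSheafData.comapIso_inv_subschemeι, Iso.hom_inv_id_assoc]
  rw [e]
  infer_instance

/-- Weil restriction along a morphism which is essentially free locally for the fpqc topology
of the base -/
theorem exists_isWR_of_fpqc_EF {Z S : Scheme.{u}} (f : Z ⟶ S) (𝓙 : Z.IdealSheafData) {ι : Type u}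
    {Q : ι → Scheme.{u}} (g : ∀ i, Q i ⟶ S)
    (hg : Presieve.ofArrows Q g ∈ Scheme.fpqcPrecoverage S)
    (hf : ∀ i, EF (pullback.snd f (g i))) :
    ∃ 𝓚 : S.IdealSheafData, IsWR f 𝓙 𝓚 ∧
      ((∀ i, QuasiCompact (pullback.snd f (g i))) → LocallyOfFinitePresentation 𝓙.subschemeι →
        LocallyOfFinitePresentation 𝓚.subschemeι) := by
  choose K hK hKfp using fun i =>
    exists_isWR_of_EF (pullback.snd f (g i)) (hf i) (𝓙.comap (pullback.fst f (g i)))
  obtain ⟨𝓚, h𝓚, hWR⟩ := exists_isWR_of_fpqc f 𝓙 g hg K hK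
  refine ⟨𝓚, hWR, fun hqc hfp => ?_⟩
  refine lfp_of_fpqc 𝓚 g hg (fun i => ?_)
  rw [h𝓚 i]
  haveI := hfp
  exact hKfp i (hqc i) (lfp_comap 𝓙 _)

end Groth.Agent.Helper8.EssFree
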