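import Mathlib
import Groth.Agent.Helper8.WRDescA
import Groth.Agent.Helper8.EssFreeE

/-! Groups of multiplicative type are essentially free locally for the fpqc topology. -/

set_option autoImplicit false
set_option linter.style.haveILetI false
set_option linter.unusedSectionVars false
set_option linter.unusedVariables false

open AlgebraicGeometry CategoryTheory CategoryTheory.Limits TopologicalSpace
open MonoidalCategory CartesianMonoidalCategory

universe u

namespace Groth.Agent.Helper8.EssFree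

open Groth.Agent.Helper3

/-- a pullback square against a projective affine morphism gives the local condition of
essential freeness -/
lemma ef_local_of_isPullback {Pf S' B R : Scheme.{u}} [IsAffine S'] [IsAffine B] [IsAffine R]
    {p : Pf ⟶ S'} {q : Pf ⟶ R} {s : S' ⟶ B} {r : R ⟶ B} (h : IsPullback p q s r)
    (hproj : letI := r.appTop.hom.toAlgebra; Module.Projective Γ(B, ⊤) Γ(R, ⊤)) :
    IsAffine Pf ∧ ∀ x : Pf, ∃ V : Pf.Opens, x ∈ V ∧ IsAffineOpen V ∧
      (letI := (V.ι ≫ p).appTop.hom.toAlgebra; Module.Projective Γ(S', ⊤) Γ(↑V, ⊤)) := by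
  haveI : IsAffine Pf := .of_isIso h.isoPullback.hom
  refine ⟨inferInstance, fun x => ⟨⊤, trivial, isAffineOpen_top _, ?_⟩⟩
  have h' : IsPullback ((⊤ : Pf.Opens).ι ≫ p) ((⊤ : Pf.Opens).ι ≫ q) s r :=
    IsPullback.of_iso h (Scheme.topIso Pf).symm (Iso.refl _) (Iso.refl _)
      (Iso.refl _) (by simp) (by simp) (by simp) (by simp)
  exact projective_of_isPullback h' hproj

/-- essential freeness (and quasi-compactness) from local pullback squares against projective
affine morphisms -/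
lemma EF_of_local {Z S : Scheme.{u}} (f : Z ⟶ S)
    (h : ∀ s : S, ∃ U : S.Opens, s ∈ U ∧ IsAffineOpen U ∧
      ∃ (R₀ R₁ : CommRingCat.{u}) (φ : R₀ ⟶ R₁)
        (_ : letI := φ.hom.toAlgebra; Module.Projective R₀ R₁)
        (qq : pullback f (𝟙 (U : Scheme.{u}) ≫ U.ι) ⟶ Spec R₁) (s₀ : (U : Scheme.{u}) ⟶ Spec R₀),
        IsPullback (pullback.snd f (𝟙 (U : Scheme.{u}) ≫ U.ι)) qq s₀ (Spec.map φ)) :
    EF f ∧ QuasiCompact f := by
  choose U hsU hUaff R₀ R₁ φ hφ qq s₀ hsq using h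
  have hloc := fun s : S => by
    haveI : IsAffine ((U s : S.Opens) : Scheme.{u}) := hUaff s
    exact ef_local_of_isPullback (hsq s) (projective_Γ_Spec (φ s) (hφ s))
  constructor
  · intro s
    exact ⟨U s, hsU s, hUaff s, (U s : Scheme.{u}), hUaff s, 𝟙 _, inferInstance, inferInstance,
      (hloc s).2⟩
  · have hcov : IsOpenCover U := by
      rw [IsOpenCover, eq_top_iff]
      intro s _
      exact Opens.mem_iSup.mpr ⟨s, hsU s⟩
    rw [IsZariskiLocalAtTarget.iff_of_openCover (P := @QuasiCompact)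
      (S.openCoverOfIsOpenCover U hcov)]
    intro s
    show QuasiCompact (pullback.snd f (U s).ι)
    haveI : IsAffine ((U s : S.Opens) : Scheme.{u}) := hUaff s
    haveI : IsAffine (pullback f (𝟙 ((U s : S.Opens) : Scheme.{u}) ≫ (U s).ι)) := (hloc s).1
    have h1 : QuasiCompact (pullback.snd f (𝟙 ((U s : S.Opens) : Scheme.{u}) ≫ (U s).ι)) :=
      inferInstance
    rw [Category.id_comp] at h1
    exact h1

theorem multType_fpqc_EF {S : Scheme.{u}} (H : Over S) [GrpObj H] (hH : SGA3x.IsMultTypeFT H)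
    (Y : Over S) :
    ∃ (Q : Scheme.{u}) (g : Q ⟶ Y.left),
      Presieve.ofArrows (fun _ : PUnit.{u + 1} => Q) (fun _ => g) ∈
        Scheme.fpqcPrecoverage Y.left ∧
      EF (pullback.snd (fst Y H).left g) ∧ QuasiCompact (pullback.snd (fst Y H).left g) := by
  obtain ⟨S', f₀, hflat, hsurj, hqc, hloc⟩ := hH
  haveI := hflat
  haveI := hsurj
  -- the fpqc covering of `S`
  let E : PreZeroHypercover.{u} S := { I₀ := PUnit.{u + 1}, X := fun _ => S', f := fun _ => f₀ }
  haveI : QuasiCompactCover E := ⟨fun {U} hU => by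
    obtain ⟨W, hWc, hWU⟩ := hqc U hU
    rw [← hWU]
    exact IsCompactOpenCovered.image (f := fun i => (E.f i : E.X i → S)) (i := PUnit.unit) W hWc⟩
  have hS' : Presieve.ofArrows (fun _ : PUnit.{u + 1} => S') (fun _ => f₀) ∈
      Scheme.fpqcPrecoverage S := by
    refine ⟨Scheme.presieve₀_mem_qcPrecoverage_iff.mpr ‹QuasiCompactCover E›, ?_⟩
    rw [Scheme.ofArrows_mem_precoverage_iff]
    exact ⟨fun x => ⟨PUnit.unit, f₀.surjective x⟩, fun _ => hflat⟩
  have hQ : Presieve.ofArrows (fun _ : PUnit.{u + 1} => pullback Y.hom f₀)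
      (fun _ => pullback.fst Y.hom f₀) ∈ Scheme.fpqcPrecoverage Y.left :=
    Precoverage.mem_coverings_of_isPullback (fun _ : PUnit.{u + 1} => f₀) hS' Y.hom
      (fun _ => pullback.fst Y.hom f₀) (fun _ => pullback.snd Y.hom f₀)
      (fun _ => IsPullback.of_hasPullback _ _)
  refine ⟨pullback Y.hom f₀, pullback.fst Y.hom f₀, hQ, ?_⟩
  -- notation
  let g := pullback.fst Y.hom f₀
  let sQ := pullback.snd Y.hom f₀
  let fYH := (fst Y H).left
  let f' := pullback.snd fYH g
  have hYH : IsPullback fYH (snd Y H).left Y.hom H.hom := IsPullback.of_hasPullback _ _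
  refine EF_of_local f' (fun q => ?_)
  obtain ⟨U', hqU', M, instM, -, ⟨e⟩⟩ := hloc (sQ q)
  obtain ⟨U, hUaff, hqU, hUle⟩ : ∃ U : (pullback Y.hom f₀).Opens, IsAffineOpen U ∧ q ∈ U ∧
      U ≤ sQ ⁻¹ᵁ U' := by
    obtain ⟨U, hUaff, hqU, hUle⟩ := Opens.isBasis_iff_nbhd.mp
      (pullback Y.hom f₀).isBasis_affineOpens (show q ∈ sQ ⁻¹ᵁ U' from hqU')
    exact ⟨U, hUaff, hqU, hUle⟩
  refine ⟨U, hqU, hUaff, CommRingCat.of (ULift.{u} ℤ),
    CommRingCat.of (MonoidAlgebra (ULift.{u} ℤ) (Multiplicative M)),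
    CommRingCat.ofHom (algebraMap (ULift.{u} ℤ) (MonoidAlgebra (ULift.{u} ℤ) (Multiplicative M))),
    projective_toAlgebra (R := ULift.{u} ℤ) (M := MonoidAlgebra (ULift.{u} ℤ) (Multiplicative M))
      _ rfl, ?_⟩
  -- the map to `U'`
  have hrange : Set.range (U.ι ≫ sQ) ⊆ Set.range U'.ι := by
    rintro _ ⟨x, rfl⟩
    rw [Scheme.Opens.range_ι]
    exact hUle x.2
  let u' : (U : Scheme.{u}) ⟶ (U' : Scheme.{u}) := IsOpenImmersion.lift U'.ι (U.ι ≫ sQ) hrange
  have hu' : u' ≫ U'.ι = U.ι ≫ sQ := IsOpenImmersion.lift_fac _ _ _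
  let j := 𝟙 (U : Scheme.{u}) ≫ U.ι
  -- pasting
  have hP : IsPullback (pullback.fst f' j) (pullback.snd f' j) f' j := IsPullback.of_hasPullback _ _
  have hZ' : IsPullback (pullback.fst fYH g) f' fYH g := IsPullback.of_hasPullback _ _
  have big := (hP.flip.paste_vert hZ'.flip).paste_vert hYH
  have hbot : (j ≫ g) ≫ Y.hom = u' ≫ U'.ι ≫ f₀ := by
    show ((𝟙 (U : Scheme.{u}) ≫ U.ι) ≫ g) ≫ Y.hom = u' ≫ U'.ι ≫ f₀
    rw [Category.id_comp, Category.assoc, ← Category.assoc u', hu', Category.assoc]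
    congr 1
    exact pullback.condition
  rw [hbot] at big
  let B := pullback H.hom (U'.ι ≫ f₀)
  have hB : IsPullback (pullback.fst H.hom (U'.ι ≫ f₀)) (pullback.snd H.hom (U'.ι ≫ f₀)) H.hom
      (U'.ι ≫ f₀) := IsPullback.of_hasPullback _ _
  let b : pullback f' j ⟶ B := pullback.lift ((pullback.fst f' j ≫ pullback.fst fYH g) ≫
    (snd Y H).left) (pullback.snd f' j ≫ u') (by rw [← big.w, Category.assoc])
  have hb1 : b ≫ pullback.fst H.hom (U'.ι ≫ f₀) = _ := pullback.lift_fst _ _ _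
  have hb2 : b ≫ pullback.snd H.hom (U'.ι ≫ f₀) = pullback.snd f' j ≫ u' :=
    pullback.lift_snd _ _ _
  have sqL : IsPullback b (pullback.snd f' j) (pullback.snd H.hom (U'.ι ≫ f₀)) u' := by
    refine IsPullback.of_right ?_ hb2 hB
    rw [hb1]
    exact big.flip
  -- the trivialization
  let e' : Red.bc (U'.ι ≫ f₀) H ≅ Red.DS (U' : Scheme.{u}) M := (Grp.forget _).mapIso e
  let ε : B ≅ (Red.DS (U' : Scheme.{u}) M).left := (Over.forget _).mapIso e'
  have hε : ε.hom ≫ (Red.DS (U' : Scheme.{u}) M).hom = pullback.snd H.hom (U'.ι ≫ f₀) :=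
    Over.w e'.hom
  have sqL' : IsPullback (b ≫ ε.hom) (pullback.snd f' j) (Red.DS (U' : Scheme.{u}) M).hom u' :=
    IsPullback.of_iso sqL (Iso.refl _) ε (Iso.refl _) (Iso.refl _) (by simp) (by simp)
      (by rw [Iso.refl_hom, Category.comp_id, hε]) (by simp)
  have hD : IsPullback (pullback.fst (Red.diag (ULift.{u} ℤ) M).hom
      (Limits.IsTerminal.from specULiftZIsTerminal (U' : Scheme.{u})))
      (Red.DS (U' : Scheme.{u}) M).hom (Red.diag (ULift.{u} ℤ) M).hom
      (Limits.IsTerminal.from specULiftZIsTerminal (U' : Scheme.{u})) :=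
    IsPullback.of_hasPullback _ _
  have final := (sqL'.paste_horiz hD).flip
  exact ⟨_, _, final⟩

end Groth.Agent.Helper8.EssFree
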