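import Mathlib
import Groth.Agent.Helper8.WRDescB
import Groth.Agent.Helper2.LfpComp

/-! Weil restriction along the projection from a product with a group of multiplicative type:
centralizers and transporters. -/

set_option autoImplicit false
set_option linter.style.haveILetI false
set_option linter.unusedSectionVars false
set_option linter.unusedVariables false

open AlgebraicGeometry CategoryTheory CategoryTheory.Limits TopologicalSpace
open MonoidalCategory CartesianMonoidalCategory MonObj GrpObj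

universe u

namespace Groth.Agent.Helper8.EssFree

open Groth.Agent.Helper3

variable {S : Scheme.{u}}

/-- the closed subscheme cut out by a Weil restriction ideal represents the Weil restriction -/
theorem weilRes_over_of_isWR (Y X E : Over S) (e : E ⟶ Y ⊗ X) [IsClosedImmersion e.left]
    (K : Y.left.IdealSheafData) (hK : IsWR (fst Y X).left e.left.ker K) (T : Over S) (g : T ⟶ Y) :
    (∃ w : T ⟶ Over.mk (K.subschemeι ≫ Y.hom),
      w ≫ (Over.homMk K.subschemeι rfl : Over.mk (K.subschemeι ≫ Y.hom) ⟶ Y) = g) ↔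
      ∃ w : T ⊗ X ⟶ E, w ≫ e = g ▷ X := by
  have s1 : (∃ w : T ⟶ Over.mk (K.subschemeι ≫ Y.hom),
      w ≫ (Over.homMk K.subschemeι rfl : Over.mk (K.subschemeι ≫ Y.hom) ⟶ Y) = g) ↔
      K ≤ g.left.ker := by
    have h1 := KerLocal.exists_lift_iff_le_ker K.subschemeι g.left
    rw [K.ker_subschemeι] at h1
    rw [← h1]
    constructor
    · rintro ⟨z, rfl⟩
      exact ⟨z.left, rfl⟩
    · rintro ⟨z', hz'⟩
      refine ⟨Over.homMk z' ?_, ?_⟩
      · change z' ≫ K.subschemeι ≫ Y.hom = T.hom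
        rw [← Category.assoc, hz', Over.w]
      · ext
        exact hz'
  rw [s1, hK.le_ker_iff (Groth.Agent.Helper5.GrpDense.isPullback_whiskerRight g X),
    ← KerLocal.exists_lift_iff_le_ker]
  constructor
  · rintro ⟨w, hw⟩
    refine ⟨Over.homMk w ?_, ?_⟩
    · rw [← Over.w e, ← Category.assoc, hw, Over.w]
    · apply Over.OverMorphism.ext
      exact hw
  · rintro ⟨w, hw⟩
    exact ⟨w.left, by rw [← Over.comp_left, hw]⟩

/-- Weil restriction of closed subschemes of `Y × H` along the projection to `Y`, for `H` of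
multiplicative type -/
theorem exists_weilRes_multType (H : Over S) [GrpObj H] (hH : SGA3x.IsMultTypeFT H) (Y E : Over S)
    (e : E ⟶ Y ⊗ H) [IsClosedImmersion e.left] :
    ∃ (Z : Over S) (z : Z ⟶ Y), IsClosedImmersion z.left ∧
      (∀ (T : Over S) (g : T ⟶ Y),
        (∃ w : T ⟶ Z, w ≫ z = g) ↔ ∃ w : T ⊗ H ⟶ E, w ≫ e = g ▷ H) ∧
      (LocallyOfFinitePresentation e.left → LocallyOfFinitePresentation z.left) := by
  obtain ⟨Q, g, hg, hEF, hqc⟩ := multType_fpqc_EF H hH Y
  obtain ⟨𝓚, hWR, hfp⟩ := exists_isWR_of_fpqc_EF (fst Y H).left e.left.ker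
    (fun _ : PUnit.{u + 1} => g) hg (fun _ => hEF)
  refine ⟨Over.mk (𝓚.subschemeι ≫ Y.hom), Over.homMk 𝓚.subschemeι rfl,
    inferInstanceAs (IsClosedImmersion 𝓚.subschemeι),
    fun T g' => weilRes_over_of_isWR Y H E e 𝓚 hWR T g', fun hlfp => ?_⟩
  show LocallyOfFinitePresentation 𝓚.subschemeι
  refine hfp (fun _ => hqc) ?_
  haveI := hlfp
  have e1 : e.left.ker.subschemeι = inv e.left.toImage ≫ e.left := by
    rw [IsIso.eq_inv_comp]
    exact e.left.toImage_imageι
  rw [e1]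
  infer_instance

/-- the centralizer of a homomorphism from a group of multiplicative type into a separated group
is a closed subscheme -/
theorem centralizer_closed (G H : Over S) [GrpObj G] [GrpObj H] [IsSeparated G.hom] (i : H ⟶ G)
    (hH : SGA3x.IsMultTypeFT H) :
    ∃ (C : Over S) (c : C ⟶ G), IsClosedImmersion c.left ∧
      ∀ (X : Over S) (g : X ⟶ G), (∃ z : X ⟶ C, z ≫ c = g) ↔
        ∀ (X' : Over S) (x : X' ⟶ X) (a : X' ⟶ H), (x ≫ g) * (a ≫ i) = (a ≫ i) * (x ≫ g) := by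
  let φ₁ : G ⊗ H ⟶ G := fst G H * (snd G H ≫ i)
  let φ₂ : G ⊗ H ⟶ G := (snd G H ≫ i) * fst G H
  haveI : IsClosedImmersion (equalizer.ι φ₁ φ₂).left := inferInstance
  obtain ⟨C, c, hc, h1, -⟩ := exists_weilRes_multType H hH G (equalizer φ₁ φ₂) (equalizer.ι φ₁ φ₂)
  refine ⟨C, c, hc, fun X g => (h1 X g).trans ?_⟩
  have k1 : (g ▷ H) ≫ φ₁ = (fst X H ≫ g) * (snd X H ≫ i) := by
    show (g ▷ H) ≫ (fst G H * (snd G H ≫ i)) = _
    rw [MonObj.comp_mul, whiskerRight_fst, whiskerRight_snd_assoc]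
  have k2 : (g ▷ H) ≫ φ₂ = (snd X H ≫ i) * (fst X H ≫ g) := by
    show (g ▷ H) ≫ ((snd G H ≫ i) * fst G H) = _
    rw [MonObj.comp_mul, whiskerRight_fst, whiskerRight_snd_assoc]
  constructor
  · rintro ⟨w, hw⟩ X' x a
    have h2 : (g ▷ H) ≫ φ₁ = (g ▷ H) ≫ φ₂ := by
      rw [← hw, Category.assoc, Category.assoc, equalizer.condition]
    rw [k1, k2] at h2
    have h3 := congrArg (fun q => lift x a ≫ q) h2
    simp only [MonObj.comp_mul, lift_fst_assoc, lift_snd_assoc] at h3
    exact h3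
  · intro h
    have h2 : (g ▷ H) ≫ φ₁ = (g ▷ H) ≫ φ₂ := by
      rw [k1, k2]
      exact h (X ⊗ H) (fst X H) (snd X H)
    exact ⟨equalizer.lift _ h2, equalizer.lift_ι _ h2⟩

/-- the transporter of a group of multiplicative type into a closed subscheme is a closed
subscheme -/
theorem transporter_closed (G H Y' : Over S) [GrpObj G] [GrpObj H] (i : H ⟶ G)
    (hH : SGA3x.IsMultTypeFT H) (y' : Y' ⟶ G) (hy' : IsClosedImmersion y'.left) :
    ∃ (C : Over S) (c : C ⟶ G), IsClosedImmersion c.left ∧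
      (LocallyOfFinitePresentation y'.left → LocallyOfFinitePresentation c.left) ∧
      ∀ (X : Over S) (g : X ⟶ G), (∃ z : X ⟶ C, z ≫ c = g) ↔
        ∀ (X' : Over S) (x : X' ⟶ X) (h : X' ⟶ H),
          ∃ a' : X' ⟶ Y', (x ≫ g) * (h ≫ i) * (x ≫ g)⁻¹ = a' ≫ y' := by
  let ψ : G ⊗ H ⟶ G := fst G H * (snd G H ≫ i) * (fst G H)⁻¹
  have hsq : IsPullback (pullback.fst ψ y').left (pullback.snd ψ y').left ψ.left y'.left :=
    (IsPullback.of_hasPullback ψ y').map (Over.forget _)
  haveI : IsClosedImmersion (pullback.fst ψ y').left :=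
    MorphismProperty.of_isPullback (P := @IsClosedImmersion) hsq.flip hy'
  obtain ⟨C, c, hc, h1, h2⟩ := exists_weilRes_multType H hH G (pullback ψ y') (pullback.fst ψ y')
  refine ⟨C, c, hc, fun hfp => h2 ?_, fun X g => (h1 X g).trans ?_⟩
  · exact MorphismProperty.of_isPullback (P := @LocallyOfFinitePresentation) hsq.flip hfp
  have k1 : (g ▷ H) ≫ ψ = (fst X H ≫ g) * (snd X H ≫ i) * (fst X H ≫ g)⁻¹ := by
    show (g ▷ H) ≫ (fst G H * (snd G H ≫ i) * (fst G H)⁻¹) = _
    rw [MonObj.comp_mul, MonObj.comp_mul, GrpObj.comp_inv, whiskerRight_fst,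
      whiskerRight_snd_assoc]
  constructor
  · rintro ⟨w, hw⟩ X' x h
    refine ⟨lift x h ≫ w ≫ pullback.snd ψ y', ?_⟩
    have h3 : (g ▷ H) ≫ ψ = (w ≫ pullback.snd ψ y') ≫ y' := by
      rw [← hw, Category.assoc, Category.assoc, pullback.condition]
    rw [k1] at h3
    have h4 := congrArg (fun q => lift x h ≫ q) h3
    simp only [MonObj.comp_mul, GrpObj.comp_inv, lift_fst_assoc, lift_snd_assoc] at h4
    rw [h4]
    simp only [Category.assoc]
  · intro hh
    obtain ⟨a', ha'⟩ := hh (X ⊗ H) (fst X H) (snd X H)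
    have h3 : (g ▷ H) ≫ ψ = a' ≫ y' := by
      rw [k1]
      exact ha'
    exact ⟨pullback.lift (g ▷ H) a' h3, pullback.lift_fst _ _ _⟩

end Groth.Agent.Helper8.EssFree
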