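import Mathlib.RingTheory.Flat.Basic
import Mathlib.RingTheory.IntegralClosure.IntegrallyClosed
import Mathlib.Algebra.Category.Ring.Basic
import Mathlib.CategoryTheory.EpiMono
import Mathlib.RingTheory.Flat.Tensor
import Mathlib.Algebra.Category.Ring.Epi

set_option autoImplicit false
universe u
open CategoryTheory TensorProduct

namespace Groth.Agent.Helper8.WeakDimOne

/-- Over a ring all of whose ideals are flat, submodules of flat modules are flat. -/
theorem flat_submodule {A : Type u} [CommRing A] (hA : ∀ I : Ideal A, Module.Flat A I)
    {F : Type u} [AddCommGroup F] [Module A F] [Module.Flat A F] (N : Submodule A F) :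
    Module.Flat A N := by
  rw [Module.Flat.iff_rTensor_injective']
  intro I
  haveI := hA I
  -- I ⊗ N → I ⊗ F → A ⊗ F is injective
  have h1 : Function.Injective (LinearMap.lTensor I N.subtype) :=
    Module.Flat.lTensor_preserves_injective_linearMap _ N.injective_subtype
  have h2 : Function.Injective (LinearMap.rTensor F I.subtype) :=
    Module.Flat.rTensor_preserves_injective_linearMap _ I.injective_subtype
  have h3 : (LinearMap.rTensor F I.subtype) ∘ₗ (LinearMap.lTensor I N.subtype) =
      (LinearMap.lTensor A N.subtype) ∘ₗ (LinearMap.rTensor N I.subtype) := by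
    ext; simp
  have h4 : Function.Injective ((LinearMap.lTensor A N.subtype) ∘ₗ (LinearMap.rTensor N I.subtype)) := by
    rw [← h3]; exact h2.comp h1
  exact Function.Injective.of_comp h4

theorem main (A B : Type u) [CommRing A] [CommRing B] [Algebra A B]
    (hA : ∀ I : Ideal A, Module.Flat A I) [Module.Flat A B] (hinj : Function.Injective (algebraMap A B))
    (hepi : Epi (CommRingCat.ofHom (algebraMap A B))) : IsIntegrallyClosedIn A B := by
  have hE : Algebra.IsEpi A B := CommRingCat.epi_iff_epi.mp hepi
  refine ⟨hinj, fun {b} => ⟨fun hb => ?_, fun ⟨y, hy⟩ => hy ▸ isIntegral_algebraMap⟩⟩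
  let A' : Subalgebra A B := Algebra.adjoin A {b}
  haveI : Module.Finite A A' := by
    have : (Algebra.adjoin A {b}).toSubmodule.FG := hb.fg_adjoin_singleton
    exact Module.Finite.of_fg this
  haveI : Module.Flat A A' := flat_submodule hA (Subalgebra.toSubmodule A')
  -- A → A' is epi
  have hE' : Algebra.IsEpi A A' := by
    rw [Algebra.isEpi_iff_forall_one_tmul_eq]
    intro a
    have i1 : Function.Injective (LinearMap.lTensor A' (A'.val.toLinearMap)) :=
      Module.Flat.lTensor_preserves_injective_linearMap _ Subtype.val_injective
    have i2 : Function.Injective (LinearMap.rTensor B (A'.val.toLinearMap)) :=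
      Module.Flat.rTensor_preserves_injective_linearMap _ Subtype.val_injective
    apply i1
    apply i2
    have := (Algebra.isEpi_iff_forall_one_tmul_eq A B).mp hE (a : B)
    simpa using this
  have hs := (Algebra.isEpi_iff_surjective_algebraMap_of_finite (R := A) (A := A')).mp hE'
  obtain ⟨y, hy⟩ := hs ⟨b, Algebra.subset_adjoin (Set.mem_singleton b)⟩
  refine ⟨y, ?_⟩
  have := congrArg (Subtype.val) hy
  simpa using this

end Groth.Agent.Helper8.WeakDimOne

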