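import Mathlib

set_option autoImplicit false

namespace Groth.Agent.Helper8.WeilCoef
open Polynomial

section
variable (P : ℤ[X]) (hm : P.Monic) (q : ℝ) (hq : 0 < q)
  (hweil : ∀ z ∈ P.aroots ℂ, ‖z‖ = Real.sqrt q)
  (hnr : ∀ z ∈ P.aroots ℂ, z.im ≠ 0)

local notation "Q" => Polynomial.map (Int.castRingHom ℂ) P
local notation "conj" => starRingEnd ℂ

lemma aroots_eq : P.aroots ℂ = (Q).roots := by
  rw [aroots_def, algebraMap_int_eq]

include hm in
lemma card_roots : Multiset.card (Q).roots = P.natDegree := by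
  rw [← (IsAlgClosed.splits (Q)).natDegree_eq_card_roots, hm.natDegree_map]

include hm in
lemma roots_conj : (Q).roots.map conj = (Q).roots := by
  have h1 := roots_map_of_injective_of_card_eq_natDegree (p := Q) (f := conj)
    (starRingEnd ℂ).injective (by rw [card_roots P hm, hm.natDegree_map])
  rw [h1, Polynomial.map_map]
  congr 2
  exact RingHom.ext_int _ _

include hq hweil in
lemma mul_conj_root (z : ℂ) (hz : z ∈ (Q).roots) : z * conj z = (q : ℂ) := by
  rw [Complex.mul_conj, Complex.normSq_eq_norm_sq, hweil z (by rw [aroots_eq]; exact hz),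
    Real.sq_sqrt hq.le]

include hm hq hweil in
lemma eval_id (x : ℂ) (hx : x ≠ 0) :
    x ^ P.natDegree * eval ((q : ℂ) / x) (Q) = eval 0 (Q) * eval x (Q) := by
  have hs := IsAlgClosed.splits (Q)
  have hQm : (Q).Monic := hm.map _
  rw [hs.eval_eq_prod_roots_of_monic hQm, hs.eval_eq_prod_roots_of_monic hQm,
    hs.eval_eq_prod_roots_of_monic hQm]
  have h1 : x ^ P.natDegree = ((Q).roots.map (fun _ => x)).prod := by
    rw [Multiset.map_const', Multiset.prod_replicate, card_roots P hm]
  rw [h1, ← Multiset.prod_map_mul]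
  have h2 : (Q).roots.map (fun z => x * ((q : ℂ) / x - z)) =
      (Q).roots.map (fun z => (0 - z) * (x - conj z)) := by
    refine Multiset.map_congr rfl fun z hz => ?_
    have := mul_conj_root P q hq hweil z hz
    field_simp
    rw [← this]; ring
  rw [h2, Multiset.prod_map_mul]
  congr 1
  conv_rhs => rw [← roots_conj P hm]
  rw [Multiset.map_map]
  rfl

/-- the reflected-scaled polynomial -/
noncomputable def T : ℂ[X] :=
  ∑ j ∈ Finset.range (P.natDegree + 1), C ((Q).coeff j * (q : ℂ) ^ j) * X ^ (P.natDegree - j)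

include hm in
lemma eval_T (x : ℂ) (hx : x ≠ 0) :
    eval x (T P q) = x ^ P.natDegree * eval ((q : ℂ) / x) (Q) := by
  rw [T, eval_finsetSum, eval_eq_sum_range, hm.natDegree_map, Finset.mul_sum]
  refine Finset.sum_congr rfl fun j hj => ?_
  have hj' : j ≤ P.natDegree := Nat.lt_succ_iff.mp (Finset.mem_range.mp hj)
  rw [eval_mul, eval_C, eval_pow, eval_X, div_pow]
  have : x ^ P.natDegree = x ^ (P.natDegree - j) * x ^ j := by
    rw [← pow_add, Nat.sub_add_cancel hj']
  rw [this]
  field_simp

include hm hq hweil in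
lemma T_eq : T P q = C (eval 0 (Q)) * Q := by
  apply eq_of_infinite_eval_eq
  refine Set.Infinite.mono (s := {x : ℂ | x ≠ 0}) ?_ ?_
  · intro x hx
    simp only [Set.mem_ofPred_eq] at hx ⊢
    rw [eval_T P hm q x hx, eval_id P hm q hq hweil x hx, eval_mul, eval_C]
  · exact (Set.finite_singleton (0 : ℂ)).infinite_compl

lemma coeff_T (m : ℕ) (hmn : m ≤ P.natDegree) :
    (T P q).coeff m = (Q).coeff (P.natDegree - m) * (q : ℂ) ^ (P.natDegree - m) := by
  rw [T, finsetSum_coeff]
  rw [Finset.sum_eq_single (P.natDegree - m)]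
  · rw [coeff_C_mul_X_pow, if_pos]
    omega
  · intro j hj hne
    have hj' : j ≤ P.natDegree := Nat.lt_succ_iff.mp (Finset.mem_range.mp hj)
    rw [coeff_C_mul_X_pow, if_neg]
    omega
  · intro h
    exact absurd (Finset.mem_range.mpr (by omega)) h

include hm hq hweil in
lemma coeff_rel (m : ℕ) (hmn : m ≤ P.natDegree) :
    (Q).coeff (P.natDegree - m) * (q : ℂ) ^ (P.natDegree - m) = eval 0 (Q) * (Q).coeff m := by
  rw [← coeff_T P q m hmn, T_eq P hm q hq hweil, coeff_C_mul]

/-- roots in the upper half plane -/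
noncomputable def Rp : Multiset ℂ := (Q).roots.filter (fun z => 0 < z.im)

include hm hnr in
lemma roots_split : (Q).roots = Rp P + (Rp P).map conj := by
  have h1 : (Q).roots.filter (fun z => ¬ 0 < z.im) = (Rp P).map conj := by
    have : (Q).roots.filter (fun z => ¬ 0 < z.im) = (Q).roots.filter (fun z => z.im < 0) := by
      refine Multiset.filter_congr fun z hz => ?_
      have := hnr z (by rw [aroots_eq]; exact hz)
      constructor
      · intro h; exact lt_of_le_of_ne (not_lt.mp h) this
      · intro h; exact not_lt.mpr h.le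
    rw [this]
    conv_lhs => rw [← roots_conj P hm]
    rw [Multiset.filter_map]
    congr 1
    refine Multiset.filter_congr fun z _ => ?_
    simp
  rw [← h1, Rp, Multiset.filter_add_not]

include hm hnr in
lemma card_even : P.natDegree = 2 * Multiset.card (Rp P) := by
  rw [← card_roots P hm]
  conv_lhs => rw [roots_split P hm hnr]
  rw [Multiset.card_add, Multiset.card_map]; ring

include hm hq hweil hnr in
lemma eval_zero : eval 0 (Q) = (q : ℂ) ^ Multiset.card (Rp P) := by
  have hs := IsAlgClosed.splits (Q)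
  have hQm : (Q).Monic := hm.map _
  rw [hs.eval_eq_prod_roots_of_monic hQm]
  conv_lhs => rw [roots_split P hm hnr]
  rw [Multiset.map_add, Multiset.prod_add, Multiset.map_map, ← Multiset.prod_map_mul]
  have : (Rp P).map (fun z => (0 - z) * ((fun x => 0 - x) ∘ conj) z) =
      (Rp P).map (fun _ => (q : ℂ)) := by
    refine Multiset.map_congr rfl fun z hz => ?_
    have hz' : z ∈ (Q).roots := (Multiset.mem_filter.mp hz).1
    have := mul_conj_root P q hq hweil z hz'
    simp only [Function.comp]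
    rw [← this]; ring
  rw [this, Multiset.map_const', Multiset.prod_replicate]

include hm hq hweil hnr in
theorem main_aux : Even P.natDegree ∧
    ∀ r ≤ P.natDegree / 2,
      ((P.coeff (P.natDegree / 2 - r) : ℤ) : ℂ) =
        (q : ℂ) ^ r * ((P.coeff (P.natDegree / 2 + r) : ℤ) : ℂ) := by
  have hn := card_even P hm hnr
  set d := Multiset.card (Rp P) with hd
  refine ⟨⟨d, by omega⟩, fun r hr => ?_⟩
  have hd2 : P.natDegree / 2 = d := by omega
  rw [hd2] at hr ⊢
  have h := coeff_rel P hm q hq hweil (d + r) (by omega)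
  rw [eval_zero P hm q hq hweil hnr, ← hd] at h
  have e1 : P.natDegree - (d + r) = d - r := by omega
  rw [e1] at h
  simp only [coeff_map, eq_intCast] at h
  have hq0 : (q : ℂ) ^ (d - r) ≠ 0 := pow_ne_zero _ (by exact_mod_cast hq.ne')
  have e2 : (q : ℂ) ^ d = (q : ℂ) ^ (d - r) * (q : ℂ) ^ r := by
    rw [← pow_add]; congr 1; omega
  rw [e2] at h
  apply mul_right_cancel₀ hq0
  rw [h]; ring

end

theorem main (p e : ℕ) [Fact p.Prime] (he : 0 < e)
    (K : Type*) [Field K] [CharZero K] (π : K) (hπ : IsIntegral ℤ π)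
    (hweil : ∀ z ∈ (minpoly ℤ π).aroots ℂ, ‖z‖ = Real.sqrt ((p : ℝ) ^ e))
    (hnr : ∀ z ∈ (minpoly ℤ π).aroots ℂ, z.im ≠ 0) :
    Even (minpoly ℤ π).natDegree ∧
      ∀ r ≤ (minpoly ℤ π).natDegree / 2,
        (minpoly ℤ π).coeff ((minpoly ℤ π).natDegree / 2 - r) =
          (p : ℤ) ^ (e * r) * (minpoly ℤ π).coeff ((minpoly ℤ π).natDegree / 2 + r) := by
  have hp : p.Prime := Fact.out
  have hq : (0 : ℝ) < (p : ℝ) ^ e := pow_pos (by exact_mod_cast hp.pos) e
  obtain ⟨h1, h2⟩ := main_aux (minpoly ℤ π) (minpoly.monic hπ) ((p : ℝ) ^ e) hq hweil hnr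
  refine ⟨h1, fun r hr => ?_⟩
  have := h2 r hr
  apply Int.cast_injective (α := ℂ)
  rw [this]
  push_cast
  rw [pow_mul]

end Groth.Agent.Helper8.WeilCoef
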