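import Mathlib
import Groth.Agent.Helper8.GrCI1

set_option autoImplicit false

universe u

namespace Groth.Agent.Helper8.WeilKer

open MvPolynomial

noncomputable section

local notation "R" => MvPolynomial (Fin 2) ℤ

/-- a polynomial in one element which dies under a family of evaluations is zero -/
theorem poly_eq_zero_of_mem (x : R) (I : Ideal R) (ev : ℚ → (R →ₐ[ℤ] ℚ))
    (hx : ∀ t : ℚ, t ≠ 0 → ev t x = t) (hI : ∀ t : ℚ, t ≠ 0 → I ≤ RingHom.ker (ev t))
    (B : Polynomial ℤ) (h : Polynomial.aeval x B ∈ I) : B = 0 := by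
  have h1 : ∀ t : ℚ, t ≠ 0 → Polynomial.aeval t B = 0 := by
    intro t ht
    have h2 : ev t (Polynomial.aeval x B) = 0 := hI t ht h
    rwa [← Polynomial.aeval_algHom_apply, hx t ht] at h2
  have h3 : B.map (Int.castRingHom ℚ) = 0 := by
    apply Polynomial.eq_zero_of_infinite_isRoot
    apply Set.infinite_of_injective_forall_mem (f := fun n : ℕ => ((n : ℚ) + 1))
    · intro a b hab
      simpa using hab
    · intro n
      have hn : ((n : ℚ) + 1) ≠ 0 := by positivity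
      have h4 := h1 _ hn
      simp only [Set.mem_setOf_eq, Polynomial.IsRoot.def, Polynomial.eval_map]
      rwa [Polynomial.aeval_def, algebraMap_int_eq] at h4
  exact Polynomial.map_injective (Int.castRingHom ℚ) (RingHom.injective_int _)
    (h3.trans (Polynomial.map_zero _).symm)

theorem polyF_eq_zero (q : ℤ) (B : Polynomial ℤ)
    (h : Polynomial.aeval (X 0 : R) B ∈ Ideal.span {(X 0 * X 1 - C q : R)}) : B = 0 := by
  refine poly_eq_zero_of_mem (X 0) _ (fun t => MvPolynomial.aeval ![t, (q : ℚ) / t]) ?_ ?_ B h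
  · intro t _
    simp
  · intro t ht
    rw [Ideal.span_le, Set.singleton_subset_iff, SetLike.mem_coe, RingHom.mem_ker]
    simp [mul_div_cancel₀ _ ht]

theorem polyV_eq_zero (q : ℤ) (B : Polynomial ℤ)
    (h : Polynomial.aeval (X 1 : R) B ∈ Ideal.span {(X 0 * X 1 - C q : R)}) : B = 0 := by
  refine poly_eq_zero_of_mem (X 1) _ (fun t => MvPolynomial.aeval ![(q : ℚ) / t, t]) ?_ ?_ B h
  · intro t _
    simp
  · intro t ht
    rw [Ideal.span_le, Set.singleton_subset_iff, SetLike.mem_coe, RingHom.mem_ker]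
    simp [div_mul_cancel₀ _ ht]

/-- clearing the other variable -/
theorem clear (q : ℤ) (I : Ideal R) (i j : Fin 2) (hij : ∀ k : Fin 2, k = i ∨ k = j)
    (hI : (X i * X j - C q : R) ∈ I) (a : R) :
    ∃ (n : ℕ) (A : Polynomial ℤ), X i ^ n * a - Polynomial.aeval (X i : R) A ∈ I := by
  induction a using MvPolynomial.induction_on with
  | C c =>
    refine ⟨0, Polynomial.C c, ?_⟩
    simp
  | add a b ha hb =>
    obtain ⟨n, A, hA⟩ := ha
    obtain ⟨m, B, hB⟩ := hb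
    refine ⟨n + m, Polynomial.X ^ m * A + Polynomial.X ^ n * B, ?_⟩
    have e : X i ^ (n + m) * (a + b) -
        Polynomial.aeval (X i : R) (Polynomial.X ^ m * A + Polynomial.X ^ n * B)
        = X i ^ m * (X i ^ n * a - Polynomial.aeval (X i : R) A) +
          X i ^ n * (X i ^ m * b - Polynomial.aeval (X i : R) B) := by
      simp only [map_add, map_mul, map_pow, Polynomial.aeval_X]
      ring
    rw [e]
    exact I.add_mem (I.mul_mem_left _ hA) (I.mul_mem_left _ hB)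
  | mul_X a k ha =>
    obtain ⟨n, A, hA⟩ := ha
    rcases hij k with hk | hk
    · rw [hk]
      refine ⟨n, A * Polynomial.X, ?_⟩
      have e : X i ^ n * (a * X i) - Polynomial.aeval (X i : R) (A * Polynomial.X) =
          (X i ^ n * a - Polynomial.aeval (X i : R) A) * X i := by
        simp only [map_mul, Polynomial.aeval_X]
        ring
      rw [e]
      exact I.mul_mem_right _ hA
    · rw [hk]
      refine ⟨n + 1, Polynomial.C q * A, ?_⟩
      have e : X i ^ (n + 1) * (a * X j) - Polynomial.aeval (X i : R) (Polynomial.C q * A) =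
          (X i * X j - C q) * (X i ^ n * a) +
            C q * (X i ^ n * a - Polynomial.aeval (X i : R) A) := by
        simp only [map_mul, Polynomial.aeval_C, MvPolynomial.algebraMap_eq]
        ring
      rw [e]
      exact I.add_mem (I.mul_mem_right _ hI) (I.mul_mem_left _ hA)

theorem decomp (a : R) :
    ∃ (a₀ : Polynomial ℤ) (a₁ : R), a = Polynomial.aeval (X 1 : R) a₀ + X 0 * a₁ := by
  induction a using MvPolynomial.induction_on with
  | C c => exact ⟨Polynomial.C c, 0, by simp⟩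
  | add a b ha hb =>
    obtain ⟨a₀, a₁, rfl⟩ := ha
    obtain ⟨b₀, b₁, rfl⟩ := hb
    exact ⟨a₀ + b₀, a₁ + b₁, by simp only [map_add]; ring⟩
  | mul_X a k ha =>
    obtain ⟨a₀, a₁, rfl⟩ := ha
    have hk : k = 0 ∨ k = 1 := by fin_cases k <;> simp
    rcases hk with rfl | rfl
    · exact ⟨0, Polynomial.aeval (X 1 : R) a₀ + X 0 * a₁, by simp only [map_zero]; ring⟩
    · exact ⟨a₀ * Polynomial.X, a₁ * X 1, by simp only [map_mul, Polynomial.aeval_X]; ring⟩

/-- evaluation at `F = 0` -/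
def ev0 : R →ₐ[ℤ] Polynomial ℤ := MvPolynomial.aeval ![0, Polynomial.X]

theorem ev0_X0 : ev0 (X 0) = 0 := by simp [ev0]
theorem ev0_X1 : ev0 (X 1) = Polynomial.X := by simp [ev0]
theorem ev0_C (c : ℤ) : ev0 (C c) = Polynomial.C c := by simp [ev0]
theorem ev0_iota (B : Polynomial ℤ) : ev0 (Polynomial.aeval (X 1 : R) B) = B := by
  rw [← Polynomial.aeval_algHom_apply, ev0_X1]
  simp

theorem F_reg_g (q : ℤ) (hq : q ≠ 0) (a : R)
    (h : X 0 * a ∈ Ideal.span {(X 0 * X 1 - C q : R)}) :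
    a ∈ Ideal.span {(X 0 * X 1 - C q : R)} := by
  rw [Ideal.mem_span_singleton'] at h ⊢
  obtain ⟨b, hb⟩ := h
  obtain ⟨b₀, b₁, rfl⟩ := decomp b
  have h1 := congrArg ev0 hb
  simp only [map_add, map_mul, map_sub, ev0_iota, ev0_X0, ev0_X1, ev0_C] at h1
  have hb0 : b₀ = 0 := by
    have h2 : b₀ * Polynomial.C q = 0 := by linear_combination -h1
    rcases mul_eq_zero.1 h2 with h3 | h3
    · exact h3
    · exact absurd (Polynomial.C_eq_zero.1 h3) hq
  subst hb0
  refine ⟨b₁, ?_⟩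
  apply mul_left_cancel₀ (X_ne_zero (0 : Fin 2) : (X 0 : R) ≠ 0)
  rw [← hb]
  simp only [map_zero]
  ring

theorem F_pow_reg_g (q : ℤ) (hq : q ≠ 0) (n : ℕ) (a : R)
    (h : X 0 ^ n * a ∈ Ideal.span {(X 0 * X 1 - C q : R)}) :
    a ∈ Ideal.span {(X 0 * X 1 - C q : R)} := by
  induction n with
  | zero => simpa using h
  | succ n ih =>
    apply ih
    apply F_reg_g q hq
    rw [← mul_assoc, ← pow_succ']
    exact h

theorem F_reg_gh (q : ℤ) (hq : q ≠ 0) (h : R) (h₀ : Polynomial ℤ) (h₁ : R)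
    (hh : h = Polynomial.aeval (X 1 : R) h₀ + X 0 * h₁)
    (hreg : ∀ b₀ c₀ : Polynomial ℤ, Polynomial.C q * b₀ = h₀ * c₀ →
      ∃ t, c₀ = Polynomial.C q * t)
    (a : R) (ha : X 0 * a ∈ Ideal.span {(X 0 * X 1 - C q : R), h}) :
    a ∈ Ideal.span {(X 0 * X 1 - C q : R), h} := by
  rw [Ideal.mem_span_pair] at ha ⊢
  obtain ⟨b, c, hbc⟩ := ha
  obtain ⟨b₀, b₁, rfl⟩ := decomp b
  obtain ⟨c₀, c₁, rfl⟩ := decomp c
  have h1 := congrArg ev0 hbc
  rw [hh] at h1
  simp only [map_add, map_mul, map_sub, ev0_iota, ev0_X0, ev0_X1, ev0_C] at h1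
  have h2 : Polynomial.C q * b₀ = h₀ * c₀ := by linear_combination -h1
  obtain ⟨t, rfl⟩ := hreg b₀ c₀ h2
  have hCq : (Polynomial.C q : Polynomial ℤ) ≠ 0 := by
    rwa [Ne, Polynomial.C_eq_zero]
  have h3 : b₀ = h₀ * t := by
    apply mul_left_cancel₀ hCq
    linear_combination h2
  subst h3
  refine ⟨b₁ - h₁ * Polynomial.aeval (X 1 : R) t,
    Polynomial.aeval (X 1 : R) t * X 1 + c₁, ?_⟩
  apply mul_left_cancel₀ (X_ne_zero (0 : Fin 2) : (X 0 : R) ≠ 0)
  rw [← hbc, hh]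
  simp only [map_mul, Polynomial.aeval_C, MvPolynomial.algebraMap_eq]
  ring

theorem F_pow_reg_gh (q : ℤ) (hq : q ≠ 0) (h : R) (h₀ : Polynomial ℤ) (h₁ : R)
    (hh : h = Polynomial.aeval (X 1 : R) h₀ + X 0 * h₁)
    (hreg : ∀ b₀ c₀ : Polynomial ℤ, Polynomial.C q * b₀ = h₀ * c₀ →
      ∃ t, c₀ = Polynomial.C q * t)
    (n : ℕ) (a : R) (ha : X 0 ^ n * a ∈ Ideal.span {(X 0 * X 1 - C q : R), h}) :
    a ∈ Ideal.span {(X 0 * X 1 - C q : R), h} := by
  induction n with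
  | zero => simpa using ha
  | succ n ih =>
    apply ih
    apply F_reg_gh q hq h h₀ h₁ hh hreg
    rw [← mul_assoc, ← pow_succ']
    exact ha

theorem reg_of_coeff (Q : ℕ) (h₀ : Polynomial ℤ) (D : ℕ) (s : ℤ) (hs : s * s = 1)
    (hD : ∀ j, D < j → (Q : ℤ) ∣ h₀.coeff j) (hDD : (Q : ℤ) ∣ h₀.coeff D - s)
    (b₀ c₀ : Polynomial ℤ) (hbc : Polynomial.C (Q : ℤ) * b₀ = h₀ * c₀) :
    ∃ t, c₀ = Polynomial.C (Q : ℤ) * t := by
  have hcz : ∀ z : ℤ, ((z : ZMod Q) = 0 ↔ (Q : ℤ) ∣ z) :=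
    fun z => CharP.intCast_eq_zero_iff (ZMod Q) Q z
  have h1 : h₀.map (Int.castRingHom (ZMod Q)) * c₀.map (Int.castRingHom (ZMod Q)) = 0 := by
    rw [← Polynomial.map_mul, ← hbc, Polynomial.map_mul, Polynomial.map_C]
    have : (Int.castRingHom (ZMod Q)) (Q : ℤ) = 0 := by simp
    rw [this, map_zero, zero_mul]
  have hmon : (Polynomial.C (s : ZMod Q) * h₀.map (Int.castRingHom (ZMod Q))).Monic := by
    apply Polynomial.monic_of_natDegree_le_of_coeff_eq_one D
    · rw [Polynomial.natDegree_le_iff_coeff_eq_zero]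
      intro N hN
      rw [Polynomial.coeff_C_mul, Polynomial.coeff_map, eq_intCast, (hcz _).2 (hD N hN),
        mul_zero]
    · rw [Polynomial.coeff_C_mul, Polynomial.coeff_map, eq_intCast]
      have h2 := (hcz _).2 hDD
      rw [Int.cast_sub, sub_eq_zero] at h2
      rw [h2]
      exact_mod_cast congrArg (Int.cast : ℤ → ZMod Q) hs
  have h2 : c₀.map (Int.castRingHom (ZMod Q)) = 0 := by
    have h3 : (Polynomial.C (s : ZMod Q) * h₀.map (Int.castRingHom (ZMod Q))) *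
        c₀.map (Int.castRingHom (ZMod Q)) = 0 := by rw [mul_assoc, h1, mul_zero]
    exact (hmon.mul_right_eq_zero_iff).1 h3
  have h3 : Polynomial.C (Q : ℤ) ∣ c₀ := by
    rw [Polynomial.C_dvd_iff_dvd_coeff]
    intro i
    have h4 := congrArg (fun f => Polynomial.coeff f i) h2
    simp only [Polynomial.coeff_map, eq_intCast, Polynomial.coeff_zero] at h4
    exact (hcz _).1 h4
  obtain ⟨t, ht⟩ := h3
  exact ⟨t, ht⟩

theorem coeff_h0 (Q : ℕ) (D : ℕ) (P : Polynomial ℤ) (hPdeg : P.natDegree = 2 * D)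
    (hQ : Q ≠ 0)
    (s : ℤ) (hc0 : P.coeff 0 = s * (Q : ℤ) ^ D)
    (h : R) (h₀ : Polynomial ℤ) (h₁ : R)
    (hh0 : h = Polynomial.aeval (X 1 : R) h₀ + X 0 * h₁)
    (hh : X 0 ^ D * h - Polynomial.aeval (X 0 : R) P ∈
      Ideal.span {(X 0 * X 1 - C (Q : ℤ) : R)}) :
    (∀ j, D < j → (Q : ℤ) ∣ h₀.coeff j) ∧ (Q : ℤ) ∣ h₀.coeff D - s := by
  obtain ⟨I, hI⟩ : ∃ I : Ideal R, I = Ideal.span {(X 0 * X 1 - C (Q : ℤ) : R)} := ⟨_, rfl⟩
  rw [← hI] at hh
  have hgI : (X 0 * X 1 - C (Q : ℤ) : R) ∈ I := by rw [hI]; exact Ideal.subset_span rfl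
  have hgI' : (X 1 * X 0 - C (Q : ℤ) : R) ∈ I := by rw [mul_comm]; exact hgI
  obtain ⟨m₀, A₀, hA₀⟩ := clear (Q : ℤ) I 1 0 (by intro k; fin_cases k <;> simp) hgI' h
  obtain ⟨m, hm⟩ : ∃ m : ℕ, m = m₀ + D := ⟨_, rfl⟩
  obtain ⟨M, hM⟩ : ∃ M : ℕ, M = m + D := ⟨_, rfl⟩
  obtain ⟨A, hA⟩ : ∃ A : Polynomial ℤ, A = Polynomial.X ^ D * A₀ := ⟨_, rfl⟩
  have hA' : X 1 ^ m * h - Polynomial.aeval (X 1 : R) A ∈ I := by
    have e : X 1 ^ m * h - Polynomial.aeval (X 1 : R) A =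
        X 1 ^ D * (X 1 ^ m₀ * h - Polynomial.aeval (X 1 : R) A₀) := by
      simp only [hm, hA, map_mul, map_pow, Polynomial.aeval_X]
      ring
    rw [e]
    exact I.mul_mem_left _ hA₀
  -- reduction modulo `Q` and `F`
  obtain ⟨ε, hε⟩ : ∃ ε : R →ₐ[ℤ] Polynomial (ZMod Q),
      ε = MvPolynomial.aeval ![0, Polynomial.X] := ⟨_, rfl⟩
  have hQ0 : algebraMap ℤ (Polynomial (ZMod Q)) (Q : ℤ) = 0 := by
    rw [eq_intCast, ← Polynomial.C_eq_intCast]
    simp
  have e2 : ε (X 0) = 0 := by simp [hε]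
  have e3 : ε (X 1) = Polynomial.X := by simp [hε]
  have e4 : ε (C (Q : ℤ)) = 0 := by
    rw [← MvPolynomial.algebraMap_eq, AlgHom.commutes, hQ0]
  have e1 : ∀ B : Polynomial ℤ,
      ε (Polynomial.aeval (X 1 : R) B) = B.map (Int.castRingHom (ZMod Q)) := by
    intro B
    rw [← Polynomial.aeval_algHom_apply, e3, Polynomial.aeval_X_left_eq_map, algebraMap_int_eq]
  have hεI : I ≤ RingHom.ker ε.toRingHom := by
    rw [hI, Ideal.span_le, Set.singleton_subset_iff, SetLike.mem_coe, RingHom.mem_ker]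
    simp only [AlgHom.toRingHom_eq_coe, RingHom.coe_coe, map_sub, map_mul, e2, e3, e4]
    ring
  have h3 : ε (X 1 ^ m * h - Polynomial.aeval (X 1 : R) A) = 0 := hεI hA'
  rw [hh0] at h3
  simp only [map_sub, map_mul, map_add, map_pow, e1, e2, e3, zero_mul, add_zero] at h3
  have h4 : ∀ j, ((A.coeff (m + j) : ℤ) : ZMod Q) = ((h₀.coeff j : ℤ) : ZMod Q) := by
    intro j
    have h5 := congrArg (fun f => Polynomial.coeff f (j + m)) (sub_eq_zero.1 h3)
    simp only [Polynomial.coeff_X_pow_mul, Polynomial.coeff_map, eq_intCast] at h5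
    rw [add_comm]
    exact h5.symm
  -- the identity in the quotient
  obtain ⟨mk, hmk⟩ : ∃ mk : R →ₐ[ℤ] R ⧸ I, mk = Ideal.Quotient.mkₐ ℤ I := ⟨_, rfl⟩
  have hmk0 : ∀ x : R, mk x = 0 ↔ x ∈ I := by
    intro x
    rw [hmk]
    exact Ideal.Quotient.eq_zero_iff_mem
  obtain ⟨f, hf⟩ : ∃ f : R ⧸ I, f = mk (X 0) := ⟨_, rfl⟩
  obtain ⟨v, hv⟩ : ∃ v : R ⧸ I, v = mk (X 1) := ⟨_, rfl⟩
  have hC : mk (C (Q : ℤ)) = ((Q : ℤ) : R ⧸ I) := by
    rw [← MvPolynomial.algebraMap_eq, AlgHom.commutes, eq_intCast]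
  have hvf : v * f = ((Q : ℤ) : R ⧸ I) := by
    have h5 := (hmk0 _).2 hgI'
    rw [map_sub, map_mul, hC, ← hf, ← hv] at h5
    exact sub_eq_zero.1 h5
  have hi : f ^ D * mk h = Polynomial.aeval f P := by
    have h5 := (hmk0 _).2 hh
    rw [map_sub, map_mul, map_pow, ← Polynomial.aeval_algHom_apply, ← hf] at h5
    exact sub_eq_zero.1 h5
  have hii : v ^ m * mk h = Polynomial.aeval v A := by
    have h5 := (hmk0 _).2 hA'
    rw [map_sub, map_mul, map_pow, ← Polynomial.aeval_algHom_apply, ← hv] at h5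
    exact sub_eq_zero.1 h5
  obtain ⟨Pt, hPt⟩ : ∃ Pt : Polynomial ℤ, Pt = ∑ k ∈ Finset.range (2 * D + 1),
      Polynomial.C (P.coeff k * (Q : ℤ) ^ k) * Polynomial.X ^ (M - k) := ⟨_, rfl⟩
  have hM2 : 2 * D ≤ M := by omega
  have hiii : ((Q : ℤ) : R ⧸ I) ^ D * Polynomial.aeval v A = Polynomial.aeval v Pt := by
    calc ((Q : ℤ) : R ⧸ I) ^ D * Polynomial.aeval v A
        = (v * f) ^ D * (v ^ m * mk h) := by rw [hvf, hii]
      _ = v ^ M * (f ^ D * mk h) := by rw [mul_pow, hM, pow_add]; ring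
      _ = v ^ M * Polynomial.aeval f P := by rw [hi]
      _ = ∑ k ∈ Finset.range (2 * D + 1), v ^ M * (P.coeff k • f ^ k) := by
          rw [Polynomial.aeval_eq_sum_range, hPdeg, Finset.mul_sum]
      _ = ∑ k ∈ Finset.range (2 * D + 1),
            ((P.coeff k * (Q : ℤ) ^ k : ℤ) : R ⧸ I) * v ^ (M - k) := by
          apply Finset.sum_congr rfl
          intro k hk
          have hk' : k ≤ M := by
            have := Finset.mem_range.1 hk
            omega
          have e : v ^ M = v ^ (M - k) * v ^ k := by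
            rw [← pow_add, Nat.sub_add_cancel hk']
          rw [e, zsmul_eq_mul, Int.cast_mul, Int.cast_pow, ← hvf, mul_pow]
          ring
      _ = Polynomial.aeval v Pt := by
          rw [hPt, map_sum]
          apply Finset.sum_congr rfl
          intro k _
          rw [map_mul (Polynomial.aeval v), Polynomial.aeval_C, map_pow, Polynomial.aeval_X,
            eq_intCast]
  have hkey : Polynomial.C ((Q : ℤ) ^ D) * A = Pt := by
    have h5 : Polynomial.aeval (X 1 : R) (Polynomial.C ((Q : ℤ) ^ D) * A - Pt) ∈ I := by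
      rw [← hmk0, ← Polynomial.aeval_algHom_apply, ← hv, map_sub, map_mul, Polynomial.aeval_C,
        ← hiii, eq_intCast, Int.cast_pow, sub_self]
    rw [hI] at h5
    exact sub_eq_zero.1 (polyV_eq_zero _ _ h5)
  have hPtc : ∀ n, M ≤ n → Pt.coeff n = if n = M then P.coeff 0 else 0 := by
    intro n hn
    rw [hPt, Polynomial.finset_sum_coeff]
    rw [Finset.sum_eq_single 0]
    · rw [Polynomial.coeff_C_mul_X_pow]
      simp
    · intro k hk hk0
      have := Finset.mem_range.1 hk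
      rw [Polynomial.coeff_C_mul_X_pow, if_neg]
      omega
    · intro h0
      exact absurd (Finset.mem_range.2 (by omega)) h0
  have hQD : ((Q : ℤ) ^ D) ≠ 0 := pow_ne_zero _ (by exact_mod_cast hQ)
  have hAM : A.coeff M = s := by
    have h5 := congrArg (fun f => Polynomial.coeff f M) hkey
    simp only [Polynomial.coeff_C_mul, hPtc M le_rfl, if_true, hc0] at h5
    apply mul_left_cancel₀ hQD
    linear_combination h5
  have hAbig : ∀ n, M < n → A.coeff n = 0 := by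
    intro n hn
    have h5 := congrArg (fun f => Polynomial.coeff f n) hkey
    simp only [Polynomial.coeff_C_mul, hPtc n hn.le, if_neg (ne_of_gt hn)] at h5
    rcases mul_eq_zero.1 h5 with h6 | h6
    · exact absurd h6 hQD
    · exact h6
  have hcz : ∀ z : ℤ, ((z : ZMod Q) = 0 ↔ (Q : ℤ) ∣ z) :=
    fun z => CharP.intCast_eq_zero_iff (ZMod Q) Q z
  constructor
  · intro j hj
    rw [← hcz, ← h4 j, hAbig (m + j) (by omega), Int.cast_zero]
  · rw [← hcz, Int.cast_sub, ← h4 D, ← hM, hAM, sub_self]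

theorem coeff_zero_weil (ι : Type) [Fintype ι] (Pi : ι → Polynomial ℤ)
    (hmon : ∀ i, (Pi i).Monic) (r : ℝ) (hr : 0 ≤ r)
    (hroots : ∀ i, ∀ z ∈ (Pi i).aroots ℂ, ‖z‖ = Real.sqrt r) (D : ℕ)
    (hD : ∑ i, (Pi i).natDegree = 2 * D) :
    |(((∏ i, Pi i).coeff 0 : ℤ) : ℝ)| = r ^ D := by
  obtain ⟨P, hP⟩ : ∃ P : Polynomial ℤ, P = ∏ i, Pi i := ⟨_, rfl⟩
  rw [← hP]
  have hPm : P.Monic := by
    rw [hP]
    exact Polynomial.monic_prod_of_monic _ _ (fun i _ => hmon i)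
  have hdeg : P.natDegree = 2 * D := by
    rw [hP, Polynomial.natDegree_prod_of_monic _ _ (fun i _ => hmon i)]
    exact hD
  have hsp : (P.map (algebraMap ℤ ℂ)).Splits := IsAlgClosed.splits _
  have hmc : (P.map (algebraMap ℤ ℂ)).Monic := hPm.map _
  have hdc : (P.map (algebraMap ℤ ℂ)).natDegree = 2 * D := by
    rw [hPm.natDegree_map, hdeg]
  have h0 := hsp.coeff_zero_eq_prod_roots_of_monic hmc
  rw [hdc, Even.neg_one_pow ⟨D, by ring⟩, one_mul, Polynomial.coeff_map, eq_intCast] at h0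
  have hnorm : ∀ z ∈ (P.map (algebraMap ℤ ℂ)).roots, ‖z‖ = Real.sqrt r := by
    intro z hz
    have hz' : z ∈ P.aroots ℂ := hz
    rw [Polynomial.mem_aroots, hP, map_prod, Finset.prod_eq_zero_iff] at hz'
    obtain ⟨-, i, -, hi⟩ := hz'
    exact hroots i z (Polynomial.mem_aroots.2 ⟨(hmon i).ne_zero, hi⟩)
  have hcard : Multiset.card (P.map (algebraMap ℤ ℂ)).roots = 2 * D := by
    rw [← hsp.natDegree_eq_card_roots, hdc]
  have h1 : ‖((P.coeff 0 : ℤ) : ℂ)‖ = Real.sqrt r ^ (2 * D) := by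
    rw [h0]
    have e : ‖(P.map (algebraMap ℤ ℂ)).roots.prod‖ =
        ((P.map (algebraMap ℤ ℂ)).roots.map (fun z => ‖z‖)).prod :=
      map_multiset_prod (normHom : ℂ →*₀ ℝ) _
    rw [e]
    have : (P.map (algebraMap ℤ ℂ)).roots.map (fun z => ‖z‖) =
        Multiset.replicate (2 * D) (Real.sqrt r) := by
      rw [Multiset.eq_replicate]
      refine ⟨by rw [Multiset.card_map, hcard], ?_⟩
      intro b hb
      obtain ⟨z, hz, rfl⟩ := Multiset.mem_map.1 hb
      exact hnorm z hz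
    rw [this, Multiset.prod_replicate]
  rw [Complex.norm_intCast] at h1
  rw [h1, pow_mul, Real.sq_sqrt hr]

theorem weaklyRegular_pair {A : Type*} [CommRing A] (g h : A)
    (hg : ∀ b, g * b = 0 → b = 0)
    (hh : ∀ b, h * b ∈ Ideal.span {g} → b ∈ Ideal.span {g}) :
    RingTheory.Sequence.IsWeaklyRegular A [g, h] := by
  refine ⟨fun i hi => ?_⟩
  have hi' : i < 2 := by simpa using hi
  interval_cases i
  · show IsSMulRegular (A ⧸ ((Ideal.ofList [] : Ideal A) • ⊤ : Submodule A A)) g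
    apply GrCI.isSMulRegular_of_reg
    intro b hb
    rw [Ideal.ofList_nil] at hb ⊢
    exact hg b hb
  · show IsSMulRegular (A ⧸ ((Ideal.ofList [g] : Ideal A) • ⊤ : Submodule A A)) h
    apply GrCI.isSMulRegular_of_reg
    intro b hb
    rw [Ideal.ofList_singleton] at hb ⊢
    exact hh b hb

theorem main (p e : ℕ) [Fact p.Prime] (he : 0 < e)
    (ι : Type) [Fintype ι] (K : ι → Type u) [∀ i, Field (K i)] [∀ i, CharZero (K i)]
    (π : ∀ i, K i)
    (hint : ∀ i, IsIntegral ℤ (π i))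
    (hweil : ∀ i, ∀ z ∈ (minpoly ℤ (π i)).aroots ℂ, ‖z‖ = Real.sqrt ((p : ℝ) ^ e))
    (hinj : ∀ i j, minpoly ℤ (π i) = minpoly ℤ (π j) → i = j)
    (D : ℕ) (hD : ∑ i, (minpoly ℤ (π i)).natDegree = 2 * D)
    (h : MvPolynomial (Fin 2) ℤ)
    (hh : X 0 ^ D * h - Polynomial.aeval (X 0 : MvPolynomial (Fin 2) ℤ) (∏ i, minpoly ℤ (π i)) ∈
      Ideal.span ({X 0 * X 1 - C ((p : ℤ) ^ e)} : Set (MvPolynomial (Fin 2) ℤ))) :
    RingHom.ker (MvPolynomial.aeval ![fun i => π i, fun i => ((p : K i) ^ e) / π i] :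
        MvPolynomial (Fin 2) ℤ →ₐ[ℤ] ((i : ι) → K i)) =
        Ideal.span {X 0 * X 1 - C ((p : ℤ) ^ e), h} ∧
      RingTheory.Sequence.IsWeaklyRegular (MvPolynomial (Fin 2) ℤ)
        [X 0 * X 1 - C ((p : ℤ) ^ e), h] := by
  have hp : 0 < p := (Fact.out : p.Prime).pos
  have hpR : (0 : ℝ) < (p : ℝ) ^ e := by positivity
  obtain ⟨Q, hQ⟩ : ∃ Q : ℕ, Q = p ^ e := ⟨_, rfl⟩
  have hQz : ((p : ℤ) ^ e) = (Q : ℤ) := by rw [hQ]; push_cast; rfl
  have hQ0 : Q ≠ 0 := by rw [hQ]; positivity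
  have hQz0 : (Q : ℤ) ≠ 0 := by exact_mod_cast hQ0
  rw [hQz] at hh ⊢
  obtain ⟨P, hP⟩ : ∃ P : Polynomial ℤ, P = ∏ i, minpoly ℤ (π i) := ⟨_, rfl⟩
  rw [← hP] at hh
  have hmon : ∀ i, (minpoly ℤ (π i)).Monic := fun i => minpoly.monic (hint i)
  have hPm : P.Monic := by
    rw [hP]; exact Polynomial.monic_prod_of_monic _ _ (fun i _ => hmon i)
  have hPdeg : P.natDegree = 2 * D := by
    rw [hP, Polynomial.natDegree_prod_of_monic _ _ (fun i _ => hmon i)]; exact hD
  -- constant coefficient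
  have hc := coeff_zero_weil ι (fun i => minpoly ℤ (π i)) hmon ((p : ℝ) ^ e) hpR.le hweil D hD
  rw [← hP] at hc
  obtain ⟨s, hs, hc0⟩ : ∃ s : ℤ, s * s = 1 ∧ P.coeff 0 = s * (Q : ℤ) ^ D := by
    have h1 : |P.coeff 0| = (Q : ℤ) ^ D := by
      have h2 : ((|P.coeff 0| : ℤ) : ℝ) = (((Q : ℤ) ^ D : ℤ) : ℝ) := by
        rw [Int.cast_abs, hc, hQ]; push_cast; rfl
      exact_mod_cast h2
    rcases (abs_eq (by positivity)).1 h1 with h2 | h2
    · exact ⟨1, by ring, by rw [h2]; ring⟩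
    · exact ⟨-1, by ring, by rw [h2]; ring⟩
  -- decomposition of h
  obtain ⟨h₀, h₁, hh0⟩ := decomp h
  obtain ⟨hcD, hcDD⟩ := coeff_h0 Q D P hPdeg hQ0 s hc0 h h₀ h₁ hh0 hh
  have hreg := reg_of_coeff Q h₀ D s hs hcD hcDD
  have hFreg := F_pow_reg_gh (Q : ℤ) hQz0 h h₀ h₁ hh0 hreg
  have hπ0 : ∀ i, π i ≠ 0 := by
    intro i h0
    have h1 : (0 : ℂ) ∈ (minpoly ℤ (π i)).aroots ℂ := by
      rw [Polynomial.mem_aroots]
      refine ⟨(hmon i).ne_zero, ?_⟩
      obtain ⟨mp, hmp⟩ : ∃ mp : Polynomial ℤ, mp = minpoly ℤ (π i) := ⟨_, rfl⟩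
      rw [← hmp]
      have h2 : Polynomial.aeval (π i) mp = 0 := by rw [hmp]; exact minpoly.aeval _ _
      rw [h0, ← Polynomial.coeff_zero_eq_aeval_zero', eq_intCast, Int.cast_eq_zero] at h2
      rw [← Polynomial.coeff_zero_eq_aeval_zero', h2, map_zero]
    have h2 := hweil i 0 h1
    rw [norm_zero] at h2
    have h3 : (0 : ℝ) < Real.sqrt ((p : ℝ) ^ e) := Real.sqrt_pos.2 hpR
    linarith
  obtain ⟨φ, hφ⟩ : ∃ φ : MvPolynomial (Fin 2) ℤ →ₐ[ℤ] ((i : ι) → K i),
      φ = MvPolynomial.aeval ![fun i => π i, fun i => ((p : K i) ^ e) / π i] := ⟨_, rfl⟩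
  rw [← hφ]
  obtain ⟨ψ, hψ⟩ : ∃ ψ : ∀ i, MvPolynomial (Fin 2) ℤ →ₐ[ℤ] K i,
      ψ = fun i => MvPolynomial.aeval ![π i, ((p : K i) ^ e) / π i] := ⟨_, rfl⟩
  have hψ0 : ∀ i, ψ i (X 0) = π i := by intro i; simp [hψ]
  have hψ1 : ∀ i, ψ i (X 1) = ((p : K i) ^ e) / π i := by intro i; simp [hψ]
  have hφi : ∀ i a, φ a i = ψ i a := by
    intro i a
    have e1 : (Pi.evalAlgHom ℤ K i).comp φ = ψ i := by
      apply MvPolynomial.algHom_ext
      intro k
      have hk : k = 0 ∨ k = 1 := by fin_cases k <;> simp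
      rcases hk with rfl | rfl <;> simp [hφ, hψ]
    exact DFunLike.congr_fun e1 a
  have hψC : ∀ i, ψ i (C (Q : ℤ)) = (p : K i) ^ e := by
    intro i
    rw [← MvPolynomial.algebraMap_eq, AlgHom.commutes, eq_intCast, hQ]
    push_cast
    rfl
  have hφg : ∀ i, ψ i (X 0 * X 1 - C (Q : ℤ)) = 0 := by
    intro i
    rw [map_sub, map_mul, hψ0, hψ1, hψC, mul_div_cancel₀ _ (hπ0 i), sub_self]
  have hφP : ∀ i, Polynomial.aeval (π i) P = 0 := by
    intro i
    rw [hP, map_prod]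
    exact Finset.prod_eq_zero (Finset.mem_univ i) (minpoly.aeval ℤ (π i))
  have hφh : ∀ i, ψ i h = 0 := by
    intro i
    obtain ⟨w, hw⟩ := Ideal.mem_span_singleton'.1 hh
    have h1 : ψ i (X 0 ^ D * h - Polynomial.aeval (X 0 : MvPolynomial (Fin 2) ℤ) P) = 0 := by
      rw [← hw, map_mul, hφg i, mul_zero]
    rw [map_sub, map_mul, map_pow, ← Polynomial.aeval_algHom_apply, hψ0, hφP i, sub_zero] at h1
    rcases mul_eq_zero.1 h1 with h2 | h2
    · exact absurd h2 (pow_ne_zero _ (hπ0 i))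
    · exact h2
  have hker : ∀ a, a ∈ RingHom.ker φ ↔ ∀ i, ψ i a = 0 := by
    intro a
    rw [RingHom.mem_ker]
    constructor
    · intro h1 i
      rw [← hφi, h1]
      rfl
    · intro h1
      funext i
      rw [hφi, h1 i]
      rfl
  have hgI : (X 0 * X 1 - C (Q : ℤ) : MvPolynomial (Fin 2) ℤ) ∈
      Ideal.span {(X 0 * X 1 - C (Q : ℤ) : MvPolynomial (Fin 2) ℤ)} := Ideal.subset_span rfl
  refine ⟨le_antisymm ?_ ?_, ?_⟩
  · intro a ha
    rw [hker] at ha
    obtain ⟨n, A, hA⟩ := clear (Q : ℤ) _ 0 1 (by intro k; fin_cases k <;> simp) hgI a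
    obtain ⟨w, hw⟩ := Ideal.mem_span_singleton'.1 hA
    have hA0 : ∀ i, Polynomial.aeval (π i) A = 0 := by
      intro i
      have h1 := congrArg (ψ i) hw
      rw [map_mul, hφg i, mul_zero, map_sub, map_mul, ha i, mul_zero, zero_sub,
        ← Polynomial.aeval_algHom_apply, hψ0] at h1
      exact neg_eq_zero.1 h1.symm
    have hdvd : P ∣ A := by
      rw [hP]
      apply Fintype.prod_dvd_of_isRelPrime
      · intro i j hij
        show IsRelPrime (minpoly ℤ (π i)) (minpoly ℤ (π j))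
        rw [(minpoly.irreducible (hint i)).isRelPrime_iff_not_dvd]
        intro hd
        exact hij (hinj i j (Polynomial.eq_of_monic_of_associated (hmon i) (hmon j)
          ((minpoly.irreducible (hint i)).associated_of_dvd (minpoly.irreducible (hint j)) hd)))
      · intro i
        exact minpoly.isIntegrallyClosed_dvd (hint i) (hA0 i)
    obtain ⟨B, hB⟩ := hdvd
    obtain ⟨w', hw'⟩ := Ideal.mem_span_singleton'.1 hh
    rw [hB, map_mul] at hw
    have e : X 0 ^ n * a =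
        (w - w' * Polynomial.aeval (X 0 : MvPolynomial (Fin 2) ℤ) B) * (X 0 * X 1 - C (Q : ℤ)) +
          (X 0 ^ D * Polynomial.aeval (X 0 : MvPolynomial (Fin 2) ℤ) B) * h := by
      linear_combination (-1 : MvPolynomial (Fin 2) ℤ) * hw +
        (Polynomial.aeval (X 0 : MvPolynomial (Fin 2) ℤ) B) * hw'
    apply hFreg n a
    rw [e]
    exact Ideal.add_mem _ (Ideal.mul_mem_left _ _ (Ideal.subset_span (by simp)))
      (Ideal.mul_mem_left _ _ (Ideal.subset_span (by simp)))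
  · rw [Ideal.span_le]
    intro x hx
    rcases hx with rfl | hx
    · exact (hker _).2 hφg
    · rw [Set.mem_singleton_iff] at hx
      rw [hx]
      exact (hker _).2 hφh
  · apply weaklyRegular_pair
    · intro b hb
      rcases mul_eq_zero.1 hb with h1 | h1
      · exfalso
        have h2 := congrArg ev0 h1
        rw [map_sub, map_mul, ev0_X0, ev0_C, zero_mul, zero_sub, map_zero, neg_eq_zero,
          Polynomial.C_eq_zero] at h2
        exact hQz0 h2
      · exact h1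
    · intro b hb
      obtain ⟨n, A, hA⟩ := clear (Q : ℤ) _ 0 1 (by intro k; fin_cases k <;> simp) hgI b
      have e : Polynomial.aeval (X 0 : MvPolynomial (Fin 2) ℤ) (A * P) =
          X 0 ^ n * X 0 ^ D * (h * b)
            - (X 0 ^ n * b) * (X 0 ^ D * h - Polynomial.aeval (X 0 : MvPolynomial (Fin 2) ℤ) P)
            - (X 0 ^ n * b - Polynomial.aeval (X 0 : MvPolynomial (Fin 2) ℤ) A) * (X 0 ^ D * h)
            + (X 0 ^ n * b - Polynomial.aeval (X 0 : MvPolynomial (Fin 2) ℤ) A) *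
              (X 0 ^ D * h - Polynomial.aeval (X 0 : MvPolynomial (Fin 2) ℤ) P) := by
        simp only [map_mul]
        ring
      have hmem : Polynomial.aeval (X 0 : MvPolynomial (Fin 2) ℤ) (A * P) ∈
          Ideal.span {(X 0 * X 1 - C (Q : ℤ) : MvPolynomial (Fin 2) ℤ)} := by
        rw [e]
        exact Ideal.add_mem _ (Ideal.sub_mem _ (Ideal.sub_mem _ (Ideal.mul_mem_left _ _ hb)
          (Ideal.mul_mem_left _ _ hh)) (Ideal.mul_mem_right _ _ hA)) (Ideal.mul_mem_right _ _ hA)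
      have hAP := polyF_eq_zero _ _ hmem
      have hA00 : A = 0 := (mul_eq_zero.1 hAP).resolve_right hPm.ne_zero
      rw [hA00, map_zero, sub_zero] at hA
      exact F_pow_reg_g (Q : ℤ) hQz0 n b hA

end

end Groth.Agent.Helper8.WeilKer
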