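import Mathlib
import Groth.Agent.Helper8.WeilKer

set_option autoImplicit false

universe u

namespace Groth.Agent.Helper8.WeilMod

open MvPolynomial

noncomputable section

theorem setup (p e : ℕ) [Fact p.Prime]
    (ι : Type) [Fintype ι] (K : ι → Type u) [∀ i, Field (K i)] [∀ i, CharZero (K i)]
    (π : ∀ i, K i) (hint : ∀ i, IsIntegral ℤ (π i))
    (hweil : ∀ i, ∀ z ∈ (minpoly ℤ (π i)).aroots ℂ, ‖z‖ = Real.sqrt ((p : ℝ) ^ e))
    (hinj : ∀ i j, minpoly ℤ (π i) = minpoly ℤ (π j) → i = j)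
    (D : ℕ) (hD : ∑ i, (minpoly ℤ (π i)).natDegree = 2 * D)
    (φ : MvPolynomial (Fin 2) ℤ →ₐ[ℤ] ((i : ι) → K i))
    (hφ : φ = MvPolynomial.aeval ![fun i => π i, fun i => ((p : K i) ^ e) / π i]) :
    (∏ i, minpoly ℤ (π i)).coeff 0 ≠ 0 ∧
    φ (X 0 * X 1 - C ((p : ℤ) ^ e)) = 0 ∧
    φ (Polynomial.aeval (X 0 : MvPolynomial (Fin 2) ℤ) (∏ i, minpoly ℤ (π i))) = 0 ∧
    ∀ a, φ a = 0 → ∃ (n : ℕ) (B : Polynomial ℤ),
      X 0 ^ n * a -
        Polynomial.aeval (X 0 : MvPolynomial (Fin 2) ℤ) ((∏ i, minpoly ℤ (π i)) * B) ∈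
        Ideal.span {(X 0 * X 1 - C ((p : ℤ) ^ e) : MvPolynomial (Fin 2) ℤ)} := by
  have hp : 0 < p := (Fact.out : p.Prime).pos
  have hpR : (0 : ℝ) < (p : ℝ) ^ e := by positivity
  obtain ⟨P, hP⟩ : ∃ P : Polynomial ℤ, P = ∏ i, minpoly ℤ (π i) := ⟨_, rfl⟩
  rw [← hP]
  have hmon : ∀ i, (minpoly ℤ (π i)).Monic := fun i => minpoly.monic (hint i)
  have hc := WeilKer.coeff_zero_weil ι (fun i => minpoly ℤ (π i)) hmon ((p : ℝ) ^ e) hpR.le
    hweil D hD
  rw [← hP] at hc
  have hc0 : P.coeff 0 ≠ 0 := by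
    intro h0
    rw [h0, Int.cast_zero, abs_zero] at hc
    have : (0 : ℝ) < ((p : ℝ) ^ e) ^ D := by positivity
    linarith
  have hπ0 : ∀ i, π i ≠ 0 := by
    intro i h0
    have h1 : (0 : ℂ) ∈ (minpoly ℤ (π i)).aroots ℂ := by
      rw [Polynomial.mem_aroots]
      refine ⟨(hmon i).ne_zero, ?_⟩
      obtain ⟨mp, hmp⟩ : ∃ mp : Polynomial ℤ, mp = minpoly ℤ (π i) := ⟨_, rfl⟩
      rw [← hmp]
      have h2 : Polynomial.aeval (π i) mp = 0 := by rw [hmp]; exact minpoly.aeval _ _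
      rw [h0, ← Polynomial.coeff_zero_eq_aeval_zero', eq_intCast, Int.cast_eq_zero] at h2
      rw [← Polynomial.coeff_zero_eq_aeval_zero', h2, map_zero]
    have h2 := hweil i 0 h1
    rw [norm_zero] at h2
    have h3 : (0 : ℝ) < Real.sqrt ((p : ℝ) ^ e) := Real.sqrt_pos.2 hpR
    linarith
  obtain ⟨ψ, hψ⟩ : ∃ ψ : ∀ i, MvPolynomial (Fin 2) ℤ →ₐ[ℤ] K i,
      ψ = fun i => MvPolynomial.aeval ![π i, ((p : K i) ^ e) / π i] := ⟨_, rfl⟩
  have hψ0 : ∀ i, ψ i (X 0) = π i := by intro i; simp [hψ]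
  have hψ1 : ∀ i, ψ i (X 1) = ((p : K i) ^ e) / π i := by intro i; simp [hψ]
  have hφi : ∀ i a, φ a i = ψ i a := by
    intro i a
    have e1 : (Pi.evalAlgHom ℤ K i).comp φ = ψ i := by
      apply MvPolynomial.algHom_ext
      intro k
      have hk : k = 0 ∨ k = 1 := by fin_cases k <;> simp
      rcases hk with rfl | rfl <;> simp [hφ, hψ]
    exact DFunLike.congr_fun e1 a
  have hψC : ∀ i, ψ i (C ((p : ℤ) ^ e)) = (p : K i) ^ e := by
    intro i
    rw [← MvPolynomial.algebraMap_eq, AlgHom.commutes, eq_intCast]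
    push_cast
    rfl
  have hφg : ∀ i, ψ i (X 0 * X 1 - C ((p : ℤ) ^ e)) = 0 := by
    intro i
    rw [map_sub, map_mul, hψ0, hψ1, hψC, mul_div_cancel₀ _ (hπ0 i), sub_self]
  have hφP : ∀ i, Polynomial.aeval (π i) P = 0 := by
    intro i
    rw [hP, map_prod]
    exact Finset.prod_eq_zero (Finset.mem_univ i) (minpoly.aeval ℤ (π i))
  have hker : ∀ a, φ a = 0 ↔ ∀ i, ψ i a = 0 := by
    intro a
    constructor
    · intro h1 i
      rw [← hφi, h1]
      rfl
    · intro h1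
      funext i
      rw [hφi, h1 i]
      rfl
  have hgI : (X 0 * X 1 - C ((p : ℤ) ^ e) : MvPolynomial (Fin 2) ℤ) ∈
      Ideal.span {(X 0 * X 1 - C ((p : ℤ) ^ e) : MvPolynomial (Fin 2) ℤ)} :=
    Ideal.subset_span rfl
  refine ⟨hc0, (hker _).2 hφg, ?_, ?_⟩
  · rw [hker]
    intro i
    rw [← Polynomial.aeval_algHom_apply, hψ0, hφP]
  · intro a ha
    rw [hker] at ha
    obtain ⟨n, A, hA⟩ := WeilKer.clear ((p : ℤ) ^ e) _ 0 1
      (by intro k; fin_cases k <;> simp) hgI a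
    obtain ⟨w, hw⟩ := Ideal.mem_span_singleton'.1 hA
    have hA0 : ∀ i, Polynomial.aeval (π i) A = 0 := by
      intro i
      have h1 := congrArg (ψ i) hw
      rw [map_mul, hφg i, mul_zero, map_sub, map_mul, ha i, mul_zero, zero_sub,
        ← Polynomial.aeval_algHom_apply, hψ0] at h1
      exact neg_eq_zero.1 h1.symm
    have hdvd : P ∣ A := by
      rw [hP]
      apply Fintype.prod_dvd_of_isRelPrime
      · intro i j hij
        show IsRelPrime (minpoly ℤ (π i)) (minpoly ℤ (π j))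
        rw [(minpoly.irreducible (hint i)).isRelPrime_iff_not_dvd]
        intro hd
        exact hij (hinj i j (Polynomial.eq_of_monic_of_associated (hmon i) (hmon j)
          ((minpoly.irreducible (hint i)).associated_of_dvd (minpoly.irreducible (hint j)) hd)))
      · intro i
        exact minpoly.isIntegrallyClosed_dvd (hint i) (hA0 i)
    obtain ⟨B, hB⟩ := hdvd
    exact ⟨n, B, by rw [← hB]; exact hA⟩

theorem hom_of_module {S : Type*} [Ring S] (T : Type*) [AddCommGroup T] [Module S T] :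
    ∃ ρ : S →+* Module.End ℤ T, ∀ r t, ρ r t = r • t :=
  ⟨(addMonoidEndRingEquivInt T).toRingHom.comp (Module.toAddMonoidEnd S T), fun _ _ => rfl⟩

theorem module_of_hom {A S : Type*} [CommRing A] [CommRing S] (φ : A →ₐ[ℤ] S)
    (T : Type*) [AddCommGroup T] (Φ : A →+* Module.End ℤ T) (hker : ∀ a, φ a = 0 → Φ a = 0) :
    ∃ _ : Module φ.range T, ∀ (x : A) (t : T),
      (⟨φ x, AlgHom.mem_range_self φ x⟩ : φ.range) • t = Φ x t := by
  obtain ⟨f, hf⟩ : ∃ f : A →+* φ.range, f = φ.rangeRestrict.toRingHom := ⟨_, rfl⟩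
  have hfs : Function.Surjective f := by
    rw [hf]
    exact φ.rangeRestrict_surjective
  have hk : RingHom.ker f ≤ RingHom.ker Φ := by
    intro a ha
    rw [RingHom.mem_ker] at ha ⊢
    apply hker
    have h1 := congrArg Subtype.val ha
    rw [hf] at h1
    exact h1
  refine ⟨Module.compHom T (f.liftOfSurjective hfs ⟨Φ, hk⟩), ?_⟩
  intro x t
  have h1 : (f.liftOfSurjective hfs ⟨Φ, hk⟩) (f x) = Φ x :=
    RingHom.liftOfSurjective_comp_apply f hfs ⟨Φ, hk⟩ x
  have e : f x = ⟨φ x, AlgHom.mem_range_self φ x⟩ := by rw [hf]; rfl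
  rw [← h1, e]
  rfl

theorem exists_hom (T : Type*) [AddCommGroup T] (FT VT : T →ₗ[ℤ] T) (hc : FT * VT = VT * FT) :
    ∃ Φ : MvPolynomial (Fin 2) ℤ →ₐ[ℤ] Module.End ℤ T, Φ (X 0) = FT ∧ Φ (X 1) = VT := by
  have hcomm : ∀ a ∈ ({FT, VT} : Set (Module.End ℤ T)),
      ∀ b ∈ ({FT, VT} : Set (Module.End ℤ T)), a * b = b * a := by
    intro a ha b hb
    simp only [Set.mem_insert_iff, Set.mem_singleton_iff] at ha hb
    rcases ha with ha | ha <;> rcases hb with hb | hb <;> rw [ha, hb]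
    · exact hc
    · exact hc.symm
  letI : CommRing (Algebra.adjoin ℤ ({FT, VT} : Set (Module.End ℤ T))) :=
    Algebra.adjoinCommRingOfComm ℤ hcomm
  let fT : Algebra.adjoin ℤ ({FT, VT} : Set (Module.End ℤ T)) :=
    ⟨FT, Algebra.subset_adjoin (by simp)⟩
  let vT : Algebra.adjoin ℤ ({FT, VT} : Set (Module.End ℤ T)) :=
    ⟨VT, Algebra.subset_adjoin (by simp)⟩
  refine ⟨(Subalgebra.val _).comp (MvPolynomial.aeval ![fT, vT]), ?_, ?_⟩
  · simp [fT]
  · simp [vT]

theorem main03 (p e : ℕ) [Fact p.Prime] (he : 0 < e)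
    (ι : Type) [Fintype ι] (K : ι → Type u) [∀ i, Field (K i)] [∀ i, CharZero (K i)]
    (π : ∀ i, K i)
    (hint : ∀ i, IsIntegral ℤ (π i))
    (hweil : ∀ i, ∀ z ∈ (minpoly ℤ (π i)).aroots ℂ, ‖z‖ = Real.sqrt ((p : ℝ) ^ e))
    (hinj : ∀ i j, minpoly ℤ (π i) = minpoly ℤ (π j) → i = j)
    (D : ℕ) (hD : ∑ i, (minpoly ℤ (π i)).natDegree = 2 * D)
    (T : Type) [AddCommGroup T] [Module.Finite ℤ T] [Module.Free ℤ T] (FT : T →ₗ[ℤ] T)
    (φ : MvPolynomial (Fin 2) ℤ →ₐ[ℤ] ((i : ι) → K i))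
    (hφ : φ = MvPolynomial.aeval ![fun i => π i, fun i => ((p : K i) ^ e) / π i]) :
    (∃ _ : Module φ.range T,
        ∀ t : T, (⟨φ (X 0), AlgHom.mem_range_self _ _⟩ : φ.range) • t = FT t) ↔
      (Polynomial.aeval FT (∏ i, minpoly ℤ (π i)) = 0 ∧
        ∃ VT : T →ₗ[ℤ] T, FT ∘ₗ VT = ((p : ℤ) ^ e) • LinearMap.id) := by
  obtain ⟨hc0, hg, hP, hclear⟩ := setup p e ι K π hint hweil hinj D hD φ hφ
  obtain ⟨P, hPdef⟩ : ∃ P : Polynomial ℤ, P = ∏ i, minpoly ℤ (π i) := ⟨_, rfl⟩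
  rw [← hPdef] at hc0 hP hclear ⊢
  constructor
  · rintro ⟨inst, hF⟩
    obtain ⟨ρ, hρ⟩ := hom_of_module (S := φ.range) T
    obtain ⟨xF, hxF⟩ : ∃ xF : φ.range, xF = ⟨φ (X 0), AlgHom.mem_range_self _ _⟩ := ⟨_, rfl⟩
    obtain ⟨xV, hxV⟩ : ∃ xV : φ.range, xV = ⟨φ (X 1), AlgHom.mem_range_self _ _⟩ := ⟨_, rfl⟩
    rw [← hxF] at hF
    have hFT : FT = ρ xF := LinearMap.ext (fun t => by rw [hρ]; exact (hF t).symm)
    constructor
    · have h1 : Polynomial.aeval xF P = 0 := by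
        apply Subtype.ext
        have h2 := Polynomial.aeval_algHom_apply (Subalgebra.val φ.range) xF P
        rw [Subalgebra.coe_zero]
        show (Subalgebra.val φ.range) (Polynomial.aeval xF P) = 0
        rw [← h2, hxF]
        show Polynomial.aeval (φ (X 0)) P = 0
        rw [Polynomial.aeval_algHom_apply]
        exact hP
      have h3 := Polynomial.aeval_algHom_apply ρ.toIntAlgHom xF P
      rw [h1, map_zero] at h3
      rw [hFT]
      exact h3
    · refine ⟨ρ xV, ?_⟩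
      ext t
      rw [LinearMap.comp_apply, hρ, ← hF, smul_smul]
      have h4 : xF * xV = ((p ^ e : ℕ) : φ.range) := by
        apply Subtype.ext
        rw [hxF, hxV]
        show φ (X 0) * φ (X 1) = ((p ^ e : ℕ) : (i : ι) → K i)
        rw [map_sub, map_mul, sub_eq_zero] at hg
        rw [hg, ← MvPolynomial.algebraMap_eq, AlgHom.commutes, eq_intCast]
        norm_cast
      rw [h4, Nat.cast_smul_eq_nsmul (φ.range), LinearMap.smul_apply, LinearMap.id_apply,
        ← natCast_zsmul]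
      norm_cast
  · rintro ⟨hP0, VT, hFV⟩
    have hinjF : ∀ t, FT t = 0 → t = 0 := by
      intro t ht
      have h1 : (Polynomial.aeval FT P) t = P.coeff 0 • t := by
        conv_lhs => rw [← Polynomial.divX_mul_X_add P]
        rw [map_add, map_mul, Polynomial.aeval_X, Polynomial.aeval_C, LinearMap.add_apply,
          Module.End.mul_apply, ht, map_zero, zero_add, Module.algebraMap_end_apply]
      rw [hP0, LinearMap.zero_apply] at h1
      exact (smul_eq_zero.1 h1.symm).resolve_left hc0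
    have hVF : VT ∘ₗ FT = ((p : ℤ) ^ e) • LinearMap.id := by
      ext t
      apply sub_eq_zero.1
      apply hinjF
      have h1 : FT (VT (FT t)) = ((p : ℤ) ^ e) • FT t := by
        have h2 := LinearMap.congr_fun hFV (FT t)
        rw [LinearMap.comp_apply, LinearMap.smul_apply, LinearMap.id_apply] at h2
        exact h2
      rw [map_sub, LinearMap.comp_apply, h1, LinearMap.smul_apply, LinearMap.id_apply,
        map_zsmul, sub_self]
    have hcomm : FT * VT = VT * FT := by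
      rw [Module.End.mul_eq_comp, Module.End.mul_eq_comp, hFV, hVF]
    obtain ⟨Φ, hΦ0, hΦ1⟩ := exists_hom T FT VT hcomm
    have hΦg : Φ (X 0 * X 1 - C ((p : ℤ) ^ e)) = 0 := by
      rw [map_sub, map_mul, hΦ0, hΦ1, ← MvPolynomial.algebraMap_eq, AlgHom.commutes,
        Module.End.mul_eq_comp, hFV, Algebra.algebraMap_eq_smul_one, Module.End.one_eq_id,
        sub_self]
    have hFpow : ∀ n t, (FT ^ n) t = 0 → t = 0 := by
      intro n
      induction n with
      | zero =>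
        intro t ht
        simpa using ht
      | succ n ih =>
        intro t ht
        rw [pow_succ, Module.End.mul_apply] at ht
        exact hinjF t (ih _ ht)
    have hker : ∀ a, φ a = 0 → Φ.toRingHom a = 0 := by
      intro a ha
      obtain ⟨n, B, hmem⟩ := hclear a ha
      obtain ⟨w, hw⟩ := Ideal.mem_span_singleton'.1 hmem
      have h1 := congrArg Φ hw
      rw [map_mul, hΦg, mul_zero, map_sub, map_mul, map_pow, hΦ0,
        ← Polynomial.aeval_algHom_apply, hΦ0, map_mul (Polynomial.aeval FT), hP0, zero_mul,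
        sub_zero] at h1
      show Φ a = 0
      ext t
      have h2 := LinearMap.congr_fun h1.symm t
      rw [Module.End.mul_apply, LinearMap.zero_apply] at h2
      rw [LinearMap.zero_apply]
      exact hFpow n _ h2
    obtain ⟨inst, hinst⟩ := module_of_hom φ T Φ.toRingHom hker
    refine ⟨inst, fun t => ?_⟩
    have h5 := hinst (X 0) t
    rw [show Φ.toRingHom (X 0) = Φ (X 0) from rfl, hΦ0] at h5
    exact h5

end

end Groth.Agent.Helper8.WeilMod
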