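import Mathlib
import Groth.Agent.Helper8.WeilCoef

set_option autoImplicit false
universe u

namespace Groth.Agent.Helper8.WeilOrd
open Polynomial

section ultra
variable {Ω : Type*} [NormedField Ω] [IsUltrametricDist Ω]

lemma nsub_le {x y : Ω} (hx : ‖x‖ ≤ 1) (hy : ‖y‖ ≤ 1) : ‖x - y‖ ≤ 1 := by
  rw [sub_eq_add_neg]
  exact le_trans (IsUltrametricDist.norm_add_le_max _ _) (max_le hx (by rwa [norm_neg]))

lemma nsub_lt {x y : Ω} (hx : ‖x‖ < 1) (hy : ‖y‖ < 1) : ‖x - y‖ < 1 := by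
  rw [sub_eq_add_neg]
  exact lt_of_le_of_lt (IsUltrametricDist.norm_add_le_max _ _) (max_lt hx (by rwa [norm_neg]))

lemma nsub_eq_left {x y : Ω} (hx : ‖x‖ = 1) (hy : ‖y‖ < 1) : ‖x - y‖ = 1 := by
  rw [sub_eq_add_neg, IsUltrametricDist.norm_add_eq_max_of_norm_ne_norm (by
    rw [norm_neg, hx]; exact hy.ne'), norm_neg, hx]
  exact max_eq_left hy.le

lemma nsub_eq_right {x y : Ω} (hx : ‖x‖ < 1) (hy : ‖y‖ = 1) : ‖x - y‖ = 1 := by
  rw [sub_eq_add_neg, IsUltrametricDist.norm_add_eq_max_of_norm_ne_norm (by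
    rw [norm_neg, hy]; exact hx.ne), norm_neg, hy]
  exact max_eq_right hx.le

/-- Newton polygon, first slope: the lowest coefficient of norm one of `∏ (X - ρ)` sits at the
number of roots of norm `< 1`. -/
lemma key (s : Multiset Ω) (hs : ∀ ρ ∈ s, ‖ρ‖ ≤ 1) :
    (∀ j, ‖((s.map (fun ρ => X - C ρ)).prod).coeff j‖ ≤ 1) ∧
    (∀ j < Multiset.card (s.filter (fun ρ => ‖ρ‖ < 1)),
      ‖((s.map (fun ρ => X - C ρ)).prod).coeff j‖ < 1) ∧
    ‖((s.map (fun ρ => X - C ρ)).prod).coeff (Multiset.card (s.filter (fun ρ => ‖ρ‖ < 1)))‖ = 1 := by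
  classical
  induction s using Multiset.induction_on with
  | empty =>
    refine ⟨fun j => ?_, fun j hj => ?_, ?_⟩
    · simp only [Multiset.map_zero, Multiset.prod_zero, coeff_one]
      split_ifs <;> simp
    · simp at hj
    · simp
  | cons ρ s ih =>
    have hρ : ‖ρ‖ ≤ 1 := hs ρ (Multiset.mem_cons_self ρ s)
    obtain ⟨ih1, ih2, ih3⟩ := ih (fun x hx => hs x (Multiset.mem_cons_of_mem hx))
    set F := (s.map (fun ρ => X - C ρ)).prod with hF
    set w := Multiset.card (s.filter (fun ρ => ‖ρ‖ < 1)) with hw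
    have hprod : ((ρ ::ₘ s).map (fun ρ => X - C ρ)).prod = (X - C ρ) * F := by
      rw [Multiset.map_cons, Multiset.prod_cons]
    rw [hprod]
    have hc0 : ((X - C ρ) * F).coeff 0 = - (ρ * F.coeff 0) := by
      rw [mul_coeff_zero]; simp
    have hcs : ∀ j, ((X - C ρ) * F).coeff (j + 1) = F.coeff j - ρ * F.coeff (j + 1) :=
      fun j => coeff_X_sub_C_mul
    have hall : ∀ j, ‖((X - C ρ) * F).coeff j‖ ≤ 1 := by
      intro j
      cases j with
      | zero =>
        rw [hc0, norm_neg, norm_mul]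
        exact mul_le_one₀ hρ (norm_nonneg _) (ih1 0)
      | succ j =>
        rw [hcs]
        apply nsub_le (ih1 j)
        rw [norm_mul]
        exact mul_le_one₀ hρ (norm_nonneg _) (ih1 _)
    refine ⟨hall, ?_⟩
    by_cases hlt : ‖ρ‖ < 1
    · have hcard : Multiset.card ((ρ ::ₘ s).filter (fun ρ => ‖ρ‖ < 1)) = w + 1 := by
        rw [Multiset.filter_cons_of_pos (p := fun ρ : Ω => ‖ρ‖ < 1) s hlt, Multiset.card_cons]
      rw [hcard]
      have hsmall : ∀ j, ‖ρ * F.coeff j‖ < 1 := by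
        intro j
        rw [norm_mul]
        calc ‖ρ‖ * ‖F.coeff j‖ ≤ ‖ρ‖ * 1 := mul_le_mul_of_nonneg_left (ih1 j) (norm_nonneg _)
          _ < 1 := by rw [mul_one]; exact hlt
      constructor
      · intro j hj
        cases j with
        | zero => rw [hc0, norm_neg]; exact hsmall 0
        | succ j =>
          rw [hcs]
          exact nsub_lt (ih2 j (by omega)) (hsmall _)
      · rw [hcs]
        exact nsub_eq_left ih3 (hsmall _)
    · have hρ1 : ‖ρ‖ = 1 := le_antisymm hρ (not_lt.1 hlt)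
      have hcard : Multiset.card ((ρ ::ₘ s).filter (fun ρ => ‖ρ‖ < 1)) = w := by
        rw [Multiset.filter_cons_of_neg (p := fun ρ : Ω => ‖ρ‖ < 1) s hlt]
      rw [hcard]
      have hsame : ∀ j, ‖ρ * F.coeff j‖ = ‖F.coeff j‖ := by
        intro j; rw [norm_mul, hρ1, one_mul]
      constructor
      · intro j hj
        cases j with
        | zero => rw [hc0, norm_neg, hsame]; exact ih2 0 hj
        | succ j =>
          rw [hcs]
          refine nsub_lt (ih2 j (by omega)) ?_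
          rw [hsame]; exact ih2 _ hj
      · rcases Nat.eq_zero_or_pos w with h0 | hpos
        · rw [h0, hc0, norm_neg, hsame]
          rw [h0] at ih3; exact ih3
        · obtain ⟨w', hw'⟩ : ∃ w', w = w' + 1 := ⟨w - 1, by omega⟩
          rw [hw', hcs]
          refine nsub_eq_right (ih2 w' (by omega)) ?_
          rw [hsame, ← hw']; exact ih3

end ultra


section padic
open scoped NNReal
variable (p : ℕ) [Fact p.Prime]

lemma norm_intCast (a : ℤ) : ‖((a : ℤ) : PadicAlgCl p)‖ = ‖(a : ℚ_[p])‖ := by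
  have : ((a : ℤ) : PadicAlgCl p) = algebraMap ℚ_[p] (PadicAlgCl p) (a : ℚ_[p]) := by simp
  rw [this]; exact PadicAlgCl.norm_extends p _

lemma norm_root_le_one (P : ℤ[X]) (hm : P.Monic) (ρ : PadicAlgCl p)
    (hρ : ρ ∈ P.aroots (PadicAlgCl p)) : ‖ρ‖ ≤ 1 := by
  have hint : IsIntegral ℤ ρ := ⟨P, hm, by
    have := (mem_aroots.1 hρ).2
    simpa [aeval_def] using this⟩
  have hv := Valuation.integer.integers (Valued.v : Valuation (PadicAlgCl p) ℝ≥0)
  have h1 : IsIntegral (Valued.v : Valuation (PadicAlgCl p) ℝ≥0).integer ρ := hint.tower_top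
  have h2 := hv.isIntegral_iff_v_le_one.1 h1
  have := PadicAlgCl.valuation_coe p ρ
  rw [← this]; exact_mod_cast h2

theorem per_poly (P : ℤ[X]) (hm : P.Monic) (d : ℕ) (hdeg : P.natDegree = 2 * d)
    (hsym : ∀ r, 1 ≤ r → r ≤ d → (p : ℤ) ∣ P.coeff (d - r))
    [inst : DecidablePred fun z : PadicAlgCl p => ‖z‖ = 1] :
    2 * Multiset.card ((P.aroots (PadicAlgCl p)).filter (fun z => ‖z‖ = 1)) = P.natDegree ↔
      ¬ (p : ℤ) ∣ P.coeff d := by
  set Ω := PadicAlgCl p with hΩ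
  set s := P.aroots Ω with hs
  have hQm : (P.map (algebraMap ℤ Ω)).Monic := hm.map _
  have hsplit : (P.map (algebraMap ℤ Ω)).Splits := IsAlgClosed.splits _
  have hprod : P.map (algebraMap ℤ Ω) = (s.map (fun ρ => X - C ρ)).prod :=
    hsplit.eq_prod_roots_of_monic hQm
  have hcard : Multiset.card s = 2 * d := by
    rw [hs, aroots_def, ← hsplit.natDegree_eq_card_roots, hm.natDegree_map, hdeg]
  have hle : ∀ ρ ∈ s, ‖ρ‖ ≤ 1 := fun ρ hρ => norm_root_le_one p P hm ρ hρ
  obtain ⟨k1, k2, k3⟩ := key s hle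
  rw [← hprod] at k1 k2 k3
  set w := Multiset.card (s.filter (fun ρ => ‖ρ‖ < 1)) with hw
  have hcoef : ∀ j, ‖(P.map (algebraMap ℤ Ω)).coeff j‖ = ‖((P.coeff j : ℤ) : ℚ_[p])‖ := by
    intro j
    rw [coeff_map, eq_intCast, norm_intCast]
  have hfil : (@Multiset.filter _ (fun z => ‖z‖ = 1) inst s) = s.filter (fun z => ¬ ‖z‖ < 1) := by
    apply Multiset.filter_congr
    intro z hz
    constructor
    · intro h; rw [h]; exact lt_irrefl 1
    · intro h; exact le_antisymm (hle z hz) (not_lt.1 h)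
  have hsum : Multiset.card (@Multiset.filter _ (fun z => ‖z‖ = 1) inst s) + w = 2 * d := by
    rw [hfil, hw, add_comm, ← Multiset.card_add, Multiset.filter_add_not, hcard]
  have hlt_iff : ∀ j, ‖(P.map (algebraMap ℤ Ω)).coeff j‖ < 1 ↔ (p : ℤ) ∣ P.coeff j := by
    intro j
    rw [hcoef]; exact Padic.norm_intCast_lt_one_iff
  rw [hdeg]
  constructor
  · intro h
    have hwd : w = d := by omega
    rw [← hlt_iff, ← hwd, k3]
    exact lt_irrefl 1
  · intro h
    have h1 : ¬ d < w := fun hlt => h ((hlt_iff d).1 (k2 d hlt))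
    have h2 : ¬ w < d := by
      intro hlt
      have := hsym (d - w) (by omega) (by omega)
      rw [show d - (d - w) = w by omega, ← hlt_iff, k3] at this
      exact lt_irrefl 1 this
    omega

theorem main (e : ℕ) (he : 0 < e)
    (ι : Type) [Fintype ι] (K : ι → Type u) [∀ i, Field (K i)] [∀ i, CharZero (K i)] (π : ∀ i, K i)
    (hint : ∀ i, IsIntegral ℤ (π i))
    (hweil : ∀ i, ∀ z ∈ (minpoly ℤ (π i)).aroots ℂ, ‖z‖ = Real.sqrt ((p : ℝ) ^ e))
    (hnr : ∀ i, ∀ z ∈ (minpoly ℤ (π i)).aroots ℂ, z.im ≠ 0)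
    [DecidablePred fun z : PadicAlgCl p => ‖z‖ = 1] :
    (∀ i, 2 * Multiset.card (((minpoly ℤ (π i)).aroots (PadicAlgCl p)).filter (fun z => ‖z‖ = 1)) =
        (minpoly ℤ (π i)).natDegree) ↔
      ¬ ((p : ℤ) ∣ ∏ i, (minpoly ℤ (π i)).coeff ((minpoly ℤ (π i)).natDegree / 2)) := by
  have hp : p.Prime := Fact.out
  have hpi : Prime (p : ℤ) := Nat.prime_iff_prime_int.1 hp
  have hper : ∀ i, (2 * Multiset.card (((minpoly ℤ (π i)).aroots (PadicAlgCl p)).filter
      (fun z => ‖z‖ = 1)) = (minpoly ℤ (π i)).natDegree ↔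
      ¬ (p : ℤ) ∣ (minpoly ℤ (π i)).coeff ((minpoly ℤ (π i)).natDegree / 2)) := by
    intro i
    obtain ⟨hev, hsym⟩ := WeilCoef.main p e he (K i) (π i) (hint i) (hweil i) (hnr i)
    obtain ⟨d, hd⟩ := hev
    have hd2 : (minpoly ℤ (π i)).natDegree / 2 = d := by omega
    rw [hd2] at hsym ⊢
    apply per_poly p _ (minpoly.monic (hint i)) d (by omega)
    intro r hr1 hrd
    rw [hsym r hrd]
    apply Dvd.dvd.mul_right
    apply dvd_pow_self
    have : 0 < e * r := Nat.mul_pos he (by omega)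
    omega
  rw [hpi.dvd_finsetProd_iff]
  push Not
  constructor
  · intro h i _
    exact (hper i).1 (h i)
  · intro h i
    exact (hper i).2 (h i (Finset.mem_univ i))

end padic

end Groth.Agent.Helper8.WeilOrd
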