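import Mathlib

set_option autoImplicit false

namespace Groth.Agent.Helper8.WeilQ
open Polynomial

section pos
variable {F : Type*} [Field F] [LinearOrder F] [IsStrictOrderedRing F]

lemma quad_pos (p r : ℕ) (hp : 2 ≤ p) (hr : 2 < r) (x : F) :
    0 < x ^ 2 - (p : F) * x + (p : F) ^ r := by
  have hp1 : (1 : F) ≤ (p : F) := by exact_mod_cast (by omega : 1 ≤ p)
  have hp2 : (2 : F) ≤ (p : F) := by exact_mod_cast hp
  have h1 : (p : F) ^ 2 ≤ (p : F) ^ r := pow_le_pow_right₀ hp1 (by omega)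
  nlinarith [sq_nonneg (2 * x - (p : F)), sq_nonneg ((p : F))]

end pos

lemma irred (p r : ℕ) (hp : 2 ≤ p) (hr : 2 < r) :
    Irreducible (X ^ 2 - C (p : ℚ) * X + C ((p : ℚ) ^ r) : ℚ[X]) := by
  have hdeg : (X ^ 2 - C (p : ℚ) * X + C ((p : ℚ) ^ r) : ℚ[X]).natDegree = 2 := by
    compute_degree!
  apply irreducible_of_degree_le_three_of_not_isRoot
  · rw [hdeg]; decide
  · intro x hx
    have : eval x (X ^ 2 - C (p : ℚ) * X + C ((p : ℚ) ^ r) : ℚ[X]) = 0 := hx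
    simp only [eval_add, eval_sub, eval_pow, eval_X, eval_mul, eval_C] at this
    have := quad_pos (F := ℚ) p r hp hr x
    linarith

lemma norm_root (p r : ℕ) (hp : 2 ≤ p) (hr : 2 < r) (π : ℂ)
    (h : π ^ 2 - (p : ℂ) * π + (p : ℂ) ^ r = 0) : ‖π‖ = Real.sqrt ((p : ℝ) ^ r) := by
  have hc : (starRingEnd ℂ π) ^ 2 - (p : ℂ) * (starRingEnd ℂ π) + (p : ℂ) ^ r = 0 := by
    have := congrArg (starRingEnd ℂ) h
    simpa using this
  have hne : π ≠ starRingEnd ℂ π := by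
    intro heq
    have him : π.im = 0 := by
      have := congrArg Complex.im heq
      simp at this
      linarith
    have hre : (π.re : ℂ) = π := by
      apply Complex.ext <;> simp [him]
    rw [← hre] at h
    have h' : ((π.re ^ 2 - (p : ℝ) * π.re + (p : ℝ) ^ r : ℝ) : ℂ) = 0 := by
      push_cast; exact h
    have h'' := Complex.ofReal_eq_zero.mp h'
    have := quad_pos (F := ℝ) p r hp hr π.re
    linarith
  have hsum : π + starRingEnd ℂ π = (p : ℂ) := by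
    have : (π - starRingEnd ℂ π) * (π + starRingEnd ℂ π - (p : ℂ)) = 0 := by
      linear_combination h - hc
    rcases mul_eq_zero.mp this with h1 | h1
    · exact absurd (sub_eq_zero.mp h1) hne
    · exact sub_eq_zero.mp h1
  have hprod : π * starRingEnd ℂ π = (p : ℂ) ^ r := by
    have : starRingEnd ℂ π = (p : ℂ) - π := by rw [← hsum]; ring
    rw [this]; linear_combination -h
  rw [Complex.mul_conj] at hprod
  have h2 : Complex.normSq π = (p : ℝ) ^ r := by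
    apply Complex.ofReal_injective
    rw [hprod]; push_cast; rfl
  rw [Complex.normSq_eq_norm_sq] at h2
  rw [← h2, Real.sqrt_sq (norm_nonneg π)]

lemma padic_roots (p r : ℕ) [Fact p.Prime] (hr : 2 < r) :
    ∃ a b : ℚ_[p], a ≠ b ∧ a ^ 2 - (p : ℚ_[p]) * a + (p : ℚ_[p]) ^ r = 0 ∧
        b ^ 2 - (p : ℚ_[p]) * b + (p : ℚ_[p]) ^ r = 0 ∧ a.valuation = 1 ∧
        b.valuation = (r : ℤ) - 1 := by
  have hp : p.Prime := Fact.out
  set G : Polynomial ℤ_[p] := X ^ 2 - X + C ((p : ℤ_[p]) ^ (r - 2)) with hG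
  have e1 : aeval (1 : ℤ_[p]) G = (p : ℤ_[p]) ^ (r - 2) := by
    simp [hG]
  have e2 : aeval (1 : ℤ_[p]) (derivative G) = 1 := by
    simp only [hG, derivative_add, derivative_sub, derivative_X_pow, derivative_X, derivative_C,
      add_zero]
    simp; norm_num
  have hnorm : ‖aeval (1 : ℤ_[p]) G‖ < ‖aeval (1 : ℤ_[p]) (derivative G)‖ ^ 2 := by
    rw [e1, e2, norm_one, one_pow, PadicInt.norm_p_pow]
    have hp1 : (1 : ℝ) < p := by exact_mod_cast hp.one_lt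
    apply zpow_lt_one_of_neg₀ hp1
    have : 0 < r - 2 := by omega
    omega
  obtain ⟨z, hz0, hz1, -, -⟩ := hensels_lemma hnorm
  rw [e2, norm_one] at hz1
  have hzn : ‖z‖ = 1 := by
    have : ‖z + (-1)‖ < ‖(-1 : ℤ_[p])‖ := by
      rw [norm_neg, norm_one, ← sub_eq_add_neg]; exact hz1
    rw [PadicInt.norm_eq_of_norm_add_lt_right this, norm_neg, norm_one]
  have hzeq : z ^ 2 - z + (p : ℤ_[p]) ^ (r - 2) = 0 := by
    simpa [hG] using hz0
  have hzQ : (z : ℚ_[p]) ^ 2 - (z : ℚ_[p]) + (p : ℚ_[p]) ^ (r - 2) = 0 := by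
    have := congrArg (fun t : ℤ_[p] => (t : ℚ_[p])) hzeq
    simpa using this
  have hznQ : ‖(z : ℚ_[p])‖ = 1 := by rw [← PadicInt.norm_def]; exact hzn
  have hz_ne : (z : ℚ_[p]) ≠ 0 := by
    intro h0; rw [h0, norm_zero] at hznQ; exact zero_ne_one hznQ
  have hzval : (z : ℚ_[p]).valuation = 0 := by
    have := Padic.norm_eq_zpow_neg_valuation hz_ne
    rw [hznQ] at this
    have hp0 : (0 : ℝ) ≤ p := by positivity
    have hp1 : (p : ℝ) ≠ 1 := by exact_mod_cast hp.one_lt.ne'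
    have := (zpow_eq_one_iff_right₀ hp0 hp1).mp this.symm
    omega
  have hpne : (p : ℚ_[p]) ≠ 0 := by exact_mod_cast hp.ne_zero
  set a : ℚ_[p] := (p : ℚ_[p]) * z with ha
  have ha_ne : a ≠ 0 := mul_ne_zero hpne hz_ne
  have hpr : (p : ℚ_[p]) ^ r = (p : ℚ_[p]) ^ 2 * (p : ℚ_[p]) ^ (r - 2) := by
    rw [← pow_add]; congr 1; omega
  have haeq : a ^ 2 - (p : ℚ_[p]) * a + (p : ℚ_[p]) ^ r = 0 := by
    rw [hpr, ha]; linear_combination (p : ℚ_[p]) ^ 2 * hzQ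
  have haval : a.valuation = 1 := by
    rw [ha, Padic.valuation_mul hpne hz_ne, Padic.valuation_p, hzval]; rfl
  set b : ℚ_[p] := (p : ℚ_[p]) ^ r / a with hb
  have hb_ne : b ≠ 0 := div_ne_zero (pow_ne_zero _ hpne) ha_ne
  have hba : b * a = (p : ℚ_[p]) ^ r := div_mul_cancel₀ _ ha_ne
  have hbval : b.valuation = (r : ℤ) - 1 := by
    have := Padic.valuation_mul hb_ne ha_ne
    rw [hba, Padic.valuation_pow, Padic.valuation_p, haval] at this
    linarith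
  have hbeq : b ^ 2 - (p : ℚ_[p]) * b + (p : ℚ_[p]) ^ r = 0 := by
    have h1 : a ^ 2 * (b ^ 2 - (p : ℚ_[p]) * b + (p : ℚ_[p]) ^ r) = 0 := by
      have : a ^ 2 * (b ^ 2 - (p : ℚ_[p]) * b + (p : ℚ_[p]) ^ r) =
          (b * a) ^ 2 - (p : ℚ_[p]) * a * (b * a) + a ^ 2 * (p : ℚ_[p]) ^ r := by ring
      rw [this, hba]
      linear_combination (p : ℚ_[p]) ^ r * haeq
    exact (mul_eq_zero.mp h1).resolve_left (pow_ne_zero _ ha_ne)
  refine ⟨a, b, ?_, haeq, hbeq, haval, hbval⟩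
  intro hab
  rw [hab, hbval] at haval
  omega

theorem main (p r : ℕ) [Fact p.Prime] (hr : 2 < r) :
    Irreducible (Polynomial.X ^ 2 - Polynomial.C (p : ℚ) * Polynomial.X + Polynomial.C ((p : ℚ) ^ r)) ∧
      (∀ π : ℂ, π ^ 2 - (p : ℂ) * π + (p : ℂ) ^ r = 0 → ‖π‖ = Real.sqrt ((p : ℝ) ^ r)) ∧
      ∃ a b : ℚ_[p], a ≠ b ∧ a ^ 2 - (p : ℚ_[p]) * a + (p : ℚ_[p]) ^ r = 0 ∧
        b ^ 2 - (p : ℚ_[p]) * b + (p : ℚ_[p]) ^ r = 0 ∧ a.valuation = 1 ∧ b.valuation = (r : ℤ) - 1 := by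
  have hp : p.Prime := Fact.out
  exact ⟨irred p r hp.two_le hr, norm_root p r hp.two_le hr, padic_roots p r hr⟩

end Groth.Agent.Helper8.WeilQ
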