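import Mathlib
import Groth.Prelude.Def_WittGrp
import Groth.Agent.Helper8.WittDesc

set_option autoImplicit false
universe u v

namespace Groth.Agent.Helper8.WittDesc2

open TensorProduct

theorem alg_equalizer {A B C : Type*} [CommRing A] [CommRing B] [CommRing C] [Algebra A B]
    [Algebra A C] (ψ₁ ψ₂ : B →ₐ[A] C)
    (hinj : Function.Injective (algebraMap A B))
    (heq : ∀ b : B, ψ₁ b = ψ₂ b → b ∈ Set.range (algebraMap A B))
    (M : Type*) [AddCommGroup M] [Module A M] [Module.Flat A M] :
    Function.Injective (fun m : M => m ⊗ₜ[A] (1 : B)) ∧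
      ∀ x : M ⊗[A] B,
        LinearMap.lTensor M ψ₁.toLinearMap x = LinearMap.lTensor M ψ₂.toLinearMap x →
          x ∈ Set.range (fun m : M => m ⊗ₜ[A] (1 : B)) := by
  have hex : Function.Exact (Algebra.linearMap A B) (ψ₁.toLinearMap - ψ₂.toLinearMap) := by
    intro b
    constructor
    · intro hb
      have h1 : ψ₁ b - ψ₂ b = 0 := hb
      exact heq b (sub_eq_zero.mp h1)
    · rintro ⟨a, rfl⟩
      show ψ₁ (algebraMap A B a) - ψ₂ (algebraMap A B a) = 0
      rw [AlgHom.commutes, AlgHom.commutes, sub_self]
  have hex' := Module.Flat.lTensor_exact M hex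
  have hinj' : Function.Injective (LinearMap.lTensor M (Algebra.linearMap A B)) :=
    Module.Flat.lTensor_preserves_injective_linearMap _ hinj
  have hι : ∀ m : M, m ⊗ₜ[A] (1 : B) = LinearMap.lTensor M (Algebra.linearMap A B) (m ⊗ₜ[A] 1) := by
    intro m
    rw [LinearMap.lTensor_tmul, Algebra.linearMap_apply, map_one]
  constructor
  · intro x y hxy
    simp only at hxy
    rw [hι, hι] at hxy
    have := hinj' hxy
    have h2 := congrArg (TensorProduct.rid A M) this
    simpa using h2
  · intro x hx
    have h0 : LinearMap.lTensor M (ψ₁.toLinearMap - ψ₂.toLinearMap) x = 0 := by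
      rw [LinearMap.lTensor_sub, LinearMap.sub_apply, sub_eq_zero]
      exact hx
    have hw : ∀ w : M ⊗[A] A, (TensorProduct.rid A M w) ⊗ₜ[A] (1 : A) = w := by
      intro w
      induction w using TensorProduct.induction_on with
      | zero => simp
      | tmul x a => simp [TensorProduct.smul_tmul]
      | add w₁ w₂ h1 h2 => simp only [map_add, TensorProduct.add_tmul, h1, h2]
    obtain ⟨w, rfl⟩ := (hex' x).mp h0
    refine ⟨TensorProduct.rid A M w, ?_⟩
    simp only
    rw [hι, hw]

theorem main (p : ℕ) [Fact p.Prime] (n : ℕ)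
    (R R' : Type u) [CommRing R] [CommRing R'] [Algebra R R'] [Module.FaithfullyFlat R R']
    (hp : IsNilpotent (p : R))
    [Algebra (TruncatedWittVector p n R) (TruncatedWittVector p n R')]
    (h₁ : algebraMap (TruncatedWittVector p n R) (TruncatedWittVector p n R') = WittGrp.truncMap p n (algebraMap R R'))
    [Algebra (TruncatedWittVector p n R) (TruncatedWittVector p n (TensorProduct R R' R'))]
    (h₂ : algebraMap (TruncatedWittVector p n R) (TruncatedWittVector p n (TensorProduct R R' R')) =
      WittGrp.truncMap p n (algebraMap R (TensorProduct R R' R')))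
    (ψ₁ ψ₂ : TruncatedWittVector p n R' →ₐ[TruncatedWittVector p n R] TruncatedWittVector p n (TensorProduct R R' R'))
    (hψ₁ : (ψ₁ : TruncatedWittVector p n R' →+* TruncatedWittVector p n (TensorProduct R R' R')) =
      WittGrp.truncMap p n (Algebra.TensorProduct.includeLeftRingHom : R' →+* TensorProduct R R' R'))
    (hψ₂ : (ψ₂ : TruncatedWittVector p n R' →+* TruncatedWittVector p n (TensorProduct R R' R')) =
      WittGrp.truncMap p n ((Algebra.TensorProduct.includeRight : R' →ₐ[R] TensorProduct R R' R') : R' →+* TensorProduct R R' R'))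
    (M : Type v) [AddCommGroup M] [Module (TruncatedWittVector p n R) M] [Module.Flat (TruncatedWittVector p n R) M] :
    Function.Injective (fun m : M => m ⊗ₜ[TruncatedWittVector p n R] (1 : TruncatedWittVector p n R')) ∧
      ∀ x : M ⊗[TruncatedWittVector p n R] TruncatedWittVector p n R',
        LinearMap.lTensor M ψ₁.toLinearMap x = LinearMap.lTensor M ψ₂.toLinearMap x →
          x ∈ Set.range (fun m : M => m ⊗ₜ[TruncatedWittVector p n R] (1 : TruncatedWittVector p n R')) := by
  apply alg_equalizer
  · rw [h₁]
    intro x y hxy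
    ext i
    have := congrArg (fun w => w.coeff i) hxy
    simp only [WittGrp.coeff_truncMap] at this
    exact (FaithfulSMul.algebraMap_injective R R') this
  · intro b hb
    have e1 : ∀ c, ψ₁ c = WittGrp.truncMap p n (Algebra.TensorProduct.includeLeftRingHom : R' →+* TensorProduct R R' R') c :=
      fun c => RingHom.congr_fun hψ₁ c
    have e2 : ∀ c, ψ₂ c = WittGrp.truncMap p n ((Algebra.TensorProduct.includeRight : R' →ₐ[R] TensorProduct R R' R') : R' →+* TensorProduct R R' R') c :=
      fun c => RingHom.congr_fun hψ₂ c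
    rw [e1, e2] at hb
    have : ∀ i, b.coeff i ∈ Set.range (algebraMap R R') := fun i =>
      WittDesc.amitsur_ring R R' _ (by
        have := congrArg (fun w => w.coeff i) hb
        simpa only [WittGrp.coeff_truncMap] using this)
    choose s hs using this
    refine ⟨TruncatedWittVector.mk p s, ?_⟩
    rw [h₁]
    ext i
    simp [WittGrp.coeff_truncMap, hs]

end Groth.Agent.Helper8.WittDesc2
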