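import Mathlib
import Groth.Agent.Helper8.IdemLift2
import Groth.Agent.Helper8.WittFilProj

/-!
# Lifting finite projective modules along `W(S) → W(R)` for `S → R` surjective with nil kernel
-/

namespace Groth.Agent.Helper8.WittLiftProj

open Groth.Agent.Helper8 Groth.Agent.Helper8.IdemLift Groth.Agent.Helper8.IdemLift2

variable (p : ℕ) [Fact p.Prime] {S R : Type*} [CommRing S] [CommRing R] (φ : S →+* R)

local notation "IS" => RingHom.ker (WittVector.constantCoeff : WittVector p S →+* S)
local notation "IR" => RingHom.ker (WittVector.constantCoeff : WittVector p R →+* R)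

theorem constantCoeff_map (x : WittVector p S) :
    WittVector.constantCoeff (WittVector.map φ x) = φ (WittVector.constantCoeff x) :=
  WittVector.map_coeff φ x 0

theorem map_mem_pow (n : ℕ) (x : WittVector p S) (hx : x ∈ IS ^ n) :
    WittVector.map φ x ∈ IR ^ n := by
  have h1 : Ideal.map (WittVector.map (p := p) φ) IS ≤ IR := by
    rw [Ideal.map_le_iff_le_comap]
    intro y hy
    rw [Ideal.mem_comap, RingHom.mem_ker, constantCoeff_map]
    rw [RingHom.mem_ker] at hy
    rw [hy, map_zero]
  have h2 : WittVector.map φ x ∈ Ideal.map (WittVector.map (p := p) φ) (IS ^ n) :=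
    Ideal.mem_map_of_mem _ hx
  rw [Ideal.map_pow] at h2
  exact Ideal.pow_right_mono h1 n h2

variable {φ}

theorem isAdicComplete_IS (hp : IsNilpotent (p : S)) : IsAdicComplete IS (WittVector p S) := by
  obtain ⟨N, hN⟩ := hp
  haveI := WittFilProj.isAdicComplete_p p S N hN
  exact WittAdic.isAdicComplete_ker

theorem isAdicComplete_IR (φ : S →+* R) (hp : IsNilpotent (p : S)) :
    IsAdicComplete IR (WittVector p R) := by
  obtain ⟨N, hN⟩ := hp
  have hN' : (p : R) ^ N = 0 := by
    have := congrArg φ hN
    rwa [map_pow, map_natCast, map_zero] at this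
  haveI := WittFilProj.isAdicComplete_p p R N hN'
  exact WittAdic.isAdicComplete_ker

theorem isUnit_of_isUnit_coeff (hp : IsNilpotent (p : S)) (u : WittVector p S)
    (hu : IsUnit (WittVector.constantCoeff u)) : IsUnit u := by
  haveI := isAdicComplete_IS p hp
  obtain ⟨v0, hv0⟩ := hu.exists_right_inv
  have h1 : u * WittVector.teichmuller p v0 - 1 ∈ IS := by
    rw [RingHom.mem_ker, map_sub, map_mul, map_one]
    have : WittVector.constantCoeff (WittVector.teichmuller p v0) = v0 :=
      WittVector.teichmuller_coeff_zero p v0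
    rw [this, hv0, sub_self]
  have h2 := (IsAdicComplete.le_jacobson_bot IS) h1
  rw [Ideal.mem_jacobson_bot] at h2
  have h3 := h2 1
  rw [mul_one, sub_add_cancel] at h3
  exact isUnit_of_mul_isUnit_left h3

theorem ker_map_le_jacobson (hnil : ∀ a : S, φ a = 0 → IsNilpotent a) (hp : IsNilpotent (p : S)) :
    RingHom.ker (WittVector.map (p := p) φ) ≤ (⊥ : Ideal (WittVector p S)).jacobson := by
  intro x hx
  rw [Ideal.mem_jacobson_bot]
  intro y
  apply isUnit_of_isUnit_coeff p hp
  rw [map_add, map_mul, map_one]
  have h1 : φ (WittVector.constantCoeff x) = 0 := by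
    rw [← constantCoeff_map, RingHom.mem_ker.mp hx, map_zero]
  have h2 : IsNilpotent (WittVector.constantCoeff x * WittVector.constantCoeff y) :=
    (Commute.all _ _).isNilpotent_mul_right (hnil _ h1)
  exact h2.isUnit_add_one

theorem exists_entry (hφ : Function.Surjective φ) (s : S) (b : WittVector p R)
    (h : φ s = WittVector.constantCoeff b) :
    ∃ a : WittVector p S, WittVector.constantCoeff a = s ∧ WittVector.map φ a = b := by
  classical
  refine ⟨WittVector.mk p (fun n => if n = 0 then s else (hφ (b.coeff n)).choose), ?_, ?_⟩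
  · have hc : ∀ x : WittVector p S, WittVector.constantCoeff x = x.coeff 0 := fun x => rfl
    rw [hc, WittVector.coeff_mk]
    simp
  · ext n
    rw [WittVector.map_coeff, WittVector.coeff_mk]
    by_cases hn : n = 0
    · subst hn
      simp only [if_true]
      exact h
    · simp only [hn, if_false]
      exact (hφ (b.coeff n)).choose_spec

section Exist

variable (hφ : Function.Surjective φ) (hnil : ∀ a : S, φ a = 0 → IsNilpotent a)
  (hp : IsNilpotent (p : S))

include hφ hnil hp

/-- Lifting idempotent matrices. -/
theorem exists_idem_matrix (r : ℕ) (E : Matrix (Fin r) (Fin r) (WittVector p R))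
    (hE : IsIdempotentElem E) :
    ∃ e : Matrix (Fin r) (Fin r) (WittVector p S), IsIdempotentElem e ∧
      e.map (WittVector.map φ) = E := by
  classical
  -- reduce to `R`, lift to `S`
  let Eb : Matrix (Fin r) (Fin r) R := RingHom.mapMatrix WittVector.constantCoeff E
  have hEb : IsIdempotentElem Eb := hE.map _
  have hker : ∀ x ∈ RingHom.ker (RingHom.mapMatrix (m := Fin r) φ), IsNilpotent x := by
    intro x hx
    apply isNilpotent_of_entries
    intro i j
    apply hnil
    have h := RingHom.mem_ker.mp hx
    have h2 : (RingHom.mapMatrix (m := Fin r) φ x) i j = (0 : Matrix (Fin r) (Fin r) R) i j := by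
      rw [h]
    simpa [RingHom.mapMatrix_apply] using h2
  have hrange : Eb ∈ (RingHom.mapMatrix (m := Fin r) φ).range := by
    refine ⟨Matrix.of fun i j => (hφ (Eb i j)).choose, ?_⟩
    apply Matrix.ext
    intro i j
    rw [RingHom.mapMatrix_apply, Matrix.map_apply, Matrix.of_apply]
    exact (hφ (Eb i j)).choose_spec
  obtain ⟨ES, hES, hESb⟩ := exists_isIdempotentElem_eq_of_ker_isNilpotent
    (RingHom.mapMatrix (m := Fin r) φ) hker Eb hrange hEb
  -- the element `a`
  have hex : ∀ i j, ∃ a : WittVector p S, WittVector.constantCoeff a = ES i j ∧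
      WittVector.map φ a = E i j := by
    intro i j
    have h2 := congrFun (congrFun hESb i) j
    simp only [RingHom.mapMatrix_apply, Matrix.map_apply] at h2
    exact exists_entry p hφ (ES i j) (E i j) h2
  choose a ha0 haE' using hex
  have haE : RingHom.mapMatrix (WittVector.map (p := p) φ) (Matrix.of a) = E := by
    apply Matrix.ext
    intro i j
    simp only [RingHom.mapMatrix_apply, Matrix.map_apply, Matrix.of_apply]
    exact haE' i j
  obtain ⟨a, ha0, haE⟩ : ∃ a : Matrix (Fin r) (Fin r) (WittVector p S),
      (∀ i j, WittVector.constantCoeff (a i j) = ES i j) ∧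
      RingHom.mapMatrix (WittVector.map (p := p) φ) a = E := ⟨Matrix.of a, ha0, haE⟩
  have haS : RingHom.mapMatrix (WittVector.constantCoeff (p := p) (R := S)) a = ES := by
    apply Matrix.ext
    intro i j
    simp only [RingHom.mapMatrix_apply, Matrix.map_apply]
    exact ha0 i j
  haveI := isAdicComplete_IS p hp
  haveI := isAdicComplete_IR p φ hp
  have ha : ∀ i j, (a * a - a) i j ∈ IS := by
    intro i j
    rw [RingHom.mem_ker]
    have h1 : RingHom.mapMatrix (WittVector.constantCoeff (p := p) (R := S)) (a * a - a) = 0 := by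
      rw [map_sub, map_mul, haS, hES.eq, sub_self]
    have h3 : (RingHom.mapMatrix (WittVector.constantCoeff (p := p) (R := S)) (a * a - a)) i j =
        (0 : Matrix (Fin r) (Fin r) S) i j := by
      rw [h1]
    rw [RingHom.mapMatrix_apply, Matrix.map_apply, Matrix.zero_apply] at h3
    exact h3
  have hΦ : IsIdempotentElem (RingHom.mapMatrix (WittVector.map (p := p) φ) a) := by
    rw [haE]; exact hE
  obtain ⟨e, he, heΦ⟩ := exists_idem_matrix_lift IS (WittVector.map (p := p) φ) IR
    (fun n x hx => map_mem_pow p φ n x hx) r a ha hΦ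
  refine ⟨e, he, ?_⟩
  rw [← RingHom.mapMatrix_apply, heΦ, haE]

theorem exists_lift (P : Type*) [AddCommGroup P] [Module (WittVector p R) P]
    [Module.Finite (WittVector p R) P] [Module.Projective (WittVector p R) P] :
    ∃ (r : ℕ) (P' : Submodule (WittVector p S) (Fin r → WittVector p S)),
        Module.Finite (WittVector p S) P' ∧ Module.Projective (WittVector p S) P' ∧
          ∃ π : P' →ₛₗ[WittVector.map (p := p) φ] P, Function.Surjective π ∧
            LinearMap.ker π = RingHom.ker (WittVector.map (p := p) φ) •
              (⊤ : Submodule (WittVector p S) P') := by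
  classical
  obtain ⟨r, f', g, -, -, hfg⟩ := Module.Finite.exists_comp_eq_id_of_projective (WittVector p R) P
  have hfg' : ∀ y, f' (g y) = y := fun y => LinearMap.congr_fun hfg y
  let E : Matrix (Fin r) (Fin r) (WittVector p R) := LinearMap.toMatrix' (g ∘ₗ f')
  have hEv : ∀ v, E.mulVec v = g (f' v) := by
    intro v
    rw [← Matrix.toLin'_apply, Matrix.toLin'_toMatrix']
    rfl
  have hE : IsIdempotentElem E := by
    show E * E = E
    rw [← LinearMap.toMatrix'_comp]
    congr 1
    apply LinearMap.ext
    intro v
    show g (f' (g (f' v))) = g (f' v)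
    rw [hfg']
  obtain ⟨e, he, heE⟩ := exists_idem_matrix p hφ hnil hp r E hE
  have hee : ∀ v, e.mulVec (e.mulVec v) = e.mulVec v := by
    intro v
    rw [Matrix.mulVec_mulVec, he.eq]
  have hcompat : ∀ v : Fin r → WittVector p S,
      (fun i => WittVector.map φ (e.mulVec v i)) = E.mulVec (fun i => WittVector.map φ (v i)) := by
    intro v
    funext i
    rw [RingHom.map_mulVec, heE]
    rfl
  let P' : Submodule (WittVector p S) (Fin r → WittVector p S) :=
    LinearMap.range (Matrix.mulVecLin e)
  let e' : (Fin r → WittVector p S) →ₗ[WittVector p S] P' := (Matrix.mulVecLin e).rangeRestrict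
  have he'sub : ∀ x : P', e' (x : Fin r → WittVector p S) = x := by
    intro x
    obtain ⟨v, hv⟩ := x.2
    apply Subtype.ext
    show e.mulVec (x : Fin r → WittVector p S) = x
    rw [← hv, Matrix.mulVecLin_apply, hee]
  have hfix : ∀ x : P', e.mulVec (x : Fin r → WittVector p S) = x := fun x =>
    congrArg Subtype.val (he'sub x)
  have hPp : Module.Projective (WittVector p S) P' :=
    Module.Projective.of_split P'.subtype e' (by
      ext x : 1
      exact he'sub x)
  have hPf : Module.Finite (WittVector p S) P' := Module.Finite.range (Matrix.mulVecLin e)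
  let π : P' →ₛₗ[WittVector.map (p := p) φ] P :=
    { toFun := fun x => f' (fun i => WittVector.map φ ((x : Fin r → WittVector p S) i))
      map_add' := by
        intro x y
        rw [← map_add]
        congr 1
        funext i
        simp
      map_smul' := by
        intro c x
        rw [← map_smul]
        congr 1
        funext i
        simp }
  have hπ : ∀ x : P', π x = f' (fun i => WittVector.map φ ((x : Fin r → WittVector p S) i)) :=
    fun x => rfl
  have hkill : ∀ x ∈ (RingHom.ker (WittVector.map (p := p) φ) •
      (⊤ : Submodule (WittVector p S) P')), π x = 0 := by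
    intro x hx
    refine Submodule.smul_induction_on hx (fun c hc y _ => ?_) (fun x y hx hy => ?_)
    · rw [π.map_smulₛₗ, RingHom.mem_ker.mp hc, zero_smul]
    · rw [map_add, hx, hy, add_zero]
  refine ⟨r, P', hPf, hPp, π, ?_, ?_⟩
  · intro y
    have hv : ∀ i, ∃ a, WittVector.map φ a = g y i := fun i =>
      WittVector.map_surjective φ hφ (g y i)
    choose v hv using hv
    refine ⟨e' v, ?_⟩
    rw [hπ]
    have h1 : ((e' v : P') : Fin r → WittVector p S) = e.mulVec v := rfl
    rw [h1, hcompat]
    have h2 : (fun i => WittVector.map φ (v i)) = g y := funext hv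
    rw [h2, hEv, hfg', hfg']
  · apply le_antisymm
    · intro x hx
      have hx0 : f' (fun i => WittVector.map φ ((x : Fin r → WittVector p S) i)) = 0 := hx
      have h1 : E.mulVec (fun i => WittVector.map φ ((x : Fin r → WittVector p S) i)) = 0 := by
        rw [hEv, hx0, map_zero]
      rw [← hcompat, hfix] at h1
      have h2 : (x : Fin r → WittVector p S) ∈ (RingHom.ker (WittVector.map (p := p) φ) • ⊤ :
          Submodule (WittVector p S) (Fin r → WittVector p S)) := by
        rw [mem_smul_top_pi]
        intro i
        rw [smul_eq_mul, Ideal.mul_top, RingHom.mem_ker]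
        exact congrFun h1 i
      have h3 := map_mem_smul_top _ e' h2
      rwa [he'sub] at h3
    · intro x hx
      exact hkill x hx

end Exist

section Unique

variable (hnil : ∀ a : S, φ a = 0 → IsNilpotent a) (hp : IsNilpotent (p : S))

include hnil hp

theorem unique_lift (P : Type*) [AddCommGroup P] [Module (WittVector p R) P]
    (P₁ : Type*) [AddCommGroup P₁] [Module (WittVector p S) P₁]
    [Module.Finite (WittVector p S) P₁] [Module.Projective (WittVector p S) P₁]
    (P₂ : Type*) [AddCommGroup P₂] [Module (WittVector p S) P₂]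
    [Module.Finite (WittVector p S) P₂] [Module.Projective (WittVector p S) P₂]
    (π₁ : P₁ →ₛₗ[WittVector.map (p := p) φ] P) (π₂ : P₂ →ₛₗ[WittVector.map (p := p) φ] P)
    (h1s : Function.Surjective π₁)
    (h1k : LinearMap.ker π₁ = RingHom.ker (WittVector.map (p := p) φ) •
      (⊤ : Submodule (WittVector p S) P₁))
    (h2s : Function.Surjective π₂)
    (h2k : LinearMap.ker π₂ = RingHom.ker (WittVector.map (p := p) φ) •
      (⊤ : Submodule (WittVector p S) P₂)) :
    ∃ e : P₁ ≃ₗ[WittVector p S] P₂, ∀ x : P₁, π₂ (e x) = π₁ x := by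
  letI : Module (WittVector p S) P := Module.compHom P (WittVector.map (p := p) φ)
  let π₁' : P₁ →ₗ[WittVector p S] P :=
    { toFun := π₁
      map_add' := π₁.map_add
      map_smul' := fun c x => by rw [π₁.map_smulₛₗ]; rfl }
  let π₂' : P₂ →ₗ[WittVector p S] P :=
    { toFun := π₂
      map_add' := π₂.map_add
      map_smul' := fun c x => by rw [π₂.map_smulₛₗ]; rfl }
  obtain ⟨h, hh⟩ := Module.projective_lifting_property π₂' π₁' h2s
  have hh' : ∀ x, π₂ (h x) = π₁ x := fun x => LinearMap.congr_fun hh x
  have hbij : Function.Bijective h := by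
    apply bijective_of_mod (RingHom.ker (WittVector.map (p := p) φ))
      (ker_map_le_jacobson p hnil hp) h
    · intro y
      obtain ⟨x, hx⟩ := h1s (π₂ y)
      refine ⟨x, ?_⟩
      rw [← h2k, LinearMap.mem_ker, map_sub, hh', hx, sub_self]
    · intro x hx
      rw [← h2k, LinearMap.mem_ker, hh'] at hx
      rw [← h1k, LinearMap.mem_ker]
      exact hx
  exact ⟨LinearEquiv.ofBijective h hbij, fun x => hh' x⟩

end Unique

end Groth.Agent.Helper8.WittLiftProj
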