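import Mathlib

/-!
# Derived and lower central series are generated by iterated commutators
-/

set_option autoImplicit false
set_option linter.unusedSectionVars false
set_option linter.unusedVariables false

namespace Groth.Agent.Helper8.WordLaws

open scoped commutatorElement

variable {Γ : Type*} [Group Γ]

/-- a subset stable under all conjugations -/
def ConjInv (S : Set Γ) : Prop := ∀ g : Γ, ∀ s ∈ S, g * s * g⁻¹ ∈ S

/-- the set of commutators of elements of two subsets -/
def commSet (S T : Set Γ) : Set Γ := {x | ∃ s ∈ S, ∃ t ∈ T, ⁅s, t⁆ = x}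

theorem conj_commutator (g a b : Γ) : g * ⁅a, b⁆ * g⁻¹ = ⁅g * a * g⁻¹, g * b * g⁻¹⁆ := by
  simp only [commutatorElement_def]
  group

theorem ConjInv.commSet {S T : Set Γ} (hS : ConjInv S) (hT : ConjInv T) :
    ConjInv (commSet S T) := by
  rintro g _ ⟨s, hs, t, ht, rfl⟩
  exact ⟨g * s * g⁻¹, hS g s hs, g * t * g⁻¹, hT g t ht, (conj_commutator g s t).symm⟩

theorem conjInv_univ : ConjInv (Set.univ : Set Γ) := fun _ _ _ => trivial

theorem normal_closure_of_conjInv {S : Set Γ} (hS : ConjInv S) :
    (Subgroup.closure S).Normal := by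
  constructor
  intro n hn g
  induction hn using Subgroup.closure_induction with
  | mem x hx => exact Subgroup.subset_closure (hS g x hx)
  | one => simp
  | mul x y _ _ hx hy =>
    have h : g * (x * y) * g⁻¹ = (g * x * g⁻¹) * (g * y * g⁻¹) := by group
    rw [h]
    exact mul_mem hx hy
  | inv x _ hx =>
    have h : g * x⁻¹ * g⁻¹ = (g * x * g⁻¹)⁻¹ := by group
    rw [h]
    exact inv_mem hx

/-- the commutator of the subgroups generated by two conjugation-stable subsets is generated by
the commutators of their elements -/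
theorem commutator_closure {S T : Set Γ} (hS : ConjInv S) (hT : ConjInv T) :
    ⁅Subgroup.closure S, Subgroup.closure T⁆ = Subgroup.closure (commSet S T) := by
  apply le_antisymm
  · have hN : (Subgroup.closure (commSet S T)).Normal :=
      normal_closure_of_conjInv (hS.commSet hT)
    rw [Subgroup.commutator_le]
    intro a ha b hb
    have key : ∀ t ∈ T, ∀ a ∈ Subgroup.closure S, ⁅a, t⁆ ∈ Subgroup.closure (commSet S T) := by
      intro t ht a ha
      induction ha using Subgroup.closure_induction with
      | mem x hx => exact Subgroup.subset_closure ⟨x, hx, t, ht, rfl⟩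
      | one => simp
      | mul x y _ _ hx hy =>
        have h : ⁅x * y, t⁆ = x * ⁅y, t⁆ * x⁻¹ * ⁅x, t⁆ := by
          simp only [commutatorElement_def]
          group
        rw [h]
        exact mul_mem (hN.conj_mem _ hy x) hx
      | inv x _ hx =>
        have h : ⁅x⁻¹, t⁆ = x⁻¹ * ⁅x, t⁆⁻¹ * x⁻¹⁻¹ := by
          simp only [commutatorElement_def]
          group
        rw [h]
        exact hN.conj_mem _ (inv_mem hx) x⁻¹
    induction hb using Subgroup.closure_induction with
    | mem t ht => exact key t ht a ha
    | one => simp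
    | mul x y _ _ hx hy =>
      have h : ⁅a, x * y⁆ = ⁅a, x⁆ * (x * ⁅a, y⁆ * x⁻¹) := by
        simp only [commutatorElement_def]
        group
      rw [h]
      exact mul_mem hx (hN.conj_mem _ hy x)
    | inv x _ hx =>
      have h : ⁅a, x⁻¹⁆ = x⁻¹ * ⁅a, x⁆⁻¹ * x⁻¹⁻¹ := by
        simp only [commutatorElement_def]
        group
      rw [h]
      exact hN.conj_mem _ (inv_mem hx) x⁻¹
  · rw [Subgroup.closure_le]
    rintro _ ⟨s, hs, t, ht, rfl⟩
    exact Subgroup.commutator_mem_commutator (Subgroup.subset_closure hs)
      (Subgroup.subset_closure ht)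

variable (Γ)

/-- the values of the `n`-th derived word -/
def derSet : ℕ → Set Γ
  | 0 => Set.univ
  | n + 1 => commSet (derSet n) (derSet n)

/-- the values of the `n`-th lower central word -/
def lcsSet : ℕ → Set Γ
  | 0 => Set.univ
  | n + 1 => commSet (lcsSet n) Set.univ

theorem conjInv_derSet (n : ℕ) : ConjInv (derSet Γ n) := by
  induction n with
  | zero => exact conjInv_univ
  | succ n ih => exact ih.commSet ih

theorem conjInv_lcsSet (n : ℕ) : ConjInv (lcsSet Γ n) := by
  induction n with
  | zero => exact conjInv_univ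
  | succ n ih => exact ih.commSet conjInv_univ

theorem derivedSeries_eq_closure (n : ℕ) :
    derivedSeries Γ n = Subgroup.closure (derSet Γ n) := by
  induction n with
  | zero =>
    rw [derivedSeries_zero]
    exact Subgroup.closure_univ.symm
  | succ n ih =>
    rw [derivedSeries_succ, ih, commutator_closure (conjInv_derSet Γ n) (conjInv_derSet Γ n)]
    rfl

theorem lcs_eq_closure (n : ℕ) :
    Subgroup.lowerCentralSeries (⊤ : Subgroup Γ) n = Subgroup.closure (lcsSet Γ n) := by
  induction n with
  | zero =>
    rw [Subgroup.lowerCentralSeries_zero]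
    exact Subgroup.closure_univ.symm
  | succ n ih =>
    rw [Subgroup.lowerCentralSeries_succ, ih]
    have h : ⁅Subgroup.closure (lcsSet Γ n), (⊤ : Subgroup Γ)⁆ =
        ⁅Subgroup.closure (lcsSet Γ n), Subgroup.closure (Set.univ : Set Γ)⁆ := by
      rw [Subgroup.closure_univ]
    rw [h, commutator_closure (conjInv_lcsSet Γ n) conjInv_univ]
    rfl

theorem derivedSeries_eq_bot_iff (n : ℕ) :
    derivedSeries Γ n = ⊥ ↔ ∀ x ∈ derSet Γ n, x = 1 := by
  rw [derivedSeries_eq_closure, Subgroup.closure_eq_bot_iff]
  constructor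
  · intro h x hx
    exact h hx
  · intro h x hx
    exact h x hx

theorem upperCentralSeries_eq_top_iff (n : ℕ) :
    Subgroup.upperCentralSeries Γ n = ⊤ ↔ ∀ x ∈ lcsSet Γ n, x = 1 := by
  rw [← Subgroup.lowerCentralSeries_eq_bot_iff_upperCentralSeries_eq_top, lcs_eq_closure,
    Subgroup.closure_eq_bot_iff]
  constructor
  · intro h x hx
    exact h hx
  · intro h x hx
    exact h x hx

end Groth.Agent.Helper8.WordLaws
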