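import Mathlib
import Groth.Prelude
import Groth.Agent.Helper8.WordLaws
import Groth.Agent.Helper8.DHomB

/-!
# Universal commutator words on a group object, and specialisation of nilpotency and solvability
for flat separated group schemes
-/

set_option autoImplicit false
set_option linter.unusedSectionVars false
set_option linter.style.haveILetI false
set_option linter.unusedVariables false

universe u

open CategoryTheory CategoryTheory.Limits MonoidalCategory CartesianMonoidalCategory MonObj
  AlgebraicGeometry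

open scoped commutatorElement

noncomputable section

namespace Groth.Agent.Helper8.WordSch

open Groth.Agent.Helper8.WordLaws Groth.Agent.Helper8.DSPts Groth.Agent.Helper8.DHomB

section Words

variable {C : Type*} [Category C] [CartesianMonoidalCategory C] (G : C) [GrpObj G]

/-- source of the `n`-th derived word -/
def Pd : ℕ → C
  | 0 => G
  | n + 1 => Pd n ⊗ Pd n

/-- source of the `n`-th lower central word -/
def Pl : ℕ → C
  | 0 => G
  | n + 1 => Pl n ⊗ G

/-- the universal `n`-th derived word -/
def Wd : (n : ℕ) → (Pd G n ⟶ G)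
  | 0 => 𝟙 G
  | n + 1 => (⁅fst (Pd G n) (Pd G n) ≫ Wd n, snd (Pd G n) (Pd G n) ≫ Wd n⁆ :
      Pd G n ⊗ Pd G n ⟶ G)

/-- the universal `n`-th lower central word -/
def Wl : (n : ℕ) → (Pl G n ⟶ G)
  | 0 => 𝟙 G
  | n + 1 => (⁅fst (Pl G n) G ≫ Wl n, snd (Pl G n) G⁆ : Pl G n ⊗ G ⟶ G)

variable {G}

theorem comp_commutator {X Y : C} (f : X ⟶ Y) (a b : Y ⟶ G) :
    f ≫ ⁅a, b⁆ = ⁅f ≫ a, f ≫ b⁆ := by
  simp only [commutatorElement_def, MonObj.comp_mul, GrpObj.comp_inv]

variable (G)

theorem derSet_eq (X : C) (n : ℕ) :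
    derSet (X ⟶ G) n = {x | ∃ f : X ⟶ Pd G n, f ≫ Wd G n = x} := by
  induction n with
  | zero =>
    ext x
    constructor
    · intro _
      exact ⟨x, Category.comp_id x⟩
    · intro _
      trivial
  | succ n ih =>
    ext x
    constructor
    · rintro ⟨a, ha, b, hb, rfl⟩
      rw [ih] at ha hb
      obtain ⟨f₁, rfl⟩ := ha
      obtain ⟨f₂, rfl⟩ := hb
      refine ⟨lift f₁ f₂, ?_⟩
      change lift f₁ f₂ ≫ (⁅fst (Pd G n) (Pd G n) ≫ Wd G n, snd (Pd G n) (Pd G n) ≫ Wd G n⁆ :
        Pd G n ⊗ Pd G n ⟶ G) = _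
      rw [comp_commutator, ← Category.assoc, ← Category.assoc, lift_fst, lift_snd]
    · rintro ⟨f, rfl⟩
      let f' : X ⟶ Pd G n ⊗ Pd G n := f
      refine ⟨(f' ≫ fst _ _) ≫ Wd G n, ?_, (f' ≫ snd _ _) ≫ Wd G n, ?_, ?_⟩
      · rw [ih]
        exact ⟨_, rfl⟩
      · rw [ih]
        exact ⟨_, rfl⟩
      · have h := comp_commutator f' (fst (Pd G n) (Pd G n) ≫ Wd G n)
          (snd (Pd G n) (Pd G n) ≫ Wd G n)
        rw [← Category.assoc, ← Category.assoc] at h
        exact h.symm

theorem lcsSet_eq (X : C) (n : ℕ) :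
    lcsSet (X ⟶ G) n = {x | ∃ f : X ⟶ Pl G n, f ≫ Wl G n = x} := by
  induction n with
  | zero =>
    ext x
    constructor
    · intro _
      exact ⟨x, Category.comp_id x⟩
    · intro _
      trivial
  | succ n ih =>
    ext x
    constructor
    · rintro ⟨a, ha, b, -, rfl⟩
      rw [ih] at ha
      obtain ⟨f₁, rfl⟩ := ha
      refine ⟨lift f₁ b, ?_⟩
      change lift f₁ b ≫ (⁅fst (Pl G n) G ≫ Wl G n, snd (Pl G n) G⁆ : Pl G n ⊗ G ⟶ G) = _
      rw [comp_commutator, ← Category.assoc, lift_fst, lift_snd]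
    · rintro ⟨f, rfl⟩
      let f' : X ⟶ Pl G n ⊗ G := f
      refine ⟨(f' ≫ fst _ _) ≫ Wl G n, ?_, f' ≫ snd _ _, trivial, ?_⟩
      · rw [ih]
        exact ⟨_, rfl⟩
      · have h := comp_commutator f' (fst (Pl G n) G ≫ Wl G n) (snd (Pl G n) G)
        rw [← Category.assoc] at h
        exact h.symm

/-- solvability of derived length at most `n` on all points is the vanishing of the universal
derived word -/
theorem solvable_iff (n : ℕ) : (∀ X : C, derivedSeries (X ⟶ G) n = ⊥) ↔ Wd G n = 1 := by
  constructor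
  · intro h
    have h1 := (derivedSeries_eq_bot_iff (Pd G n ⟶ G) n).mp (h (Pd G n))
    apply h1
    rw [derSet_eq]
    exact ⟨𝟙 _, Category.id_comp _⟩
  · intro h X
    rw [derivedSeries_eq_bot_iff, derSet_eq]
    rintro _ ⟨f, rfl⟩
    rw [h, MonObj.comp_one]

/-- nilpotency of class at most `n` on all points is the vanishing of the universal lower central
word -/
theorem nilpotent_iff (n : ℕ) :
    (∀ X : C, Subgroup.upperCentralSeries (X ⟶ G) n = ⊤) ↔ Wl G n = 1 := by
  constructor
  · intro h
    have h1 := (upperCentralSeries_eq_top_iff (Pl G n ⟶ G) n).mp (h (Pl G n))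
    apply h1
    rw [lcsSet_eq]
    exact ⟨𝟙 _, Category.id_comp _⟩
  · intro h X
    rw [upperCentralSeries_eq_top_iff, lcsSet_eq]
    rintro _ ⟨f, rfl⟩
    rw [h, MonObj.comp_one]

end Words

section Flat

variable {S : Scheme.{u}}

theorem flat_tensor (A B : Over S) [Flat A.hom] [Flat B.hom] : Flat (A ⊗ B).hom := by
  rw [Over.tensorObj_hom]
  infer_instance

theorem flat_Pd (G : Over S) [GrpObj G] [Flat G.hom] (n : ℕ) : Flat (Pd G n).hom := by
  induction n with
  | zero => exact ‹Flat G.hom›
  | succ n ih =>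
    haveI := ih
    exact flat_tensor (Pd G n) (Pd G n)

theorem flat_Pl (G : Over S) [GrpObj G] [Flat G.hom] (n : ℕ) : Flat (Pl G n).hom := by
  induction n with
  | zero => exact ‹Flat G.hom›
  | succ n ih =>
    haveI := ih
    exact flat_tensor (Pl G n) G

end Flat

section Dense

variable {S T : Scheme.{u}} (g : T ⟶ S) [IsSchemeTheoreticallyDominant g] [QuasiCompact g]

/-- two morphisms from a flat to a separated `S`-scheme which agree after restriction along a
quasi-compact scheme-theoretically dominant base change are equal -/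
theorem eq_of_comp_eq {U X : Over S} [Flat U.hom] [IsSeparated X.hom] (a b : U ⟶ X)
    (h : pullback.fst U.hom g ≫ a.left = pullback.fst U.hom g ≫ b.left) : a = b := by
  let j := pullback.fst U.hom g
  haveI : IsSchemeTheoreticallyDominant j := inferInstance
  let E : Over S := Over.mk (j ≫ U.hom)
  let ε : E ⟶ U := Over.homMk j rfl
  have hε : ε ≫ a = ε ≫ b := Over.OverMorphism.ext h
  let e := equalizer.ι a b
  haveI : IsClosedImmersion e.left := inferInstance
  let l : E ⟶ equalizer a b := equalizer.lift ε hε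
  have hl : l ≫ e = ε := equalizer.lift_ι ε hε
  have hker : e.left.ker = ⊥ := by
    have h1 : e.left.ker ≤ (l.left ≫ e.left).ker := Scheme.Hom.le_ker_comp l.left e.left
    have h2 : l.left ≫ e.left = j := by
      rw [← Over.comp_left, hl]
      rfl
    rw [h2, Scheme.Hom.ker_eq_bot j] at h1
    exact le_bot_iff.mp h1
  haveI : IsIso e.left := IsClosedImmersion.isIso_iff_ker_eq_bot.mpr hker
  have h3 : e.left ≫ a.left = e.left ≫ b.left := by
    rw [← Over.comp_left, ← Over.comp_left, equalizer.condition]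
  exact Over.OverMorphism.ext ((cancel_epi e.left).mp h3)

end Dense

section Adj

variable {S T : Scheme.{u}} (g : T ⟶ S) (G : Over S) [GrpObj G] (Y : Over T)

/-- points of the base change, as a group homomorphism -/
def adjHom : (Y ⟶ Red.bc g G) →* ((Over.map g).obj Y ⟶ G) :=
  MonoidHom.mk' (adjPt g G) (adjPt_mul g G)

theorem adjHom_injective : Function.Injective (adjHom g G Y) := adjPt_injective g G

theorem adjHom_surjective : Function.Surjective (adjHom g G Y) := adjPt_surjective g G

/-- points of the base change, as an isomorphism of groups -/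
def adjEquiv : (Y ⟶ Red.bc g G) ≃* ((Over.map g).obj Y ⟶ G) :=
  MulEquiv.ofBijective (adjHom g G Y) ⟨adjHom_injective g G Y, adjHom_surjective g G Y⟩

end Adj

section Transfer

variable {S T T' : Scheme.{u}} (g : T ⟶ S) [IsSchemeTheoreticallyDominant g] [QuasiCompact g]
  (g' : T' ⟶ S) (G : Over S) [GrpObj G] [Flat G.hom] [IsSeparated G.hom]

/-- the restriction of a point of `G` over a flat `S`-scheme `P` to the base change along `g` -/
theorem word_eq_one {P : Over S} [Flat P.hom] (w : P ⟶ G)
    (h : ∀ (Y : Over T) (ε : (Over.map g).obj Y ⟶ P), ε ≫ w = 1) : w = 1 := by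
  apply eq_of_comp_eq g
  let Y : Over T := Red.bc g P
  let ε : (Over.map g).obj Y ⟶ P := Over.homMk (pullback.fst P.hom g) (by
    change pullback.fst P.hom g ≫ P.hom = pullback.snd P.hom g ≫ g
    exact pullback.condition)
  have h1 : ε ≫ w = ε ≫ 1 := by rw [h Y ε, MonObj.comp_one]
  exact congrArg (fun z => z.left) h1

theorem solvable_transfer (h : Red.IsSolvableGrp (Red.bc g G)) :
    Red.IsSolvableGrp (Red.bc g' G) := by
  obtain ⟨n, hn⟩ := h
  refine ⟨n, fun Y' => ?_⟩
  haveI := flat_Pd G n
  have hW : Wd G n = 1 := by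
    apply word_eq_one g G
    intro Y ε
    have h1 : derivedSeries ((Over.map g).obj Y ⟶ G) n = ⊥ := by
      rw [← map_derivedSeries_eq (adjHom_surjective g G Y) n, hn Y, Subgroup.map_bot]
    apply (derivedSeries_eq_bot_iff _ n).mp h1
    rw [derSet_eq]
    exact ⟨ε, rfl⟩
  have h2 := (solvable_iff G n).mpr hW ((Over.map g').obj Y')
  have h3 := map_derivedSeries_le_derivedSeries (adjHom g' G Y') n
  rw [h2, le_bot_iff] at h3
  exact (Subgroup.map_eq_bot_iff_of_injective _ (adjHom_injective g' G Y')).mp h3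

theorem nilpotent_transfer (h : AGF.IsNilpotentGrp (Red.bc g G)) :
    AGF.IsNilpotentGrp (Red.bc g' G) := by
  obtain ⟨n, hn⟩ := h
  refine ⟨n, fun Y' => ?_⟩
  haveI := flat_Pl G n
  have hW : Wl G n = 1 := by
    apply word_eq_one g G
    intro Y ε
    have h1 : Subgroup.upperCentralSeries ((Over.map g).obj Y ⟶ G) n = ⊤ := by
      rw [← Subgroup.comap_upperCentralSeries (adjEquiv g G Y).symm n, hn Y, Subgroup.comap_top]
    apply (upperCentralSeries_eq_top_iff _ n).mp h1
    rw [lcsSet_eq]
    exact ⟨ε, rfl⟩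
  have h2 := (nilpotent_iff G n).mpr hW ((Over.map g').obj Y')
  rw [← Subgroup.comap_upperCentralSeries (adjEquiv g' G Y') n, h2, Subgroup.comap_top]

end Transfer

section Main

theorem schDom_SpecMap {A B : Type u} [CommRing A] [IsDomain A] [CommRing B] (φ : A →+* B)
    (hφ : Function.Injective φ) :
    IsSchemeTheoreticallyDominant (Spec.map (CommRingCat.ofHom φ)) := by
  haveI : IsDominant (Spec.map (CommRingCat.ofHom φ)) := by
    constructor
    have h : DenseRange (PrimeSpectrum.comap φ) := by
      rw [PrimeSpectrum.denseRange_comap_iff_ker_le_nilRadical,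
        (RingHom.injective_iff_ker_eq_bot _).mp hφ]
      exact bot_le
    exact h
  exact IsSchemeTheoreticallyDominant.of_isDominant _

theorem main (A : Type u) [CommRing A] [IsDomain A] [IsLocalRing A]
    (K : Type u) [Field K] [Algebra A K] [IsFractionRing A K]
    (G : Over (Spec (CommRingCat.of A))) [GrpObj G] [Flat G.hom] [IsSeparated G.hom] :
    (AGF.IsNilpotentGrp (Red.bc (Spec.map (CommRingCat.ofHom (algebraMap A K))) G) →
      AGF.IsNilpotentGrp (Red.bc (Spec.map (CommRingCat.ofHom
        (algebraMap A (IsLocalRing.ResidueField A)))) G)) ∧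
    (Red.IsSolvableGrp (Red.bc (Spec.map (CommRingCat.ofHom (algebraMap A K))) G) →
      Red.IsSolvableGrp (Red.bc (Spec.map (CommRingCat.ofHom
        (algebraMap A (IsLocalRing.ResidueField A)))) G)) := by
  haveI := schDom_SpecMap (algebraMap A K) (IsFractionRing.injective A K)
  exact ⟨nilpotent_transfer _ _ G, solvable_transfer _ _ G⟩

end Main

end Groth.Agent.Helper8.WordSch
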