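import Mathlib

set_option autoImplicit false

namespace Groth.Agent.Helper8.Wronsk
open Polynomial

variable {k : Type*} [Field k]

lemma mul_derivative_pow (p : k[X]) (n : ℕ) :
    p * derivative (p ^ n) = C (n : k) * p ^ n * derivative p := by
  cases n with
  | zero => simp
  | succ n =>
    rw [derivative_pow_succ]
    push_cast
    ring

lemma coeff_X_mul_derivative (P : k[X]) (t : ℕ) :
    (X * derivative P).coeff t = t * P.coeff t := by
  cases t with
  | zero => simp
  | succ s =>
    rw [coeff_X_mul, coeff_derivative]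
    push_cast
    ring

/-- The ODE satisfied by `(X+1)^i (X-q)^m`. -/
lemma ode (q : k) (i m : ℕ) :
    (X + 1) * (X - C q) * derivative ((X + 1) ^ i * (X - C q) ^ m) =
      (C (i : k) * (X - C q) + C (m : k) * (X + 1)) * ((X + 1) ^ i * (X - C q) ^ m) := by
  have hA := mul_derivative_pow (X + 1 : k[X]) i
  have hB := mul_derivative_pow (X - C q : k[X]) m
  have dA : derivative (X + 1 : k[X]) = 1 := by simp
  have dB : derivative (X - C q : k[X]) = 1 := by simp
  rw [dA, mul_one] at hA
  rw [dB, mul_one] at hB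
  rw [derivative_mul]
  linear_combination ((X - C q) * (X - C q) ^ m) * hA + ((X + 1) * (X + 1) ^ i) * hB

lemma rec_step [CharZero k] (q : k) (hq : q ≠ 0) (i m t : ℕ)
    (h0 : ((X + 1) ^ i * (X - C q) ^ m : k[X]).coeff t = 0)
    (h1 : ((X + 1) ^ i * (X - C q) ^ m : k[X]).coeff (t + 1) = 0) :
    ((X + 1) ^ i * (X - C q) ^ m : k[X]).coeff (t + 2) = 0 := by
  set P : k[X] := (X + 1) ^ i * (X - C q) ^ m with hP
  have hode := ode q i m
  rw [← hP] at hode
  have hexp : X * (X * derivative P) + C (1 - q) * (X * derivative P) - C q * derivative P =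
      C ((i : k) + m) * (X * P) + C ((m : k) - i * q) * P := by
    simp only [C_add, C_sub, C_mul, C_1]
    linear_combination hode
  have hc := congrArg (fun p => p.coeff (t + 1)) hexp
  simp only [coeff_add, coeff_sub, coeff_X_mul, coeff_C_mul, coeff_X_mul_derivative,
    coeff_derivative, h0, h1, mul_zero, add_zero, zero_mul, sub_zero, zero_sub] at hc
  have h2 : q * (P.coeff (t + 1 + 1) * ((t + 1 : ℕ) + 1 : k)) = 0 := by
    have := hc
    simp only [neg_eq_zero] at this
    exact this
  rcases mul_eq_zero.1 h2 with h | h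
  · exact absurd h hq
  · rcases mul_eq_zero.1 h with h | h
    · exact h
    · exfalso
      have : ((t + 1 + 1 : ℕ) : k) = 0 := by push_cast; push_cast at h; exact h
      exact absurd (Nat.cast_eq_zero.1 this) (by omega)

lemma not_both_zero [CharZero k] (q : k) (hq : q ≠ 0) (i m t : ℕ)
    (ht : t + 1 ≤ i + m)
    (h0 : ((X + 1) ^ i * (X - C q) ^ m : k[X]).coeff t = 0)
    (h1 : ((X + 1) ^ i * (X - C q) ^ m : k[X]).coeff (t + 1) = 0) : False := by
  have hall : ∀ s, ((X + 1) ^ i * (X - C q) ^ m : k[X]).coeff (t + s) = 0 ∧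
      ((X + 1) ^ i * (X - C q) ^ m : k[X]).coeff (t + s + 1) = 0 := by
    intro s
    induction s with
    | zero => exact ⟨h0, h1⟩
    | succ s ih =>
      refine ⟨ih.2, ?_⟩
      exact rec_step q hq i m (t + s) ih.1 ih.2
  have hmonic : ((X + 1) ^ i * (X - C q) ^ m : k[X]).Monic :=
    ((monic_X_add_C (1 : k)).pow i |>.mul ((monic_X_sub_C q).pow m) : _) |> fun h => by
      simpa using h
  have hdeg : ((X + 1) ^ i * (X - C q) ^ m : k[X]).natDegree = i + m := by
    have h1' : ((X + 1 : k[X]) ^ i).Monic := by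
      have := (monic_X_add_C (1 : k)).pow i
      simpa using this
    have h2' : ((X - C q : k[X]) ^ m).Monic := (monic_X_sub_C q).pow m
    rw [h1'.natDegree_mul h2', Monic.natDegree_pow, Monic.natDegree_pow (monic_X_sub_C q)]
    · have e1 : (X + 1 : k[X]).natDegree = 1 := by
        have := natDegree_X_add_C (1 : k)
        simpa using this
      rw [e1, natDegree_X_sub_C]; ring
    · have := monic_X_add_C (1 : k)
      simpa using this
  have hlc := hmonic.coeff_natDegree
  rw [hdeg] at hlc
  have := (hall (i + m - t - 1)).2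
  rw [show t + (i + m - t - 1) + 1 = i + m by omega, hlc] at this
  exact one_ne_zero this

theorem main (k : Type*) [Field k] [CharZero k] (a b i : ℕ) (ha : 0 < a) (hb : 0 < b) (hi : 0 < i)
    (hiab : i < a + b)
    (V : Submodule k (Polynomial k))
    (hV : V = Polynomial.degreeLE k ↑(a + b - i) ⊓
      LinearMap.ker ((Polynomial.lcoeff k a).comp (LinearMap.mulLeft k (((X : Polynomial k) + 1) ^ i))))
    (q : k) (hq : q ≠ 0) :
    Module.finrank k ↥(V ⊓ (Ideal.span {(X - C q) ^ (a + b - i - 1)}).restrictScalars k) ≤ 1 := by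
  set m := a + b - i - 1 with hm
  set P : k[X] := (X + 1) ^ i * (X - C q) ^ m with hP
  obtain ⟨a', rfl⟩ : ∃ a', a = a' + 1 := ⟨a - 1, by omega⟩
  set c1 := P.coeff a' with hc1
  set c0 := P.coeff (a' + 1) with hc0
  have hne : ¬ (c1 = 0 ∧ c0 = 0) := by
    rintro ⟨h1, h0⟩
    exact not_both_zero q hq i m a' (by omega) h1 h0
  let L : (k × k) →ₗ[k] k[X] :=
    { toFun := fun v => (X - C q) ^ m * (C v.1 * X + C v.2)
      map_add' := by intro v w; simp only [Prod.fst_add, Prod.snd_add, C_add]; ring
      map_smul' := by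
        intro c v
        simp only [Prod.smul_fst, Prod.smul_snd, smul_eq_mul, C_mul, RingHom.id_apply,
          smul_eq_C_mul]
        ring }
  let ℓ : (k × k) →ₗ[k] k := c1 • LinearMap.fst k k k + c0 • LinearMap.snd k k k
  have hℓ : LinearMap.ker ℓ ≠ ⊤ := by
    intro htop
    apply hne
    have h1 : ((1 : k), (0 : k)) ∈ LinearMap.ker ℓ := by rw [htop]; trivial
    have h2 : ((0 : k), (1 : k)) ∈ LinearMap.ker ℓ := by rw [htop]; trivial
    rw [LinearMap.mem_ker] at h1 h2
    simp only [ℓ, LinearMap.add_apply, LinearMap.smul_apply, LinearMap.fst_apply,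
      LinearMap.snd_apply, smul_eq_mul, mul_one, mul_zero, add_zero, zero_add] at h1 h2
    exact ⟨h1, h2⟩
  have hker1 : Module.finrank k (LinearMap.ker ℓ) ≤ 1 := by
    have := Submodule.finrank_lt hℓ
    rw [Module.finrank_prod, Module.finrank_self] at this
    omega
  have hle : V ⊓ (Ideal.span {(X - C q) ^ m}).restrictScalars k ≤
      (LinearMap.ker ℓ).map L := by
    rintro G ⟨hGV, hGspan⟩
    rw [hV] at hGV
    obtain ⟨hGdeg, hGker⟩ := hGV
    rw [SetLike.mem_coe, Submodule.restrictScalars_mem, Ideal.mem_span_singleton] at hGspan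
    obtain ⟨H, rfl⟩ := hGspan
    have hQmonic : ((X - C q : k[X]) ^ m).Monic := (monic_X_sub_C q).pow m
    have hHdeg : H.natDegree ≤ 1 := by
      rcases eq_or_ne H 0 with rfl | hH
      · simp
      · rw [SetLike.mem_coe, mem_degreeLE] at hGdeg
        have h1 := natDegree_le_of_degree_le hGdeg
        rw [hQmonic.natDegree_mul' hH, Monic.natDegree_pow (monic_X_sub_C q),
          natDegree_X_sub_C] at h1
        omega
    obtain ⟨α, β, rfl⟩ := exists_eq_X_add_C_of_natDegree_le_one hHdeg
    refine ⟨(α, β), ?_, rfl⟩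
    rw [SetLike.mem_coe, LinearMap.mem_ker] at hGker ⊢
    simp only [LinearMap.comp_apply, LinearMap.mulLeft_apply, lcoeff_apply] at hGker
    have e : (X + 1) ^ i * ((X - C q) ^ m * (C α * X + C β)) =
        C α * (P * X) + C β * P := by rw [hP]; ring
    rw [e, coeff_add, coeff_C_mul, coeff_C_mul, coeff_mul_X] at hGker
    simp only [ℓ, LinearMap.add_apply, LinearMap.smul_apply, LinearMap.fst_apply,
      LinearMap.snd_apply, smul_eq_mul]
    rw [← hGker, hc1, hc0]; ring
  calc Module.finrank k ↥(V ⊓ (Ideal.span {(X - C q) ^ m}).restrictScalars k)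
      ≤ Module.finrank k ((LinearMap.ker ℓ).map L) := Submodule.finrank_mono hle
    _ ≤ Module.finrank k (LinearMap.ker ℓ) := Submodule.finrank_map_le _ _
    _ ≤ 1 := hker1

end Groth.Agent.Helper8.Wronsk
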