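import Groth.Agent.Helper8.PolarD

set_option autoImplicit false

namespace Groth.Agent.Helper8.Polar

open Polynomial

section Conv
variable {k : Type*} [Field k] [CharZero k]

/-- multiples of `f` of bounded degree -/
theorem span_inf_degreeLE (f : k[X]) (hf : f ≠ 0) (t D : ℕ) (hD : f.natDegree + t = D + 1) :
    (Ideal.span {f}).restrictScalars k ⊓ degreeLE k (D : WithBot ℕ) =
      (degreeLT k t).map (LinearMap.mulLeft k f) := by
  ext g
  simp only [Submodule.mem_inf, Submodule.restrictScalars_mem, Ideal.mem_span_singleton,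
    mem_degreeLE, Submodule.mem_map, mem_degreeLT, LinearMap.mulLeft_apply]
  constructor
  · rintro ⟨⟨u, rfl⟩, hdeg⟩
    refine ⟨u, ?_, rfl⟩
    by_cases hu : u = 0
    · rw [hu, degree_zero]; exact WithBot.bot_lt_coe _
    · rw [degree_eq_natDegree (mul_ne_zero hf hu), natDegree_mul hf hu] at hdeg
      rw [degree_eq_natDegree hu]
      have : f.natDegree + u.natDegree ≤ D := by exact_mod_cast hdeg
      exact_mod_cast (by omega : u.natDegree < t)
  · rintro ⟨u, hu, rfl⟩
    refine ⟨Dvd.intro _ rfl, ?_⟩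
    by_cases hu0 : u = 0
    · rw [hu0, mul_zero, degree_zero]; exact bot_le
    · rw [degree_eq_natDegree (mul_ne_zero hf hu0), natDegree_mul hf hu0]
      rw [degree_eq_natDegree hu0] at hu
      have : u.natDegree < t := by exact_mod_cast hu
      exact_mod_cast (by omega : f.natDegree + u.natDegree ≤ D)

theorem map_degreeLT_one (f : k[X]) :
    (degreeLT k 1).map (LinearMap.mulLeft k f) = Submodule.span k {f} := by
  classical
  rw [degreeLT_eq_span_X_pow, Submodule.map_span]
  simp

noncomputable def r3 : Fin 2 → k := ![0, 1]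
def a3 (a b : ℕ) : Fin 2 → ℕ := ![a, b]

theorem r3_injective : Function.Injective (r3 : Fin 2 → k) := by
  intro i j hij
  fin_cases i <;> fin_cases j <;> simp [r3] at hij ⊢

theorem V3_eq (a b : ℕ) :
    ((Ideal.span {(X : k[X]) ^ (a + 1)}).restrictScalars k ⊓ degreeLE k ↑(a + b)) ⊔
      ((Ideal.span {((X : k[X]) - 1) ^ (b + 1)}).restrictScalars k ⊓ degreeLE k ↑(a + b)) ⊔
      Submodule.span k {(X : k[X]) ^ (a + 1) * (X - 1) ^ (b + 1)} =
    (degreeLT k 1).map (LinearMap.mulLeft k (∏ j, (X - C ((r3 : Fin 2 → k) j)) ^ (a3 a b j + 1))) ⊔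
      ⨆ i, (degreeLT k (a3 a b i)).map
        (LinearMap.mulLeft k (∏ j ∈ Finset.univ.erase i, (X - C ((r3 : Fin 2 → k) j)) ^ (a3 a b j + 1))) := by
  have e0 : (Finset.univ.erase (0 : Fin 2)) = {1} := by decide
  have e1 : (Finset.univ.erase (1 : Fin 2)) = {0} := by decide
  have hX : (X : k[X]) ^ (a + 1) ≠ 0 := pow_ne_zero _ X_ne_zero
  have hX1 : ((X : k[X]) - 1) ^ (b + 1) ≠ 0 := by
    have := X_sub_C_ne_zero (1 : k)
    rw [C_1] at this
    exact pow_ne_zero _ this
  have hnX1 : (((X : k[X]) - 1) ^ (b + 1)).natDegree = b + 1 := by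
    rw [← C_1, natDegree_pow, natDegree_X_sub_C, mul_one]
  have hA := span_inf_degreeLE ((X : k[X]) ^ (a + 1)) hX b (a + b) (by rw [natDegree_X_pow]; ring)
  have hB := span_inf_degreeLE (((X : k[X]) - 1) ^ (b + 1)) hX1 a (a + b) (by rw [hnX1]; ring)
  have hsup : (⨆ i, (degreeLT k (a3 a b i)).map
        (LinearMap.mulLeft k (∏ j ∈ Finset.univ.erase i, (X - C ((r3 : Fin 2 → k) j)) ^ (a3 a b j + 1)))) =
      (degreeLT k a).map (LinearMap.mulLeft k (((X : k[X]) - 1) ^ (b + 1))) ⊔
        (degreeLT k b).map (LinearMap.mulLeft k ((X : k[X]) ^ (a + 1))) := by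
    refine le_antisymm (iSup_le fun i => ?_) (sup_le ?_ ?_)
    · fin_cases i
      · refine le_trans (le_of_eq ?_) le_sup_left
        simp [e0, r3, a3]
      · refine le_trans (le_of_eq ?_) le_sup_right
        simp [e1, r3, a3]
    · refine le_trans (le_of_eq ?_) (le_iSup _ (0 : Fin 2))
      simp [e0, r3, a3]
    · refine le_trans (le_of_eq ?_) (le_iSup _ (1 : Fin 2))
      simp [e1, r3, a3]
  rw [hsup, map_degreeLT_one, hA, hB, Fin.prod_univ_two]
  simp only [r3, a3, Matrix.cons_val_zero, Matrix.cons_val_one, C_0, sub_zero, C_1]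
  rw [sup_comm]
  congr 1
  rw [sup_comm]

end Conv

section Three
variable {k : Type*} [Field k] [CharZero k]

theorem sum_a3 (a b : ℕ) : ∑ j, a3 a b j = a + b := by
  simp [Fin.sum_univ_two, a3]

theorem unmarked3 (q : k) (hq0 : q ≠ 0) (hq1 : q ≠ 1) : ∀ j, q ≠ (r3 : Fin 2 → k) j := by
  intro j
  fin_cases j <;> simp [r3, hq0, hq1]

/-- if `h E = Ψ 0` then `h = 0` -/
theorem eq_zero_of_rel_zero {m : ℕ} (r : Fin m → k) (a : Fin m → ℕ) (h : k[X])
    (hrel : h * EE r a = Psi r a 0) : h = 0 := by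
  rw [map_zero] at hrel
  exact (mul_eq_zero.mp hrel).resolve_right (EE_ne_zero r a)

theorem natDegree_sub_C_mul_EE_le {m : ℕ} (r : Fin m → k) (a : Fin m → ℕ) (N : ℕ)
    (hN : ∑ j, a j ≤ N) (G : k[X]) (hG : G.natDegree ≤ N) (c : k) :
    (G - C c * EE r a).natDegree ≤ N := by
  refine (natDegree_sub_le _ _).trans (max_le hG ?_)
  exact (natDegree_C_mul_le _ _).trans ((natDegree_EE_le r a).trans hN)

theorem isCoprime_pow_X_sub_C (p q : k) (hpq : p ≠ q) (i j : ℕ) :
    IsCoprime ((X - C p : k[X]) ^ i) ((X - C q) ^ j) :=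
  (isCoprime_X_sub_C_of_isUnit_sub (IsUnit.mk0 _ (sub_ne_zero.mpr hpq))).pow

/-- main bound: two unmarked points -/
theorem finrank_two_unmarked_le_one {m : ℕ} (r : Fin m → k) (a : Fin m → ℕ) (b N : ℕ)
    (hN : N = (∑ j, a j) + b) (V : Submodule k k[X])
    (hV : V = (degreeLT k b).map (LinearMap.mulLeft k (∏ j, (X - C (r j)) ^ (a j + 1))) ⊔
      ⨆ i, (degreeLT k (a i)).map
        (LinearMap.mulLeft k (∏ j ∈ Finset.univ.erase i, (X - C (r j)) ^ (a j + 1))))
    (p q : k) (hp : ∀ j, p ≠ r j) (hq : ∀ j, q ≠ r j) (i j : ℕ) (hij : i + j + 1 = N) :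
    Module.finrank k ↥(V ⊓ (Ideal.span {(X - C p) ^ i * (X - C q) ^ j}).restrictScalars k) ≤ 1 := by
  classical
  set S := V ⊓ (Ideal.span {(X - C p) ^ i * (X - C q) ^ j}).restrictScalars k with hS
  set E := EE r a with hE
  have hEne : E ≠ 0 := EE_ne_zero r a
  have hinj : Function.Injective (LinearMap.mulRight k E) := fun x y hxy =>
    mul_right_cancel₀ hEne hxy
  have hsN : ∑ j, a j ≤ N := by omega
  by_cases hpq : p = q
  · -- a single point
    subst hpq
    set T : Submodule k k[X] := Submodule.span k {(X - C p) ^ N} with hT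
    have hfT : Module.finrank k T ≤ 1 := by
      have := finrank_span_le_card (R := k) ({(X - C p) ^ N} : Set k[X])
      simpa using this
    have key : S.map (LinearMap.mulRight k E) ≤ T.map (Psi r a) := by
      rintro _ ⟨h, hhS, rfl⟩
      have hhV : h ∈ V := hhS.1
      have hdvd : (X - C p) ^ (i + j) ∣ h := by
        have := Ideal.mem_span_singleton.mp hhS.2
        rwa [← pow_add] at this
      obtain ⟨G₁, hG₁d, hrel, hG₁dvd⟩ := order_lemma r a b N hN V hV p hp h hhV (i + j) hdvd
      rw [hij] at hG₁dvd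
      obtain ⟨L, hL⟩ := hG₁dvd
      have hrel' := (rel_iff r a h G₁).mp hrel
      refine ⟨G₁, ?_, hrel'.symm⟩
      by_cases hL0 : L = 0
      · rw [hL, hL0, mul_zero]; exact T.zero_mem
      have hLd : L.natDegree = 0 := by
        have : G₁.natDegree = N + L.natDegree := by
          rw [hL, natDegree_mul (pow_ne_zero _ (X_sub_C_ne_zero p)) hL0, natDegree_pow,
            natDegree_X_sub_C, mul_one]
        omega
      rw [hL, eq_C_of_natDegree_eq_zero hLd, mul_comm, ← smul_eq_C_mul]
      exact T.smul_mem _ (Submodule.subset_span rfl)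
    calc Module.finrank k S
        = Module.finrank k (S.map (LinearMap.mulRight k E)) :=
          (Submodule.equivMapOfInjective _ hinj S).finrank_eq
      _ ≤ Module.finrank k (T.map (Psi r a)) := Submodule.finrank_mono key
      _ ≤ Module.finrank k T := Submodule.finrank_map_le _ _
      _ ≤ 1 := hfT
  · -- two distinct points
    let T' : Submodule k (k[X] × k) :=
      { carrier := {x | x.1 ∈ degreeLT k (N + 1) ∧ (X - C p) ^ (i + 1) ∣ x.1 ∧
          (X - C q) ^ (j + 1) ∣ x.1 - C x.2 * E}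
        zero_mem' := by simp
        add_mem' := by
          rintro x y ⟨hx1, hx2, hx3⟩ ⟨hy1, hy2, hy3⟩
          refine ⟨Submodule.add_mem _ hx1 hy1, dvd_add hx2 hy2, ?_⟩
          have : (x + y).1 - C (x + y).2 * E = (x.1 - C x.2 * E) + (y.1 - C y.2 * E) := by
            simp only [Prod.fst_add, Prod.snd_add, C_add]; ring
          rw [this]
          exact dvd_add hx3 hy3
        smul_mem' := by
          rintro c x ⟨hx1, hx2, hx3⟩
          refine ⟨Submodule.smul_mem _ c hx1, ?_, ?_⟩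
          · rw [Prod.smul_fst, smul_eq_C_mul]; exact Dvd.dvd.mul_left hx2 _
          · have : (c • x).1 - C (c • x).2 * E = C c * (x.1 - C x.2 * E) := by
              simp only [Prod.smul_fst, Prod.smul_snd, smul_eq_C_mul, smul_eq_mul, C_mul]; ring
            rw [this]
            exact Dvd.dvd.mul_left hx3 _ }
    have hsnd : Function.Injective ((LinearMap.snd k k[X] k).comp T'.subtype) := by
      rw [← LinearMap.ker_eq_bot, LinearMap.ker_eq_bot']
      rintro ⟨x, hx1, hx2, hx3⟩ hx0
      have hx0' : x.2 = 0 := hx0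
      rw [hx0', C_0, zero_mul, sub_zero] at hx3
      have hdvd := (isCoprime_pow_X_sub_C p q hpq (i + 1) (j + 1)).mul_dvd hx2 hx3
      have hx10 : x.1 = 0 := by
        by_contra hne
        have hnd : x.1.natDegree < N + 1 :=
          (natDegree_lt_iff_degree_lt hne).mpr (mem_degreeLT.mp hx1)
        have := natDegree_le_of_dvd hdvd hne
        rw [natDegree_mul (pow_ne_zero _ (X_sub_C_ne_zero p)) (pow_ne_zero _ (X_sub_C_ne_zero q)),
          natDegree_pow, natDegree_pow, natDegree_X_sub_C, natDegree_X_sub_C] at this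
        omega
      exact Subtype.ext (Prod.ext hx10 hx0')
    haveI hfdT' : FiniteDimensional k T' := FiniteDimensional.of_injective _ hsnd
    have hfT' : Module.finrank k T' ≤ 1 := by
      have := LinearMap.finrank_le_finrank_of_injective hsnd
      rwa [Module.finrank_self] at this
    have key : S.map (LinearMap.mulRight k E) ≤
        T'.map ((Psi r a).comp (LinearMap.fst k k[X] k)) := by
      rintro _ ⟨h, hhS, rfl⟩
      have hhV : h ∈ V := hhS.1
      have hdvd : (X - C p) ^ i * (X - C q) ^ j ∣ h := Ideal.mem_span_singleton.mp hhS.2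
      obtain ⟨G, hGd, hrel⟩ := Vrel r a b N hN V hV hhV
      have hrel' := (rel_iff r a h G).mp hrel
      have h1 := order_lemma_any r a p hp h G hrel' i ((Dvd.intro _ rfl).trans hdvd)
      set c₁ := G.eval p / (EE r a).eval p with hc₁
      set G₁ := G - C c₁ * EE r a with hG₁
      have hrel₁ : h * EE r a = Psi r a G₁ := by rw [hG₁, Psi_sub_C_mul_EE]; exact hrel'
      have h2 := order_lemma_any r a q hq h G₁ hrel₁ j ((Dvd.intro_left _ rfl).trans hdvd)
      set c₂ := G₁.eval q / (EE r a).eval q with hc₂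
      refine ⟨(G₁, c₂), ⟨?_, h1, h2⟩, hrel₁.symm⟩
      exact mem_degreeLT_succ_of_natDegree_le (natDegree_sub_C_mul_EE_le r a N hsN G hGd c₁)
    calc Module.finrank k S
        = Module.finrank k (S.map (LinearMap.mulRight k E)) :=
          (Submodule.equivMapOfInjective _ hinj S).finrank_eq
      _ ≤ Module.finrank k (T'.map ((Psi r a).comp (LinearMap.fst k k[X] k))) :=
          Submodule.finrank_mono key
      _ ≤ Module.finrank k T' := Submodule.finrank_map_le _ _
      _ ≤ 1 := hfT'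

theorem main16260 (a b i j : ℕ) (hi : 0 < i) (hiab : i ≤ a + b)
    (hj : i + j = a + b + 2)
    (V : Submodule k k[X])
    (hV : V = ((Ideal.span {(X : k[X]) ^ (a + 1)}).restrictScalars k ⊓ degreeLE k ↑(a + b)) ⊔
      ((Ideal.span {((X : k[X]) - 1) ^ (b + 1)}).restrictScalars k ⊓ degreeLE k ↑(a + b)) ⊔
      Submodule.span k {(X : k[X]) ^ (a + 1) * (X - 1) ^ (b + 1)})
    (p q : k) (hp0 : p ≠ 0) (hp1 : p ≠ 1) (hq0 : q ≠ 0) (hq1 : q ≠ 1) :
    ¬ (1 ≤ Module.finrank k ↥(V ⊓ (Ideal.span {(X - C p) ^ i * (X - C q) ^ j}).restrictScalars k) ∧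
       2 ≤ Module.finrank k ↥(V ⊓ (Ideal.span {(X - C p) ^ (i - 1) * (X - C q) ^ (j - 1)}).restrictScalars k)) := by
  rintro ⟨-, h2⟩
  rw [V3_eq] at hV
  have := finrank_two_unmarked_le_one (r3 : Fin 2 → k) (a3 a b) 1 (a + b + 1)
    (by rw [sum_a3]) V hV p q (unmarked3 p hp0 hp1) (unmarked3 q hq0 hq1) (i - 1) (j - 1) (by omega)
  omega

end Three

end Groth.Agent.Helper8.Polar
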