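import Groth.Agent.Helper8.Wronsk3

set_option autoImplicit false

namespace Groth.Agent.Helper8.Polar

open Polynomial

section Three
variable {k : Type*} [Field k] [CharZero k]

theorem main16261 (a b i j : ℕ) (hi : 0 < i) (hiab : i ≤ a + b)
    (hj : i + j = a + b + 2)
    (V : Submodule k k[X])
    (hV : V = ((Ideal.span {(X : k[X]) ^ (a + 1)}).restrictScalars k ⊓ degreeLE k ↑(a + b)) ⊔
      ((Ideal.span {((X : k[X]) - 1) ^ (b + 1)}).restrictScalars k ⊓ degreeLE k ↑(a + b)) ⊔
      Submodule.span k {(X : k[X]) ^ (a + 1) * (X - 1) ^ (b + 1)})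
    (q : k)
    (h1 : 1 ≤ Module.finrank k ↥(V ⊓ (Ideal.span {(X : k[X]) ^ i * (X - C q) ^ j}).restrictScalars k)) :
    a + 1 ≤ i := by
  by_contra hcon
  have hia : i ≤ a := by omega
  rw [V3_eq] at hV
  set r : Fin 2 → k := r3 with hr
  set aa : Fin 2 → ℕ := a3 a b with haa
  have hrinj : Function.Injective r := r3_injective
  set N := a + b + 1 with hNdef
  have hN : N = (∑ j, aa j) + 1 := by rw [haa, sum_a3]
  have hsN : ∑ j, aa j ≤ N := by omega
  have hne : V ⊓ (Ideal.span {(X : k[X]) ^ i * (X - C q) ^ j}).restrictScalars k ≠ ⊥ := by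
    intro h0
    rw [h0, finrank_bot] at h1
    omega
  obtain ⟨h, hhS, hh0⟩ := Submodule.exists_mem_ne_zero_of_ne_bot hne
  have hhV : h ∈ V := hhS.1
  have hdvd : (X : k[X]) ^ i * (X - C q) ^ j ∣ h := Ideal.mem_span_singleton.mp hhS.2
  obtain ⟨G, hGd, hrel⟩ := Vrel r aa 1 N hN V hV hhV
  have hrel' := (rel_iff r aa h G).mp hrel
  have hX0 : (X : k[X]) = X - C (r 0) := by simp [hr, r3]
  have hX1 : (X : k[X]) - C 1 = X - C (r 1) := by simp [hr, r3]
  have haa0 : aa 0 = a := by simp [haa, a3]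
  have hXi : (X - C (r 0)) ^ i ∣ h := by
    rw [← hX0]; exact (Dvd.intro _ rfl).trans hdvd
  -- a common contradiction
  have final : ∀ (c : k) (u : k[X]), u ∣ G - C c * EE r aa → N < u.natDegree → False := by
    intro c u hu hdeg
    have h0 : G - C c * EE r aa = 0 :=
      eq_zero_of_dvd_of_natDegree_lt hu
        (lt_of_le_of_lt (natDegree_sub_C_mul_EE_le r aa N hsN G hGd c) hdeg)
    have hrel₁ : h * EE r aa = Psi r aa (G - C c * EE r aa) := by
      rw [Psi_sub_C_mul_EE]; exact hrel'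
    rw [h0] at hrel₁
    exact hh0 (eq_zero_of_rel_zero r aa h hrel₁)
  by_cases hq0 : q = 0
  · -- `Q = A`
    have hd : (X - C (r 0)) ^ (N + 1) ∣ h := by
      have : (X : k[X]) ^ i * (X - C q) ^ j = (X - C (r 0)) ^ (N + 1) := by
        rw [show N + 1 = i + j by omega, pow_add, ← hX0, hq0, C_0, sub_zero]
      rw [← this]; exact hdvd
    obtain ⟨c, hc⟩ := marked_order r aa hrinj 0 (N + 1) h G hrel' hd
    refine final c _ hc ?_
    rw [natDegree_pow, natDegree_X_sub_C]; omega
  by_cases hq1 : q = 1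
  · -- `Q = B`
    have hd : (X - C (r 1)) ^ j ∣ h := by
      rw [← hX1, ← hq1]; exact (Dvd.intro_left _ rfl).trans hdvd
    obtain ⟨c, hc⟩ := marked_order r aa hrinj 1 j h G hrel' hd
    have hrel₁ : h * EE r aa = Psi r aa (G - C c * EE r aa) := by
      rw [Psi_sub_C_mul_EE]; exact hrel'
    have hlow := marked_order_low r aa hrinj 0 i (by rw [haa0]; exact hia) h _ hrel₁ hXi
    have hcop : IsCoprime ((X - C (r 0)) ^ i) ((X - C (r 1)) ^ j) :=
      isCoprime_pow_X_sub_C _ _ (by simp [hr, r3]) i j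
    refine final c _ (hcop.mul_dvd hlow hc) ?_
    rw [natDegree_mul (pow_ne_zero _ (X_sub_C_ne_zero _)) (pow_ne_zero _ (X_sub_C_ne_zero _)),
      natDegree_pow, natDegree_pow, natDegree_X_sub_C, natDegree_X_sub_C]
    omega
  · -- `Q` unmarked
    have hq : ∀ j, q ≠ r j := unmarked3 q hq0 hq1
    have hd : (X - C q) ^ j ∣ h := (Dvd.intro_left _ rfl).trans hdvd
    have hc := order_lemma_any r aa q hq h G hrel' j hd
    set c := G.eval q / (EE r aa).eval q with hcdef
    have hrel₁ : h * EE r aa = Psi r aa (G - C c * EE r aa) := by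
      rw [Psi_sub_C_mul_EE]; exact hrel'
    have hlow := marked_order_low r aa hrinj 0 i (by rw [haa0]; exact hia) h _ hrel₁ hXi
    have hcop : IsCoprime ((X - C (r 0)) ^ i) ((X - C q) ^ (j + 1)) :=
      isCoprime_pow_X_sub_C _ _ (by simpa [hr, r3] using (Ne.symm hq0)) i (j + 1)
    refine final c _ (hcop.mul_dvd hlow hc) ?_
    rw [natDegree_mul (pow_ne_zero _ (X_sub_C_ne_zero _)) (pow_ne_zero _ (X_sub_C_ne_zero _)),
      natDegree_pow, natDegree_pow, natDegree_X_sub_C, natDegree_X_sub_C]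
    omega

end Three

end Groth.Agent.Helper8.Polar
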