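import Mathlib
set_option autoImplicit false

namespace Groth.Agent.Helper8.WronskOld
open Polynomial

variable (k : Type*) [Field k]

/-- membership in `V` gives the two consequences we use -/
theorem mem_V (a : ℕ) (G : k[X])
    (hG : G ∈ Submodule.span k {(1 : Polynomial k)} ⊔
      ((Ideal.span {(X : Polynomial k) * (X + 1)}).restrictScalars k ⊓ Polynomial.degreeLE k ↑(a + 1))) :
    G.degree ≤ ↑(a + 1) ∧ G.eval 0 = G.eval (-1) := by
  rw [Submodule.mem_sup] at hG
  obtain ⟨y, hy, z, hz, rfl⟩ := hG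
  rw [Submodule.mem_span_singleton] at hy
  obtain ⟨c, rfl⟩ := hy
  obtain ⟨hz1, hz2⟩ := hz
  rw [SetLike.mem_coe, Polynomial.mem_degreeLE] at hz2
  rw [SetLike.mem_coe, Submodule.restrictScalars_mem, Ideal.mem_span_singleton'] at hz1
  obtain ⟨F, rfl⟩ := hz1
  constructor
  · refine (Polynomial.degree_add_le _ _).trans (max_le ?_ hz2)
    refine (Polynomial.degree_smul_le _ _).trans ?_
    rw [Polynomial.degree_one]
    exact_mod_cast Nat.zero_le _
  · simp


theorem finrank_le_one_of_le_span {M : Type*} [AddCommGroup M] [Module k M] (W : Submodule k M)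
    (w₀ : M) (h : W ≤ Submodule.span k {w₀}) : Module.finrank k W ≤ 1 := by
  refine (Submodule.finrank_mono h).trans ?_
  refine (finrank_span_le_card ({w₀} : Set M)).trans ?_
  simp

/-- a multiple of `(X - p)^a` of degree at most `a + 1` is `(X-p)^a` times a linear polynomial -/
theorem exists_linear (a : ℕ) (p : k) (G : k[X]) (hdeg : G.degree ≤ ↑(a + 1))
    (hdiv : G ∈ (Ideal.span {(X - C p) ^ a} : Ideal k[X])) :
    ∃ α β : k, G = (X - C p) ^ a * (C α * X + C β) := by
  rw [Ideal.mem_span_singleton'] at hdiv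
  obtain ⟨L, rfl⟩ := hdiv
  have hL : L.natDegree ≤ 1 := by
    by_cases hL0 : L = 0
    · simp [hL0]
    · have hne : L * (X - C p) ^ a ≠ 0 := mul_ne_zero hL0 (pow_ne_zero _ (X_sub_C_ne_zero p))
      have h1 := Polynomial.natDegree_le_of_degree_le hdeg
      rw [Polynomial.natDegree_mul hL0 (pow_ne_zero _ (X_sub_C_ne_zero p)),
        Polynomial.natDegree_pow, Polynomial.natDegree_X_sub_C] at h1
      omega
  refine ⟨L.coeff 1, L.coeff 0, ?_⟩
  conv_lhs => rw [Polynomial.eq_X_add_C_of_natDegree_le_one hL]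
  ring

theorem part_two (a : ℕ) (V : Submodule k (Polynomial k))
    (hV : V = Submodule.span k {(1 : Polynomial k)} ⊔
      ((Ideal.span {(X : Polynomial k) * (X + 1)}).restrictScalars k ⊓ Polynomial.degreeLE k ↑(a + 1))) :
    Module.finrank k ↥(V ⊓ Polynomial.degreeLT k 2) ≤ 1 := by
  apply finrank_le_one_of_le_span k _ (1 : k[X])
  rintro G ⟨hGV, hG2⟩
  rw [hV] at hGV
  obtain ⟨-, hev⟩ := mem_V k a G hGV
  rw [SetLike.mem_coe, Polynomial.mem_degreeLT] at hG2
  have hnat : G.natDegree ≤ 1 := by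
    by_cases h0 : G = 0
    · simp [h0]
    · have := (Polynomial.natDegree_lt_iff_degree_lt h0).2 hG2
      omega
  rw [Polynomial.eq_X_add_C_of_natDegree_le_one hnat] at hev ⊢
  simp at hev
  rw [hev, Submodule.mem_span_singleton]
  refine ⟨G.coeff 0, ?_⟩
  simp [Algebra.smul_def]


theorem part_one (a : ℕ) (ha : 0 < a) (V : Submodule k (Polynomial k))
    (hV : V = Submodule.span k {(1 : Polynomial k)} ⊔
      ((Ideal.span {(X : Polynomial k) * (X + 1)}).restrictScalars k ⊓ Polynomial.degreeLE k ↑(a + 1)))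
    (p : k) :
    Module.finrank k ↥(V ⊓ (Ideal.span {(X - C p) ^ a}).restrictScalars k) ≤ 1 := by
  by_cases hp : p = -1
  · subst hp
    apply finrank_le_one_of_le_span k _ ((X - C (-1 : k)) ^ a * X)
    rintro G ⟨hGV, hGd⟩
    rw [hV] at hGV
    obtain ⟨hdeg, hev⟩ := mem_V k a G hGV
    rw [SetLike.mem_coe, Submodule.restrictScalars_mem] at hGd
    obtain ⟨α, β, rfl⟩ := exists_linear k a (-1) G hdeg hGd
    simp only [eval_mul, eval_pow, eval_sub, eval_X, eval_C, eval_add, zero_sub, neg_neg, one_pow,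
      mul_zero, zero_add, one_mul, sub_self, zero_pow ha.ne', zero_mul] at hev
    rw [Submodule.mem_span_singleton]
    refine ⟨α, ?_⟩
    rw [hev, Algebra.smul_def]
    simp only [map_zero, add_zero, algebraMap_eq]
    ring
  · obtain ⟨u, hu⟩ : ∃ u : k, u = (-1 - p) ^ a := ⟨_, rfl⟩
    obtain ⟨v, hv⟩ : ∃ v : k, v = (-p) ^ a := ⟨_, rfl⟩
    have hu0 : u ≠ 0 := by
      rw [hu]
      apply pow_ne_zero
      intro h
      apply hp
      linear_combination -h
    apply finrank_le_one_of_le_span k _ ((X - C p) ^ a * (C (u - v) * X + C u))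
    rintro G ⟨hGV, hGd⟩
    rw [hV] at hGV
    obtain ⟨hdeg, hev⟩ := mem_V k a G hGV
    rw [SetLike.mem_coe, Submodule.restrictScalars_mem] at hGd
    obtain ⟨α, β, rfl⟩ := exists_linear k a p G hdeg hGd
    simp only [eval_mul, eval_pow, eval_sub, eval_X, eval_C, eval_add, zero_sub, mul_zero, zero_add] at hev
    rw [← hv, ← hu] at hev
    rw [Submodule.mem_span_singleton]
    refine ⟨β / u, ?_⟩
    have hα : α = β / u * (u - v) := by
      field_simp
      linear_combination hev
    have hβ : β = β / u * u := by field_simp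
    have hA : (C α : k[X]) = C (β / u) * C (u - v) := by rw [← C_mul, ← hα]
    have hB : (C β : k[X]) = C (β / u) * C u := by rw [← C_mul, ← hβ]
    rw [Algebra.smul_def, algebraMap_eq, hA, hB]
    ring

theorem main (a : ℕ) (ha : 0 < a) (V : Submodule k (Polynomial k))
    (hV : V = Submodule.span k {(1 : Polynomial k)} ⊔
      ((Ideal.span {(X : Polynomial k) * (X + 1)}).restrictScalars k ⊓ Polynomial.degreeLE k ↑(a + 1))) :
    (∀ p : k, Module.finrank k ↥(V ⊓ (Ideal.span {(X - C p) ^ a}).restrictScalars k) ≤ 1) ∧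
      Module.finrank k ↥(V ⊓ Polynomial.degreeLT k 2) ≤ 1 :=
  ⟨fun p => part_one k a ha V hV p, part_two k a V hV⟩


theorem finrank_degreeLT (n : ℕ) : Module.finrank k (Polynomial.degreeLT k n) = n := by
  rw [LinearEquiv.finrank_eq (Polynomial.degreeLTEquiv k n)]
  simp

instance (n : ℕ) : FiniteDimensional k (Polynomial.degreeLT k n) :=
  LinearEquiv.finiteDimensional (Polynomial.degreeLTEquiv k n).symm

/-- multiples of a monic `D` of degree `d` with degree at most `d + 2` are `D` times something of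
degree `< 3` -/
theorem exists_quadratic (d : ℕ) (D G : k[X]) (hD : D.Monic) (hDd : D.natDegree = d)
    (hdeg : G.degree ≤ ↑(d + 2)) (hdiv : G ∈ (Ideal.span {D} : Ideal k[X])) :
    ∃ Q ∈ Polynomial.degreeLT k 3, G = D * Q := by
  rw [Ideal.mem_span_singleton'] at hdiv
  obtain ⟨L, rfl⟩ := hdiv
  refine ⟨L, ?_, mul_comm _ _⟩
  rw [Polynomial.mem_degreeLT]
  by_cases hL0 : L = 0
  · rw [hL0, Polynomial.degree_zero]; exact WithBot.bot_lt_coe _
  · have h1 := Polynomial.natDegree_le_of_degree_le hdeg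
    rw [Polynomial.natDegree_mul hL0 hD.ne_zero, hDd] at h1
    rw [Polynomial.degree_eq_natDegree hL0]
    exact_mod_cast (by omega : L.natDegree < 3)

theorem lt_three (a i j : ℕ) (hij : i + j + 1 = a)
    (V : Submodule k (Polynomial k))
    (hV : V = Submodule.span k {(1 : Polynomial k)} ⊔
      ((Ideal.span {(X : Polynomial k) * (X + 1)}).restrictScalars k ⊓ Polynomial.degreeLE k ↑(a + 1)))
    (p q : k) (hst : ¬ ((-p) ^ i * (-q) ^ j = 0 ∧ (-1 - p) ^ i * (-1 - q) ^ j = 0)) :
    Module.finrank k ↥(V ⊓ (Ideal.span {(X - C p) ^ i * (X - C q) ^ j}).restrictScalars k) < 3 := by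
  obtain ⟨s, hs⟩ : ∃ s : k, s = (-p) ^ i * (-q) ^ j := ⟨_, rfl⟩
  obtain ⟨t, ht⟩ : ∃ t : k, t = (-1 - p) ^ i * (-1 - q) ^ j := ⟨_, rfl⟩
  rw [← hs, ← ht] at hst
  let ℓ : k[X] →ₗ[k] k := s • Polynomial.leval 0 - t • Polynomial.leval (-1)
  let K : Submodule k k[X] := Polynomial.degreeLT k 3 ⊓ LinearMap.ker ℓ
  have hKlt : K < Polynomial.degreeLT k 3 := by
    refine lt_of_le_of_ne inf_le_left ?_
    intro hK
    have h1 : (X + 1 : k[X]) ∈ K := by
      rw [hK, Polynomial.mem_degreeLT]
      refine lt_of_le_of_lt (Polynomial.degree_X_add_C (1 : k)).le ?_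
      norm_num
    have h2 : (X : k[X]) ∈ K := by
      rw [hK, Polynomial.mem_degreeLT]
      refine lt_of_le_of_lt Polynomial.degree_X_le ?_
      norm_num
    have e1 : ℓ (X + 1) = 0 := h1.2
    have e2 : ℓ X = 0 := h2.2
    simp [ℓ, Polynomial.leval] at e1 e2
    exact hst ⟨e1, e2⟩
  have hKfin : Module.finrank k K < 3 := by
    have := Submodule.finrank_lt_finrank_of_lt hKlt
    rwa [finrank_degreeLT] at this
  have hDm : ((X - C p) ^ i * (X - C q) ^ j : k[X]).Monic :=
    ((monic_X_sub_C p).pow i).mul ((monic_X_sub_C q).pow j)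
  have hDd : ((X - C p) ^ i * (X - C q) ^ j : k[X]).natDegree = i + j := by
    rw [Polynomial.natDegree_mul (pow_ne_zero _ (X_sub_C_ne_zero p)) (pow_ne_zero _ (X_sub_C_ne_zero q)),
      Polynomial.natDegree_pow, Polynomial.natDegree_pow, natDegree_X_sub_C, natDegree_X_sub_C]
    ring
  have hle : V ⊓ (Ideal.span {(X - C p) ^ i * (X - C q) ^ j}).restrictScalars k ≤
      K.map (LinearMap.mulLeft k ((X - C p) ^ i * (X - C q) ^ j)) := by
    rintro G ⟨hGV, hGd⟩
    rw [hV] at hGV
    obtain ⟨hdeg, hev⟩ := mem_V k a G hGV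
    rw [SetLike.mem_coe, Submodule.restrictScalars_mem] at hGd
    have hdeg' : G.degree ≤ ↑(i + j + 2) := by
      have : a + 1 = i + j + 2 := by omega
      rwa [this] at hdeg
    obtain ⟨Q, hQ, rfl⟩ := exists_quadratic k (i + j) _ G hDm hDd hdeg' hGd
    refine ⟨Q, ⟨hQ, ?_⟩, rfl⟩
    simp only [eval_mul, eval_pow, eval_sub, eval_X, eval_C, zero_sub] at hev
    rw [← hs, ← ht] at hev
    change ℓ Q = 0
    simp only [ℓ, Polynomial.leval, LinearMap.sub_apply, LinearMap.smul_apply, LinearMap.coe_mk,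
      AddHom.coe_mk, smul_eq_mul]
    linear_combination hev
  haveI : FiniteDimensional k K := Submodule.finiteDimensional_of_le inf_le_left
  calc Module.finrank k ↥(V ⊓ (Ideal.span {(X - C p) ^ i * (X - C q) ^ j}).restrictScalars k)
      ≤ Module.finrank k ↥(K.map (LinearMap.mulLeft k ((X - C p) ^ i * (X - C q) ^ j))) :=
        Submodule.finrank_mono hle
    _ ≤ Module.finrank k K := Submodule.finrank_map_le _ _
    _ < 3 := hKfin


theorem ge_three (a i j : ℕ) (hij : i + j + 1 = a)
    (V : Submodule k (Polynomial k))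
    (hV : V = Submodule.span k {(1 : Polynomial k)} ⊔
      ((Ideal.span {(X : Polynomial k) * (X + 1)}).restrictScalars k ⊓ Polynomial.degreeLE k ↑(a + 1)))
    (p q : k) (h0 : ((X - C p) ^ i * (X - C q) ^ j : k[X]).eval 0 = 0)
    (h1 : ((X - C p) ^ i * (X - C q) ^ j : k[X]).eval (-1) = 0) :
    3 ≤ Module.finrank k ↥(V ⊓ (Ideal.span {(X - C p) ^ i * (X - C q) ^ j}).restrictScalars k) := by
  obtain ⟨D, hD⟩ : ∃ D : k[X], D = (X - C p) ^ i * (X - C q) ^ j := ⟨_, rfl⟩
  rw [← hD] at h0 h1 ⊢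
  have hDne : D ≠ 0 := by
    rw [hD]; exact mul_ne_zero (pow_ne_zero _ (X_sub_C_ne_zero p)) (pow_ne_zero _ (X_sub_C_ne_zero q))
  have hDd : D.natDegree = i + j := by
    rw [hD, Polynomial.natDegree_mul (pow_ne_zero _ (X_sub_C_ne_zero p)) (pow_ne_zero _ (X_sub_C_ne_zero q)),
      Polynomial.natDegree_pow, Polynomial.natDegree_pow, natDegree_X_sub_C, natDegree_X_sub_C]
    ring
  have hdvd : (X : k[X]) * (X + 1) ∣ D := by
    have hc : IsCoprime (X : k[X]) (X + 1) := ⟨-1, 1, by ring⟩
    refine hc.mul_dvd ?_ ?_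
    · rw [Polynomial.X_dvd_iff, Polynomial.coeff_zero_eq_eval_zero]; exact h0
    · have : (X + 1 : k[X]) = X - C (-1) := by simp
      rw [this, Polynomial.dvd_iff_isRoot]; exact h1
  have hW : ∀ Q ∈ Polynomial.degreeLT k 3,
      D * Q ∈ V ⊓ (Ideal.span {D}).restrictScalars k := by
    intro Q hQ
    rw [Polynomial.mem_degreeLT] at hQ
    refine ⟨?_, ?_⟩
    · rw [hV]
      refine Submodule.mem_sup_right ⟨?_, ?_⟩
      · rw [SetLike.mem_coe, Submodule.restrictScalars_mem, Ideal.mem_span_singleton]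
        exact hdvd.mul_right Q
      · rw [SetLike.mem_coe, Polynomial.mem_degreeLE]
        by_cases hQ0 : Q = 0
        · rw [hQ0, mul_zero, Polynomial.degree_zero]; exact bot_le
        · rw [Polynomial.degree_eq_natDegree (mul_ne_zero hDne hQ0),
            Polynomial.natDegree_mul hDne hQ0, hDd]
          have : Q.natDegree < 3 := (Polynomial.natDegree_lt_iff_degree_lt hQ0).2 hQ
          exact_mod_cast (by omega : i + j + Q.natDegree ≤ a + 1)
    · rw [SetLike.mem_coe, Submodule.restrictScalars_mem, Ideal.mem_span_singleton]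
      exact dvd_mul_right D Q
  let φ : Polynomial.degreeLT k 3 →ₗ[k] ↥(V ⊓ (Ideal.span {D}).restrictScalars k) :=
    LinearMap.codRestrict _ ((LinearMap.mulLeft k D).comp (Polynomial.degreeLT k 3).subtype)
      (fun Q => hW Q.1 Q.2)
  have hφ : Function.Injective φ := by
    intro Q₁ Q₂ h
    have : D * Q₁.1 = D * Q₂.1 := congrArg Subtype.val h
    exact Subtype.ext (mul_left_cancel₀ hDne this)
  haveI : FiniteDimensional k ↥(V ⊓ (Ideal.span {D}).restrictScalars k) := by
    apply Submodule.finiteDimensional_of_le (S₂ := Polynomial.degreeLT k (a + 2))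
    rintro G ⟨hGV, -⟩
    rw [hV] at hGV
    obtain ⟨hdeg, -⟩ := mem_V k a G hGV
    rw [Polynomial.mem_degreeLT]
    refine lt_of_le_of_lt hdeg ?_
    exact_mod_cast (by omega : a + 1 < a + 2)
  have := LinearMap.finrank_le_finrank_of_injective hφ
  rwa [finrank_degreeLT] at this

theorem main2 (a i j : ℕ) (hi : 0 < i) (hj : 0 < j) (hij : i + j + 1 = a)
    (V : Submodule k (Polynomial k))
    (hV : V = Submodule.span k {(1 : Polynomial k)} ⊔
      ((Ideal.span {(X : Polynomial k) * (X + 1)}).restrictScalars k ⊓ Polynomial.degreeLE k ↑(a + 1)))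
    (p q : k) :
    3 ≤ Module.finrank k ↥(V ⊓ (Ideal.span {(X - C p) ^ i * (X - C q) ^ j}).restrictScalars k) ↔
      (p = 0 ∧ q = -1) ∨ (p = -1 ∧ q = 0) := by
  constructor
  · intro h3
    by_contra hcon
    have hst : ¬ ((-p) ^ i * (-q) ^ j = 0 ∧ (-1 - p) ^ i * (-1 - q) ^ j = 0) := by
      rintro ⟨hs, ht⟩
      apply hcon
      have hs' : p = 0 ∨ q = 0 := by
        rcases mul_eq_zero.1 hs with h | h
        · left; exact neg_eq_zero.1 (pow_eq_zero_iff hi.ne' |>.1 h)
        · right; exact neg_eq_zero.1 (pow_eq_zero_iff hj.ne' |>.1 h)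
      have ht' : p = -1 ∨ q = -1 := by
        rcases mul_eq_zero.1 ht with h | h
        · left
          have := pow_eq_zero_iff hi.ne' |>.1 h
          linear_combination -this
        · right
          have := pow_eq_zero_iff hj.ne' |>.1 h
          linear_combination -this
      have h01 : (0 : k) ≠ -1 := by
        intro h; have : (1 : k) = 0 := by linear_combination h
        exact one_ne_zero this
      rcases hs' with hp | hq <;> rcases ht' with hp' | hq'
      · exact absurd (hp.symm.trans hp') h01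
      · exact Or.inl ⟨hp, hq'⟩
      · exact Or.inr ⟨hp', hq⟩
      · exact absurd (hq.symm.trans hq') h01
    have := lt_three k a i j hij V hV p q hst
    omega
  · rintro (⟨rfl, rfl⟩ | ⟨rfl, rfl⟩)
    · apply ge_three k a i j hij V hV
      · simp [zero_pow hi.ne']
      · simp [zero_pow hj.ne']
    · apply ge_three k a i j hij V hV
      · simp [zero_pow hj.ne']
      · simp [zero_pow hi.ne']

end Groth.Agent.Helper8.WronskOld
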