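import Mathlib
import Groth.Prelude.Def_W4c2invhilbsl2
import Groth.Agent.Helper8.WtRank
import Groth.Agent.Helper8.WtPiece5
import Groth.Agent.Helper8.WtRankI

namespace Groth.Agent.Helper8.WtRankJ

open MvPolynomial W4c2invhilbsl2

/-- number theory: solutions of `(q-p) x + q m j = 0`. -/
lemma arithJ (p q m : ℕ) (hpq : p < q) (hcop : Nat.Coprime p q) (hm : 0 < m) (x j : ℤ)
    (h : ((q - p : ℕ) : ℤ) * x + q * m * j = 0) :
    ∃ t : ℤ, x = -((m / Nat.gcd m (q - p) * q : ℕ) : ℤ) * t ∧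
      x + m * j = -((m / Nat.gcd m (q - p) * p : ℕ) : ℤ) * t := by
  set n := q - p with hn
  set g := Nat.gcd m n with hg
  have hgpos : 0 < g := Nat.gcd_pos_of_pos_left _ hm
  obtain ⟨a, ha⟩ : g ∣ m := Nat.gcd_dvd_left _ _
  obtain ⟨b0, hb0⟩ : g ∣ n := Nat.gcd_dvd_right _ _
  have hma : m / g = a := by rw [ha]; exact Nat.mul_div_cancel_left _ hgpos
  rw [hma]
  have hnpos : 0 < n := by omega
  have hb0pos : 0 < b0 := by
    rcases Nat.eq_zero_or_pos b0 with h0 | h0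
    · rw [h0, mul_zero] at hb0; omega
    · exact h0
  have hcop1 : Nat.Coprime b0 a := by
    have := Nat.coprime_div_gcd_div_gcd (m := m) (n := n) hgpos
    rw [← hg] at this
    have h1 : m / g = a := hma
    have h2 : n / g = b0 := by rw [hb0]; exact Nat.mul_div_cancel_left _ hgpos
    rw [h1, h2] at this
    exact this.symm
  have hcop2 : Nat.Coprime b0 q := by
    have h1 : Nat.Coprime n q := (Nat.coprime_self_sub_left hpq.le).mpr hcop
    exact Nat.Coprime.coprime_dvd_left ⟨g, by rw [hb0]; ring⟩ h1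
  have hcop3 : Nat.Coprime b0 (q * a) := Nat.Coprime.mul_right hcop2 hcop1
  -- cancel g
  have h1 : (b0 : ℤ) * x + q * a * j = 0 := by
    have hg0 : (g : ℤ) ≠ 0 := by exact_mod_cast hgpos.ne'
    have : (g : ℤ) * ((b0 : ℤ) * x + q * a * j) = 0 := by
      have e1 : ((n : ℕ) : ℤ) = g * b0 := by exact_mod_cast hb0
      have e2 : (m : ℤ) = g * a := by exact_mod_cast ha
      rw [e1, e2] at h
      linarith
    exact (mul_eq_zero.mp this).resolve_left hg0
  have hdvd : (b0 : ℤ) ∣ (q * a : ℕ) * j := by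
    refine ⟨-x, ?_⟩
    push_cast
    linarith
  have hdvdj : (b0 : ℤ) ∣ j := by
    refine Int.dvd_of_dvd_mul_right_of_gcd_one hdvd ?_
    rw [Int.gcd_natCast_natCast]
    exact hcop3
  obtain ⟨t, rfl⟩ := hdvdj
  have hb0' : (b0 : ℤ) ≠ 0 := by exact_mod_cast hb0pos.ne'
  have hx : x = -((a * q : ℕ) : ℤ) * t := by
    have : (b0 : ℤ) * (x + q * a * t) = 0 := by linarith
    have := (mul_eq_zero.mp this).resolve_left hb0'
    push_cast
    linarith
  refine ⟨t, hx, ?_⟩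
  have e2 : (m : ℤ) = g * a := by exact_mod_cast ha
  have e3 : (q : ℤ) = n + p := by
    have : q = n + p := by omega
    exact_mod_cast this
  have e1 : ((n : ℕ) : ℤ) = g * b0 := by exact_mod_cast hb0
  rw [hx, e2]
  push_cast
  rw [e3]
  have : (g : ℤ) * a * (b0 * t) = a * t * (g * b0) := by ring
  rw [this, ← e1]
  ring

section abstract

variable {k : Type*} [Field k] {Q : Type*} [CommRing Q] [Algebra k Q] (u0 u1 u3 : Q)

/-- the monomial `u0^a u1^b u3^c` -/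
def TJ (a b c : ℕ) : Q := u0 ^ a * u1 ^ b * u3 ^ c

variable {u0 u1 u3} {A B : ℕ} {s : k} (rJ : algebraMap k Q s = u1 ^ A * u3 ^ B)

include rJ in
lemma lemJ {a0 b c b' c' t : ℕ} (hb : b = b' + A * t) (hc : c = c' + B * t) :
    TJ u0 u1 u3 a0 b c = s ^ t • TJ u0 u1 u3 a0 b' c' := by
  unfold TJ
  rw [Algebra.smul_def, map_pow, rJ, hb, hc, pow_add, pow_add, mul_pow, ← pow_mul, ← pow_mul]
  ring

end abstract

theorem main28 (k : Type*) [Field k] (p q m : ℕ) (hpq : p < q) (hcop : Nat.Coprime p q)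
    (hm : 0 < m) (s : k) (ν : ℤ × ZMod m) :
    Module.rank k (W4c2invhilbsl2.piece k (W4c2invhilbsl2.wt5 p q m)
      (W4c2invhilbsl2.idealJ k p q m s) ν) ≤ 1 := by
  set I := idealJ k p q m s with hI
  set g := Nat.gcd m (q - p) with hg
  set u0 := Ideal.Quotient.mk I (X 0) with hu0
  set u1 := Ideal.Quotient.mk I (X 1) with hu1
  set u3 := Ideal.Quotient.mk I (X 3) with hu3
  have hu2 : Ideal.Quotient.mk I (X 2) = 0 :=
    Ideal.Quotient.eq_zero_iff_mem.mpr (Ideal.subset_span (by simp))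
  have hu4 : Ideal.Quotient.mk I (X 4) = 0 :=
    Ideal.Quotient.eq_zero_iff_mem.mpr (Ideal.subset_span (by simp))
  have r0 : u0 ^ g = 0 := by
    rw [hu0, ← map_pow]
    exact Ideal.Quotient.eq_zero_iff_mem.mpr (Ideal.subset_span (by simp [hg]))
  have rJ : algebraMap k (MvPolynomial (Fin 5) k ⧸ I) s =
      u1 ^ (m / g * q) * u3 ^ (m / g * p) := by
    have : algebraMap k (MvPolynomial (Fin 5) k ⧸ I) s = Ideal.Quotient.mk I (C s) := rfl
    rw [this, hu1, hu3, ← map_pow, ← map_pow, ← map_mul, Ideal.Quotient.eq]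
    exact Ideal.subset_span (by simp [hg])
  refine WtRank.rank_piece_le_one _ _ _ fun d d' hd hd' => ?_
  rw [WtRankI.mk_monomial, WtRankI.mk_monomial, hu2, hu4]
  by_cases h24 : d 2 = 0 ∧ d 4 = 0 ∧ d 0 < g
  swap
  · refine ⟨0, Or.inr ?_⟩
    rw [zero_smul]
    rcases not_and_or.mp h24 with h | h
    · rw [zero_pow h]; ring
    · rcases not_and_or.mp h with h | h
      · rw [zero_pow h]; ring
      · obtain ⟨r, hr⟩ := Nat.exists_eq_add_of_le (not_lt.mp h)
        rw [hr, pow_add, r0]; ring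
  by_cases h24' : d' 2 = 0 ∧ d' 4 = 0 ∧ d' 0 < g
  swap
  · refine ⟨0, Or.inl ?_⟩
    rw [zero_smul]
    rcases not_and_or.mp h24' with h | h
    · rw [zero_pow h]; ring
    · rcases not_and_or.mp h with h | h
      · rw [zero_pow h]; ring
      · obtain ⟨r, hr⟩ := Nat.exists_eq_add_of_le (not_lt.mp h)
        rw [hr, pow_add, r0]; ring
  obtain ⟨h2, h4, h0⟩ := h24
  obtain ⟨h2', h4', h0'⟩ := h24'
  rw [h2, h4, h2', h4']
  simp only [pow_zero, mul_one]
  have hfst := (congrArg Prod.fst hd).trans (congrArg Prod.fst hd').symm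
  have hsnd := (congrArg Prod.snd hd).trans (congrArg Prod.snd hd').symm
  rw [WtPiece5.weight5_fst, WtPiece5.weight5_fst, h2, h4, h2', h4'] at hfst
  rw [WtRankI.weight5_snd, WtRankI.weight5_snd, h2, h4, h2', h4',
    ZMod.intCast_eq_intCast_iff_dvd_sub] at hsnd
  simp only [add_zero, zero_add] at hfst hsnd
  obtain ⟨j, hj⟩ := hsnd
  change ∃ c : k, TJ u0 u1 u3 (d' 0) (d' 1) (d' 3) = c • TJ u0 u1 u3 (d 0) (d 1) (d 3) ∨
    TJ u0 u1 u3 (d 0) (d 1) (d 3) = c • TJ u0 u1 u3 (d' 0) (d' 1) (d' 3)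
  -- x = d'1 - d1, y = d'3 - d3, y - x = m j
  have hqn : (q : ℤ) = ((q - p : ℕ) : ℤ) + p := by
    have : q = (q - p) + p := by omega
    exact_mod_cast this
  have e1 : (d 0 : ℤ) - d' 0 = ((q - p : ℕ) : ℤ) * ((d' 1 : ℤ) - d 1) + q * m * j := by
    have : (q : ℤ) * (m * j) = q * (((d' 3 : ℤ) - d' 1) - (d 3 - d 1)) := by rw [hj]
    have h5 : (q : ℤ) * m * j = q * (m * j) := by ring
    rw [h5, this]
    have h6 : ((q - p : ℕ) : ℤ) = q - p := by linarith
    rw [h6]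
    linarith
  have hgm : (g : ℤ) ∣ m := by exact_mod_cast Nat.gcd_dvd_left m (q - p)
  have hgn : (g : ℤ) ∣ ((q - p : ℕ) : ℤ) := by exact_mod_cast Nat.gcd_dvd_right m (q - p)
  have hdvd : (g : ℤ) ∣ (d 0 : ℤ) - d' 0 := by
    rw [e1]
    exact dvd_add (Dvd.dvd.mul_right hgn _) (Dvd.dvd.mul_right (Dvd.dvd.mul_left hgm _) _)
  have habs : |(d 0 : ℤ) - d' 0| < g := by
    rw [abs_lt]
    constructor <;> [skip; skip] <;> omega
  have h00 : (d 0 : ℤ) - d' 0 = 0 := Int.eq_zero_of_abs_lt_dvd hdvd habs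
  have hd0 : d 0 = d' 0 := by omega
  rw [h00] at e1
  obtain ⟨t, hx, hy⟩ := arithJ p q m hpq hcop hm _ j e1.symm
  rw [hd0]
  rcases le_total 0 t with ht | ht
  · obtain ⟨t0, rfl⟩ : ∃ t0 : ℕ, t = (t0 : ℤ) := ⟨t.toNat, by omega⟩
    refine ⟨s ^ t0, Or.inr (lemJ rJ ?_ ?_)⟩
    · zify
      push_cast at hx
      linarith
    · zify
      push_cast at hy
      linarith
  · obtain ⟨t0, rfl⟩ : ∃ t0 : ℕ, t = -(t0 : ℤ) := ⟨(-t).toNat, by omega⟩
    refine ⟨s ^ t0, Or.inl (lemJ rJ ?_ ?_)⟩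
    · zify
      push_cast at hx
      linarith
    · zify
      push_cast at hy
      linarith

end Groth.Agent.Helper8.WtRankJ
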