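import Mathlib
import Groth.Agent.Helper8.ZMul
import Groth.Agent.Helper8.ZPtsB

set_option autoImplicit false
universe u
open CategoryTheory CategoryTheory.Limits AlgebraicGeometry
open Groth.Agent.Helper8.ZPts Groth.Agent.Helper8.ZMul

namespace Groth.Agent.Helper8.ZAff

open AffineSpace

variable {k : Type u} [Field k] {X : Scheme.{u}} (f : X ⟶ Spec (CommRingCat.of k))
variable (L : Type u) [Field L] [Algebra k L]

/-- points of the affine line over `X` are points of `X` together with a coordinate. -/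
noncomputable def ptsEquiv : Pts ((𝔸(PUnit.{u + 1}; X) ↘ X) ≫ f) L ≃ Pts f L × L where
  toFun h := (⟨h.1 ≫ (𝔸(PUnit.{u + 1}; X) ↘ X), by rw [Category.assoc]; exact h.2⟩,
    (Scheme.ΓSpecIso (CommRingCat.of L)).hom.hom (h.1.appTop (coord X PUnit.unit)))
  invFun g := ⟨homOfVector g.1.1 (fun _ => (Scheme.ΓSpecIso (CommRingCat.of L)).inv.hom g.2), by
    rw [homOfVector_over_assoc]; exact g.1.2⟩
  left_inv h := by
    apply Subtype.ext
    apply AffineSpace.hom_ext
    · rw [homOfVector_over]
    · intro i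
      rw [homOfVector_appTop_coord]
      cases i
      exact congrArg (fun t => t.hom (h.1.appTop (coord X PUnit.unit)))
        (Scheme.ΓSpecIso (CommRingCat.of L)).hom_inv_id
  right_inv g := by
    apply Prod.ext
    · apply Subtype.ext
      exact homOfVector_over _ _
    · show (Scheme.ΓSpecIso (CommRingCat.of L)).hom.hom
        ((homOfVector g.1.1 (fun _ => (Scheme.ΓSpecIso (CommRingCat.of L)).inv.hom g.2)).appTop
          (coord X PUnit.unit)) = g.2
      rw [homOfVector_appTop_coord]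
      exact congrArg (fun t => t.hom g.2) (Scheme.ΓSpecIso (CommRingCat.of L)).inv_hom_id

theorem pointCount_affineLine :
    SgaExt.pointCount ((𝔸(PUnit.{u + 1}; X) ↘ X) ≫ f) L = SgaExt.pointCount f L * Nat.card L := by
  show Nat.card (Pts ((𝔸(PUnit.{u + 1}; X) ↘ X) ≫ f) L) = Nat.card (Pts f L) * Nat.card L
  rw [Nat.card_congr (ptsEquiv f L), Nat.card_prod]

variable [Finite k] [LocallyOfFiniteType f] [QuasiCompact f]

theorem nPts_affineLine (m : ℕ) :
    Zeta.nPts ((𝔸(PUnit.{u + 1}; X) ↘ X) ≫ f) m = Zeta.nPts f m * Nat.card k ^ m := by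
  rcases Nat.eq_zero_or_pos m with rfl | hm
  · simp [Zeta.nPts]
  obtain ⟨L, _, _, _, hL⟩ := exists_extension k m hm
  rw [← hL, ← pointCount_eq_nPts, ← pointCount_eq_nPts, pointCount_affineLine,
    Module.natCard_eq_pow_finrank (K := k) (V := L)]

theorem logZeta_affineLine :
    Zeta.logZeta ((𝔸(PUnit.{u + 1}; X) ↘ X) ≫ f) =
      PowerSeries.rescale (Nat.card k : ℚ) (Zeta.logZeta f) := by
  ext m
  rw [PowerSeries.coeff_rescale]
  simp only [Zeta.logZeta, PowerSeries.coeff_mk]
  rw [nPts_affineLine, Nat.cast_mul, Nat.cast_pow]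
  ring

/-- S14455. -/
theorem zetaFun_affineLine :
    Zeta.zetaFun ((𝔸(PUnit.{u + 1}; X) ↘ X) ≫ f) =
      PowerSeries.rescale (Nat.card k : ℚ) (Zeta.zetaFun f) := by
  unfold Zeta.zetaFun
  have hL : PowerSeries.HasSubst (Zeta.logZeta f) :=
    PowerSeries.HasSubst.of_constantCoeff_zero' (constantCoeff_logZeta f)
  rw [logZeta_affineLine, PowerSeries.rescale_eq_subst, PowerSeries.rescale_eq_subst,
    PowerSeries.subst_comp_subst_apply hL (PowerSeries.HasSubst.smul_X' _)]

end Groth.Agent.Helper8.ZAff
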