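import Mathlib
import Groth.Agent.Helper8.ZMul
import Groth.Agent.Helper8.ZAlg
import Groth.Agent.Helper8.ZPtsB

set_option autoImplicit false
universe u v
open CategoryTheory CategoryTheory.Limits AlgebraicGeometry
open Groth.Agent.Helper8.ZPts Groth.Agent.Helper8.ZMul

namespace Groth.Agent.Helper8.ZBC

section geometry

variable {k : Type u} [Field k] {X : Scheme.{u}} (f : X ⟶ Spec (CommRingCat.of k))
  (k' : Type u) [Field k'] [Algebra k k']

/-- points of the base change with values in an extension of `k'` are points of `X`. -/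
noncomputable def ptsEquiv (L : Type u) [Field L] [Algebra k L] [Algebra k' L]
    [IsScalarTower k k' L] :
    Pts (pullback.snd f (Spec.map (CommRingCat.ofHom (algebraMap k k')))) L ≃ Pts f L where
  toFun g := ⟨g.1 ≫ pullback.fst _ _, by
    rw [Category.assoc, pullback.condition, ← Category.assoc, g.2, ← Spec.map_comp,
      ← CommRingCat.ofHom_comp, IsScalarTower.algebraMap_eq k k' L]⟩
  invFun g := ⟨pullback.lift g.1 (Spec.map (CommRingCat.ofHom (algebraMap k' L))) (by
    rw [g.2, ← Spec.map_comp, ← CommRingCat.ofHom_comp, ← IsScalarTower.algebraMap_eq]),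
    pullback.lift_snd _ _ _⟩
  left_inv g := by
    apply Subtype.ext
    apply pullback.hom_ext
    · rw [pullback.lift_fst]
    · rw [pullback.lift_snd, g.2]
  right_inv g := Subtype.ext (pullback.lift_fst _ _ _)

variable [Finite k] [LocallyOfFiniteType f] [QuasiCompact f] [Finite k']

theorem nPts_baseChange (m : ℕ) :
    Zeta.nPts (pullback.snd f (Spec.map (CommRingCat.ofHom (algebraMap k k')))) m =
      Zeta.nPts f (Module.finrank k k' * m) := by
  rcases Nat.eq_zero_or_pos m with rfl | hm
  · simp [Zeta.nPts]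
  obtain ⟨L, _, _, _, hL⟩ := exists_extension k' m hm
  letI : Algebra k L := ((algebraMap k' L).comp (algebraMap k k')).toAlgebra
  haveI : IsScalarTower k k' L := IsScalarTower.of_algebraMap_eq (fun _ => rfl)
  have h1 : Module.finrank k L = Module.finrank k k' * m := by
    rw [← hL, Module.finrank_mul_finrank]
  rw [← h1, ← pointCount_eq_nPts f L]
  conv_lhs => rw [← hL]
  rw [← pointCount_eq_nPts _ L]
  exact Nat.card_congr (ptsEquiv f k' L)

end geometry

section algebra

open PowerSeries Groth.Agent.Helper6.LogDeriv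

variable {K : Type v} [Field K] [CharZero K]

theorem subst_exp_sum {ι : Type*} (s : Finset ι) (L : ι → PowerSeries K)
    (h0 : ∀ i ∈ s, PowerSeries.constantCoeff (L i) = 0) :
    PowerSeries.subst (∑ i ∈ s, L i) (PowerSeries.exp K) =
      ∏ i ∈ s, PowerSeries.subst (L i) (PowerSeries.exp K) := by
  have h0' : PowerSeries.constantCoeff (∑ i ∈ s, L i) = 0 := by
    rw [map_sum]; exact Finset.sum_eq_zero h0
  refine eq_of_HasLD (HasLD.exp_subst h0') ?_ ?_
  · have := HasLD.prod s (fun i => PowerSeries.subst (L i) (PowerSeries.exp K))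
      (fun i => PowerSeries.derivative K (L i)) (fun i hi => HasLD.exp_subst (h0 i hi))
    rwa [← map_sum] at this
  · rw [constantCoeff_exp_subst h0', map_prod]
    exact (Finset.prod_eq_one fun i hi => constantCoeff_exp_subst (h0 i hi)).symm

theorem rescale_subst_exp (c : K) (L : PowerSeries K) (h0 : PowerSeries.constantCoeff L = 0) :
    PowerSeries.rescale c (PowerSeries.subst L (PowerSeries.exp K)) =
      PowerSeries.subst (PowerSeries.rescale c L) (PowerSeries.exp K) := by
  have hL : PowerSeries.HasSubst L := PowerSeries.HasSubst.of_constantCoeff_zero' h0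
  rw [PowerSeries.rescale_eq_subst, PowerSeries.rescale_eq_subst,
    PowerSeries.subst_comp_subst_apply hL (PowerSeries.HasSubst.smul_X' _)]

variable {k₀ : Type u} [Field k₀] {X : Scheme.{u}} (f : X ⟶ Spec (CommRingCat.of k₀))

/-- the logarithm of the zeta function with coefficients in `K`. -/
noncomputable def LK : PowerSeries K := PowerSeries.mk fun m => (Zeta.nPts f m : K) / m

theorem constantCoeff_LK : PowerSeries.constantCoeff (LK (K := K) f) = 0 := by
  rw [← PowerSeries.coeff_zero_eq_constantCoeff_apply, LK, PowerSeries.coeff_mk,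
    Nat.cast_zero, div_zero]

theorem map_zeta_eq :
    PowerSeries.map (algebraMap ℚ K) (Zeta.zetaFun f) =
      PowerSeries.subst (LK (K := K) f) (PowerSeries.exp K) := by
  refine eq_of_HasLD (Groth.Agent.Helper8.ZAlg.hasLD_zeta (K := K) f) ?_ ?_
  · have h := HasLD.exp_subst (K := K) (constantCoeff_LK (K := K) f)
    have h2 : PowerSeries.derivative K (LK (K := K) f) =
        PowerSeries.mk fun m => (Zeta.nPts f (m + 1) : K) := by
      ext m
      rw [PowerSeries.coeff_derivative, LK, PowerSeries.coeff_mk, PowerSeries.coeff_mk]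
      have h1 : ((m + 1 : ℕ) : K) ≠ 0 := Nat.cast_ne_zero.mpr (Nat.succ_ne_zero m)
      have : ((m : K) + 1) = ((m + 1 : ℕ) : K) := by push_cast; ring
      rw [this, div_mul_cancel₀ _ h1]
    rwa [h2] at h
  · rw [Groth.Agent.Helper8.ZAlg.constantCoeff_zeta,
      constantCoeff_exp_subst (constantCoeff_LK (K := K) f)]

theorem sum_pow_pow (ξ : K) (r : ℕ) (hξ : IsPrimitiveRoot ξ r) (j : ℕ) :
    ∑ i ∈ Finset.range r, (ξ ^ i) ^ j = if r ∣ j then (r : K) else 0 := by
  split_ifs with h
  · have h1 : ∀ i, (ξ ^ i) ^ j = 1 := fun i => by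
      rw [← pow_mul, mul_comm, pow_mul, (hξ.pow_eq_one_iff_dvd j).2 h, one_pow]
    simp [h1]
  · have h1 : ξ ^ j ≠ 1 := fun h' => h ((hξ.pow_eq_one_iff_dvd j).1 h')
    have h2 : ∀ i, (ξ ^ i) ^ j = (ξ ^ j) ^ i := fun i => by
      rw [← pow_mul, ← pow_mul, mul_comm]
    simp only [h2]
    have h3 := mul_geom_sum (ξ ^ j) r
    rw [← pow_mul, mul_comm j r, pow_mul, hξ.pow_eq_one, one_pow, sub_self] at h3
    exact (mul_eq_zero.1 h3).resolve_left (sub_ne_zero.2 h1)

end algebra

section main

open PowerSeries

variable {k : Type u} [Field k] [Finite k] {X : Scheme.{u}} (f : X ⟶ Spec (CommRingCat.of k))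
  [LocallyOfFiniteType f] [QuasiCompact f]
  (k' : Type u) [Field k'] [Algebra k k'] [Finite k']
variable {K : Type v} [Field K] [CharZero K]

/-- S13054 over any field of characteristic zero. -/
theorem main (ξ : K) (hξ : IsPrimitiveRoot ξ (Module.finrank k k')) :
    PowerSeries.subst ((PowerSeries.X : PowerSeries K) ^ Module.finrank k k')
        (PowerSeries.map (algebraMap ℚ K) (Zeta.zetaFun
          (pullback.snd f (Spec.map (CommRingCat.ofHom (algebraMap k k')))))) =
      ∏ i ∈ Finset.range (Module.finrank k k'),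
        PowerSeries.rescale (ξ ^ i) (PowerSeries.map (algebraMap ℚ K) (Zeta.zetaFun f)) := by
  haveI : Module.Finite k k' := Module.Finite.of_finite
  have hr : 0 < Module.finrank k k' := Module.finrank_pos
  set r := Module.finrank k k' with hrdef
  set f' := pullback.snd f (Spec.map (CommRingCat.ofHom (algebraMap k k'))) with hf'
  rw [map_zeta_eq (K := K) f, map_zeta_eq (K := K) f']
  have hL' : PowerSeries.HasSubst (LK (K := K) f') :=
    PowerSeries.HasSubst.of_constantCoeff_zero' (constantCoeff_LK f')
  rw [PowerSeries.subst_comp_subst_apply hL' (PowerSeries.HasSubst.X_pow hr.ne'),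
    Finset.prod_congr rfl (fun i _ => rescale_subst_exp (ξ ^ i) (LK (K := K) f)
      (constantCoeff_LK f)),
    ← subst_exp_sum _ _ (fun i _ => by
      rw [← PowerSeries.coeff_zero_eq_constantCoeff_apply, PowerSeries.coeff_rescale,
        PowerSeries.coeff_zero_eq_constantCoeff_apply, constantCoeff_LK, mul_zero])]
  congr 1
  ext j
  rw [← PowerSeries.expand_apply r hr.ne', PowerSeries.coeff_expand, map_sum]
  simp only [PowerSeries.coeff_rescale]
  rw [← Finset.sum_mul, sum_pow_pow ξ r hξ j]
  split_ifs with h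
  · obtain ⟨m, rfl⟩ := h
    rw [Nat.mul_div_cancel_left _ hr, LK, LK, PowerSeries.coeff_mk, PowerSeries.coeff_mk,
      nPts_baseChange f k' m]
    rcases Nat.eq_zero_or_pos m with rfl | hm
    · simp
    · have h1 : (m : K) ≠ 0 := Nat.cast_ne_zero.mpr hm.ne'
      have h2 : (r : K) ≠ 0 := Nat.cast_ne_zero.mpr hr.ne'
      push_cast
      field_simp
      rfl
  · rw [zero_mul]

end main

end Groth.Agent.Helper8.ZBC
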