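import Mathlib
import Groth.Agent.Helper8.ZPtsB
import Groth.Agent.Helper5.IntegralDim

set_option autoImplicit false
universe u
open CategoryTheory CategoryTheory.Limits AlgebraicGeometry
open Groth.Agent.Helper8.ZPts

namespace Groth.Agent.Helper8.ZBound

section algebra

variable (k : Type u) [Field k] (A : Type u) [CommRing A] [Algebra k A] [Algebra.FiniteType k A]

/-- extensions of a homomorphism along an integral map of finite type are bounded in number. -/
theorem card_fibre_le (P : Type u) [CommRing P] [Algebra k P] (g : P →ₐ[k] A)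
    (hg : g.toRingHom.IsIntegral) :
    ∃ N : ℕ, ∀ (L : Type u) [Field L] [Algebra k L] [Finite L] (φ : P →ₐ[k] L),
      Nat.card {ψ : A →ₐ[k] L // ψ.comp g = φ} ≤ N := by
  classical
  obtain ⟨s, hs⟩ := (Algebra.FiniteType.out : (⊤ : Subalgebra k A).FG)
  have hQ : ∀ a : s, ∃ Q : Polynomial P, Q.Monic ∧ Polynomial.eval₂ g.toRingHom a.1 Q = 0 :=
    fun a => hg a.1
  choose Q hQm hQ0 using hQ
  refine ⟨∏ a : s, (Q a).natDegree, ?_⟩
  intro L _ _ _ φ
  let R : s → Finset L := fun a => ((Q a).map φ.toRingHom).roots.toFinset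
  have hroot : ∀ (ψ : {ψ : A →ₐ[k] L // ψ.comp g = φ}) (a : s), ψ.1 a.1 ∈ R a := by
    intro ψ a
    have hne : (Q a).map φ.toRingHom ≠ 0 := ((hQm a).map _).ne_zero
    rw [Multiset.mem_toFinset, Polynomial.mem_roots hne, Polynomial.IsRoot, Polynomial.eval_map]
    have h1 := congrArg ψ.1.toRingHom (hQ0 a)
    rw [Polynomial.hom_eval₂, map_zero] at h1
    have h2 : ψ.1.toRingHom.comp g.toRingHom = φ.toRingHom := by
      ext p
      exact congrArg (fun t : P →ₐ[k] L => t p) ψ.2
    rw [h2] at h1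
    exact h1
  let Ψ : {ψ : A →ₐ[k] L // ψ.comp g = φ} → (∀ a : s, {x : L // x ∈ R a}) :=
    fun ψ a => ⟨ψ.1 a.1, hroot ψ a⟩
  have hΨ : Function.Injective Ψ := by
    intro ψ₁ ψ₂ h
    apply Subtype.ext
    apply AlgHom.ext_of_adjoin_eq_top hs
    intro a ha
    exact congrArg Subtype.val (congrFun h ⟨a, ha⟩)
  calc Nat.card {ψ : A →ₐ[k] L // ψ.comp g = φ}
      ≤ Nat.card (∀ a : s, {x : L // x ∈ R a}) := Nat.card_le_card_of_injective Ψ hΨ
    _ = ∏ a : s, (R a).card := by
        rw [Nat.card_pi]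
        refine Finset.prod_congr rfl fun a _ => ?_
        rw [Nat.card_eq_fintype_card, Fintype.card_coe]
    _ ≤ ∏ a : s, (Q a).natDegree := by
        refine Finset.prod_le_prod' fun a _ => ?_
        calc (R a).card ≤ Multiset.card ((Q a).map φ.toRingHom).roots :=
              Multiset.toFinset_card_le _
          _ ≤ ((Q a).map φ.toRingHom).natDegree := Polynomial.card_roots' _
          _ ≤ (Q a).natDegree := Polynomial.natDegree_map_le

/-- the number of points of an affine algebra of dimension at most `r` with values in a finite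
field `L` is `O(|L|^r)`. -/
theorem card_algHom_le (r : ℕ) (hr : ringKrullDim A ≤ r) :
    ∃ N : ℕ, ∀ (L : Type u) [Field L] [Algebra k L] [Finite L],
      Nat.card (A →ₐ[k] L) ≤ N * Nat.card L ^ r := by
  classical
  by_cases hA : Subsingleton A
  · refine ⟨0, fun L _ _ _ => ?_⟩
    haveI : IsEmpty (A →ₐ[k] L) := ⟨fun ψ => by
      have h1 : ψ 1 = ψ 0 := congrArg ψ (Subsingleton.elim _ _)
      rw [map_one, map_zero] at h1
      exact one_ne_zero h1⟩
    simp
  · haveI : Nontrivial A := not_subsingleton_iff_nontrivial.mp hA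
    obtain ⟨s, g, hinj, hint⟩ := exists_integral_inj_algHom_of_fg k A
    -- the dimension
    have hs : s ≤ r := by
      letI : Algebra (MvPolynomial (Fin s) k) A := g.toRingHom.toAlgebra
      haveI : Algebra.IsIntegral (MvPolynomial (Fin s) k) A := ⟨hint⟩
      have h1 : ringKrullDim A = ringKrullDim (MvPolynomial (Fin s) k) :=
        Groth.Agent.Helper5.IntegralDim.ringKrullDim_eq_of_isIntegral_of_injective hinj
      rw [h1, MvPolynomial.ringKrullDim_of_isNoetherianRing, ringKrullDim_eq_zero_of_field,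
        zero_add, Nat.card_fin] at hr
      exact_mod_cast hr
    obtain ⟨N, hN⟩ := card_fibre_le k A (MvPolynomial (Fin s) k) g hint
    refine ⟨N, fun L _ _ _ => ?_⟩
    haveI : Finite (A →ₐ[k] L) := finite_algHom_of_finiteType k A L
    letI : Fintype (A →ₐ[k] L) := Fintype.ofFinite _
    letI : Fintype L := Fintype.ofFinite _
    let ρ : (A →ₐ[k] L) → (Fin s → L) := fun ψ i => ψ (g (MvPolynomial.X i))
    have hfib : ∀ b ∈ (Finset.univ : Finset (A →ₐ[k] L)).image ρ,
        ((Finset.univ : Finset (A →ₐ[k] L)).filter fun ψ => ρ ψ = b).card ≤ N := by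
      intro b hb
      obtain ⟨ψ₀, -, rfl⟩ := Finset.mem_image.mp hb
      have hsub : ∀ ψ : A →ₐ[k] L, ρ ψ = ρ ψ₀ → ψ.comp g = ψ₀.comp g := by
        intro ψ h
        apply MvPolynomial.algHom_ext
        intro i
        exact congrFun h i
      let ι : {ψ : A →ₐ[k] L // ρ ψ = ρ ψ₀} → {ψ : A →ₐ[k] L // ψ.comp g = ψ₀.comp g} :=
        fun ψ => ⟨ψ.1, hsub ψ.1 ψ.2⟩
      have hι : Function.Injective ι := fun ψ₁ ψ₂ h =>
        Subtype.ext (show ψ₁.1 = ψ₂.1 from congrArg (fun t => t.1) h)
      calc ((Finset.univ : Finset (A →ₐ[k] L)).filter fun ψ => ρ ψ = ρ ψ₀).card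
          = Nat.card {ψ : A →ₐ[k] L // ρ ψ = ρ ψ₀} := by
            rw [Nat.card_eq_fintype_card, Fintype.card_subtype]
        _ ≤ Nat.card {ψ : A →ₐ[k] L // ψ.comp g = ψ₀.comp g} :=
            Nat.card_le_card_of_injective ι hι
        _ ≤ N := hN L (ψ₀.comp g)
    have h1 := Finset.card_le_mul_card_image (Finset.univ : Finset (A →ₐ[k] L)) N hfib
    have h2 : ((Finset.univ : Finset (A →ₐ[k] L)).image ρ).card ≤ Nat.card L ^ s := by
      calc ((Finset.univ : Finset (A →ₐ[k] L)).image ρ).card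
          ≤ (Finset.univ : Finset (Fin s → L)).card := Finset.card_le_card (Finset.subset_univ _)
        _ = Nat.card L ^ s := by
            rw [Finset.card_univ, Fintype.card_fun, Fintype.card_fin, Nat.card_eq_fintype_card]
    have h3 : Nat.card L ^ s ≤ Nat.card L ^ r :=
      Nat.pow_le_pow_right Nat.card_pos hs
    calc Nat.card (A →ₐ[k] L) = (Finset.univ : Finset (A →ₐ[k] L)).card := by
          rw [Nat.card_eq_fintype_card, Finset.card_univ]
      _ ≤ N * ((Finset.univ : Finset (A →ₐ[k] L)).image ρ).card := h1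
      _ ≤ N * Nat.card L ^ r := Nat.mul_le_mul_left N (h2.trans h3)

end algebra

section scheme

variable {k : Type u} [Field k] {X : Scheme.{u}} (f : X ⟶ Spec (CommRingCat.of k))

/-- the `k`-algebra structure on the sections over an open. -/
noncomputable abbrev algΓ (V : X.Opens) : Algebra k Γ(X, V) :=
  ((f.appLE ⊤ V le_top).hom.comp (Scheme.ΓSpecIso (CommRingCat.of k)).inv.hom).toAlgebra

variable (L : Type u) [Field L] [Algebra k L]

/-- the algebra homomorphism of a point landing in `V`. -/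
noncomputable def ptAlgHom (V : X.Opens) (g : Pts f L)
    (hg : g.1 (IsLocalRing.closedPoint L) ∈ V) :
    letI := algΓ f V
    Γ(X, V) →ₐ[k] L :=
  letI := algΓ f V
  { (Scheme.ΓSpecIso (CommRingCat.of L)).hom.hom.comp
      (g.1.appLE V ⊤ (top_le_preimage L g.1 V hg)).hom with
    commutes' := fun c => by
      show (Scheme.ΓSpecIso (CommRingCat.of L)).hom.hom
        ((g.1.appLE V ⊤ (top_le_preimage L g.1 V hg)).hom
          ((f.appLE ⊤ V le_top).hom ((Scheme.ΓSpecIso (CommRingCat.of k)).inv.hom c))) =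
        algebraMap k L c
      have h1 : f.appLE ⊤ V le_top ≫ g.1.appLE V ⊤ (top_le_preimage L g.1 V hg) =
          (Spec.map (CommRingCat.ofHom (algebraMap k L))).appTop := by
        rw [Scheme.Hom.appLE_comp_appLE]
        simp only [g.2]
        rfl
      have h2 : CommRingCat.ofHom (algebraMap k L) =
          (Scheme.ΓSpecIso (CommRingCat.of k)).inv ≫
            (Spec.map (CommRingCat.ofHom (algebraMap k L))).appTop ≫
              (Scheme.ΓSpecIso (CommRingCat.of L)).hom := by
        rw [Scheme.ΓSpecIso_naturality, Iso.inv_hom_id_assoc]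
      have h3 := congrArg (fun t => t.hom c) h2
      rw [← h1] at h3
      exact h3.symm }

variable [Finite k] [LocallyOfFiniteType f]

theorem exists_bound_affine (V : X.affineOpens) (r : ℕ) (hr : topologicalKrullDim X ≤ r) :
    ∃ N : ℕ, ∀ (L : Type u) [Field L] [Algebra k L] [Finite L],
      Nat.card {g : Pts f L // g.1 (IsLocalRing.closedPoint L) ∈ V.1} ≤ N * Nat.card L ^ r := by
  letI := algΓ f V.1
  haveI : Algebra.FiniteType k Γ(X, V.1) := by
    have h1 := LocallyOfFiniteType.finiteType_appLE f (isAffineOpen_top _) V.2 le_top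
    have hsurj : Function.Surjective (Scheme.ΓSpecIso (CommRingCat.of k)).inv.hom :=
      (ConcreteCategory.bijective_of_isIso (Scheme.ΓSpecIso (CommRingCat.of k)).inv).2
    have h2 : ((f.appLE ⊤ V.1 le_top).hom.comp
        (Scheme.ΓSpecIso (CommRingCat.of k)).inv.hom).FiniteType :=
      RingHom.FiniteType.comp h1 (RingHom.FiniteType.of_surjective _ hsurj)
    exact RingHom.finiteType_algebraMap.mp h2
  have hdim : ringKrullDim Γ(X, V.1) ≤ r := by
    rw [← PrimeSpectrum.topologicalKrullDim_eq_ringKrullDim Γ(X, V.1)]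
    change topologicalKrullDim (Spec Γ(X, V.1)) ≤ _
    rw [← IsHomeomorph.topologicalKrullDim_eq _ V.2.isoSpec.hom.homeomorph.isHomeomorph]
    exact (topologicalKrullDim_subspace_le X V.1).trans hr
  obtain ⟨N, hN⟩ := card_algHom_le k Γ(X, V.1) r hdim
  refine ⟨N, fun L _ _ _ => ?_⟩
  haveI : Finite (Γ(X, V.1) →ₐ[k] L) := finite_algHom_of_finiteType k _ L
  refine le_trans (Nat.card_le_card_of_injective
    (fun g : {g : Pts f L // g.1 (IsLocalRing.closedPoint L) ∈ V.1} => ptAlgHom f L V.1 g.1 g.2)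
    ?_) (hN L)
  intro g₁ g₂ h
  apply Subtype.ext
  apply Subtype.ext
  have h2 : (Scheme.ΓSpecIso (CommRingCat.of L)).hom.hom.comp
      (g₁.1.1.appLE V.1 ⊤ (top_le_preimage L g₁.1.1 _ g₁.2)).hom =
      (Scheme.ΓSpecIso (CommRingCat.of L)).hom.hom.comp
      (g₂.1.1.appLE V.1 ⊤ (top_le_preimage L g₂.1.1 _ g₂.2)).hom :=
    congrArg (fun t : Γ(X, V.1) →ₐ[k] L => t.toRingHom) h
  have hinj : Function.Injective (Scheme.ΓSpecIso (CommRingCat.of L)).hom.hom :=
    (ConcreteCategory.bijective_of_isIso (Scheme.ΓSpecIso (CommRingCat.of L)).hom).1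
  have h3 : (g₁.1.1.appLE V.1 ⊤ (top_le_preimage L g₁.1.1 _ g₁.2)).hom =
      (g₂.1.1.appLE V.1 ⊤ (top_le_preimage L g₂.1.1 _ g₂.2)).hom := by
    ext a
    exact hinj (RingHom.congr_fun h2 a)
  exact eq_of_appLE_eq L _ _ V.1 V.2 _ _ (CommRingCat.hom_ext h3)

variable [QuasiCompact f]

/-- S13062. -/
theorem exists_bound (r : ℕ) (hr : topologicalKrullDim X ≤ r) :
    ∃ c : ℕ, ∀ (k' : Type u) [Field k'] [Algebra k k'] [Finite k'],
      SgaExt.pointCount f k' ≤ c * Nat.card k ^ (r * Module.finrank k k') := by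
  classical
  haveI : CompactSpace X := QuasiCompact.compactSpace_of_compactSpace f
  obtain ⟨S, hS⟩ : ∃ S : Finset X.affineOpens, ∀ x : X, ∃ V ∈ S, x ∈ V.1 := by
    have hcov : (Set.univ : Set X) ⊆ ⋃ V : X.affineOpens, (V.1 : Set X) := by
      intro x _
      obtain ⟨_, ⟨V, hV, rfl⟩, hxV, -⟩ :=
        X.isBasis_affineOpens.exists_subset_of_mem_open (Set.mem_univ x) isOpen_univ
      exact Set.mem_iUnion.mpr ⟨⟨V, hV⟩, hxV⟩
    obtain ⟨S, hS⟩ := isCompact_univ.elim_finite_subcover (fun V : X.affineOpens => (V.1 : Set X))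
      (fun V => V.1.2) hcov
    refine ⟨S, fun x => ?_⟩
    have := hS (Set.mem_univ x)
    simp only [Set.mem_iUnion] at this
    obtain ⟨V, hV, hx⟩ := this
    exact ⟨V, hV, hx⟩
  choose N hN using fun V : X.affineOpens => exists_bound_affine f V r hr
  refine ⟨∑ V ∈ S, N V, fun L _ _ _ => ?_⟩
  haveI := finite_pts f L
  letI : Fintype (Pts f L) := Fintype.ofFinite _
  have hcard : Nat.card L ^ r = Nat.card k ^ (r * Module.finrank k L) := by
    rw [Module.natCard_eq_pow_finrank (K := k) (V := L), ← pow_mul, mul_comm]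
  have hsub : (Finset.univ : Finset (Pts f L)) ⊆
      S.biUnion fun V => Finset.univ.filter fun g => g.1 (IsLocalRing.closedPoint L) ∈ V.1 := by
    intro g _
    obtain ⟨V, hVS, hV⟩ := hS (g.1 (IsLocalRing.closedPoint L))
    exact Finset.mem_biUnion.mpr ⟨V, hVS, Finset.mem_filter.mpr ⟨Finset.mem_univ _, hV⟩⟩
  calc SgaExt.pointCount f L = (Finset.univ : Finset (Pts f L)).card := by
        show Nat.card (Pts f L) = _
        rw [Nat.card_eq_fintype_card, Finset.card_univ]
    _ ≤ (S.biUnion fun V => Finset.univ.filter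
          fun g : Pts f L => g.1 (IsLocalRing.closedPoint L) ∈ V.1).card :=
        Finset.card_le_card hsub
    _ ≤ ∑ V ∈ S, (Finset.univ.filter
          fun g : Pts f L => g.1 (IsLocalRing.closedPoint L) ∈ V.1).card :=
        Finset.card_biUnion_le
    _ ≤ ∑ V ∈ S, N V * Nat.card L ^ r := by
        refine Finset.sum_le_sum fun V _ => ?_
        have := hN V L
        rwa [Nat.card_eq_fintype_card, Fintype.card_subtype] at this
    _ = (∑ V ∈ S, N V) * Nat.card k ^ (r * Module.finrank k L) := by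
        rw [← Finset.sum_mul, hcard]

end scheme

end Groth.Agent.Helper8.ZBound
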