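import Mathlib

set_option autoImplicit false

namespace Groth.Agent.Helper8.ZDir

section nrm

variable {Q : Type*} (N : Q → ℕ)

/-- the norm of an effective cycle. -/
noncomputable def nrm (α : Q →₀ ℕ) : ℕ := α.prod (fun x m => N x ^ m)

theorem nrm_zero : nrm N 0 = 1 := Finsupp.prod_zero_index

theorem nrm_add (α β : Q →₀ ℕ) : nrm N (α + β) = nrm N α * nrm N β :=
  Finsupp.prod_add_index' (fun _ => pow_zero _) (fun _ _ _ => pow_add _ _ _)

theorem nrm_pos (hN : ∀ x, 0 < N x) (α : Q →₀ ℕ) : 0 < nrm N α :=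
  Finset.prod_pos fun x _ => pow_pos (hN x) _

end nrm

section peel

variable {Q : Type*} (F : (Q →₀ ℕ) → ℂ)

/-- cycles avoiding `T`. -/
def avoid (T : Finset Q) : Set (Q →₀ ℕ) := {α | ∀ x ∈ T, α x = 0}

/-- partial sums over a set of cycles. -/
noncomputable def Lsum (s : Set (Q →₀ ℕ)) : ℂ := ∑' a : s, F a

theorem Lsum_union {s t : Set (Q →₀ ℕ)} (hs : Summable F) (hd : Disjoint s t) :
    Lsum F (s ∪ t) = Lsum F s + Lsum F t :=
  Summable.tsum_union_disjoint hd (hs.subtype s) (hs.subtype t)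

theorem peel [DecidableEq Q] (hadd : ∀ α β, F (α + β) = F α * F β) (hs : Summable F)
    (T : Finset Q) (x : Q) (hx : x ∉ T) :
    Lsum F (avoid (insert x T)) = (1 - F (Finsupp.single x 1)) * Lsum F (avoid T) := by
  let sh : (Q →₀ ℕ) → (Q →₀ ℕ) := fun α => α + Finsupp.single x 1
  have hshinj : Function.Injective sh := fun α β h => add_right_cancel h
  have hset : avoid T = avoid (insert x T) ∪ sh '' avoid T := by
    ext α
    constructor
    · intro hα
      by_cases hαx : α x = 0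
      · left
        intro y hy
        rcases Finset.mem_insert.mp hy with rfl | hy
        · exact hαx
        · exact hα y hy
      · right
        refine ⟨α - Finsupp.single x 1, ?_, ?_⟩
        · intro y hy
          rw [Finsupp.tsub_apply, hα y hy, Nat.zero_sub]
        · ext y
          simp only [sh, Finsupp.add_apply, Finsupp.tsub_apply]
          by_cases hyx : x = y
          · subst hyx
            rw [Finsupp.single_eq_same]
            omega
          · rw [Finsupp.single_eq_of_ne' hyx]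
            omega
    · rintro (hα | ⟨β, hβ, rfl⟩)
      · intro y hy
        exact hα y (Finset.mem_insert_of_mem hy)
      · intro y hy
        have hyx : x ≠ y := fun h => hx (h ▸ hy)
        simp only [sh, Finsupp.add_apply, hβ y hy, Finsupp.single_eq_of_ne' hyx, add_zero]
  have hdisj : Disjoint (avoid (insert x T)) (sh '' avoid T) := by
    rw [Set.disjoint_left]
    rintro α hα ⟨β, -, rfl⟩
    have := hα x (Finset.mem_insert_self x T)
    simp [sh] at this
  have himg : Lsum F (sh '' avoid T) = F (Finsupp.single x 1) * Lsum F (avoid T) := by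
    unfold Lsum
    rw [tsum_image F (hshinj.injOn)]
    simp only [sh, hadd]
    rw [tsum_mul_right, mul_comm]
  have h1 : Lsum F (avoid T) = Lsum F (avoid (insert x T)) + Lsum F (sh '' avoid T) := by
    conv_lhs => rw [hset]
    exact Lsum_union F hs hdisj
  rw [himg] at h1
  linear_combination -h1

theorem tsum_ne_zero (h0 : F 0 = 1) (hadd : ∀ α β, F (α + β) = F α * F β) (hs : Summable F) :
    ∑' α, F α ≠ 0 := by
  classical
  intro hL
  have hall : ∀ T : Finset Q, Lsum F (avoid T) = 0 := by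
    intro T
    induction T using Finset.induction_on with
    | empty =>
      have h1 : avoid (∅ : Finset Q) = Set.univ := by
        ext α
        simp [avoid]
      unfold Lsum
      rw [h1, tsum_univ]
      exact hL
    | insert x T hx ih => rw [peel F hadd hs T x hx, ih, mul_zero]
  obtain ⟨U, hU⟩ := hs.tsum_vanishing (Metric.ball_mem_nhds (0 : ℂ) one_pos)
  let T : Finset Q := U.biUnion Finsupp.support
  have hdisjU : Disjoint (avoid T \ {0}) (U : Set (Q →₀ ℕ)) := by
    rw [Set.disjoint_left]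
    rintro α ⟨hα, hα0⟩ hαU
    apply hα0
    rw [Set.mem_singleton_iff]
    ext y
    by_cases hy : y ∈ α.support
    · exact hα y (Finset.mem_biUnion.mpr ⟨α, hαU, hy⟩)
    · exact Finsupp.notMem_support_iff.mp hy
  have hsmall := hU (avoid T \ {0}) hdisjU
  have hsplit : Lsum F (avoid T) = F 0 + Lsum F (avoid T \ {0}) := by
    have hset : avoid T = {0} ∪ (avoid T \ {0}) := by
      rw [Set.union_diff_self, Set.union_eq_self_of_subset_left]
      intro α hα
      rw [Set.mem_singleton_iff] at hα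
      rw [hα]
      intro y _
      rfl
    have hd : Disjoint ({0} : Set (Q →₀ ℕ)) (avoid T \ {0}) := Set.disjoint_sdiff_right
    conv_lhs => rw [hset]
    rw [Lsum_union F hs hd]
    congr 1
    exact tsum_singleton (0 : Q →₀ ℕ) F
  rw [hall T, h0] at hsplit
  have hz : Lsum F (avoid T \ {0}) = -1 := by linear_combination -hsplit
  change Lsum F (avoid T \ {0}) ∈ _ at hsmall
  rw [hz, Metric.mem_ball, dist_zero_right, norm_neg, norm_one] at hsmall
  exact lt_irrefl _ hsmall

end peel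

section summ

theorem sum_finsupp_prod {ι R : Type*} [CommSemiring R] (s : Finset ι) (t : ι → Finset ℕ)
    (φ : ι → ℕ → R) :
    ∑ α ∈ s.finsupp t, ∏ x ∈ s, φ x (α x) = ∏ x ∈ s, ∑ j ∈ t x, φ x j := by
  classical
  rw [Finset.prod_sum]
  unfold Finset.finsupp
  rw [Finset.sum_map]
  refine Finset.sum_congr rfl fun p hp => ?_
  rw [← Finset.prod_attach s]
  refine Finset.prod_congr rfl fun x _ => ?_
  simp only [Function.Embedding.coeFn_mk]
  rw [Finsupp.indicator_of_mem x.2]

variable {Q : Type*} (N : Q → ℕ)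

theorem rpow_nrm (σ : ℝ) (α : Q →₀ ℕ) :
    ((nrm N α : ℕ) : ℝ) ^ (-σ) = α.prod (fun x m => ((N x : ℝ) ^ (-σ)) ^ m) := by
  unfold nrm Finsupp.prod
  rw [Nat.cast_prod, ← Real.finsetProd_rpow _ _ (fun x _ => by positivity)]
  refine Finset.prod_congr rfl fun x _ => ?_
  rw [Nat.cast_pow]
  exact (Real.rpow_pow_comm (Nat.cast_nonneg _) _ _).symm

theorem summable_nrm_rpow (hN : ∀ x, 2 ≤ N x) (σ : ℝ) (hσ : 0 < σ)
    (hS : Summable (fun x => (N x : ℝ) ^ (-σ))) :
    Summable (fun α : Q →₀ ℕ => ((nrm N α : ℕ) : ℝ) ^ (-σ)) := by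
  classical
  set w : Q → ℝ := fun x => (N x : ℝ) ^ (-σ) with hw
  set ρ : ℝ := (2 : ℝ) ^ (-σ) with hρ
  have hρ1 : ρ < 1 := Real.rpow_lt_one_of_one_lt_of_neg one_lt_two (neg_lt_zero.mpr hσ)
  have hNpos : ∀ x, (0 : ℝ) < N x := fun x => by
    have := hN x
    exact_mod_cast (by omega : 0 < N x)
  have hw0 : ∀ x, 0 < w x := fun x => Real.rpow_pos_of_pos (hNpos x) _
  have hwρ : ∀ x, w x ≤ ρ := fun x =>
    Real.rpow_le_rpow_of_nonpos two_pos (by exact_mod_cast hN x) (neg_nonpos.mpr hσ.le)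
  set K : ℝ := (1 - ρ)⁻¹ with hK
  have hK0 : 0 < K := inv_pos.mpr (sub_pos.mpr hρ1)
  have hgeo : ∀ (x : Q) (J : ℕ), ∑ j ∈ Finset.range J, w x ^ j ≤ Real.exp (K * w x) := by
    intro x J
    have hy1 : w x < 1 := lt_of_le_of_lt (hwρ x) hρ1
    have h1 : ∑ j ∈ Finset.range J, w x ^ j ≤ (1 - w x)⁻¹ :=
      sum_le_hasSum (Finset.range J) (fun _ _ => pow_nonneg (hw0 x).le _)
        (hasSum_geometric_of_lt_one (hw0 x).le hy1)
    have h2 : (1 - w x)⁻¹ ≤ K :=
      inv_anti₀ (sub_pos.mpr hρ1) (by linarith [hwρ x])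
    have h3 : (1 - w x)⁻¹ = 1 + w x * (1 - w x)⁻¹ := by
      have : (1 - w x) ≠ 0 := (sub_pos.mpr hy1).ne'
      field_simp
      ring
    have h4 : (1 - w x)⁻¹ ≤ 1 + K * w x := by
      rw [h3, mul_comm K]
      have := mul_le_mul_of_nonneg_left h2 (hw0 x).le
      linarith
    have h5 := Real.add_one_le_exp (K * w x)
    linarith
  refine summable_of_sum_le (c := Real.exp (K * ∑' x, w x))
    (fun α => Real.rpow_nonneg (Nat.cast_nonneg _) _) ?_
  intro u
  let T : Finset Q := u.biUnion Finsupp.support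
  let J : ℕ := u.sup (fun α => α.support.sup α)
  have hsub : u ⊆ T.finsupp (fun _ => Finset.range (J + 1)) := by
    intro α hα
    rw [Finset.mem_finsupp_iff]
    refine ⟨Finset.subset_biUnion_of_mem Finsupp.support hα, fun x _ => ?_⟩
    rw [Finset.mem_range, Nat.lt_succ_iff]
    by_cases hx : x ∈ α.support
    · exact (Finset.le_sup (f := α) hx).trans
        (Finset.le_sup (f := fun α : Q →₀ ℕ => α.support.sup α) hα)
    · rw [Finsupp.notMem_support_iff.mp hx]
      exact Nat.zero_le _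
  have hg : ∀ α ∈ T.finsupp (fun _ => Finset.range (J + 1)),
      ((nrm N α : ℕ) : ℝ) ^ (-σ) = ∏ x ∈ T, w x ^ α x := by
    intro α hα
    rw [rpow_nrm N σ α]
    exact Finsupp.prod_of_support_subset α (Finset.mem_finsupp_iff.mp hα).1 _
      (fun _ _ => pow_zero _)
  calc ∑ α ∈ u, ((nrm N α : ℕ) : ℝ) ^ (-σ)
      ≤ ∑ α ∈ T.finsupp (fun _ => Finset.range (J + 1)), ((nrm N α : ℕ) : ℝ) ^ (-σ) :=
        Finset.sum_le_sum_of_subset_of_nonneg hsub
          (fun _ _ _ => Real.rpow_nonneg (Nat.cast_nonneg _) _)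
    _ = ∑ α ∈ T.finsupp (fun _ => Finset.range (J + 1)), ∏ x ∈ T, w x ^ α x :=
        Finset.sum_congr rfl hg
    _ = ∏ x ∈ T, ∑ j ∈ Finset.range (J + 1), w x ^ j :=
        sum_finsupp_prod T (fun _ => Finset.range (J + 1)) (fun x j => w x ^ j)
    _ ≤ ∏ x ∈ T, Real.exp (K * w x) :=
        Finset.prod_le_prod (fun x _ => Finset.sum_nonneg fun j _ => pow_nonneg (hw0 x).le _)
          (fun x _ => hgeo x (J + 1))
    _ = Real.exp (K * ∑ x ∈ T, w x) := by
        rw [← Real.exp_sum, Finset.mul_sum]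
    _ ≤ Real.exp (K * ∑' x, w x) := by
        apply Real.exp_le_exp.mpr
        exact mul_le_mul_of_nonneg_left (hS.sum_le_tsum T (fun x _ => (hw0 x).le)) hK0.le

end summ

section fibre

variable {Q : Type*} (N : Q → ℕ)

/-- the coefficient sequence: the number of cycles of norm `n`. -/
noncomputable def coeff (n : ℕ) : ℂ := (Nat.card {α : Q →₀ ℕ // nrm N α = n} : ℂ)

theorem main_sigma (hN : ∀ x, 2 ≤ N x) (s : ℂ) (hs : 0 < s.re)
    (hS : Summable (fun x => (N x : ℝ) ^ (-s.re))) :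
    LSeriesSummable (coeff N) s ∧
      LSeries (coeff N) s = ∑' α : Q →₀ ℕ, ((nrm N α : ℕ) : ℂ) ^ (-s) ∧
      Summable (fun α : Q →₀ ℕ => ((nrm N α : ℕ) : ℂ) ^ (-s)) := by
  have hNpos : ∀ x, 0 < N x := fun x => by have := hN x; omega
  set F : (Q →₀ ℕ) → ℂ := fun α => ((nrm N α : ℕ) : ℂ) ^ (-s) with hF
  have hFs : Summable F := by
    apply Summable.of_norm
    have h1 : (fun α => ‖F α‖) = fun α : Q →₀ ℕ => ((nrm N α : ℕ) : ℝ) ^ (-s.re) := by
      funext α
      simp only [hF]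
      rw [Complex.norm_natCast_cpow_of_pos (nrm_pos N hNpos α), Complex.neg_re]
    rw [h1]
    exact summable_nrm_rpow N hN s.re hs hS
  let e := Equiv.sigmaFiberEquiv (nrm N)
  have hFe : Summable (F ∘ e) := e.summable_iff.mpr hFs
  have hs0 : -s ≠ 0 := by
    intro h
    have : s.re = 0 := by
      have h2 : s = 0 := neg_eq_zero.mp h
      rw [h2, Complex.zero_re]
    linarith
  have hterm : ∀ n, LSeries.term (coeff N) s n = ∑' c : {α : Q →₀ ℕ // nrm N α = n}, (F ∘ e) ⟨n, c⟩ := by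
    intro n
    have h1 : ∀ c : {α : Q →₀ ℕ // nrm N α = n}, (F ∘ e) ⟨n, c⟩ = ((n : ℕ) : ℂ) ^ (-s) := by
      intro c
      show ((nrm N c.1 : ℕ) : ℂ) ^ (-s) = _
      rw [c.2]
    simp only [h1]
    rw [tsum_const, LSeries.term_def]
    by_cases hn : n = 0
    · subst hn
      rw [if_pos rfl, Nat.cast_zero, Complex.zero_cpow hs0, smul_zero]
    · rw [if_neg hn, nsmul_eq_mul, Complex.cpow_neg, div_eq_mul_inv]
      rfl
  refine ⟨?_, ?_, hFs⟩
  · show Summable (LSeries.term (coeff N) s)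
    rw [funext hterm]
    exact hFe.sigma
  · show ∑' n, LSeries.term (coeff N) s n = _
    rw [funext hterm, ← hFe.tsum_sigma]
    exact e.tsum_eq F

theorem abstract_main (hN : ∀ x, 2 ≤ N x) (σ₀ : ℝ) (hσ₀ : 0 ≤ σ₀)
    (hS : ∀ σ : ℝ, σ₀ < σ → Summable (fun x => (N x : ℝ) ^ (-σ))) :
    LSeries.abscissaOfAbsConv (coeff N) ≤ σ₀ ∧
      ∀ s : ℂ, σ₀ < s.re → LSeries (coeff N) s ≠ 0 := by
  constructor
  · apply LSeries.abscissaOfAbsConv_le_of_forall_lt_LSeriesSummable
    intro y hy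
    refine (main_sigma N hN (y : ℂ) ?_ ?_).1
    · rw [Complex.ofReal_re]
      exact lt_of_le_of_lt hσ₀ hy
    · rw [Complex.ofReal_re]
      exact hS y hy
  · intro s hs
    obtain ⟨_, h2, h3⟩ := main_sigma N hN s (lt_of_le_of_lt hσ₀ hs) (hS _ hs)
    rw [h2]
    apply tsum_ne_zero _ ?_ ?_ h3
    · rw [nrm_zero, Nat.cast_one, Complex.one_cpow]
    · intro α β
      rw [nrm_add, Nat.cast_mul, Complex.natCast_mul_natCast_cpow]

end fibre

end Groth.Agent.Helper8.ZDir

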