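import Mathlib
import Groth.Prelude.Def_W4c1zetahwZeta
import Groth.Agent.Helper8.ZDir1

set_option autoImplicit false
universe u
open CategoryTheory AlgebraicGeometry

namespace Groth.Agent.Helper8.ZDir

section transfer

variable (X : Scheme.{u})

/-- the closed points. -/
abbrev ClPt : Type u := ↥({x : X | IsClosed ({x} : Set X)})

/-- the norm of a closed point. -/
noncomputable def ptNorm (q : ClPt X) : ℕ := Nat.card (X.residueField q.1)

theorem cycleNormCount_eq (n : ℕ) :
    Zeta.cycleNormCount X n = Nat.card {β : ClPt X →₀ ℕ // nrm (ptNorm X) β = n} := by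
  unfold Zeta.cycleNormCount
  apply Nat.card_congr
  let C : Set X := {x : X | IsClosed ({x} : Set X)}
  let g : X → ℕ → ℕ := fun x m => Nat.card (X.residueField x) ^ m
  let e1 : {α : X →₀ ℕ // (∀ x ∈ α.support, IsClosed ({x} : Set X)) ∧ α.prod g = n} ≃
      {α : X →₀ ℕ // (↑α.support ⊆ C) ∧ α.prod g = n} :=
    Equiv.subtypeEquivRight (fun α => Iff.rfl)
  let e2 : {a : {α : X →₀ ℕ // ↑α.support ⊆ C} // a.1.prod g = n} ≃
      {α : X →₀ ℕ // (↑α.support ⊆ C) ∧ α.prod g = n} :=
    Equiv.subtypeSubtypeEquivSubtypeInter (fun α : X →₀ ℕ => ↑α.support ⊆ C)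
      (fun α => α.prod g = n)
  let e3 : {a : {α : X →₀ ℕ // ↑α.support ⊆ C} // a.1.prod g = n} ≃
      {β : ClPt X →₀ ℕ // nrm (ptNorm X) β = n} :=
    Equiv.subtypeEquiv (Finsupp.restrictSupportEquiv C ℕ) (fun a => by
      show _ ↔ ((Finsupp.subtypeDomain (fun x => x ∈ C) a.1).prod
        fun (q : ↥C) m => g q.1 m) = n
      rw [Finsupp.prod_subtypeDomain_index (h := g) (fun x hx => a.2 (Finset.mem_coe.mpr hx))])
  exact e1.trans (e2.symm.trans e3)

theorem arithCoeff_eq : Zeta.arithCoeff X = coeff (ptNorm X) := by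
  funext n
  unfold Zeta.arithCoeff coeff
  rw [cycleNormCount_eq]

/-- the reduction of the two assertions to the summability over closed points. -/
theorem main_of_summable (hN : ∀ q : ClPt X, 2 ≤ ptNorm X q) (r : ℕ)
    (hS : ∀ σ : ℝ, (r : ℝ) < σ → Summable (fun q : ClPt X => (ptNorm X q : ℝ) ^ (-σ))) :
    LSeries.abscissaOfAbsConv (Zeta.arithCoeff X) ≤ (r : ℝ) ∧
      ∀ s : ℂ, (r : ℝ) < s.re → LSeries (Zeta.arithCoeff X) s ≠ 0 := by
  rw [arithCoeff_eq]
  exact abstract_main (ptNorm X) hN (r : ℝ) (Nat.cast_nonneg r) hS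

end transfer

section fibres

/-- summability through a map with finite, bounded fibres. -/
theorem summable_of_fibre_bound {Q I : Type*} (w : Q → ℝ) (hw : ∀ q, 0 ≤ w q) (φ : Q → I)
    (v : I → ℝ) (hv : ∀ q, w q = v (φ q)) (hfin : ∀ i, Finite {q // φ q = i})
    (h : I → ℝ) (hh : Summable h)
    (hle : ∀ i, (Nat.card {q // φ q = i} : ℝ) * v i ≤ h i) : Summable w := by
  let e := Equiv.sigmaFiberEquiv φ
  rw [← e.summable_iff]
  have hval : ∀ (i : I) (c : {q // φ q = i}), (w ∘ e) ⟨i, c⟩ = v i := by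
    intro i c
    show w c.1 = v i
    rw [hv, c.2]
  refine (summable_sigma_of_nonneg (f := w ∘ e) (fun x => hw _)).mpr ⟨?_, ?_⟩
  · intro i
    haveI := hfin i
    exact Summable.of_finite
  · have hsum : ∀ i, ∑' c : {q // φ q = i}, (w ∘ e) ⟨i, c⟩ =
        (Nat.card {q // φ q = i} : ℝ) * v i := by
      intro i
      simp only [hval]
      rw [tsum_const, nsmul_eq_mul]
    simp only [hsum]
    refine Summable.of_nonneg_of_le (fun i => ?_) hle hh
    rcases isEmpty_or_nonempty {q // φ q = i} with he | ⟨⟨q, hq⟩⟩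
    · rw [Nat.card_of_isEmpty, Nat.cast_zero, zero_mul]
    · refine mul_nonneg (Nat.cast_nonneg _) ?_
      rw [← hq, ← hv]
      exact hw q

end fibres

section points

variable (X : Scheme.{u})

/-- closed points with residue field of the cardinality of `F` inject into the `F`-points. -/
theorem card_ptNorm_le (F : Type u) [Field F] [Finite F]
    [Finite (Spec (CommRingCat.of F) ⟶ X)] :
    Finite {q : ClPt X // ptNorm X q = Nat.card F} ∧
    Nat.card {q : ClPt X // ptNorm X q = Nat.card F} ≤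
      Nat.card (Spec (CommRingCat.of F) ⟶ X) := by
  have hex : ∀ q : {q : ClPt X // ptNorm X q = Nat.card F},
      Nonempty (X.residueField q.1.1 ≃+* F) := by
    intro q
    haveI : Finite (X.residueField q.1.1) := Nat.finite_of_card_ne_zero (by
      have h := q.2
      unfold ptNorm at h
      rw [h]
      exact Nat.card_pos.ne')
    letI : Fintype (X.residueField q.1.1) := Fintype.ofFinite _
    letI : Fintype F := Fintype.ofFinite _
    refine ⟨FiniteField.ringEquivOfCardEq ?_⟩
    rw [← Nat.card_eq_fintype_card, ← Nat.card_eq_fintype_card]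
    exact q.2
  let Ψ : {q : ClPt X // ptNorm X q = Nat.card F} → (Spec (CommRingCat.of F) ⟶ X) := fun q =>
    Spec.map (CommRingCat.ofHom (Classical.choice (hex q)).toRingHom) ≫
      X.fromSpecResidueField q.1.1
  have hΨpt : ∀ q, (Ψ q) (IsLocalRing.closedPoint F) = q.1.1 := by
    intro q
    simp only [Ψ, Scheme.Hom.comp_apply]
    exact X.fromSpecResidueField_apply q.1.1 _
  have hΨ : Function.Injective Ψ := by
    intro q₁ q₂ h
    apply Subtype.ext
    apply Subtype.ext
    rw [← hΨpt q₁, ← hΨpt q₂, h]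
  exact ⟨Finite.of_injective Ψ hΨ, Nat.card_le_card_of_injective Ψ hΨ⟩

end points

end Groth.Agent.Helper8.ZDir
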