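import Mathlib
import Groth.Agent.Helper5.IntegralDim

set_option autoImplicit false
universe u v w

namespace Groth.Agent.Helper8.ZInt

section roots

/-- ring homomorphisms to a field whose (rescaled) values on a finite generating set are roots of
prescribed nonzero polynomials are bounded in number by the product of the degrees. -/
theorem card_le_of_roots {A : Type*} [CommRing A] (s : Finset A)
    (hs : Algebra.adjoin ℤ (s : Set A) = ⊤) {F : Type*} [Field F]
    (c : s → F) (hc : ∀ a, c a ≠ 0) (P : s → Polynomial F) (hP : ∀ a, P a ≠ 0)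
    (T : Set (A →+* F)) (hT : ∀ ψ ∈ T, ∀ a : s, (P a).IsRoot (c a * ψ a.1)) :
    Nat.card T ≤ ∏ a : s, (P a).natDegree := by
  classical
  let R : s → Finset F := fun a => (P a).roots.toFinset
  let Ψ : T → (∀ a : s, {x : F // x ∈ R a}) := fun ψ a =>
    ⟨c a * ψ.1 a.1, by
      rw [Multiset.mem_toFinset, Polynomial.mem_roots (hP a)]
      exact hT ψ.1 ψ.2 a⟩
  have hΨ : Function.Injective Ψ := by
    intro ψ₁ ψ₂ h
    apply Subtype.ext
    have h1 : ψ₁.1.toIntAlgHom = ψ₂.1.toIntAlgHom := by
      apply AlgHom.ext_of_adjoin_eq_top hs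
      intro a ha
      have h2 : c ⟨a, ha⟩ * ψ₁.1 a = c ⟨a, ha⟩ * ψ₂.1 a :=
        congrArg Subtype.val (congrFun h ⟨a, ha⟩)
      exact mul_left_cancel₀ (hc ⟨a, ha⟩) h2
    ext x
    exact AlgHom.congr_fun h1 x
  calc Nat.card T ≤ Nat.card (∀ a : s, {x : F // x ∈ R a}) :=
        Nat.card_le_card_of_injective Ψ hΨ
    _ = ∏ a : s, (R a).card := by
        rw [Nat.card_pi]
        refine Finset.prod_congr rfl fun a _ => ?_
        rw [Nat.card_eq_fintype_card, Fintype.card_coe]
    _ ≤ ∏ a : s, (P a).natDegree := by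
        refine Finset.prod_le_prod' fun a _ => ?_
        exact (Multiset.toFinset_card_le _).trans (Polynomial.card_roots' _)

end roots

section field

variable (k : Type v) [Field k] (A : Type w) [CommRing A] [Algebra k A] [Algebra.FiniteType k A]

theorem finite_algHom (L : Type u) [CommRing L] [Algebra k L] [Finite L] : Finite (A →ₐ[k] L) := by
  obtain ⟨s, hs⟩ := (Algebra.FiniteType.out : (⊤ : Subalgebra k A).FG)
  let F : (A →ₐ[k] L) → (s → L) := fun φ a => φ a.1
  apply Finite.of_injective F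
  intro φ₁ φ₂ h
  apply AlgHom.ext_of_adjoin_eq_top hs
  intro a ha
  exact congrFun h ⟨a, ha⟩

/-- extensions of a homomorphism along an integral map of finite type are bounded in number. -/
theorem card_fibre_le (P : Type*) [CommRing P] [Algebra k P] (g : P →ₐ[k] A)
    (hg : g.toRingHom.IsIntegral) :
    ∃ N : ℕ, ∀ (L : Type u) [Field L] [Algebra k L] [Finite L] (φ : P →ₐ[k] L),
      Nat.card {ψ : A →ₐ[k] L // ψ.comp g = φ} ≤ N := by
  classical
  obtain ⟨s, hs⟩ := (Algebra.FiniteType.out : (⊤ : Subalgebra k A).FG)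
  have hQ : ∀ a : s, ∃ Q : Polynomial P, Q.Monic ∧ Polynomial.eval₂ g.toRingHom a.1 Q = 0 :=
    fun a => hg a.1
  choose Q hQm hQ0 using hQ
  refine ⟨∏ a : s, (Q a).natDegree, ?_⟩
  intro L _ _ _ φ
  let R : s → Finset L := fun a => ((Q a).map φ.toRingHom).roots.toFinset
  have hroot : ∀ (ψ : {ψ : A →ₐ[k] L // ψ.comp g = φ}) (a : s), ψ.1 a.1 ∈ R a := by
    intro ψ a
    have hne : (Q a).map φ.toRingHom ≠ 0 := ((hQm a).map _).ne_zero
    rw [Multiset.mem_toFinset, Polynomial.mem_roots hne, Polynomial.IsRoot, Polynomial.eval_map]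
    have h1 := congrArg ψ.1.toRingHom (hQ0 a)
    rw [Polynomial.hom_eval₂, map_zero] at h1
    have h2 : ψ.1.toRingHom.comp g.toRingHom = φ.toRingHom := by
      ext p
      exact congrArg (fun t : P →ₐ[k] L => t p) ψ.2
    rw [h2] at h1
    exact h1
  let Ψ : {ψ : A →ₐ[k] L // ψ.comp g = φ} → (∀ a : s, {x : L // x ∈ R a}) :=
    fun ψ a => ⟨ψ.1 a.1, hroot ψ a⟩
  have hΨ : Function.Injective Ψ := by
    intro ψ₁ ψ₂ h
    apply Subtype.ext
    apply AlgHom.ext_of_adjoin_eq_top hs
    intro a ha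
    exact congrArg Subtype.val (congrFun h ⟨a, ha⟩)
  calc Nat.card {ψ : A →ₐ[k] L // ψ.comp g = φ}
      ≤ Nat.card (∀ a : s, {x : L // x ∈ R a}) := Nat.card_le_card_of_injective Ψ hΨ
    _ = ∏ a : s, (R a).card := by
        rw [Nat.card_pi]
        refine Finset.prod_congr rfl fun a _ => ?_
        rw [Nat.card_eq_fintype_card, Fintype.card_coe]
    _ ≤ ∏ a : s, (Q a).natDegree := by
        refine Finset.prod_le_prod' fun a _ => ?_
        calc (R a).card ≤ Multiset.card ((Q a).map φ.toRingHom).roots :=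
              Multiset.toFinset_card_le _
          _ ≤ ((Q a).map φ.toRingHom).natDegree := Polynomial.card_roots' _
          _ ≤ (Q a).natDegree := Polynomial.natDegree_map_le

/-- the number of points of an affine algebra of dimension at most `r` with values in a finite
field `L` is `O(|L|^r)` (universe-polymorphic version). -/
theorem card_algHom_le (r : ℕ) (hr : ringKrullDim A ≤ r) :
    ∃ N : ℕ, ∀ (L : Type u) [Field L] [Algebra k L] [Finite L],
      Nat.card (A →ₐ[k] L) ≤ N * Nat.card L ^ r := by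
  classical
  by_cases hA : Subsingleton A
  · refine ⟨0, fun L _ _ _ => ?_⟩
    haveI : IsEmpty (A →ₐ[k] L) := ⟨fun ψ => by
      have h1 : ψ 1 = ψ 0 := congrArg ψ (Subsingleton.elim _ _)
      rw [map_one, map_zero] at h1
      exact one_ne_zero h1⟩
    simp
  · haveI : Nontrivial A := not_subsingleton_iff_nontrivial.mp hA
    obtain ⟨s, g, hinj, hint⟩ := exists_integral_inj_algHom_of_fg k A
    have hs : s ≤ r := by
      letI : Algebra (MvPolynomial (Fin s) k) A := g.toRingHom.toAlgebra
      haveI : Algebra.IsIntegral (MvPolynomial (Fin s) k) A := ⟨hint⟩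
      have h1 : ringKrullDim A = ringKrullDim (MvPolynomial (Fin s) k) :=
        Groth.Agent.Helper5.IntegralDim.ringKrullDim_eq_of_isIntegral_of_injective hinj
      rw [h1, MvPolynomial.ringKrullDim_of_isNoetherianRing, ringKrullDim_eq_zero_of_field,
        zero_add, Nat.card_fin] at hr
      exact_mod_cast hr
    obtain ⟨N, hN⟩ := card_fibre_le.{u} k A (MvPolynomial (Fin s) k) g hint
    refine ⟨N, fun L _ _ _ => ?_⟩
    haveI : Finite (A →ₐ[k] L) := finite_algHom k A L
    letI : Fintype (A →ₐ[k] L) := Fintype.ofFinite _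
    letI : Fintype L := Fintype.ofFinite _
    let ρ : (A →ₐ[k] L) → (Fin s → L) := fun ψ i => ψ (g (MvPolynomial.X i))
    have hfib : ∀ b ∈ (Finset.univ : Finset (A →ₐ[k] L)).image ρ,
        ((Finset.univ : Finset (A →ₐ[k] L)).filter fun ψ => ρ ψ = b).card ≤ N := by
      intro b hb
      obtain ⟨ψ₀, -, rfl⟩ := Finset.mem_image.mp hb
      have hsub : ∀ ψ : A →ₐ[k] L, ρ ψ = ρ ψ₀ → ψ.comp g = ψ₀.comp g := by
        intro ψ h
        apply MvPolynomial.algHom_ext
        intro i
        exact congrFun h i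
      let ι : {ψ : A →ₐ[k] L // ρ ψ = ρ ψ₀} → {ψ : A →ₐ[k] L // ψ.comp g = ψ₀.comp g} :=
        fun ψ => ⟨ψ.1, hsub ψ.1 ψ.2⟩
      have hι : Function.Injective ι := fun ψ₁ ψ₂ h =>
        Subtype.ext (show ψ₁.1 = ψ₂.1 from congrArg (fun t => t.1) h)
      calc ((Finset.univ : Finset (A →ₐ[k] L)).filter fun ψ => ρ ψ = ρ ψ₀).card
          = Nat.card {ψ : A →ₐ[k] L // ρ ψ = ρ ψ₀} := by
            rw [Nat.card_eq_fintype_card, Fintype.card_subtype]
        _ ≤ Nat.card {ψ : A →ₐ[k] L // ψ.comp g = ψ₀.comp g} :=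
            Nat.card_le_card_of_injective ι hι
        _ ≤ N := hN L (ψ₀.comp g)
    have h1 := Finset.card_le_mul_card_image (Finset.univ : Finset (A →ₐ[k] L)) N hfib
    have h2 : ((Finset.univ : Finset (A →ₐ[k] L)).image ρ).card ≤ Nat.card L ^ s := by
      calc ((Finset.univ : Finset (A →ₐ[k] L)).image ρ).card
          ≤ (Finset.univ : Finset (Fin s → L)).card := Finset.card_le_card (Finset.subset_univ _)
        _ = Nat.card L ^ s := by
            rw [Finset.card_univ, Fintype.card_fun, Fintype.card_fin, Nat.card_eq_fintype_card]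
    have h3 : Nat.card L ^ s ≤ Nat.card L ^ r :=
      Nat.pow_le_pow_right Nat.card_pos hs
    calc Nat.card (A →ₐ[k] L) = (Finset.univ : Finset (A →ₐ[k] L)).card := by
          rw [Nat.card_eq_fintype_card, Finset.card_univ]
      _ ≤ N * ((Finset.univ : Finset (A →ₐ[k] L)).image ρ).card := h1
      _ ≤ N * Nat.card L ^ r := Nat.mul_le_mul_left N (h2.trans h3)

end field

end Groth.Agent.Helper8.ZInt
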