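import Mathlib
import Groth.Agent.Helper8.ZInt0
import Groth.Agent.Helper3.FinZ

set_option autoImplicit false
universe u

namespace Groth.Agent.Helper8.ZInt

open scoped TensorProduct

section dim

variable (A : Type u) [CommRing A] [Algebra.FiniteType ℤ A] (B : Type u) [CommRing B]
  [Algebra A B] [IsLocalization (Algebra.algebraMapSubmonoid A (nonZeroDivisors ℤ)) B]

/-- a prime of `A ⊗ ℚ` does not pull back to a maximal ideal of the finitely generated ring `A`. -/
theorem not_isMaximal_comap (Q : PrimeSpectrum B) :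
    ¬ (Ideal.comap (algebraMap A B) Q.asIdeal).IsMaximal := by
  intro hmax
  set q := Ideal.comap (algebraMap A B) Q.asIdeal with hq
  letI := Ideal.Quotient.field q
  haveI : Algebra.FiniteType ℤ (A ⧸ q) :=
    Algebra.FiniteType.of_surjective (Ideal.Quotient.mkₐ ℤ q) (Ideal.Quotient.mkₐ_surjective ℤ q)
  haveI := Groth.Agent.Helper3.FinZ.isJacobsonRing_int
  haveI : Module.Finite ℤ (A ⧸ q) := finite_of_finite_type_of_isJacobsonRing ℤ (A ⧸ q)
  haveI : Algebra.IsIntegral ℤ (A ⧸ q) := Algebra.IsIntegral.of_finite _ _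
  have hinj : Function.Injective (algebraMap ℤ (A ⧸ q)) := by
    rw [injective_iff_map_eq_zero]
    intro z hz
    by_contra hz0
    have h1 : algebraMap ℤ A z ∈ q := by
      rw [← Ideal.Quotient.eq_zero_iff_mem]
      exact hz
    have h2 : algebraMap A B (algebraMap ℤ A z) ∈ Q.asIdeal := h1
    have hmem : algebraMap ℤ A z ∈ Algebra.algebraMapSubmonoid A (nonZeroDivisors ℤ) :=
      ⟨z, mem_nonZeroDivisors_of_ne_zero hz0, rfl⟩
    have hu : IsUnit (algebraMap A B (algebraMap ℤ A z)) :=
      IsLocalization.map_units B ⟨_, hmem⟩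
    exact Q.isPrime.ne_top (Ideal.eq_top_of_isUnit_mem _ h2 hu)
  exact Int.not_isField (isField_of_isIntegral_of_isField hinj (Field.toIsField _))

theorem succ_le_ringKrullDim (t : ℕ) (ht : (t : WithBot ℕ∞) ≤ ringKrullDim B) :
    ((t + 1 : ℕ) : WithBot ℕ∞) ≤ ringKrullDim A := by
  obtain ⟨l, hl⟩ := Order.le_krullDim_iff.mp ht
  have hc : StrictMono (PrimeSpectrum.comap (algebraMap A B)) :=
    Monotone.strictMono_of_injective (fun P Q h => Ideal.comap_mono h)
      (PrimeSpectrum.localization_comap_injective B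
        (Algebra.algebraMapSubmonoid A (nonZeroDivisors ℤ)))
  let l' : LTSeries (PrimeSpectrum A) := l.map _ hc
  have hnm := not_isMaximal_comap A B l.last
  obtain ⟨m, hm, hle⟩ := Ideal.exists_le_maximal (Ideal.comap (algebraMap A B) l.last.asIdeal)
    (Ideal.IsPrime.ne_top inferInstance)
  have hlt : l'.last < ⟨m, hm.isPrime⟩ := by
    rw [LTSeries.last_map]
    refine lt_of_le_of_ne hle ?_
    intro h
    apply hnm
    have : Ideal.comap (algebraMap A B) l.last.asIdeal = m := congrArg PrimeSpectrum.asIdeal h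
    rw [this]
    exact hm
  have h1 := Order.LTSeries.length_le_krullDim (l'.snoc ⟨m, hm.isPrime⟩ hlt)
  rw [RelSeries.snoc_length, LTSeries.map_length, hl] at h1
  exact h1

end dim


section generic

theorem natAbs_cast_eq_zero {F : Type*} [Ring F] {d : ℤ} (h : ((d : ℤ) : F) = 0) :
    ((d.natAbs : ℕ) : F) = 0 := by
  have h1 : (((d.natAbs : ℕ) : ℤ) : F) = 0 := by
    rw [Int.natCast_natAbs]
    rcases abs_choice d with h2 | h2 <;> rw [h2]
    · exact h
    · rw [Int.cast_neg, h, neg_zero]
  rwa [Int.cast_natCast] at h1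

theorem finite_ringHom (A : Type*) [CommRing A] [Algebra.FiniteType ℤ A] (F : Type*) [CommRing F]
    [Finite F] : Finite (A →+* F) := by
  obtain ⟨s, hs⟩ := (Algebra.FiniteType.out : (⊤ : Subalgebra ℤ A).FG)
  let Φ : (A →+* F) → (s → F) := fun φ a => φ a.1
  apply Finite.of_injective Φ
  intro φ₁ φ₂ h
  have h1 : φ₁.toIntAlgHom = φ₂.toIntAlgHom := by
    apply AlgHom.ext_of_adjoin_eq_top hs
    intro a ha
    exact congrFun h ⟨a, ha⟩
  ext x
  exact AlgHom.congr_fun h1 x

attribute [local instance] MvPolynomial.algebraMvPolynomial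

theorem generic_core (A : Type u) [CommRing A] [Algebra.FiniteType ℤ A]
    (B : Type u) [CommRing B] [Algebra A B] [Algebra ℚ B] [Algebra.FiniteType ℚ B]
    [IsLocalization (Algebra.algebraMapSubmonoid A (nonZeroDivisors ℤ)) B]
    (r : ℕ) (hr : ringKrullDim A ≤ r) :
    ∃ N n : ℕ, 0 < n ∧ ∀ (F : Type u) [Field F] [Finite F], (n : F) ≠ 0 →
      Nat.card (A →+* F) * Nat.card F ≤ N * Nat.card F ^ r := by
  classical
  set Mz := Algebra.algebraMapSubmonoid A (nonZeroDivisors ℤ) with hMz
  let ι : A →+* B := algebraMap A B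
  obtain ⟨s, hs⟩ := (Algebra.FiniteType.out : (⊤ : Subalgebra ℤ A).FG)
  rcases subsingleton_or_nontrivial B with hB | hB
  · have h10 : ι 1 = ι 0 := Subsingleton.elim _ _
    obtain ⟨c, hc⟩ := (IsLocalization.eq_iff_exists Mz B).mp h10
    obtain ⟨d, hd, hdc⟩ := c.2
    have hd0 : d ≠ 0 := nonZeroDivisors.ne_zero hd
    refine ⟨0, d.natAbs, Int.natAbs_pos.mpr hd0, ?_⟩
    intro F _ _ hn
    haveI : IsEmpty (A →+* F) := ⟨fun ψ => by
      apply hn
      apply natAbs_cast_eq_zero
      have h1 : ψ (algebraMap ℤ A d) = 0 := by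
        rw [hdc]
        simpa using congrArg ψ hc
      rwa [eq_intCast, map_intCast] at h1⟩
    simp
  · obtain ⟨t, g, hginj, hgint⟩ := exists_integral_inj_algHom_of_fg ℚ B
    have ht : t + 1 ≤ r := by
      have h1 : ringKrullDim B = (t : WithBot ℕ∞) := by
        letI : Algebra (MvPolynomial (Fin t) ℚ) B := g.toRingHom.toAlgebra
        haveI : Algebra.IsIntegral (MvPolynomial (Fin t) ℚ) B := ⟨hgint⟩
        have h1 : ringKrullDim B = ringKrullDim (MvPolynomial (Fin t) ℚ) :=
          Groth.Agent.Helper5.IntegralDim.ringKrullDim_eq_of_isIntegral_of_injective hginj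
        rw [h1, MvPolynomial.ringKrullDim_of_isNoetherianRing, ringKrullDim_eq_zero_of_field,
          zero_add, Nat.card_fin]
      have h2 := succ_le_ringKrullDim A B t h1.ge
      have h3 := h2.trans hr
      exact_mod_cast h3
    have hden : ∀ i : Fin t, ∃ (d : ℤ) (b : A), d ≠ 0 ∧
        algebraMap ℚ B (d : ℚ) * g (MvPolynomial.X i) = ι b := by
      intro i
      obtain ⟨⟨b, c⟩, hbc⟩ := IsLocalization.surj Mz (g (MvPolynomial.X i))
      obtain ⟨d, hd, hdc⟩ := c.2
      refine ⟨d, b, nonZeroDivisors.ne_zero hd, ?_⟩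
      rw [mul_comm]
      refine Eq.trans ?_ hbc
      congr 1
      change _ = algebraMap A B c.1
      rw [← hdc]
      simp
    choose dg bg hdg0 hdg using hden
    let σ : MvPolynomial (Fin t) ℚ →ₐ[ℚ] MvPolynomial (Fin t) ℚ :=
      MvPolynomial.aeval (fun i => MvPolynomial.C (dg i : ℚ) * MvPolynomial.X i)
    let σ' : MvPolynomial (Fin t) ℚ →ₐ[ℚ] MvPolynomial (Fin t) ℚ :=
      MvPolynomial.aeval (fun i => MvPolynomial.C ((dg i : ℚ)⁻¹) * MvPolynomial.X i)
    have hσσ' : σ.comp σ' = AlgHom.id ℚ _ := by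
      apply MvPolynomial.algHom_ext
      intro i
      have hne : ((dg i : ℤ) : ℚ) ≠ 0 := by exact_mod_cast hdg0 i
      simp only [σ, σ', AlgHom.comp_apply, MvPolynomial.aeval_X, map_mul, MvPolynomial.aeval_C,
        AlgHom.id_apply]
      rw [MvPolynomial.algebraMap_eq, ← mul_assoc, ← map_mul, inv_mul_cancel₀ hne, map_one,
        one_mul]
    have hσsurj : Function.Surjective σ := fun y => ⟨σ' y, AlgHom.congr_fun hσσ' y⟩
    let g' : MvPolynomial (Fin t) ℚ →ₐ[ℚ] B := g.comp σ
    have hg'int : g'.toRingHom.IsIntegral :=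
      RingHom.IsIntegral.trans σ.toRingHom g.toRingHom
        (RingHom.isIntegral_of_surjective _ hσsurj) hgint
    have hg'X : ∀ i, g' (MvPolynomial.X i) = ι (bg i) := by
      intro i
      simp only [g', σ, AlgHom.comp_apply, MvPolynomial.aeval_X, map_mul]
      rw [← hdg i]
      congr 1
      rw [← MvPolynomial.algebraMap_eq, AlgHom.commutes]
    let h : MvPolynomial (Fin t) ℤ →+* A := MvPolynomial.eval₂Hom (Int.castRingHom A) bg
    letI : Algebra (MvPolynomial (Fin t) ℚ) B := g'.toRingHom.toAlgebra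
    letI : Algebra (MvPolynomial (Fin t) ℤ) B :=
      (g'.toRingHom.comp
        (algebraMap (MvPolynomial (Fin t) ℤ) (MvPolynomial (Fin t) ℚ))).toAlgebra
    haveI : IsScalarTower (MvPolynomial (Fin t) ℤ) (MvPolynomial (Fin t) ℚ) B :=
      IsScalarTower.of_algebraMap_eq (fun _ => rfl)
    have hcomp : algebraMap (MvPolynomial (Fin t) ℤ) B = ι.comp h := by
      apply MvPolynomial.ringHom_ext
      · intro z
        exact RingHom.congr_fun (RingHom.ext_int
          ((algebraMap (MvPolynomial (Fin t) ℤ) B).comp MvPolynomial.C)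
          ((ι.comp h).comp MvPolynomial.C)) z
      · intro i
        change g' (MvPolynomial.map (algebraMap ℤ ℚ) (MvPolynomial.X i)) = ι (h (MvPolynomial.X i))
        rw [MvPolynomial.map_X, hg'X]
        simp [h]
    have hgen : ∀ a : s, ∃ (d e : ℤ) (Q : Polynomial (MvPolynomial (Fin t) ℤ)), d ≠ 0 ∧ e ≠ 0 ∧
        Q.Monic ∧ algebraMap ℤ A e * Polynomial.eval₂ h (algebraMap ℤ A d * a.1) Q = 0 := by
      intro a
      have hx : IsIntegral (MvPolynomial (Fin t) ℚ) (ι a.1) := hg'int (ι a.1)
      obtain ⟨m, Q, hQm, hQ0⟩ := IsIntegral.exists_multiple_integral_of_isLocalization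
        ((nonZeroDivisors ℤ).map (MvPolynomial.C (σ := Fin t))) (ι a.1) hx
      obtain ⟨d, hd, hdm⟩ := m.2
      have hmx : m • ι a.1 = ι (algebraMap ℤ A d * a.1) := by
        rw [Submonoid.smul_def, Algebra.smul_def, ← hdm, hcomp, RingHom.comp_apply, map_mul]
        congr 2
        simp [h]
      rw [hmx, hcomp, ← Polynomial.hom_eval₂, ← map_zero ι] at hQ0
      obtain ⟨c, hc⟩ := (IsLocalization.eq_iff_exists Mz B).mp hQ0
      obtain ⟨e, he, hec⟩ := c.2
      refine ⟨d, e, Q, nonZeroDivisors.ne_zero hd, nonZeroDivisors.ne_zero he, hQm, ?_⟩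
      rw [hec, hc, mul_zero]
    choose dd ee Q hdd hee hQm hQ0 using hgen
    refine ⟨∏ a : s, (Q a).natDegree, ∏ a : s, (dd a * ee a).natAbs, ?_, ?_⟩
    · exact Finset.prod_pos fun a _ => Int.natAbs_pos.mpr (mul_ne_zero (hdd a) (hee a))
    intro F _ _ hn
    have hdeF : ∀ a : s, (((dd a * ee a : ℤ)) : F) ≠ 0 := by
      intro a h0
      apply hn
      rw [Nat.cast_prod]
      exact Finset.prod_eq_zero (Finset.mem_univ a) (natAbs_cast_eq_zero h0)
    have hdF : ∀ a : s, ((dd a : ℤ) : F) ≠ 0 := by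
      intro a h0
      apply hdeF a
      rw [Int.cast_mul, h0, zero_mul]
    have heF : ∀ a : s, ((ee a : ℤ) : F) ≠ 0 := by
      intro a h0
      apply hdeF a
      rw [Int.cast_mul, h0, mul_zero]
    haveI : Finite (A →+* F) := finite_ringHom A F
    letI : Fintype (A →+* F) := Fintype.ofFinite _
    letI : Fintype F := Fintype.ofFinite _
    let ρ : (A →+* F) → (Fin t → F) := fun ψ i => ψ (bg i)
    have hfib : ∀ y ∈ (Finset.univ : Finset (A →+* F)).image ρ,
        ((Finset.univ : Finset (A →+* F)).filter fun ψ => ρ ψ = y).card ≤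
          ∏ a : s, (Q a).natDegree := by
      intro y hy
      obtain ⟨ψ₀, -, rfl⟩ := Finset.mem_image.mp hy
      have hsub : ∀ ψ : A →+* F, ρ ψ = ρ ψ₀ → ψ.comp h = ψ₀.comp h := by
        intro ψ hψ
        apply MvPolynomial.ringHom_ext
        · intro z
          exact RingHom.congr_fun (RingHom.ext_int ((ψ.comp h).comp MvPolynomial.C)
            ((ψ₀.comp h).comp MvPolynomial.C)) z
        · intro i
          simpa [h] using congrFun hψ i
      have hcard := card_le_of_roots s hs (fun a => ((dd a : ℤ) : F)) hdF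
        (fun a => (Q a).map (ψ₀.comp h)) (fun a => ((hQm a).map _).ne_zero)
        {ψ | ρ ψ = ρ ψ₀} (by
          intro ψ hψ a
          rw [Polynomial.IsRoot, Polynomial.eval_map, ← hsub ψ hψ]
          have h1 := congrArg ψ (hQ0 a)
          rw [map_mul, map_zero, Polynomial.hom_eval₂, map_mul] at h1
          simp only [eq_intCast, map_intCast] at h1
          exact (mul_eq_zero.mp h1).resolve_left (heF a))
      calc ((Finset.univ : Finset (A →+* F)).filter fun ψ => ρ ψ = ρ ψ₀).card
          = Nat.card {ψ : A →+* F // ρ ψ = ρ ψ₀} := by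
            rw [Nat.card_eq_fintype_card, Fintype.card_subtype]
        _ ≤ ∏ a : s, ((Q a).map (ψ₀.comp h)).natDegree := hcard
        _ ≤ ∏ a : s, (Q a).natDegree :=
            Finset.prod_le_prod' fun a _ => Polynomial.natDegree_map_le
    have h1 := Finset.card_le_mul_card_image (Finset.univ : Finset (A →+* F)) _ hfib
    have h2 : ((Finset.univ : Finset (A →+* F)).image ρ).card ≤ Nat.card F ^ t := by
      calc ((Finset.univ : Finset (A →+* F)).image ρ).card
          ≤ (Finset.univ : Finset (Fin t → F)).card := Finset.card_le_card (Finset.subset_univ _)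
        _ = Nat.card F ^ t := by
            rw [Finset.card_univ, Fintype.card_fun, Fintype.card_fin, Nat.card_eq_fintype_card]
    have h3 : Nat.card (A →+* F) ≤ (∏ a : s, (Q a).natDegree) * Nat.card F ^ t := by
      calc Nat.card (A →+* F) = (Finset.univ : Finset (A →+* F)).card := by
            rw [Nat.card_eq_fintype_card, Finset.card_univ]
        _ ≤ (∏ a : s, (Q a).natDegree) * ((Finset.univ : Finset (A →+* F)).image ρ).card := h1
        _ ≤ (∏ a : s, (Q a).natDegree) * Nat.card F ^ t := Nat.mul_le_mul_left _ h2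
    calc Nat.card (A →+* F) * Nat.card F
        ≤ ((∏ a : s, (Q a).natDegree) * Nat.card F ^ t) * Nat.card F :=
          Nat.mul_le_mul_right _ h3
      _ = (∏ a : s, (Q a).natDegree) * Nat.card F ^ (t + 1) := by ring
      _ ≤ (∏ a : s, (Q a).natDegree) * Nat.card F ^ r :=
          Nat.mul_le_mul_left _ (Nat.pow_le_pow_right Nat.card_pos ht)

attribute [local instance] Algebra.TensorProduct.rightAlgebra in
theorem generic_bound (A : Type u) [CommRing A] [Algebra.FiniteType ℤ A]
    (r : ℕ) (hr : ringKrullDim A ≤ r) :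
    ∃ N n : ℕ, 0 < n ∧ ∀ (F : Type u) [Field F] [Finite F], (n : F) ≠ 0 →
      Nat.card (A →+* F) * Nat.card F ≤ N * Nat.card F ^ r := by
  haveI : IsLocalization (Algebra.algebraMapSubmonoid A (nonZeroDivisors ℤ)) (ℚ ⊗[ℤ] A) :=
    IsLocalization.tensorRight ℚ (nonZeroDivisors ℤ)
  exact generic_core A (ℚ ⊗[ℤ] A) r hr

end generic

end Groth.Agent.Helper8.ZInt

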