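import Mathlib
import Groth.Agent.Helper8.ZInt1

set_option autoImplicit false
universe u

namespace Groth.Agent.Helper8.ZInt

open scoped TensorProduct

section small

variable (A : Type u) [CommRing A] [Algebra.FiniteType ℤ A]

theorem includeRight_surjective (p : ℕ) :
    Function.Surjective (Algebra.TensorProduct.includeRight : A →ₐ[ℤ] ZMod p ⊗[ℤ] A) := by
  intro x
  induction x using TensorProduct.induction_on with
  | zero => exact ⟨0, map_zero _⟩
  | tmul z a =>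
    obtain ⟨n, rfl⟩ := ZMod.intCast_surjective z
    refine ⟨n • a, ?_⟩
    rw [Algebra.TensorProduct.includeRight_apply, ← TensorProduct.smul_tmul, zsmul_one]
  | add x y hx hy =>
    obtain ⟨a, rfl⟩ := hx
    obtain ⟨b, rfl⟩ := hy
    exact ⟨a + b, map_add _ _ _⟩

theorem small_bound (r : ℕ) (hr : ringKrullDim A ≤ r) (p : ℕ) [Fact p.Prime] :
    ∃ N : ℕ, ∀ (F : Type u) [Field F] [Finite F] [CharP F p],
      Nat.card (A →+* F) ≤ N * Nat.card F ^ r := by
  have hdim : ringKrullDim (ZMod p ⊗[ℤ] A) ≤ r :=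
    (ringKrullDim_le_of_surjective
      (Algebra.TensorProduct.includeRight : A →ₐ[ℤ] ZMod p ⊗[ℤ] A).toRingHom
      (includeRight_surjective A p)).trans hr
  obtain ⟨N, hN⟩ := card_algHom_le.{u} (ZMod p) (ZMod p ⊗[ℤ] A) r hdim
  refine ⟨N, ?_⟩
  intro F _ _ _
  letI : Algebra (ZMod p) F := ZMod.algebra F p
  refine le_trans ?_ (hN F)
  haveI : Finite (ZMod p ⊗[ℤ] A →ₐ[ZMod p] F) := finite_algHom (ZMod p) (ZMod p ⊗[ℤ] A) F
  let Φ : (A →+* F) → (ZMod p ⊗[ℤ] A →ₐ[ZMod p] F) := fun ψ =>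
    Algebra.TensorProduct.lift (Algebra.ofId (ZMod p) F) ψ.toIntAlgHom (fun _ _ => Commute.all _ _)
  apply Nat.card_le_card_of_injective Φ
  intro ψ₁ ψ₂ h
  ext a
  have h1 := AlgHom.congr_fun h ((1 : ZMod p) ⊗ₜ[ℤ] a)
  simpa [Φ] using h1

end small

section combined

variable (A : Type u) [CommRing A] [Algebra.FiniteType ℤ A]

theorem charP_of_card {F : Type*} [Field F] {p m : ℕ} (hp : p.Prime) (hm : 1 ≤ m)
    (hF : Nat.card F = p ^ m) : CharP F p := by
  haveI : Finite F := Nat.finite_of_card_ne_zero (by rw [hF]; exact pow_ne_zero _ hp.ne_zero)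
  have h0 : ((p : ℕ) : F) = 0 := by
    have h1 : ((Nat.card F : ℕ) : F) = 0 := by
      rw [← nsmul_one]
      exact card_nsmul_eq_zero' 
    rw [hF, Nat.cast_pow] at h1
    exact pow_eq_zero_iff (by omega) |>.mp h1
  have := CharP.ringChar_of_prime_eq_zero hp h0
  exact this ▸ ringChar.charP F

theorem ring_bound (r : ℕ) (hr : ringKrullDim A ≤ r) :
    ∃ N p₀ : ℕ, ∀ (p m : ℕ), p.Prime → 1 ≤ m → ∀ (F : Type u) [Field F], Nat.card F = p ^ m →
      (p₀ ≤ p → Nat.card (A →+* F) * p ^ m ≤ N * (p ^ m) ^ r) ∧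
      Nat.card (A →+* F) ≤ N * (p ^ m) ^ r := by
  classical
  obtain ⟨N₀, n, hn, hgen⟩ := generic_bound A r hr
  have hsm : ∀ p : ℕ, ∃ N : ℕ, p.Prime → ∀ (F : Type u) [Field F] [Finite F] [CharP F p],
      Nat.card (A →+* F) ≤ N * Nat.card F ^ r := by
    intro p
    by_cases hp : p.Prime
    · haveI : Fact p.Prime := ⟨hp⟩
      obtain ⟨N, hN⟩ := small_bound A r hr p
      exact ⟨N, fun _ => hN⟩
    · exact ⟨0, fun h => absurd h hp⟩
  choose Ns hNs using hsm
  refine ⟨N₀ + ∑ p ∈ Finset.range (n + 1), Ns p, n + 1, ?_⟩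
  intro p m hp hm F _ hF
  haveI : Finite F := Nat.finite_of_card_ne_zero (by rw [hF]; exact pow_ne_zero _ hp.ne_zero)
  haveI : CharP F p := charP_of_card hp hm hF
  have hpm : 1 ≤ p ^ m := Nat.one_le_pow _ _ hp.pos
  have hbig : n + 1 ≤ p → Nat.card (A →+* F) * p ^ m ≤
      (N₀ + ∑ p ∈ Finset.range (n + 1), Ns p) * (p ^ m) ^ r := by
    intro hle
    have hnF : ((n : ℕ) : F) ≠ 0 := by
      rw [Ne, CharP.cast_eq_zero_iff F p n]
      exact Nat.not_dvd_of_pos_of_lt hn (by omega)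
    have h1 := hgen F hnF
    rw [hF] at h1
    exact h1.trans (Nat.mul_le_mul_right _ (Nat.le_add_right _ _))
  refine ⟨hbig, ?_⟩
  by_cases hle : n + 1 ≤ p
  · calc Nat.card (A →+* F) ≤ Nat.card (A →+* F) * p ^ m := Nat.le_mul_of_pos_right _ hpm
      _ ≤ _ := hbig hle
  · have h1 := hNs p hp F
    rw [hF] at h1
    refine h1.trans (Nat.mul_le_mul_right _ ?_)
    have h2 : Ns p ≤ ∑ q ∈ Finset.range (n + 1), Ns q :=
      Finset.single_le_sum (f := Ns) (fun _ _ => Nat.zero_le _)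
        (Finset.mem_range.mpr (by omega))
    omega

end combined

end Groth.Agent.Helper8.ZInt

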