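import Mathlib
import Groth.Agent.Helper8.ZInt2
import Groth.Agent.Helper8.ZPtsB

set_option autoImplicit false
universe u
open CategoryTheory AlgebraicGeometry
open Groth.Agent.Helper8.ZPts

namespace Groth.Agent.Helper8.ZInt

section scheme

variable {X : Scheme.{u}} (f : X ⟶ Spec (CommRingCat.of (ULift.{u} ℤ))) [LocallyOfFiniteType f]

include f in
theorem finiteType_int (V : X.affineOpens) : Algebra.FiniteType ℤ Γ(X, V.1) := by
  have h1 := LocallyOfFiniteType.finiteType_appLE f (isAffineOpen_top _) V.2 le_top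
  have hsurj : Function.Surjective (Scheme.ΓSpecIso (CommRingCat.of (ULift.{u} ℤ))).inv.hom :=
    (ConcreteCategory.bijective_of_isIso (Scheme.ΓSpecIso (CommRingCat.of (ULift.{u} ℤ))).inv).2
  have hsurj2 : Function.Surjective (algebraMap ℤ (ULift.{u} ℤ)) := fun x => ⟨x.down, by
    apply ULift.ext
    simp⟩
  have h2 : (((f.appLE ⊤ V.1 le_top).hom.comp
      (Scheme.ΓSpecIso (CommRingCat.of (ULift.{u} ℤ))).inv.hom).comp
        (algebraMap ℤ (ULift.{u} ℤ))).FiniteType :=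
    RingHom.FiniteType.comp
      (RingHom.FiniteType.comp h1 (RingHom.FiniteType.of_surjective _ hsurj))
      (RingHom.FiniteType.of_surjective _ hsurj2)
  have h3 : (((f.appLE ⊤ V.1 le_top).hom.comp
      (Scheme.ΓSpecIso (CommRingCat.of (ULift.{u} ℤ))).inv.hom).comp
        (algebraMap ℤ (ULift.{u} ℤ))) = algebraMap ℤ Γ(X, V.1) := RingHom.ext_int _ _
  rw [h3] at h2
  exact RingHom.finiteType_algebraMap.mp h2

theorem dim_le (V : X.affineOpens) (r : ℕ) (hr : topologicalKrullDim X ≤ r) :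
    ringKrullDim Γ(X, V.1) ≤ r := by
  rw [← PrimeSpectrum.topologicalKrullDim_eq_ringKrullDim Γ(X, V.1)]
  change topologicalKrullDim (Spec Γ(X, V.1)) ≤ _
  rw [← IsHomeomorph.topologicalKrullDim_eq _ V.2.isoSpec.hom.homeomorph.isHomeomorph]
  exact (topologicalKrullDim_subspace_le X V.1).trans hr

/-- the ring homomorphism of a point landing in `V`. -/
noncomputable def ptRingHom (F : Type u) [Field F] (V : X.Opens)
    (g : {g : Spec (CommRingCat.of F) ⟶ X // g (IsLocalRing.closedPoint F) ∈ V}) :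
    Γ(X, V) →+* F :=
  (Scheme.ΓSpecIso (CommRingCat.of F)).hom.hom.comp
    (g.1.appLE V ⊤ (top_le_preimage F g.1 V g.2)).hom

theorem ptRingHom_injective (F : Type u) [Field F] (V : X.affineOpens) :
    Function.Injective (ptRingHom (X := X) F V.1) := by
  intro g₁ g₂ h
  apply Subtype.ext
  have hinj : Function.Injective (Scheme.ΓSpecIso (CommRingCat.of F)).hom.hom :=
    (ConcreteCategory.bijective_of_isIso (Scheme.ΓSpecIso (CommRingCat.of F)).hom).1
  have h3 : (g₁.1.appLE V.1 ⊤ (top_le_preimage F g₁.1 _ g₁.2)).hom =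
      (g₂.1.appLE V.1 ⊤ (top_le_preimage F g₂.1 _ g₂.2)).hom := by
    ext a
    exact hinj (RingHom.congr_fun h a)
  exact eq_of_appLE_eq F _ _ V.1 V.2 _ _ (CommRingCat.hom_ext h3)

include f in
theorem finite_ptsIn (V : X.affineOpens) (F : Type u) [Field F] [Finite F] :
    Finite {g : Spec (CommRingCat.of F) ⟶ X // g (IsLocalRing.closedPoint F) ∈ V.1} := by
  haveI := finiteType_int f V
  haveI : Finite (Γ(X, V.1) →+* F) := finite_ringHom _ F
  exact Finite.of_injective _ (ptRingHom_injective F V)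

include f in
theorem exists_bound_affine (V : X.affineOpens) (r : ℕ) (hr : topologicalKrullDim X ≤ r) :
    ∃ N p₀ : ℕ, ∀ (p m : ℕ), p.Prime → 1 ≤ m → ∀ (F : Type u) [Field F], Nat.card F = p ^ m →
      (p₀ ≤ p → Nat.card {g : Spec (CommRingCat.of F) ⟶ X //
          g (IsLocalRing.closedPoint F) ∈ V.1} * p ^ m ≤ N * (p ^ m) ^ r) ∧
      Nat.card {g : Spec (CommRingCat.of F) ⟶ X //
          g (IsLocalRing.closedPoint F) ∈ V.1} ≤ N * (p ^ m) ^ r := by
  haveI := finiteType_int f V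
  obtain ⟨N, p₀, hN⟩ := ring_bound Γ(X, V.1) r (dim_le V r hr)
  refine ⟨N, p₀, ?_⟩
  intro p m hp hm F _ hF
  haveI : Finite F := Nat.finite_of_card_ne_zero (by rw [hF]; exact pow_ne_zero _ hp.ne_zero)
  haveI : Finite (Γ(X, V.1) →+* F) := finite_ringHom _ F
  have hle := Nat.card_le_card_of_injective _ (ptRingHom_injective F V)
  obtain ⟨h1, h2⟩ := hN p m hp hm F hF
  exact ⟨fun h => (Nat.mul_le_mul_right _ hle).trans (h1 h), hle.trans h2⟩

variable [QuasiCompact f]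

include f in
theorem exists_bound_nat (r : ℕ) (hr : topologicalKrullDim X ≤ r) :
    ∃ N p₀ : ℕ, ∀ (p m : ℕ), p.Prime → 1 ≤ m → ∀ (F : Type u) [Field F], Nat.card F = p ^ m →
      (p₀ ≤ p → Nat.card (Spec (CommRingCat.of F) ⟶ X) * p ^ m ≤ N * (p ^ m) ^ r) ∧
      Nat.card (Spec (CommRingCat.of F) ⟶ X) ≤ N * (p ^ m) ^ r := by
  classical
  haveI : CompactSpace X := QuasiCompact.compactSpace_of_compactSpace f
  obtain ⟨S, hS⟩ : ∃ S : Finset X.affineOpens, ∀ x : X, ∃ V ∈ S, x ∈ V.1 := by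
    have hcov : (Set.univ : Set X) ⊆ ⋃ V : X.affineOpens, (V.1 : Set X) := by
      intro x _
      obtain ⟨_, ⟨V, hV, rfl⟩, hxV, -⟩ :=
        X.isBasis_affineOpens.exists_subset_of_mem_open (Set.mem_univ x) isOpen_univ
      exact Set.mem_iUnion.mpr ⟨⟨V, hV⟩, hxV⟩
    obtain ⟨S, hS⟩ := isCompact_univ.elim_finite_subcover (fun V : X.affineOpens => (V.1 : Set X))
      (fun V => V.1.2) hcov
    refine ⟨S, fun x => ?_⟩
    have := hS (Set.mem_univ x)
    simp only [Set.mem_iUnion] at this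
    obtain ⟨V, hV, hx⟩ := this
    exact ⟨V, hV, hx⟩
  choose N p₀ hN using fun V : X.affineOpens => exists_bound_affine f V r hr
  refine ⟨∑ V ∈ S, N V, ∑ V ∈ S, p₀ V, ?_⟩
  intro p m hp hm F _ hF
  haveI : Finite F := Nat.finite_of_card_ne_zero (by rw [hF]; exact pow_ne_zero _ hp.ne_zero)
  haveI : ∀ V : X.affineOpens, Finite {g : Spec (CommRingCat.of F) ⟶ X //
      g (IsLocalRing.closedPoint F) ∈ V.1} := fun V => finite_ptsIn f V F
  -- injection into the disjoint union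
  have hch : ∀ g : Spec (CommRingCat.of F) ⟶ X, ∃ V : S, g (IsLocalRing.closedPoint F) ∈ V.1.1 := by
    intro g
    obtain ⟨V, hVS, hV⟩ := hS (g (IsLocalRing.closedPoint F))
    exact ⟨⟨V, hVS⟩, hV⟩
  choose Vg hVg using hch
  let Φ : (Spec (CommRingCat.of F) ⟶ X) → (Σ V : S, {g : Spec (CommRingCat.of F) ⟶ X //
      g (IsLocalRing.closedPoint F) ∈ V.1.1}) := fun g => ⟨Vg g, g, hVg g⟩
  have hΦ : Function.Injective Φ := by
    intro g₁ g₂ h
    have h1 : (Φ g₁).2.1 = (Φ g₂).2.1 := by rw [h]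
    exact h1
  have hcount : Nat.card (Spec (CommRingCat.of F) ⟶ X) ≤
      ∑ V ∈ S, Nat.card {g : Spec (CommRingCat.of F) ⟶ X //
        g (IsLocalRing.closedPoint F) ∈ V.1} := by
    refine (Nat.card_le_card_of_injective Φ hΦ).trans ?_
    rw [Nat.card_sigma]
    exact le_of_eq (Finset.sum_coe_sort S (fun V => Nat.card {g : Spec (CommRingCat.of F) ⟶ X //
        g (IsLocalRing.closedPoint F) ∈ V.1}))
  constructor
  · intro hle
    calc Nat.card (Spec (CommRingCat.of F) ⟶ X) * p ^ m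
        ≤ (∑ V ∈ S, Nat.card {g : Spec (CommRingCat.of F) ⟶ X //
          g (IsLocalRing.closedPoint F) ∈ V.1}) * p ^ m := Nat.mul_le_mul_right _ hcount
      _ = ∑ V ∈ S, Nat.card {g : Spec (CommRingCat.of F) ⟶ X //
          g (IsLocalRing.closedPoint F) ∈ V.1} * p ^ m := Finset.sum_mul _ _ _
      _ ≤ ∑ V ∈ S, N V * (p ^ m) ^ r := by
          refine Finset.sum_le_sum fun V hV => ?_
          refine (hN V p m hp hm F hF).1 (le_trans ?_ hle)
          exact Finset.single_le_sum (f := p₀) (fun _ _ => Nat.zero_le _) hV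
      _ = (∑ V ∈ S, N V) * (p ^ m) ^ r := (Finset.sum_mul _ _ _).symm
  · calc Nat.card (Spec (CommRingCat.of F) ⟶ X)
        ≤ ∑ V ∈ S, Nat.card {g : Spec (CommRingCat.of F) ⟶ X //
          g (IsLocalRing.closedPoint F) ∈ V.1} := hcount
      _ ≤ ∑ V ∈ S, N V * (p ^ m) ^ r :=
          Finset.sum_le_sum fun V _ => (hN V p m hp hm F hF).2
      _ = (∑ V ∈ S, N V) * (p ^ m) ^ r := (Finset.sum_mul _ _ _).symm

include f in
/-- S13070. -/
theorem main (r : ℕ) (hr : topologicalKrullDim X ≤ r) :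
    ∃ (c : ℝ) (p₀ : ℕ), 0 < c ∧ ∀ (p m : ℕ), p.Prime → 1 ≤ m →
      ∀ (F : Type u) [Field F], Nat.card F = p ^ m →
        (p₀ ≤ p → (Nat.card (Spec (CommRingCat.of F) ⟶ X) : ℝ) ≤
            c * (p : ℝ) ^ ((m : ℝ) * ((r : ℝ) - 1))) ∧
        (p < p₀ → (Nat.card (Spec (CommRingCat.of F) ⟶ X) : ℝ) ≤ c * (p : ℝ) ^ ((m : ℝ) * r)) := by
  obtain ⟨N, p₀, hN⟩ := exists_bound_nat f r hr
  refine ⟨(N : ℝ) + 1, p₀, by positivity, ?_⟩
  intro p m hp hm F _ hF
  obtain ⟨h1, h2⟩ := hN p m hp hm F hF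
  have hpR : (0 : ℝ) < p := by exact_mod_cast hp.pos
  have hNN : (N : ℝ) ≤ (N : ℝ) + 1 := by linarith
  constructor
  · intro hle
    have e1 : (p : ℝ) ^ ((m : ℝ) * ((r : ℝ) - 1)) = (p : ℝ) ^ (m * r) / (p : ℝ) ^ m := by
      have : (m : ℝ) * ((r : ℝ) - 1) = ((m * r : ℕ) : ℝ) - ((m : ℕ) : ℝ) := by
        push_cast; ring
      rw [this, Real.rpow_sub hpR, Real.rpow_natCast, Real.rpow_natCast]
    rw [e1, ← mul_div_assoc, le_div_iff₀ (pow_pos hpR m)]
    have h3 : (Nat.card (Spec (CommRingCat.of F) ⟶ X) : ℝ) * (p : ℝ) ^ m ≤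
        (N : ℝ) * (p : ℝ) ^ (m * r) := by
      have := h1 hle
      rw [← pow_mul] at this
      exact_mod_cast this
    exact h3.trans (mul_le_mul_of_nonneg_right hNN (by positivity))
  · intro _
    have e1 : (p : ℝ) ^ ((m : ℝ) * (r : ℝ)) = (p : ℝ) ^ (m * r) := by
      have : (m : ℝ) * (r : ℝ) = ((m * r : ℕ) : ℝ) := by push_cast; ring
      rw [this, Real.rpow_natCast]
    rw [e1]
    have h3 : (Nat.card (Spec (CommRingCat.of F) ⟶ X) : ℝ) ≤ (N : ℝ) * (p : ℝ) ^ (m * r) := by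
      have := h2
      rw [← pow_mul] at this
      exact_mod_cast this
    exact h3.trans (mul_le_mul_of_nonneg_right hNN (by positivity))

end scheme

end Groth.Agent.Helper8.ZInt

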