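import Mathlib
import Groth.Agent.Helper8.ZDir2
import Groth.Agent.Helper8.ZInt3
import Groth.Agent.Helper3.FinZ

set_option autoImplicit false
universe u
open CategoryTheory AlgebraicGeometry
open Groth.Agent.Helper8.ZInt

namespace Groth.Agent.Helper8.ZDir

theorem exists_field_card (p m : ℕ) (hp : p.Prime) (hm : m ≠ 0) :
    ∃ (F : Type u) (_ : Field F), Nat.card F = p ^ m := by
  haveI : Fact p.Prime := ⟨hp⟩
  exact ⟨ULift.{u} (GaloisField p m), inferInstance, by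
    rw [Nat.card_ulift, GaloisField.card p m hm]⟩

section int

variable {X : Scheme.{u}} (f : X ⟶ Spec (CommRingCat.of (ULift.{u} ℤ))) [LocallyOfFiniteType f]

include f in
theorem finite_residueField_of_isClosed (q : ClPt X) : Finite (X.residueField q.1) := by
  have hf : f = Limits.IsTerminal.from specULiftZIsTerminal X :=
    specULiftZIsTerminal.hom_ext _ _
  haveI : LocallyOfFiniteType (Limits.IsTerminal.from specULiftZIsTerminal X) :=
    hf ▸ inferInstance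
  exact (Groth.Agent.Helper3.FinZ.closed_iff X q.1).mp q.2

include f in
theorem exists_primePow (q : ClPt X) :
    ∃ pm : Nat.Primes × ℕ, ptNorm X q = (pm.1 : ℕ) ^ (pm.2 + 1) := by
  haveI := finite_residueField_of_isClosed f q
  letI : Fintype (X.residueField q.1) := Fintype.ofFinite _
  obtain ⟨p, _, n, hp, hn⟩ := FiniteField.card' (X.residueField q.1)
  refine ⟨(⟨p, hp⟩, (n : ℕ) - 1), ?_⟩
  unfold ptNorm
  rw [Nat.card_eq_fintype_card, hn]
  have : (n : ℕ) - 1 + 1 = n := Nat.sub_add_cancel n.pos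
  rw [this]

variable [QuasiCompact f]

include f in
theorem finite_hom_int (F : Type u) [Field F] [Finite F] :
    Finite (Spec (CommRingCat.of F) ⟶ X) := by
  classical
  haveI : CompactSpace X := QuasiCompact.compactSpace_of_compactSpace f
  obtain ⟨S, hS⟩ : ∃ S : Finset X.affineOpens, ∀ x : X, ∃ V ∈ S, x ∈ V.1 := by
    have hcov : (Set.univ : Set X) ⊆ ⋃ V : X.affineOpens, (V.1 : Set X) := by
      intro x _
      obtain ⟨_, ⟨V, hV, rfl⟩, hxV, -⟩ :=
        X.isBasis_affineOpens.exists_subset_of_mem_open (Set.mem_univ x) isOpen_univ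
      exact Set.mem_iUnion.mpr ⟨⟨V, hV⟩, hxV⟩
    obtain ⟨S, hS⟩ := isCompact_univ.elim_finite_subcover (fun V : X.affineOpens => (V.1 : Set X))
      (fun V => V.1.2) hcov
    refine ⟨S, fun x => ?_⟩
    have := hS (Set.mem_univ x)
    simp only [Set.mem_iUnion] at this
    obtain ⟨V, hV, hx⟩ := this
    exact ⟨V, hV, hx⟩
  haveI : ∀ V : X.affineOpens, Finite {g : Spec (CommRingCat.of F) ⟶ X //
      g (IsLocalRing.closedPoint F) ∈ V.1} := fun V => finite_ptsIn f V F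
  have hch : ∀ g : Spec (CommRingCat.of F) ⟶ X,
      ∃ V : S, g (IsLocalRing.closedPoint F) ∈ V.1.1 := by
    intro g
    obtain ⟨V, hVS, hV⟩ := hS (g (IsLocalRing.closedPoint F))
    exact ⟨⟨V, hVS⟩, hV⟩
  choose Vg hVg using hch
  let Φ : (Spec (CommRingCat.of F) ⟶ X) → (Σ V : S, {g : Spec (CommRingCat.of F) ⟶ X //
      g (IsLocalRing.closedPoint F) ∈ V.1.1}) := fun g => ⟨Vg g, g, hVg g⟩
  have hΦ : Function.Injective Φ := by
    intro g₁ g₂ h
    have h1 : (Φ g₁).2.1 = (Φ g₂).2.1 := by rw [h]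
    exact h1
  exact Finite.of_injective Φ hΦ

include f in
theorem summable_ptNorm (r : ℕ) (hr : topologicalKrullDim X ≤ r) (σ : ℝ) (hσ : (r : ℝ) < σ) :
    Summable (fun q : ClPt X => (ptNorm X q : ℝ) ^ (-σ)) := by
  classical
  obtain ⟨N, p₀, hN⟩ := exists_bound_nat f r hr
  choose φ hφ using exists_primePow f
  set ε : ℝ := σ - r with hε
  have hε0 : 0 < ε := sub_pos.mpr hσ
  set ρ : ℝ := (2 : ℝ) ^ (-ε) with hρ
  have hρ0 : 0 ≤ ρ := (Real.rpow_pos_of_pos two_pos _).le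
  have hρ1 : ρ < 1 := Real.rpow_lt_one_of_one_lt_of_neg one_lt_two (neg_lt_zero.mpr hε0)
  set N' : ℝ := (N : ℝ) * ((p₀ : ℝ) + 1) with hN'
  have hN'0 : 0 ≤ N' := by positivity
  let h : Nat.Primes × ℕ → ℝ := fun i => (N' * ((i.1 : ℕ) : ℝ) ^ (-(1 + ε))) * ρ ^ i.2
  have hh : Summable h :=
    Summable.mul_of_nonneg ((Nat.Primes.summable_rpow.mpr (by linarith)).mul_left N')
      (summable_geometric_of_lt_one hρ0 hρ1)
      (fun p => mul_nonneg hN'0 (Real.rpow_nonneg (Nat.cast_nonneg _) _))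
      (fun m => pow_nonneg hρ0 m)
  let v : Nat.Primes × ℕ → ℝ := fun i => ((((i.1 : ℕ) ^ (i.2 + 1) : ℕ)) : ℝ) ^ (-σ)
  have hinj : ∀ (i : Nat.Primes × ℕ) (F : Type u) [Field F], Nat.card F = (i.1 : ℕ) ^ (i.2 + 1) →
      ∃ ι : {q // φ q = i} → {q : ClPt X // ptNorm X q = Nat.card F}, Function.Injective ι := by
    intro i F _ hF
    exact ⟨fun q => ⟨q.1, by rw [hφ q.1, q.2, hF]⟩,
      fun a b hab => Subtype.ext (congrArg (fun t => t.1) hab)⟩
  refine summable_of_fibre_bound (fun q => (ptNorm X q : ℝ) ^ (-σ))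
    (fun q => Real.rpow_nonneg (Nat.cast_nonneg _) _) φ v
    (fun q => by simp only [v]; rw [hφ q]) ?_ h hh ?_
  · intro i
    obtain ⟨F, _, hF⟩ := exists_field_card.{u} i.1 (i.2 + 1) i.1.2 (Nat.succ_ne_zero _)
    haveI : Finite F := Nat.finite_of_card_ne_zero (by
      rw [hF]
      exact pow_ne_zero _ i.1.2.ne_zero)
    haveI := finite_hom_int f F
    haveI := (card_ptNorm_le X F).1
    obtain ⟨ι, hι⟩ := hinj i F hF
    exact Finite.of_injective ι hι
  · intro i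
    obtain ⟨F, _, hF⟩ := exists_field_card.{u} i.1 (i.2 + 1) i.1.2 (Nat.succ_ne_zero _)
    haveI : Finite F := Nat.finite_of_card_ne_zero (by
      rw [hF]
      exact pow_ne_zero _ i.1.2.ne_zero)
    haveI := finite_hom_int f F
    obtain ⟨hfin, hle⟩ := card_ptNorm_le X F
    obtain ⟨ι, hι⟩ := hinj i F hF
    have hcnt : Nat.card {q // φ q = i} ≤ Nat.card (Spec (CommRingCat.of F) ⟶ X) :=
      (Nat.card_le_card_of_injective ι hι).trans hle
    obtain ⟨hb1, hb2⟩ := hN (i.1 : ℕ) (i.2 + 1) i.1.2 (by omega) F hF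
    have hpP : (i.1 : ℕ).Prime := i.1.2
    generalize hM : Nat.card (Spec (CommRingCat.of F) ⟶ X) = M at hcnt hb1 hb2
    generalize hp : (i.1 : ℕ) = p at hb1 hb2 hpP
    have hnat : M * p ≤ N * (p₀ + 1) * (p ^ (i.2 + 1)) ^ r := by
      by_cases hpp : p₀ ≤ p
      · calc M * p ≤ M * p ^ (i.2 + 1) :=
              Nat.mul_le_mul_left _ (Nat.le_self_pow (by omega) p)
          _ ≤ N * (p ^ (i.2 + 1)) ^ r := hb1 hpp
          _ ≤ N * (p₀ + 1) * (p ^ (i.2 + 1)) ^ r :=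
              Nat.mul_le_mul_right _ (Nat.le_mul_of_pos_right _ (Nat.succ_pos _))
      · calc M * p ≤ (N * (p ^ (i.2 + 1)) ^ r) * (p₀ + 1) := Nat.mul_le_mul hb2 (by omega)
          _ = N * (p₀ + 1) * (p ^ (i.2 + 1)) ^ r := by ring
    have hp0 : (0 : ℝ) < p := by exact_mod_cast hpP.pos
    have hp2 : (2 : ℝ) ≤ p := by exact_mod_cast hpP.two_le
    set P : ℝ := (p : ℝ) ^ (i.2 + 1) with hP
    have hP0 : 0 < P := pow_pos hp0 _
    have hreal : (M : ℝ) * p ≤ N' * P ^ r := by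
      have h2 : ((M * p : ℕ) : ℝ) ≤ ((N * (p₀ + 1) * (p ^ (i.2 + 1)) ^ r : ℕ) : ℝ) := by
        exact_mod_cast hnat
      push_cast at h2
      exact h2
    have hvi : v i = P ^ (-σ) := by
      simp only [v, hp]
      push_cast
      rfl
    have hhi : h i = (N' * (p : ℝ) ^ (-(1 + ε))) * ρ ^ i.2 := by
      simp only [h, hp]
    rw [hvi, hhi]
    have hz : (p : ℝ) ^ (-ε) ≤ ρ :=
      Real.rpow_le_rpow_of_nonpos two_pos hp2 (by linarith)
    have hz0 : 0 < (p : ℝ) ^ (-ε) := Real.rpow_pos_of_pos hp0 _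
    have hPε : P ^ (-ε) ≤ (p : ℝ) ^ (-ε) * ρ ^ i.2 := by
      rw [hP, ← Real.rpow_pow_comm hp0.le, pow_succ, mul_comm]
      exact mul_le_mul_of_nonneg_left (pow_le_pow_left₀ hz0.le hz _) hz0.le
    have hPσ : P ^ r * P ^ (-σ) = P ^ (-ε) := by
      rw [← Real.rpow_natCast, ← Real.rpow_add hP0]
      congr 1
      rw [hε]
      ring
    have hcntR : (Nat.card {q // φ q = i} : ℝ) ≤ (M : ℝ) := by exact_mod_cast hcnt
    have hPσ0 : 0 ≤ P ^ (-σ) := Real.rpow_nonneg hP0.le _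
    calc (Nat.card {q // φ q = i} : ℝ) * P ^ (-σ)
        ≤ (M : ℝ) * P ^ (-σ) := mul_le_mul_of_nonneg_right hcntR hPσ0
      _ = ((M : ℝ) * p) * P ^ (-σ) / p := by field_simp
      _ ≤ (N' * P ^ r) * P ^ (-σ) / p :=
          div_le_div_of_nonneg_right (mul_le_mul_of_nonneg_right hreal hPσ0) hp0.le
      _ = N' * P ^ (-ε) / p := by rw [mul_assoc, hPσ]
      _ ≤ N' * ((p : ℝ) ^ (-ε) * ρ ^ i.2) / p :=
          div_le_div_of_nonneg_right (mul_le_mul_of_nonneg_left hPε hN'0) hp0.le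
      _ = (N' * (p : ℝ) ^ (-(1 + ε))) * ρ ^ i.2 := by
          rw [neg_add, Real.rpow_add hp0, Real.rpow_neg_one]
          field_simp

include f in
theorem two_le_ptNorm (q : ClPt X) : 2 ≤ ptNorm X q := by
  obtain ⟨pm, h⟩ := exists_primePow f q
  rw [h]
  calc 2 ≤ (pm.1 : ℕ) := pm.1.2.two_le
    _ ≤ (pm.1 : ℕ) ^ (pm.2 + 1) := Nat.le_self_pow (by omega) _

include f in
/-- S13086. -/
theorem main_int (r : ℕ) (hr : topologicalKrullDim X ≤ r) :
    LSeries.abscissaOfAbsConv (Zeta.arithCoeff X) ≤ (r : ℝ) ∧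
      ∀ s : ℂ, (r : ℝ) < s.re → LSeries (Zeta.arithCoeff X) s ≠ 0 :=
  main_of_summable X (two_le_ptNorm f) r (fun σ hσ => summable_ptNorm f r hr σ hσ)

end int

end Groth.Agent.Helper8.ZDir

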