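import Mathlib
import Groth.Agent.Helper8.ZFixC
import Groth.Prelude.Def_FinFr

set_option autoImplicit false
universe u
open CategoryTheory CategoryTheory.Limits AlgebraicGeometry
open Groth.Agent.Helper8.ZPts

namespace Groth.Agent.Helper8.ZFix

section fixedSections

variable {k₀ K : Type u} [Field k₀] [Finite k₀] [Field K] [IsAlgClosed K] [Algebra k₀ K]
variable {X W : Scheme.{u}} (f : X ⟶ Spec (CommRingCat.of k₀))
  [LocallyOfFiniteType f] [QuasiCompact f]
  (g : W ⟶ Spec (CommRingCat.of K)) (π : W ⟶ X)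
  (hπ : IsPullback π g f (Spec.map (CommRingCat.ofHom (algebraMap k₀ K))))
  (FX : X ⟶ X) (hle : ∀ U : X.Opens, U ≤ FX ⁻¹ᵁ U)
  (hFapp : ∀ (U : X.Opens) (s : Γ(X, U)), (FX.appLE U U (hle U)).hom s = s ^ Nat.card k₀)
  (Φ : W ⟶ W) (hΦπ : Φ ≫ π = π ≫ FX) (hΦg : Φ ≫ g = g)

include hπ hFapp hΦπ hΦg in
/-- the sections of `W = X ×_{k₀} K` fixed by the Frobenius are finite in number (no integrality
hypothesis). -/
theorem finite_fixedSections :
    Finite {s : {s : Spec (CommRingCat.of K) ⟶ W // s ≫ g = 𝟙 _} // s.1 ≫ Φ = s.1} := by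
  -- fixed sections inject into fixed points of `X`
  let e2 : {s : {s : Spec (CommRingCat.of K) ⟶ W // s ≫ g = 𝟙 _} // s.1 ≫ Φ = s.1} →
      {t : Pts f K // t.1 ≫ FX = t.1} := fun s => ⟨⟨s.1.1 ≫ π, by
          rw [Category.assoc, hπ.w, ← Category.assoc, s.1.2, Category.id_comp]⟩, by
          show (s.1.1 ≫ π) ≫ FX = s.1.1 ≫ π
          rw [Category.assoc, ← hΦπ, ← Category.assoc, s.2]⟩
  have he2 : Function.Injective e2 := by
    intro s s' h
    apply Subtype.ext
    apply Subtype.ext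
    have h1 : s.1.1 ≫ π = s'.1.1 ≫ π := congrArg (fun t => t.1.1) h
    apply hπ.hom_ext h1
    rw [s.1.2, s'.1.2]
  -- arithmetic
  obtain ⟨p₀, hp₀⟩ := CharP.exists k₀
  haveI : CharP k₀ p₀ := hp₀
  haveI : Fact p₀.Prime := ⟨CharP.char_is_prime k₀ p₀⟩
  haveI : CharP K p₀ := charP_of_injective_algebraMap (algebraMap k₀ K).injective p₀
  letI : Fintype k₀ := Fintype.ofFinite k₀
  obtain ⟨e, -, he⟩ := FiniteField.card k₀ p₀
  have hQ : Nat.card k₀ = p₀ ^ (e : ℕ) := by rw [Nat.card_eq_fintype_card]; exact he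
  have hE : 1 ≤ (e : ℕ) := e.pos
  have hQk : ∀ c : k₀, c ^ Nat.card k₀ = c := fun c => by
    rw [Nat.card_eq_fintype_card]; exact FiniteField.pow_card c
  set φQ : K →+* K := iterateFrobenius K p₀ e with hφQdef
  have hφQ : ∀ c, φQ c = c ^ Nat.card k₀ := fun c => by
    rw [hφQdef, iterateFrobenius_def, hQ]
  let e3 : {t : Pts f K // t.1 ≫ FX = t.1} ≃
      {t : Pts f K // Spec.map (CommRingCat.ofHom φQ) ≫ t.1 = t.1} :=
    Equiv.subtypeEquivRight fun t => by
      rw [comp_frob FX (Nat.card k₀) hle hFapp φQ hφQ t.1]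
  set L := fixedField k₀ K p₀ e (Nat.card k₀) hQ hQk with hLdef
  have hL : ∀ c : K, c ∈ L ↔ φQ c = c := fun c => by
    rw [hφQ]
    rfl
  obtain ⟨e4⟩ := equiv_pts_fixedField f L φQ hL
  haveI : Finite L := finite_fixedField k₀ K p₀ e (Nat.card k₀) hQ hE hQk
  haveI : Finite (Pts f L) := finite_pts f L
  haveI : Finite {t : Pts f K // Spec.map (CommRingCat.ofHom φQ) ≫ t.1 = t.1} :=
    Finite.of_equiv _ e4
  haveI : Finite {t : Pts f K // t.1 ≫ FX = t.1} := Finite.of_equiv _ e3.symm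
  exact Finite.of_injective e2 he2

end fixedSections

section jacobson

theorem finite_of_finite_closedPoints {Z : Type*} [TopologicalSpace Z] [JacobsonSpace Z]
    (h : (closedPoints Z).Finite) : Finite Z := by
  have hcl : IsClosed (closedPoints Z) := by
    have : closedPoints Z = ⋃ x ∈ closedPoints Z, {x} := (Set.biUnion_of_singleton _).symm
    rw [this]
    exact h.isClosed_biUnion fun x hx => hx
  have h1 := closure_closedPoints (X := Z)
  rw [hcl.closure_eq] at h1
  rw [h1] at h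
  exact Set.finite_univ_iff.mp h

end jacobson

section fixScheme

/-- S14550, finiteness part. -/
theorem finite_fixScheme {k : Type u} [Field k] [Finite k]
    {X : Scheme.{u}} (f : X ⟶ Spec (CommRingCat.of k)) [LocallyOfFiniteType f] [QuasiCompact f]
    (FX : X ⟶ X) (hle : ∀ U : X.Opens, U ≤ FX ⁻¹ᵁ U)
    (hFapp : ∀ (U : X.Opens) (s : Γ(X, U)), (FX.appLE U U (hle U)).hom s = s ^ Nat.card k)
    (K : Type u) [Field K] [Algebra k K] [IsAlgClosed K]
    (F : FinFr.ext K f ⟶ FinFr.ext K f)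
    (hF1 : F ≫ FinFr.extπ K f = FinFr.extπ K f ≫ FX)
    (hF2 : F ≫ FinFr.extStr K f = FinFr.extStr K f) :
    Finite ↥(FinFr.fixScheme (FinFr.extStr K f) F hF2) := by
  set p := FinFr.extStr K f with hp
  set π := FinFr.extπ K f with hπdef
  have hπ : IsPullback π p f (Spec.map (CommRingCat.ofHom (algebraMap k K))) :=
    IsPullback.of_hasPullback f (FinFr.specι k K)
  let i : FinFr.fixScheme p F hF2 ⟶ FinFr.ext K f := pullback.fst _ _
  let j : FinFr.fixScheme p F hF2 ⟶ FinFr.ext K f := pullback.snd _ _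
  have hcond : i ≫ pullback.lift (𝟙 _) F (by rw [hF2, Category.id_comp]) =
      j ≫ pullback.lift (𝟙 _) (𝟙 _) rfl := pullback.condition
  have hij : i = j := by
    have := congr($hcond ≫ pullback.fst p p)
    simp only [Category.assoc, pullback.lift_fst, Category.comp_id] at this
    exact this
  have hiF : i ≫ F = i := by
    have := congr($hcond ≫ pullback.snd p p)
    simp only [Category.assoc, pullback.lift_snd, Category.comp_id] at this
    rw [this, hij]
  have hmono : ∀ {T : Scheme.{u}} (g₁ g₂ : T ⟶ FinFr.fixScheme p F hF2),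
      g₁ ≫ i = g₂ ≫ i → g₁ = g₂ := by
    intro T g₁ g₂ h
    refine pullback.hom_ext h ?_
    change g₁ ≫ j = g₂ ≫ j
    rw [← hij]; exact h
  haveI : LocallyOfFiniteType (pullback.lift (𝟙 (FinFr.ext K f)) (𝟙 _) rfl :
      FinFr.ext K f ⟶ pullback p p) := by
    haveI : LocallyOfFiniteType ((pullback.lift (𝟙 (FinFr.ext K f)) (𝟙 _) rfl :
      FinFr.ext K f ⟶ pullback p p) ≫ pullback.fst p p) := by
      rw [pullback.lift_fst]; infer_instance
    exact locallyOfFiniteType_of_comp _ (pullback.fst p p)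
  haveI : LocallyOfFiniteType i := by
    change LocallyOfFiniteType (pullback.fst _ _)
    infer_instance
  haveI : LocallyOfFiniteType p := by
    change LocallyOfFiniteType (pullback.snd _ _)
    infer_instance
  haveI : LocallyOfFiniteType (i ≫ p) := inferInstance
  haveI : JacobsonSpace ↥(FinFr.fixScheme p F hF2) := LocallyOfFiniteType.jacobsonSpace (i ≫ p)
  haveI := finite_fixedSections f p π hπ FX hle hFapp F hF1 hF2
  let ψ : {t : Spec (CommRingCat.of K) ⟶ FinFr.fixScheme p F hF2 // t ≫ (i ≫ p) = 𝟙 _} →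
      {s : {s : Spec (CommRingCat.of K) ⟶ FinFr.ext K f // s ≫ p = 𝟙 _} // s.1 ≫ F = s.1} :=
    fun t => ⟨⟨t.1 ≫ i, by rw [Category.assoc]; exact t.2⟩, by
      show (t.1 ≫ i) ≫ F = t.1 ≫ i
      rw [Category.assoc, hiF]⟩
  have hψ : Function.Injective ψ := by
    intro t t' h
    apply Subtype.ext
    apply hmono
    exact congrArg (fun s => s.1.1) h
  haveI : Finite {t : Spec (CommRingCat.of K) ⟶ FinFr.fixScheme p F hF2 // t ≫ (i ≫ p) = 𝟙 _} :=
    Finite.of_injective ψ hψ
  haveI : Finite (closedPoints ↥(FinFr.fixScheme p F hF2)) :=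
    Finite.of_equiv _ (pointEquivClosedPoint (i ≫ p))
  exact finite_of_finite_closedPoints (Set.toFinite _)

end fixScheme

end Groth.Agent.Helper8.ZFix
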