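import Mathlib
import Groth.Agent.Helper8.ZFixA

set_option autoImplicit false
universe u
open CategoryTheory CategoryTheory.Limits TensorProduct

namespace Groth.Agent.Helper8.ZFrob

/-- invariants of `τ ⊗ id` on `K ⊗[k] A` when the fixed field of `τ` is `k`. -/
theorem tensor_invariants (k K A : Type*) [Field k] [Field K] [Algebra k K] [CommRing A]
    [Algebra k A] (τ : K →+* K) (hτk : ∀ c : k, τ (algebraMap k K c) = algebraMap k K c)
    (hfix : ∀ c : K, τ c = c → c ∈ Set.range (algebraMap k K))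
    (Ψ : K ⊗[k] A →+* K ⊗[k] A) (hΨ : ∀ (c : K) (a : A), Ψ (c ⊗ₜ[k] a) = τ c ⊗ₜ[k] a)
    (x : K ⊗[k] A) (hx : Ψ x = x) :
    ∃ a : A, (1 : K) ⊗ₜ[k] a = x := by
  classical
  let e := Module.Free.chooseBasis k A
  let bK := Algebra.TensorProduct.basis K e
  have key : ∀ y : K ⊗[k] A, ∀ i, bK.repr (Ψ y) i = τ (bK.repr y i) := by
    intro y
    induction y using TensorProduct.induction_on with
    | zero => intro i; simp
    | tmul c a =>
      intro i
      rw [hΨ]
      simp only [bK, Algebra.TensorProduct.basis_repr_tmul, Finsupp.smul_apply,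
        Finsupp.mapRange_apply, smul_eq_mul, map_mul, hτk]
    | add y z hy hz =>
      intro i
      simp only [map_add, Finsupp.add_apply, hy i, hz i]
  have h1 : ∀ i, bK.repr x i ∈ Set.range (algebraMap k K) := fun i =>
    hfix _ (by rw [← key x i, hx])
  choose d hd using h1
  refine ⟨∑ i ∈ (bK.repr x).support, d i • e i, ?_⟩
  conv_rhs => rw [← bK.linearCombination_repr x]
  rw [Finsupp.linearCombination_apply, Finsupp.sum, TensorProduct.tmul_sum]
  refine Finset.sum_congr rfl fun i _ => ?_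
  rw [← hd i]
  simp only [bK, Algebra.TensorProduct.basis_apply]
  rw [TensorProduct.tmul_smul, TensorProduct.smul_tmul', TensorProduct.smul_tmul',
    Algebra.smul_def, smul_eq_mul]

/-- elements of a pushout are periodic for a twist that is periodic on the field factor. -/
theorem periodic_of_isPushout {A0 A K B : CommRingCat.{u}} (a : A0 ⟶ A) (j : A0 ⟶ K)
    (ιA : A ⟶ B) (ιK : K ⟶ B) (hpo : IsPushout a j ιA ιK) (τ : K → K)
    (hτ : ∀ c : K, ∃ n, 0 < n ∧ τ^[n] c = c) (ψ : B →+* B)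
    (hψA : ∀ x : A, ψ (ιA.hom x) = ιA.hom x) (hψK : ∀ c : K, ψ (ιK.hom c) = ιK.hom (τ c))
    (b : B) : ∃ n, 0 < n ∧ ψ^[n] b = b := by
  have hb : b ∈ Subring.closure (Set.range ιA.hom ∪ Set.range ιK.hom) := by
    rw [ZFix.closure_eq_top_of_isPushout a j ιA ιK hpo]
    trivial
  induction hb using Subring.closure_induction with
  | mem x hx =>
    rcases hx with ⟨y, rfl⟩ | ⟨c, rfl⟩
    · exact ⟨1, one_pos, by simpa using hψA y⟩
    · obtain ⟨n, hn, hc⟩ := hτ c
      refine ⟨n, hn, ?_⟩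
      have h : ∀ (m : ℕ) (c : K), ψ^[m] (ιK.hom c) = ιK.hom (τ^[m] c) := by
        intro m
        induction m with
        | zero => intro c; rfl
        | succ m ih =>
          intro c
          rw [Function.iterate_succ_apply, Function.iterate_succ_apply, hψK, ih]
      rw [h, hc]
  | zero => exact ⟨1, one_pos, by simp⟩
  | one => exact ⟨1, one_pos, by simp⟩
  | add x y _ _ hx hy =>
    obtain ⟨n, hn, hx⟩ := hx
    obtain ⟨m, hm, hy⟩ := hy
    refine ⟨n * m, Nat.mul_pos hn hm, ?_⟩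
    rw [iterate_map_add]
    have h1 : Function.IsPeriodicPt ψ (n * m) x := Function.IsPeriodicPt.mul_const hx m
    have h2 : Function.IsPeriodicPt ψ (n * m) y := Function.IsPeriodicPt.const_mul hy n
    rw [h1.eq, h2.eq]
  | neg x _ hx =>
    obtain ⟨n, hn, hx⟩ := hx
    exact ⟨n, hn, by rw [iterate_map_neg, hx]⟩
  | mul x y _ _ hx hy =>
    obtain ⟨n, hn, hx⟩ := hx
    obtain ⟨m, hm, hy⟩ := hy
    refine ⟨n * m, Nat.mul_pos hn hm, ?_⟩
    rw [iterate_map_mul]
    have h1 : Function.IsPeriodicPt ψ (n * m) x := Function.IsPeriodicPt.mul_const hx m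
    have h2 : Function.IsPeriodicPt ψ (n * m) y := Function.IsPeriodicPt.const_mul hy n
    rw [h1.eq, h2.eq]

/-- a periodic element all of whose conjugates lie in `P` lies in every prime `P'` with the same
invariant part. -/
theorem mem_of_orbit_mem {B : Type*} [CommRing B] (ψ : B →+* B) (P P' : Ideal B) [P.IsPrime]
    [P'.IsPrime] (hPP' : ∀ s, ψ s = s → s ∈ P → s ∈ P') (b : B) (n : ℕ) (hn : 0 < n)
    (hper : ψ^[n] b = b) (hb : ∀ j, ψ^[j] b ∈ P) : b ∈ P' := by
  classical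
  haveI : Nontrivial B := ⟨⟨0, 1, fun h => (Ideal.IsPrime.ne_top (I := P) inferInstance)
    ((Ideal.eq_top_iff_one _).2 (h ▸ P.zero_mem))⟩⟩
  let p : Polynomial B := ∏ j ∈ Finset.range n, (Polynomial.X - Polynomial.C (ψ^[j] b))
  have hmonic : p.Monic :=
    Polynomial.monic_prod_of_monic _ _ (fun j _ => Polynomial.monic_X_sub_C _)
  have hdeg : p.natDegree = n := by
    rw [Polynomial.natDegree_prod_of_monic _ _ (fun j _ => Polynomial.monic_X_sub_C _)]
    simp
  have hmap : p.map ψ = p := by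
    simp only [p, Polynomial.map_prod, Polynomial.map_sub, Polynomial.map_X, Polynomial.map_C]
    have h : ∀ j, ψ (ψ^[j] b) = ψ^[j + 1] b := fun j =>
      (Function.iterate_succ_apply' ψ j b).symm
    simp only [h]
    obtain ⟨m, rfl⟩ : ∃ m, n = m + 1 := ⟨n - 1, by omega⟩
    rw [Finset.prod_range_succ,
      Finset.prod_range_succ' (fun j => Polynomial.X - Polynomial.C (ψ^[j] b)), hper]
    rfl
  have hcoefP : ∀ i, i < n → p.coeff i ∈ P := by
    intro i hi
    have h1 : p.map (Ideal.Quotient.mk P) = Polynomial.X ^ n := by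
      simp only [p, Polynomial.map_prod, Polynomial.map_sub, Polynomial.map_X, Polynomial.map_C]
      have h : ∀ j, (Ideal.Quotient.mk P) (ψ^[j] b) = 0 := fun j =>
        Ideal.Quotient.eq_zero_iff_mem.2 (hb j)
      simp [h]
    have h2 := congrArg (fun q => q.coeff i) h1
    simp only [Polynomial.coeff_map, Polynomial.coeff_X_pow] at h2
    rw [if_neg (by omega)] at h2
    exact Ideal.Quotient.eq_zero_iff_mem.1 h2
  have hcoefψ : ∀ i, ψ (p.coeff i) = p.coeff i := fun i => by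
    conv_rhs => rw [← hmap]
    rw [Polynomial.coeff_map]
  have hcoefP' : ∀ i, i < n → p.coeff i ∈ P' := fun i hi => hPP' _ (hcoefψ i) (hcoefP i hi)
  have h3 : p.map (Ideal.Quotient.mk P') = Polynomial.X ^ n := by
    ext i
    rw [Polynomial.coeff_map, Polynomial.coeff_X_pow]
    rcases lt_trichotomy i n with h | h | h
    · rw [if_neg (by omega)]
      exact Ideal.Quotient.eq_zero_iff_mem.2 (hcoefP' i h)
    · rw [if_pos h, h, ← hdeg, hmonic.coeff_natDegree, map_one]
    · rw [if_neg (by omega), Polynomial.coeff_eq_zero_of_natDegree_lt (by omega), map_zero]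
  have heval : p.eval b = 0 := by
    rw [Polynomial.eval_prod]
    apply Finset.prod_eq_zero (Finset.mem_range.2 hn)
    simp
  have h4 : (Ideal.Quotient.mk P' b) ^ n = 0 := by
    have h5 := Polynomial.eval_map_apply (p := p) (Ideal.Quotient.mk P') b
    rw [h3, heval, map_zero, Polynomial.eval_pow, Polynomial.eval_X] at h5
    exact h5
  exact Ideal.Quotient.eq_zero_iff_mem.1 (pow_eq_zero_iff (by omega) |>.1 h4)

/-- enhanced version of `FrobDeg.exists_equiv_pow`. -/
theorem exists_equiv_pow' {A0 A K B : CommRingCat.{u}} (a : A0 ⟶ A) (j : A0 ⟶ K) (ιA : A ⟶ B)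
    (ιK : K ⟶ B) (hpo : IsPushout a j ιA ιK) (q : ℕ) (σ : K ≃+* K) (hσ : ∀ c : K, σ c = c ^ q)
    (hj : ∀ c : A0, (j.hom c) ^ q = j.hom c)
    (frob : B →+* B) (hfrob : ∀ b : B, frob b = b ^ q)
    (φ : B ⟶ B) (hφA : ∀ x : A, φ.hom (ιA.hom x) = (ιA.hom x) ^ q)
    (hφK : ∀ c : K, φ.hom (ιK.hom c) = ιK.hom c) :
    ∃ ψ : B ≃+* B, (∀ b : B, φ.hom b = (ψ b) ^ q) ∧ (∀ x : A, ψ (ιA.hom x) = ιA.hom x) ∧
      (∀ c : K, ψ (ιK.hom c) = ιK.hom (σ.symm c)) := by
  let τ : K ⟶ K := CommRingCat.ofHom σ.symm.toRingHom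
  let τ' : K ⟶ K := CommRingCat.ofHom σ.toRingHom
  have hjτ : j ≫ τ = j := by
    ext c
    show σ.symm (j.hom c) = j.hom c
    rw [RingEquiv.symm_apply_eq, hσ, hj]
  have hjτ' : j ≫ τ' = j := by
    ext c
    show σ (j.hom c) = j.hom c
    rw [hσ, hj]
  have hττ' : τ ≫ τ' = 𝟙 K := by
    ext c
    show σ (σ.symm c) = c
    simp
  have hτ'τ : τ' ≫ τ = 𝟙 K := by
    ext c
    show σ.symm (σ c) = c
    simp
  have w1 : a ≫ ιA = j ≫ (τ ≫ ιK) := by rw [← Category.assoc, hjτ, hpo.w]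
  have w2 : a ≫ ιA = j ≫ (τ' ≫ ιK) := by rw [← Category.assoc, hjτ', hpo.w]
  let ψ1 : B ⟶ B := hpo.desc ιA (τ ≫ ιK) w1
  let ψ2 : B ⟶ B := hpo.desc ιA (τ' ≫ ιK) w2
  have h12 : ψ1 ≫ ψ2 = 𝟙 B := by
    apply hpo.hom_ext
    · rw [← Category.assoc, hpo.inl_desc, hpo.inl_desc, Category.comp_id]
    · rw [← Category.assoc, hpo.inr_desc, Category.assoc, hpo.inr_desc, ← Category.assoc, hττ',
        Category.id_comp, Category.comp_id]
  have h21 : ψ2 ≫ ψ1 = 𝟙 B := by
    apply hpo.hom_ext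
    · rw [← Category.assoc, hpo.inl_desc, hpo.inl_desc, Category.comp_id]
    · rw [← Category.assoc, hpo.inr_desc, Category.assoc, hpo.inr_desc, ← Category.assoc, hτ'τ,
        Category.id_comp, Category.comp_id]
  let Ψ : B ≅ B := ⟨ψ1, ψ2, h12, h21⟩
  refine ⟨Ψ.commRingCatIsoToRingEquiv, ?_, ?_, ?_⟩
  · have key : φ = ψ1 ≫ CommRingCat.ofHom frob := by
      apply hpo.hom_ext
      · rw [← Category.assoc, hpo.inl_desc]
        ext x
        show φ.hom (ιA.hom x) = frob (ιA.hom x)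
        rw [hφA, hfrob]
      · rw [← Category.assoc, hpo.inr_desc]
        ext c
        show φ.hom (ιK.hom c) = frob (ιK.hom (σ.symm c))
        rw [hφK, hfrob, ← map_pow, ← hσ, RingEquiv.apply_symm_apply]
    intro b
    rw [key]
    show frob (ψ1.hom b) = _
    rw [hfrob]
    rfl
  · intro x
    have h := congrArg (fun t => t.hom x) (hpo.inl_desc ιA (τ ≫ ιK) w1)
    exact h
  · intro c
    have h := congrArg (fun t => t.hom c) (hpo.inr_desc ιA (τ ≫ ιK) w1)
    exact h

/-- the invariants of the twist on a pushout over a field are the image of the first factor. -/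
theorem invariants_of_isPushout {A0 A K B : CommRingCat.{u}} (a : A0 ⟶ A) (j : A0 ⟶ K)
    (ιA : A ⟶ B) (ιK : K ⟶ B) (hpo : IsPushout a j ιA ιK) (hA0 : IsField A0) (hK : IsField K)
    (τ : K →+* K) (hτj : ∀ c : A0, τ (j.hom c) = j.hom c)
    (hfix : ∀ c : K, τ c = c → c ∈ Set.range j.hom)
    (ψ : B →+* B) (hψA : ∀ x : A, ψ (ιA.hom x) = ιA.hom x)
    (hψK : ∀ c : K, ψ (ιK.hom c) = ιK.hom (τ c)) (s : B) (hs : ψ s = s) :
    s ∈ Set.range ιA.hom := by
  letI : Field A0 := hA0.toField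
  letI : Field K := hK.toField
  letI : Algebra A0 A := a.hom.toAlgebra
  letI : Algebra A0 K := j.hom.toAlgebra
  letI : Algebra A0 B := (a ≫ ιA).hom.toAlgebra
  let ιA' : A →ₐ[A0] B := { ιA.hom with commutes' := fun c => rfl }
  let ιK' : K →ₐ[A0] B := { ιK.hom with
    commutes' := fun c => by
      have h := congrArg (fun t => t.hom c) hpo.w
      exact h.symm }
  let τ' : K →ₐ[A0] K := { τ with commutes' := hτj }
  let T : CommRingCat.{u} := CommRingCat.of (K ⊗[A0] A)
  let inR : A ⟶ T := CommRingCat.ofHom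
    (Algebra.TensorProduct.includeRight : A →ₐ[A0] K ⊗[A0] A).toRingHom
  let inL : K ⟶ T := CommRingCat.ofHom
    (Algebra.TensorProduct.includeLeft : K →ₐ[A0] K ⊗[A0] A).toRingHom
  have w : a ≫ inR = j ≫ inL := by
    ext c
    show (1 : K) ⊗ₜ[A0] (algebraMap A0 A c) = (algebraMap A0 K c) ⊗ₜ[A0] (1 : A)
    rw [Algebra.algebraMap_eq_smul_one, Algebra.algebraMap_eq_smul_one, TensorProduct.tmul_smul,
      TensorProduct.smul_tmul']
  let u : B ⟶ T := hpo.desc inR inL w
  let v : T ⟶ B := CommRingCat.ofHom (Algebra.TensorProduct.productMap ιK' ιA').toRingHom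
  have huv : u ≫ v = 𝟙 B := by
    apply hpo.hom_ext
    · rw [← Category.assoc, hpo.inl_desc, Category.comp_id]
      ext x
      show Algebra.TensorProduct.productMap ιK' ιA' ((1 : K) ⊗ₜ[A0] x) = ιA.hom x
      rw [Algebra.TensorProduct.productMap_apply_tmul, map_one, one_mul]
      rfl
    · rw [← Category.assoc, hpo.inr_desc, Category.comp_id]
      ext c
      show Algebra.TensorProduct.productMap ιK' ιA' (c ⊗ₜ[A0] (1 : A)) = ιK.hom c
      rw [Algebra.TensorProduct.productMap_apply_tmul, map_one, mul_one]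
      rfl
  let Ψ : K ⊗[A0] A →ₐ[A0] K ⊗[A0] A := Algebra.TensorProduct.map τ' (AlgHom.id A0 A)
  have hcomm : CommRingCat.ofHom ψ ≫ u = u ≫ CommRingCat.ofHom Ψ.toRingHom := by
    apply hpo.hom_ext
    · ext x
      show u.hom (ψ (ιA.hom x)) = Ψ (u.hom (ιA.hom x))
      have h := congrArg (fun t => t.hom x) (hpo.inl_desc inR inL w)
      have h' : u.hom (ιA.hom x) = (1 : K) ⊗ₜ[A0] x := h
      rw [hψA, h', Algebra.TensorProduct.map_tmul, map_one]
      rfl
    · ext c
      show u.hom (ψ (ιK.hom c)) = Ψ (u.hom (ιK.hom c))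
      have h : ∀ c : K, u.hom (ιK.hom c) = c ⊗ₜ[A0] (1 : A) := fun c =>
        congrArg (fun t => t.hom c) (hpo.inr_desc inR inL w)
      rw [hψK, h, h, Algebra.TensorProduct.map_tmul, map_one]
      rfl
  have hus : Ψ (u.hom s) = u.hom s := by
    have h := congrArg (fun t => t.hom s) hcomm
    have h' : u.hom (ψ s) = Ψ (u.hom s) := h
    rw [← h', hs]
  obtain ⟨x, hx⟩ := tensor_invariants A0 K A τ hτj
    (fun c hc => by
      obtain ⟨d, hd⟩ := hfix c hc
      exact ⟨d, hd⟩) Ψ.toRingHom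
    (fun c y => by
      show Ψ (c ⊗ₜ[A0] y) = τ c ⊗ₜ[A0] y
      rw [Algebra.TensorProduct.map_tmul]
      rfl) (u.hom s) hus
  refine ⟨x, ?_⟩
  have h1 : u.hom (ιA.hom x) = (1 : K) ⊗ₜ[A0] x :=
    congrArg (fun t => t.hom x) (hpo.inl_desc inR inL w)
  have h2 : v.hom (u.hom (ιA.hom x)) = v.hom (u.hom s) := by rw [h1, hx]
  have h3 : ∀ t : B, v.hom (u.hom t) = t := fun t => congrArg (fun r => r.hom t) huv
  rw [h3, h3] at h2
  exact h2

end Groth.Agent.Helper8.ZFrob

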