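import Mathlib
import Groth.Agent.Helper8.ZFrobA
import Groth.Agent.Helper8.ZFixC
import Groth.Prelude.Def_FinFr

set_option autoImplicit false
universe u
open CategoryTheory CategoryTheory.Limits AlgebraicGeometry

namespace Groth.Agent.Helper8.ZFrob

/-- the abstract main lemma on a pushout chart. -/
theorem pushout_main {A0 A K B : CommRingCat.{u}} (a : A0 ⟶ A) (j : A0 ⟶ K) (ιA : A ⟶ B)
    (ιK : K ⟶ B) (hpo : IsPushout a j ιA ιK) (hA0 : IsField A0) (hK : IsField K)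
    (Q : ℕ) (σ : K ≃+* K) (hσ : ∀ c : K, σ c = c ^ Q)
    (hj : ∀ c : A0, (j.hom c) ^ Q = j.hom c)
    (hfixK : ∀ c : K, c ^ Q = c → c ∈ Set.range j.hom)
    (halg : ∀ c : K, ∃ n, 0 < n ∧ c ^ (Q ^ n) = c)
    (frob : B →+* B) (hfrob : ∀ b : B, frob b = b ^ Q)
    (φ : B ⟶ B) (hφA : ∀ x : A, φ.hom (ιA.hom x) = (ιA.hom x) ^ Q)
    (hφK : ∀ c : K, φ.hom (ιK.hom c) = ιK.hom c)
    (P P' : Ideal B) [P.IsPrime] [P'.IsPrime]
    (hPP' : ∀ x : A, ιA.hom x ∈ P → ιA.hom x ∈ P')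
    (b : B) (hb : ∀ n, φ.hom^[n] b ∈ P) : b ∈ P' := by
  obtain ⟨ψ, hψ, hψA, hψK⟩ := exists_equiv_pow' a j ιA ιK hpo Q σ hσ hj frob hfrob φ hφA hφK
  let ψr : B →+* B := ψ.toRingHom
  have hψr : ∀ c : B, φ.hom c = (ψr c) ^ Q := hψ
  have hiter : ∀ (n : ℕ) (c : B), φ.hom^[n] c = (ψr^[n] c) ^ (Q ^ n) := by
    intro n
    induction n with
    | zero => intro c; simp
    | succ n ih =>
      intro c
      rw [Function.iterate_succ_apply', ih, map_pow, hψr, Function.iterate_succ_apply' (f := ψr),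
        ← pow_mul, ← pow_succ']
  have hb' : ∀ n, ψr^[n] b ∈ P := fun n => by
    have h := hb n
    rw [hiter] at h
    exact Ideal.IsPrime.mem_of_pow_mem inferInstance _ h
  have hσiter : ∀ (n : ℕ) (c : K), σ^[n] c = c ^ (Q ^ n) := by
    intro n
    induction n with
    | zero => intro c; simp
    | succ n ih =>
      intro c
      rw [Function.iterate_succ_apply', ih, hσ, ← pow_mul, ← pow_succ]
  have hτper : ∀ c : K, ∃ n, 0 < n ∧ (σ.symm)^[n] c = c := by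
    intro c
    obtain ⟨n, hn, hc⟩ := halg c
    refine ⟨n, hn, ?_⟩
    have h1 : σ^[n] c = c := by rw [hσiter, hc]
    have h2 := (Function.LeftInverse.iterate σ.symm_apply_apply n) c
    rw [h1] at h2
    exact h2
  obtain ⟨n, hn, hper⟩ := periodic_of_isPushout a j ιA ιK hpo σ.symm hτper ψr hψA hψK b
  have hinv : ∀ s : B, ψr s = s → s ∈ Set.range ιA.hom := by
    intro s hs
    refine invariants_of_isPushout a j ιA ιK hpo hA0 hK σ.symm.toRingHom ?_ ?_ ψr hψA hψK s hs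
    · intro c
      show σ.symm (j.hom c) = j.hom c
      rw [RingEquiv.symm_apply_eq, hσ, hj]
    · intro c hc
      have hc' : σ.symm c = c := hc
      apply hfixK
      rw [← hσ]
      rw [RingEquiv.symm_apply_eq] at hc'
      exact hc'.symm
  refine mem_of_orbit_mem ψr P P' ?_ b n hn hper hb'
  intro s hs hsP
  obtain ⟨x, rfl⟩ := hinv s hs
  exact hPP' x hsP

section chart

variable {k₀ k : Type u} [Field k₀] [Finite k₀] [Field k] [IsAlgClosed k] [Algebra k₀ k]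
  [Algebra.IsAlgebraic k₀ k]
variable {X W : Scheme.{u}} (f : X ⟶ Spec (CommRingCat.of k₀)) (g : W ⟶ Spec (CommRingCat.of k))
  (π : W ⟶ X)
  (hπ : IsPullback π g f (Spec.map (CommRingCat.ofHom (algebraMap k₀ k))))
  (FX : X ⟶ X) (hle : ∀ U : X.Opens, U ≤ FX ⁻¹ᵁ U)
  (hFapp : ∀ (U : X.Opens) (s : Γ(X, U)), (FX.appLE U U (hle U)).hom s = s ^ Nat.card k₀)
  (Φ : W ⟶ W) (hΦπ : Φ ≫ π = π ≫ FX) (hΦg : Φ ≫ g = g)

include hπ hFapp hΦg in
theorem chart_key (V : X.Opens) (hV : IsAffineOpen V) (w w' : W) (hw : w ∈ π ⁻¹ᵁ V)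
    (hw' : w' ∈ π ⁻¹ᵁ V) (hππ : π w = π w') (b : Γ(W, π ⁻¹ᵁ V))
    (hb : ∀ n, (Φ.appLE (π ⁻¹ᵁ V) (π ⁻¹ᵁ V) (ZFix.preimage_le π FX hle Φ hΦπ V)).hom^[n] b ∈
      RingHom.ker (W.evaluation (π ⁻¹ᵁ V) w hw).hom) :
    b ∈ RingHom.ker (W.evaluation (π ⁻¹ᵁ V) w' hw').hom := by
  -- arithmetic
  obtain ⟨p₀, hp₀⟩ := CharP.exists k₀
  haveI : CharP k₀ p₀ := hp₀
  haveI : Fact p₀.Prime := ⟨CharP.char_is_prime k₀ p₀⟩
  haveI : CharP k p₀ := charP_of_injective_algebraMap (algebraMap k₀ k).injective p₀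
  letI : Fintype k₀ := Fintype.ofFinite k₀
  obtain ⟨e, -, he⟩ := FiniteField.card k₀ p₀
  set Q := Nat.card k₀ with hQdef
  have hQ : Q = p₀ ^ (e : ℕ) := by rw [hQdef, Nat.card_eq_fintype_card]; exact he
  have hE : 1 ≤ (e : ℕ) := e.pos
  have hQk : ∀ c : k₀, c ^ Q = c := fun c => by
    rw [hQdef, Nat.card_eq_fintype_card]; exact FiniteField.pow_card c
  have hpo := ZFix.isPushout_chart f g π hπ V hV
  let ek : Γ(Spec (CommRingCat.of k), ⊤) ≃+* k :=
    (Scheme.ΓSpecIso (CommRingCat.of k)).commRingCatIsoToRingEquiv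
  let ek₀ : Γ(Spec (CommRingCat.of k₀), ⊤) ≃+* k₀ :=
    (Scheme.ΓSpecIso (CommRingCat.of k₀)).commRingCatIsoToRingEquiv
  let σ : Γ(Spec (CommRingCat.of k), ⊤) ≃+* Γ(Spec (CommRingCat.of k), ⊤) :=
    ek.trans ((iterateFrobeniusEquiv k p₀ e).trans ek.symm)
  have hσ : ∀ c, σ c = c ^ Q := by
    intro c
    show ek.symm ((ek c) ^ p₀ ^ (e : ℕ)) = c ^ Q
    rw [← map_pow, RingEquiv.symm_apply_apply, hQ]
  have hjek : ∀ c : Γ(Spec (CommRingCat.of k₀), ⊤),
      ek (((Spec.map (CommRingCat.ofHom (algebraMap k₀ k))).appLE ⊤ ⊤ le_top).hom c) =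
        algebraMap k₀ k (ek₀ c) := by
    intro c
    rw [ZFix.SpecMap_appLE_top]
    show ek (ek.symm _) = _
    rw [RingEquiv.apply_symm_apply]
    rfl
  have hj : ∀ c : Γ(Spec (CommRingCat.of k₀), ⊤),
      (((Spec.map (CommRingCat.ofHom (algebraMap k₀ k))).appLE ⊤ ⊤ le_top).hom c) ^ Q =
        ((Spec.map (CommRingCat.ofHom (algebraMap k₀ k))).appLE ⊤ ⊤ le_top).hom c := by
    intro c
    rw [← map_pow]
    congr 1
    apply ek₀.injective
    rw [map_pow]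
    exact hQk _
  -- the fixed field is the base field
  have hfix0 : ∀ c : k, c ^ Q = c → c ∈ Set.range (algebraMap k₀ k) := by
    intro c hc
    set L := ZFix.fixedField k₀ k p₀ e Q hQ hQk with hL
    haveI : Finite L := ZFix.finite_fixedField k₀ k p₀ e Q hQ hE hQk
    have hcardL : Nat.card L = Q := ZFix.card_fixedField k₀ k p₀ e Q hQ hE hQk
    have hbot : Nat.card (⊥ : IntermediateField k₀ k) = Q :=
      Nat.card_congr (IntermediateField.botEquiv k₀ k).toEquiv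
    have hle' : ((⊥ : IntermediateField k₀ k) : Set k) ⊆ (L : Set k) := fun x hx =>
      (bot_le : (⊥ : IntermediateField k₀ k) ≤ L) hx
    have hfin : (L : Set k).Finite := Set.toFinite _
    have heq : ((⊥ : IntermediateField k₀ k) : Set k) = (L : Set k) := by
      apply Set.eq_of_subset_of_ncard_le hle' _ hfin
      rw [← Nat.card_coe_set_eq, ← Nat.card_coe_set_eq]
      exact le_of_eq (hcardL.trans hbot.symm)
    have hcL : c ∈ (L : Set k) := hc
    rw [← heq] at hcL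
    exact IntermediateField.mem_bot.1 hcL
  have hfixK : ∀ c : Γ(Spec (CommRingCat.of k), ⊤), c ^ Q = c →
      c ∈ Set.range ((Spec.map (CommRingCat.ofHom (algebraMap k₀ k))).appLE ⊤ ⊤ le_top).hom := by
    intro c hc
    have h1 : (ek c) ^ Q = ek c := by rw [← map_pow, hc]
    obtain ⟨d, hd⟩ := hfix0 _ h1
    refine ⟨ek₀.symm d, ?_⟩
    apply ek.injective
    rw [hjek, RingEquiv.apply_symm_apply, hd]
  have halg0 : ∀ c : k, ∃ n, 0 < n ∧ c ^ (Q ^ n) = c := by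
    intro c
    have hint : IsIntegral k₀ c := (Algebra.IsAlgebraic.isAlgebraic c).isIntegral
    haveI : FiniteDimensional k₀ (IntermediateField.adjoin k₀ {c}) :=
      IntermediateField.adjoin.finiteDimensional hint
    haveI : Finite (IntermediateField.adjoin k₀ {c}) := Module.finite_of_finite k₀
    letI : Fintype (IntermediateField.adjoin k₀ {c}) := Fintype.ofFinite _
    refine ⟨Module.finrank k₀ (IntermediateField.adjoin k₀ {c}), Module.finrank_pos, ?_⟩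
    have h1 := FiniteField.pow_card (⟨c, IntermediateField.mem_adjoin_simple_self k₀ c⟩ :
      IntermediateField.adjoin k₀ {c})
    have h2 : Fintype.card (IntermediateField.adjoin k₀ {c}) =
        Q ^ Module.finrank k₀ (IntermediateField.adjoin k₀ {c}) := by
      rw [← Nat.card_eq_fintype_card, hQdef]
      exact Module.natCard_eq_pow_finrank (K := k₀) (V := IntermediateField.adjoin k₀ {c})
    rw [h2] at h1
    exact congrArg Subtype.val h1
  have halg : ∀ c : Γ(Spec (CommRingCat.of k), ⊤), ∃ n, 0 < n ∧ c ^ (Q ^ n) = c := by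
    intro c
    obtain ⟨n, hn, h⟩ := halg0 (ek c)
    refine ⟨n, hn, ?_⟩
    apply ek.injective
    rw [map_pow, h]
  have hA0 : IsField Γ(Spec (CommRingCat.of k₀), ⊤) :=
    MulEquiv.isField (Field.toIsField k₀) ek₀.toMulEquiv
  have hK : IsField Γ(Spec (CommRingCat.of k), ⊤) :=
    MulEquiv.isField (Field.toIsField k) ek.toMulEquiv
  let ιk : k →+* Γ(W, (π ⁻¹ᵁ V)) := (g.appLE ⊤ (π ⁻¹ᵁ V) le_top).hom.comp ek.symm.toRingHom
  haveI : Nonempty (π ⁻¹ᵁ V) := ⟨⟨w, hw⟩⟩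
  haveI : Nontrivial Γ(W, (π ⁻¹ᵁ V)) := Scheme.component_nontrivial W (π ⁻¹ᵁ V)
  haveI : CharP Γ(W, (π ⁻¹ᵁ V)) p₀ := charP_of_injective_ringHom ιk.injective p₀
  have hfrob : ∀ b : Γ(W, (π ⁻¹ᵁ V)), iterateFrobenius Γ(W, (π ⁻¹ᵁ V)) p₀ e b = b ^ Q := by
    intro b
    rw [iterateFrobenius_def, hQ]
  -- the two primes
  haveI hP : (RingHom.ker (W.evaluation (π ⁻¹ᵁ V) w hw).hom).IsPrime := RingHom.ker_isPrime _
  haveI hP' : (RingHom.ker (W.evaluation (π ⁻¹ᵁ V) w' hw').hom).IsPrime := RingHom.ker_isPrime _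
  refine pushout_main _ _ _ _ hpo hA0 hK Q σ hσ hj hfixK halg
    (iterateFrobenius Γ(W, (π ⁻¹ᵁ V)) p₀ e) hfrob _
    (ZFix.appLE_π π FX Q hle hFapp Φ hΦπ V) (ZFix.appLE_g g Φ hΦg (π ⁻¹ᵁ V) _)
    (RingHom.ker (W.evaluation (π ⁻¹ᵁ V) w hw).hom) (RingHom.ker (W.evaluation (π ⁻¹ᵁ V) w' hw').hom) ?_ b hb
  intro x hx
  rw [RingHom.mem_ker] at hx ⊢
  have h1 : ∀ (z : W) (hz : z ∈ (π ⁻¹ᵁ V)), ((W.evaluation (π ⁻¹ᵁ V) z hz).hom ((π.appLE V (π ⁻¹ᵁ V) le_rfl).hom x) = 0 ↔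
      π z ∉ X.basicOpen x) := by
    intro z hz
    rw [Scheme.evaluation_eq_zero_iff_notMem_basicOpen, Scheme.basicOpen_appLE]
    constructor
    · intro h hh
      exact h ⟨hz, hh⟩
    · intro h hh
      exact h hh.2
  rw [h1] at hx ⊢
  rw [← hππ]
  exact hx

end chart

end Groth.Agent.Helper8.ZFrob

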