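import Mathlib
import Groth.Agent.Helper8.ZFrobB

set_option autoImplicit false
universe u
open CategoryTheory CategoryTheory.Limits AlgebraicGeometry

namespace Groth.Agent.Helper8.ZFrob

theorem main {k : Type u} [Field k] [Finite k]
    {X : Scheme.{u}} (f : X ⟶ Spec (CommRingCat.of k)) [LocallyOfFiniteType f] [QuasiCompact f]
    (FX : X ⟶ X) (hFb : FX.base = 𝟙 _) (hle : ∀ U : X.Opens, U ≤ FX ⁻¹ᵁ U)
    (hFapp : ∀ (U : X.Opens) (s : Γ(X, U)), (FX.appLE U U (hle U)).hom s = s ^ Nat.card k)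
    (F : FinFr.ext (AlgebraicClosure k) f ⟶ FinFr.ext (AlgebraicClosure k) f)
    (hF1 : F ≫ FinFr.extπ (AlgebraicClosure k) f = FinFr.extπ (AlgebraicClosure k) f ≫ FX)
    (hF2 : F ≫ FinFr.extStr (AlgebraicClosure k) f = FinFr.extStr (AlgebraicClosure k) f)
    (W : Set ↑(FinFr.ext (AlgebraicClosure k) f)) (hW : IsClosed W) :
    (∃ Y : Set X, IsClosed Y ∧ (FinFr.extπ (AlgebraicClosure k) f).base ⁻¹' Y = W) ↔
      F.base '' W ⊆ W := by
  set K := AlgebraicClosure k with hK
  set g := FinFr.extStr K f with hg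
  set π := FinFr.extπ K f with hπdef
  have hπ : IsPullback π g f (Spec.map (CommRingCat.ofHom (algebraMap k K))) :=
    IsPullback.of_hasPullback f (FinFr.specι k K)
  have hFXpt : ∀ x : X, FX x = x := fun x => by
    show FX.base x = x
    rw [hFb]
    rfl
  have hπF : ∀ z, π (F z) = π z := fun z => by
    rw [← Scheme.Hom.comp_apply, hF1, Scheme.Hom.comp_apply, hFXpt]
  constructor
  · rintro ⟨Y, -, rfl⟩
    rintro _ ⟨w, hw, rfl⟩
    show π (F w) ∈ Y
    rw [hπF]
    exact hw
  · intro hFW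
    haveI : IsIntegralHom (FinFr.specι k K) := by
      rw [FinFr.specι, IsIntegralHom.SpecMap_iff]
      exact algebraMap_isIntegral_iff.mpr inferInstance
    haveI : IsIntegralHom π := by
      show IsIntegralHom (pullback.fst f (FinFr.specι k K))
      infer_instance
    refine ⟨π.base '' W, π.isClosedMap _ hW, ?_⟩
    ext w'
    constructor
    · rintro ⟨w, hwW, hww'⟩
      have hww : π w = π w' := hww'
      by_contra hw'W
      obtain ⟨_, ⟨V, hV, rfl⟩, hxV, -⟩ :=
        X.isBasis_affineOpens.exists_subset_of_mem_open (Set.mem_univ (π w)) isOpen_univ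
      have hw : w ∈ π ⁻¹ᵁ V := hxV
      have hw' : w' ∈ π ⁻¹ᵁ V := by
        show π w' ∈ V
        rw [← hww]
        exact hxV
      have hU : IsAffineOpen (π ⁻¹ᵁ V) := ZFix.isAffineOpen_preimage f g π hπ V hV
      let Wc : (FinFr.ext K f).Opens := ⟨Wᶜ, hW.isOpen_compl⟩
      obtain ⟨b, hbD, hw'b⟩ := hU.exists_basicOpen_le (V := Wc) ⟨w', hw'W⟩ hw'
      have hUF : π ⁻¹ᵁ V ≤ F ⁻¹ᵁ (π ⁻¹ᵁ V) := ZFix.preimage_le π FX hle F hF1 V
      let fF : ↥(FinFr.ext K f) → ↥(FinFr.ext K f) := fun z => F z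
      have horb : ∀ n, fF^[n] w ∈ W ∧ fF^[n] w ∈ π ⁻¹ᵁ V := by
        intro n
        induction n with
        | zero => exact ⟨hwW, hw⟩
        | succ n ih =>
          rw [Function.iterate_succ_apply']
          exact ⟨hFW ⟨_, ih.1, rfl⟩, hUF ih.2⟩
      have hclaim : ∀ (n : ℕ) (z : ↥(FinFr.ext K f)) (hz : z ∈ π ⁻¹ᵁ V),
          z ∈ (FinFr.ext K f).basicOpen ((F.appLE (π ⁻¹ᵁ V) (π ⁻¹ᵁ V) hUF).hom^[n] b) ↔
            fF^[n] z ∈ (FinFr.ext K f).basicOpen b := by
        intro n
        induction n with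
        | zero => intro z _; rfl
        | succ n ih =>
          intro z hz
          rw [Function.iterate_succ_apply', Scheme.basicOpen_appLE, Function.iterate_succ_apply]
          rw [← ih (fF z) (hUF hz)]
          constructor
          · intro h; exact h.2
          · intro h; exact ⟨hz, h⟩
      have hb : ∀ n, (F.appLE (π ⁻¹ᵁ V) (π ⁻¹ᵁ V) hUF).hom^[n] b ∈
          RingHom.ker ((FinFr.ext K f).evaluation (π ⁻¹ᵁ V) w hw).hom := by
        intro n
        rw [RingHom.mem_ker, Scheme.evaluation_eq_zero_iff_notMem_basicOpen, hclaim n w hw]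
        intro h
        exact hbD h (horb n).1
      have hkey := chart_key f g π hπ FX hle hFapp F hF1 hF2 V hV w w' hw hw' hww b hb
      rw [RingHom.mem_ker, Scheme.evaluation_eq_zero_iff_notMem_basicOpen] at hkey
      exact hkey hw'b
    · intro hw'
      exact ⟨w', hw', rfl⟩

end Groth.Agent.Helper8.ZFrob

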