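import Mathlib

set_option autoImplicit false
universe u
open CategoryTheory AlgebraicGeometry

namespace Groth.Agent.Helper8.ZHyp

variable {k : Type u} [Field k] [Fintype k] {n : ℕ}

section funcs

variable (c : Fin (n + 1) ⊕ Fin (n + 1) → k) (A : Type*) [CommRing A] [Algebra k A]

/-- the linear form. -/
def Lf (z : Fin (n + 1) ⊕ Fin (n + 1) → A) : A := ∑ v, algebraMap k A (c v) * z v

/-- the tangency point. -/
def Pt : Fin (n + 1) ⊕ Fin (n + 1) → k :=
  Sum.elim (fun i => - c (Sum.inr i)) (fun i => c (Sum.inl i))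

variable (k) in
/-- the form `Σ (X_i Y_i^q − Y_i X_i^q)`. -/
def Ff (z : Fin (n + 1) ⊕ Fin (n + 1) → A) : A :=
  ∑ i : Fin (n + 1), (z (Sum.inl i) * z (Sum.inr i) ^ Fintype.card k -
      z (Sum.inr i) * z (Sum.inl i) ^ Fintype.card k)

theorem Ff_add (Z : Fin (n + 1) ⊕ Fin (n + 1) → A) :
    Ff k A (fun v => algebraMap k A (Pt c v) + Z v) =
      Lf c A Z - (Lf c A Z) ^ Fintype.card k + Ff k A Z := by
  have hΦ : ∀ x y : A, (x + y) ^ Fintype.card k = x ^ Fintype.card k + y ^ Fintype.card k :=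
    fun x y => map_add (FiniteField.frobeniusAlgHom k A) x y
  have hΦc : ∀ a : k, (algebraMap k A a) ^ Fintype.card k = algebraMap k A a :=
    fun a => (FiniteField.frobeniusAlgHom k A).commutes a
  have hL : (Lf c A Z) ^ Fintype.card k =
      ∑ v, algebraMap k A (c v) * (Z v) ^ Fintype.card k := by
    have h1 : (Lf c A Z) ^ Fintype.card k = FiniteField.frobeniusAlgHom k A (Lf c A Z) := rfl
    rw [h1, Lf, map_sum]
    refine Finset.sum_congr rfl fun v _ => ?_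
    rw [map_mul, AlgHom.commutes]
    rfl
  rw [hL]
  unfold Ff Lf
  rw [Fintype.sum_sum_type, Fintype.sum_sum_type]
  simp only [Pt, Sum.elim_inl, Sum.elim_inr, ← Finset.sum_add_distrib, ← Finset.sum_sub_distrib]
  refine Finset.sum_congr rfl fun i _ => ?_
  rw [hΦ, hΦ, hΦc, hΦc, map_neg]
  ring

theorem Lf_Pt_add (Z : Fin (n + 1) ⊕ Fin (n + 1) → A) :
    Lf c A (fun v => algebraMap k A (Pt c v) + Z v) = Lf c A Z := by
  unfold Lf
  simp only [mul_add, Finset.sum_add_distrib]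
  rw [add_eq_right, Fintype.sum_sum_type]
  simp only [Pt, Sum.elim_inl, Sum.elim_inr, ← Finset.sum_add_distrib]
  refine Finset.sum_eq_zero fun i _ => ?_
  rw [map_neg]
  ring

theorem Ff_smul (e : A) (Z : Fin (n + 1) ⊕ Fin (n + 1) → A) :
    Ff k A (fun v => e * Z v) = e ^ (Fintype.card k + 1) * Ff k A Z := by
  unfold Ff
  rw [Finset.mul_sum]
  refine Finset.sum_congr rfl fun i _ => ?_
  ring

theorem Lf_smul (e : A) (Z : Fin (n + 1) ⊕ Fin (n + 1) → A) :
    Lf c A (fun v => e * Z v) = e * Lf c A Z := by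
  unfold Lf
  rw [Finset.mul_sum]
  refine Finset.sum_congr rfl fun i _ => ?_
  ring

theorem Lf_add (Z Z' : Fin (n + 1) ⊕ Fin (n + 1) → A) :
    Lf c A (Z + Z') = Lf c A Z + Lf c A Z' := by
  unfold Lf
  simp only [Pi.add_apply, mul_add, Finset.sum_add_distrib]

theorem Lf_single (a : Fin (n + 1) ⊕ Fin (n + 1)) (y : A) :
    Lf c A (Pi.single a y) = algebraMap k A (c a) * y := by
  unfold Lf
  rw [Finset.sum_eq_single a]
  · rw [Pi.single_eq_same]
  · intro b _ hb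
    rw [Pi.single_eq_of_ne hb, mul_zero]
  · intro h
    exact absurd (Finset.mem_univ a) h

theorem aeval_F (F : MvPolynomial (Fin (n + 1) ⊕ Fin (n + 1)) k)
    (hF : F = ∑ i : Fin (n + 1), (MvPolynomial.X (Sum.inl i) * MvPolynomial.X (Sum.inr i) ^ Fintype.card k -
      MvPolynomial.X (Sum.inr i) * MvPolynomial.X (Sum.inl i) ^ Fintype.card k))
    (z : Fin (n + 1) ⊕ Fin (n + 1) → A) : MvPolynomial.aeval z F = Ff k A z := by
  rw [hF]
  simp only [Ff, map_sum, map_sub, map_mul, map_pow, MvPolynomial.aeval_X]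

theorem aeval_L (L : MvPolynomial (Fin (n + 1) ⊕ Fin (n + 1)) k)
    (hL : L = ∑ v, MvPolynomial.C (c v) * MvPolynomial.X v)
    (z : Fin (n + 1) ⊕ Fin (n + 1) → A) : MvPolynomial.aeval z L = Lf c A z := by
  rw [hL]
  simp only [Lf, map_sum, map_mul, MvPolynomial.aeval_X, MvPolynomial.aeval_C]

theorem map_Ff {A' : Type*} [CommRing A'] [Algebra k A'] (φ : A →+* A')
    (z : Fin (n + 1) ⊕ Fin (n + 1) → A) : φ (Ff k A z) = Ff k A' (fun v => φ (z v)) := by
  simp only [Ff, map_sum, map_sub, map_mul, map_pow]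

end funcs

section test

open Polynomial

/-- the tangent direction. -/
noncomputable def Vdir (c : Fin (n + 1) ⊕ Fin (n + 1) → k) (v₀ : Fin (n + 1) ⊕ Fin (n + 1))
    (i₁ : Fin (n + 1)) : Fin (n + 1) ⊕ Fin (n + 1) → k[X] :=
  Pi.single (M := fun _ => k[X]) (Sum.inl i₁) 1 + Pi.single (M := fun _ => k[X]) (Sum.inr i₁) X +
    Pi.single (M := fun _ => k[X]) v₀
      (- C (c v₀)⁻¹ * (C (c (Sum.inl i₁)) + C (c (Sum.inr i₁)) * X))

theorem Lf_Vdir (c : Fin (n + 1) ⊕ Fin (n + 1) → k) (v₀ : Fin (n + 1) ⊕ Fin (n + 1))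
    (hv₀ : c v₀ ≠ 0) (i₁ : Fin (n + 1)) : Lf c k[X] (Vdir c v₀ i₁) = 0 := by
  unfold Vdir
  rw [Lf_add, Lf_add, Lf_single, Lf_single, Lf_single]
  have hcc : (C (c v₀) : k[X]) * C (c v₀)⁻¹ = 1 := by
    rw [← C_mul, mul_inv_cancel₀ hv₀, C_1]
  simp only [Polynomial.algebraMap_apply, Algebra.algebraMap_self, RingHom.id_apply]
  linear_combination (-(C (c (Sum.inl i₁)) + C (c (Sum.inr i₁)) * X)) * hcc

theorem Ff_Vdir (c : Fin (n + 1) ⊕ Fin (n + 1) → k) (v₀ : Fin (n + 1) ⊕ Fin (n + 1))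
    (i₁ : Fin (n + 1)) (h1 : v₀ ≠ Sum.inl i₁) (h2 : v₀ ≠ Sum.inr i₁) :
    Ff k k[X] (Vdir c v₀ i₁) = X ^ Fintype.card k - X := by
  have hq : Fintype.card k ≠ 0 := Fintype.card_ne_zero
  unfold Ff
  rw [Finset.sum_eq_single i₁]
  · have e1 : Vdir c v₀ i₁ (Sum.inl i₁) = 1 := by
      simp [Vdir, Pi.single_apply, h1.symm]
    have e2 : Vdir c v₀ i₁ (Sum.inr i₁) = X := by
      simp [Vdir, Pi.single_apply, h2.symm]
    rw [e1, e2, one_pow, one_mul, mul_one]
  · intro i _ hi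
    by_cases h : Sum.inl i = v₀
    · have e2 : Vdir c v₀ i₁ (Sum.inr i) = 0 := by
        have h3 : Sum.inr i ≠ v₀ := by rw [← h]; simp
        simp [Vdir, Pi.single_apply, h3, hi]
      rw [e2, zero_pow hq, mul_zero, zero_mul, sub_zero]
    · have e1 : Vdir c v₀ i₁ (Sum.inl i) = 0 := by
        simp [Vdir, Pi.single_apply, h, hi]
      rw [e1, zero_pow hq, mul_zero, zero_mul, sub_zero]
  · intro h
    exact absurd (Finset.mem_univ i₁) h

end test


section main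

open Polynomial

theorem isNilpotent_of_mul_eq_zero {R : Type*} [CommRing R] (I : Ideal R)
    (h : ∀ x ∈ I, ∀ y ∈ I, x * y = 0) : IsNilpotent I := by
  refine ⟨2, ?_⟩
  rw [Ideal.zero_eq_bot, eq_bot_iff, pow_two, Ideal.mul_le]
  intro x hx y hy
  rw [Ideal.mem_bot]
  exact h x hx y hy

theorem isUnit_add_nilp {R : Type*} [CommRing R] {u x : R} (hu : IsUnit u) (hx : IsNilpotent x)
    (y : R) : IsUnit (u + x * y) :=
  IsNilpotent.isUnit_add_left_of_commute (Commute.isNilpotent_mul_right (Commute.all _ _) hx) hu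
    (Commute.all _ _)

theorem map_Lf (c : Fin (n + 1) ⊕ Fin (n + 1) → k) {A A' : Type*} [CommRing A] [Algebra k A]
    [CommRing A'] [Algebra k A'] (φ : A →ₐ[k] A') (z : Fin (n + 1) ⊕ Fin (n + 1) → A) :
    φ (Lf c A z) = Lf c A' (fun v => φ (z v)) := by
  simp only [Lf, map_sum, map_mul, AlgHom.commutes]

theorem main_aux
    (F L : MvPolynomial (Fin (n + 1) ⊕ Fin (n + 1)) k)
    (hF : F = ∑ i : Fin (n + 1), (MvPolynomial.X (Sum.inl i) * MvPolynomial.X (Sum.inr i) ^ Fintype.card k -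
      MvPolynomial.X (Sum.inr i) * MvPolynomial.X (Sum.inl i) ^ Fintype.card k))
    (c : Fin (n + 1) ⊕ Fin (n + 1) → k)
    (hL : L = ∑ v, MvPolynomial.C (c v) * MvPolynomial.X v)
    (w : Fin (n + 1) ⊕ Fin (n + 1)) (hw : Pt c w ≠ 0)
    (I : Ideal (MvPolynomial (Fin (n + 1) ⊕ Fin (n + 1)) k)) (hI : I = Ideal.span {F, L})
    (B : Type*) [CommRing B] [Algebra k B]
    [Algebra (MvPolynomial (Fin (n + 1) ⊕ Fin (n + 1)) k ⧸ I) B]
    [IsScalarTower k (MvPolynomial (Fin (n + 1) ⊕ Fin (n + 1)) k ⧸ I) B]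
    [IsLocalization.Away (Ideal.Quotient.mk I (MvPolynomial.X w)) B]
    [Algebra.FormallySmooth k B]
    (K : Type*) [CommRing K] [Algebra k K] (A : Type*) [CommRing A] [IsDomain A] [Algebra k A]
    (ε : A) (hε : ε ≠ 0) (ι : K →ₐ[k] A) (ev : A →+* K) (hev : ∀ a, ε ∣ a → ev a = 0)
    (hevι : ∀ x, ev (ι x) = x) (hevε : ev ε = 0)
    (V' : Fin (n + 1) ⊕ Fin (n + 1) → K) (hLV' : Lf c K V' = 0) (hFV' : Ff k K V' ≠ 0) :
    False := by
  classical
  have hq0 : Fintype.card k ≠ 0 := Fintype.card_ne_zero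
  -- the rings
  set J : Ideal A := Ideal.span {ε ^ (Fintype.card k + 2)} with hJdef
  set J₀ : Ideal A := Ideal.span {ε ^ (Fintype.card k + 1)} with hJ₀def
  have hJ : J ≤ J₀ := by
    rw [Ideal.span_singleton_le_span_singleton]
    exact pow_dvd_pow ε (by omega)
  let g : (A ⧸ J) →ₐ[k] (A ⧸ J₀) := Ideal.Quotient.factorₐ k hJ
  have hg : Function.Surjective g := Ideal.Quotient.factor_surjective hJ
  have hgmk : ∀ a : A, g (Ideal.Quotient.mk J a) = Ideal.Quotient.mk J₀ a := fun a => rfl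
  have hnil : IsNilpotent (RingHom.ker (g : (A ⧸ J) →+* (A ⧸ J₀))) := by
    refine isNilpotent_of_mul_eq_zero (R := A ⧸ J) _ ?_
    intro x hx y hy
    obtain ⟨a, rfl⟩ := Ideal.Quotient.mk_surjective x
    obtain ⟨b, rfl⟩ := Ideal.Quotient.mk_surjective y
    rw [RingHom.mem_ker] at hx hy
    have hx' : Ideal.Quotient.mk J₀ a = 0 := hx
    have hy' : Ideal.Quotient.mk J₀ b = 0 := hy
    rw [Ideal.Quotient.eq_zero_iff_mem, Ideal.mem_span_singleton] at hx' hy'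
    rw [← map_mul, Ideal.Quotient.eq_zero_iff_mem, Ideal.mem_span_singleton]
    obtain ⟨a', rfl⟩ := hx'
    obtain ⟨b', rfl⟩ := hy'
    refine ⟨ε ^ Fintype.card k * a' * b', ?_⟩
    ring
  -- the point
  let Pa : Fin (n + 1) ⊕ Fin (n + 1) → A := fun v => algebraMap k A (Pt c v)
  let V : Fin (n + 1) ⊕ Fin (n + 1) → A := fun v => ι (V' v)
  let ζ₀ : Fin (n + 1) ⊕ Fin (n + 1) → A := fun v => Pa v + ε * V v
  have hLV : Lf c A V = 0 := by
    have h3 := map_Lf c ι V'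
    rw [hLV', map_zero] at h3
    exact h3.symm
  have hLζ₀ : Lf c A ζ₀ = 0 := by
    show Lf c A (fun v => algebraMap k A (Pt c v) + ε * V v) = 0
    rw [Lf_Pt_add, Lf_smul, hLV, mul_zero]
  have hFζ₀ : Ff k A ζ₀ ∈ J₀ := by
    show Ff k A (fun v => algebraMap k A (Pt c v) + ε * V v) ∈ J₀
    rw [Ff_add, Lf_smul, hLV, mul_zero, zero_pow hq0, sub_zero, zero_add, Ff_smul]
    exact Ideal.mul_mem_right _ _ (Ideal.subset_span rfl)
  let φ₀ : MvPolynomial (Fin (n + 1) ⊕ Fin (n + 1)) k →ₐ[k] (A ⧸ J₀) :=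
    (Ideal.Quotient.mkₐ k J₀).comp (MvPolynomial.aeval ζ₀)
  have hφ₀F : φ₀ F = 0 := by
    show Ideal.Quotient.mk J₀ (MvPolynomial.aeval ζ₀ F) = 0
    rw [aeval_F A F hF, Ideal.Quotient.eq_zero_iff_mem]
    exact hFζ₀
  have hφ₀L : φ₀ L = 0 := by
    show Ideal.Quotient.mk J₀ (MvPolynomial.aeval ζ₀ L) = 0
    rw [aeval_L c A L hL, hLζ₀, map_zero]
  have hφ₀I : ∀ a ∈ I, φ₀ a = 0 := by
    intro a ha
    have hle : I ≤ RingHom.ker φ₀.toRingHom := by
      rw [hI, Ideal.span_le]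
      rintro x (rfl | rfl)
      · exact hφ₀F
      · exact hφ₀L
    exact hle ha
  let φ₁ : (MvPolynomial (Fin (n + 1) ⊕ Fin (n + 1)) k ⧸ I) →ₐ[k] (A ⧸ J₀) :=
    Ideal.Quotient.liftₐ I φ₀ hφ₀I
  have hφ₁ : ∀ a, φ₁ (Ideal.Quotient.mk I a) = φ₀ a := fun a => rfl
  have hunit : IsUnit (φ₁ (Ideal.Quotient.mk I (MvPolynomial.X w))) := by
    rw [hφ₁]
    show IsUnit (Ideal.Quotient.mk J₀ (MvPolynomial.aeval ζ₀ (MvPolynomial.X w)))
    rw [MvPolynomial.aeval_X]
    show IsUnit (Ideal.Quotient.mk J₀ (algebraMap k A (Pt c w) + ε * V w))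
    rw [map_add, map_mul]
    refine isUnit_add_nilp (R := A ⧸ J₀) ?_ ?_ _
    · exact ((isUnit_iff_ne_zero.mpr hw).map (algebraMap k A)).map (Ideal.Quotient.mk J₀)
    · refine ⟨Fintype.card k + 1, ?_⟩
      rw [← map_pow, Ideal.Quotient.eq_zero_iff_mem]
      exact Ideal.subset_span rfl
  have hunits : ∀ y : Submonoid.powers (Ideal.Quotient.mk I (MvPolynomial.X w)), IsUnit (φ₁ y) := by
    rintro ⟨_, m, rfl⟩
    rw [map_pow]
    exact hunit.pow m
  let f : B →ₐ[k] (A ⧸ J₀) :=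
    IsLocalization.liftAlgHom (A := k) (R := MvPolynomial (Fin (n + 1) ⊕ Fin (n + 1)) k ⧸ I)
      (M := Submonoid.powers (Ideal.Quotient.mk I (MvPolynomial.X w))) (S := B) (P := A ⧸ J₀) (f := φ₁) hunits
  have hf : ∀ a, f (algebraMap _ (B) a) = φ₁ a := fun a =>
    IsLocalization.lift_eq hunits a
  -- the lift
  let h : B →ₐ[k] (A ⧸ J) :=
    Algebra.FormallySmooth.liftOfSurjective (R := k) (A := B)
      (B := A ⧸ J) (C := A ⧸ J₀) f g hg hnil
  have hh : ∀ x, g (h x) = f x :=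
    Algebra.FormallySmooth.liftOfSurjective_apply (R := k) (A := B)
      (B := A ⧸ J) (C := A ⧸ J₀) f g hg hnil
  -- coordinates of the lift
  have hζ : ∀ v : Fin (n + 1) ⊕ Fin (n + 1), ∃ W : A,
      h (algebraMap _ (B) (Ideal.Quotient.mk I (MvPolynomial.X v))) =
        Ideal.Quotient.mk J (ζ₀ v + ε ^ (Fintype.card k + 1) * W) := by
    intro v
    obtain ⟨a, ha⟩ := Ideal.Quotient.mk_surjective
      (h (algebraMap _ (B) (Ideal.Quotient.mk I (MvPolynomial.X v))))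
    have h3 := hh (algebraMap _ (B) (Ideal.Quotient.mk I (MvPolynomial.X v)))
    rw [← ha, hgmk, hf, hφ₁] at h3
    have h4 : φ₀ (MvPolynomial.X v) = Ideal.Quotient.mk J₀ (ζ₀ v) := by
      show Ideal.Quotient.mk J₀ (MvPolynomial.aeval ζ₀ (MvPolynomial.X v)) = _
      rw [MvPolynomial.aeval_X]
    rw [h4, Ideal.Quotient.eq, Ideal.mem_span_singleton] at h3
    obtain ⟨W, hW⟩ := h3
    refine ⟨W, ?_⟩
    rw [← ha, ← hW]
    congr 1
    ring
  choose W hW using hζ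
  let Z' : Fin (n + 1) ⊕ Fin (n + 1) → A := fun v => V v + ε ^ Fintype.card k * W v
  let ζ : Fin (n + 1) ⊕ Fin (n + 1) → A := fun v => Pa v + ε * Z' v
  have hζeq : ∀ v, ζ₀ v + ε ^ (Fintype.card k + 1) * W v = ζ v := by
    intro v
    simp only [ζ₀, ζ, Z']
    ring
  -- the composite
  let ψ : MvPolynomial (Fin (n + 1) ⊕ Fin (n + 1)) k →ₐ[k] (A ⧸ J) :=
    (h.comp (IsScalarTower.toAlgHom k _ (B))).comp (Ideal.Quotient.mkₐ k I)
  have hψ : ψ = (Ideal.Quotient.mkₐ k J).comp (MvPolynomial.aeval ζ) := by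
    apply MvPolynomial.algHom_ext
    intro v
    show h (algebraMap _ (B) (Ideal.Quotient.mk I (MvPolynomial.X v))) =
      Ideal.Quotient.mk J (MvPolynomial.aeval ζ (MvPolynomial.X v))
    rw [hW, hζeq, MvPolynomial.aeval_X]
  have hψI : ∀ a ∈ I, ψ a = 0 := by
    intro a ha
    show h (algebraMap _ (B) (Ideal.Quotient.mk I a)) = 0
    rw [Ideal.Quotient.eq_zero_iff_mem.mpr ha, map_zero, map_zero]
  have hdF : ε ^ (Fintype.card k + 2) ∣ Ff k A ζ := by
    have h3 := hψI F ((hI ▸ Ideal.subset_span (by simp)))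
    rw [hψ] at h3
    have h4 : Ideal.Quotient.mk J (MvPolynomial.aeval ζ F) = 0 := h3
    rw [aeval_F A F hF, Ideal.Quotient.eq_zero_iff_mem, Ideal.mem_span_singleton] at h4
    exact h4
  have hdL : ε ^ (Fintype.card k + 2) ∣ Lf c A ζ := by
    have h3 := hψI L ((hI ▸ Ideal.subset_span (by simp)))
    rw [hψ] at h3
    have h4 : Ideal.Quotient.mk J (MvPolynomial.aeval ζ L) = 0 := h3
    rw [aeval_L c A L hL, Ideal.Quotient.eq_zero_iff_mem, Ideal.mem_span_singleton] at h4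
    exact h4
  -- the computation
  have e1 : Lf c A ζ = Lf c A (fun v => ε * Z' v) := Lf_Pt_add c A _
  have e2 : Ff k A ζ = Lf c A (fun v => ε * Z' v) -
      (Lf c A (fun v => ε * Z' v)) ^ Fintype.card k + Ff k A (fun v => ε * Z' v) :=
    Ff_add c A _
  rw [e1] at hdL
  have hdZ : ε ^ (Fintype.card k + 2) ∣ Ff k A (fun v => ε * Z' v) := by
    have e3 : Ff k A (fun v => ε * Z' v) = Ff k A ζ -
        Lf c A (fun v => ε * Z' v) + (Lf c A (fun v => ε * Z' v)) ^ Fintype.card k := by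
      rw [e2]
      ring
    rw [e3]
    exact dvd_add (dvd_sub hdF hdL) (dvd_pow hdL hq0)
  rw [Ff_smul, pow_succ ε (Fintype.card k + 1)] at hdZ
  have hX : ε ∣ Ff k A Z' :=
    (mul_dvd_mul_iff_left (pow_ne_zero _ hε)).mp hdZ
  have hX' := hev _ hX
  have e4 : ev (Ff k A Z') = Ff k K V' := by
    rw [map_Ff (k := k) A ev Z']
    congr 1
    funext v
    simp only [Z', V]
    rw [map_add, map_mul, map_pow, hevι, hevε, zero_pow hq0, zero_mul, add_zero]
  rw [e4] at hX'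
  exact hFV' hX'

theorem main (hn : 1 ≤ n)
    (F L : MvPolynomial (Fin (n + 1) ⊕ Fin (n + 1)) k)
    (hF : F = ∑ i : Fin (n + 1), (MvPolynomial.X (Sum.inl i) * MvPolynomial.X (Sum.inr i) ^ Fintype.card k -
      MvPolynomial.X (Sum.inr i) * MvPolynomial.X (Sum.inl i) ^ Fintype.card k))
    (c : Fin (n + 1) ⊕ Fin (n + 1) → k) (hc : c ≠ 0)
    (hL : L = ∑ v, MvPolynomial.C (c v) * MvPolynomial.X v) :
    ¬ ∀ w : Fin (n + 1) ⊕ Fin (n + 1), Algebra.FormallySmooth k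
      (Localization.Away (Ideal.Quotient.mk (Ideal.span {F, L}) (MvPolynomial.X w))) := by
  classical
  intro hall
  obtain ⟨v₀, hv₀⟩ : ∃ v, c v ≠ 0 := by
    by_contra h
    simp only [not_exists, not_not] at h
    exact hc (funext h)
  obtain ⟨w, hw⟩ : ∃ w, Pt c w ≠ 0 := by
    rcases v₀ with i | i
    · exact ⟨Sum.inr i, by simpa [Pt] using hv₀⟩
    · exact ⟨Sum.inl i, by simpa [Pt] using hv₀⟩
  let idx : Fin (n + 1) ⊕ Fin (n + 1) → Fin (n + 1) := Sum.elim id id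
  haveI : Nontrivial (Fin (n + 1)) := Fin.nontrivial_iff_two_le.mpr (by omega)
  obtain ⟨i₁, hi₁⟩ := exists_ne (idx v₀)
  have h1 : v₀ ≠ Sum.inl i₁ := fun h => hi₁ (by rw [h]; rfl)
  have h2 : v₀ ≠ Sum.inr i₁ := fun h => hi₁ (by rw [h]; rfl)
  haveI := hall w
  refine main_aux F L hF c hL w hw (Ideal.span {F, L}) rfl
    (Localization.Away (Ideal.Quotient.mk (Ideal.span {F, L}) (MvPolynomial.X w)))
    k[X] k[X][X] X X_ne_zero (Polynomial.CAlgHom : k[X] →ₐ[k] k[X][X])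
    (Polynomial.evalRingHom (0 : k[X])) ?_ ?_ ?_ (Vdir c v₀ i₁) (Lf_Vdir c v₀ hv₀ i₁) ?_
  · intro a ha
    rw [Polynomial.X_dvd_iff, Polynomial.coeff_zero_eq_eval_zero] at ha
    exact ha
  · intro x
    simp
  · simp
  · rw [Ff_Vdir c v₀ i₁ h1 h2]
    exact FiniteField.X_pow_card_sub_X_ne_zero k Fintype.one_lt_card

/-- S15555. -/
theorem main_smooth (hn : 1 ≤ n)
    (F L : MvPolynomial (Fin (n + 1) ⊕ Fin (n + 1)) k)
    (hF : F = ∑ i : Fin (n + 1), (MvPolynomial.X (Sum.inl i) * MvPolynomial.X (Sum.inr i) ^ Fintype.card k -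
      MvPolynomial.X (Sum.inr i) * MvPolynomial.X (Sum.inl i) ^ Fintype.card k))
    (c : Fin (n + 1) ⊕ Fin (n + 1) → k) (hc : c ≠ 0)
    (hL : L = ∑ v, MvPolynomial.C (c v) * MvPolynomial.X v) :
    ¬ ∀ w : Fin (n + 1) ⊕ Fin (n + 1),
      Smooth (Spec.map (CommRingCat.ofHom (algebraMap k
        (Localization.Away (Ideal.Quotient.mk (Ideal.span {F, L}) (MvPolynomial.X w)))))) := by
  intro hall
  apply main hn F L hF c hc hL
  intro w
  have hsm := hall w
  rw [HasRingHomProperty.Spec_iff (P := @Smooth)] at hsm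
  have hsm' : Algebra.Smooth k
      (Localization.Away (Ideal.Quotient.mk (Ideal.span {F, L}) (MvPolynomial.X w))) :=
    RingHom.smooth_algebraMap.mp hsm
  exact hsm'.formallySmooth

end main

end Groth.Agent.Helper8.ZHyp

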