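import Mathlib
import Groth.Agent.Helper8.ZFixC
import Groth.Agent.Helper8.WCLef
import Groth.Agent.Helper8.WCProj

set_option autoImplicit false
universe u v w

namespace Groth.Agent.Helper8.ZWeil

open CategoryTheory CategoryTheory.Limits AlgebraicGeometry WeilCoh
open Groth.Agent.Helper5.VarDim Groth.Agent.Helper7 Groth.Agent.Helper8.WCGeo
open Groth.Agent.Helper8.WCDiag Groth.Agent.Helper8.WCPt Groth.Agent.Helper8.WCGen
open Groth.Agent.Helper8.WCKun Groth.Agent.Helper8.WCProj Groth.Agent.Helper8.ZFix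
open Groth.Agent.Helper8.WCLef

section frobPow

variable {X : Scheme.{u}} (FX : X ⟶ X)

/-- iterates of an endomorphism of a scheme. -/
noncomputable def frobPow : ℕ → (X ⟶ X)
  | 0 => 𝟙 X
  | (m + 1) => FX ≫ frobPow m

variable (hle : ∀ U : X.Opens, U ≤ FX ⁻¹ᵁ U)

include hle in
theorem le_frobPow (m : ℕ) (U : X.Opens) : U ≤ (frobPow FX m) ⁻¹ᵁ U := by
  induction m with
  | zero => exact le_rfl
  | succ m ih =>
    show U ≤ (FX ≫ frobPow FX m) ⁻¹ᵁ U
    rw [Scheme.Hom.comp_preimage]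
    exact (hle U).trans (Scheme.Hom.preimage_mono FX ih)

theorem frobPow_appLE (q : ℕ)
    (hFapp : ∀ (U : X.Opens) (s : Γ(X, U)), (FX.appLE U U (hle U)).hom s = s ^ q)
    (m : ℕ) (U : X.Opens) (s : Γ(X, U)) :
    ((frobPow FX m).appLE U U (le_frobPow FX hle m U)).hom s = s ^ (q ^ m) := by
  induction m with
  | zero =>
    rw [pow_zero, pow_one]
    exact id_appLE_hom U _ s
  | succ m ih =>
    have h1 : (frobPow FX m).appLE U U (le_frobPow FX hle m U) ≫ FX.appLE U U (hle U) =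
        (FX ≫ frobPow FX m).appLE U U (le_frobPow FX hle (m + 1) U) := by
      rw [Scheme.Hom.appLE_comp_appLE]
    show ((FX ≫ frobPow FX m).appLE U U _).hom s = _
    rw [← h1, CommRingCat.hom_comp, RingHom.comp_apply, ih, hFapp, ← pow_mul, pow_succ]

end frobPow

section closedpt

variable {k : Type u} [Field k]

theorem pdim_closed [IsAlgClosed k] (X : Var k) (x : X.obj.left)
    (hx : IsClosed ({x} : Set X.obj.left)) : pdim X.obj.left x = 0 := by
  haveI := lft X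
  let s : pt k ⟶ X := ObjectProperty.homMk
    (Over.homMk (pointOfClosedPoint X.obj.hom x hx) (pointOfClosedPoint_comp _ _ _))
  have hs : sm s ≫ sm (toPt X) = 𝟙 _ := pointOfClosedPoint_comp _ _ _
  let ξ0 : (pt k).obj.left := IsLocalRing.closedPoint k
  have hsx : sm s ξ0 = x := pointOfClosedPoint_apply _ _ _ _
  have hdeg : (sm s).residueDegree ξ0 = 1 :=
    residueDegree_of_section (sm s) (sm (toPt X)) hs ξ0
  have h := pdim_eq_of_residueDegree_ne_zero s ξ0 (by rw [hdeg]; exact one_ne_zero)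
  rw [hsx, pdim_pt] at h
  exact h

theorem sm_Fpow_comp {X : Scheme.{u}} (FX : X ⟶ X) {Xb : Var k} (π : Xb.obj.left ⟶ X)
    (F : Xb ⟶ Xb) (hF : sm F ≫ π = π ≫ FX) (m : ℕ) :
    sm (Fpow F m) ≫ π = π ≫ frobPow FX m := by
  induction m with
  | zero =>
    show 𝟙 _ ≫ π = π ≫ 𝟙 _
    rw [Category.id_comp, Category.comp_id]
  | succ m ih =>
    show (sm F ≫ sm (Fpow F m)) ≫ π = π ≫ (FX ≫ frobPow FX m)
    rw [Category.assoc, ih, ← Category.assoc, hF, Category.assoc]

end closedpt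

section main

variable (k₀ : Type u) [Field k₀] [Finite k₀] (k : Type u) [Field k] [IsAlgClosed k] [Algebra k₀ k]
variable {K : Type v} [Field K] (T : TheoryOn.{u, v, w} k (IsVar k) K)
variable {X : Scheme.{u}} (f : X ⟶ Spec (CommRingCat.of k₀)) [LocallyOfFiniteType f]
  [QuasiCompact f]
  (FX : X ⟶ X) (hle : ∀ U : X.Opens, U ≤ FX ⁻¹ᵁ U)
  (hFapp : ∀ (U : X.Opens) (s : Γ(X, U)), (FX.appLE U U (hle U)).hom s = s ^ Nat.card k₀)
  (Xb : Var k) (π : Xb.obj.left ⟶ X)
  (hπ : IsPullback π Xb.obj.hom f (Spec.map (CommRingCat.ofHom (algebraMap k₀ k))))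
  (F : Xb ⟶ Xb) (hF : sm F ≫ π = π ≫ FX)
  (Pb : Var k) (p q : Pb ⟶ Xb) (hP : IsProd p q)

include hFapp hπ hF hP in
/-- The number of points of `X` with values in the extension of degree `m` is the alternating sum
of the traces of the `m`-th power of the Frobenius on cohomology. -/
theorem trace_formula (m : ℕ) (hm : 1 ≤ m) :
    ∑ i ∈ Finset.range (2 * dim Xb.obj.left + 1),
        (-1 : K) ^ i * LinearMap.trace K ↥(T.gr Xb (i : ℤ)) ((T.pullDeg F (i : ℤ)) ^ m) =
      (Zeta.nPts f m : K) := by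
  classical
  haveI := irr Xb
  haveI : IsIntegral Xb.obj.left := WCPt.isIntegral Xb
  haveI : LocallyOfFiniteType Xb.obj.hom := lft Xb
  -- arithmetic
  obtain ⟨p₀, hp₀⟩ := CharP.exists k₀
  haveI : CharP k₀ p₀ := hp₀
  haveI : Fact p₀.Prime := ⟨CharP.char_is_prime k₀ p₀⟩
  letI : Fintype k₀ := Fintype.ofFinite k₀
  obtain ⟨e, -, he⟩ := FiniteField.card k₀ p₀
  have hcard : Nat.card k₀ = p₀ ^ (e : ℕ) := by rw [Nat.card_eq_fintype_card]; exact he
  set Q := Nat.card k₀ ^ m with hQdef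
  have hQ : Q = p₀ ^ ((e : ℕ) * m) := by rw [hQdef, hcard, pow_mul]
  have hE : 1 ≤ (e : ℕ) * m :=
    Nat.one_le_iff_ne_zero.mpr (Nat.mul_ne_zero e.ne_zero (by omega))
  have hQk : ∀ c : k₀, c ^ Q = c := fun c => by
    rw [hQdef, Nat.card_eq_fintype_card]; exact FiniteField.pow_card_pow m c
  have hQ2 : 2 ≤ Q := by
    rw [hQ]
    calc 2 ≤ p₀ := (Fact.out : p₀.Prime).two_le
      _ = p₀ ^ 1 := (pow_one _).symm
      _ ≤ p₀ ^ ((e : ℕ) * m) := Nat.pow_le_pow_right (Fact.out : p₀.Prime).pos hE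
  -- the morphisms
  set Φ := Fpow F m with hΦdef
  obtain ⟨j, hjp, hjq⟩ := exists_lift p q hP (𝟙 Xb) Φ
  obtain ⟨d, hdp, hdq⟩ := exists_lift p q hP (𝟙 Xb) (𝟙 Xb)
  have hΦπ : sm Φ ≫ π = π ≫ frobPow FX m := sm_Fpow_comp FX π F hF m
  have hΦg : sm Φ ≫ Xb.obj.hom = Xb.obj.hom := Over.w Φ.hom
  have hjp' : sm j ≫ sm p = 𝟙 Xb.obj.left := by rw [← sm_comp, hjp, sm_id]
  have hjq' : sm j ≫ sm q = sm Φ := by rw [← sm_comp, hjq]
  have hdp' : sm d ≫ sm p = 𝟙 Xb.obj.left := by rw [← sm_comp, hdp, sm_id]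
  have hdq' : sm d ≫ sm q = 𝟙 Xb.obj.left := by rw [← sm_comp, hdq, sm_id]
  set η := genericPoint ↥Xb.obj.left with hη
  obtain ⟨hfin, hcardW⟩ := finite_and_card_eq_nPts f Xb.obj.hom π hπ (frobPow FX m) Q
    (le_frobPow FX hle m) (frobPow_appLE FX hle (Nat.card k₀) hFapp m) p₀ ((e : ℕ) * m) hQ hE hQk
    m hQdef (sm Φ) hΦπ hΦg (sm p) (sm q) hP (sm j) (sm d) hjp' hjq' hdp' hdq'
  have hloc := fun w hsp => isClosed_and_map_ker_eq f Xb.obj.hom π hπ (frobPow FX m) Q
    (le_frobPow FX hle m) (frobPow_appLE FX hle (Nat.card k₀) hFapp m) p₀ ((e : ℕ) * m) hQ hQ2 hQk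
    (sm Φ) hΦπ hΦg (sm p) (sm q) (sm j) (sm d) hjp' hjq' hdp' hdq' w hsp
  -- Lefschetz
  have hL := lefschetz T Xb Pb Φ p q hP j d hjp hjq hdp hdq
  have hpd : ∀ i : ℤ, T.pullDeg Φ i = (T.pullDeg F i) ^ m := fun i => by
    apply LinearMap.ext
    intro b
    apply Subtype.ext
    rw [pullDeg_pow T F i m b]
    rfl
  simp only [hpd] at hL
  rw [← hL]
  -- compute the intersection number
  obtain ⟨hcj, hpX, hdegj, hdimP⟩ := two_codim_graph T Xb Pb p q hP j hjp
  obtain ⟨hcd, -, hdeg, -⟩ := two_codim_graph T Xb Pb p q hP d hdp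
  have hmem : T.cl Pb (sm j η) ∈ T.gr Pb (2 * (pdim Xb.obj.left η : ℤ)) :=
    WC.gr_congr T (by rw [hpX]; exact hcj) (T.cl_mem Pb _)
  have h1 := T.cl_push d η _ hmem
  rw [hdeg, Nat.cast_one, one_mul, cl_generic, one_mul] at h1
  have hcomm : T.cl Pb (sm j η) * T.cl Pb (sm d η) = T.cl Pb (sm d η) * T.cl Pb (sm j η) :=
    comm_even T Pb _ (codim Pb.obj.left (sm d η)) _ _ (T.cl_mem Pb _) (T.cl_mem Pb _)
  rw [hcomm, ← h1]
  -- pull-back formula
  set S : Set Xb.obj.left := (sm d) ⁻¹' closure ({sm j η} : Set Pb.obj.left) with hSdef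
  have hS : ∀ w, w ∈ S ↔ sm j η ⤳ sm d w := fun w => specializes_iff_mem_closure.symm
  have hcomp : ∀ w, IsCompPt S w ↔ sm j η ⤳ sm d w := by
    intro w
    constructor
    · intro h
      exact (hS w).1 h.1
    · intro h
      refine ⟨(hS w).2 h, fun w' hw' hsp => ?_⟩
      have hcl := (hloc w' ((hS w').1 hw')).1
      have hmem' : w ∈ closure ({w'} : Set Xb.obj.left) := specializes_iff_mem_closure.1 hsp
      rw [hcl.closure_eq] at hmem'
      exact hmem'.symm
  have hpj : pdim Pb.obj.left (sm j η) = pdim Xb.obj.left η :=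
    pdim_eq_of_residueDegree_ne_zero j η (by rw [hdegj]; exact one_ne_zero)
  have hmult : ∀ (w : Xb.obj.left) (hw : IsCompPt S w),
      preimMult (sm d) (sm j η) w hw.1 = 1 := by
    intro w hw
    have hsp := (hS w).1 hw.1
    obtain ⟨-, hI, -⟩ := hloc w hsp
    unfold preimMult
    rw [hI]
    haveI : IsSimpleModule (Xb.obj.left.presheaf.stalk w)
        (Xb.obj.left.presheaf.stalk w ⧸
          IsLocalRing.maximalIdeal (Xb.obj.left.presheaf.stalk w)) :=
      isSimpleModule_iff_isCoatom.mpr (Ideal.isMaximal_def.mp inferInstance)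
    rw [Module.length_eq_one]
    rfl
  have hpull := T.cl_pull d (sm j η)
    (fun w hw => by
      have hcl := (hloc w ((hcomp w).1 hw)).1
      rw [pdim_closed Xb w hcl, hpj, hpX, hdimP]
      push_cast
      ring)
    (Or.inr hmult)
  rw [hpull]
  haveI : Finite {w : Xb.obj.left // IsCompPt S w} :=
    Finite.of_equiv _ (Equiv.subtypeEquivRight hcomp).symm
  letI : Fintype {w : Xb.obj.left // IsCompPt S w} := Fintype.ofFinite _
  rw [finsum_eq_sum_of_fintype, map_sum]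
  have hterm : ∀ w : {w : Xb.obj.left // IsCompPt S w},
      T.tr Xb ((preimMult (sm d) (sm j η) w.1 w.2.1 : K) • T.cl Xb w.1) = 1 := fun w => by
    rw [hmult w.1 w.2, Nat.cast_one, one_smul,
      tr_cl_closed T Xb w.1 (hloc w.1 ((hcomp w.1).1 w.2)).1]
  rw [Finset.sum_congr rfl (fun w _ => hterm w), Finset.sum_const, Finset.card_univ,
    nsmul_eq_mul, mul_one, ← hcardW, ← Nat.card_eq_fintype_card,
    Nat.card_congr (Equiv.subtypeEquivRight hcomp)]

end main

end Groth.Agent.Helper8.ZWeil
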