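import Mathlib
import Groth.Prelude.Def_Desc
import Groth.Prelude.Def_DescFam
import Groth.Agent.Helper8.FpqcAff

/-!
# Zariski descent for schemes and refinement of families by Zariski covers

* `effective_of_local_section'`: descent data relative to a descent cover with Zariski-local sections
  are effective.
* `zariski_effective`: descent data relative to a Zariski covering family are effective.
* `Ctx`: for a refinement `g i : U i ⟶ V (α i)` of a family `v` by Zariski covers of its members, every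
  descent datum relative to `u` comes from a descent datum relative to `v` (`Ctx.DD`, `Ctx.iso`).
-/

set_option autoImplicit false
set_option backward.isDefEq.respectTransparency false
set_option backward.isDefEq.respectTransparency.types false

universe u

namespace Groth.Agent.Helper8.ZarDesc

open CategoryTheory CategoryTheory.Limits AlgebraicGeometry Desc
open Groth.Agent.Helper8.DDGrpd Groth.Agent.Helper8.DGlue Groth.Agent.Helper8.DescAff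
open Groth.Agent.Helper8.DGlue2 Groth.Agent.Helper8.DescSec Groth.Agent.Helper8.SigDD
open Groth.Agent.Helper8.DescA Groth.Agent.Helper8.DescB Groth.Agent.Helper8.DescD

section LocalSection

variable {X S : Scheme.{u}} {p : X ⟶ S}

/-- descent data relative to a descent cover with Zariski-local sections are effective -/
theorem effective_of_local_section' [IsDescCover p] (D : Desc.SchDD p)
    (h : ∀ y : S, ∃ (W : S.Opens) (s : W.toScheme ⟶ X), y ∈ W ∧ s ≫ p = W.ι) :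
    ∃ U : Over S, Nonempty ((Desc.toDD p).obj U ≅ D) := by
  apply DGlue2.effective_of_locally_effective D
  intro v
  obtain ⟨W, s, hyW, hsW⟩ := h ((D.obj.hom ≫ p) v)
  have hSt : IsSt D ((D.obj.hom ≫ p) ⁻¹ᵁ W) := isSt_preimage D W
  have hl := hl_of_isSt D hSt
  refine ⟨subDD D ((D.obj.hom ≫ p) ⁻¹ᵁ W).ι hl, subι D ((D.obj.hom ≫ p) ⁻¹ᵁ W).ι hl, ?_, ?_, ?_⟩
  · show IsOpenImmersion ((D.obj.hom ≫ p) ⁻¹ᵁ W).ι
    infer_instance
  · show v ∈ Set.range ((D.obj.hom ≫ p) ⁻¹ᵁ W).ι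
    rw [Scheme.Opens.range_ι]
    exact hyW
  · have hX : IsPullback (p ⁻¹ᵁ W).ι (p ∣_ W) p W.ι := (isPullback_morphismRestrict p W).flip
    have hr : Set.range (((D.obj.hom ≫ p) ⁻¹ᵁ W).ι ≫ D.obj.hom) ⊆ Set.range (p ⁻¹ᵁ W).ι := by
      rintro _ ⟨z, rfl⟩
      rw [Scheme.Opens.range_ι]
      have hz : (D.obj.hom ≫ p) (((D.obj.hom ≫ p) ⁻¹ᵁ W).ι z) ∈ W := z.2
      rw [Scheme.Hom.comp_apply] at hz
      rw [Scheme.Hom.comp_apply]
      exact hz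
    obtain ⟨h₁, hh⟩ : ∃ h₁ : (subDD D ((D.obj.hom ≫ p) ⁻¹ᵁ W).ι hl).obj.left ⟶ (p ⁻¹ᵁ W).toScheme,
        h₁ ≫ (p ⁻¹ᵁ W).ι = (subDD D ((D.obj.hom ≫ p) ⁻¹ᵁ W).ι hl).obj.hom :=
      ⟨IsOpenImmersion.lift (p ⁻¹ᵁ W).ι (((D.obj.hom ≫ p) ⁻¹ᵁ W).ι ≫ D.obj.hom) hr,
        IsOpenImmersion.lift_fac _ _ _⟩
    have hrs : Set.range s ⊆ Set.range (p ⁻¹ᵁ W).ι := by
      rintro _ ⟨w, rfl⟩
      rw [Scheme.Opens.range_ι]
      show p (s w) ∈ W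
      rw [← Scheme.Hom.comp_apply, hsW]
      exact w.2
    obtain ⟨s₁, hs₁'⟩ : ∃ s₁ : W.toScheme ⟶ (p ⁻¹ᵁ W).toScheme, s₁ ≫ (p ⁻¹ᵁ W).ι = s :=
      ⟨IsOpenImmersion.lift (p ⁻¹ᵁ W).ι s hrs, IsOpenImmersion.lift_fac _ _ _⟩
    have hs₁ : s₁ ≫ (p ∣_ W) = 𝟙 _ := by
      rw [← cancel_mono W.ι, Category.assoc, ← hX.w, ← Category.assoc, hs₁', hsW,
        Category.id_comp]
    obtain ⟨U₁, ⟨e⟩⟩ := effective_of_section
      (restrBase (subDD D ((D.obj.hom ≫ p) ⁻¹ᵁ W).ι hl) hX.w hh) s₁ hs₁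
    exact ⟨_, effective_of_restrBase (subDD D ((D.obj.hom ≫ p) ⁻¹ᵁ W).ι hl) hh hX U₁ e⟩

end LocalSection

/-- **Zariski descent for schemes** -/
theorem zariski_effective {V : Scheme.{u}} {I : Type u} {U : I → Scheme.{u}} (g : ∀ i, U i ⟶ V)
    (hg : Presieve.ofArrows U g ∈ Scheme.zariskiPrecoverage V) (D : SchDDFam g) :
    D.IsEffective := by
  have hg' := hg
  rw [Scheme.ofArrows_mem_precoverage_iff] at hg'
  haveI : ∀ i, IsOpenImmersion (g i) := hg'.2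
  haveI := Groth.Agent.Helper8.FpqcAff.isFpqcCov_sigmaDesc g
    (Scheme.zariskiPrecoverage_le_fpqcPrecoverage _ hg)
  apply isEffective_of_sigDD
  apply effective_of_local_section' (sigDD D)
  intro y
  obtain ⟨i, x, hx⟩ := hg'.1 y
  refine ⟨(g i).opensRange, (g i).isoOpensRange.inv ≫ Sigma.ι U i, ⟨x, hx⟩, ?_⟩
  rw [Category.assoc, Sigma.ι_desc, Scheme.Hom.isoOpensRange_inv_comp]

section Points

variable {B : Scheme.{u}} {I : Type u} {X : I → Scheme.{u}} (f : ∀ i, X i ⟶ B)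

/-- points of a canonical descent datum -/
noncomputable def canLift (W : Over B) {T : Scheme.{u}} {i : I} (a : T ⟶ X i) :
    Lifts W (a ≫ f i) ≃ Lifts (((toDDFam f).obj W).obj i) a where
  toFun n := ⟨pullback.lift a n.1 n.2.symm, pullback.lift_fst _ _ _⟩
  invFun m := ⟨m.1 ≫ pullback.snd (f i) W.hom, by
    have e : m.1 ≫ pullback.fst (f i) W.hom = a := m.2
    rw [Category.assoc, ← pullback.condition, ← Category.assoc, e]⟩
  left_inv n := Subtype.ext (pullback.lift_snd _ _ _)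
  right_inv m := Subtype.ext (pullback.hom_ext
    (by
      have e : m.1 ≫ pullback.fst (f i) W.hom = a := m.2
      rw [pullback.lift_fst, e])
    (by rw [pullback.lift_snd]))

lemma canLift_val (W : Over B) {T : Scheme.{u}} {i : I} (a : T ⟶ X i) (n : Lifts W (a ≫ f i)) :
    (canLift f W a n).1 = pullback.lift a n.1 n.2.symm := rfl

variable {f}

lemma push_id' {A : SchDDFam f} {T : Scheme.{u}} {i : I} {a : T ⟶ X i} (n : Lifts (A.obj i) a) :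
    SchDDFam.Hom.push (𝟙 A) n = n :=
  Subtype.ext (by simp [SchDDFam.Hom.push])

/-- an isomorphism of descent data acts on points -/
noncomputable def pushEquiv {A A' : SchDDFam f} (e : A ≅ A') {T : Scheme.{u}} {i : I}
    (a : T ⟶ X i) : Lifts (A.obj i) a ≃ Lifts (A'.obj i) a where
  toFun := SchDDFam.Hom.push e.hom
  invFun := SchDDFam.Hom.push e.inv
  left_inv n := by rw [← push_comp, e.hom_inv_id]; exact push_id' n
  right_inv n := by rw [← push_comp, e.inv_hom_id]; exact push_id' n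

lemma pushEquiv_val {A A' : SchDDFam f} (e : A ≅ A') {T : Scheme.{u}} {i : I} (a : T ⟶ X i)
    (n : Lifts (A.obj i) a) : (pushEquiv e a n).1 = n.1 ≫ (e.hom.hom i).left := rfl

/-- change of the base point along an equality -/
def liftsCast {Y : Scheme.{u}} (W : Over Y) {T : Scheme.{u}} {y y' : T ⟶ Y} (h : y = y') :
    Lifts W y ≃ Lifts W y' where
  toFun n := ⟨n.1, n.2.trans h⟩
  invFun n := ⟨n.1, n.2.trans h.symm⟩
  left_inv _ := rfl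
  right_inv _ := rfl

end Points

/-- a refinement of a family by Zariski covers of its members, with a descent datum on the refinement -/
structure Ctx where
  /-- index type of the refinement -/
  ι : Type u
  /-- index type of the family -/
  κ : Type u
  /-- base -/
  S : Scheme.{u}
  /-- the refinement -/
  U : ι → Scheme.{u}
  /-- the family -/
  V : κ → Scheme.{u}
  /-- structure morphisms of the refinement -/
  u : ∀ i, U i ⟶ S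
  /-- structure morphisms of the family -/
  v : ∀ j, V j ⟶ S
  /-- index map -/
  α : ι → κ
  /-- refinement maps -/
  g : ∀ i, U i ⟶ V (α i)
  w : ∀ i, g i ≫ v (α i) = u i
  hcov : ∀ j, Presieve.ofArrows (fun i : {i // α i = j} => U i.1)
      (fun i => g i.1 ≫ eqToHom (congrArg V i.2)) ∈ Scheme.zariskiPrecoverage (V j)
  /-- the descent datum on the refinement -/
  D' : SchDDFam u

namespace Ctx

variable (C : Ctx.{u})

/-- the members of the Zariski cover of `V j` -/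
def gj (j : C.κ) (i : {i // C.α i = j}) : C.U i.1 ⟶ C.V j :=
  C.g i.1 ≫ eqToHom (congrArg C.V i.2)

lemma gj_v (j : C.κ) (i : {i // C.α i = j}) : C.gj j i ≫ C.v j = C.u i.1 := by
  obtain ⟨i, rfl⟩ := i
  simp [gj, C.w]

lemma gj_self (i : C.ι) : C.gj (C.α i) ⟨i, rfl⟩ = C.g i := by
  simp [gj]

lemma mem_zariski (j : C.κ) :
    Presieve.ofArrows (fun i : {i // C.α i = j} => C.U i.1) (C.gj j) ∈
      Scheme.zariskiPrecoverage (C.V j) := C.hcov j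

instance (j : C.κ) (i : {i // C.α i = j}) : IsOpenImmersion (C.gj j i) := by
  have h := C.mem_zariski j
  rw [Scheme.ofArrows_mem_precoverage_iff] at h
  exact h.2 i

lemma exists_gj_eq (j : C.κ) (y : C.V j) :
    ∃ (i : {i // C.α i = j}) (x : C.U i.1), C.gj j i x = y := by
  have h := C.mem_zariski j
  rw [Scheme.ofArrows_mem_precoverage_iff] at h
  obtain ⟨i, x, hx⟩ := h.1 y
  exact ⟨i, x, hx⟩

lemma cond_u {T : Scheme.{u}} {j j' : C.κ} {i : {i // C.α i = j}} {i' : {i // C.α i = j'}}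
    {x₀ : T ⟶ C.U i.1} {x₁ : T ⟶ C.U i'.1}
    (h : (x₀ ≫ C.gj j i) ≫ C.v j = (x₁ ≫ C.gj j' i') ≫ C.v j') : x₀ ≫ C.u i.1 = x₁ ≫ C.u i'.1 := by
  rw [Category.assoc, Category.assoc, C.gj_v, C.gj_v] at h
  exact h

lemma cond_u' {T : Scheme.{u}} {j : C.κ} {i i' : {i // C.α i = j}}
    {x₀ : T ⟶ C.U i.1} {x₁ : T ⟶ C.U i'.1}
    (h : x₀ ≫ C.gj j i = x₁ ≫ C.gj j i') : x₀ ≫ C.u i.1 = x₁ ≫ C.u i'.1 :=
  C.cond_u (by rw [h])

/-- the restriction of the descent datum to the Zariski cover of `V j` -/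
def restrFam (j : C.κ) : SchDDFam (C.gj j) where
  obj i := C.D'.obj i.1
  φ _ _ _ x₀ x₁ h := C.D'.φ x₀ x₁ (C.cond_u' h)
  φ_natural _ _ r _ _ x₀ x₁ h y₀ y₁ hy₀ hy₁ h' n n' hn :=
    C.D'.φ_natural r x₀ x₁ (C.cond_u' h) y₀ y₁ hy₀ hy₁ (C.cond_u' h') n n' hn
  φ_self _ _ x n := C.D'.φ_self x n
  φ_comp _ _ _ _ x₀ x₁ x₂ h₀₁ h₁₂ n :=
    C.D'.φ_comp x₀ x₁ x₂ (C.cond_u' h₀₁) (C.cond_u' h₁₂) n

lemma restrFam_effective (j : C.κ) : (toDDFam (C.gj j)).essImage (C.restrFam j) :=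
  zariski_effective (C.gj j) (C.mem_zariski j) (C.restrFam j)

/-- the glued scheme over `V j` -/
noncomputable def Wj (j : C.κ) : Over (C.V j) := (C.restrFam_effective j).witness

/-- the glued scheme restricts to the given ones -/
noncomputable def isoj (j : C.κ) : (toDDFam (C.gj j)).obj (C.Wj j) ≅ C.restrFam j :=
  (C.restrFam_effective j).getIso

/-- points of the glued scheme over a point of a member of the cover -/
noncomputable def θ (j : C.κ) (i : {i // C.α i = j}) {T : Scheme.{u}} (a : T ⟶ C.U i.1) :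
    Lifts (C.Wj j) (a ≫ C.gj j i) ≃ Lifts (C.D'.obj i.1) a :=
  (canLift (C.gj j) (C.Wj j) a).trans (pushEquiv (C.isoj j) a)

lemma θ_val (j : C.κ) (i : {i // C.α i = j}) {T : Scheme.{u}} (a : T ⟶ C.U i.1)
    (n : Lifts (C.Wj j) (a ≫ C.gj j i)) :
    (C.θ j i a n).1 = pullback.lift a n.1 n.2.symm ≫ ((C.isoj j).hom.hom i).left := rfl

lemma θ_nat (j : C.κ) (i : {i // C.α i = j}) {T T' : Scheme.{u}} (r : T' ⟶ T) (a : T ⟶ C.U i.1)
    (n : Lifts (C.Wj j) (a ≫ C.gj j i)) (n' : Lifts (C.Wj j) ((r ≫ a) ≫ C.gj j i))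
    (hn : n'.1 = r ≫ n.1) : (C.θ j i (r ≫ a) n').1 = r ≫ (C.θ j i a n).1 := by
  rw [θ_val, θ_val, ← Category.assoc]
  refine congrArg (fun m => m ≫ ((C.isoj j).hom.hom i).left) ?_
  apply pullback.hom_ext
  · rw [pullback.lift_fst, Category.assoc, pullback.lift_fst]
  · rw [pullback.lift_snd, hn, Category.assoc, pullback.lift_snd]

lemma θ_φ (j : C.κ) (i i' : {i // C.α i = j}) {T : Scheme.{u}} (a : T ⟶ C.U i.1)
    (a' : T ⟶ C.U i'.1) (hh : a ≫ C.gj j i = a' ≫ C.gj j i') (n : Lifts (C.Wj j) (a ≫ C.gj j i))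
    (n' : Lifts (C.Wj j) (a' ≫ C.gj j i')) (hn : n'.1 = n.1) :
    C.θ j i' a' n' = C.D'.φ a a' (C.cond_u' hh) (C.θ j i a n) := by
  apply Subtype.ext
  have key := (C.isoj j).hom.comm a a' hh (canLift (C.gj j) (C.Wj j) a n)
    (SchDDFam.Hom.push (C.isoj j).hom (canLift (C.gj j) (C.Wj j) a n)) rfl
  refine Eq.trans ?_ key.symm
  rw [θ_val]
  refine congrArg (fun m => m ≫ ((C.isoj j).hom.hom i').left) ?_
  apply pullback.hom_ext
  · rw [pullback.lift_fst]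
    exact ((((toDDFam (C.gj j)).obj (C.Wj j)).φ a a' hh (canLift (C.gj j) (C.Wj j) a n)).2).symm
  · rw [pullback.lift_snd, hn]
    have e : (((toDDFam (C.gj j)).obj (C.Wj j)).φ a a' hh (canLift (C.gj j) (C.Wj j) a n)).1 ≫
        pullback.snd (C.gj j i') (C.Wj j).hom =
        (canLift (C.gj j) (C.Wj j) a n).1 ≫ pullback.snd (C.gj j i) (C.Wj j).hom :=
      pullback.lift_snd _ _ _
    rw [e, canLift_val, pullback.lift_snd]

/-- the basic transport -/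
noncomputable def τ₀ {j j' : C.κ} (i : {i // C.α i = j}) (i' : {i // C.α i = j'}) {T : Scheme.{u}}
    (a₀ : T ⟶ C.U i.1) (a₁ : T ⟶ C.U i'.1) (h : a₀ ≫ C.u i.1 = a₁ ≫ C.u i'.1)
    (n : Lifts (C.Wj j) (a₀ ≫ C.gj j i)) : Lifts (C.Wj j') (a₁ ≫ C.gj j' i') :=
  (C.θ j' i' a₁).symm (C.D'.φ a₀ a₁ h (C.θ j i a₀ n))

lemma θ_τ₀ {j j' : C.κ} (i : {i // C.α i = j}) (i' : {i // C.α i = j'}) {T : Scheme.{u}}
    (a₀ : T ⟶ C.U i.1) (a₁ : T ⟶ C.U i'.1) (h : a₀ ≫ C.u i.1 = a₁ ≫ C.u i'.1)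
    (n : Lifts (C.Wj j) (a₀ ≫ C.gj j i)) :
    C.θ j' i' a₁ (C.τ₀ i i' a₀ a₁ h n) = C.D'.φ a₀ a₁ h (C.θ j i a₀ n) :=
  Equiv.apply_symm_apply _ _

lemma τ₀_indep {j j' : C.κ} (i k : {i // C.α i = j}) (i' k' : {i // C.α i = j'}) {T : Scheme.{u}}
    (a₀ : T ⟶ C.U i.1) (a₁ : T ⟶ C.U i'.1) (b₀ : T ⟶ C.U k.1) (b₁ : T ⟶ C.U k'.1)
    (e₀ : a₀ ≫ C.gj j i = b₀ ≫ C.gj j k) (e₁ : a₁ ≫ C.gj j' i' = b₁ ≫ C.gj j' k')
    (h : a₀ ≫ C.u i.1 = a₁ ≫ C.u i'.1) (hb : b₀ ≫ C.u k.1 = b₁ ≫ C.u k'.1)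
    (n : Lifts (C.Wj j) (a₀ ≫ C.gj j i)) (nb : Lifts (C.Wj j) (b₀ ≫ C.gj j k)) (hn : nb.1 = n.1) :
    (C.τ₀ k k' b₀ b₁ hb nb).1 = (C.τ₀ i i' a₀ a₁ h n).1 := by
  -- the candidate over the second witness
  let n' : Lifts (C.Wj j') (a₁ ≫ C.gj j' i') := C.τ₀ i i' a₀ a₁ h n
  let nb' : Lifts (C.Wj j') (b₁ ≫ C.gj j' k') := ⟨n'.1, n'.2.trans e₁⟩
  have h1 : C.θ j k b₀ nb = C.D'.φ a₀ b₀ (C.cond_u' e₀) (C.θ j i a₀ n) :=
    C.θ_φ j i k a₀ b₀ e₀ n nb hn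
  have h2 : C.θ j' k' b₁ nb' = C.D'.φ a₁ b₁ (C.cond_u' e₁) (C.θ j' i' a₁ n') :=
    C.θ_φ j' i' k' a₁ b₁ e₁ n' nb' rfl
  have h3 : C.θ j' k' b₁ nb' = C.D'.φ b₀ b₁ hb (C.θ j k b₀ nb) := by
    rw [h2, h1, C.θ_τ₀, C.D'.φ_comp, C.D'.φ_comp]
  have h4 : nb' = C.τ₀ k k' b₀ b₁ hb nb := by
    apply (C.θ j' k' b₁).injective
    rw [h3, C.θ_τ₀]
  exact (congrArg Subtype.val h4).symm

lemma τ₀_nat {j j' : C.κ} (i : {i // C.α i = j}) (i' : {i // C.α i = j'}) {T T' : Scheme.{u}}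
    (r : T' ⟶ T) (a₀ : T ⟶ C.U i.1) (a₁ : T ⟶ C.U i'.1) (h : a₀ ≫ C.u i.1 = a₁ ≫ C.u i'.1)
    (h' : (r ≫ a₀) ≫ C.u i.1 = (r ≫ a₁) ≫ C.u i'.1)
    (n : Lifts (C.Wj j) (a₀ ≫ C.gj j i)) (n' : Lifts (C.Wj j) ((r ≫ a₀) ≫ C.gj j i))
    (hn : n'.1 = r ≫ n.1) :
    (C.τ₀ i i' (r ≫ a₀) (r ≫ a₁) h' n').1 = r ≫ (C.τ₀ i i' a₀ a₁ h n).1 := by
  let m : Lifts (C.Wj j') ((r ≫ a₁) ≫ C.gj j' i') :=
    ⟨r ≫ (C.τ₀ i i' a₀ a₁ h n).1, by
      rw [Category.assoc, (C.τ₀ i i' a₀ a₁ h n).2, Category.assoc]⟩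
  have h4 : m = C.τ₀ i i' (r ≫ a₀) (r ≫ a₁) h' n' := by
    apply (C.θ j' i' (r ≫ a₁)).injective
    apply Subtype.ext
    rw [C.θ_τ₀, C.θ_nat j' i' r a₁ (C.τ₀ i i' a₀ a₁ h n) m rfl, C.θ_τ₀]
    exact (C.D'.φ_natural r a₀ a₁ h (r ≫ a₀) (r ≫ a₁) rfl rfl h' (C.θ j i a₀ n)
      (C.θ j i (r ≫ a₀) n') (C.θ_nat j i r a₀ n n' hn)).symm
  exact (congrArg Subtype.val h4).symm

/-- admissible pairs of points: both factor through members of the Zariski covers -/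
structure Wit {T : Scheme.{u}} {j j' : C.κ} (y₀ : T ⟶ C.V j) (y₁ : T ⟶ C.V j') where
  /-- first index -/
  i : {i // C.α i = j}
  /-- second index -/
  i' : {i // C.α i = j'}
  /-- first factorization -/
  a₀ : T ⟶ C.U i.1
  /-- second factorization -/
  a₁ : T ⟶ C.U i'.1
  h₀ : a₀ ≫ C.gj j i = y₀
  h₁ : a₁ ≫ C.gj j' i' = y₁

namespace Wit

variable {C} {T : Scheme.{u}} {j j' : C.κ} {y₀ : T ⟶ C.V j} {y₁ : T ⟶ C.V j'}
  (W : C.Wit y₀ y₁)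

include W in
lemma cond (h : y₀ ≫ C.v j = y₁ ≫ C.v j') : W.a₀ ≫ C.u W.i.1 = W.a₁ ≫ C.u W.i'.1 := by
  apply C.cond_u
  calc (W.a₀ ≫ C.gj j W.i) ≫ C.v j = y₀ ≫ C.v j := by rw [W.h₀]
    _ = y₁ ≫ C.v j' := h
    _ = (W.a₁ ≫ C.gj j' W.i') ≫ C.v j' := by rw [W.h₁]

/-- precomposition -/
def comp {T' : Scheme.{u}} (r : T' ⟶ T) : C.Wit (r ≫ y₀) (r ≫ y₁) where
  i := W.i
  i' := W.i'
  a₀ := r ≫ W.a₀
  a₁ := r ≫ W.a₁
  h₀ := by rw [Category.assoc, W.h₀]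
  h₁ := by rw [Category.assoc, W.h₁]

end Wit

/-- the transport for a witnessed pair -/
noncomputable def τW {T : Scheme.{u}} {j j' : C.κ} {y₀ : T ⟶ C.V j} {y₁ : T ⟶ C.V j'}
    (W : C.Wit y₀ y₁) (h : y₀ ≫ C.v j = y₁ ≫ C.v j') (n : T ⟶ (C.Wj j).left)
    (hn : n ≫ (C.Wj j).hom = y₀) : T ⟶ (C.Wj j').left :=
  (C.τ₀ W.i W.i' W.a₀ W.a₁ (W.cond h) ⟨n, hn.trans W.h₀.symm⟩).1

lemma τW_hom {T : Scheme.{u}} {j j' : C.κ} {y₀ : T ⟶ C.V j} {y₁ : T ⟶ C.V j'}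
    (W : C.Wit y₀ y₁) (h : y₀ ≫ C.v j = y₁ ≫ C.v j') (n : T ⟶ (C.Wj j).left)
    (hn : n ≫ (C.Wj j).hom = y₀) : C.τW W h n hn ≫ (C.Wj j').hom = y₁ :=
  ((C.τ₀ W.i W.i' W.a₀ W.a₁ (W.cond h) ⟨n, hn.trans W.h₀.symm⟩).2).trans W.h₁

lemma τW_indep {T : Scheme.{u}} {j j' : C.κ} {y₀ : T ⟶ C.V j} {y₁ : T ⟶ C.V j'}
    (W W' : C.Wit y₀ y₁) (h : y₀ ≫ C.v j = y₁ ≫ C.v j') (n : T ⟶ (C.Wj j).left)
    (hn : n ≫ (C.Wj j).hom = y₀) : C.τW W h n hn = C.τW W' h n hn :=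
  C.τ₀_indep W'.i W.i W'.i' W.i' W'.a₀ W'.a₁ W.a₀ W.a₁ (W'.h₀.trans W.h₀.symm)
    (W'.h₁.trans W.h₁.symm) _ _ _ _ rfl

/-- the locally defined transports between the glued schemes -/
noncomputable def L : LocDD.LocalTransport C.v C.Wj where
  Adm T j j' y₀ y₁ := Nonempty (C.Wit y₀ y₁)
  adm_comp T T' r j j' y₀ y₁ := fun ⟨W⟩ => ⟨W.comp r⟩
  adm_loc T j j' y₀ y₁ h t := by
    obtain ⟨i, x₀, hx₀⟩ := C.exists_gj_eq j (y₀ t)
    obtain ⟨i', x₁, hx₁⟩ := C.exists_gj_eq j' (y₁ t)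
    let O : T.Opens := y₀ ⁻¹ᵁ (C.gj j i).opensRange ⊓ y₁ ⁻¹ᵁ (C.gj j' i').opensRange
    have hr₀ : Set.range (O.ι ≫ y₀) ⊆ Set.range (C.gj j i) := by
      rintro _ ⟨z, rfl⟩
      rw [Scheme.Hom.comp_apply]
      exact z.2.1
    have hr₁ : Set.range (O.ι ≫ y₁) ⊆ Set.range (C.gj j' i') := by
      rintro _ ⟨z, rfl⟩
      rw [Scheme.Hom.comp_apply]
      exact z.2.2
    exact ⟨O, ⟨⟨x₀, hx₀⟩, ⟨x₁, hx₁⟩⟩,
      ⟨⟨i, i', IsOpenImmersion.lift (C.gj j i) (O.ι ≫ y₀) hr₀,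
        IsOpenImmersion.lift (C.gj j' i') (O.ι ≫ y₁) hr₁,
        IsOpenImmersion.lift_fac _ _ _, IsOpenImmersion.lift_fac _ _ _⟩⟩⟩
  τ T j j' y₀ y₁ h ha n hn := C.τW ha.some h n hn
  τ_hom T j j' y₀ y₁ h ha n hn := C.τW_hom ha.some h n hn
  τ_nat T T' r j j' y₀ y₁ h ha n hn h' ha' hn' := by
    show r ≫ C.τW ha.some h n hn = C.τW ha'.some h' (r ≫ n) hn'
    rw [C.τW_indep ha'.some (ha.some.comp r)]
    exact (C.τ₀_nat ha.some.i ha.some.i' r ha.some.a₀ ha.some.a₁ _ _ _ _ rfl).symm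
  τ_self T j y ha n hn := by
    show C.τW ha.some rfl n hn = n
    rw [C.τW_indep ha.some ⟨ha.some.i, ha.some.i, ha.some.a₀, ha.some.a₀, ha.some.h₀, ha.some.h₀⟩]
    show ((C.θ j ha.some.i ha.some.a₀).symm (C.D'.φ ha.some.a₀ ha.some.a₀ _
      (C.θ j ha.some.i ha.some.a₀ ⟨n, _⟩))).1 = n
    rw [C.D'.φ_self, Equiv.symm_apply_apply]
  τ_comp T j j' j'' y₀ y₁ y₂ h₀₁ h₁₂ ha₀₁ ha₁₂ ha₀₂ n hn := by
    show C.τW ha₁₂.some h₁₂ (C.τW ha₀₁.some h₀₁ n hn) _ = C.τW ha₀₂.some (h₀₁.trans h₁₂) n hn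
    rw [C.τW_indep ha₁₂.some ⟨ha₀₁.some.i', ha₁₂.some.i', ha₀₁.some.a₁, ha₁₂.some.a₁,
        ha₀₁.some.h₁, ha₁₂.some.h₁⟩,
      C.τW_indep ha₀₂.some ⟨ha₀₁.some.i, ha₁₂.some.i', ha₀₁.some.a₀, ha₁₂.some.a₁,
        ha₀₁.some.h₀, ha₁₂.some.h₁⟩]
    show ((C.θ j'' ha₁₂.some.i' ha₁₂.some.a₁).symm (C.D'.φ ha₀₁.some.a₁ ha₁₂.some.a₁ _
      (C.θ j' ha₀₁.some.i' ha₀₁.some.a₁ (C.τ₀ ha₀₁.some.i ha₀₁.some.i' ha₀₁.some.a₀ ha₀₁.some.a₁ _
        ⟨n, _⟩)))).1 = ((C.θ j'' ha₁₂.some.i' ha₁₂.some.a₁).symm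
          (C.D'.φ ha₀₁.some.a₀ ha₁₂.some.a₁ _ (C.θ j ha₀₁.some.i ha₀₁.some.a₀ ⟨n, _⟩))).1
    rw [C.θ_τ₀, C.D'.φ_comp]

/-- the descent datum relative to the family `v` -/
noncomputable def DD : SchDDFam C.v := C.L.toDD

/-- the compatibility of the refinement with the family -/
lemma w' (i : C.ι) : C.g i ≫ C.v (C.α i) = C.u i ≫ 𝟙 C.S :=
  (C.w i).trans (Category.comp_id (C.u i)).symm

/-- points of the pullback of the glued descent datum -/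
noncomputable def θ' (i : C.ι) {T : Scheme.{u}} (x : T ⟶ C.U i) :
    Lifts (C.Wj (C.α i)) (x ≫ C.g i) ≃ Lifts (C.D'.obj i) x :=
  (liftsCast (C.Wj (C.α i)) (by rw [C.gj_self])).trans (C.θ (C.α i) ⟨i, rfl⟩ x)

lemma θ'_val (i : C.ι) {T : Scheme.{u}} (x : T ⟶ C.U i)
    (n : Lifts (C.Wj (C.α i)) (x ≫ C.g i)) :
    C.θ' i x n = C.θ (C.α i) ⟨i, rfl⟩ x ⟨n.1, n.2.trans (by rw [C.gj_self])⟩ := rfl

/-- the comparison of points -/
noncomputable def β (i : C.ι) {T : Scheme.{u}} (x : T ⟶ C.U i) :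
    Lifts (((pullDDFam C.w').obj C.DD).obj i) x ≃ Lifts (C.D'.obj i) x :=
  (liftsPullbackEquiv (C.Wj (C.α i)) (C.g i) x).trans (C.θ' i x)

lemma β_val (i : C.ι) {T : Scheme.{u}} (x : T ⟶ C.U i)
    (n : Lifts (((pullDDFam C.w').obj C.DD).obj i) x) :
    C.β i x n = C.θ' i x (liftsPullbackEquiv (C.Wj (C.α i)) (C.g i) x n) := rfl

lemma pull_φ {T : Scheme.{u}} {i i' : C.ι} (y₀ : T ⟶ C.U i) (y₁ : T ⟶ C.U i')
    (h : y₀ ≫ C.u i = y₁ ≫ C.u i')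
    (h' : (y₀ ≫ C.g i) ≫ C.v (C.α i) = (y₁ ≫ C.g i') ≫ C.v (C.α i'))
    (n : Lifts (((pullDDFam C.w').obj C.DD).obj i) y₀) :
    ((pullDDFam C.w').obj C.DD).φ y₀ y₁ h n =
      (liftsPullbackEquiv (C.Wj (C.α i')) (C.g i') y₁).symm
        (C.DD.φ (y₀ ≫ C.g i) (y₁ ≫ C.g i') h'
          (liftsPullbackEquiv (C.Wj (C.α i)) (C.g i) y₀ n)) := rfl

lemma DD_φ {T : Scheme.{u}} {i i' : C.ι} (y₀ : T ⟶ C.U i) (y₁ : T ⟶ C.U i')
    (h : y₀ ≫ C.u i = y₁ ≫ C.u i')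
    (h' : (y₀ ≫ C.g i) ≫ C.v (C.α i) = (y₁ ≫ C.g i') ≫ C.v (C.α i'))
    (n : Lifts (C.Wj (C.α i)) (y₀ ≫ C.g i)) :
    C.θ' i' y₁ (C.DD.φ (y₀ ≫ C.g i) (y₁ ≫ C.g i') h' n) = C.D'.φ y₀ y₁ h (C.θ' i y₀ n) := by
  have e₀ : y₀ ≫ C.gj (C.α i) ⟨i, rfl⟩ = y₀ ≫ C.g i := by rw [C.gj_self]
  have e₁ : y₁ ≫ C.gj (C.α i') ⟨i', rfl⟩ = y₁ ≫ C.g i' := by rw [C.gj_self]
  let W : C.Wit (y₀ ≫ C.g i) (y₁ ≫ C.g i') := ⟨⟨i, rfl⟩, ⟨i', rfl⟩, y₀, y₁, e₀, e₁⟩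
  have ha : C.L.Adm (y₀ ≫ C.g i) (y₁ ≫ C.g i') := ⟨W⟩
  have e1 : (C.DD.φ (y₀ ≫ C.g i) (y₁ ≫ C.g i') h' n).1 = C.τW W h' n.1 n.2 := by
    refine (C.L.toDD_φ (y₀ ≫ C.g i) (y₁ ≫ C.g i') h' ha n.1 n.2).trans ?_
    show C.τW ha.some h' n.1 n.2 = _
    exact C.τW_indep ha.some W h' n.1 n.2
  rw [θ'_val, θ'_val]
  have e2 : (⟨(C.DD.φ (y₀ ≫ C.g i) (y₁ ≫ C.g i') h' n).1,
      (C.DD.φ (y₀ ≫ C.g i) (y₁ ≫ C.g i') h' n).2.trans (by rw [C.gj_self])⟩ :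
      Lifts (C.Wj (C.α i')) (y₁ ≫ C.gj (C.α i') ⟨i', rfl⟩)) =
      C.τ₀ ⟨i, rfl⟩ ⟨i', rfl⟩ y₀ y₁ h ⟨n.1, n.2.trans e₀.symm⟩ := Subtype.ext e1
  rw [e2, C.θ_τ₀]

/-- the pullback of the glued descent datum is the given one, on points -/
noncomputable def pt : PtIso ((pullDDFam C.w').obj C.DD) C.D' where
  β T i x := C.β i x
  nat T T' r i y y' hy n := by
    subst hy
    apply Subtype.ext
    rw [res_val, β_val, β_val, θ'_val, θ'_val]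
    refine C.θ_nat (C.α i) ⟨i, rfl⟩ r y _ _ ?_
    have e := congrArg Subtype.val (lpe_res (C.Wj (C.α i)) (C.g i) r y (r ≫ y) rfl n
      (Category.assoc _ _ _).symm)
    rw [res_val] at e
    exact e
  compat T i i' y₀ y₁ h n := by
    have h' : (y₀ ≫ C.g i) ≫ C.v (C.α i) = (y₁ ≫ C.g i') ≫ C.v (C.α i') := by
      rw [Category.assoc, Category.assoc, C.w, C.w, h]
    rw [β_val, β_val, C.pull_φ y₀ y₁ h h' n, Equiv.apply_symm_apply]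
    exact (C.DD_φ y₀ y₁ h h' _).symm

/-- the pullback of the glued descent datum is the given one -/
noncomputable def iso : (pullDDFam C.w').obj C.DD ≅ C.D' := C.pt.iso

end Ctx

/-- **refinement by Zariski covers induces an equivalence on descent data** -/
theorem isEquivalence_of_zariski_refinement {ι κ : Type u} {S : Scheme.{u}} {U : ι → Scheme.{u}}
    {V : κ → Scheme.{u}} (u : ∀ i, U i ⟶ S) (v : ∀ j, V j ⟶ S) (α : ι → κ)
    (g : ∀ i, U i ⟶ V (α i)) (w : ∀ i, g i ≫ v (α i) = u i)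
    (hcov : ∀ j, Presieve.ofArrows (fun i : {i // α i = j} => U i.1)
      (fun i => g i.1 ≫ eqToHom (congrArg V i.2)) ∈ Scheme.zariskiPrecoverage (V j)) :
    (pullDDFam (f := v) (f' := u) (α := α) (p := 𝟙 S) (p' := g)
      (fun i => (w i).trans (Category.comp_id (u i)).symm)).IsEquivalence where
  faithful := Groth.Agent.Helper8.DescB.faithful _
    (Groth.Agent.Helper8.DescC.hasLocalLifts_of_refine
      (fun i => (w i).trans (Category.comp_id (u i)).symm)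
      (fun j => Scheme.zariskiPrecoverage_le_fpqcPrecoverage _ (hcov j)))
  full := Groth.Agent.Helper8.DescB.full _
    (Groth.Agent.Helper8.DescC.hasLocalLifts_of_refine
      (fun i => (w i).trans (Category.comp_id (u i)).symm)
      (fun j => Scheme.zariskiPrecoverage_le_fpqcPrecoverage _ (hcov j)))
  essSurj := ⟨fun D' =>
    ⟨(Ctx.mk ι κ S U V u v α g w hcov D').DD, ⟨(Ctx.mk ι κ S U V u v α g w hcov D').iso⟩⟩⟩

end Groth.Agent.Helper8.ZarDesc
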