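import Mathlib
import Groth.Prelude.Def_AlgGrp
import Groth.Agent.Helper8.Blanchard1
import Groth.Agent.Helper3.ConnProd
import Groth.Agent.Helper5.RedDesc
import Groth.Agent.Helper2.ConnIdem

/-!
# A smooth connected group acts trivially on a reduced scheme of dimension zero

Over a field `k`: the action of a smooth connected `k`-group scheme `G` on a reduced `k`-scheme `Z`
locally of finite type and of dimension `≤ 0` is trivial.  `Z` is discrete; over a point `z` the
action gives a second `k`-algebra map `κ(z) ⟶ Γ(G_{κ(z)}, O)`, with the same retraction (the unit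
section) as the structure map; elements of `κ(z)` are algebraic over `k`, and an algebraic element of
a reduced connected ring with a retraction to the field is a constant.
-/

set_option autoImplicit false
set_option linter.style.haveILetI false
set_option linter.unusedSectionVars false
set_option linter.unusedVariables false

universe u

open CategoryTheory CategoryTheory.Limits MonoidalCategory CartesianMonoidalCategory MonObj GrpObj
  AlgebraicGeometry

namespace Groth.Agent.Helper8.ZeroDimAct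

section Algebra

open Polynomial

theorem eq_zero_of_algebraic {R K : Type*} [CommRing R] [_root_.IsReduced R] [Field K]
    (hid : ∀ e : R, IsIdempotentElem e → e = 0 ∨ e = 1) (i : K →+* R) (s : R →+* K)
    (hs : ∀ a, s (i a) = a) (t : R) (ht : s t = 0) (p : K[X]) (hp : p ≠ 0)
    (hpt : p.eval₂ i t = 0) : t = 0 := by
  obtain ⟨q, hq, hnd⟩ := Polynomial.exists_eq_pow_rootMultiplicity_mul_and_not_dvd p hp 0
  rw [C_0, sub_zero] at hq hnd
  have hc : q.coeff 0 ≠ 0 := fun h => hnd (Polynomial.X_dvd_iff.mpr h)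
  have h1 : t ^ (p.rootMultiplicity 0) * q.eval₂ i t = 0 := by
    rw [hq, eval₂_mul, eval₂_pow, eval₂_X] at hpt
    exact hpt
  have h2 : t * q.eval₂ i t = 0 := by
    apply IsReduced.eq_zero
    refine ⟨p.rootMultiplicity 0 + 1, ?_⟩
    have : (t * q.eval₂ i t) ^ (p.rootMultiplicity 0 + 1) =
        (t ^ (p.rootMultiplicity 0) * q.eval₂ i t) * (t * (q.eval₂ i t) ^ (p.rootMultiplicity 0)) := by
      ring
    rw [this, h1, zero_mul]
  have hQ : q.eval₂ i t = (divX q).eval₂ i t * t + i (q.coeff 0) := by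
    have := congrArg (eval₂ i t) (Polynomial.divX_mul_X_add q)
    rw [eval₂_add, eval₂_mul, eval₂_X, eval₂_C] at this
    exact this.symm
  have hcc : i (q.coeff 0)⁻¹ * i (q.coeff 0) = 1 := by
    rw [← map_mul, inv_mul_cancel₀ hc, map_one]
  have hte : t * (i (q.coeff 0)⁻¹ * q.eval₂ i t) = 0 := by
    have : t * (i (q.coeff 0)⁻¹ * q.eval₂ i t) = i (q.coeff 0)⁻¹ * (t * q.eval₂ i t) := by ring
    rw [this, h2, mul_zero]
  have he1 : i (q.coeff 0)⁻¹ * q.eval₂ i t =
      i (q.coeff 0)⁻¹ * (divX q).eval₂ i t * t + 1 := by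
    rw [hQ]
    linear_combination hcc
  have hidem : IsIdempotentElem (i (q.coeff 0)⁻¹ * q.eval₂ i t) := by
    show _ * _ = _
    linear_combination (i (q.coeff 0)⁻¹ * q.eval₂ i t) * he1 +
      (i (q.coeff 0)⁻¹ * (divX q).eval₂ i t) * hte
  have hse : s (i (q.coeff 0)⁻¹ * q.eval₂ i t) = 1 := by
    rw [he1, map_add, map_mul, ht, mul_zero, zero_add, map_one]
  rcases hid _ hidem with h0 | h1'
  · rw [h0, map_zero] at hse
    exact absurd hse zero_ne_one
  · rw [h1', _root_.mul_one] at hte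
    exact hte

theorem eq_of_algebraic {R K : Type*} [CommRing R] [_root_.IsReduced R] [Field K]
    (hid : ∀ e : R, IsIdempotentElem e → e = 0 ∨ e = 1) (i : K →+* R) (s : R →+* K)
    (hs : ∀ a, s (i a) = a) (t : R) (p : K[X]) (hp : p ≠ 0)
    (hpt : p.eval₂ i t = 0) : t = i (s t) := by
  have h := eq_zero_of_algebraic hid i s hs (t - i (s t)) (by rw [map_sub, hs, sub_self])
    (p.comp (X + C (s t))) (comp_X_add_C_ne_zero_iff.mpr hp)
    (by rw [eval₂_comp, eval₂_add, eval₂_X, eval₂_C, sub_add_cancel]; exact hpt)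
  exact sub_eq_zero.mp h

end Algebra

section Geometry

theorem hom_ext_of_flat_family {X Y : Scheme.{u}} {I : Type u} (W : I → Scheme.{u})
    (f : ∀ i, W i ⟶ X) [∀ i, Flat (f i)] (hsurj : ∀ x : X, ∃ i, x ∈ Set.range (f i))
    (a b : X ⟶ Y) (h : ∀ i, f i ≫ a = f i ≫ b) : a = b := by
  haveI : Surjective (Sigma.desc f) := Surjective.sigmaDesc_of_union_range_eq_univ (by
    ext x
    simp only [Set.mem_iUnion, Set.mem_univ, iff_true]
    exact hsurj x)
  haveI : Epi (Sigma.desc f) := Flat.epi_of_flat_of_surjective _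
  rw [← cancel_epi (Sigma.desc f)]
  exact Sigma.hom_ext _ _ (fun i => by rw [Sigma.ι_desc_assoc, Sigma.ι_desc_assoc]; exact h i)

theorem exists_of_isPullback {P X Y S : Scheme.{u}} {fst : P ⟶ X} {snd : P ⟶ Y} {f : X ⟶ S}
    {g : Y ⟶ S} (H : IsPullback fst snd f g) (x : X) (y : Y) (h : f x = g y) :
    ∃ p : P, fst p = x ∧ snd p = y := by
  obtain ⟨q, hq1, hq2⟩ := Scheme.Pullback.exists_preimage_pullback x y h
  refine ⟨H.isoPullback.inv q, ?_, ?_⟩
  · rw [← Scheme.Hom.comp_apply, H.isoPullback_inv_fst]; exact hq1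
  · rw [← Scheme.Hom.comp_apply, H.isoPullback_inv_snd]; exact hq2

variable {k : Type u} [Field k] {G Z : Over (Spec (CommRingCat.of k))} [GrpObj G]

theorem one_act_pt (a : AlgGrp.Action G Z) {T : Over (Spec (CommRingCat.of k))} (x : T ⟶ Z) :
    lift (toUnit T ≫ η[G]) x ≫ a.act = x := by
  have h1 : lift (toUnit T ≫ η[G]) x = lift (toUnit T) x ≫ (η[G] ▷ Z) := by
    rw [lift_whiskerRight]
  rw [h1, Category.assoc, a.one_act, leftUnitor_hom, lift_snd]

set_option maxHeartbeats 800000 in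
/-- the action is the projection over the open point `z` -/
theorem key [Smooth G.hom] [ConnectedSpace ↥G.left] [LocallyOfFiniteType Z.hom]
    [IsReduced Z.left] [DiscreteTopology ↥Z.left] (a : AlgGrp.Action G Z) (z : ↥Z.left)
    (U : Z.left.Opens) (hU : (U : Set ↥Z.left) = {z}) :
    (G ◁ (Over.homMk U.ι rfl : Over.mk (U.ι ≫ Z.hom) ⟶ Z)).left ≫ a.act.left =
      (G ◁ (Over.homMk U.ι rfl : Over.mk (U.ι ≫ Z.hom) ⟶ Z)).left ≫ (snd G Z).left := by
  let T : Over (Spec (CommRingCat.of k)) := Over.mk (U.ι ≫ Z.hom)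
  let i : T ⟶ Z := Over.homMk U.ι rfl
  have hzU : z ∈ U := by
    have : z ∈ (U : Set ↥Z.left) := by rw [hU]; rfl
    exact this
  haveI : Subsingleton ↥(U : Scheme.{u}) := ⟨fun x y => U.ι.isOpenEmbedding.injective (by
    have hx : U.ι x ∈ (U : Set ↥Z.left) := by
      have : U.ι x ∈ Set.range U.ι := ⟨x, rfl⟩
      rwa [Scheme.Opens.range_ι] at this
    have hy : U.ι y ∈ (U : Set ↥Z.left) := by
      have : U.ι y ∈ Set.range U.ι := ⟨y, rfl⟩
      rwa [Scheme.Opens.range_ι] at this
    rw [hU] at hx hy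
    exact hx.trans hy.symm)⟩
  haveI : Nonempty ↥(U : Scheme.{u}) := ⟨⟨z, hzU⟩⟩
  haveI : IsReduced (U : Scheme.{u}) := isReduced_of_isOpenImmersion U.ι
  haveI : IsIntegral (U : Scheme.{u}) := (isIntegral_iff_irreducibleSpace_and_isReduced _).mpr
    ⟨⟨inferInstance⟩, inferInstance⟩
  haveI : ConnectedSpace ↥(U : Scheme.{u}) := inferInstance
  haveI : ConnectedSpace ↥T.left := ‹ConnectedSpace ↥(U : Scheme.{u})›
  haveI : Subsingleton ↥T.left := ‹Subsingleton ↥(U : Scheme.{u})›
  haveI : IsReduced T.left := ‹IsReduced (U : Scheme.{u})›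
  haveI : IsIntegral T.left := ‹IsIntegral (U : Scheme.{u})›
  have hη : η[G].left ≫ G.hom = 𝟙 (Spec (CommRingCat.of k)) := Over.w η[G]
  haveI hWconn : ConnectedSpace ↥(G ⊗ T).left :=
    Groth.Agent.Helper3.ConnProd.main k G.left T.left G.hom T.hom η[G].left hη
  let ψ : G ⊗ T ⟶ Z := (G ◁ i) ≫ a.act
  let sec : T ⟶ G ⊗ T := lift (toUnit T ≫ η[G]) (𝟙 T)
  have hsecψ : sec ≫ ψ = i := by
    show lift (toUnit T ≫ η[G]) (𝟙 T) ≫ (G ◁ i) ≫ a.act = i
    rw [← Category.assoc, lift_whiskerLeft, Category.id_comp, one_act_pt]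
  let pt : ↥T.left := ⟨z, hzU⟩
  have hconst : ∀ w : ↥(G ⊗ T).left, ψ.left w = z := by
    intro w
    have h1 : ψ.left w = ψ.left (sec.left pt) :=
      PreconnectedSpace.constant (inferInstance : PreconnectedSpace ↥(G ⊗ T).left)
        ψ.left.continuous
    rw [h1, ← Scheme.Hom.comp_apply, ← Over.comp_left, hsecψ]
    rfl
  have hrange : Set.range ψ.left ⊆ Set.range U.ι := by
    rintro _ ⟨w, rfl⟩
    rw [hconst w]
    exact ⟨⟨z, hzU⟩, rfl⟩
  let φ : (G ⊗ T).left ⟶ (U : Scheme.{u}) := IsOpenImmersion.lift U.ι ψ.left hrange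
  have hφ : φ ≫ U.ι = ψ.left := IsOpenImmersion.lift_fac _ _ _
  let p : (G ⊗ T).left ⟶ (U : Scheme.{u}) := (snd G T).left
  have hp : p ≫ U.ι = (G ◁ i).left ≫ (snd G Z).left := by
    show (snd G T).left ≫ i.left = _
    rw [← Over.comp_left, ← Over.comp_left, whiskerLeft_snd]
  suffices hφp : φ = p by
    show (G ◁ i).left ≫ a.act.left = (G ◁ i).left ≫ (snd G Z).left
    rw [← hp, ← hφp, hφ]
    rfl
  -- the two retractions
  have hsecp : sec.left ≫ p = 𝟙 _ := by
    show sec.left ≫ (snd G T).left = 𝟙 _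
    rw [← Over.comp_left, lift_snd]
    rfl
  have hsecφ : sec.left ≫ φ = 𝟙 _ := by
    rw [← cancel_mono U.ι, Category.assoc, hφ, ← Over.comp_left, hsecψ, Category.id_comp]
    rfl
  -- structure maps
  have hpT : p ≫ T.hom = (G ⊗ T).hom := Over.w (snd G T)
  have hφT : φ ≫ T.hom = (G ⊗ T).hom := by
    show φ ≫ U.ι ≫ Z.hom = _
    rw [← Category.assoc, hφ]
    exact Over.w ψ
  -- ring level
  haveI : Smooth p := inferInstanceAs (Smooth (pullback.snd G.hom T.hom))
  haveI : IsReduced (G ⊗ T).left := Groth.Agent.Helper5.RedDesc.isReduced_of_smooth p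
  letI : Field Γ((U : Scheme.{u}), ⊤) :=
    (isField_of_isIntegral_of_subsingleton (U : Scheme.{u})).toField
  have hid : ∀ e : Γ((G ⊗ T).left, ⊤), IsIdempotentElem e → e = 0 ∨ e = 1 := fun e he =>
    Groth.Agent.Helper2.ConnIdem.forward (G ⊗ T).left.toLocallyRingedSpace
      (inferInstance : PreconnectedSpace ↥(G ⊗ T).left) e he
  have hs : ∀ x, sec.left.appTop.hom (p.appTop.hom x) = x := by
    intro x
    have : p.appTop ≫ sec.left.appTop = 𝟙 _ := by
      rw [← Scheme.Hom.comp_appTop, hsecp]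
      rfl
    exact congrArg (fun f => f.hom x) this
  have hsφ : ∀ x, sec.left.appTop.hom (φ.appTop.hom x) = x := by
    intro x
    have : φ.appTop ≫ sec.left.appTop = 𝟙 _ := by
      rw [← Scheme.Hom.comp_appTop, hsecφ]
      rfl
    exact congrArg (fun f => f.hom x) this
  haveI : JacobsonSpace ↥(Spec (CommRingCat.of k)) := inferInstance
  haveI : LocallyOfFiniteType T.hom := inferInstanceAs (LocallyOfFiniteType (U.ι ≫ Z.hom))
  haveI hfin : IsFinite T.hom :=
    (isFinite_iff_locallyOfFiniteType_of_jacobsonSpace (f := T.hom)).mpr inferInstance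
  have hint : T.hom.appTop.hom.IsIntegral :=
    ((HasAffineProperty.iff_of_isAffine (P := @IsIntegralHom) (f := T.hom)).mp inferInstance).2
  have hcomp : p.appTop.hom.comp T.hom.appTop.hom = φ.appTop.hom.comp T.hom.appTop.hom := by
    have h1 : T.hom.appTop ≫ p.appTop = T.hom.appTop ≫ φ.appTop := by
      rw [← Scheme.Hom.comp_appTop, ← Scheme.Hom.comp_appTop, hpT, hφT]
    exact congrArg CommRingCat.Hom.hom h1
  apply ext_of_isAffine
  apply CommRingCat.hom_ext
  apply RingHom.ext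
  intro x
  obtain ⟨P₀, hmonic, hP₀⟩ := hint x
  haveI : Nontrivial Γ(T.left, ⊤) := inferInstanceAs (Nontrivial Γ((U : Scheme.{u}), ⊤))
  have hP : P₀.map T.hom.appTop.hom ≠ 0 := (hmonic.map _).ne_zero
  have hev : (P₀.map T.hom.appTop.hom).eval₂ p.appTop.hom (φ.appTop.hom x) = 0 := by
    rw [Polynomial.eval₂_map, hcomp, ← Polynomial.hom_eval₂, hP₀, map_zero]
  have := eq_of_algebraic hid p.appTop.hom sec.left.appTop.hom hs (φ.appTop.hom x) _ hP hev
  rw [hsφ] at this
  exact this

theorem main [Smooth G.hom] [QuasiCompact G.hom] [ConnectedSpace ↥G.left]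
    [LocallyOfFiniteType Z.hom] [QuasiCompact Z.hom] [IsReduced Z.left]
    (hdim : topologicalKrullDim ↥Z.left ≤ 0) (a : AlgGrp.Action G Z) :
    a.act = snd G Z := by
  haveI : IsLocallyNoetherian Z.left := LocallyOfFiniteType.isLocallyNoetherian Z.hom
  haveI : IsLocallyArtinian Z.left := IsLocallyArtinian.of_topologicalKrullDim_le_zero hdim
  haveI : DiscreteTopology ↥Z.left := inferInstance
  apply Over.OverMorphism.ext
  let U : ↥Z.left → Z.left.Opens := fun z => ⟨{z}, isOpen_discrete _⟩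
  let i : ∀ z, Over.mk ((U z).ι ≫ Z.hom) ⟶ Z := fun z => Over.homMk (U z).ι rfl
  haveI hoi : ∀ z, IsOpenImmersion (G ◁ i z).left := fun z =>
    MorphismProperty.of_isPullback (P := @IsOpenImmersion)
      (Groth.Agent.Helper8.Blanchard1.isPullback_whiskerLeft G (i z))
      (inferInstanceAs (IsOpenImmersion (U z).ι))
  haveI : ∀ z, Flat (G ◁ i z).left := fun z => inferInstance
  refine hom_ext_of_flat_family (fun z => (G ⊗ Over.mk ((U z).ι ≫ Z.hom)).left)
    (fun z => (G ◁ i z).left) ?_ _ _ (fun z => key a z (U z) rfl)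
  intro w
  refine ⟨(snd G Z).left w, ?_⟩
  obtain ⟨q, hq1, hq2⟩ := exists_of_isPullback
    (Groth.Agent.Helper8.Blanchard1.isPullback_whiskerLeft G (i ((snd G Z).left w)))
    (⟨(snd G Z).left w, rfl⟩ : ↥(U ((snd G Z).left w) : Scheme.{u})) w rfl
  exact ⟨q, hq2⟩

end Geometry

end Groth.Agent.Helper8.ZeroDimAct
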